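import Cfsg.Agent.Helper17.SP6TC.Fin3

set_option autoImplicit false
set_option linter.all false
set_option maxRecDepth 100000

noncomputable section

namespace Cfsg.Agent.Helper17.SP6TC

theorem Q1571 : ∀ i, i < 1571 → P i := stepQ 1570 Q1570 (allL N1570 (tt N1570 F10337) (tt N1908 (iv F13438)) (tt N2079 (iv F14484)) (tt N1570 F10338) (tt N1172 (iv D2095)) (tt N1997 (iv F13883)) (tt N2090 D2998) (tt N1570 F10339) (tt N1570 F10340) (tt N1191 F10341))
theorem Q1572 : ∀ i, i < 1572 → P i := stepQ 1571 Q1571 (allL N1571 (tt N1571 F10342) (tt N1909 (iv F13443)) (tt N2080 (iv F14489)) (tt N1178 F10343) (tt N2090 (iv F14532)) (tt N2089 (iv F14528)) (tt N1172 (iv D2096)) (tt N2091 D2999) (tt N1571 F10344) (tt N1192 F10345))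
theorem Q1573 : ∀ i, i < 1573 → P i := stepQ 1572 Q1572 (allL N1572 (tt N1572 F10346) (tt N1910 (iv F13447)) (tt N1227 F10347) (tt N2084 (iv F14508)) (tt N1572 F10348) (tt N1572 F10349) (tt N1174 F10350) (tt N1572 F10351) (tt N2092 D3000) (tt N1173 (iv D2097)))
theorem Q1574 : ∀ i, i < 1574 → P i := stepQ 1573 Q1573 (allL N1573 (tt N1573 F10352) (tt N1911 (iv F13453)) (tt N1228 F10353) (tt N2085 (iv F14513)) (tt N1573 F10354) (tt N2093 D3001) (tt N2092 (iv F14543)) (tt N1175 F10355) (tt N1174 (iv D2098)) (tt N1573 F10356))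
theorem Q1575 : ∀ i, i < 1575 → P i := stepQ 1574 Q1574 (allL N1574 (tt N1574 F10357) (tt N1912 (iv F13458)) (tt N1229 F10358) (tt N2086 (iv F14517)) (tt N2094 D3002) (tt N1175 (iv D2099)) (tt N2095 D3003) (tt N2093 (iv F14548)) (tt N1177 F10359) (tt N1574 F10360))
theorem Q1576 : ∀ i, i < 1576 → P i := stepQ 1575 Q1575 (allL N1575 (tt N1575 F10361) (tt N1913 (iv F13462)) (tt N1230 F10362) (tt N2087 (iv F14521)) (tt N2096 D3004) (tt N1176 (iv D2100)) (tt N2097 D3005) (tt N1177 F10363) (tt N2093 (iv F14549)) (tt N1193 F10364))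
theorem Q1577 : ∀ i, i < 1577 → P i := stepQ 1576 Q1576 (allL N1576 (tt N1576 F10365) (tt N1914 (iv F13466)) (tt N1231 F10366) (tt N2098 D3006) (tt N1177 (iv D2101)) (tt N1180 F10367) (tt N2099 D3007) (tt N2096 (iv F14564)) (tt N2094 (iv F14554)) (tt N1194 F10368))
theorem Q1578 : ∀ i, i < 1578 → P i := stepQ 1577 Q1577 (allL N1577 (tt N1577 F10369) (tt N1915 (iv F13470)) (tt N1232 F10370) (tt N2089 (iv F14527)) (tt N2099 (iv F14575)) (tt N1178 F10371) (tt N1177 (iv D2102)) (tt N2100 D3008) (tt N2095 (iv F14559)) (tt N1195 F10372))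
theorem Q1579 : ∀ i, i < 1579 → P i := stepQ 1578 Q1578 (allL N1578 (tt N1578 F10373) (tt N1916 (iv F13474)) (tt N1233 F10374) (tt N2091 (iv F14536)) (tt N1578 F10375) (tt N2100 (iv F14580)) (tt N1578 F10376) (tt N1178 (iv D2103)) (tt N1578 F10377) (tt N1196 F10378))
theorem Q1580 : ∀ i, i < 1580 → P i := stepQ 1579 Q1579 (allL N1579 (tt N1579 F10379) (tt N1917 (iv F13480)) (tt N1226 F131203) (tt N2080 F131204) (tt N1179 (iv D2104)) (tt N2096 (iv F14563)) (tt N1217 F131205) (tt N1180 F10381) (tt N1579 F10382) (tt N1197 F10383))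
theorem Q1581 : ∀ i, i < 1581 → P i := stepQ 1580 Q1580 (allL N1580 (tt N1580 F10384) (tt N1918 (iv F13485)) (tt N1225 F131210) (tt N2010 (iv F13938)) (tt N1217 F131211) (tt N1580 F10386) (tt N1179 (iv D2105)) (tt N1580 F10387) (tt N1580 F10388) (tt N1198 F10389))
theorem Q1582 : ∀ i, i < 1582 → P i := stepQ 1581 Q1581 (allL N1581 (tt N1581 F10390) (tt N1919 (iv F13491)) (tt N2091 F131314) (tt N1180 (iv D2106)) (tt N2011 (iv F13944)) (tt N2098 (iv F14571)) (tt N1581 F10391) (tt N2080 F131315) (tt N1581 F10392) (tt N1199 F10393))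
theorem Q1583 : ∀ i, i < 1583 → P i := stepQ 1582 Q1582 (allL N1582 (tt N1183 F10394) (tt N1582 F10395) (tt N1920 (iv F13496)) (tt N1234 F10396) (tt N2013 (iv F13956)) (tt N1582 F10397) (tt N1582 F10398) (tt N1181 (iv D2107)) (tt N2062 (iv F14410)) (tt N2101 D3012))
theorem Q1584 : ∀ i, i < 1584 → P i := stepQ 1583 Q1583 (allL N1583 (tt N1184 F10399) (tt N1583 F10400) (tt N1921 (iv F13501)) (tt N1235 F10401) (tt N2014 (iv F13961)) (tt N1583 F10402) (tt N1182 F10403) (tt N2101 (iv F14602)) (tt N2102 D3013) (tt N1181 (iv D2108)))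
theorem Q1585 : ∀ i, i < 1585 → P i := stepQ 1584 Q1584 (allL N1584 (tt N1185 F10404) (tt N1584 F10405) (tt N1922 (iv F13506)) (tt N1236 F10406) (tt N2015 (iv F13966)) (tt N2103 D3014) (tt N2102 (iv F14606)) (tt N1584 F10407) (tt N1182 (iv D2109)) (tt N2064 (iv F14419)))
theorem Q1586 : ∀ i, i < 1586 → P i := stepQ 1585 Q1585 (allL N1585 (tt N2101 (iv F14597)) (tt N1186 F10408) (tt N1923 (iv F13510)) (tt N1237 F10409) (tt N2019 (iv F13983)) (tt N1585 F10410) (tt N1585 F10411) (tt N1184 F10412) (tt N2104 D3015) (tt N1183 (iv D2110)))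
theorem Q1587 : ∀ i, i < 1587 → P i := stepQ 1586 Q1586 (allL N1586 (tt N2102 (iv F14603)) (tt N1187 F10413) (tt N1924 (iv F13516)) (tt N1238 F10414) (tt N2020 (iv F13988)) (tt N2105 D3016) (tt N1185 F10415) (tt N2104 (iv F14615)) (tt N1184 (iv D2111)) (tt N2069 (iv F14438)))
theorem Q1588 : ∀ i, i < 1588 → P i := stepQ 1587 Q1587 (allL N1587 (tt N2103 (iv F14607)) (tt N1188 F10416) (tt N1925 (iv F13520)) (tt N1239 F10417) (tt N2106 D3017) (tt N1185 (iv D2112)) (tt N1940 (iv F131003)) (tt N1587 F10418) (tt N1203 F10419) (tt N2070 (iv F14443)))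
theorem Q1589 : ∀ i, i < 1589 → P i := stepQ 1588 Q1588 (allL N1588 (tt N1588 F10420) (tt N2104 (iv F14612)) (tt N1189 F10421) (tt N1240 F10422) (tt N2026 (iv F14024)) (tt N2107 D3019) (tt N1588 F10423) (tt N1187 F10424) (tt N1186 (iv D2113)) (tt N2077 (iv F14478)))
theorem Q1590 : ∀ i, i < 1590 → P i := stepQ 1589 Q1589 (allL N1589 (tt N1589 F10425) (tt N2105 (iv F14616)) (tt N1190 F10426) (tt N1241 F10427) (tt N2108 D3020) (tt N1187 (iv D2114)) (tt N2109 D3021) (tt N2107 (iv F14628)) (tt N1589 F10428) (tt N2078 (iv F14482)))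
theorem Q1591 : ∀ i, i < 1591 → P i := stepQ 1590 Q1590 (allL N1590 (tt N1590 F10429) (tt N2106 (iv F14619)) (tt N1191 F10430) (tt N2050 F131232) (tt N1188 (iv D2115)) (tt N2028 (iv F14032)) (tt N2049 F131233) (tt N1590 F10431) (tt N1204 F10432) (tt N2079 (iv F14487)))
theorem Q1592 : ∀ i, i < 1592 → P i := stepQ 1591 Q1591 (allL N1591 (tt N1591 F10433) (tt N1940 (iv F131001)) (tt N1192 F10434) (tt N1197 (iv F130947)) (tt N2049 (iv F130984)) (tt N2109 (iv F14636)) (tt N1188 (iv D2116)) (tt N1199 (iv F131005)) (tt N1200 F130748) (tt N2080 (iv F14492)))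
theorem Q1593 : ∀ i, i < 1593 → P i := stepQ 1592 Q1592 (allL N1592 (tt N1592 F10437) (tt N1930 (iv F13537)) (tt N2107 (iv F14626)) (tt N1193 F10438) (tt N2110 D3025) (tt N1189 (iv D2117)) (tt N2111 D3026) (tt N1190 F10439) (tt N1592 F10440) (tt N2087 (iv F14523)))
theorem Q1594 : ∀ i, i < 1594 → P i := stepQ 1593 Q1593 (allL N1593 (tt N1593 F10441) (tt N1931 (iv F13541)) (tt N2108 (iv F14631)) (tt N2112 D3027) (tt N1190 (iv D2118)) (tt N2035 (iv F14070)) (tt N2113 D3028) (tt N2110 (iv F14653)) (tt N1593 F10442) (tt N2088 (iv F14525)))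
theorem Q1595 : ∀ i, i < 1595 → P i := stepQ 1594 Q1594 (allL N1594 (tt N1594 F10443) (tt N1932 (iv F13543)) (tt N2109 (iv F14634)) (tt N1195 F10444) (tt N2113 (iv F14663)) (tt N1192 F10445) (tt N1190 (iv D2119)) (tt N2114 D3029) (tt N1594 F10446) (tt N2089 (iv F14529)))
theorem Q1596 : ∀ i, i < 1596 → P i := stepQ 1595 Q1595 (allL N1595 (tt N1595 F10447) (tt N1933 (iv F13547)) (tt N2049 F131287) (tt N1595 F10448) (tt N1192 F10449) (tt N2115 D3030) (tt N1191 (iv D2120)) (tt N2051 F131288) (tt N1205 F10450) (tt N2090 (iv F14534)))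
theorem Q1597 : ∀ i, i < 1597 → P i := stepQ 1596 Q1596 (allL N1596 (tt N1596 F10451) (tt N1934 (iv F13551)) (tt N1199 (iv F131004)) (tt N1196 F10452) (tt N2051 (iv F130986)) (tt N2114 (iv F14667)) (tt N1596 F10453) (tt N1192 (iv D2121)) (tt N1201 F130749) (tt N2091 (iv F14539)))
theorem Q1598 : ∀ i, i < 1598 → P i := stepQ 1597 Q1597 (allL N1597 (tt N1597 F10455) (tt N1935 (iv F13555)) (tt N1244 F131214) (tt N2109 F131215) (tt N1193 (iv D2122)) (tt N1197 F10457) (tt N1241 F131216) (tt N1194 F10458) (tt N1597 F10459) (tt N2096 (iv F14565)))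
theorem Q1599 : ∀ i, i < 1599 → P i := stepQ 1598 Q1598 (allL N1598 (tt N1598 F10460) (tt N1936 (iv F13560)) (tt N1243 F131221) (tt N2111 (iv F14656)) (tt N1241 F131222) (tt N1598 F10462) (tt N1193 (iv D2123)) (tt N2116 D3034) (tt N1598 F10463) (tt N2097 (iv F14569)))
theorem Q1600 : ∀ i, i < 1600 → P i := stepQ 1599 Q1599 (allL N1599 (tt N1599 F10464) (tt N1937 (iv F13564)) (tt N2114 F131320) (tt N1194 (iv D2124)) (tt N2112 (iv F14660)) (tt N1199 F10465) (tt N2117 D3036) (tt N2109 F131321) (tt N1599 F10466) (tt N2098 (iv F14572)))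
theorem Q1601 : ∀ i, i < 1601 → P i := stepQ 1600 Q1600 (allL N1600 (tt N1600 F10467) (tt N1938 (iv F13567)) (tt N1246 F10468) (tt N2117 (iv F14694)) (tt N1195 F10469) (tt N1600 F10470) (tt N1194 (iv D2125)) (tt N2118 D3037) (tt N1600 F10471) (tt N2099 (iv F14577)))
theorem Q1602 : ∀ i, i < 1602 → P i := stepQ 1601 Q1601 (allL N1601 (tt N1601 F10472) (tt N1939 (iv F13572)) (tt N1245 F131226) (tt N2114 (iv F14666)) (tt N2118 (iv F14699)) (tt N1196 F10474) (tt N2116 (iv F14687)) (tt N1195 (iv D2126)) (tt N1601 F10475) (tt N2100 (iv F14581)))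
theorem Q1603 : ∀ i, i < 1603 → P i := stepQ 1602 Q1602 (allL N1602 (tt N1203 F10534) (tt N1602 F10535) (tt N1944 (iv F13634)) (tt N1247 F10536) (tt N2119 D3053) (tt N1202 (iv D2139)) (tt N1773 (iv F131016)) (tt N1602 F10537) (tt N2103 (iv F14611)) (tt N1602 F10538))
theorem Q1604 : ∀ i, i < 1604 → P i := stepQ 1603 Q1603 (allL N1603 (tt N2119 (iv F14773)) (tt N1204 F10539) (tt N1945 (iv F13639)) (tt N1887 (iv F131015)) (tt N1203 (iv D2140)) (tt N1603 F10540) (tt N1886 (iv F131006)) (tt N1603 F10541) (tt N2106 (iv F14621)) (tt N1603 F10542))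
theorem Q1605 : ∀ i, i < 1605 → P i := stepQ 1604 Q1604 (allL N1604 (tt N1604 F10563) (tt N1948 (iv F13661)) (tt N2058 (iv F131009)) (tt N1604 F10564) (tt N1604 F10565) (tt N1205 (iv D2145)) (tt N1604 F10566) (tt N2059 (iv F130985)) (tt N2120 D3062) (tt N1604 F10567))
theorem Q1606 : ∀ i, i < 1606 → P i := stepQ 1605 Q1605 (allL N1605 (tt N1208 F10573) (tt N1605 F10574) (tt N1605 F10575) (tt N2061 (iv F14403)) (tt N1784 F20325) (tt N1206 (iv D2147)) (tt N1605 F10576) (tt N1782 F20326) (tt N1605 F10577) (tt N2121 D3065))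
theorem Q1607 : ∀ i, i < 1607 → P i := stepQ 1606 Q1606 (allL N1606 (tt N1209 F10578) (tt N1606 F10579) (tt N1606 F10580) (tt N2062 (iv F14408)) (tt N1606 F10581) (tt N1782 F20324) (tt N1606 F10582) (tt N1206 (iv D2148)) (tt N1234 F10583) (tt N2122 D3066))
theorem Q1608 : ∀ i, i < 1608 → P i := stepQ 1607 Q1607 (allL N1607 (tt N1210 F10584) (tt N1607 F10585) (tt N1607 F10586) (tt N2063 (iv F14413)) (tt N1607 F10587) (tt N2121 (iv F14834)) (tt N1207 F10588) (tt N2122 (iv F14841)) (tt N2123 D3067) (tt N1206 (iv D2149)))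
theorem Q1609 : ∀ i, i < 1609 → P i := stepQ 1608 Q1608 (allL N1608 (tt N1211 F10589) (tt N1608 F10590) (tt N1608 F10591) (tt N2064 (iv F14417)) (tt N1608 F10592) (tt N2124 D3068) (tt N2123 (iv F14846)) (tt N1608 F10593) (tt N1207 (iv D2150)) (tt N1236 F10594))
theorem Q1610 : ∀ i, i < 1610 → P i := stepQ 1609 Q1609 (allL N1609 (tt N1784 (iv F20314)) (tt N1212 F10595) (tt N1609 F10596) (tt N1664 F20287) (tt N1208 (iv D2151)) (tt N1609 F10597) (tt N1609 F10598) (tt N1659 F20288) (tt N1609 F10599) (tt N2125 D3071))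
theorem Q1611 : ∀ i, i < 1611 → P i := stepQ 1610 Q1610 (allL N1610 (tt N1782 (iv F20313)) (tt N1213 F10600) (tt N1610 F10601) (tt N2066 (iv F14424)) (tt N1659 F20285) (tt N1209 F10602) (tt N1658 F20286) (tt N1208 (iv D2152)) (tt N1610 F10603) (tt N2126 D3073))
theorem Q1612 : ∀ i, i < 1612 → P i := stepQ 1611 Q1611 (allL N1611 (tt N2121 (iv F14831)) (tt N1214 F10604) (tt N1611 F10605) (tt N2067 (iv F14428)) (tt N2125 (iv F14865)) (tt N1210 F10606) (tt N1611 F10607) (tt N2126 (iv F14876)) (tt N2127 D3074) (tt N1208 (iv D2153)))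
theorem Q1613 : ∀ i, i < 1613 → P i := stepQ 1612 Q1612 (allL N1612 (tt N2122 (iv F14836)) (tt N1215 F10608) (tt N1612 F10609) (tt N2068 (iv F14432)) (tt N1612 F10610) (tt N2126 (iv F14875)) (tt N1612 F10611) (tt N1210 F10612) (tt N2128 D3075) (tt N1209 (iv D2154)))
theorem Q1614 : ∀ i, i < 1614 → P i := stepQ 1613 Q1613 (allL N1613 (tt N2123 (iv F14842)) (tt N1216 F10613) (tt N1613 F10614) (tt N2069 (iv F14436)) (tt N1613 F10615) (tt N2129 D3076) (tt N1211 F10616) (tt N2128 (iv F14885)) (tt N1210 (iv D2155)) (tt N1238 F10617))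
theorem Q1615 : ∀ i, i < 1615 → P i := stepQ 1614 Q1614 (allL N1614 (tt N2124 (iv F14848)) (tt N1217 F10618) (tt N1614 F10619) (tt N2070 (iv F14440)) (tt N1918 (iv F131635)) (tt N1211 (iv D2156)) (tt N1917 (iv F131634)) (tt N1614 F10620) (tt N1614 F10621) (tt N1239 F10622))
theorem Q1616 : ∀ i, i < 1616 → P i := stepQ 1615 Q1615 (allL N1615 (tt N1615 F10623) (tt N1664 (iv F20255)) (tt N1615 F10624) (tt N1212 (iv D2157)) (tt N2071 (iv F14446)) (tt N1615 F10625) (tt N1615 F10626) (tt N1650 F20156) (tt N1615 F10627) (tt N2130 D3080))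
theorem Q1617 : ∀ i, i < 1617 → P i := stepQ 1616 Q1616 (allL N1616 (tt N1616 F10628) (tt N1659 (iv F20254)) (tt N1218 F10629) (tt N1650 F20148) (tt N1213 F10630) (tt N1616 F10631) (tt N1647 F20149) (tt N1212 (iv D2158)) (tt N1616 F10632) (tt N2131 D3082))
theorem Q1618 : ∀ i, i < 1618 → P i := stepQ 1617 Q1617 (allL N1617 (tt N1617 F10633) (tt N2125 (iv F14863)) (tt N1219 F10634) (tt N2130 (iv F14907)) (tt N1214 F10635) (tt N1617 F10636) (tt N1617 F10637) (tt N2131 (iv F14919)) (tt N2132 D3083) (tt N1212 (iv D2159)))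
theorem Q1619 : ∀ i, i < 1619 → P i := stepQ 1618 Q1618 (allL N1618 (tt N1618 F10638) (tt N1658 (iv F20253)) (tt N1220 F10639) (tt N2074 (iv F14459)) (tt N1647 F20147) (tt N1618 F10640) (tt N1213 (iv D2160)) (tt N1618 F10641) (tt N1618 F10642) (tt N2133 D3084))
theorem Q1620 : ∀ i, i < 1620 → P i := stepQ 1619 Q1619 (allL N1619 (tt N1619 F10643) (tt N2126 (iv F14873)) (tt N1221 F10644) (tt N2075 (iv F14465)) (tt N2131 (iv F14917)) (tt N1215 F10645) (tt N2133 (iv F14928)) (tt N1214 F10646) (tt N2134 D3085) (tt N1213 (iv D2161)))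
theorem Q1621 : ∀ i, i < 1621 → P i := stepQ 1620 Q1620 (allL N1620 (tt N1620 F10647) (tt N2127 (iv F14877)) (tt N1222 F10648) (tt N2076 (iv F14470)) (tt N2132 (iv F14922)) (tt N2135 D3086) (tt N1620 F10649) (tt N2134 (iv F14932)) (tt N1214 (iv D2162)) (tt N1620 F10650))
theorem Q1622 : ∀ i, i < 1622 → P i := stepQ 1621 Q1621 (allL N1621 (tt N1621 F10651) (tt N2128 (iv F14881)) (tt N1223 F10652) (tt N2077 (iv F14475)) (tt N1621 F10653) (tt N2136 D3087) (tt N1621 F10654) (tt N1216 F10655) (tt N1215 (iv D2163)) (tt N1240 F10656))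
theorem Q1623 : ∀ i, i < 1623 → P i := stepQ 1622 Q1622 (allL N1622 (tt N1622 F10657) (tt N2129 (iv F14887)) (tt N1224 F10658) (tt N2078 (iv F14481)) (tt N2097 (iv F131630)) (tt N1216 (iv D2164)) (tt N2096 (iv F131624)) (tt N2136 (iv F14940)) (tt N2135 (iv F14936)) (tt N1241 F10659))
theorem Q1624 : ∀ i, i < 1624 → P i := stepQ 1623 Q1623 (allL N1623 (tt N1623 F10670) (tt N1623 F10671) (tt N1647 F20145) (tt N1623 F10672) (tt N1220 F10673) (tt N1646 F20146) (tt N1218 (iv D2167)) (tt N1623 F10674) (tt N1623 F10675) (tt N2137 D3094))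
theorem Q1625 : ∀ i, i < 1625 → P i := stepQ 1624 Q1624 (allL N1624 (tt N1624 F10676) (tt N1624 F10677) (tt N2131 (iv F14916)) (tt N1624 F10678) (tt N1221 F10679) (tt N1624 F10680) (tt N2137 (iv F14976)) (tt N1219 F10681) (tt N2138 D3095) (tt N1218 (iv D2168)))
theorem Q1626 : ∀ i, i < 1626 → P i := stepQ 1625 Q1625 (allL N1625 (tt N1625 F10682) (tt N1625 F10683) (tt N2132 (iv F14921)) (tt N1625 F10684) (tt N1222 F10685) (tt N2139 D3096) (tt N1625 F10686) (tt N2138 (iv F14982)) (tt N1219 (iv D2169)) (tt N1625 F10687))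
theorem Q1627 : ∀ i, i < 1627 → P i := stepQ 1626 Q1626 (allL N1626 (tt N1626 F10688) (tt N1626 F10689) (tt N2133 (iv F14926)) (tt N1227 F10690) (tt N2137 (iv F14975)) (tt N1626 F10691) (tt N1221 F10692) (tt N1626 F10693) (tt N2140 D3097) (tt N1220 (iv D2170)))
theorem Q1628 : ∀ i, i < 1628 → P i := stepQ 1627 Q1627 (allL N1627 (tt N1627 F10694) (tt N1627 F10695) (tt N2134 (iv F14931)) (tt N1228 F10696) (tt N2138 (iv F14981)) (tt N2141 D3098) (tt N2140 (iv F14992)) (tt N1222 F10697) (tt N1221 (iv D2171)) (tt N1627 F10698))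
theorem Q1629 : ∀ i, i < 1629 → P i := stepQ 1628 Q1628 (allL N1628 (tt N1628 F10699) (tt N1628 F10700) (tt N2135 (iv F14935)) (tt N1229 F10701) (tt N2142 D3099) (tt N1222 (iv D2172)) (tt N2143 D3100) (tt N2141 (iv F14998)) (tt N1224 F10702) (tt N1628 F10703))
theorem Q1630 : ∀ i, i < 1630 → P i := stepQ 1629 Q1629 (allL N1629 (tt N1629 F10704) (tt N1629 F10705) (tt N2136 (iv F14939)) (tt N1230 F10706) (tt N2144 D3101) (tt N1223 (iv D2173)) (tt N2145 D3102) (tt N1224 F10707) (tt N2141 (iv F14999)) (tt N1242 F10708))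
theorem Q1631 : ∀ i, i < 1631 → P i := stepQ 1630 Q1630 (allL N1630 (tt N1630 F10709) (tt N1630 F10710) (tt N2097 (iv F131629)) (tt N2145 (iv F131631)) (tt N1224 (iv D2174)) (tt N1630 F10711) (tt N1230 (iv F131627)) (tt N2144 (iv F15014)) (tt N2142 (iv F15003)) (tt N1243 F10712))
theorem Q1632 : ∀ i, i < 1632 → P i := stepQ 1631 Q1631 (allL N1631 (tt N1631 F10713) (tt N1631 F10714) (tt N2096 (iv F131622)) (tt N1232 F10715) (tt N1230 (iv F131626)) (tt N1226 F10716) (tt N1224 (iv D2175)) (tt N1231 (iv F131628)) (tt N2143 (iv F15009)) (tt N1244 F10717))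
theorem Q1633 : ∀ i, i < 1633 → P i := stepQ 1632 Q1632 (allL N1632 (tt N1632 F10730) (tt N1632 F10731) (tt N2092 (iv F14541)) (tt N2140 (iv F14991)) (tt N1632 F10732) (tt N2146 D3108) (tt N1228 F10733) (tt N1632 F10734) (tt N1227 (iv D2178)) (tt N1632 F10735))
theorem Q1634 : ∀ i, i < 1634 → P i := stepQ 1633 Q1633 (allL N1633 (tt N1633 F10736) (tt N1633 F10737) (tt N2093 (iv F14547)) (tt N2141 (iv F14997)) (tt N2143 F131999) (tt N1228 (iv D2179)) (tt N2142 F132000) (tt N1229 F10738) (tt N1230 F10739) (tt N1633 F10740))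
theorem Q1635 : ∀ i, i < 1635 → P i := stepQ 1634 Q1634 (allL N1634 (tt N1634 F10741) (tt N1634 F10742) (tt N2094 (iv F14552)) (tt N2147 D3111) (tt N1229 (iv D2180)) (tt N1634 F10743) (tt N2148 D3112) (tt N2143 F132002) (tt N1231 F10744) (tt N1634 F10745))
theorem Q1636 : ∀ i, i < 1636 → P i := stepQ 1635 Q1635 (allL N1635 (tt N1635 F10746) (tt N1635 F10747) (tt N2095 (iv F14557)) (tt N2143 (iv F15007)) (tt N2148 (iv F15069)) (tt N1635 F10748) (tt N1229 (iv D2181)) (tt N2147 F132001) (tt N1232 F10749) (tt N1635 F10750))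
theorem Q1637 : ∀ i, i < 1637 → P i := stepQ 1636 Q1636 (allL N1636 (tt N1636 F10760) (tt N1636 F10761) (tt N2100 (iv F131633)) (tt N1231 (iv D2184)) (tt N2145 (iv F131632)) (tt N1233 F131202) (tt N2144 (iv F131618)) (tt N1232 (iv F131625)) (tt N2147 (iv F15065)) (tt N1245 F10763))
theorem Q1638 : ∀ i, i < 1638 → P i := stepQ 1637 Q1637 (allL N1637 (tt N1637 F10764) (tt N1637 F10765) (tt N2099 (iv F14574)) (tt N2144 (iv F131617)) (tt N1232 F10766) (tt N1637 F10767) (tt N1231 (iv D2185)) (tt N2145 (iv F131620)) (tt N2148 (iv F15070)) (tt N1246 F10768))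
theorem Q1639 : ∀ i, i < 1639 → P i := stepQ 1638 Q1638 (allL N1638 (tt N1237 F10790) (tt N1638 F10791) (tt N1638 F10792) (tt N2101 (iv F14599)) (tt N1638 F10793) (tt N1638 F10794) (tt N1638 F10795) (tt N1235 F10796) (tt N2149 D3124) (tt N1234 (iv D2190)))
theorem Q1640 : ∀ i, i < 1640 → P i := stepQ 1639 Q1639 (allL N1639 (tt N1238 F10797) (tt N1639 F10798) (tt N1639 F10799) (tt N2102 (iv F14605)) (tt N1639 F10800) (tt N2150 D3125) (tt N1236 F10801) (tt N2149 (iv F15131)) (tt N1235 (iv D2191)) (tt N2123 (iv F14847)))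
theorem Q1641 : ∀ i, i < 1641 → P i := stepQ 1640 Q1640 (allL N1640 (tt N1239 F10802) (tt N1640 F10803) (tt N1640 F10804) (tt N2103 (iv F14609)) (tt N1771 (iv F131642)) (tt N1236 (iv D2192)) (tt N1770 (iv F131641)) (tt N1640 F10805) (tt N1247 F10806) (tt N2124 (iv F14853)))
theorem Q1642 : ∀ i, i < 1642 → P i := stepQ 1641 Q1641 (allL N1641 (tt N2149 (iv F15126)) (tt N1240 F10807) (tt N1641 F10808) (tt N2104 (iv F14613)) (tt N1641 F10809) (tt N2151 D3128) (tt N1641 F10810) (tt N1238 F10811) (tt N1237 (iv D2193)) (tt N2128 (iv F14886)))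
theorem Q1643 : ∀ i, i < 1643 → P i := stepQ 1642 Q1642 (allL N1642 (tt N2150 (iv F15132)) (tt N1241 F10812) (tt N1642 F10813) (tt N2105 (iv F14617)) (tt N1936 (iv F131636)) (tt N1238 (iv D2194)) (tt N1935 (iv F131637)) (tt N2151 (iv F15148)) (tt N1642 F10814) (tt N2129 (iv F14889)))
theorem Q1644 : ∀ i, i < 1644 → P i := stepQ 1643 Q1643 (allL N1643 (tt N1643 F10823) (tt N2151 (iv F15146)) (tt N1242 F10824) (tt N2107 (iv F14627)) (tt N2116 (iv F131325)) (tt N1240 (iv D2197)) (tt N2118 (iv F131328)) (tt N1241 F10825) (tt N1643 F10826) (tt N2136 (iv F14941)))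
theorem Q1645 : ∀ i, i < 1645 → P i := stepQ 1644 Q1644 (allL N1644 (tt N1644 F10848) (tt N1644 F10849) (tt N2116 (iv F131324)) (tt N1246 (iv F131225)) (tt N1242 (iv D2203)) (tt N1644 F10850) (tt N1245 F131212) (tt N1243 F10851) (tt N1644 F10852) (tt N2144 (iv F15015)))
theorem Q1646 : ∀ i, i < 1646 → P i := stepQ 1645 Q1645 (allL N1645 (tt N1645 F10853) (tt N1645 F10854) (tt N2118 (iv F131326)) (tt N1243 F131223) (tt N1245 F131224) (tt N1645 F10856) (tt N1242 (iv D2204)) (tt N1246 F131213) (tt N1645 F10857) (tt N2145 (iv F15020)))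
theorem Q1647 : ∀ i, i < 1647 → P i := stepQ 1646 Q1646 (allL N1646 (tt N1646 F11118) (tt N1646 F11119) (tt N1249 F11120) (tt N1646 F11121) (tt N1646 F11122) (tt N1623 (iv F20146)) (tt N1646 F11123) (tt N1646 F11124) (tt N1248 (iv D2255)) (tt N2152 D3207))
theorem Q1648 : ∀ i, i < 1648 → P i := stepQ 1647 Q1647 (allL N1647 (tt N1647 F11125) (tt N1257 F11126) (tt N1623 (iv F20145)) (tt N1250 F11127) (tt N1618 (iv F20147)) (tt N1249 (iv D2256)) (tt N1616 (iv F20149)) (tt N1647 F11128) (tt N1647 F11129) (tt N2153 D3210))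
theorem Q1649 : ∀ i, i < 1649 → P i := stepQ 1648 Q1648 (allL N1648 (tt N1648 F11130) (tt N1258 F11131) (tt N2152 (iv F15533)) (tt N1251 F11132) (tt N1648 F11133) (tt N2153 (iv F15552)) (tt N1648 F11134) (tt N1648 F11135) (tt N1648 F11136) (tt N1249 (iv D2257)))
theorem Q1650 : ∀ i, i < 1650 → P i := stepQ 1649 Q1649 (allL N1649 (tt N1649 F11137) (tt N1259 F11138) (tt N1649 F11139) (tt N2154 D3211) (tt N1250 (iv D2258)) (tt N1252 F11140) (tt N2155 D3212) (tt N1649 F11141) (tt N1649 F11142) (tt N2156 D3213))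
theorem Q1651 : ∀ i, i < 1651 → P i := stepQ 1650 Q1650 (allL N1650 (tt N1650 F11143) (tt N1260 F11144) (tt N1650 F11145) (tt N1616 (iv F20148)) (tt N2155 (iv F15562)) (tt N1650 F11146) (tt N1250 (iv D2259)) (tt N1615 (iv F20156)) (tt N1650 F11147) (tt N2157 D3215))
theorem Q1652 : ∀ i, i < 1652 → P i := stepQ 1651 Q1651 (allL N1651 (tt N1651 F11148) (tt N1261 F11149) (tt N1651 F11150) (tt N2153 (iv F15551)) (tt N2156 (iv F15567)) (tt N1251 F11151) (tt N2157 (iv F15580)) (tt N1651 F11152) (tt N2158 D3216) (tt N1250 (iv D2260)))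
theorem Q1653 : ∀ i, i < 1653 → P i := stepQ 1652 Q1652 (allL N1652 (tt N1652 F11153) (tt N1262 F11154) (tt N2159 D3217) (tt N1252 (iv D2261)) (tt N1652 F11155) (tt N2154 (iv F15556)) (tt N1521 (iv F20160)) (tt N1652 F11156) (tt N1254 F11157) (tt N2160 D3219))
theorem Q1654 : ∀ i, i < 1654 → P i := stepQ 1653 Q1653 (allL N1653 (tt N1653 F11163) (tt N1264 F11164) (tt N1653 F11165) (tt N2160 (iv F15599)) (tt N1253 F11166) (tt N2156 (iv F15568)) (tt N1529 (iv F20164)) (tt N1653 F11167) (tt N2161 D3223) (tt N1252 (iv D2263)))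
theorem Q1655 : ∀ i, i < 1655 → P i := stepQ 1654 Q1654 (allL N1654 (tt N1654 F11181) (tt N1266 F11182) (tt N1654 F11183) (tt N1654 F11184) (tt N2161 (iv F15620)) (tt N1654 F11185) (tt N1540 (iv F20167)) (tt N1654 F11186) (tt N1253 (iv D2266)) (tt N1256 F11187))
theorem Q1656 : ∀ i, i < 1656 → P i := stepQ 1655 Q1655 (allL N1655 (tt N1655 F11188) (tt N2162 D3226) (tt N1254 (iv D2267)) (tt N1655 F11189) (tt N1655 F11190) (tt N1655 F11191) (tt N1515 (iv F20172)) (tt N1655 F11192) (tt N2159 (iv F15591)) (tt N2163 D3228))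
theorem Q1657 : ∀ i, i < 1657 → P i := stepQ 1656 Q1656 (allL N1656 (tt N1656 F11197) (tt N1269 F11198) (tt N2163 (iv F15646)) (tt N1255 F11199) (tt N1656 F11200) (tt N1656 F11201) (tt N1522 (iv F20175)) (tt N1656 F11202) (tt N2164 D3232) (tt N1254 (iv D2269)))
theorem Q1658 : ∀ i, i < 1658 → P i := stepQ 1657 Q1657 (allL N1657 (tt N1657 F11218) (tt N1271 F11219) (tt N1657 F11220) (tt N2164 (iv F15667)) (tt N1256 F11221) (tt N2165 D3238) (tt N1530 (iv F20178)) (tt N1657 F11222) (tt N1255 (iv D2273)) (tt N2161 (iv F15622)))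
theorem Q1659 : ∀ i, i < 1659 → P i := stepQ 1658 Q1658 (allL N1658 (tt N1347 F11430) (tt N1618 F20253) (tt N1658 F11431) (tt N2166 D3294) (tt N1257 (iv D2311)) (tt N1658 F11432) (tt N1610 (iv F20286)) (tt N1658 F11433) (tt N1658 F11434) (tt N2167 D3296))
theorem Q1660 : ∀ i, i < 1660 → P i := stepQ 1659 Q1659 (allL N1659 (tt N1348 F11435) (tt N1616 F20254) (tt N1659 F11436) (tt N1260 F11437) (tt N1610 (iv F20285)) (tt N1659 F11438) (tt N1257 (iv D2312)) (tt N1609 (iv F20288)) (tt N1659 F11439) (tt N2168 D3298))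
theorem Q1661 : ∀ i, i < 1661 → P i := stepQ 1660 Q1660 (allL N1660 (tt N1349 F11440) (tt N2153 (iv F15550)) (tt N1660 F11441) (tt N1261 F11442) (tt N2167 (iv F16013)) (tt N1258 F11443) (tt N2168 (iv F16026)) (tt N1660 F11444) (tt N2169 D3299) (tt N1257 (iv D2313)))
theorem Q1662 : ∀ i, i < 1662 → P i := stepQ 1661 Q1661 (allL N1661 (tt N1350 F11445) (tt N2154 (iv F15555)) (tt N2170 D3300) (tt N1259 (iv D2314)) (tt N2166 (iv F16003)) (tt N1262 F11446) (tt N2171 D3301) (tt N1661 F11447) (tt N1661 F11448) (tt N2172 D3302))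
theorem Q1663 : ∀ i, i < 1663 → P i := stepQ 1662 Q1662 (allL N1662 (tt N1351 F11449) (tt N2155 (iv F15560)) (tt N1275 F11450) (tt N2171 (iv F16039)) (tt N1260 F11451) (tt N2173 D3303) (tt N1259 (iv D2315)) (tt N2174 D3304) (tt N1662 F11452) (tt N2175 D3305))
theorem Q1664 : ∀ i, i < 1664 → P i := stepQ 1663 Q1663 (allL N1663 (tt N1352 F11453) (tt N2156 (iv F15565)) (tt N1276 F11454) (tt N2172 (iv F16042)) (tt N1261 F11455) (tt N1264 F11456) (tt N2175 (iv F16057)) (tt N1663 F11457) (tt N2176 D3306) (tt N1259 (iv D2316)))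
theorem Q1665 : ∀ i, i < 1665 → P i := stepQ 1664 Q1664 (allL N1664 (tt N1353 F11458) (tt N1615 F20255) (tt N1277 F11459) (tt N1609 (iv F20287)) (tt N2174 (iv F16051)) (tt N1664 F11460) (tt N1664 F11461) (tt N1260 (iv D2317)) (tt N1664 F11462) (tt N2177 D3307))
theorem Q1666 : ∀ i, i < 1666 → P i := stepQ 1665 Q1665 (allL N1665 (tt N1354 F11463) (tt N2157 (iv F15577)) (tt N1278 F11464) (tt N2168 (iv F16024)) (tt N2175 (iv F16056)) (tt N1665 F11465) (tt N1261 F11466) (tt N2177 (iv F16067)) (tt N2178 D3308) (tt N1260 (iv D2318)))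
theorem Q1667 : ∀ i, i < 1667 → P i := stepQ 1666 Q1666 (allL N1666 (tt N1355 F11467) (tt N2158 (iv F15582)) (tt N1279 F11468) (tt N2169 (iv F16029)) (tt N2176 (iv F16060)) (tt N1666 F11469) (tt N2178 (iv F16070)) (tt N1666 F11470) (tt N1261 (iv D2319)) (tt N1666 F11471))
theorem Q1668 : ∀ i, i < 1668 → P i := stepQ 1667 Q1667 (allL N1667 (tt N1356 F11472) (tt N2179 D3309) (tt N1262 (iv D2320)) (tt N1280 F11473) (tt N1667 F11474) (tt N2170 (iv F16035)) (tt N2180 D3310) (tt N1667 F11475) (tt N1267 F11476) (tt N2181 D3311))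
theorem Q1669 : ∀ i, i < 1669 → P i := stepQ 1668 Q1668 (allL N1668 (tt N1357 F11477) (tt N1521 (iv F20159)) (tt N2180 (iv F16077)) (tt N1263 F11478) (tt N1668 F11479) (tt N2182 D3312) (tt N1262 (iv D2321)) (tt N1403 (iv F20130)) (tt N1268 F11480) (tt N2183 D3314))
theorem Q1670 : ∀ i, i < 1670 → P i := stepQ 1669 Q1669 (allL N1669 (tt N1358 F11481) (tt N2160 (iv F15598)) (tt N2181 (iv F16082)) (tt N1264 F11482) (tt N1669 F11483) (tt N2172 (iv F16043)) (tt N2183 (iv F16096)) (tt N1669 F11484) (tt N2184 D3315) (tt N1262 (iv D2322)))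
theorem Q1671 : ∀ i, i < 1671 → P i := stepQ 1670 Q1670 (allL N1670 (tt N1359 F11485) (tt N1500 (iv F20162)) (tt N1283 F11486) (tt N2182 (iv F16087)) (tt N1670 F11487) (tt N1263 (iv D2323)) (tt N2173 (iv F16048)) (tt N1389 (iv F20136)) (tt N1388 (iv F20142)) (tt N2185 D3318))
theorem Q1672 : ∀ i, i < 1672 → P i := stepQ 1671 Q1671 (allL N1671 (tt N1360 F11493) (tt N1529 (iv F20163)) (tt N1285 F11494) (tt N2183 (iv F16094)) (tt N1265 F11495) (tt N2185 (iv F16113)) (tt N1264 F11496) (tt N1408 (iv F20138)) (tt N2186 D3320) (tt N1263 (iv D2325)))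
theorem Q1673 : ∀ i, i < 1673 → P i := stepQ 1672 Q1672 (allL N1672 (tt N1361 F11497) (tt N2161 (iv F15618)) (tt N1286 F11498) (tt N2184 (iv F16098)) (tt N1266 F11499) (tt N2187 D3321) (tt N2186 (iv F16122)) (tt N1672 F11500) (tt N1264 (iv D2326)) (tt N1271 F11501))
theorem Q1674 : ∀ i, i < 1674 → P i := stepQ 1673 Q1673 (allL N1673 (tt N1362 F11508) (tt N1540 (iv F20166)) (tt N1288 F11509) (tt N1673 F11510) (tt N2186 (iv F16121)) (tt N2188 D3323) (tt N1266 F11511) (tt N1415 (iv F20193)) (tt N1265 (iv D2328)) (tt N1272 F11512))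
theorem Q1675 : ∀ i, i < 1675 → P i := stepQ 1674 Q1674 (allL N1674 (tt N2189 D3324) (tt N1267 (iv D2329)) (tt N2162 (iv F15636)) (tt N1289 F11513) (tt N1674 F11514) (tt N1674 F11515) (tt N2190 D3325) (tt N1674 F11516) (tt N2179 (iv F16075)) (tt N2191 D3326))
theorem Q1676 : ∀ i, i < 1676 → P i := stepQ 1675 Q1675 (allL N1675 (tt N1364 F11517) (tt N2190 (iv F16146)) (tt N1268 F11518) (tt N1290 F11519) (tt N1675 F11520) (tt N1400 (iv F20133)) (tt N1267 (iv D2330)) (tt N1399 (iv F20129)) (tt N2180 (iv F16080)) (tt N2192 D3329))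
theorem Q1677 : ∀ i, i < 1677 → P i := stepQ 1676 Q1676 (allL N1676 (tt N1365 F11521) (tt N2191 (iv F16149)) (tt N1269 F11522) (tt N1291 F11523) (tt N1676 F11524) (tt N1676 F11525) (tt N2192 (iv F16167)) (tt N1676 F11526) (tt N2193 D3330) (tt N1267 (iv D2331)))
theorem Q1678 : ∀ i, i < 1678 → P i := stepQ 1677 Q1677 (allL N1677 (tt N1366 F11534) (tt N1522 (iv F20174)) (tt N2192 (iv F16164)) (tt N1270 F11535) (tt N1677 F11536) (tt N1405 (iv F20134)) (tt N1269 F11537) (tt N1404 (iv F20131)) (tt N2194 D3336) (tt N1268 (iv D2334)))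
theorem Q1679 : ∀ i, i < 1679 → P i := stepQ 1678 Q1678 (allL N1678 (tt N1367 F11538) (tt N2164 (iv F15666)) (tt N2193 (iv F16169)) (tt N1271 F11539) (tt N1678 F11540) (tt N2195 D3337) (tt N2194 (iv F16195)) (tt N1678 F11541) (tt N1269 (iv D2335)) (tt N2184 (iv F16101)))
theorem Q1680 : ∀ i, i < 1680 → P i := stepQ 1679 Q1679 (allL N1679 (tt N1368 F11560) (tt N1530 (iv F20177)) (tt N1299 F11561) (tt N2194 (iv F16193)) (tt N1272 F11562) (tt N2196 D3344) (tt N1271 F11563) (tt N1409 (iv F20140)) (tt N1270 (iv D2340)) (tt N2186 (iv F16123)))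
theorem Q1681 : ∀ i, i < 1681 → P i := stepQ 1680 Q1680 (allL N1680 (tt N1369 F11564) (tt N2165 (iv F15698)) (tt N1300 F11565) (tt N2195 (iv F16197)) (tt N1680 F11566) (tt N1271 (iv D2341)) (tt N2197 D3345) (tt N1680 F11567) (tt N1680 F11568) (tt N2187 (iv F16128)))
theorem Q1682 : ∀ i, i < 1682 → P i := stepQ 1681 Q1681 (allL N1681 (tt N1370 F11574) (tt N1541 (iv F20179)) (tt N1302 F11575) (tt N1681 F11576) (tt N2198 D3347) (tt N1272 (iv D2343)) (tt N1681 F11577) (tt N1416 (iv F20208)) (tt N1273 F11578) (tt N2188 (iv F16140)))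
theorem Q1683 : ∀ i, i < 1683 → P i := stepQ 1682 Q1682 (allL N1682 (tt N1371 F11653) (tt N1545 (iv F20290)) (tt N1308 F11654) (tt N2199 D3372) (tt N1273 (iv D2360)) (tt N1419 (iv F20282)) (tt N1682 F11655) (tt N1417 (iv F20278)) (tt N2198 (iv F16241)) (tt N1682 F11656))
theorem Q1684 : ∀ i, i < 1684 → P i := stepQ 1683 Q1683 (allL N1683 (tt N1372 F11777) (tt N2200 D3406) (tt N1274 (iv D2386)) (tt N2170 (iv F16034)) (tt N1683 F11778) (tt N1280 F11779) (tt N2201 D3407) (tt N1683 F11780) (tt N1683 F11781) (tt N2202 D3408))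
theorem Q1685 : ∀ i, i < 1685 → P i := stepQ 1684 Q1684 (allL N1684 (tt N1373 F11782) (tt N1684 F11783) (tt N2201 (iv F16519)) (tt N1275 F11784) (tt N1684 F11785) (tt N2203 D3409) (tt N1274 (iv D2387)) (tt N2204 D3410) (tt N1684 F11786) (tt N2205 D3411))
theorem Q1686 : ∀ i, i < 1686 → P i := stepQ 1685 Q1685 (allL N1685 (tt N1374 F11787) (tt N1685 F11788) (tt N2202 (iv F16523)) (tt N1276 F11789) (tt N1685 F11790) (tt N1282 F11791) (tt N2205 (iv F16541)) (tt N1685 F11792) (tt N2206 D3412) (tt N1274 (iv D2388)))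
theorem Q1687 : ∀ i, i < 1687 → P i := stepQ 1686 Q1686 (allL N1686 (tt N1375 F11793) (tt N1686 F11794) (tt N2173 (iv F16046)) (tt N2203 (iv F16529)) (tt N1686 F11795) (tt N1275 (iv D2389)) (tt N1283 F11796) (tt N2207 D3413) (tt N2208 D3414) (tt N2209 D3415))
theorem Q1688 : ∀ i, i < 1688 → P i := stepQ 1687 Q1687 (allL N1687 (tt N1376 F11797) (tt N1687 F11798) (tt N2174 (iv F16050)) (tt N2204 (iv F16533)) (tt N1277 F11799) (tt N2207 (iv F16551)) (tt N1687 F11800) (tt N1275 (iv D2390)) (tt N1687 F11801) (tt N2210 D3416))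
theorem Q1689 : ∀ i, i < 1689 → P i := stepQ 1688 Q1688 (allL N1688 (tt N1377 F11802) (tt N1688 F11803) (tt N2175 (iv F16055)) (tt N2205 (iv F16539)) (tt N1278 F11804) (tt N2209 (iv F16560)) (tt N1276 F11805) (tt N2210 (iv F16566)) (tt N2211 D3417) (tt N1275 (iv D2391)))
theorem Q1690 : ∀ i, i < 1690 → P i := stepQ 1689 Q1689 (allL N1689 (tt N1378 F11806) (tt N1689 F11807) (tt N2176 (iv F16059)) (tt N2206 (iv F16544)) (tt N1279 F11808) (tt N2212 D3418) (tt N2211 (iv F16570)) (tt N1689 F11809) (tt N1276 (iv D2392)) (tt N1689 F11810))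
theorem Q1691 : ∀ i, i < 1691 → P i := stepQ 1690 Q1690 (allL N1690 (tt N1379 F11811) (tt N1690 F11812) (tt N2177 (iv F16064)) (tt N1690 F11813) (tt N2210 (iv F16564)) (tt N1690 F11814) (tt N1690 F11815) (tt N1278 F11816) (tt N2213 D3419) (tt N1277 (iv D2393)))
theorem Q1692 : ∀ i, i < 1692 → P i := stepQ 1691 Q1691 (allL N1691 (tt N1380 F11817) (tt N1691 F11818) (tt N2178 (iv F16069)) (tt N1691 F11819) (tt N2211 (iv F16569)) (tt N2214 D3420) (tt N1279 F11820) (tt N2213 (iv F16582)) (tt N1278 (iv D2394)) (tt N1691 F11821))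
theorem Q1693 : ∀ i, i < 1693 → P i := stepQ 1692 Q1692 (allL N1692 (tt N2215 D3421) (tt N1280 (iv D2395)) (tt N1692 F11822) (tt N2179 (iv F16072)) (tt N1310 F11823) (tt N2200 (iv F16515)) (tt N2216 D3422) (tt N1692 F11824) (tt N1289 F11825) (tt N2217 D3423))
theorem Q1694 : ∀ i, i < 1694 → P i := stepQ 1693 Q1693 (allL N1693 (tt N1382 F11826) (tt N2216 (iv F16595)) (tt N1281 F11827) (tt N2180 (iv F16078)) (tt N1311 F11828) (tt N2218 D3424) (tt N1280 (iv D2396)) (tt N2219 D3425) (tt N1290 F11829) (tt N2220 D3426))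
theorem Q1695 : ∀ i, i < 1695 → P i := stepQ 1694 Q1694 (allL N1694 (tt N1383 F11830) (tt N2217 (iv F16599)) (tt N1282 F11831) (tt N2181 (iv F16083)) (tt N1312 F11832) (tt N2202 (iv F16525)) (tt N2220 (iv F16613)) (tt N1694 F11833) (tt N2221 D3427) (tt N1280 (iv D2397)))
theorem Q1696 : ∀ i, i < 1696 → P i := stepQ 1695 Q1695 (allL N1695 (tt N1384 F11834) (tt N1695 F11835) (tt N2218 (iv F16604)) (tt N1283 F11836) (tt N2222 D3428) (tt N1281 (iv D2398)) (tt N2203 (iv F16530)) (tt N2223 D3429) (tt N2224 D3430) (tt N2225 D3431))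
theorem Q1697 : ∀ i, i < 1697 → P i := stepQ 1696 Q1696 (allL N1696 (tt N1385 F11837) (tt N1696 F11838) (tt N2219 (iv F16606)) (tt N1284 F11839) (tt N1314 F11840) (tt N2223 (iv F16626)) (tt N1696 F11841) (tt N1281 (iv D2399)) (tt N1293 F11842) (tt N2226 D3432))
theorem Q1698 : ∀ i, i < 1698 → P i := stepQ 1697 Q1697 (allL N1697 (tt N1386 F11843) (tt N1697 F11844) (tt N2220 (iv F16611)) (tt N1285 F11845) (tt N1315 F11846) (tt N2225 (iv F16634)) (tt N1282 F11847) (tt N2226 (iv F16640)) (tt N2227 D3433) (tt N1281 (iv D2400)))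
theorem Q1699 : ∀ i, i < 1699 → P i := stepQ 1698 Q1698 (allL N1698 (tt N1387 F11848) (tt N1698 F11849) (tt N2221 (iv F16615)) (tt N1286 F11850) (tt N1316 F11851) (tt N2228 D3434) (tt N2227 (iv F16645)) (tt N1698 F11852) (tt N1282 (iv D2401)) (tt N1295 F11853))
theorem Q1700 : ∀ i, i < 1700 → P i := stepQ 1699 Q1699 (allL N1699 (tt N1388 F11854) (tt N1699 F11855) (tt N1389 (iv F20135)) (tt N2223 (iv F16625)) (tt N1699 F11856) (tt N1284 F11857) (tt N2229 D3435) (tt N1283 (iv D2402)) (tt N1359 (iv F20103)) (tt N2230 D3437))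
theorem Q1701 : ∀ i, i < 1701 → P i := stepQ 1700 Q1700 (allL N1700 (tt N1389 F11858) (tt N1700 F11859) (tt N1388 (iv F20141)) (tt N2224 (iv F16629)) (tt N1700 F11860) (tt N1296 F11861) (tt N2208 (iv F16556)) (tt N1359 (iv F20102)) (tt N1283 (iv D2403)) (tt N2231 D3438))
theorem Q1702 : ∀ i, i < 1702 → P i := stepQ 1701 Q1701 (allL N1701 (tt N1390 F11862) (tt N1701 F11863) (tt N2185 (iv F16111)) (tt N2225 (iv F16633)) (tt N1701 F11864) (tt N1285 F11865) (tt N2209 (iv F16561)) (tt N2230 (iv F16665)) (tt N2232 D3439) (tt N1283 (iv D2404)))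
theorem Q1703 : ∀ i, i < 1703 → P i := stepQ 1702 Q1702 (allL N1702 (tt N1391 F11866) (tt N1702 F11867) (tt N1408 (iv F20137)) (tt N2226 (iv F16637)) (tt N1287 F11868) (tt N2230 (iv F16664)) (tt N1702 F11869) (tt N1285 F11870) (tt N2233 D3440) (tt N1284 (iv D2405)))
theorem Q1704 : ∀ i, i < 1704 → P i := stepQ 1703 Q1703 (allL N1703 (tt N1392 F11871) (tt N1703 F11872) (tt N2186 (iv F16120)) (tt N2227 (iv F16643)) (tt N1288 F11873) (tt N2234 D3441) (tt N1286 F11874) (tt N2233 (iv F16677)) (tt N1285 (iv D2406)) (tt N1299 F11875))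
theorem Q1705 : ∀ i, i < 1705 → P i := stepQ 1704 Q1704 (allL N1704 (tt N1393 F11876) (tt N1704 F11877) (tt N2187 (iv F16125)) (tt N2228 (iv F16649)) (tt N1704 F11878) (tt N1286 (iv D2407)) (tt N2235 D3442) (tt N1704 F11879) (tt N2212 (iv F16576)) (tt N1300 F11880))
theorem Q1706 : ∀ i, i < 1706 → P i := stepQ 1705 Q1705 (allL N1705 (tt N1394 F11881) (tt N1705 F11882) (tt N1415 (iv F20192)) (tt N1322 F11883) (tt N2233 (iv F16675)) (tt N2236 D3443) (tt N1705 F11884) (tt N1288 F11885) (tt N1287 (iv D2408)) (tt N1301 F11886))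
theorem Q1707 : ∀ i, i < 1707 → P i := stepQ 1706 Q1706 (allL N1706 (tt N1395 F11887) (tt N1706 F11888) (tt N2188 (iv F16136)) (tt N1323 F11889) (tt N2237 D3444) (tt N1288 (iv D2409)) (tt N1706 F11890) (tt N2236 (iv F16689)) (tt N1706 F11891) (tt N1302 F11892))
theorem Q1708 : ∀ i, i < 1708 → P i := stepQ 1707 Q1707 (allL N1707 (tt N1289 (iv D2410)) (tt N1396 F11893) (tt N1707 F11894) (tt N2189 (iv F16142)) (tt N1324 F11895) (tt N1707 F11896) (tt N2238 D3445) (tt N1707 F11897) (tt N2215 (iv F16594)) (tt N2239 D3446))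
theorem Q1709 : ∀ i, i < 1709 → P i := stepQ 1708 Q1708 (allL N1708 (tt N2238 (iv F16697)) (tt N1290 F11898) (tt N1708 F11899) (tt N2190 (iv F16147)) (tt N1325 F11900) (tt N2240 D3447) (tt N1289 (iv D2411)) (tt N2241 D3448) (tt N2216 (iv F16598)) (tt N2242 D3449))
theorem Q1710 : ∀ i, i < 1710 → P i := stepQ 1709 Q1709 (allL N1709 (tt N2239 (iv F16701)) (tt N1291 F11901) (tt N1709 F11902) (tt N2191 (iv F16150)) (tt N1326 F11903) (tt N1709 F11904) (tt N2242 (iv F16718)) (tt N1709 F11905) (tt N2243 D3450) (tt N1289 (iv D2412)))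
theorem Q1711 : ∀ i, i < 1711 → P i := stepQ 1710 Q1710 (allL N1710 (tt N1399 F11906) (tt N2240 (iv F16707)) (tt N1292 F11907) (tt N1400 (iv F20132)) (tt N1710 F11908) (tt N1290 (iv D2413)) (tt N1710 F11909) (tt N1364 (iv F20114)) (tt N2244 D3452) (tt N2245 D3453))
theorem Q1712 : ∀ i, i < 1712 → P i := stepQ 1711 Q1711 (allL N1711 (tt N1400 F11910) (tt N2241 (iv F16711)) (tt N1293 F11911) (tt N1399 (iv F20128)) (tt N1327 F11912) (tt N1364 (iv F20113)) (tt N1711 F11913) (tt N1290 (iv D2414)) (tt N2219 (iv F16609)) (tt N2246 D3454))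
theorem Q1713 : ∀ i, i < 1713 → P i := stepQ 1712 Q1712 (allL N1712 (tt N1401 F11914) (tt N2242 (iv F16715)) (tt N1294 F11915) (tt N2192 (iv F16165)) (tt N1328 F11916) (tt N2245 (iv F16734)) (tt N1291 F11917) (tt N2246 (iv F16740)) (tt N2247 D3455) (tt N1290 (iv D2415)))
theorem Q1714 : ∀ i, i < 1714 → P i := stepQ 1713 Q1713 (allL N1713 (tt N1402 F11918) (tt N2243 (iv F16719)) (tt N1295 F11919) (tt N2193 (iv F16170)) (tt N1329 F11920) (tt N2248 D3456) (tt N2247 (iv F16744)) (tt N1713 F11921) (tt N1291 (iv D2416)) (tt N2221 (iv F16618)))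
theorem Q1715 : ∀ i, i < 1715 → P i := stepQ 1714 Q1714 (allL N1714 (tt N1403 F11927) (tt N1714 F11928) (tt N2244 (iv F16728)) (tt N1296 F11929) (tt N1714 F11930) (tt N2224 (iv F16630)) (tt N1714 F11931) (tt N1357 (iv F20101)) (tt N1292 (iv D2418)) (tt N2249 D3460))
theorem Q1716 : ∀ i, i < 1716 → P i := stepQ 1715 Q1715 (allL N1715 (tt N1404 F11932) (tt N1715 F11933) (tt N2245 (iv F16732)) (tt N1297 F11934) (tt N1715 F11935) (tt N1294 F11936) (tt N1715 F11937) (tt N1366 (iv F20116)) (tt N2250 D3461) (tt N1292 (iv D2419)))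
theorem Q1717 : ∀ i, i < 1717 → P i := stepQ 1716 Q1716 (allL N1716 (tt N1405 F11938) (tt N1716 F11939) (tt N2246 (iv F16737)) (tt N1298 F11940) (tt N1330 F11941) (tt N1366 (iv F20115)) (tt N1716 F11942) (tt N1294 F11943) (tt N2251 D3462) (tt N1293 (iv D2420)))
theorem Q1718 : ∀ i, i < 1718 → P i := stepQ 1717 Q1717 (allL N1717 (tt N1406 F11944) (tt N1717 F11945) (tt N2247 (iv F16742)) (tt N1299 F11946) (tt N1331 F11947) (tt N2252 D3463) (tt N1295 F11948) (tt N2251 (iv F16781)) (tt N1294 (iv D2421)) (tt N2227 (iv F16646)))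
theorem Q1719 : ∀ i, i < 1719 → P i := stepQ 1718 Q1718 (allL N1718 (tt N1407 F11949) (tt N1718 F11950) (tt N2248 (iv F16746)) (tt N1300 F11951) (tt N2253 D3464) (tt N1295 (iv D2422)) (tt N2254 D3465) (tt N1718 F11952) (tt N1718 F11953) (tt N2228 (iv F16651)))
theorem Q1720 : ∀ i, i < 1720 → P i := stepQ 1719 Q1719 (allL N1719 (tt N1408 F11968) (tt N1719 F11969) (tt N1391 (iv F20143)) (tt N2249 (iv F16768)) (tt N1303 F11970) (tt N2231 (iv F16669)) (tt N1719 F11971) (tt N1360 (iv F20104)) (tt N2255 D3470) (tt N1296 (iv D2426)))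
theorem Q1721 : ∀ i, i < 1721 → P i := stepQ 1720 Q1720 (allL N1720 (tt N1409 F11972) (tt N1720 F11973) (tt N1410 (iv F20144)) (tt N2250 (iv F16773)) (tt N1304 F11974) (tt N2256 D3471) (tt N1720 F11975) (tt N1368 (iv F20117)) (tt N1297 (iv D2427)) (tt N2255 (iv F16818)))
theorem Q1722 : ∀ i, i < 1722 → P i := stepQ 1721 Q1721 (allL N1721 (tt N1410 F11976) (tt N1721 F11977) (tt N1409 (iv F20139)) (tt N2251 (iv F16778)) (tt N1301 F11978) (tt N2257 D3472) (tt N1721 F11979) (tt N1299 F11980) (tt N1298 (iv D2428)) (tt N2233 (iv F16678)))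
theorem Q1723 : ∀ i, i < 1723 → P i := stepQ 1722 Q1722 (allL N1722 (tt N1411 F11981) (tt N1722 F11982) (tt N2196 (iv F16228)) (tt N2252 (iv F16784)) (tt N2258 D3473) (tt N1299 (iv D2429)) (tt N2259 D3474) (tt N2257 (iv F16824)) (tt N2256 (iv F16821)) (tt N2234 (iv F16681)))
theorem Q1724 : ∀ i, i < 1724 → P i := stepQ 1723 Q1723 (allL N1723 (tt N1412 F11983) (tt N1723 F11984) (tt N2197 (iv F16230)) (tt N2254 (iv F16793)) (tt N1723 F11985) (tt N2259 (iv F16830)) (tt N1300 (iv D2430)) (tt N2260 D3475) (tt N1723 F11986) (tt N2235 (iv F16685)))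
theorem Q1725 : ∀ i, i < 1725 → P i := stepQ 1724 Q1724 (allL N1724 (tt N1413 F11987) (tt N1724 F11988) (tt N1416 (iv F20207)) (tt N1336 F11989) (tt N2261 D3476) (tt N1301 (iv D2431)) (tt N2262 D3477) (tt N1302 F11990) (tt N1307 F11991) (tt N2236 (iv F16691)))
theorem Q1726 : ∀ i, i < 1726 → P i := stepQ 1725 Q1725 (allL N1725 (tt N1414 F11992) (tt N1725 F11993) (tt N2198 (iv F16239)) (tt N2263 D3478) (tt N1302 (iv D2432)) (tt N2258 (iv F16827)) (tt N1725 F11994) (tt N2261 (iv F16838)) (tt N1308 F11995) (tt N2237 (iv F16696)))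
theorem Q1727 : ∀ i, i < 1727 → P i := stepQ 1726 Q1726 (allL N1726 (tt N1415 F12016) (tt N1726 F12017) (tt N1394 F20242) (tt N1726 F12018) (tt N2255 (iv F16816)) (tt N2264 D3484) (tt N1726 F12019) (tt N1362 F20243) (tt N1303 (iv D2437)) (tt N1304 F12020))
theorem Q1728 : ∀ i, i < 1728 → P i := stepQ 1727 Q1727 (allL N1727 (tt N1416 F12021) (tt N1727 F12022) (tt N1413 F20246) (tt N1727 F12023) (tt N2265 D3485) (tt N1304 (iv D2438)) (tt N2266 D3486) (tt N1370 F20247) (tt N1305 F12024) (tt N2264 (iv F16881)))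
theorem Q1729 : ∀ i, i < 1729 → P i := stepQ 1728 Q1728 (allL N1728 (tt N1417 F12030) (tt N1728 F12031) (tt N1419 (iv F20281)) (tt N2267 D3489) (tt N1305 (iv D2440)) (tt N1308 F12032) (tt N2268 D3490) (tt N1371 (iv F20270)) (tt N2265 (iv F16884)) (tt N1728 F12033))
theorem Q1730 : ∀ i, i < 1730 → P i := stepQ 1729 Q1729 (allL N1729 (tt N1418 F12034) (tt N1729 F12035) (tt N1420 (iv F20283)) (tt N1729 F12036) (tt N2268 (iv F16907)) (tt N1306 F12037) (tt N1305 (iv D2441)) (tt N1729 F20301) (tt N2266 (iv F16889)) (tt N1729 F12038))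
theorem Q1731 : ∀ i, i < 1731 → P i := stepQ 1730 Q1730 (allL N1730 (tt N1419 F12046) (tt N1730 F12047) (tt N1417 (iv F20277)) (tt N2269 D3492) (tt N1307 (iv D2443)) (tt N1371 (iv F20269)) (tt N2270 D3493) (tt N1308 F12048) (tt N2261 (iv F16839)) (tt N1730 F12049))
theorem Q1732 : ∀ i, i < 1732 → P i := stepQ 1731 Q1731 (allL N1731 (tt N1420 F12050) (tt N1731 F12051) (tt N1418 (iv F20279)) (tt N1339 F12052) (tt N2270 (iv F16922)) (tt N1309 F12053) (tt N1307 (iv D2444)) (tt N1731 F12054) (tt N2262 (iv F16845)) (tt N1731 F12055))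
theorem Q1733 : ∀ i, i < 1733 → P i := stepQ 1732 Q1732 (allL N1732 (tt N1421 F12056) (tt N1732 F12057) (tt N2271 D3494) (tt N1308 (iv D2445)) (tt N1340 F12058) (tt N2267 (iv F16903)) (tt N1732 F12059) (tt N2269 (iv F16918)) (tt N2263 (iv F16850)) (tt N1732 F12060))
theorem Q1734 : ∀ i, i < 1734 → P i := stepQ 1733 Q1733 (allL N1733 (tt N1310 (iv D2462)) (tt N1422 F12144) (tt N1733 F12145) (tt N1733 F12146) (tt N2215 (iv F16592)) (tt N1733 F12147) (tt N2272 D3517) (tt N1733 F12148) (tt N1324 F12149) (tt N2273 D3518))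
theorem Q1735 : ∀ i, i < 1735 → P i := stepQ 1734 Q1734 (allL N1734 (tt N2272 (iv F17042)) (tt N1311 F12150) (tt N1734 F12151) (tt N1734 F12152) (tt N2216 (iv F16597)) (tt N2274 D3519) (tt N1310 (iv D2463)) (tt N2275 D3520) (tt N1325 F12153) (tt N2276 D3521))
theorem Q1736 : ∀ i, i < 1736 → P i := stepQ 1735 Q1735 (allL N1735 (tt N2273 (iv F17047)) (tt N1312 F12154) (tt N1735 F12155) (tt N1735 F12156) (tt N2217 (iv F16601)) (tt N1735 F12157) (tt N2276 (iv F17066)) (tt N1735 F12158) (tt N2277 D3522) (tt N1310 (iv D2464)))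
theorem Q1737 : ∀ i, i < 1737 → P i := stepQ 1736 Q1736 (allL N1736 (tt N1425 F12159) (tt N2274 (iv F17053)) (tt N1313 F12160) (tt N1736 F12161) (tt N2278 D3523) (tt N1311 (iv D2465)) (tt N1736 F12162) (tt N2279 D3524) (tt N1736 F12163) (tt N2280 D3525))
theorem Q1738 : ∀ i, i < 1738 → P i := stepQ 1737 Q1737 (allL N1737 (tt N1426 F12164) (tt N2275 (iv F17058)) (tt N1314 F12165) (tt N1737 F12166) (tt N2219 (iv F16607)) (tt N2279 (iv F17079)) (tt N1737 F12167) (tt N1311 (iv D2466)) (tt N1327 F12168) (tt N2281 D3526))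
theorem Q1739 : ∀ i, i < 1739 → P i := stepQ 1738 Q1738 (allL N1738 (tt N1427 F12169) (tt N2276 (iv F17063)) (tt N1315 F12170) (tt N1738 F12171) (tt N2220 (iv F16612)) (tt N2280 (iv F17084)) (tt N1312 F12172) (tt N2281 (iv F17090)) (tt N2282 D3527) (tt N1311 (iv D2467)))
theorem Q1740 : ∀ i, i < 1740 → P i := stepQ 1739 Q1739 (allL N1739 (tt N1428 F12173) (tt N2277 (iv F17067)) (tt N1316 F12174) (tt N1739 F12175) (tt N2221 (iv F16616)) (tt N2283 D3528) (tt N2282 (iv F17094)) (tt N1739 F12176) (tt N1312 (iv D2468)) (tt N1329 F12177))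
theorem Q1741 : ∀ i, i < 1741 → P i := stepQ 1740 Q1740 (allL N1740 (tt N1429 F12178) (tt N1740 F12179) (tt N2278 (iv F17073)) (tt N1740 F12180) (tt N1313 (iv D2469)) (tt N2222 (iv F16622)) (tt N1740 F12181) (tt N2284 D3529) (tt N1740 F12182) (tt N2285 D3530))
theorem Q1742 : ∀ i, i < 1742 → P i := stepQ 1741 Q1741 (allL N1741 (tt N1430 F12183) (tt N1741 F12184) (tt N2279 (iv F17077)) (tt N1317 F12185) (tt N2284 (iv F17105)) (tt N1314 F12186) (tt N2286 D3531) (tt N1313 (iv D2470)) (tt N1741 F12187) (tt N2287 D3532))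
theorem Q1743 : ∀ i, i < 1743 → P i := stepQ 1742 Q1742 (allL N1742 (tt N1431 F12188) (tt N1742 F12189) (tt N2280 (iv F17082)) (tt N1318 F12190) (tt N2285 (iv F17110)) (tt N1315 F12191) (tt N1742 F12192) (tt N2287 (iv F17122)) (tt N2288 D3533) (tt N1313 (iv D2471)))
theorem Q1744 : ∀ i, i < 1744 → P i := stepQ 1743 Q1743 (allL N1743 (tt N1432 F12193) (tt N1743 F12194) (tt N2281 (iv F17087)) (tt N1319 F12195) (tt N2226 (iv F16638)) (tt N2287 (iv F17121)) (tt N1743 F12196) (tt N1315 F12197) (tt N2289 D3534) (tt N1314 (iv D2472)))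
theorem Q1745 : ∀ i, i < 1745 → P i := stepQ 1744 Q1744 (allL N1744 (tt N1433 F12198) (tt N1744 F12199) (tt N2282 (iv F17092)) (tt N1320 F12200) (tt N2227 (iv F16644)) (tt N2290 D3535) (tt N1316 F12201) (tt N2289 (iv F17132)) (tt N1315 (iv D2473)) (tt N1331 F12202))
theorem Q1746 : ∀ i, i < 1746 → P i := stepQ 1745 Q1745 (allL N1745 (tt N1434 F12203) (tt N1745 F12204) (tt N2283 (iv F17097)) (tt N1321 F12205) (tt N2291 D3536) (tt N1316 (iv D2474)) (tt N2292 D3537) (tt N1745 F12206) (tt N1745 F12207) (tt N1332 F12208))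
theorem Q1747 : ∀ i, i < 1747 → P i := stepQ 1746 Q1746 (allL N1746 (tt N1435 F12209) (tt N1746 F12210) (tt N1746 F12211) (tt N2286 (iv F17114)) (tt N1746 F12212) (tt N1746 F12213) (tt N1317 (iv D2475)) (tt N1746 F12214) (tt N1746 F12215) (tt N2293 D3538))
theorem Q1748 : ∀ i, i < 1748 → P i := stepQ 1747 Q1747 (allL N1747 (tt N1436 F12216) (tt N1747 F12217) (tt N1747 F12218) (tt N2287 (iv F17120)) (tt N1747 F12219) (tt N1319 F12220) (tt N2293 (iv F17154)) (tt N1318 F12221) (tt N2294 D3539) (tt N1317 (iv D2476)))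
theorem Q1749 : ∀ i, i < 1749 → P i := stepQ 1748 Q1748 (allL N1748 (tt N1437 F12222) (tt N1748 F12223) (tt N1748 F12224) (tt N2288 (iv F17125)) (tt N1748 F12225) (tt N2295 D3540) (tt N1748 F12226) (tt N2294 (iv F17160)) (tt N1318 (iv D2477)) (tt N1748 F12227))
theorem Q1750 : ∀ i, i < 1750 → P i := stepQ 1749 Q1749 (allL N1749 (tt N1438 F12228) (tt N1749 F12229) (tt N1749 F12230) (tt N2289 (iv F17130)) (tt N1322 F12231) (tt N2296 D3541) (tt N1749 F12232) (tt N1320 F12233) (tt N1319 (iv D2478)) (tt N1333 F12234))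
theorem Q1751 : ∀ i, i < 1751 → P i := stepQ 1750 Q1750 (allL N1750 (tt N1439 F12235) (tt N1750 F12236) (tt N1750 F12237) (tt N2290 (iv F17136)) (tt N2297 D3542) (tt N1320 (iv D2479)) (tt N2298 D3543) (tt N2296 (iv F17170)) (tt N2295 (iv F17165)) (tt N1334 F12238))
theorem Q1752 : ∀ i, i < 1752 → P i := stepQ 1751 Q1751 (allL N1751 (tt N1440 F12239) (tt N1751 F12240) (tt N1751 F12241) (tt N2292 (iv F17146)) (tt N1751 F12242) (tt N2298 (iv F17180)) (tt N1321 (iv D2480)) (tt N2299 D3544) (tt N1751 F12243) (tt N1335 F12244))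
theorem Q1753 : ∀ i, i < 1753 → P i := stepQ 1752 Q1752 (allL N1752 (tt N1441 F12245) (tt N1752 F12246) (tt N1752 F12247) (tt N2236 (iv F16688)) (tt N2300 D3545) (tt N1322 (iv D2481)) (tt N2301 D3546) (tt N1323 F12248) (tt N1752 F12249) (tt N1336 F12250))
theorem Q1754 : ∀ i, i < 1754 → P i := stepQ 1753 Q1753 (allL N1753 (tt N1442 F12251) (tt N1753 F12252) (tt N1753 F12253) (tt N2302 D3547) (tt N1323 (iv D2482)) (tt N2297 (iv F17175)) (tt N1753 F12254) (tt N2300 (iv F17192)) (tt N1753 F12255) (tt N1337 F12256))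
theorem Q1755 : ∀ i, i < 1755 → P i := stepQ 1754 Q1754 (allL N1754 (tt N1325 F12257) (tt N1443 F12258) (tt N1754 F12259) (tt N1754 F12260) (tt N2238 (iv F16700)) (tt N1754 F12261) (tt N1324 (iv D2483)) (tt N2303 D3548) (tt N2272 (iv F17046)) (tt N2304 D3549))
theorem Q1756 : ∀ i, i < 1756 → P i := stepQ 1755 Q1755 (allL N1755 (tt N1326 F12262) (tt N1444 F12263) (tt N1755 F12264) (tt N1755 F12265) (tt N2239 (iv F16704)) (tt N1341 F12266) (tt N2304 (iv F17218)) (tt N1755 F12267) (tt N2305 D3550) (tt N1324 (iv D2484)))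
theorem Q1757 : ∀ i, i < 1757 → P i := stepQ 1756 Q1756 (allL N1756 (tt N2303 (iv F17207)) (tt N1327 F12268) (tt N1756 F12269) (tt N1756 F12270) (tt N2241 (iv F16713)) (tt N1756 F12271) (tt N1756 F12272) (tt N1325 (iv D2485)) (tt N2275 (iv F17062)) (tt N2306 D3551))
theorem Q1758 : ∀ i, i < 1758 → P i := stepQ 1757 Q1757 (allL N1757 (tt N2304 (iv F17213)) (tt N1328 F12273) (tt N1757 F12274) (tt N1757 F12275) (tt N2242 (iv F16717)) (tt N1757 F12276) (tt N1326 F12277) (tt N2306 (iv F17229)) (tt N2307 D3552) (tt N1325 (iv D2486)))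
theorem Q1759 : ∀ i, i < 1759 → P i := stepQ 1758 Q1758 (allL N1758 (tt N2305 (iv F17219)) (tt N1329 F12278) (tt N1758 F12279) (tt N1758 F12280) (tt N2243 (iv F16721)) (tt N2308 D3553) (tt N2307 (iv F17233)) (tt N1758 F12281) (tt N1326 (iv D2487)) (tt N2277 (iv F17071)))
theorem Q1760 : ∀ i, i < 1760 → P i := stepQ 1759 Q1759 (allL N1759 (tt N1448 F12282) (tt N2306 (iv F17224)) (tt N1330 F12283) (tt N1759 F12284) (tt N2246 (iv F16738)) (tt N1759 F12285) (tt N1759 F12286) (tt N1328 F12287) (tt N2309 D3554) (tt N1327 (iv D2488)))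
theorem Q1761 : ∀ i, i < 1761 → P i := stepQ 1760 Q1760 (allL N1760 (tt N1449 F12288) (tt N2307 (iv F17230)) (tt N1331 F12289) (tt N1760 F12290) (tt N2247 (iv F16743)) (tt N2310 D3555) (tt N1329 F12291) (tt N2309 (iv F17243)) (tt N1328 (iv D2489)) (tt N2282 (iv F17095)))
theorem Q1762 : ∀ i, i < 1762 → P i := stepQ 1761 Q1761 (allL N1761 (tt N1450 F12292) (tt N2308 (iv F17234)) (tt N1332 F12293) (tt N1761 F12294) (tt N2311 D3556) (tt N1329 (iv D2490)) (tt N2312 D3557) (tt N1761 F12295) (tt N1343 F12296) (tt N2283 (iv F17101)))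
theorem Q1763 : ∀ i, i < 1763 → P i := stepQ 1762 Q1762 (allL N1762 (tt N1451 F12297) (tt N1762 F12298) (tt N2309 (iv F17240)) (tt N1333 F12299) (tt N2251 (iv F16779)) (tt N2313 D3558) (tt N1762 F12300) (tt N1331 F12301) (tt N1330 (iv D2491)) (tt N2289 (iv F17133)))
theorem Q1764 : ∀ i, i < 1764 → P i := stepQ 1763 Q1763 (allL N1763 (tt N1452 F12302) (tt N1763 F12303) (tt N2310 (iv F17245)) (tt N1334 F12304) (tt N2314 D3559) (tt N1331 (iv D2492)) (tt N2315 D3560) (tt N2313 (iv F17259)) (tt N1763 F12305) (tt N2290 (iv F17137)))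
theorem Q1765 : ∀ i, i < 1765 → P i := stepQ 1764 Q1764 (allL N1764 (tt N1453 F12306) (tt N1764 F12307) (tt N2311 (iv F17249)) (tt N1764 F12308) (tt N1332 (iv D2493)) (tt N2253 (iv F16788)) (tt N2316 D3561) (tt N1764 F12309) (tt N1344 F12310) (tt N2291 (iv F17143)))
theorem Q1766 : ∀ i, i < 1766 → P i := stepQ 1765 Q1765 (allL N1765 (tt N1454 F12311) (tt N1765 F12312) (tt N2312 (iv F17253)) (tt N1335 F12313) (tt N2316 (iv F17272)) (tt N2315 (iv F17267)) (tt N1332 (iv D2494)) (tt N2317 D3562) (tt N1345 F12314) (tt N2292 (iv F17148)))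
theorem Q1767 : ∀ i, i < 1767 → P i := stepQ 1766 Q1766 (allL N1766 (tt N1455 F12315) (tt N1766 F12316) (tt N1766 F12317) (tt N2313 (iv F17258)) (tt N2318 D3563) (tt N1333 (iv D2495)) (tt N2319 D3564) (tt N1334 F12318) (tt N1766 F12319) (tt N2296 (iv F17171)))
theorem Q1768 : ∀ i, i < 1768 → P i := stepQ 1767 Q1767 (allL N1767 (tt N1456 F12320) (tt N1767 F12321) (tt N1767 F12322) (tt N2320 D3565) (tt N1334 (iv D2496)) (tt N1337 F12323) (tt N2321 D3566) (tt N2318 (iv F17283)) (tt N1767 F12324) (tt N2297 (iv F17176)))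
theorem Q1769 : ∀ i, i < 1769 → P i := stepQ 1768 Q1768 (allL N1768 (tt N1457 F12325) (tt N1768 F12326) (tt N1768 F12327) (tt N2315 (iv F17266)) (tt N2321 (iv F17297)) (tt N1335 F12328) (tt N1334 (iv D2497)) (tt N2322 D3567) (tt N1768 F12329) (tt N2298 (iv F17181)))
theorem Q1770 : ∀ i, i < 1770 → P i := stepQ 1769 Q1769 (allL N1769 (tt N1458 F12330) (tt N1769 F12331) (tt N1769 F12332) (tt N2317 (iv F17276)) (tt N1769 F12333) (tt N2322 (iv F17303)) (tt N1769 F12334) (tt N1335 (iv D2498)) (tt N1346 F12335) (tt N2299 (iv F17188)))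
theorem Q1771 : ∀ i, i < 1771 → P i := stepQ 1770 Q1770 (allL N1770 (tt N1459 F12336) (tt N1770 F12337) (tt N1770 F12338) (tt N2323 D3568) (tt N1336 (iv D2499)) (tt N2318 (iv F17282)) (tt N1640 F131641) (tt N1337 F12339) (tt N1338 F12340) (tt N2300 (iv F17194)))
theorem Q1772 : ∀ i, i < 1772 → P i := stepQ 1771 Q1771 (allL N1771 (tt N1460 F12341) (tt N1771 F12342) (tt N1771 F12343) (tt N2262 (iv F16842)) (tt N1640 F131642) (tt N1771 F12344) (tt N1336 (iv D2500)) (tt N1771 F12345) (tt N1339 F12346) (tt N2301 (iv F17201)))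
theorem Q1773 : ∀ i, i < 1773 → P i := stepQ 1772 Q1772 (allL N1772 (tt N1461 F12347) (tt N1772 F12348) (tt N2324 D3570) (tt N1337 (iv D2501)) (tt N2263 (iv F16848)) (tt N2320 (iv F17292)) (tt N1772 F12349) (tt N2323 (iv F17307)) (tt N1340 F12350) (tt N2302 (iv F17206)))
theorem Q1774 : ∀ i, i < 1774 → P i := stepQ 1773 Q1773 (allL N1773 (tt N1462 F12351) (tt N1773 F12352) (tt N2325 D3571) (tt N1338 (iv D2502)) (tt N2269 (iv F16917)) (tt N1773 F12353) (tt N1602 F131016) (tt N1340 F12354) (tt N2323 (iv F17308)) (tt N1773 F12355))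
theorem Q1775 : ∀ i, i < 1775 → P i := stepQ 1774 Q1774 (allL N1774 (tt N1463 F12362) (tt N2326 D3574) (tt N1340 (iv D2504)) (tt N1774 F12363) (tt N2271 (iv F16926)) (tt N1774 F12364) (tt N1774 F12365) (tt N2325 (iv F17322)) (tt N2324 (iv F17318)) (tt N1774 F12366))
theorem Q1776 : ∀ i, i < 1776 → P i := stepQ 1775 Q1775 (allL N1775 (tt N1342 F12391) (tt N1464 F12392) (tt N1775 F12393) (tt N1775 F12394) (tt N1775 F12395) (tt N2327 D3580) (tt N1775 F12396) (tt N1775 F12397) (tt N1341 (iv D2509)) (tt N1775 F12398))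
theorem Q1777 : ∀ i, i < 1777 → P i := stepQ 1776 Q1776 (allL N1776 (tt N2327 (iv F17372)) (tt N1343 F12399) (tt N1776 F12400) (tt N1776 F12401) (tt N2328 D3581) (tt N1342 (iv D2510)) (tt N2329 D3582) (tt N1776 F12402) (tt N2308 (iv F17238)) (tt N1776 F12403))
theorem Q1778 : ∀ i, i < 1778 → P i := stepQ 1777 Q1777 (allL N1777 (tt N1466 F12404) (tt N2328 (iv F17378)) (tt N1344 F12405) (tt N2330 D3583) (tt N1343 (iv D2511)) (tt N1777 F12406) (tt N2331 D3584) (tt N1777 F12407) (tt N2311 (iv F17251)) (tt N1777 F12408))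
theorem Q1779 : ∀ i, i < 1779 → P i := stepQ 1778 Q1778 (allL N1778 (tt N1467 F12409) (tt N2329 (iv F17383)) (tt N1345 F12410) (tt N1778 F12411) (tt N2331 (iv F17396)) (tt N1778 F12412) (tt N1343 (iv D2512)) (tt N2332 D3585) (tt N2312 (iv F17255)) (tt N1778 F12413))
theorem Q1780 : ∀ i, i < 1780 → P i := stepQ 1779 Q1779 (allL N1779 (tt N1468 F12414) (tt N1779 F12415) (tt N2331 (iv F17395)) (tt N1779 F12416) (tt N1345 F12417) (tt N2333 D3586) (tt N1344 (iv D2513)) (tt N2334 D3587) (tt N2316 (iv F17273)) (tt N1779 F12418))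
theorem Q1781 : ∀ i, i < 1781 → P i := stepQ 1780 Q1780 (allL N1780 (tt N1469 F12419) (tt N1780 F12420) (tt N2332 (iv F17399)) (tt N1346 F12421) (tt N2334 (iv F17413)) (tt N1780 F12422) (tt N1780 F12423) (tt N1345 (iv D2514)) (tt N2317 (iv F17278)) (tt N1780 F12424))
theorem Q1782 : ∀ i, i < 1782 → P i := stepQ 1781 Q1781 (allL N1781 (tt N2166 (iv F16002)) (tt N1781 F12425) (tt N2335 D3588) (tt N1347 (iv D2515)) (tt N1350 F12426) (tt N1781 F12427) (tt N2336 D3589) (tt N1781 F12428) (tt N1781 F12429) (tt N2337 D3590))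
theorem Q1783 : ∀ i, i < 1783 → P i := stepQ 1782 Q1782 (allL N1782 (tt N1610 F20313) (tt N1782 F12430) (tt N1782 F12431) (tt N2336 (iv F17422)) (tt N1348 F12432) (tt N1606 (iv F20324)) (tt N1347 (iv D2516)) (tt N1605 (iv F20326)) (tt N1782 F12433) (tt N2338 D3593))
theorem Q1784 : ∀ i, i < 1784 → P i := stepQ 1783 Q1783 (allL N1783 (tt N2167 (iv F16011)) (tt N1783 F12434) (tt N1783 F12435) (tt N2337 (iv F17426)) (tt N1349 F12436) (tt N1783 F12437) (tt N2338 (iv F17442)) (tt N1783 F12438) (tt N2339 D3594) (tt N1347 (iv D2517)))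
theorem Q1785 : ∀ i, i < 1785 → P i := stepQ 1784 Q1784 (allL N1784 (tt N1609 F20314) (tt N1784 F12439) (tt N1784 F12440) (tt N1353 F12441) (tt N1605 (iv F20325)) (tt N1784 F12442) (tt N1784 F12443) (tt N1348 (iv D2518)) (tt N1784 F12444) (tt N2340 D3595))
theorem Q1786 : ∀ i, i < 1786 → P i := stepQ 1785 Q1785 (allL N1785 (tt N2168 (iv F16022)) (tt N1785 F12445) (tt N1785 F12446) (tt N1354 F12447) (tt N2338 (iv F17441)) (tt N1785 F12448) (tt N1349 F12449) (tt N2340 (iv F17453)) (tt N2341 D3596) (tt N1348 (iv D2519)))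
theorem Q1787 : ∀ i, i < 1787 → P i := stepQ 1786 Q1786 (allL N1786 (tt N2169 (iv F16027)) (tt N1786 F12450) (tt N1786 F12451) (tt N1355 F12452) (tt N2339 (iv F17445)) (tt N1786 F12453) (tt N2341 (iv F17457)) (tt N1786 F12454) (tt N1349 (iv D2520)) (tt N1786 F12455))
theorem Q1788 : ∀ i, i < 1788 → P i := stepQ 1787 Q1787 (allL N1787 (tt N2170 (iv F16033)) (tt N2342 D3597) (tt N1350 (iv D2521)) (tt N1372 F12456) (tt N2335 (iv F17417)) (tt N1356 F12457) (tt N2343 D3598) (tt N1787 F12458) (tt N1787 F12459) (tt N2344 D3599))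
theorem Q1789 : ∀ i, i < 1789 → P i := stepQ 1788 Q1788 (allL N1788 (tt N2171 (iv F16038)) (tt N1788 F12460) (tt N2343 (iv F17464)) (tt N1351 F12461) (tt N2336 (iv F17423)) (tt N2345 D3600) (tt N1350 (iv D2522)) (tt N2346 D3601) (tt N1788 F12462) (tt N2347 D3602))
theorem Q1790 : ∀ i, i < 1790 → P i := stepQ 1789 Q1789 (allL N1789 (tt N2172 (iv F16041)) (tt N1789 F12463) (tt N2344 (iv F17467)) (tt N1352 F12464) (tt N2337 (iv F17427)) (tt N1358 F12465) (tt N2347 (iv F17480)) (tt N1789 F12466) (tt N2348 D3603) (tt N1350 (iv D2523)))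
theorem Q1791 : ∀ i, i < 1791 → P i := stepQ 1790 Q1790 (allL N1790 (tt N2173 (iv F16045)) (tt N1790 F12467) (tt N1375 F12468) (tt N2345 (iv F17472)) (tt N1790 F12469) (tt N1351 (iv D2524)) (tt N1359 F12470) (tt N2349 D3604) (tt N2229 (iv F20214)) (tt N2350 D3606))
theorem Q1792 : ∀ i, i < 1792 → P i := stepQ 1791 Q1791 (allL N1791 (tt N2174 (iv F16049)) (tt N1791 F12471) (tt N1376 F12472) (tt N2346 (iv F17475)) (tt N1353 F12473) (tt N2349 (iv F17488)) (tt N1791 F12474) (tt N1351 (iv D2525)) (tt N1791 F12475) (tt N2351 D3607))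
theorem Q1793 : ∀ i, i < 1793 → P i := stepQ 1792 Q1792 (allL N1792 (tt N2175 (iv F16054)) (tt N1792 F12476) (tt N1377 F12477) (tt N2347 (iv F17479)) (tt N1354 F12478) (tt N2350 (iv F17497)) (tt N1352 F12479) (tt N2351 (iv F17503)) (tt N2352 D3608) (tt N1351 (iv D2526)))
theorem Q1794 : ∀ i, i < 1794 → P i := stepQ 1793 Q1793 (allL N1793 (tt N2176 (iv F16058)) (tt N1793 F12480) (tt N1378 F12481) (tt N2348 (iv F17482)) (tt N1355 F12482) (tt N2353 D3609) (tt N2352 (iv F17507)) (tt N1793 F12483) (tt N1352 (iv D2527)) (tt N1793 F12484))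
theorem Q1795 : ∀ i, i < 1795 → P i := stepQ 1794 Q1794 (allL N1794 (tt N2177 (iv F16063)) (tt N1794 F12485) (tt N1379 F12486) (tt N2340 (iv F17450)) (tt N2351 (iv F17501)) (tt N1794 F12487) (tt N1794 F12488) (tt N1354 F12489) (tt N2354 D3610) (tt N1353 (iv D2528)))
theorem Q1796 : ∀ i, i < 1796 → P i := stepQ 1795 Q1795 (allL N1795 (tt N2178 (iv F16068)) (tt N1795 F12490) (tt N1380 F12491) (tt N2341 (iv F17456)) (tt N2352 (iv F17506)) (tt N2355 D3611) (tt N1355 F12492) (tt N2354 (iv F17518)) (tt N1354 (iv D2529)) (tt N1795 F12493))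
theorem Q1797 : ∀ i, i < 1797 → P i := stepQ 1796 Q1796 (allL N1796 (tt N2356 D3612) (tt N1356 (iv D2530)) (tt N1796 F12494) (tt N1381 F12495) (tt N1796 F12496) (tt N2342 (iv F17461)) (tt N2357 D3613) (tt N1796 F12497) (tt N1363 F12498) (tt N2358 D3614))
theorem Q1798 : ∀ i, i < 1798 → P i := stepQ 1797 Q1797 (allL N1797 (tt N2180 (iv F16076)) (tt N2357 (iv F17530)) (tt N1357 F12499) (tt N1382 F12500) (tt N1797 F12501) (tt N2359 D3615) (tt N1356 (iv D2531)) (tt N2244 (iv F20225)) (tt N1364 F12502) (tt N2360 D3617))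
theorem Q1799 : ∀ i, i < 1799 → P i := stepQ 1798 Q1798 (allL N1798 (tt N2181 (iv F16081)) (tt N2358 (iv F17535)) (tt N1358 F12503) (tt N1383 F12504) (tt N1798 F12505) (tt N2344 (iv F17469)) (tt N2360 (iv F17550)) (tt N1798 F12506) (tt N2361 D3618) (tt N1356 (iv D2532)))
theorem Q1800 : ∀ i, i < 1800 → P i := stepQ 1799 Q1799 (allL N1799 (tt N2182 (iv F16086)) (tt N1799 F12507) (tt N2359 (iv F17540)) (tt N1359 F12508) (tt N2362 D3619) (tt N1357 (iv D2533)) (tt N2345 (iv F17473)) (tt N2224 (iv F20216)) (tt N2223 (iv F20212)) (tt N2363 D3622))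
theorem Q1801 : ∀ i, i < 1801 → P i := stepQ 1800 Q1800 (allL N1800 (tt N2183 (iv F16093)) (tt N1800 F12514) (tt N2360 (iv F17547)) (tt N1360 F12515) (tt N1800 F12516) (tt N2363 (iv F17567)) (tt N1358 F12517) (tt N2249 (iv F20232)) (tt N2364 D3624) (tt N1357 (iv D2535)))
theorem Q1802 : ∀ i, i < 1802 → P i := stepQ 1801 Q1801 (allL N1801 (tt N2184 (iv F16097)) (tt N1801 F12518) (tt N2361 (iv F17551)) (tt N1361 F12519) (tt N1801 F12520) (tt N2365 D3625) (tt N2364 (iv F17576)) (tt N1801 F12521) (tt N1358 (iv D2536)) (tt N1367 F12522))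
theorem Q1803 : ∀ i, i < 1803 → P i := stepQ 1802 Q1802 (allL N1802 (tt N2185 (iv F16110)) (tt N1802 F12531) (tt N1390 F12532) (tt N2363 (iv F17566)) (tt N1802 F12533) (tt N1360 F12534) (tt N2350 (iv F17498)) (tt N2231 (iv F20219)) (tt N2366 D3630) (tt N1359 (iv D2539)))
theorem Q1804 : ∀ i, i < 1804 → P i := stepQ 1803 Q1803 (allL N1803 (tt N2186 (iv F16119)) (tt N1803 F12540) (tt N1392 F12541) (tt N2364 (iv F17574)) (tt N1362 F12542) (tt N2367 D3632) (tt N1361 F12543) (tt N2255 (iv F20235)) (tt N1360 (iv D2541)) (tt N1368 F12544))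
theorem Q1805 : ∀ i, i < 1805 → P i := stepQ 1804 Q1804 (allL N1804 (tt N2187 (iv F16124)) (tt N1804 F12545) (tt N1393 F12546) (tt N2365 (iv F17579)) (tt N1804 F12547) (tt N1361 (iv D2542)) (tt N2368 D3633) (tt N1804 F12548) (tt N2353 (iv F17513)) (tt N1369 F12549))
theorem Q1806 : ∀ i, i < 1806 → P i := stepQ 1805 Q1805 (allL N1805 (tt N2188 (iv F16135)) (tt N1805 F12556) (tt N1395 F12557) (tt N1805 F12558) (tt N2369 D3635) (tt N1362 (iv D2544)) (tt N1805 F12559) (tt N2264 (iv F20266)) (tt N1805 F12560) (tt N1370 F12561))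
theorem Q1807 : ∀ i, i < 1807 → P i := stepQ 1806 Q1806 (allL N1806 (tt N1363 (iv D2545)) (tt N2189 (iv F16141)) (tt N1806 F12562) (tt N1396 F12563) (tt N1806 F12564) (tt N1806 F12565) (tt N2370 D3636) (tt N1806 F12566) (tt N2356 (iv F17529)) (tt N2371 D3637))
theorem Q1808 : ∀ i, i < 1808 → P i := stepQ 1807 Q1807 (allL N1807 (tt N2370 (iv F17627)) (tt N1364 F12567) (tt N1807 F12568) (tt N1397 F12569) (tt N1807 F12570) (tt N2241 (iv F20229)) (tt N1363 (iv D2546)) (tt N2240 (iv F20223)) (tt N2357 (iv F17534)) (tt N2372 D3640))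
theorem Q1809 : ∀ i, i < 1809 → P i := stepQ 1808 Q1808 (allL N1808 (tt N2371 (iv F17631)) (tt N1365 F12571) (tt N1808 F12572) (tt N1398 F12573) (tt N1808 F12574) (tt N1808 F12575) (tt N2372 (iv F17650)) (tt N1808 F12576) (tt N2373 D3641) (tt N1363 (iv D2547)))
theorem Q1810 : ∀ i, i < 1810 → P i := stepQ 1809 Q1809 (allL N1809 (tt N2192 (iv F16163)) (tt N2372 (iv F17646)) (tt N1366 F12584) (tt N1401 F12585) (tt N1809 F12586) (tt N2246 (iv F20231)) (tt N1365 F12587) (tt N2245 (iv F20227)) (tt N2374 D3647) (tt N1364 (iv D2550)))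
theorem Q1811 : ∀ i, i < 1811 → P i := stepQ 1810 Q1810 (allL N1810 (tt N2193 (iv F16168)) (tt N2373 (iv F17651)) (tt N1367 F12588) (tt N1402 F12589) (tt N1810 F12590) (tt N2375 D3648) (tt N2374 (iv F17678)) (tt N1810 F12591) (tt N1365 (iv D2551)) (tt N2361 (iv F17555)))
theorem Q1812 : ∀ i, i < 1812 → P i := stepQ 1811 Q1811 (allL N1811 (tt N2194 (iv F16192)) (tt N1811 F12611) (tt N2374 (iv F17675)) (tt N1368 F12612) (tt N1811 F12613) (tt N2376 D3658) (tt N1367 F12614) (tt N2250 (iv F20233)) (tt N1366 (iv D2557)) (tt N2364 (iv F17577)))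
theorem Q1813 : ∀ i, i < 1813 → P i := stepQ 1812 Q1812 (allL N1812 (tt N2195 (iv F16196)) (tt N1812 F12615) (tt N2375 (iv F17679)) (tt N1369 F12616) (tt N2377 D3659) (tt N1367 (iv D2558)) (tt N2378 D3660) (tt N1812 F12617) (tt N1812 F12618) (tt N2365 (iv F17581)))
theorem Q1814 : ∀ i, i < 1814 → P i := stepQ 1813 Q1813 (allL N1813 (tt N2196 (iv F16227)) (tt N1813 F12646) (tt N1411 F12647) (tt N2376 (iv F17719)) (tt N2379 D3668) (tt N1368 (iv D2565)) (tt N2380 D3669) (tt N2256 (iv F20237)) (tt N2257 (iv F20239)) (tt N2367 (iv F17611)))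
theorem Q1815 : ∀ i, i < 1815 → P i := stepQ 1814 Q1814 (allL N1814 (tt N2197 (iv F16229)) (tt N1814 F12648) (tt N1412 F12649) (tt N2378 (iv F17726)) (tt N1814 F12650) (tt N2380 (iv F17763)) (tt N1369 (iv D2566)) (tt N2381 D3670) (tt N1814 F12651) (tt N2368 (iv F17615)))
theorem Q1816 : ∀ i, i < 1816 → P i := stepQ 1815 Q1815 (allL N1815 (tt N2198 (iv F16238)) (tt N1815 F12657) (tt N1414 F12658) (tt N2382 D3673) (tt N1370 (iv D2568)) (tt N2379 (iv F17760)) (tt N1815 F12659) (tt N2265 (iv F20272)) (tt N1371 F12660) (tt N2369 (iv F17626)))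
theorem Q1817 : ∀ i, i < 1817 → P i := stepQ 1816 Q1816 (allL N1816 (tt N2199 (iv F16353)) (tt N1816 F12772) (tt N2383 D3706) (tt N1371 (iv D2593)) (tt N1816 F12773) (tt N2269 (iv F20302)) (tt N1816 F12774) (tt N2267 (iv F20298)) (tt N2382 (iv F17782)) (tt N1816 F12775))
theorem Q1818 : ∀ i, i < 1818 → P i := stepQ 1817 Q1817 (allL N1817 (tt N2384 D3754) (tt N1372 (iv D2627)) (tt N1470 F12931) (tt N2342 (iv F17460)) (tt N1817 F12932) (tt N1381 F12933) (tt N2385 D3755) (tt N1817 F12934) (tt N1817 F12935) (tt N2386 D3756))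
theorem Q1819 : ∀ i, i < 1819 → P i := stepQ 1818 Q1818 (allL N1818 (tt N2201 (iv F16518)) (tt N2385 (iv F18157)) (tt N1373 F12936) (tt N2343 (iv F17465)) (tt N1818 F12937) (tt N2387 D3757) (tt N1372 (iv D2628)) (tt N2388 D3758) (tt N1818 F12938) (tt N2389 D3759))
theorem Q1820 : ∀ i, i < 1820 → P i := stepQ 1819 Q1819 (allL N1819 (tt N2202 (iv F16522)) (tt N2386 (iv F18161)) (tt N1374 F12939) (tt N2344 (iv F17468)) (tt N1819 F12940) (tt N1383 F12941) (tt N2389 (iv F18174)) (tt N1819 F12942) (tt N2390 D3760) (tt N1372 (iv D2629)))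
theorem Q1821 : ∀ i, i < 1821 → P i := stepQ 1820 Q1820 (allL N1820 (tt N2203 (iv F16527)) (tt N1473 F12943) (tt N2387 (iv F18166)) (tt N1375 F12944) (tt N2391 D3761) (tt N1373 (iv D2630)) (tt N1384 F12945) (tt N2392 D3762) (tt N2393 D3763) (tt N2394 D3764))
theorem Q1822 : ∀ i, i < 1822 → P i := stepQ 1821 Q1821 (allL N1821 (tt N2204 (iv F16531)) (tt N1474 F12946) (tt N2388 (iv F18168)) (tt N1376 F12947) (tt N1821 F12948) (tt N2392 (iv F18185)) (tt N1821 F12949) (tt N1373 (iv D2631)) (tt N1821 F12950) (tt N2395 D3765))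
theorem Q1823 : ∀ i, i < 1823 → P i := stepQ 1822 Q1822 (allL N1822 (tt N2205 (iv F16537)) (tt N1475 F12951) (tt N2389 (iv F18172)) (tt N1377 F12952) (tt N1822 F12953) (tt N2394 (iv F18192)) (tt N1374 F12954) (tt N2395 (iv F18198)) (tt N2396 D3766) (tt N1373 (iv D2632)))
theorem Q1824 : ∀ i, i < 1824 → P i := stepQ 1823 Q1823 (allL N1823 (tt N2206 (iv F16542)) (tt N1476 F12955) (tt N2390 (iv F18175)) (tt N1378 F12956) (tt N1823 F12957) (tt N2397 D3767) (tt N2396 (iv F18202)) (tt N1823 F12958) (tt N1374 (iv D2633)) (tt N1823 F12959))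
theorem Q1825 : ∀ i, i < 1825 → P i := stepQ 1824 Q1824 (allL N1824 (tt N2207 (iv F16548)) (tt N1477 F12960) (tt N2349 (iv F17486)) (tt N2392 (iv F18184)) (tt N1824 F12961) (tt N1376 F12962) (tt N2398 D3768) (tt N1375 (iv D2634)) (tt N2399 D3769) (tt N2400 D3770))
theorem Q1826 : ∀ i, i < 1826 → P i := stepQ 1825 Q1825 (allL N1825 (tt N2208 (iv F16552)) (tt N1478 F12963) (tt N2229 (iv F20213)) (tt N2393 (iv F18187)) (tt N1825 F12964) (tt N1825 F12965) (tt N1389 F12966) (tt N2399 (iv F18216)) (tt N1375 (iv D2635)) (tt N2401 D3771))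
theorem Q1827 : ∀ i, i < 1827 → P i := stepQ 1826 Q1826 (allL N1826 (tt N2209 (iv F16557)) (tt N1479 F12967) (tt N2350 (iv F17495)) (tt N2394 (iv F18191)) (tt N1826 F12968) (tt N1377 F12969) (tt N1390 F12970) (tt N2400 (iv F18220)) (tt N2402 D3772) (tt N1375 (iv D2636)))
theorem Q1828 : ∀ i, i < 1828 → P i := stepQ 1827 Q1827 (allL N1827 (tt N2210 (iv F16562)) (tt N1480 F12971) (tt N2351 (iv F17500)) (tt N2395 (iv F18195)) (tt N1379 F12972) (tt N2400 (iv F18219)) (tt N1827 F12973) (tt N1377 F12974) (tt N2403 D3773) (tt N1376 (iv D2637)))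
theorem Q1829 : ∀ i, i < 1829 → P i := stepQ 1828 Q1828 (allL N1828 (tt N2211 (iv F16567)) (tt N1481 F12975) (tt N2352 (iv F17505)) (tt N2396 (iv F18200)) (tt N1380 F12976) (tt N2404 D3774) (tt N1378 F12977) (tt N2403 (iv F18231)) (tt N1377 (iv D2638)) (tt N1828 F12978))
theorem Q1830 : ∀ i, i < 1830 → P i := stepQ 1829 Q1829 (allL N1829 (tt N2212 (iv F16572)) (tt N1482 F12979) (tt N2353 (iv F17510)) (tt N2397 (iv F18205)) (tt N1829 F12980) (tt N1378 (iv D2639)) (tt N2405 D3775) (tt N1829 F12981) (tt N1393 F12982) (tt N1829 F12983))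
theorem Q1831 : ∀ i, i < 1831 → P i := stepQ 1830 Q1830 (allL N1830 (tt N2213 (iv F16578)) (tt N1483 F12984) (tt N2354 (iv F17516)) (tt N1830 F12985) (tt N2403 (iv F18229)) (tt N2406 D3776) (tt N1830 F12986) (tt N1380 F12987) (tt N1379 (iv D2640)) (tt N1830 F12988))
theorem Q1832 : ∀ i, i < 1832 → P i := stepQ 1831 Q1831 (allL N1831 (tt N2214 (iv F16584)) (tt N1484 F12989) (tt N2355 (iv F17521)) (tt N1831 F12990) (tt N2407 D3777) (tt N1380 (iv D2641)) (tt N1831 F12991) (tt N2406 (iv F18241)) (tt N1831 F12992) (tt N1831 F12993))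
theorem Q1833 : ∀ i, i < 1833 → P i := stepQ 1832 Q1832 (allL N1832 (tt N1381 (iv D2642)) (tt N2215 (iv F16590)) (tt N1485 F12994) (tt N2356 (iv F17526)) (tt N1422 F12995) (tt N2384 (iv F18154)) (tt N2408 D3778) (tt N1832 F12996) (tt N1396 F12997) (tt N2409 D3779))
theorem Q1834 : ∀ i, i < 1834 → P i := stepQ 1833 Q1833 (allL N1833 (tt N2408 (iv F18248)) (tt N1382 F12998) (tt N1486 F12999) (tt N2357 (iv F17532)) (tt N1423 F13000) (tt N2410 D3780) (tt N1381 (iv D2643)) (tt N2411 D3781) (tt N1397 F13001) (tt N2412 D3782))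
theorem Q1835 : ∀ i, i < 1835 → P i := stepQ 1834 Q1834 (allL N1834 (tt N2409 (iv F18252)) (tt N1383 F13002) (tt N1487 F13003) (tt N2358 (iv F17537)) (tt N1424 F13004) (tt N2386 (iv F18164)) (tt N2412 (iv F18266)) (tt N1834 F13005) (tt N2413 D3783) (tt N1381 (iv D2644)))
theorem Q1836 : ∀ i, i < 1836 → P i := stepQ 1835 Q1835 (allL N1835 (tt N2218 (iv F16603)) (tt N2410 (iv F18256)) (tt N1384 F13006) (tt N2359 (iv F17541)) (tt N2414 D3784) (tt N1382 (iv D2645)) (tt N2387 (iv F18167)) (tt N2415 D3785) (tt N2416 D3786) (tt N2417 D3787))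
theorem Q1837 : ∀ i, i < 1837 → P i := stepQ 1836 Q1836 (allL N1836 (tt N2219 (iv F16605)) (tt N2411 (iv F18258)) (tt N1385 F13007) (tt N2244 (iv F20224)) (tt N1426 F13008) (tt N2415 (iv F18275)) (tt N1836 F13009) (tt N1382 (iv D2646)) (tt N1400 F13010) (tt N2418 D3788))
theorem Q1838 : ∀ i, i < 1838 → P i := stepQ 1837 Q1837 (allL N1837 (tt N2220 (iv F16610)) (tt N2412 (iv F18263)) (tt N1386 F13011) (tt N2360 (iv F17548)) (tt N1427 F13012) (tt N2417 (iv F18279)) (tt N1383 F13013) (tt N2418 (iv F18283)) (tt N2419 D3789) (tt N1382 (iv D2647)))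
theorem Q1839 : ∀ i, i < 1839 → P i := stepQ 1838 Q1838 (allL N1838 (tt N2221 (iv F16614)) (tt N2413 (iv F18267)) (tt N1387 F13014) (tt N2361 (iv F17552)) (tt N1428 F13015) (tt N2420 D3790) (tt N2419 (iv F18286)) (tt N1838 F13016) (tt N1383 (iv D2648)) (tt N1402 F13017))
theorem Q1840 : ∀ i, i < 1840 → P i := stepQ 1839 Q1839 (allL N1839 (tt N2222 (iv F16619)) (tt N1492 F13018) (tt N2414 (iv F18272)) (tt N1839 F13019) (tt N1384 (iv D2649)) (tt N1429 F13020) (tt N2391 (iv F18182)) (tt N2421 D3791) (tt N2422 D3792) (tt N2423 D3793))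
theorem Q1841 : ∀ i, i < 1841 → P i := stepQ 1840 Q1840 (allL N1840 (tt N2223 (iv F16623)) (tt N1493 F13021) (tt N2415 (iv F18274)) (tt N1388 F13022) (tt N2421 (iv F18293)) (tt N1385 F13023) (tt N2424 D3794) (tt N1384 (iv D2650)) (tt N2182 (iv F20183)) (tt N2425 D3796))
theorem Q1842 : ∀ i, i < 1842 → P i := stepQ 1841 Q1841 (allL N1841 (tt N2224 (iv F16627)) (tt N1494 F13024) (tt N2416 (iv F18276)) (tt N1389 F13025) (tt N2422 (iv F18297)) (tt N1403 F13026) (tt N2393 (iv F18189)) (tt N2182 (iv F20182)) (tt N1384 (iv D2651)) (tt N2426 D3797))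
theorem Q1843 : ∀ i, i < 1843 → P i := stepQ 1842 Q1842 (allL N1842 (tt N2225 (iv F16631)) (tt N1495 F13027) (tt N2417 (iv F18278)) (tt N1390 F13028) (tt N2423 (iv F18301)) (tt N1386 F13029) (tt N2394 (iv F18193)) (tt N2425 (iv F18313)) (tt N2427 D3798) (tt N1384 (iv D2652)))
theorem Q1844 : ∀ i, i < 1844 → P i := stepQ 1843 Q1843 (allL N1843 (tt N2226 (iv F16635)) (tt N1496 F13030) (tt N2418 (iv F18280)) (tt N1391 F13031) (tt N1432 F13032) (tt N2425 (iv F18312)) (tt N1843 F13033) (tt N1386 F13034) (tt N2428 D3799) (tt N1385 (iv D2653)))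
theorem Q1845 : ∀ i, i < 1845 → P i := stepQ 1844 Q1844 (allL N1844 (tt N2227 (iv F16641)) (tt N1497 F13035) (tt N2419 (iv F18284)) (tt N1392 F13036) (tt N1433 F13037) (tt N2429 D3800) (tt N1387 F13038) (tt N2428 (iv F18323)) (tt N1386 (iv D2654)) (tt N1406 F13039))
theorem Q1846 : ∀ i, i < 1846 → P i := stepQ 1845 Q1845 (allL N1845 (tt N2228 (iv F16647)) (tt N1498 F13040) (tt N2420 (iv F18288)) (tt N1393 F13041) (tt N2430 D3801) (tt N1387 (iv D2655)) (tt N2431 D3802) (tt N1845 F13042) (tt N2397 (iv F18207)) (tt N1407 F13043))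
theorem Q1847 : ∀ i, i < 1847 → P i := stepQ 1846 Q1846 (allL N1846 (tt N2229 (iv F16652)) (tt N1499 F13044) (tt N2208 (iv F20217)) (tt N2424 (iv F18304)) (tt N1846 F13045) (tt N1846 F13046) (tt N1388 (iv D2656)) (tt N2398 (iv F18212)) (tt N2173 (iv F20187)) (tt N2432 D3804))
theorem Q1848 : ∀ i, i < 1848 → P i := stepQ 1847 Q1847 (allL N1847 (tt N2230 (iv F16661)) (tt N1501 F13051) (tt N2231 (iv F20218)) (tt N2425 (iv F18311)) (tt N1847 F13052) (tt N1391 F13053) (tt N2432 (iv F18342)) (tt N1390 F13054) (tt N2433 D3806) (tt N1388 (iv D2658)))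
theorem Q1849 : ∀ i, i < 1849 → P i := stepQ 1848 Q1848 (allL N1848 (tt N2231 (iv F16666)) (tt N1502 F13055) (tt N2230 (iv F20215)) (tt N2426 (iv F18315)) (tt N1848 F13056) (tt N1408 F13057) (tt N2401 (iv F18224)) (tt N2185 (iv F20189)) (tt N2434 D3807) (tt N1389 (iv D2659)))
theorem Q1850 : ∀ i, i < 1850 → P i := stepQ 1849 Q1849 (allL N1849 (tt N2232 (iv F16670)) (tt N1503 F13058) (tt N2366 (iv F17601)) (tt N2427 (iv F18318)) (tt N1849 F13059) (tt N2435 D3808) (tt N2402 (iv F18227)) (tt N2433 (iv F18349)) (tt N1390 (iv D2660)) (tt N2434 (iv F18352)))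
theorem Q1851 : ∀ i, i < 1851 → P i := stepQ 1850 Q1850 (allL N1850 (tt N2233 (iv F16673)) (tt N1504 F13060) (tt N2255 (iv F20234)) (tt N2428 (iv F18320)) (tt N1394 F13061) (tt N2436 D3809) (tt N1850 F13062) (tt N1392 F13063) (tt N1391 (iv D2661)) (tt N1410 F13064))
theorem Q1852 : ∀ i, i < 1852 → P i := stepQ 1851 Q1851 (allL N1851 (tt N2234 (iv F16679)) (tt N1505 F13065) (tt N2367 (iv F17610)) (tt N2429 (iv F18326)) (tt N2437 D3810) (tt N1392 (iv D2662)) (tt N2438 D3811) (tt N2436 (iv F18356)) (tt N2435 (iv F18354)) (tt N1411 F13066))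
theorem Q1853 : ∀ i, i < 1853 → P i := stepQ 1852 Q1852 (allL N1852 (tt N2235 (iv F16682)) (tt N1506 F13067) (tt N2368 (iv F17613)) (tt N2431 (iv F18334)) (tt N1852 F13068) (tt N2438 (iv F18362)) (tt N1393 (iv D2663)) (tt N2439 D3812) (tt N2405 (iv F18237)) (tt N1412 F13069))
theorem Q1854 : ∀ i, i < 1854 → P i := stepQ 1853 Q1853 (allL N1853 (tt N2236 (iv F16686)) (tt N1507 F13070) (tt N2264 (iv F20265)) (tt N1441 F13071) (tt N2440 D3813) (tt N1394 (iv D2664)) (tt N2441 D3814) (tt N1395 F13072) (tt N1853 F13073) (tt N1413 F13074))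
theorem Q1855 : ∀ i, i < 1855 → P i := stepQ 1854 Q1854 (allL N1854 (tt N2237 (iv F16692)) (tt N1508 F13075) (tt N2369 (iv F17623)) (tt N2442 D3815) (tt N1395 (iv D2665)) (tt N2437 (iv F18359)) (tt N1854 F13076) (tt N2440 (iv F18369)) (tt N1854 F13077) (tt N1414 F13078))
theorem Q1856 : ∀ i, i < 1856 → P i := stepQ 1855 Q1855 (allL N1855 (tt N1397 F13079) (tt N2238 (iv F16698)) (tt N1509 F13080) (tt N2370 (iv F17629)) (tt N1443 F13081) (tt N2443 D3816) (tt N1396 (iv D2666)) (tt N2444 D3817) (tt N2408 (iv F18251)) (tt N2445 D3818))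
theorem Q1857 : ∀ i, i < 1857 → P i := stepQ 1856 Q1856 (allL N1856 (tt N1398 F13082) (tt N2239 (iv F16702)) (tt N1510 F13083) (tt N2371 (iv F17633)) (tt N1444 F13084) (tt N1856 F13085) (tt N2445 (iv F18394)) (tt N1856 F13086) (tt N2446 D3819) (tt N1396 (iv D2667)))
theorem Q1858 : ∀ i, i < 1858 → P i := stepQ 1857 Q1857 (allL N1857 (tt N2443 (iv F18383)) (tt N1399 F13087) (tt N1511 F13088) (tt N2241 (iv F20228)) (tt N1857 F13089) (tt N1397 (iv D2668)) (tt N1857 F13090) (tt N2190 (iv F20199)) (tt N2447 D3821) (tt N2448 D3822))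
theorem Q1859 : ∀ i, i < 1859 → P i := stepQ 1858 Q1858 (allL N1858 (tt N2444 (iv F18387)) (tt N1400 F13091) (tt N1512 F13092) (tt N2240 (iv F20222)) (tt N1445 F13093) (tt N2190 (iv F20198)) (tt N1858 F13094) (tt N1397 (iv D2669)) (tt N2411 (iv F18262)) (tt N2449 D3823))
theorem Q1860 : ∀ i, i < 1860 → P i := stepQ 1859 Q1859 (allL N1859 (tt N2445 (iv F18391)) (tt N1401 F13095) (tt N1513 F13096) (tt N2372 (iv F17648)) (tt N1446 F13097) (tt N2448 (iv F18410)) (tt N1398 F13098) (tt N2449 (iv F18416)) (tt N2450 D3824) (tt N1397 (iv D2670)))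
theorem Q1861 : ∀ i, i < 1861 → P i := stepQ 1860 Q1860 (allL N1860 (tt N2446 (iv F18395)) (tt N1402 F13099) (tt N1514 F13100) (tt N2373 (iv F17653)) (tt N1447 F13101) (tt N2451 D3825) (tt N2450 (iv F18420)) (tt N1860 F13102) (tt N1398 (iv D2671)) (tt N2413 (iv F18271)))
theorem Q1862 : ∀ i, i < 1862 → P i := stepQ 1861 Q1861 (allL N1861 (tt N2244 (iv F16727)) (tt N2447 (iv F18403)) (tt N1403 F13106) (tt N2219 (iv F20211)) (tt N1861 F13107) (tt N2416 (iv F18277)) (tt N1861 F13108) (tt N2180 (iv F20180)) (tt N1399 (iv D2673)) (tt N2452 D3829))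
theorem Q1863 : ∀ i, i < 1863 → P i := stepQ 1862 Q1862 (allL N1862 (tt N2245 (iv F16731)) (tt N2448 (iv F18407)) (tt N1404 F13109) (tt N2246 (iv F20230)) (tt N1862 F13110) (tt N1401 F13111) (tt N1862 F13112) (tt N2192 (iv F20201)) (tt N2453 D3830) (tt N1399 (iv D2674)))
theorem Q1864 : ∀ i, i < 1864 → P i := stepQ 1863 Q1863 (allL N1863 (tt N2246 (iv F16736)) (tt N2449 (iv F18412)) (tt N1405 F13113) (tt N2245 (iv F20226)) (tt N1448 F13114) (tt N2192 (iv F20200)) (tt N1863 F13115) (tt N1401 F13116) (tt N2454 D3831) (tt N1400 (iv D2675)))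
theorem Q1865 : ∀ i, i < 1865 → P i := stepQ 1864 Q1864 (allL N1864 (tt N2247 (iv F16741)) (tt N2450 (iv F18417)) (tt N1406 F13117) (tt N2374 (iv F17676)) (tt N1449 F13118) (tt N2455 D3832) (tt N1402 F13119) (tt N2454 (iv F18445)) (tt N1401 (iv D2676)) (tt N2419 (iv F18287)))
theorem Q1866 : ∀ i, i < 1866 → P i := stepQ 1865 Q1865 (allL N1865 (tt N2248 (iv F16745)) (tt N2451 (iv F18421)) (tt N1407 F13120) (tt N2375 (iv F17680)) (tt N2456 D3833) (tt N1402 (iv D2677)) (tt N2457 D3834) (tt N1865 F13121) (tt N1865 F13122) (tt N2420 (iv F18290)))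
theorem Q1867 : ∀ i, i < 1867 → P i := stepQ 1866 Q1866 (allL N1866 (tt N2249 (iv F16766)) (tt N1523 F13137) (tt N2452 (iv F18436)) (tt N1408 F13138) (tt N1866 F13139) (tt N2426 (iv F18316)) (tt N1866 F13140) (tt N2183 (iv F20185)) (tt N2458 D3839) (tt N1403 (iv D2681)))
theorem Q1868 : ∀ i, i < 1868 → P i := stepQ 1867 Q1867 (allL N1867 (tt N2250 (iv F16771)) (tt N1524 F13141) (tt N2453 (iv F18439)) (tt N1409 F13142) (tt N1867 F13143) (tt N2459 D3840) (tt N1867 F13144) (tt N2194 (iv F20203)) (tt N1404 (iv D2682)) (tt N2458 (iv F18476)))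
theorem Q1869 : ∀ i, i < 1869 → P i := stepQ 1868 Q1868 (allL N1868 (tt N2251 (iv F16776)) (tt N1525 F13145) (tt N2454 (iv F18442)) (tt N1410 F13146) (tt N1451 F13147) (tt N2460 D3841) (tt N1868 F13148) (tt N1406 F13149) (tt N1405 (iv D2683)) (tt N2428 (iv F18324)))
theorem Q1870 : ∀ i, i < 1870 → P i := stepQ 1869 Q1869 (allL N1869 (tt N2252 (iv F16782)) (tt N1526 F13150) (tt N2455 (iv F18446)) (tt N1411 F13151) (tt N2461 D3842) (tt N1406 (iv D2684)) (tt N2462 D3843) (tt N2460 (iv F18482)) (tt N2459 (iv F18479)) (tt N2429 (iv F18327)))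
theorem Q1871 : ∀ i, i < 1871 → P i := stepQ 1870 Q1870 (allL N1870 (tt N2253 (iv F16785)) (tt N1527 F13152) (tt N2456 (iv F18447)) (tt N1870 F13153) (tt N1407 (iv D2685)) (tt N1453 F13154) (tt N2463 D3844) (tt N1870 F13155) (tt N1870 F13156) (tt N2430 (iv F18332)))
theorem Q1872 : ∀ i, i < 1872 → P i := stepQ 1871 Q1871 (allL N1871 (tt N2254 (iv F16791)) (tt N1528 F13157) (tt N2457 (iv F18451)) (tt N1412 F13158) (tt N2463 (iv F18490)) (tt N2462 (iv F18487)) (tt N1407 (iv D2686)) (tt N2464 D3845) (tt N1871 F13159) (tt N2431 (iv F18335)))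
theorem Q1873 : ∀ i, i < 1873 → P i := stepQ 1872 Q1872 (allL N1872 (tt N2255 (iv F16814)) (tt N1531 F13175) (tt N2233 (iv F20220)) (tt N2458 (iv F18473)) (tt N1415 F13176) (tt N2465 D3851) (tt N1872 F13177) (tt N2186 (iv F20191)) (tt N1408 (iv D2691)) (tt N1409 F13178))
theorem Q1874 : ∀ i, i < 1874 → P i := stepQ 1873 Q1873 (allL N1873 (tt N2256 (iv F16819)) (tt N1532 F13179) (tt N2257 (iv F20238)) (tt N2459 (iv F18478)) (tt N2466 D3852) (tt N1409 (iv D2692)) (tt N2467 D3853) (tt N2196 (iv F20205)) (tt N1411 F13180) (tt N2465 (iv F18515)))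
theorem Q1875 : ∀ i, i < 1875 → P i := stepQ 1874 Q1874 (allL N1874 (tt N2257 (iv F16822)) (tt N1533 F13181) (tt N2256 (iv F20236)) (tt N2460 (iv F18481)) (tt N2468 D3854) (tt N1410 (iv D2693)) (tt N2469 D3855) (tt N1411 F13182) (tt N2196 (iv F20206)) (tt N2436 (iv F18357)))
theorem Q1876 : ∀ i, i < 1876 → P i := stepQ 1875 Q1875 (allL N1875 (tt N2258 (iv F16825)) (tt N1534 F13183) (tt N2379 (iv F17759)) (tt N2470 D3856) (tt N1411 (iv D2694)) (tt N1414 F13184) (tt N2471 D3857) (tt N2468 (iv F18524)) (tt N2466 (iv F18518)) (tt N2437 (iv F18360)))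
theorem Q1877 : ∀ i, i < 1877 → P i := stepQ 1876 Q1876 (allL N1876 (tt N2259 (iv F16828)) (tt N1535 F13185) (tt N2380 (iv F17762)) (tt N2462 (iv F18486)) (tt N2471 (iv F18530)) (tt N1412 F13186) (tt N1411 (iv D2695)) (tt N2472 D3858) (tt N2467 (iv F18521)) (tt N2438 (iv F18363)))
theorem Q1878 : ∀ i, i < 1878 → P i := stepQ 1877 Q1877 (allL N1877 (tt N2260 (iv F16831)) (tt N1536 F13187) (tt N2381 (iv F17765)) (tt N2464 (iv F18493)) (tt N1877 F13188) (tt N2472 (iv F18533)) (tt N1877 F13189) (tt N1412 (iv D2696)) (tt N1877 F13190) (tt N2439 (iv F18367)))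
theorem Q1879 : ∀ i, i < 1879 → P i := stepQ 1878 Q1878 (allL N1878 (tt N2261 (iv F16836)) (tt N1537 F13191) (tt N2265 (iv F20271)) (tt N2473 D3859) (tt N1413 (iv D2697)) (tt N2468 (iv F18523)) (tt N2474 D3860) (tt N1414 F13192) (tt N1419 F13193) (tt N2440 (iv F18371)))
theorem Q1880 : ∀ i, i < 1880 → P i := stepQ 1879 Q1879 (allL N1879 (tt N2262 (iv F16840)) (tt N1538 F13194) (tt N2266 (iv F20273)) (tt N1460 F13195) (tt N2474 (iv F18539)) (tt N1879 F13196) (tt N1413 (iv D2698)) (tt N1879 F13197) (tt N1420 F13198) (tt N2441 (iv F18377)))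
theorem Q1881 : ∀ i, i < 1881 → P i := stepQ 1880 Q1880 (allL N1880 (tt N2263 (iv F16846)) (tt N1539 F13199) (tt N2475 D3861) (tt N1414 (iv D2699)) (tt N1461 F13200) (tt N2470 (iv F18528)) (tt N1880 F13201) (tt N2473 (iv F18536)) (tt N1421 F13202) (tt N2442 (iv F18382)))
theorem Q1882 : ∀ i, i < 1882 → P i := stepQ 1881 Q1881 (allL N1881 (tt N2264 (iv F16877)) (tt N1542 F13224) (tt N2236 (iv F20221)) (tt N1881 F13225) (tt N2476 D3869) (tt N1415 (iv D2705)) (tt N2477 D3870) (tt N2188 (iv F20195)) (tt N1881 F13226) (tt N1416 F13227))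
theorem Q1883 : ∀ i, i < 1883 → P i := stepQ 1882 Q1882 (allL N1882 (tt N2265 (iv F16882)) (tt N1543 F13228) (tt N2261 (iv F20240)) (tt N2478 D3871) (tt N1416 (iv D2706)) (tt N2466 (iv F18517)) (tt N2479 D3872) (tt N2198 (iv F20210)) (tt N1417 F13229) (tt N2476 (iv F18576)))
theorem Q1884 : ∀ i, i < 1884 → P i := stepQ 1883 Q1883 (allL N1883 (tt N2266 (iv F16885)) (tt N1544 F13230) (tt N2262 (iv F20241)) (tt N1883 F13231) (tt N2479 (iv F18586)) (tt N1883 F13232) (tt N1416 (iv D2707)) (tt N1883 F20321) (tt N1418 F13233) (tt N2477 (iv F18581)))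
theorem Q1885 : ∀ i, i < 1885 → P i := stepQ 1884 Q1884 (allL N1884 (tt N2267 (iv F16900)) (tt N1546 F13242) (tt N2480 D3877) (tt N1417 (iv D2710)) (tt N1884 F13243) (tt N1421 F13244) (tt N2481 D3878) (tt N2199 (iv F20297)) (tt N2478 (iv F18584)) (tt N1884 F13245))
theorem Q1886 : ∀ i, i < 1886 → P i := stepQ 1885 Q1885 (allL N1885 (tt N2268 (iv F16905)) (tt N1547 F13246) (tt N2270 (iv F20303)) (tt N2481 (iv F18609)) (tt N1418 F13247) (tt N1885 F13248) (tt N1417 (iv D2711)) (tt N1885 F20320) (tt N2479 (iv F18587)) (tt N1885 F13249))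
theorem Q1887 : ∀ i, i < 1887 → P i := stepQ 1886 Q1886 (allL N1886 (tt N2269 (iv F16915)) (tt N1548 F13254) (tt N2482 D3880) (tt N1419 (iv D2713)) (tt N1462 F13255) (tt N2199 (iv F20296)) (tt N1603 F131006) (tt N1421 F13256) (tt N2473 (iv F18537)) (tt N1886 F13257))
theorem Q1888 : ∀ i, i < 1888 → P i := stepQ 1887 Q1887 (allL N1887 (tt N2270 (iv F16920)) (tt N1549 F13258) (tt N2268 (iv F20299)) (tt N1603 F131015) (tt N1420 F13259) (tt N1887 F20330) (tt N1419 (iv D2714)) (tt N1887 F13260) (tt N2474 (iv F18541)) (tt N1887 F13261))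
theorem Q1889 : ∀ i, i < 1889 → P i := stepQ 1888 Q1888 (allL N1888 (tt N2271 (iv F16925)) (tt N2483 D3883) (tt N1421 (iv D2715)) (tt N2383 (iv F17925)) (tt N1463 F13262) (tt N2480 (iv F18606)) (tt N1888 F13263) (tt N2482 (iv F18618)) (tt N2475 (iv F18544)) (tt N1888 F13264))
theorem Q1890 : ∀ i, i < 1890 → P i := stepQ 1889 Q1889 (allL N1889 (tt N1423 F13357) (tt N2272 (iv F17043)) (tt N1551 F13358) (tt N1889 F13359) (tt N2408 (iv F18250)) (tt N2484 D3914) (tt N1422 (iv D2738)) (tt N2485 D3915) (tt N1443 F13360) (tt N2486 D3916))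
theorem Q1891 : ∀ i, i < 1891 → P i := stepQ 1890 Q1890 (allL N1890 (tt N1424 F13361) (tt N2273 (iv F17048)) (tt N1552 F13362) (tt N1890 F13363) (tt N2409 (iv F18254)) (tt N1890 F13364) (tt N2486 (iv F18769)) (tt N1890 F13365) (tt N2487 D3917) (tt N1422 (iv D2739)))
theorem Q1892 : ∀ i, i < 1892 → P i := stepQ 1891 Q1891 (allL N1891 (tt N2484 (iv F18756)) (tt N1425 F13366) (tt N1553 F13367) (tt N1891 F13368) (tt N2488 D3918) (tt N1423 (iv D2740)) (tt N1891 F13369) (tt N2489 D3919) (tt N1891 F13370) (tt N2490 D3920))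
theorem Q1893 : ∀ i, i < 1893 → P i := stepQ 1892 Q1892 (allL N1892 (tt N2485 (iv F18761)) (tt N1426 F13371) (tt N1554 F13372) (tt N1892 F13373) (tt N2411 (iv F18260)) (tt N2489 (iv F18782)) (tt N1892 F13374) (tt N1423 (iv D2741)) (tt N1445 F13375) (tt N2491 D3921))
theorem Q1894 : ∀ i, i < 1894 → P i := stepQ 1893 Q1893 (allL N1893 (tt N2486 (iv F18766)) (tt N1427 F13376) (tt N1555 F13377) (tt N1893 F13378) (tt N2412 (iv F18265)) (tt N2490 (iv F18787)) (tt N1424 F13379) (tt N2491 (iv F18793)) (tt N2492 D3922) (tt N1423 (iv D2742)))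
theorem Q1895 : ∀ i, i < 1895 → P i := stepQ 1894 Q1894 (allL N1894 (tt N2487 (iv F18770)) (tt N1428 F13380) (tt N1556 F13381) (tt N1894 F13382) (tt N2413 (iv F18269)) (tt N2493 D3923) (tt N2492 (iv F18797)) (tt N1894 F13383) (tt N1424 (iv D2743)) (tt N1447 F13384))
theorem Q1896 : ∀ i, i < 1896 → P i := stepQ 1895 Q1895 (allL N1895 (tt N2278 (iv F17072)) (tt N2488 (iv F18775)) (tt N1429 F13385) (tt N2494 D3924) (tt N1425 (iv D2744)) (tt N2414 (iv F18273)) (tt N1895 F13386) (tt N2495 D3925) (tt N1895 F13387) (tt N2496 D3926))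
theorem Q1897 : ∀ i, i < 1897 → P i := stepQ 1896 Q1896 (allL N1896 (tt N2279 (iv F17076)) (tt N2489 (iv F18779)) (tt N1430 F13388) (tt N1896 F13389) (tt N2495 (iv F18810)) (tt N1426 F13390) (tt N2497 D3927) (tt N1425 (iv D2745)) (tt N1896 F13391) (tt N2498 D3928))
theorem Q1898 : ∀ i, i < 1898 → P i := stepQ 1897 Q1897 (allL N1897 (tt N2280 (iv F17081)) (tt N2490 (iv F18784)) (tt N1431 F13392) (tt N1897 F13393) (tt N2496 (iv F18813)) (tt N1427 F13394) (tt N1897 F13395) (tt N2498 (iv F18823)) (tt N2499 D3929) (tt N1425 (iv D2746)))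
theorem Q1899 : ∀ i, i < 1899 → P i := stepQ 1898 Q1898 (allL N1898 (tt N2281 (iv F17086)) (tt N2491 (iv F18789)) (tt N1432 F13396) (tt N1898 F13397) (tt N2418 (iv F18281)) (tt N2498 (iv F18822)) (tt N1898 F13398) (tt N1427 F13399) (tt N2500 D3930) (tt N1426 (iv D2747)))
theorem Q1900 : ∀ i, i < 1900 → P i := stepQ 1899 Q1899 (allL N1899 (tt N2282 (iv F17091)) (tt N2492 (iv F18794)) (tt N1433 F13400) (tt N1899 F13401) (tt N2419 (iv F18285)) (tt N2501 D3931) (tt N1428 F13402) (tt N2500 (iv F18831)) (tt N1427 (iv D2748)) (tt N1449 F13403))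
theorem Q1901 : ∀ i, i < 1901 → P i := stepQ 1900 Q1900 (allL N1900 (tt N2283 (iv F17096)) (tt N2493 (iv F18799)) (tt N1434 F13404) (tt N1900 F13405) (tt N2502 D3932) (tt N1428 (iv D2749)) (tt N2503 D3933) (tt N1900 F13406) (tt N1900 F13407) (tt N1450 F13408))
theorem Q1902 : ∀ i, i < 1902 → P i := stepQ 1901 Q1901 (allL N1901 (tt N2284 (iv F17102)) (tt N1563 F13409) (tt N2495 (iv F18809)) (tt N1901 F13410) (tt N1430 F13411) (tt N2421 (iv F18294)) (tt N2504 D3934) (tt N1429 (iv D2750)) (tt N1901 F13412) (tt N2505 D3935))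
theorem Q1903 : ∀ i, i < 1903 → P i := stepQ 1902 Q1902 (allL N1902 (tt N2285 (iv F17107)) (tt N1564 F13413) (tt N2496 (iv F18812)) (tt N1902 F13414) (tt N1431 F13415) (tt N2423 (iv F18302)) (tt N1902 F13416) (tt N2505 (iv F18852)) (tt N2506 D3936) (tt N1429 (iv D2751)))
theorem Q1904 : ∀ i, i < 1904 → P i := stepQ 1903 Q1903 (allL N1903 (tt N2286 (iv F17112)) (tt N1565 F13417) (tt N2497 (iv F18815)) (tt N1435 F13418) (tt N2504 (iv F18846)) (tt N1903 F13419) (tt N1430 (iv D2752)) (tt N1903 F13420) (tt N1903 F13421) (tt N2507 D3937))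
theorem Q1905 : ∀ i, i < 1905 → P i := stepQ 1904 Q1904 (allL N1904 (tt N2287 (iv F17118)) (tt N1566 F13422) (tt N2498 (iv F18820)) (tt N1436 F13423) (tt N2505 (iv F18851)) (tt N1432 F13424) (tt N2507 (iv F18861)) (tt N1431 F13425) (tt N2508 D3938) (tt N1430 (iv D2753)))
theorem Q1906 : ∀ i, i < 1906 → P i := stepQ 1905 Q1905 (allL N1905 (tt N2288 (iv F17123)) (tt N1567 F13426) (tt N2499 (iv F18824)) (tt N1437 F13427) (tt N2506 (iv F18855)) (tt N2509 D3939) (tt N1905 F13428) (tt N2508 (iv F18865)) (tt N1431 (iv D2754)) (tt N1905 F13429))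
theorem Q1907 : ∀ i, i < 1907 → P i := stepQ 1906 Q1906 (allL N1906 (tt N2289 (iv F17128)) (tt N1568 F13430) (tt N2500 (iv F18828)) (tt N1438 F13431) (tt N2428 (iv F18321)) (tt N2510 D3940) (tt N1906 F13432) (tt N1433 F13433) (tt N1432 (iv D2755)) (tt N1451 F13434))
theorem Q1908 : ∀ i, i < 1908 → P i := stepQ 1907 Q1907 (allL N1907 (tt N2290 (iv F17134)) (tt N1569 F13435) (tt N2501 (iv F18833)) (tt N1439 F13436) (tt N2511 D3941) (tt N1433 (iv D2756)) (tt N2512 D3942) (tt N2510 (iv F18873)) (tt N2509 (iv F18869)) (tt N1452 F13437))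
theorem Q1909 : ∀ i, i < 1909 → P i := stepQ 1908 Q1908 (allL N1908 (tt N2291 (iv F17138)) (tt N1570 F13438) (tt N2502 (iv F18836)) (tt N1908 F13439) (tt N1434 (iv D2757)) (tt N2430 (iv F18330)) (tt N2513 D3943) (tt N1908 F13440) (tt N1908 F13441) (tt N1453 F13442))
theorem Q1910 : ∀ i, i < 1910 → P i := stepQ 1909 Q1909 (allL N1909 (tt N2292 (iv F17144)) (tt N1571 F13443) (tt N2503 (iv F18840)) (tt N1440 F13444) (tt N2513 (iv F18883)) (tt N2512 (iv F18879)) (tt N1434 (iv D2758)) (tt N2514 D3944) (tt N1909 F13445) (tt N1454 F13446))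
theorem Q1911 : ∀ i, i < 1911 → P i := stepQ 1910 Q1910 (allL N1910 (tt N2293 (iv F17149)) (tt N1572 F13447) (tt N1910 F13448) (tt N2507 (iv F18859)) (tt N1910 F13449) (tt N1910 F13450) (tt N1436 F13451) (tt N1910 F13452) (tt N2515 D3945) (tt N1435 (iv D2759)))
theorem Q1912 : ∀ i, i < 1912 → P i := stepQ 1911 Q1911 (allL N1911 (tt N2294 (iv F17156)) (tt N1573 F13453) (tt N1911 F13454) (tt N2508 (iv F18864)) (tt N1911 F13455) (tt N2516 D3946) (tt N2515 (iv F18894)) (tt N1437 F13456) (tt N1436 (iv D2760)) (tt N1911 F13457))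
theorem Q1913 : ∀ i, i < 1913 → P i := stepQ 1912 Q1912 (allL N1912 (tt N2295 (iv F17162)) (tt N1574 F13458) (tt N1912 F13459) (tt N2509 (iv F18868)) (tt N2517 D3947) (tt N1437 (iv D2761)) (tt N2518 D3948) (tt N2516 (iv F18899)) (tt N1439 F13460) (tt N1912 F13461))
theorem Q1914 : ∀ i, i < 1914 → P i := stepQ 1913 Q1913 (allL N1913 (tt N2296 (iv F17167)) (tt N1575 F13462) (tt N1913 F13463) (tt N2510 (iv F18872)) (tt N2519 D3949) (tt N1438 (iv D2762)) (tt N2520 D3950) (tt N1439 F13464) (tt N2516 (iv F18900)) (tt N1455 F13465))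
theorem Q1915 : ∀ i, i < 1915 → P i := stepQ 1914 Q1914 (allL N1914 (tt N2297 (iv F17172)) (tt N1576 F13466) (tt N1914 F13467) (tt N2521 D3951) (tt N1439 (iv D2763)) (tt N1442 F13468) (tt N2522 D3952) (tt N2519 (iv F18915)) (tt N2517 (iv F18905)) (tt N1456 F13469))
theorem Q1916 : ∀ i, i < 1916 → P i := stepQ 1915 Q1915 (allL N1915 (tt N2298 (iv F17177)) (tt N1577 F13470) (tt N1915 F13471) (tt N2512 (iv F18878)) (tt N2522 (iv F18926)) (tt N1440 F13472) (tt N1439 (iv D2764)) (tt N2523 D3953) (tt N2518 (iv F18910)) (tt N1457 F13473))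
theorem Q1917 : ∀ i, i < 1917 → P i := stepQ 1916 Q1916 (allL N1916 (tt N2299 (iv F17182)) (tt N1578 F13474) (tt N1916 F13475) (tt N2514 (iv F18887)) (tt N1916 F13476) (tt N2523 (iv F18931)) (tt N1916 F13477) (tt N1440 (iv D2765)) (tt N1916 F13478) (tt N1458 F13479))
theorem Q1918 : ∀ i, i < 1918 → P i := stepQ 1917 Q1917 (allL N1917 (tt N2300 (iv F17189)) (tt N1579 F13480) (tt N1917 F13481) (tt N2524 D3954) (tt N1441 (iv D2766)) (tt N2519 (iv F18914)) (tt N1614 F131634) (tt N1442 F13482) (tt N1917 F13483) (tt N1459 F13484))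
theorem Q1919 : ∀ i, i < 1919 → P i := stepQ 1918 Q1918 (allL N1918 (tt N2301 (iv F17195)) (tt N1580 F13485) (tt N1918 F13486) (tt N2441 (iv F18373)) (tt N1614 F131635) (tt N1918 F13487) (tt N1441 (iv D2767)) (tt N1918 F13488) (tt N1918 F13489) (tt N1460 F13490))
theorem Q1920 : ∀ i, i < 1920 → P i := stepQ 1919 Q1919 (allL N1919 (tt N2302 (iv F17202)) (tt N1581 F13491) (tt N2525 D3956) (tt N1442 (iv D2768)) (tt N2442 (iv F18379)) (tt N2521 (iv F18922)) (tt N1919 F13492) (tt N2524 (iv F18934)) (tt N1919 F13493) (tt N1461 F13494))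
theorem Q1921 : ∀ i, i < 1921 → P i := stepQ 1920 Q1920 (allL N1920 (tt N1445 F13495) (tt N2303 (iv F17208)) (tt N1582 F13496) (tt N1920 F13497) (tt N2444 (iv F18389)) (tt N1920 F13498) (tt N1920 F13499) (tt N1443 (iv D2769)) (tt N2485 (iv F18765)) (tt N2526 D3957))
theorem Q1922 : ∀ i, i < 1922 → P i := stepQ 1921 Q1921 (allL N1921 (tt N1446 F13500) (tt N2304 (iv F17214)) (tt N1583 F13501) (tt N1921 F13502) (tt N2445 (iv F18393)) (tt N1921 F13503) (tt N1444 F13504) (tt N2526 (iv F18952)) (tt N2527 D3958) (tt N1443 (iv D2770)))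
theorem Q1923 : ∀ i, i < 1923 → P i := stepQ 1922 Q1922 (allL N1922 (tt N1447 F13505) (tt N2305 (iv F17220)) (tt N1584 F13506) (tt N1922 F13507) (tt N2446 (iv F18397)) (tt N2528 D3959) (tt N2527 (iv F18956)) (tt N1922 F13508) (tt N1444 (iv D2771)) (tt N2487 (iv F18774)))
theorem Q1924 : ∀ i, i < 1924 → P i := stepQ 1923 Q1923 (allL N1923 (tt N2526 (iv F18947)) (tt N1448 F13509) (tt N1585 F13510) (tt N1923 F13511) (tt N2449 (iv F18414)) (tt N1923 F13512) (tt N1923 F13513) (tt N1446 F13514) (tt N2529 D3960) (tt N1445 (iv D2772)))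
theorem Q1925 : ∀ i, i < 1925 → P i := stepQ 1924 Q1924 (allL N1924 (tt N2527 (iv F18953)) (tt N1449 F13515) (tt N1586 F13516) (tt N1924 F13517) (tt N2450 (iv F18419)) (tt N2530 D3961) (tt N1447 F13518) (tt N2529 (iv F18966)) (tt N1446 (iv D2773)) (tt N2492 (iv F18798)))
theorem Q1926 : ∀ i, i < 1926 → P i := stepQ 1925 Q1925 (allL N1925 (tt N2528 (iv F18957)) (tt N1450 F13519) (tt N1587 F13520) (tt N1925 F13521) (tt N2531 D3962) (tt N1447 (iv D2774)) (tt N2532 D3963) (tt N1925 F13522) (tt N1465 F13523) (tt N2493 (iv F18804)))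
theorem Q1927 : ∀ i, i < 1927 → P i := stepQ 1926 Q1926 (allL N1926 (tt N2309 (iv F17239)) (tt N2529 (iv F18962)) (tt N1451 F13524) (tt N1926 F13525) (tt N2454 (iv F18443)) (tt N2533 D3964) (tt N1926 F13526) (tt N1449 F13527) (tt N1448 (iv D2775)) (tt N2500 (iv F18832)))
theorem Q1928 : ∀ i, i < 1928 → P i := stepQ 1927 Q1927 (allL N1927 (tt N2310 (iv F17244)) (tt N2530 (iv F18967)) (tt N1452 F13528) (tt N1927 F13529) (tt N2534 D3965) (tt N1449 (iv D2776)) (tt N2535 D3966) (tt N2533 (iv F18981)) (tt N1927 F13530) (tt N2501 (iv F18835)))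
theorem Q1929 : ∀ i, i < 1929 → P i := stepQ 1928 Q1928 (allL N1928 (tt N2311 (iv F17248)) (tt N2531 (iv F18971)) (tt N1453 F13531) (tt N2536 D3967) (tt N1450 (iv D2777)) (tt N2456 (iv F18448)) (tt N2537 D3968) (tt N1928 F13532) (tt N1466 F13533) (tt N2502 (iv F18839)))
theorem Q1930 : ∀ i, i < 1930 → P i := stepQ 1929 Q1929 (allL N1929 (tt N2312 (iv F17252)) (tt N2532 (iv F18975)) (tt N1454 F13534) (tt N1929 F13535) (tt N2537 (iv F18994)) (tt N2535 (iv F18987)) (tt N1450 (iv D2778)) (tt N2538 D3969) (tt N1467 F13536) (tt N2503 (iv F18843)))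
theorem Q1931 : ∀ i, i < 1931 → P i := stepQ 1930 Q1930 (allL N1930 (tt N2313 (iv F17256)) (tt N1592 F13537) (tt N2533 (iv F18979)) (tt N1455 F13538) (tt N2539 D3970) (tt N1451 (iv D2779)) (tt N2540 D3971) (tt N1452 F13539) (tt N1930 F13540) (tt N2510 (iv F18874)))
theorem Q1932 : ∀ i, i < 1932 → P i := stepQ 1931 Q1931 (allL N1931 (tt N2314 (iv F17261)) (tt N1593 F13541) (tt N2534 (iv F18983)) (tt N2541 D3972) (tt N1452 (iv D2780)) (tt N2461 (iv F18484)) (tt N2542 D3973) (tt N2539 (iv F19001)) (tt N1931 F13542) (tt N2511 (iv F18876)))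
theorem Q1933 : ∀ i, i < 1933 → P i := stepQ 1932 Q1932 (allL N1932 (tt N2315 (iv F17264)) (tt N1594 F13543) (tt N2535 (iv F18985)) (tt N1457 F13544) (tt N2542 (iv F19011)) (tt N1454 F13545) (tt N1452 (iv D2781)) (tt N2543 D3974) (tt N1932 F13546) (tt N2512 (iv F18880)))
theorem Q1934 : ∀ i, i < 1934 → P i := stepQ 1933 Q1933 (allL N1933 (tt N2316 (iv F17269)) (tt N1595 F13547) (tt N2537 (iv F18993)) (tt N1933 F13548) (tt N1454 F13549) (tt N2544 D3975) (tt N1453 (iv D2782)) (tt N2545 D3976) (tt N1468 F13550) (tt N2513 (iv F18885)))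
theorem Q1935 : ∀ i, i < 1935 → P i := stepQ 1934 Q1934 (allL N1934 (tt N2317 (iv F17274)) (tt N1596 F13551) (tt N2538 (iv F18996)) (tt N1458 F13552) (tt N2545 (iv F19021)) (tt N2543 (iv F19015)) (tt N1934 F13553) (tt N1454 (iv D2783)) (tt N1469 F13554) (tt N2514 (iv F18890)))
theorem Q1936 : ∀ i, i < 1936 → P i := stepQ 1935 Q1935 (allL N1935 (tt N2318 (iv F17279)) (tt N1597 F13555) (tt N1935 F13556) (tt N2546 D3977) (tt N1455 (iv D2784)) (tt N1459 F13557) (tt N1642 F131637) (tt N1456 F13558) (tt N1935 F13559) (tt N2519 (iv F18916)))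
theorem Q1937 : ∀ i, i < 1937 → P i := stepQ 1936 Q1936 (allL N1936 (tt N2319 (iv F17285)) (tt N1598 F13560) (tt N1936 F13561) (tt N2540 (iv F19004)) (tt N1642 F131636) (tt N1936 F13562) (tt N1455 (iv D2785)) (tt N2547 D3979) (tt N1936 F13563) (tt N2520 (iv F18920)))
theorem Q1938 : ∀ i, i < 1938 → P i := stepQ 1937 Q1937 (allL N1937 (tt N2320 (iv F17290)) (tt N1599 F13564) (tt N2548 D3980) (tt N1456 (iv D2786)) (tt N2541 (iv F19008)) (tt N1461 F13565) (tt N2549 D3981) (tt N2546 (iv F19026)) (tt N1937 F13566) (tt N2521 (iv F18923)))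
theorem Q1939 : ∀ i, i < 1939 → P i := stepQ 1938 Q1938 (allL N1938 (tt N2321 (iv F17294)) (tt N1600 F13567) (tt N1938 F13568) (tt N2549 (iv F19041)) (tt N1457 F13569) (tt N1938 F13570) (tt N1456 (iv D2787)) (tt N2550 D3982) (tt N1938 F13571) (tt N2522 (iv F18928)))
theorem Q1940 : ∀ i, i < 1940 → P i := stepQ 1939 Q1939 (allL N1939 (tt N2322 (iv F17300)) (tt N1601 F13572) (tt N1939 F13573) (tt N2543 (iv F19014)) (tt N2550 (iv F19046)) (tt N1458 F13574) (tt N2547 (iv F19035)) (tt N1457 (iv D2788)) (tt N1939 F13575) (tt N2523 (iv F18932)))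
theorem Q1941 : ∀ i, i < 1941 → P i := stepQ 1940 Q1940 (allL N1940 (tt N2323 (iv F17305)) (tt N1591 F131001) (tt N2532 F131002) (tt N1459 (iv D2789)) (tt N2473 (iv F18535)) (tt N2546 (iv F19025)) (tt N1587 F131003) (tt N1461 F13577) (tt N1462 F13578) (tt N2524 (iv F18936)))
theorem Q1942 : ∀ i, i < 1942 → P i := stepQ 1941 Q1941 (allL N1941 (tt N2324 (iv F17315)) (tt N2538 F131098) (tt N1461 (iv D2791)) (tt N1941 F13584) (tt N2475 (iv F18542)) (tt N2548 (iv F19038)) (tt N1941 F13585) (tt N2532 F131099) (tt N1463 F13586) (tt N2525 (iv F18946)))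
theorem Q1943 : ∀ i, i < 1943 → P i := stepQ 1942 Q1942 (allL N1942 (tt N2325 (iv F17319)) (tt N1467 (iv F130836)) (tt N1462 (iv D2792)) (tt N1942 F13587) (tt N2482 (iv F18617)) (tt N1942 F13588) (tt N1465 (iv F130834)) (tt N1463 F13589) (tt N2532 (iv F130832)) (tt N1942 F13590))
theorem Q1944 : ∀ i, i < 1944 → P i := stepQ 1943 Q1943 (allL N1943 (tt N2332 (iv F130838)) (tt N1463 (iv D2795)) (tt N1469 (iv F130755)) (tt N1943 F13602) (tt N2483 (iv F18630)) (tt N1943 F13603) (tt N1943 F13604) (tt N1467 (iv F130837)) (tt N2538 (iv F130833)) (tt N1943 F13605))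
theorem Q1945 : ∀ i, i < 1945 → P i := stepQ 1944 Q1944 (allL N1944 (tt N1465 F13633) (tt N2327 (iv F17373)) (tt N1602 F13634) (tt N1944 F13635) (tt N2551 D3998) (tt N1464 (iv D2801)) (tt N2325 (iv F130835)) (tt N1944 F13636) (tt N2528 (iv F18961)) (tt N1944 F13637))
theorem Q1946 : ∀ i, i < 1946 → P i := stepQ 1945 Q1945 (allL N1945 (tt N2551 (iv F19120)) (tt N1466 F13638) (tt N1603 F13639) (tt N2552 D4000) (tt N1465 (iv D2802)) (tt N1945 F13640) (tt N2482 F131014) (tt N1945 F13641) (tt N2531 (iv F18974)) (tt N1945 F13642))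
theorem Q1947 : ∀ i, i < 1947 → P i := stepQ 1946 Q1946 (allL N1946 (tt N2330 (iv F17388)) (tt N2552 (iv F19130)) (tt N1946 F13648) (tt N1466 (iv D2804)) (tt N1946 F13649) (tt N1946 F13650) (tt N2553 D4003) (tt N1946 F13651) (tt N2536 (iv F18992)) (tt N1946 F13652))
theorem Q1948 : ∀ i, i < 1948 → P i := stepQ 1947 Q1947 (allL N1947 (tt N2331 (iv F17394)) (tt N2482 F131101) (tt N1468 F13653) (tt N2553 (iv F19146)) (tt N1467 F13654) (tt N2554 D4004) (tt N1466 (iv D2805)) (tt N2483 F131102) (tt N2537 (iv F18995)) (tt N1947 F13655))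
theorem Q1949 : ∀ i, i < 1949 → P i := stepQ 1948 Q1948 (allL N1948 (tt N2333 (iv F17404)) (tt N1604 F13661) (tt N2554 (iv F19149)) (tt N1948 F13662) (tt N1948 F13663) (tt N1468 (iv D2807)) (tt N1948 F13664) (tt N2555 D4006) (tt N2556 D4007) (tt N1948 F13665))
theorem Q1950 : ∀ i, i < 1950 → P i := stepQ 1949 Q1949 (allL N1949 (tt N2334 (iv F17410)) (tt N1550 F131012) (tt N2483 F131013) (tt N1949 F13667) (tt N1469 F13668) (tt N2555 (iv F19160)) (tt N1949 F13669) (tt N1468 (iv D2808)) (tt N2545 (iv F19023)) (tt N1949 F13670))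
theorem Q1951 : ∀ i, i < 1951 → P i := stepQ 1950 Q1950 (allL N1950 (tt N1470 (iv D2809)) (tt N1950 F13671) (tt N2384 (iv F18152)) (tt N1950 F13672) (tt N1950 F13673) (tt N1485 F13674) (tt N2557 D4008) (tt N1950 F13675) (tt N1950 F13676) (tt N2558 D4009))
theorem Q1952 : ∀ i, i < 1952 → P i := stepQ 1951 Q1951 (allL N1951 (tt N2557 (iv F19166)) (tt N1471 F13677) (tt N2385 (iv F18158)) (tt N1951 F13678) (tt N1951 F13679) (tt N2559 D4010) (tt N1470 (iv D2810)) (tt N2560 D4011) (tt N1951 F13680) (tt N2561 D4012))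
theorem Q1953 : ∀ i, i < 1953 → P i := stepQ 1952 Q1952 (allL N1952 (tt N2558 (iv F19171)) (tt N1472 F13681) (tt N2386 (iv F18162)) (tt N1952 F13682) (tt N1952 F13683) (tt N1487 F13684) (tt N2561 (iv F19188)) (tt N1952 F13685) (tt N2562 D4013) (tt N1470 (iv D2811)))
theorem Q1954 : ∀ i, i < 1954 → P i := stepQ 1953 Q1953 (allL N1953 (tt N1953 F13686) (tt N2559 (iv F19177)) (tt N1473 F13687) (tt N1953 F13688) (tt N2563 D4014) (tt N1471 (iv D2812)) (tt N1488 F13689) (tt N2564 D4015) (tt N2565 D4016) (tt N2566 D4017))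
theorem Q1955 : ∀ i, i < 1955 → P i := stepQ 1954 Q1954 (allL N1954 (tt N1954 F13690) (tt N2560 (iv F19180)) (tt N1474 F13691) (tt N1954 F13692) (tt N1954 F13693) (tt N2564 (iv F19205)) (tt N1954 F13694) (tt N1471 (iv D2813)) (tt N1954 F13695) (tt N2567 D4018))
theorem Q1956 : ∀ i, i < 1956 → P i := stepQ 1955 Q1955 (allL N1955 (tt N1955 F13696) (tt N2561 (iv F19185)) (tt N1475 F13697) (tt N1955 F13698) (tt N1955 F13699) (tt N2566 (iv F19218)) (tt N1472 F13700) (tt N2567 (iv F19225)) (tt N2568 D4019) (tt N1471 (iv D2814)))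
theorem Q1957 : ∀ i, i < 1957 → P i := stepQ 1956 Q1956 (allL N1956 (tt N1956 F13701) (tt N2562 (iv F19189)) (tt N1476 F13702) (tt N1956 F13703) (tt N1956 F13704) (tt N2569 D4020) (tt N2568 (iv F19230)) (tt N1956 F13705) (tt N1472 (iv D2815)) (tt N1956 F13706))
theorem Q1958 : ∀ i, i < 1958 → P i := stepQ 1957 Q1957 (allL N1957 (tt N1957 F13707) (tt N2391 (iv F18179)) (tt N2563 (iv F19195)) (tt N1957 F13708) (tt N1473 (iv D2816)) (tt N1957 F13709) (tt N1492 F13710) (tt N2565 (iv F19214)) (tt N2564 F19207) (tt N2570 D4021))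
theorem Q1959 : ∀ i, i < 1959 → P i := stepQ 1958 Q1958 (allL N1958 (tt N1958 F13711) (tt N2392 (iv F18183)) (tt N2564 (iv F19202)) (tt N1477 F13712) (tt N2565 (iv F19211)) (tt N1474 F13713) (tt N2571 D4022) (tt N1473 (iv D2817)) (tt N2563 (iv F19200)) (tt N2572 D4023))
theorem Q1960 : ∀ i, i < 1960 → P i := stepQ 1959 Q1959 (allL N1959 (tt N1959 F13714) (tt N2393 (iv F18186)) (tt N2565 (iv F19209)) (tt N1478 F13715) (tt N2564 (iv F19204)) (tt N1959 F13716) (tt N1494 F13717) (tt N2563 (iv F19199)) (tt N1473 (iv D2818)) (tt N2573 D4024))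
theorem Q1961 : ∀ i, i < 1961 → P i := stepQ 1960 Q1960 (allL N1960 (tt N1960 F13718) (tt N2394 (iv F18190)) (tt N2566 (iv F19216)) (tt N1479 F13719) (tt N2570 (iv F19240)) (tt N1475 F13720) (tt N1495 F13721) (tt N2572 (iv F19253)) (tt N2574 D4025) (tt N1473 (iv D2819)))
theorem Q1962 : ∀ i, i < 1962 → P i := stepQ 1961 Q1961 (allL N1961 (tt N1961 F13722) (tt N2395 (iv F18194)) (tt N2567 (iv F19221)) (tt N1480 F13723) (tt N1961 F13724) (tt N2572 (iv F19252)) (tt N1961 F13725) (tt N1475 F13726) (tt N2575 D4026) (tt N1474 (iv D2820)))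
theorem Q1963 : ∀ i, i < 1963 → P i := stepQ 1962 Q1962 (allL N1962 (tt N1962 F13727) (tt N2396 (iv F18199)) (tt N2568 (iv F19227)) (tt N1481 F13728) (tt N1962 F13729) (tt N2576 D4027) (tt N1476 F13730) (tt N2575 (iv F19265)) (tt N1475 (iv D2821)) (tt N1962 F13731))
theorem Q1964 : ∀ i, i < 1964 → P i := stepQ 1963 Q1963 (allL N1963 (tt N1963 F13732) (tt N2397 (iv F18204)) (tt N2569 (iv F19233)) (tt N1482 F13733) (tt N2577 D4028) (tt N1476 (iv D2822)) (tt N2578 D4029) (tt N1963 F13734) (tt N1498 F13735) (tt N1963 F13736))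
theorem Q1965 : ∀ i, i < 1965 → P i := stepQ 1964 Q1964 (allL N1964 (tt N1964 F13737) (tt N2398 (iv F18209)) (tt N1964 F13738) (tt N2571 (iv F19245)) (tt N1964 F13739) (tt N1964 F13740) (tt N1477 (iv D2823)) (tt N1499 F13741) (tt N2579 D4030) (tt N2580 D4031))
theorem Q1966 : ∀ i, i < 1966 → P i := stepQ 1965 Q1965 (allL N1965 (tt N1965 F13742) (tt N2399 (iv F18213)) (tt N1965 F13743) (tt N2563 F19198) (tt N1965 F13744) (tt N1965 F13745) (tt N2579 (iv F19284)) (tt N1478 F13746) (tt N1477 (iv D2824)) (tt N2581 D4032))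
theorem Q1967 : ∀ i, i < 1967 → P i := stepQ 1966 Q1966 (allL N1966 (tt N1966 F13747) (tt N2400 (iv F18217)) (tt N1966 F13748) (tt N2572 (iv F19251)) (tt N1966 F13749) (tt N1480 F13750) (tt N2580 (iv F19291)) (tt N1479 F13751) (tt N2582 D4033) (tt N1477 (iv D2825)))
theorem Q1968 : ∀ i, i < 1968 → P i := stepQ 1967 Q1967 (allL N1967 (tt N1967 F13752) (tt N2401 (iv F18221)) (tt N1967 F13753) (tt N2573 (iv F19255)) (tt N1967 F13754) (tt N1967 F13755) (tt N1502 F13756) (tt N2581 (iv F19297)) (tt N2583 D4034) (tt N1478 (iv D2826)))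
theorem Q1969 : ∀ i, i < 1969 → P i := stepQ 1968 Q1968 (allL N1968 (tt N1968 F13757) (tt N2402 (iv F18225)) (tt N1968 F13758) (tt N2574 (iv F19259)) (tt N1968 F13759) (tt N2584 D4035) (tt N1503 F13760) (tt N2582 (iv F19301)) (tt N1479 (iv D2827)) (tt N2583 (iv F19306)))
theorem Q1970 : ∀ i, i < 1970 → P i := stepQ 1969 Q1969 (allL N1969 (tt N1969 F13761) (tt N2403 (iv F18228)) (tt N1969 F13762) (tt N2575 (iv F19262)) (tt N1483 F13763) (tt N2585 D4036) (tt N1969 F13764) (tt N1481 F13765) (tt N1480 (iv D2828)) (tt N1969 F13766))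
theorem Q1971 : ∀ i, i < 1971 → P i := stepQ 1970 Q1970 (allL N1970 (tt N1970 F13767) (tt N2404 (iv F18233)) (tt N1970 F13768) (tt N2576 (iv F19268)) (tt N2586 D4037) (tt N1481 (iv D2829)) (tt N2587 D4038) (tt N2585 (iv F19312)) (tt N2584 (iv F19309)) (tt N1970 F13769))
theorem Q1972 : ∀ i, i < 1972 → P i := stepQ 1971 Q1971 (allL N1971 (tt N1971 F13770) (tt N2405 (iv F18235)) (tt N1971 F13771) (tt N2578 (iv F19277)) (tt N1971 F13772) (tt N2587 (iv F19320)) (tt N1482 (iv D2830)) (tt N2588 D4039) (tt N1506 F13773) (tt N1971 F13774))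
theorem Q1973 : ∀ i, i < 1973 → P i := stepQ 1972 Q1972 (allL N1972 (tt N1972 F13775) (tt N2406 (iv F18239)) (tt N1972 F13776) (tt N1972 F13777) (tt N2589 D4040) (tt N1483 (iv D2831)) (tt N2590 D4041) (tt N1484 F13778) (tt N1972 F13779) (tt N1972 F13780))
theorem Q1974 : ∀ i, i < 1974 → P i := stepQ 1973 Q1973 (allL N1973 (tt N1973 F13781) (tt N2407 (iv F18244)) (tt N1973 F13782) (tt N2591 D4042) (tt N1484 (iv D2832)) (tt N2586 (iv F19316)) (tt N1973 F13783) (tt N2589 (iv F19330)) (tt N1973 F13784) (tt N1973 F13785))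
theorem Q1975 : ∀ i, i < 1975 → P i := stepQ 1974 Q1974 (allL N1974 (tt N1486 F13786) (tt N1974 F13787) (tt N2408 (iv F18249)) (tt N1974 F13788) (tt N1551 F13789) (tt N2592 D4043) (tt N1485 (iv D2833)) (tt N2593 D4044) (tt N1509 F13790) (tt N2594 D4045))
theorem Q1976 : ∀ i, i < 1976 → P i := stepQ 1975 Q1975 (allL N1975 (tt N1487 F13791) (tt N1975 F13792) (tt N2409 (iv F18253)) (tt N1975 F13793) (tt N1552 F13794) (tt N2558 (iv F19175)) (tt N2594 (iv F19358)) (tt N1975 F13795) (tt N2595 D4046) (tt N1485 (iv D2834)))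
theorem Q1977 : ∀ i, i < 1977 → P i := stepQ 1976 Q1976 (allL N1976 (tt N2592 (iv F19345)) (tt N1488 F13796) (tt N2410 (iv F18257)) (tt N1976 F13797) (tt N2596 D4047) (tt N1486 (iv D2835)) (tt N2559 (iv F19179)) (tt N2597 D4048) (tt N2598 D4049) (tt N2599 D4050))
theorem Q1978 : ∀ i, i < 1978 → P i := stepQ 1977 Q1977 (allL N1977 (tt N2593 (iv F19348)) (tt N1489 F13798) (tt N2411 (iv F18259)) (tt N1977 F13799) (tt N1554 F13800) (tt N2597 (iv F19369)) (tt N1977 F13801) (tt N1486 (iv D2836)) (tt N1512 F13802) (tt N2600 D4051))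
theorem Q1979 : ∀ i, i < 1979 → P i := stepQ 1978 Q1978 (allL N1978 (tt N2594 (iv F19354)) (tt N1490 F13803) (tt N2412 (iv F18264)) (tt N1978 F13804) (tt N1555 F13805) (tt N2599 (iv F19375)) (tt N1487 F13806) (tt N2600 (iv F19380)) (tt N2601 D4052) (tt N1486 (iv D2837)))
theorem Q1980 : ∀ i, i < 1980 → P i := stepQ 1979 Q1979 (allL N1979 (tt N2595 (iv F19359)) (tt N1491 F13807) (tt N2413 (iv F18268)) (tt N1979 F13808) (tt N1556 F13809) (tt N2602 D4053) (tt N2601 (iv F19384)) (tt N1979 F13810) (tt N1487 (iv D2838)) (tt N1514 F13811))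
theorem Q1981 : ∀ i, i < 1981 → P i := stepQ 1980 Q1980 (allL N1980 (tt N1980 F13812) (tt N2596 (iv F19365)) (tt N1492 F13813) (tt N2579 (iv F19282)) (tt N1488 (iv D2839)) (tt N1557 F13814) (tt N2563 (iv F19197)) (tt N2603 D4054) (tt N2571 (iv F19249)) (tt N2604 D4055))
theorem Q1982 : ∀ i, i < 1982 → P i := stepQ 1981 Q1981 (allL N1981 (tt N1981 F13815) (tt N2597 (iv F19367)) (tt N1493 F13816) (tt N1981 F13817) (tt N2603 (iv F19393)) (tt N1489 F13818) (tt N2605 D4056) (tt N1488 (iv D2840)) (tt N2606 D4057) (tt N2607 D4058))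
theorem Q1983 : ∀ i, i < 1983 → P i := stepQ 1982 Q1982 (allL N1982 (tt N1982 F13819) (tt N2598 (iv F19370)) (tt N1494 F13820) (tt N1982 F13821) (tt N2571 (iv F19246)) (tt N1516 F13822) (tt N2565 (iv F19213)) (tt N2606 (iv F19414)) (tt N1488 (iv D2841)) (tt N2608 D4059))
theorem Q1984 : ∀ i, i < 1984 → P i := stepQ 1983 Q1983 (allL N1983 (tt N1983 F13823) (tt N2599 (iv F19373)) (tt N1495 F13824) (tt N1983 F13825) (tt N2604 (iv F19399)) (tt N1490 F13826) (tt N2566 (iv F19219)) (tt N2607 (iv F19419)) (tt N2609 D4060) (tt N1488 (iv D2842)))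
theorem Q1985 : ∀ i, i < 1985 → P i := stepQ 1984 Q1984 (allL N1984 (tt N1984 F13827) (tt N2600 (iv F19376)) (tt N1496 F13828) (tt N1984 F13829) (tt N1560 F13830) (tt N2607 (iv F19418)) (tt N1984 F13831) (tt N1490 F13832) (tt N2610 D4061) (tt N1489 (iv D2843)))
theorem Q1986 : ∀ i, i < 1986 → P i := stepQ 1985 Q1985 (allL N1985 (tt N1985 F13833) (tt N2601 (iv F19381)) (tt N1497 F13834) (tt N1985 F13835) (tt N1561 F13836) (tt N2611 D4062) (tt N1491 F13837) (tt N2610 (iv F19432)) (tt N1490 (iv D2844)) (tt N1519 F13838))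
theorem Q1987 : ∀ i, i < 1987 → P i := stepQ 1986 Q1986 (allL N1986 (tt N1986 F13839) (tt N2602 (iv F19386)) (tt N1498 F13840) (tt N1986 F13841) (tt N2612 D4063) (tt N1491 (iv D2845)) (tt N2613 D4064) (tt N1986 F13842) (tt N2569 (iv F19236)) (tt N1520 F13843))
theorem Q1988 : ∀ i, i < 1988 → P i := stepQ 1987 Q1987 (allL N1987 (tt N1987 F13844) (tt N2421 (iv F18291)) (tt N2603 (iv F19391)) (tt N1987 F13845) (tt N1493 F13846) (tt N1563 F13847) (tt N2606 (iv F19413)) (tt N1492 (iv D2846)) (tt N2605 F19407) (tt N2614 D4065))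
theorem Q1989 : ∀ i, i < 1989 → P i := stepQ 1988 Q1988 (allL N1988 (tt N1988 F13848) (tt N2422 (iv F18295)) (tt N2571 (iv F19244)) (tt N1988 F13849) (tt N1494 F13850) (tt N1988 F13851) (tt N2564 F19206) (tt N2605 (iv F19406)) (tt N1492 (iv D2847)) (tt N2615 D4066))
theorem Q1990 : ∀ i, i < 1990 → P i := stepQ 1989 Q1989 (allL N1989 (tt N1989 F13852) (tt N2423 (iv F18299)) (tt N2604 (iv F19398)) (tt N1989 F13853) (tt N1495 F13854) (tt N1564 F13855) (tt N2570 (iv F19242)) (tt N2614 (iv F19451)) (tt N2616 D4067) (tt N1492 (iv D2848)))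
theorem Q1991 : ∀ i, i < 1991 → P i := stepQ 1990 Q1990 (allL N1990 (tt N1990 F13856) (tt N2424 (iv F18303)) (tt N2605 (iv F19402)) (tt N1499 F13857) (tt N2606 (iv F19411)) (tt N1990 F13858) (tt N1493 (iv D2849)) (tt N2571 (iv F19248)) (tt N2603 (iv F19396)) (tt N2617 D4068))
theorem Q1992 : ∀ i, i < 1992 → P i := stepQ 1991 Q1991 (allL N1991 (tt N1991 F13859) (tt N2182 (iv F20181)) (tt N2606 (iv F19409)) (tt N1500 F13860) (tt N2605 (iv F19404)) (tt N1521 F13861) (tt N2603 (iv F19395)) (tt N1494 F13862) (tt N1493 (iv D2850)) (tt N2618 D4069))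
theorem Q1993 : ∀ i, i < 1993 → P i := stepQ 1992 Q1992 (allL N1992 (tt N1992 F13863) (tt N2425 (iv F18310)) (tt N2607 (iv F19416)) (tt N1501 F13864) (tt N2614 (iv F19449)) (tt N1496 F13865) (tt N2617 (iv F19462)) (tt N1495 F13866) (tt N2619 D4070) (tt N1493 (iv D2851)))
theorem Q1994 : ∀ i, i < 1994 → P i := stepQ 1993 Q1993 (allL N1993 (tt N1993 F13867) (tt N2426 (iv F18314)) (tt N2608 (iv F19421)) (tt N1502 F13868) (tt N2615 (iv F19454)) (tt N1523 F13869) (tt N2573 (iv F19257)) (tt N2618 (iv F19466)) (tt N2620 D4071) (tt N1494 (iv D2852)))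
theorem Q1995 : ∀ i, i < 1995 → P i := stepQ 1994 Q1994 (allL N1994 (tt N1994 F13870) (tt N2427 (iv F18317)) (tt N2609 (iv F19425)) (tt N1503 F13871) (tt N2616 (iv F19458)) (tt N2621 D4072) (tt N2574 (iv F19260)) (tt N2619 (iv F19469)) (tt N1495 (iv D2853)) (tt N2620 (iv F19472)))
theorem Q1996 : ∀ i, i < 1996 → P i := stepQ 1995 Q1995 (allL N1995 (tt N1995 F13872) (tt N2428 (iv F18319)) (tt N2610 (iv F19428)) (tt N1504 F13873) (tt N1568 F13874) (tt N2622 D4073) (tt N1995 F13875) (tt N1497 F13876) (tt N1496 (iv D2854)) (tt N1525 F13877))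
theorem Q1997 : ∀ i, i < 1997 → P i := stepQ 1996 Q1996 (allL N1996 (tt N1996 F13878) (tt N2429 (iv F18325)) (tt N2611 (iv F19435)) (tt N1505 F13879) (tt N2623 D4074) (tt N1497 (iv D2855)) (tt N2624 D4075) (tt N2622 (iv F19478)) (tt N2621 (iv F19475)) (tt N1526 F13880))
theorem Q1998 : ∀ i, i < 1998 → P i := stepQ 1997 Q1997 (allL N1997 (tt N1997 F13881) (tt N2430 (iv F18328)) (tt N2612 (iv F19439)) (tt N1997 F13882) (tt N1498 (iv D2856)) (tt N1570 F13883) (tt N2625 D4076) (tt N1997 F13884) (tt N2577 (iv F19274)) (tt N1527 F13885))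
theorem Q1999 : ∀ i, i < 1999 → P i := stepQ 1998 Q1998 (allL N1998 (tt N1998 F13886) (tt N2431 (iv F18333)) (tt N2613 (iv F19444)) (tt N1506 F13887) (tt N2625 (iv F19489)) (tt N2624 (iv F19485)) (tt N1498 (iv D2857)) (tt N2626 D4077) (tt N2578 (iv F19278)) (tt N1528 F13888))
theorem Q2000 : ∀ i, i < 2000 → P i := stepQ 1999 Q1999 (allL N1999 (tt N1999 F13889) (tt N2173 (iv F20186)) (tt N1999 F13890) (tt N2603 (iv F19392)) (tt N1999 F13891) (tt N2155 (iv F20154)) (tt N1500 F13892) (tt N2579 (iv F19285)) (tt N1499 (iv D2858)) (tt N2627 D4079))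
theorem Q2001 : ∀ i, i < 2001 → P i := stepQ 2000 Q2000 (allL N2000 (tt N2000 F13893) (tt N2432 (iv F18339)) (tt N2000 F13894) (tt N2617 (iv F19460)) (tt N2000 F13895) (tt N2000 F13896) (tt N1501 F13897) (tt N2580 (iv F19292)) (tt N2628 D4080) (tt N1499 (iv D2859)))
theorem Q2002 : ∀ i, i < 2002 → P i := stepQ 2001 Q2001 (allL N2001 (tt N2001 F13898) (tt N2185 (iv F20188)) (tt N2001 F13899) (tt N2618 (iv F19464)) (tt N2001 F13900) (tt N1529 F13901) (tt N2627 (iv F19505)) (tt N1502 F13902) (tt N2629 D4081) (tt N1500 (iv D2860)))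
theorem Q2003 : ∀ i, i < 2003 → P i := stepQ 2002 Q2002 (allL N2002 (tt N2002 F13903) (tt N2433 (iv F18347)) (tt N2002 F13904) (tt N2619 (iv F19468)) (tt N2002 F13905) (tt N2630 D4082) (tt N2628 (iv F19509)) (tt N1503 F13906) (tt N1501 (iv D2861)) (tt N2629 (iv F19514)))
theorem Q2004 : ∀ i, i < 2004 → P i := stepQ 2003 Q2003 (allL N2003 (tt N2003 F13907) (tt N2434 (iv F18350)) (tt N2003 F13908) (tt N2620 (iv F19471)) (tt N2003 F13909) (tt N2631 D4083) (tt N2583 (iv F19305)) (tt N2629 (iv F19513)) (tt N1502 (iv D2862)) (tt N1503 F13910))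
theorem Q2005 : ∀ i, i < 2005 → P i := stepQ 2004 Q2004 (allL N2004 (tt N2004 F13911) (tt N2435 (iv F18353)) (tt N2004 F13912) (tt N2621 (iv F19474)) (tt N2632 D4084) (tt N1503 (iv D2863)) (tt N2633 D4085) (tt N2630 (iv F19517)) (tt N1505 F13913) (tt N2631 (iv F19522)))
theorem Q2006 : ∀ i, i < 2006 → P i := stepQ 2005 Q2005 (allL N2005 (tt N2005 F13914) (tt N2436 (iv F18355)) (tt N2005 F13915) (tt N2622 (iv F19477)) (tt N2634 D4086) (tt N1504 (iv D2864)) (tt N2635 D4087) (tt N1505 F13916) (tt N2630 (iv F19518)) (tt N1533 F13917))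
theorem Q2007 : ∀ i, i < 2007 → P i := stepQ 2006 Q2006 (allL N2006 (tt N2006 F13918) (tt N2437 (iv F18358)) (tt N2006 F13919) (tt N2636 D4088) (tt N1505 (iv D2865)) (tt N1508 F13920) (tt N2637 D4089) (tt N2634 (iv F19533)) (tt N2632 (iv F19526)) (tt N1534 F13921))
theorem Q2008 : ∀ i, i < 2008 → P i := stepQ 2007 Q2007 (allL N2007 (tt N2007 F13922) (tt N2438 (iv F18361)) (tt N2007 F13923) (tt N2624 (iv F19484)) (tt N2637 (iv F19544)) (tt N1506 F13924) (tt N1505 (iv D2866)) (tt N2638 D4090) (tt N2633 (iv F19529)) (tt N1535 F13925))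
theorem Q2009 : ∀ i, i < 2009 → P i := stepQ 2008 Q2008 (allL N2008 (tt N2008 F13926) (tt N2439 (iv F18364)) (tt N2008 F13927) (tt N2626 (iv F19492)) (tt N2008 F13928) (tt N2638 (iv F19549)) (tt N2008 F13929) (tt N1506 (iv D2867)) (tt N2588 (iv F19326)) (tt N1536 F13930))
theorem Q2010 : ∀ i, i < 2010 → P i := stepQ 2009 Q2009 (allL N2009 (tt N2009 F13931) (tt N2440 (iv F18368)) (tt N2009 F13932) (tt N2639 D4091) (tt N1507 (iv D2868)) (tt N2634 (iv F19532)) (tt N2640 D4092) (tt N1508 F13933) (tt N2009 F13934) (tt N1537 F13935))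
theorem Q2011 : ∀ i, i < 2011 → P i := stepQ 2010 Q2010 (allL N2010 (tt N2010 F13936) (tt N2441 (iv F18372)) (tt N2010 F13937) (tt N1580 F13938) (tt N2640 (iv F19558)) (tt N2010 F13939) (tt N1507 (iv D2869)) (tt N2010 F13940) (tt N2010 F13941) (tt N1538 F13942))
theorem Q2012 : ∀ i, i < 2012 → P i := stepQ 2011 Q2011 (allL N2011 (tt N2011 F13943) (tt N2442 (iv F18378)) (tt N2641 D4093) (tt N1508 (iv D2870)) (tt N1581 F13944) (tt N2636 (iv F19540)) (tt N2011 F13945) (tt N2639 (iv F19553)) (tt N2011 F13946) (tt N1539 F13947))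
theorem Q2013 : ∀ i, i < 2013 → P i := stepQ 2012 Q2012 (allL N2012 (tt N1511 F13948) (tt N2012 F13949) (tt N2443 (iv F18384)) (tt N2012 F13950) (tt N2012 F13951) (tt N1509 (iv D2871)) (tt N2012 F13952) (tt N2642 D4094) (tt N2643 D4095) (tt N2644 D4096))
theorem Q2014 : ∀ i, i < 2014 → P i := stepQ 2013 Q2013 (allL N2013 (tt N1512 F13953) (tt N2013 F13954) (tt N2444 (iv F18388)) (tt N2013 F13955) (tt N1582 F13956) (tt N2642 (iv F19572)) (tt N2013 F13957) (tt N1509 (iv D2872)) (tt N2593 (iv F19353)) (tt N2645 D4097))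
theorem Q2015 : ∀ i, i < 2015 → P i := stepQ 2014 Q2014 (allL N2014 (tt N1513 F13958) (tt N2014 F13959) (tt N2445 (iv F18392)) (tt N2014 F13960) (tt N1583 F13961) (tt N2644 (iv F19582)) (tt N1510 F13962) (tt N2645 (iv F19589)) (tt N2646 D4098) (tt N1509 (iv D2873)))
theorem Q2016 : ∀ i, i < 2016 → P i := stepQ 2015 Q2015 (allL N2015 (tt N1514 F13963) (tt N2015 F13964) (tt N2446 (iv F18396)) (tt N2015 F13965) (tt N1584 F13966) (tt N2647 D4099) (tt N2646 (iv F19594)) (tt N2015 F13967) (tt N1510 (iv D2874)) (tt N2595 (iv F19364)))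
theorem Q2017 : ∀ i, i < 2017 → P i := stepQ 2016 Q2016 (allL N2016 (tt N2642 (iv F19568)) (tt N1515 F13968) (tt N2190 (iv F20197)) (tt N2016 F13969) (tt N2016 F13970) (tt N1512 F13971) (tt N2162 (iv F20171)) (tt N1511 (iv D2875)) (tt N2648 D4101) (tt N2649 D4102))
theorem Q2018 : ∀ i, i < 2018 → P i := stepQ 2017 Q2017 (allL N2017 (tt N2643 (iv F19573)) (tt N1516 F13972) (tt N2447 (iv F18404)) (tt N2017 F13973) (tt N2017 F13974) (tt N2598 (iv F19372)) (tt N2017 F13975) (tt N2648 (iv F19608)) (tt N1511 (iv D2876)) (tt N2650 D4103))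
theorem Q2019 : ∀ i, i < 2019 → P i := stepQ 2018 Q2018 (allL N2018 (tt N2644 (iv F19578)) (tt N1517 F13976) (tt N2448 (iv F18408)) (tt N2018 F13977) (tt N2018 F13978) (tt N1513 F13979) (tt N2018 F13980) (tt N2649 (iv F19613)) (tt N2651 D4104) (tt N1511 (iv D2877)))
theorem Q2020 : ∀ i, i < 2020 → P i := stepQ 2019 Q2019 (allL N2019 (tt N2645 (iv F19584)) (tt N1518 F13981) (tt N2449 (iv F18413)) (tt N2019 F13982) (tt N1585 F13983) (tt N2649 (iv F19612)) (tt N2019 F13984) (tt N1513 F13985) (tt N2652 D4105) (tt N1512 (iv D2878)))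
theorem Q2021 : ∀ i, i < 2021 → P i := stepQ 2020 Q2020 (allL N2020 (tt N2646 (iv F19590)) (tt N1519 F13986) (tt N2450 (iv F18418)) (tt N2020 F13987) (tt N1586 F13988) (tt N2653 D4106) (tt N1514 F13989) (tt N2652 (iv F19626)) (tt N1513 (iv D2879)) (tt N2601 (iv F19385)))
theorem Q2022 : ∀ i, i < 2022 → P i := stepQ 2021 Q2021 (allL N2021 (tt N2647 (iv F19595)) (tt N1520 F13990) (tt N2451 (iv F18422)) (tt N2021 F13991) (tt N2654 D4107) (tt N1514 (iv D2880)) (tt N2655 D4108) (tt N2021 F13992) (tt N2021 F13993) (tt N2602 (iv F19389)))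
theorem Q2023 : ∀ i, i < 2023 → P i := stepQ 2022 Q2022 (allL N2022 (tt N2022 F14000) (tt N2648 (iv F19605)) (tt N1521 F14001) (tt N2022 F14002) (tt N2022 F14003) (tt N2606 (iv F19412)) (tt N2159 (iv F20158)) (tt N1516 F14004) (tt N1515 (iv D2882)) (tt N2656 D4111))
theorem Q2024 : ∀ i, i < 2024 → P i := stepQ 2023 Q2023 (allL N2023 (tt N2023 F14005) (tt N2649 (iv F19609)) (tt N1522 F14006) (tt N2023 F14007) (tt N2023 F14008) (tt N1518 F14009) (tt N2163 (iv F20173)) (tt N1517 F14010) (tt N2657 D4112) (tt N1515 (iv D2883)))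
theorem Q2025 : ∀ i, i < 2025 → P i := stepQ 2024 Q2024 (allL N2024 (tt N2024 F14011) (tt N2650 (iv F19614)) (tt N1523 F14012) (tt N2024 F14013) (tt N2024 F14014) (tt N2608 (iv F19423)) (tt N2024 F14015) (tt N2656 (iv F19654)) (tt N2658 D4113) (tt N1516 (iv D2884)))
theorem Q2026 : ∀ i, i < 2026 → P i := stepQ 2025 Q2025 (allL N2025 (tt N2025 F14016) (tt N2651 (iv F19618)) (tt N1524 F14017) (tt N2025 F14018) (tt N2025 F14019) (tt N2659 D4114) (tt N2025 F14020) (tt N2657 (iv F19659)) (tt N1517 (iv D2885)) (tt N2658 (iv F19665)))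
theorem Q2027 : ∀ i, i < 2027 → P i := stepQ 2026 Q2026 (allL N2026 (tt N2026 F14021) (tt N2652 (iv F19622)) (tt N1525 F14022) (tt N2026 F14023) (tt N1588 F14024) (tt N2660 D4115) (tt N2026 F14025) (tt N1519 F14026) (tt N1518 (iv D2886)) (tt N2610 (iv F19433)))
theorem Q2028 : ∀ i, i < 2028 → P i := stepQ 2027 Q2027 (allL N2027 (tt N2027 F14027) (tt N2653 (iv F19627)) (tt N1526 F14028) (tt N2027 F14029) (tt N2661 D4116) (tt N1519 (iv D2887)) (tt N2662 D4117) (tt N2660 (iv F19673)) (tt N2659 (iv F19669)) (tt N2611 (iv F19437)))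
theorem Q2029 : ∀ i, i < 2029 → P i := stepQ 2028 Q2028 (allL N2028 (tt N2028 F14030) (tt N2654 (iv F19629)) (tt N1527 F14031) (tt N2663 D4118) (tt N1520 (iv D2888)) (tt N1590 F14032) (tt N2664 D4119) (tt N2028 F14033) (tt N2028 F14034) (tt N2612 (iv F19442)))
theorem Q2030 : ∀ i, i < 2030 → P i := stepQ 2029 Q2029 (allL N2029 (tt N2029 F14035) (tt N2655 (iv F19633)) (tt N1528 F14036) (tt N2029 F14037) (tt N2664 (iv F19689)) (tt N2662 (iv F19680)) (tt N1520 (iv D2889)) (tt N2665 D4120) (tt N2029 F14038) (tt N2613 (iv F19446)))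
theorem Q2031 : ∀ i, i < 2031 → P i := stepQ 2030 Q2030 (allL N2030 (tt N2030 F14050) (tt N2183 (iv F20184)) (tt N2656 (iv F19651)) (tt N1529 F14051) (tt N2030 F14052) (tt N2618 (iv F19465)) (tt N2160 (iv F20161)) (tt N1523 F14053) (tt N2666 D4124) (tt N1521 (iv D2892)))
theorem Q2032 : ∀ i, i < 2032 → P i := stepQ 2031 Q2031 (allL N2031 (tt N2031 F14054) (tt N2194 (iv F20202)) (tt N2657 (iv F19656)) (tt N1530 F14055) (tt N2031 F14056) (tt N2667 D4125) (tt N2164 (iv F20176)) (tt N1524 F14057) (tt N1522 (iv D2893)) (tt N2666 (iv F19717)))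
theorem Q2033 : ∀ i, i < 2033 → P i := stepQ 2032 Q2032 (allL N2032 (tt N2032 F14058) (tt N2458 (iv F18472)) (tt N2658 (iv F19661)) (tt N1531 F14059) (tt N2032 F14060) (tt N2668 D4126) (tt N2032 F14061) (tt N2666 (iv F19716)) (tt N1523 (iv D2894)) (tt N1524 F14062))
theorem Q2034 : ∀ i, i < 2034 → P i := stepQ 2033 Q2033 (allL N2033 (tt N2033 F14063) (tt N2459 (iv F18477)) (tt N2659 (iv F19667)) (tt N1532 F14064) (tt N2669 D4127) (tt N1524 (iv D2895)) (tt N2670 D4128) (tt N2667 (iv F19720)) (tt N1526 F14065) (tt N2668 (iv F19724)))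
theorem Q2035 : ∀ i, i < 2035 → P i := stepQ 2034 Q2034 (allL N2034 (tt N2034 F14066) (tt N2460 (iv F18480)) (tt N2660 (iv F19671)) (tt N1533 F14067) (tt N2671 D4129) (tt N1525 (iv D2896)) (tt N2672 D4130) (tt N1526 F14068) (tt N2667 (iv F19721)) (tt N2622 (iv F19479)))
theorem Q2036 : ∀ i, i < 2036 → P i := stepQ 2035 Q2035 (allL N2035 (tt N2035 F14069) (tt N2461 (iv F18483)) (tt N2661 (iv F19675)) (tt N2673 D4131) (tt N1526 (iv D2897)) (tt N1593 F14070) (tt N2674 D4132) (tt N2671 (iv F19734)) (tt N2669 (iv F19727)) (tt N2623 (iv F19482)))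
theorem Q2037 : ∀ i, i < 2037 → P i := stepQ 2036 Q2036 (allL N2036 (tt N2036 F14071) (tt N2462 (iv F18485)) (tt N2662 (iv F19678)) (tt N1535 F14072) (tt N2674 (iv F19742)) (tt N1528 F14073) (tt N1526 (iv D2898)) (tt N2675 D4133) (tt N2670 (iv F19731)) (tt N2624 (iv F19486)))
theorem Q2038 : ∀ i, i < 2038 → P i := stepQ 2037 Q2037 (allL N2037 (tt N2037 F14074) (tt N2463 (iv F18488)) (tt N2664 (iv F19688)) (tt N2037 F14075) (tt N1528 F14076) (tt N2676 D4134) (tt N1527 (iv D2899)) (tt N2677 D4135) (tt N2037 F14077) (tt N2625 (iv F19490)))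
theorem Q2039 : ∀ i, i < 2039 → P i := stepQ 2038 Q2038 (allL N2038 (tt N2038 F14078) (tt N2464 (iv F18492)) (tt N2665 (iv F19692)) (tt N1536 F14079) (tt N2677 (iv F19751)) (tt N2675 (iv F19745)) (tt N2038 F14080) (tt N1528 (iv D2900)) (tt N2038 F14081) (tt N2626 (iv F19494)))
theorem Q2040 : ∀ i, i < 2040 → P i := stepQ 2039 Q2039 (allL N2039 (tt N2039 F14096) (tt N2186 (iv F20190)) (tt N2039 F14097) (tt N2666 (iv F19714)) (tt N1540 F14098) (tt N2678 D4140) (tt N2161 (iv F20165)) (tt N1531 F14099) (tt N1529 (iv D2904)) (tt N1530 F14100))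
theorem Q2041 : ∀ i, i < 2041 → P i := stepQ 2040 Q2040 (allL N2040 (tt N2040 F14101) (tt N2196 (iv F20204)) (tt N2040 F14102) (tt N2667 (iv F19719)) (tt N2679 D4141) (tt N1530 (iv D2905)) (tt N2680 D4142) (tt N1532 F14103) (tt N1533 F14104) (tt N2678 (iv F19778)))
theorem Q2042 : ∀ i, i < 2042 → P i := stepQ 2041 Q2041 (allL N2041 (tt N2041 F14105) (tt N2465 (iv F18514)) (tt N2041 F14106) (tt N2668 (iv F19723)) (tt N2681 D4143) (tt N1531 (iv D2906)) (tt N2682 D4144) (tt N2678 (iv F19777)) (tt N2631 (iv F19521)) (tt N1532 F14107))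
theorem Q2043 : ∀ i, i < 2043 → P i := stepQ 2042 Q2042 (allL N2042 (tt N2042 F14108) (tt N2466 (iv F18516)) (tt N2042 F14109) (tt N2683 D4145) (tt N1532 (iv D2907)) (tt N1543 F14110) (tt N2684 D4146) (tt N2679 (iv F19782)) (tt N1534 F14111) (tt N2681 (iv F19790)))
theorem Q2044 : ∀ i, i < 2044 → P i := stepQ 2043 Q2043 (allL N2043 (tt N2043 F14112) (tt N2467 (iv F18519)) (tt N2043 F14113) (tt N2670 (iv F19729)) (tt N2684 (iv F19800)) (tt N2043 F14114) (tt N1532 (iv D2908)) (tt N2685 D4147) (tt N1535 F14115) (tt N2682 (iv F19794)))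
theorem Q2045 : ∀ i, i < 2045 → P i := stepQ 2044 Q2044 (allL N2044 (tt N2044 F14116) (tt N2468 (iv F18522)) (tt N2044 F14117) (tt N2686 D4148) (tt N1533 (iv D2909)) (tt N1537 F14118) (tt N2687 D4149) (tt N1534 F14119) (tt N2679 (iv F19783)) (tt N2634 (iv F19534)))
theorem Q2046 : ∀ i, i < 2046 → P i := stepQ 2045 Q2045 (allL N2045 (tt N2045 F14120) (tt N2469 (iv F18525)) (tt N2045 F14121) (tt N2672 (iv F19736)) (tt N2687 (iv F19811)) (tt N2045 F14122) (tt N1533 (iv D2910)) (tt N2688 D4150) (tt N2680 (iv F19786)) (tt N2635 (iv F19538)))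
theorem Q2047 : ∀ i, i < 2047 → P i := stepQ 2046 Q2046 (allL N2046 (tt N2046 F14123) (tt N2470 (iv F18527)) (tt N2689 D4151) (tt N1534 (iv D2911)) (tt N2673 (iv F19739)) (tt N1539 F14124) (tt N2690 D4152) (tt N2686 (iv F19808)) (tt N2683 (iv F19797)) (tt N2636 (iv F19541)))
theorem Q2048 : ∀ i, i < 2048 → P i := stepQ 2047 Q2047 (allL N2047 (tt N2047 F14125) (tt N2471 (iv F18529)) (tt N2047 F14126) (tt N2690 (iv F19820)) (tt N1535 F14127) (tt N2047 F14128) (tt N1534 (iv D2912)) (tt N2691 D4153) (tt N2684 (iv F19801)) (tt N2637 (iv F19546)))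
theorem Q2049 : ∀ i, i < 2049 → P i := stepQ 2048 Q2048 (allL N2048 (tt N2048 F14129) (tt N2472 (iv F18532)) (tt N2048 F14130) (tt N2675 (iv F19744)) (tt N2691 (iv F19824)) (tt N1536 F14131) (tt N2688 (iv F19815)) (tt N1535 (iv D2913)) (tt N2685 (iv F19805)) (tt N2638 (iv F19550)))
theorem Q2050 : ∀ i, i < 2050 → P i := stepQ 2049 Q2049 (allL N2049 (tt N2049 F14132) (tt N2473 (iv F18534)) (tt N1595 (iv F131287)) (tt N1537 (iv D2914)) (tt N1591 F130984) (tt N2686 (iv F19807)) (tt N1590 (iv F131233)) (tt N1539 F14134) (tt N1548 F14135) (tt N2639 (iv F19555)))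
theorem Q2051 : ∀ i, i < 2051 → P i := stepQ 2050 Q2050 (allL N2050 (tt N2050 F14136) (tt N2474 (iv F18538)) (tt N2050 F14137) (tt N1590 (iv F131232)) (tt N1538 F14138) (tt N2663 (iv F131290)) (tt N1537 (iv D2915)) (tt N2050 F14139) (tt N1549 F14140) (tt N2640 (iv F19561)))
theorem Q2052 : ∀ i, i < 2052 → P i := stepQ 2051 Q2051 (allL N2051 (tt N2051 F14141) (tt N2545 (iv F131293)) (tt N1539 (iv D2916)) (tt N2051 F14142) (tt N1596 F130986) (tt N2689 (iv F19818)) (tt N2051 F14144) (tt N1595 (iv F131288)) (tt N1550 F14145) (tt N2641 (iv F19567)))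
theorem Q2053 : ∀ i, i < 2053 → P i := stepQ 2052 Q2052 (allL N2052 (tt N2052 F14168) (tt N2188 (iv F20194)) (tt N2052 F14169) (tt N2052 F14170) (tt N2692 D4164) (tt N1540 (iv D2921)) (tt N2052 F20293) (tt N1542 F14171) (tt N2052 F14172) (tt N1541 F14173))
theorem Q2054 : ∀ i, i < 2054 → P i := stepQ 2053 Q2053 (allL N2053 (tt N2053 F14174) (tt N2198 (iv F20209)) (tt N2053 F14175) (tt N2693 D4166) (tt N1541 (iv D2922)) (tt N2679 (iv F19781)) (tt N2053 F20292) (tt N1543 F14176) (tt N1545 F14177) (tt N2692 (iv F19880)))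
theorem Q2055 : ∀ i, i < 2055 → P i := stepQ 2054 Q2054 (allL N2054 (tt N2054 F14182) (tt N2476 (iv F18574)) (tt N2054 F14183) (tt N2694 D4169) (tt N1542 (iv D2924)) (tt N2681 (iv F19789)) (tt N2695 D4170) (tt N2692 (iv F19878)) (tt N2054 F14184) (tt N1543 F14185))
theorem Q2056 : ∀ i, i < 2056 → P i := stepQ 2055 Q2055 (allL N2055 (tt N2055 F14186) (tt N2477 (iv F18577)) (tt N2055 F14187) (tt N2055 F14188) (tt N2695 (iv F19905)) (tt N2055 F14189) (tt N1542 (iv D2925)) (tt N2055 F20329) (tt N2055 F14190) (tt N1544 F14191))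
theorem Q2057 : ∀ i, i < 2057 → P i := stepQ 2056 Q2056 (allL N2056 (tt N2056 F14192) (tt N2478 (iv F18582)) (tt N2696 D4172) (tt N1543 (iv D2926)) (tt N2056 F14193) (tt N2683 (iv F19796)) (tt N2697 D4173) (tt N2693 (iv F19888)) (tt N1546 F14194) (tt N2694 (iv F19902)))
theorem Q2058 : ∀ i, i < 2058 → P i := stepQ 2057 Q2057 (allL N2057 (tt N2057 F14195) (tt N2479 (iv F18585)) (tt N2057 F14196) (tt N2697 (iv F19919)) (tt N1544 F14197) (tt N2698 D4174) (tt N1543 (iv D2927)) (tt N2057 F20328) (tt N1547 F14198) (tt N2695 (iv F19907)))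
theorem Q2059 : ∀ i, i < 2059 → P i := stepQ 2058 Q2058 (allL N2058 (tt N2058 F14204) (tt N2199 (iv F20295)) (tt N1604 F131009) (tt N1545 (iv D2929)) (tt N2058 F14205) (tt N1548 F14206) (tt N2058 F20327) (tt N1546 F14207) (tt N2693 (iv F19889)) (tt N2058 F14208))
theorem Q2060 : ∀ i, i < 2060 → P i := stepQ 2059 Q2059 (allL N2059 (tt N2059 F14219) (tt N2555 (iv F131291)) (tt N1546 (iv D2932)) (tt N2059 F14220) (tt N2059 F14221) (tt N1550 F14222) (tt N2699 D4181) (tt N1604 F130985) (tt N2696 (iv F19917)) (tt N2059 F14223))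
theorem Q2061 : ∀ i, i < 2061 → P i := stepQ 2060 Q2060 (allL N2060 (tt N2060 F14224) (tt N2481 (iv F18608)) (tt N2699 (iv F19955)) (tt N1547 F14225) (tt N2060 F14226) (tt N2060 F14227) (tt N1546 (iv D2933)) (tt N2060 F20337) (tt N2697 (iv F19921)) (tt N2060 F14228))
theorem Q2062 : ∀ i, i < 2062 → P i := stepQ 2061 Q2061 (allL N2061 (tt N1553 F14401) (tt N2061 F14402) (tt N2484 (iv F18757)) (tt N1605 F14403) (tt N2346 F20387) (tt N1551 (iv D2969)) (tt N2061 F14404) (tt N2336 (iv F20367)) (tt N2061 F14405) (tt N2700 D4189))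
theorem Q2063 : ∀ i, i < 2063 → P i := stepQ 2062 Q2062 (allL N2062 (tt N1554 F14406) (tt N2062 F14407) (tt N2485 (iv F18762)) (tt N1606 F14408) (tt N2593 (iv F19351)) (tt N2336 F20388) (tt N2062 F14409) (tt N1551 (iv D2970)) (tt N1582 F14410) (tt N2701 D4190))
theorem Q2064 : ∀ i, i < 2064 → P i := stepQ 2063 Q2063 (allL N2063 (tt N1555 F14411) (tt N2063 F14412) (tt N2486 (iv F18767)) (tt N1607 F14413) (tt N2594 (iv F19357)) (tt N2700 (iv F20400)) (tt N1552 F14414) (tt N2701 (iv F20406)) (tt N2702 D4191) (tt N1551 (iv D2971)))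
theorem Q2065 : ∀ i, i < 2065 → P i := stepQ 2064 Q2064 (allL N2064 (tt N1556 F14415) (tt N2064 F14416) (tt N2487 (iv F18771)) (tt N1608 F14417) (tt N2595 (iv F19362)) (tt N2703 D4192) (tt N2702 (iv F20410)) (tt N2064 F14418) (tt N1552 (iv D2972)) (tt N1584 F14419))
theorem Q2066 : ∀ i, i < 2066 → P i := stepQ 2065 Q2065 (allL N2065 (tt N2346 (iv F20389)) (tt N1557 F14420) (tt N2488 (iv F18776)) (tt N2174 F20390) (tt N1553 (iv D2973)) (tt N2596 (iv F19366)) (tt N2065 F14421) (tt N2171 F20391) (tt N2065 F14422) (tt N2704 D4193))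
theorem Q2067 : ∀ i, i < 2067 → P i := stepQ 2066 Q2066 (allL N2066 (tt N2336 F20386) (tt N1558 F14423) (tt N2489 (iv F18780)) (tt N1610 F14424) (tt N2171 (iv F20393)) (tt N1554 F14425) (tt N2166 F20394) (tt N1553 (iv D2974)) (tt N2066 F14426) (tt N2705 D4194))
theorem Q2068 : ∀ i, i < 2068 → P i := stepQ 2067 Q2067 (allL N2067 (tt N2700 (iv F20397)) (tt N1559 F14427) (tt N2490 (iv F18785)) (tt N1611 F14428) (tt N2704 (iv F20419)) (tt N1555 F14429) (tt N2067 F14430) (tt N2705 (iv F20424)) (tt N2706 D4195) (tt N1553 (iv D2975)))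
theorem Q2069 : ∀ i, i < 2069 → P i := stepQ 2068 Q2068 (allL N2068 (tt N2701 (iv F20402)) (tt N1560 F14431) (tt N2491 (iv F18790)) (tt N1612 F14432) (tt N2600 (iv F19378)) (tt N2705 (iv F20423)) (tt N2068 F14433) (tt N1555 F14434) (tt N2707 D4196) (tt N1554 (iv D2976)))
theorem Q2070 : ∀ i, i < 2070 → P i := stepQ 2069 Q2069 (allL N2069 (tt N2702 (iv F20407)) (tt N1561 F14435) (tt N2492 (iv F18795)) (tt N1613 F14436) (tt N2601 (iv F19383)) (tt N2708 D4197) (tt N1556 F14437) (tt N2707 (iv F20432)) (tt N1555 (iv D2977)) (tt N1586 F14438))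
theorem Q2071 : ∀ i, i < 2071 → P i := stepQ 2070 Q2070 (allL N2070 (tt N2703 (iv F20412)) (tt N1562 F14439) (tt N2493 (iv F18800)) (tt N1614 F14440) (tt N2709 D4198) (tt N1556 (iv D2978)) (tt N2524 (iv F131313)) (tt N2070 F14441) (tt N2070 F14442) (tt N1587 F14443))
theorem Q2072 : ∀ i, i < 2072 → P i := stepQ 2071 Q2071 (allL N2071 (tt N2071 F14444) (tt N2174 (iv F20396)) (tt N2071 F14445) (tt N1557 (iv D2979)) (tt N1615 F14446) (tt N2579 F19286) (tt N2071 F14447) (tt N2155 (iv F20155)) (tt N2071 F14448) (tt N2710 D4200))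
theorem Q2073 : ∀ i, i < 2073 → P i := stepQ 2072 Q2072 (allL N2072 (tt N2072 F14449) (tt N2171 (iv F20392)) (tt N1563 F14450) (tt N2155 (iv F20153)) (tt N1558 F14451) (tt N2603 (iv F19394)) (tt N2154 (iv F20152)) (tt N1557 (iv D2980)) (tt N2072 F14452) (tt N2711 D4201))
theorem Q2074 : ∀ i, i < 2074 → P i := stepQ 2073 Q2073 (allL N2073 (tt N2073 F14453) (tt N2704 (iv F20418)) (tt N1564 F14454) (tt N2710 (iv F20447)) (tt N1559 F14455) (tt N2604 (iv F19400)) (tt N2073 F14456) (tt N2711 (iv F20453)) (tt N2712 D4202) (tt N1557 (iv D2981)))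
theorem Q2075 : ∀ i, i < 2075 → P i := stepQ 2074 Q2074 (allL N2074 (tt N2074 F14457) (tt N2166 (iv F20395)) (tt N1565 F14458) (tt N1618 F14459) (tt N2154 (iv F20151)) (tt N2074 F14460) (tt N1558 (iv D2982)) (tt N2074 F14461) (tt N2074 F14462) (tt N2713 D4203))
theorem Q2076 : ∀ i, i < 2076 → P i := stepQ 2075 Q2075 (allL N2075 (tt N2075 F14463) (tt N2705 (iv F20421)) (tt N1566 F14464) (tt N1619 F14465) (tt N2711 (iv F20452)) (tt N1560 F14466) (tt N2713 (iv F20463)) (tt N1559 F14467) (tt N2714 D4204) (tt N1558 (iv D2983)))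
theorem Q2077 : ∀ i, i < 2077 → P i := stepQ 2076 Q2076 (allL N2076 (tt N2076 F14468) (tt N2706 (iv F20425)) (tt N1567 F14469) (tt N1620 F14470) (tt N2712 (iv F20456)) (tt N2715 D4205) (tt N2076 F14471) (tt N2714 (iv F20468)) (tt N1559 (iv D2984)) (tt N2076 F14472))
theorem Q2078 : ∀ i, i < 2078 → P i := stepQ 2077 Q2077 (allL N2077 (tt N2077 F14473) (tt N2707 (iv F20429)) (tt N1568 F14474) (tt N1621 F14475) (tt N2610 (iv F19430)) (tt N2716 D4206) (tt N2077 F14476) (tt N1561 F14477) (tt N1560 (iv D2985)) (tt N1588 F14478))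
theorem Q2079 : ∀ i, i < 2079 → P i := stepQ 2078 Q2078 (allL N2078 (tt N2078 F14479) (tt N2708 (iv F20434)) (tt N1569 F14480) (tt N1622 F14481) (tt N2717 D4207) (tt N1561 (iv D2986)) (tt N2718 D4208) (tt N2716 (iv F20478)) (tt N2715 (iv F20473)) (tt N1589 F14482))
theorem Q2080 : ∀ i, i < 2080 → P i := stepQ 2079 Q2079 (allL N2079 (tt N2079 F14483) (tt N2709 (iv F20437)) (tt N1570 F14484) (tt N2640 F131638) (tt N1562 (iv D2987)) (tt N2612 (iv F19440)) (tt N2639 F131639) (tt N2079 F14485) (tt N2079 F14486) (tt N1590 F14487))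
theorem Q2081 : ∀ i, i < 2081 → P i := stepQ 2080 Q2080 (allL N2080 (tt N2080 F14488) (tt N2524 (iv F131311)) (tt N1571 F14489) (tt N1579 (iv F131204)) (tt N2639 (iv F131279)) (tt N2718 (iv F20486)) (tt N1562 (iv D2988)) (tt N1581 (iv F131315)) (tt N2080 F14491) (tt N1591 F14492))
theorem Q2082 : ∀ i, i < 2082 → P i := stepQ 2081 Q2081 (allL N2081 (tt N2081 F14493) (tt N2504 (iv F18844)) (tt N2154 (iv F20150)) (tt N2081 F14494) (tt N1565 F14495) (tt N2159 (iv F20157)) (tt N1563 (iv D2989)) (tt N2081 F14496) (tt N2081 F14497) (tt N2719 D4212))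
theorem Q2083 : ∀ i, i < 2083 → P i := stepQ 2082 Q2082 (allL N2082 (tt N2082 F14498) (tt N2505 (iv F18849)) (tt N2711 (iv F20451)) (tt N2082 F14499) (tt N1566 F14500) (tt N2614 (iv F19450)) (tt N2719 (iv F20508)) (tt N1564 F14501) (tt N2720 D4213) (tt N1563 (iv D2990)))
theorem Q2084 : ∀ i, i < 2084 → P i := stepQ 2083 Q2083 (allL N2083 (tt N2083 F14502) (tt N2506 (iv F18853)) (tt N2712 (iv F20455)) (tt N2083 F14503) (tt N1567 F14504) (tt N2721 D4214) (tt N2083 F14505) (tt N2720 (iv F20513)) (tt N1564 (iv D2991)) (tt N2083 F14506))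
theorem Q2085 : ∀ i, i < 2085 → P i := stepQ 2084 Q2084 (allL N2084 (tt N2084 F14507) (tt N2507 (iv F18858)) (tt N2713 (iv F20460)) (tt N1572 F14508) (tt N2719 (iv F20507)) (tt N2084 F14509) (tt N1566 F14510) (tt N2084 F14511) (tt N2722 D4215) (tt N1565 (iv D2992)))
theorem Q2086 : ∀ i, i < 2086 → P i := stepQ 2085 Q2085 (allL N2085 (tt N2085 F14512) (tt N2508 (iv F18863)) (tt N2714 (iv F20466)) (tt N1573 F14513) (tt N2720 (iv F20512)) (tt N2723 D4216) (tt N2722 (iv F20520)) (tt N1567 F14514) (tt N1566 (iv D2993)) (tt N2085 F14515))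
theorem Q2087 : ∀ i, i < 2087 → P i := stepQ 2086 Q2086 (allL N2086 (tt N2086 F14516) (tt N2509 (iv F18867)) (tt N2715 (iv F20471)) (tt N1574 F14517) (tt N2724 D4217) (tt N1567 (iv D2994)) (tt N2725 D4218) (tt N2723 (iv F20525)) (tt N1569 F14518) (tt N2086 F14519))
theorem Q2088 : ∀ i, i < 2088 → P i := stepQ 2087 Q2087 (allL N2087 (tt N2087 F14520) (tt N2510 (iv F18871)) (tt N2716 (iv F20476)) (tt N1575 F14521) (tt N2726 D4219) (tt N1568 (iv D2995)) (tt N2727 D4220) (tt N1569 F14522) (tt N2723 (iv F20526)) (tt N1592 F14523))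
theorem Q2089 : ∀ i, i < 2089 → P i := stepQ 2088 Q2088 (allL N2088 (tt N2088 F14524) (tt N2511 (iv F18875)) (tt N2717 (iv F20481)) (tt N2728 D4221) (tt N1569 (iv D2996)) (tt N2623 (iv F19481)) (tt N2729 D4222) (tt N2726 (iv F20537)) (tt N2724 (iv F20529)) (tt N1593 F14525))
theorem Q2090 : ∀ i, i < 2090 → P i := stepQ 2089 Q2089 (allL N2089 (tt N2089 F14526) (tt N2512 (iv F18877)) (tt N2718 (iv F20484)) (tt N1577 F14527) (tt N2729 (iv F20547)) (tt N1571 F14528) (tt N1569 (iv D2997)) (tt N2730 D4223) (tt N2725 (iv F20534)) (tt N1594 F14529))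
theorem Q2091 : ∀ i, i < 2091 → P i := stepQ 2090 Q2090 (allL N2090 (tt N2090 F14530) (tt N2513 (iv F18881)) (tt N2639 F131684) (tt N2090 F14531) (tt N1571 F14532) (tt N2731 D4224) (tt N1570 (iv D2998)) (tt N2641 F131685) (tt N2090 F14533) (tt N1595 F14534))
theorem Q2092 : ∀ i, i < 2092 → P i := stepQ 2091 Q2091 (allL N2091 (tt N2091 F14535) (tt N2514 (iv F18886)) (tt N1581 (iv F131314)) (tt N1578 F14536) (tt N2641 (iv F131280)) (tt N2730 (iv F20551)) (tt N2091 F14537) (tt N1571 (iv D2999)) (tt N2091 F14538) (tt N1596 F14539))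
theorem Q2093 : ∀ i, i < 2093 → P i := stepQ 2092 Q2092 (allL N2092 (tt N2092 F14540) (tt N2515 (iv F18891)) (tt N1632 F14541) (tt N2722 (iv F20519)) (tt N2092 F14542) (tt N2732 D4226) (tt N1573 F14543) (tt N2092 F14544) (tt N1572 (iv D3000)) (tt N2092 F14545))
theorem Q2094 : ∀ i, i < 2094 → P i := stepQ 2093 Q2093 (allL N2093 (tt N2093 F14546) (tt N2516 (iv F18897)) (tt N1633 F14547) (tt N2723 (iv F20524)) (tt N2733 D4227) (tt N1573 (iv D3001)) (tt N2734 D4228) (tt N1574 F14548) (tt N1575 F14549) (tt N2093 F14550))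
theorem Q2095 : ∀ i, i < 2095 → P i := stepQ 2094 Q2094 (allL N2094 (tt N2094 F14551) (tt N2517 (iv F18902)) (tt N1634 F14552) (tt N2735 D4229) (tt N1574 (iv D3002)) (tt N2094 F14553) (tt N2736 D4230) (tt N2733 (iv F20570)) (tt N1576 F14554) (tt N2094 F14555))
theorem Q2096 : ∀ i, i < 2096 → P i := stepQ 2095 Q2095 (allL N2095 (tt N2095 F14556) (tt N2518 (iv F18907)) (tt N1635 F14557) (tt N2725 (iv F20532)) (tt N2736 (iv F20583)) (tt N2095 F14558) (tt N1574 (iv D3003)) (tt N2737 D4231) (tt N1577 F14559) (tt N2095 F14560))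
theorem Q2097 : ∀ i, i < 2097 → P i := stepQ 2096 Q2096 (allL N2096 (tt N2096 F14561) (tt N2519 (iv F18912)) (tt N1631 F131622) (tt N2718 F131623) (tt N1575 (iv D3004)) (tt N1579 F14563) (tt N1622 F131624) (tt N1576 F14564) (tt N2733 (iv F20571)) (tt N1597 F14565))
theorem Q2098 : ∀ i, i < 2098 → P i := stepQ 2097 Q2097 (allL N2097 (tt N2097 F14566) (tt N2520 (iv F18917)) (tt N1630 F131629) (tt N2727 (iv F20540)) (tt N1622 F131630) (tt N2097 F14568) (tt N1575 (iv D3005)) (tt N2738 D4234) (tt N2734 (iv F20575)) (tt N1598 F14569))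
theorem Q2099 : ∀ i, i < 2099 → P i := stepQ 2098 Q2098 (allL N2098 (tt N2098 F14570) (tt N2521 (iv F18921)) (tt N2730 F131714) (tt N1576 (iv D3006)) (tt N2728 (iv F20544)) (tt N1581 F14571) (tt N2739 D4236) (tt N2718 F131715) (tt N2735 (iv F20579)) (tt N1599 F14572))
theorem Q2100 : ∀ i, i < 2100 → P i := stepQ 2099 Q2099 (allL N2099 (tt N2099 F14573) (tt N2522 (iv F18924)) (tt N1637 F14574) (tt N2739 (iv F20609)) (tt N1577 F14575) (tt N2099 F14576) (tt N1576 (iv D3007)) (tt N2740 D4237) (tt N2736 (iv F20584)) (tt N1600 F14577))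
theorem Q2101 : ∀ i, i < 2101 → P i := stepQ 2100 Q2100 (allL N2100 (tt N2100 F14578) (tt N2523 (iv F18929)) (tt N1636 F131633) (tt N2730 (iv F20550)) (tt N2740 (iv F20614)) (tt N1578 F14580) (tt N2738 (iv F20602)) (tt N1577 (iv D3008)) (tt N2737 (iv F20589)) (tt N1601 F14581))
theorem Q2102 : ∀ i, i < 2102 → P i := stepQ 2101 Q2101 (allL N2101 (tt N1585 F14597) (tt N2101 F14598) (tt N2526 (iv F18948)) (tt N1638 F14599) (tt N2645 (iv F19587)) (tt N2101 F14600) (tt N2101 F14601) (tt N1583 F14602) (tt N2741 D4242) (tt N1582 (iv D3012)))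
theorem Q2103 : ∀ i, i < 2103 → P i := stepQ 2102 Q2102 (allL N2102 (tt N1586 F14603) (tt N2102 F14604) (tt N2527 (iv F18954)) (tt N1639 F14605) (tt N2646 (iv F19593)) (tt N2742 D4243) (tt N1584 F14606) (tt N2741 (iv F20640)) (tt N1583 (iv D3013)) (tt N2702 (iv F20411)))
theorem Q2104 : ∀ i, i < 2104 → P i := stepQ 2103 Q2103 (allL N2103 (tt N1587 F14607) (tt N2103 F14608) (tt N2528 (iv F18958)) (tt N1640 F14609) (tt N2743 D4244) (tt N1584 (iv D3014)) (tt N2323 (iv F131329)) (tt N2103 F14610) (tt N1602 F14611) (tt N2703 (iv F20417)))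
theorem Q2105 : ∀ i, i < 2105 → P i := stepQ 2104 Q2104 (allL N2104 (tt N2741 (iv F20636)) (tt N1588 F14612) (tt N2529 (iv F18963)) (tt N1641 F14613) (tt N2652 (iv F19624)) (tt N2744 D4246) (tt N2104 F14614) (tt N1586 F14615) (tt N1585 (iv D3015)) (tt N2707 (iv F20433)))
theorem Q2106 : ∀ i, i < 2106 → P i := stepQ 2105 Q2105 (allL N2105 (tt N2742 (iv F20641)) (tt N1589 F14616) (tt N2530 (iv F18968)) (tt N1642 F14617) (tt N2745 D4247) (tt N1586 (iv D3016)) (tt N2546 (iv F131319)) (tt N2744 (iv F20655)) (tt N2105 F14618) (tt N2708 (iv F20436)))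
theorem Q2107 : ∀ i, i < 2107 → P i := stepQ 2106 Q2106 (allL N2106 (tt N2743 (iv F20645)) (tt N1590 F14619) (tt N2531 (iv F18972)) (tt N2474 (iv F131289)) (tt N1587 (iv D3017)) (tt N2654 (iv F19630)) (tt N2473 (iv F131286)) (tt N2106 F14620) (tt N1603 F14621) (tt N2709 (iv F20440)))
theorem Q2108 : ∀ i, i < 2108 → P i := stepQ 2107 Q2107 (allL N2107 (tt N2107 F14625) (tt N2744 (iv F20653)) (tt N1592 F14626) (tt N1643 F14627) (tt N2746 D4252) (tt N1588 (iv D3019)) (tt N2747 D4253) (tt N1589 F14628) (tt N2107 F14629) (tt N2716 (iv F20479)))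
theorem Q2109 : ∀ i, i < 2109 → P i := stepQ 2108 Q2108 (allL N2108 (tt N2108 F14630) (tt N2745 (iv F20657)) (tt N1593 F14631) (tt N2748 D4254) (tt N1589 (iv D3020)) (tt N2661 (iv F19676)) (tt N2749 D4255) (tt N2746 (iv F20676)) (tt N2108 F14632) (tt N2717 (iv F20482)))
theorem Q2110 : ∀ i, i < 2110 → P i := stepQ 2109 Q2109 (allL N2109 (tt N2109 F14633) (tt N2546 (iv F131317)) (tt N1594 F14634) (tt N1597 (iv F131215)) (tt N2749 (iv F20688)) (tt N1591 F14636) (tt N1589 (iv D3021)) (tt N1599 (iv F131321)) (tt N2109 F14637) (tt N2718 (iv F20487)))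
theorem Q2111 : ∀ i, i < 2111 → P i := stepQ 2110 Q2110 (allL N2110 (tt N2110 F14652) (tt N2539 (iv F19000)) (tt N2746 (iv F20675)) (tt N2749 F131735) (tt N1592 (iv D3025)) (tt N2671 (iv F19733)) (tt N2748 F131736) (tt N1593 F14653) (tt N2110 F14654) (tt N2726 (iv F20538)))
theorem Q2112 : ∀ i, i < 2112 → P i := stepQ 2111 Q2111 (allL N2111 (tt N2111 F14655) (tt N2540 (iv F19003)) (tt N2747 (iv F20679)) (tt N1598 F14656) (tt N2748 F131640) (tt N2111 F14657) (tt N1592 (iv D3026)) (tt N2750 D4262) (tt N2111 F14658) (tt N2727 (iv F20542)))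
theorem Q2113 : ∀ i, i < 2113 → P i := stepQ 2112 Q2112 (allL N2112 (tt N2112 F14659) (tt N2541 (iv F19007)) (tt N2751 D4263) (tt N1593 (iv D3027)) (tt N1599 F14660) (tt N2673 (iv F19740)) (tt N2752 D4264) (tt N2749 F131737) (tt N2112 F14661) (tt N2728 (iv F20545)))
theorem Q2114 : ∀ i, i < 2114 → P i := stepQ 2113 Q2113 (allL N2113 (tt N2113 F14662) (tt N2542 (iv F19010)) (tt N2749 (iv F20687)) (tt N2752 (iv F20723)) (tt N1594 F14663) (tt N2753 D4265) (tt N1593 (iv D3028)) (tt N2751 F131734) (tt N2113 F14664) (tt N2729 (iv F20548)))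
theorem Q2115 : ∀ i, i < 2115 → P i := stepQ 2114 Q2114 (allL N2114 (tt N2114 F14665) (tt N2543 (iv F19013)) (tt N1599 (iv F131320)) (tt N1601 F14666) (tt N2751 (iv F131323)) (tt N1596 F14667) (tt N2750 (iv F20717)) (tt N1594 (iv D3029)) (tt N2114 F14668) (tt N2730 (iv F20552)))
theorem Q2116 : ∀ i, i < 2116 → P i := stepQ 2115 Q2115 (allL N2115 (tt N2115 F14669) (tt N2544 (iv F19017)) (tt N2686 F131680) (tt N2115 F14670) (tt N2753 (iv F20727)) (tt N1595 (iv D3030)) (tt N2676 (iv F19748)) (tt N2689 F131681) (tt N2754 D4268) (tt N2731 (iv F20555)))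
theorem Q2117 : ∀ i, i < 2117 → P i := stepQ 2116 Q2116 (allL N2116 (tt N2116 F14684) (tt N2547 (iv F19032)) (tt N1644 F131324) (tt N2750 (iv F20715)) (tt N1643 F131325) (tt N2116 F14686) (tt N1601 F14687) (tt N1598 (iv D3034)) (tt N2116 F14688) (tt N2738 (iv F20603)))
theorem Q2118 : ∀ i, i < 2118 → P i := stepQ 2117 Q2117 (allL N2117 (tt N2117 F14693) (tt N2549 (iv F19040)) (tt N2750 F131738) (tt N1600 F14694) (tt N2752 (iv F20724)) (tt N2117 F14695) (tt N1599 (iv D3036)) (tt N2747 F131739) (tt N2117 F14696) (tt N2739 (iv F20611)))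
theorem Q2119 : ∀ i, i < 2119 → P i := stepQ 2118 Q2118 (allL N2118 (tt N2118 F14697) (tt N2550 (iv F19044)) (tt N1645 F131326) (tt N2747 F131327) (tt N1601 F14699) (tt N2118 F14700) (tt N1643 F131328) (tt N1600 (iv D3037)) (tt N2118 F14701) (tt N2740 (iv F20616)))
theorem Q2120 : ∀ i, i < 2120 → P i := stepQ 2119 Q2119 (allL N2119 (tt N1603 F14773) (tt N2119 F14774) (tt N2551 (iv F19121)) (tt N2270 (iv F131332)) (tt N1602 (iv D3053)) (tt N2119 F14775) (tt N2269 (iv F131330)) (tt N2119 F14776) (tt N2743 (iv F20648)) (tt N2119 F14777))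
theorem Q2121 : ∀ i, i < 2121 → P i := stepQ 2120 Q2120 (allL N2120 (tt N2120 F14816) (tt N2556 (iv F19162)) (tt N2693 (iv F131331)) (tt N2120 F14817) (tt N2120 F14818) (tt N2754 (iv F20736)) (tt N2120 F14819) (tt N2696 (iv F131284)) (tt N1604 (iv D3062)) (tt N2755 D4299))
theorem Q2122 : ∀ i, i < 2122 → P i := stepQ 2121 Q2121 (allL N2121 (tt N1611 F14831) (tt N2121 F14832) (tt N2121 F14833) (tt N2700 (iv F20399)) (tt N2340 F20370) (tt N1607 F14834) (tt N2121 F14835) (tt N2338 (iv F20368)) (tt N2756 D4300) (tt N1605 (iv D3065)))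
theorem Q2123 : ∀ i, i < 2123 → P i := stepQ 2122 Q2122 (allL N2122 (tt N1612 F14836) (tt N2122 F14837) (tt N2122 F14838) (tt N2701 (iv F20404)) (tt N2122 F14839) (tt N2338 F20371) (tt N2122 F14840) (tt N1607 F14841) (tt N2757 D4301) (tt N1606 (iv D3066)))
theorem Q2124 : ∀ i, i < 2124 → P i := stepQ 2123 Q2123 (allL N2123 (tt N1613 F14842) (tt N2123 F14843) (tt N2123 F14844) (tt N2702 (iv F20409)) (tt N2123 F14845) (tt N2758 D4302) (tt N1608 F14846) (tt N2757 (iv F20891)) (tt N1607 (iv D3067)) (tt N1639 F14847))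
theorem Q2125 : ∀ i, i < 2125 → P i := stepQ 2124 Q2124 (allL N2124 (tt N1614 F14848) (tt N2124 F14849) (tt N2124 F14850) (tt N2703 (iv F20414)) (tt N2301 (iv F132008)) (tt N1608 (iv D3068)) (tt N2300 (iv F132007)) (tt N2124 F14851) (tt N2124 F14852) (tt N1640 F14853))
theorem Q2126 : ∀ i, i < 2126 → P i := stepQ 2125 Q2125 (allL N2125 (tt N2340 (iv F20372)) (tt N1617 F14863) (tt N2125 F14864) (tt N2177 F20373) (tt N1611 F14865) (tt N2125 F14866) (tt N2125 F14867) (tt N2168 F20374) (tt N2759 D4305) (tt N1609 (iv D3071)))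
theorem Q2127 : ∀ i, i < 2127 → P i := stepQ 2126 Q2126 (allL N2126 (tt N2338 F20369) (tt N1619 F14873) (tt N2126 F14874) (tt N2705 (iv F20422)) (tt N2168 (iv F20376)) (tt N1612 F14875) (tt N2167 F20377) (tt N1611 F14876) (tt N2760 D4306) (tt N1610 (iv D3073)))
theorem Q2128 : ∀ i, i < 2128 → P i := stepQ 2127 Q2127 (allL N2127 (tt N2756 (iv F20881)) (tt N1620 F14877) (tt N2127 F14878) (tt N2706 (iv F20426)) (tt N2759 (iv F20911)) (tt N2761 D4307) (tt N2127 F14879) (tt N2760 (iv F20916)) (tt N1611 (iv D3074)) (tt N2127 F14880))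
theorem Q2129 : ∀ i, i < 2129 → P i := stepQ 2128 Q2128 (allL N2128 (tt N2757 (iv F20886)) (tt N1621 F14881) (tt N2128 F14882) (tt N2707 (iv F20430)) (tt N2128 F14883) (tt N2762 D4308) (tt N2128 F14884) (tt N1613 F14885) (tt N1612 (iv D3075)) (tt N1641 F14886))
theorem Q2130 : ∀ i, i < 2130 → P i := stepQ 2129 Q2129 (allL N2129 (tt N2758 (iv F20893)) (tt N1622 F14887) (tt N2129 F14888) (tt N2708 (iv F20435)) (tt N2520 (iv F131974)) (tt N1613 (iv D3076)) (tt N2519 (iv F131975)) (tt N2762 (iv F20924)) (tt N2761 (iv F20920)) (tt N1642 F14889))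
theorem Q2131 : ∀ i, i < 2131 → P i := stepQ 2130 Q2130 (allL N2130 (tt N2130 F14905) (tt N2177 F20384) (tt N2130 F14906) (tt N1617 F14907) (tt N2710 (iv F20448)) (tt N2130 F14908) (tt N2130 F14909) (tt N2157 (iv F20383)) (tt N2763 D4314) (tt N1615 (iv D3080)))
theorem Q2132 : ∀ i, i < 2132 → P i := stepQ 2131 Q2131 (allL N2131 (tt N2131 F14915) (tt N2168 (iv F20375)) (tt N1624 F14916) (tt N2157 F20382) (tt N1619 F14917) (tt N2131 F14918) (tt N2153 (iv F20381)) (tt N1617 F14919) (tt N2764 D4315) (tt N1616 (iv D3082)))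
theorem Q2133 : ∀ i, i < 2133 → P i := stepQ 2132 Q2132 (allL N2132 (tt N2132 F14920) (tt N2759 (iv F20909)) (tt N1625 F14921) (tt N2763 (iv F20951)) (tt N1620 F14922) (tt N2765 D4316) (tt N2132 F14923) (tt N2764 (iv F20957)) (tt N1617 (iv D3083)) (tt N2132 F14924))
theorem Q2134 : ∀ i, i < 2134 → P i := stepQ 2133 Q2133 (allL N2133 (tt N2133 F14925) (tt N2167 (iv F20378)) (tt N1626 F14926) (tt N2713 (iv F20461)) (tt N2153 F20379) (tt N2133 F14927) (tt N1619 F14928) (tt N2133 F14929) (tt N2766 D4317) (tt N1618 (iv D3084)))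
theorem Q2135 : ∀ i, i < 2135 → P i := stepQ 2134 Q2134 (allL N2134 (tt N2134 F14930) (tt N2760 (iv F20914)) (tt N1627 F14931) (tt N2714 (iv F20467)) (tt N2764 (iv F20956)) (tt N2767 D4318) (tt N2766 (iv F20965)) (tt N1620 F14932) (tt N1619 (iv D3085)) (tt N2134 F14933))
theorem Q2136 : ∀ i, i < 2136 → P i := stepQ 2135 Q2135 (allL N2135 (tt N2135 F14934) (tt N2761 (iv F20918)) (tt N1628 F14935) (tt N2715 (iv F20472)) (tt N2734 (iv F131987)) (tt N1620 (iv D3086)) (tt N2733 (iv F131990)) (tt N2767 (iv F20970)) (tt N1622 F14936) (tt N2135 F14937))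
theorem Q2137 : ∀ i, i < 2137 → P i := stepQ 2136 Q2136 (allL N2136 (tt N2136 F14938) (tt N2762 (iv F20922)) (tt N1629 F14939) (tt N2716 (iv F20477)) (tt N2738 F131614) (tt N1621 (iv D3087)) (tt N2740 F131615) (tt N1622 F14940) (tt N2767 (iv F20971)) (tt N1643 F14941))
theorem Q2138 : ∀ i, i < 2138 → P i := stepQ 2137 Q2137 (allL N2137 (tt N2137 F14972) (tt N2137 F14973) (tt N2153 (iv F20380)) (tt N2137 F14974) (tt N1626 F14975) (tt N2152 F20385) (tt N1624 F14976) (tt N2137 F14977) (tt N2768 D4329) (tt N1623 (iv D3094)))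
theorem Q2139 : ∀ i, i < 2139 → P i := stepQ 2138 Q2138 (allL N2138 (tt N2138 F14978) (tt N2138 F14979) (tt N2764 (iv F20955)) (tt N2138 F14980) (tt N1627 F14981) (tt N2769 D4330) (tt N2768 (iv F21022)) (tt N1625 F14982) (tt N1624 (iv D3095)) (tt N2138 F14983))
theorem Q2140 : ∀ i, i < 2140 → P i := stepQ 2139 Q2139 (allL N2139 (tt N2139 F14984) (tt N2139 F14985) (tt N2765 (iv F20960)) (tt N2139 F14986) (tt N2770 D4331) (tt N1625 (iv D3096)) (tt N2771 D4332) (tt N2769 (iv F21029)) (tt N2139 F14987) (tt N2139 F14988))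
theorem Q2141 : ∀ i, i < 2141 → P i := stepQ 2140 Q2140 (allL N2140 (tt N2140 F14989) (tt N2140 F14990) (tt N2766 (iv F20964)) (tt N1632 F14991) (tt N2768 (iv F21020)) (tt N2772 D4333) (tt N1627 F14992) (tt N2140 F14993) (tt N1626 (iv D3097)) (tt N2140 F14994))
theorem Q2142 : ∀ i, i < 2142 → P i := stepQ 2141 Q2141 (allL N2141 (tt N2141 F14995) (tt N2141 F14996) (tt N2767 (iv F20969)) (tt N1633 F14997) (tt N2773 D4334) (tt N1627 (iv D3098)) (tt N2774 D4335) (tt N1628 F14998) (tt N1629 F14999) (tt N2141 F15000))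
theorem Q2143 : ∀ i, i < 2143 → P i := stepQ 2142 Q2142 (allL N2142 (tt N2142 F15001) (tt N2142 F15002) (tt N2734 (iv F131986)) (tt N2774 (iv F131997)) (tt N1628 (iv D3099)) (tt N2770 (iv F21034)) (tt N1633 (iv F132000)) (tt N2773 (iv F21053)) (tt N1630 F15003) (tt N2142 F15004))
theorem Q2144 : ∀ i, i < 2144 → P i := stepQ 2143 Q2143 (allL N2143 (tt N2143 F15005) (tt N2143 F15006) (tt N2733 (iv F131988)) (tt N1635 F15007) (tt N1633 (iv F131999)) (tt N2143 F15008) (tt N1628 (iv D3100)) (tt N1634 (iv F132002)) (tt N1631 F15009) (tt N2143 F15010))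
theorem Q2145 : ∀ i, i < 2145 → P i := stepQ 2144 Q2144 (allL N2144 (tt N2144 F15011) (tt N2144 F15012) (tt N2738 F131621) (tt N1637 F131617) (tt N1629 (iv D3101)) (tt N2144 F15013) (tt N1636 F131618) (tt N1630 F15014) (tt N2773 (iv F21054)) (tt N1644 F15015))
theorem Q2146 : ∀ i, i < 2146 → P i := stepQ 2145 Q2145 (allL N2145 (tt N2145 F15016) (tt N2145 F15017) (tt N2740 F131619) (tt N1630 F131631) (tt N1636 F131632) (tt N2145 F15019) (tt N1629 (iv D3102)) (tt N1637 F131620) (tt N2774 (iv F21059)) (tt N1645 F15020))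
theorem Q2147 : ∀ i, i < 2147 → P i := stepQ 2146 Q2146 (allL N2146 (tt N2146 F15047) (tt N2146 F15048) (tt N2732 (iv F20563)) (tt N2772 (iv F21046)) (tt N2771 F132556) (tt N1632 (iv D3108)) (tt N2770 F132557) (tt N2146 F15049) (tt N2146 F15050) (tt N2146 F15051))
theorem Q2148 : ∀ i, i < 2148 → P i := stepQ 2147 Q2147 (allL N2147 (tt N2147 F15062) (tt N2147 F15063) (tt N2737 (iv F132003)) (tt N1634 (iv D3111)) (tt N2774 (iv F131998)) (tt N2147 F15064) (tt N2773 (iv F131993)) (tt N1635 (iv F132001)) (tt N1636 F15065) (tt N2147 F15066))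
theorem Q2149 : ∀ i, i < 2149 → P i := stepQ 2148 Q2148 (allL N2148 (tt N2148 F15067) (tt N2148 F15068) (tt N2736 (iv F20582)) (tt N2773 (iv F131992)) (tt N1635 F15069) (tt N2775 D4355) (tt N1634 (iv D3112)) (tt N2774 (iv F131995)) (tt N1637 F15070) (tt N2148 F15071))
theorem Q2150 : ∀ i, i < 2150 → P i := stepQ 2149 Q2149 (allL N2149 (tt N1641 F15126) (tt N2149 F15127) (tt N2149 F15128) (tt N2741 (iv F20638)) (tt N2149 F15129) (tt N2776 D4369) (tt N2149 F15130) (tt N1639 F15131) (tt N1638 (iv D3124)) (tt N2757 (iv F20892)))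
theorem Q2151 : ∀ i, i < 2151 → P i := stepQ 2150 Q2150 (allL N2150 (tt N1642 F15132) (tt N2150 F15133) (tt N2150 F15134) (tt N2742 (iv F20643)) (tt N2319 (iv F132009)) (tt N1639 (iv D3125)) (tt N2318 (iv F132010)) (tt N2776 (iv F21229)) (tt N2150 F15135) (tt N2758 (iv F20896)))
theorem Q2152 : ∀ i, i < 2152 → P i := stepQ 2151 Q2151 (allL N2151 (tt N2776 (iv F21226)) (tt N1643 F15146) (tt N2151 F15147) (tt N2744 (iv F20654)) (tt N2547 (iv F131742)) (tt N1641 (iv D3128)) (tt N2550 (iv F131743)) (tt N1642 F15148) (tt N2151 F15149) (tt N2762 (iv F20925)))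
theorem Q2153 : ∀ i, i < 2153 → P i := stepQ 2152 Q2152 (allL N2152 (tt N2152 F15531) (tt N2152 F15532) (tt N1648 F15533) (tt N2152 F15534) (tt N2152 F15535) (tt N2137 (iv F20385)) (tt N2152 F15536) (tt N2152 F15537) (tt N2152 F15538) (tt N1646 (iv D3207)))
theorem Q2154 : ∀ i, i < 2154 → P i := stepQ 2153 Q2153 (allL N2153 (tt N2153 F15549) (tt N1660 F15550) (tt N2137 F20380) (tt N1651 F15551) (tt N2133 (iv F20379)) (tt N1648 F15552) (tt N2131 F20381) (tt N2153 F15553) (tt N2777 D4471) (tt N1647 (iv D3210)))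
theorem Q2155 : ∀ i, i < 2155 → P i := stepQ 2154 Q2154 (allL N2154 (tt N2154 F15554) (tt N1661 F15555) (tt N2081 F20150) (tt N1649 (iv D3211)) (tt N2074 F20151) (tt N1652 F15556) (tt N2072 F20152) (tt N2154 F15557) (tt N2154 F15558) (tt N2778 D4472))
theorem Q2156 : ∀ i, i < 2156 → P i := stepQ 2155 Q2155 (allL N2155 (tt N2155 F15559) (tt N1662 F15560) (tt N2155 F15561) (tt N2072 F20153) (tt N1650 F15562) (tt N1999 F20154) (tt N1649 (iv D3212)) (tt N2071 F20155) (tt N2155 F15563) (tt N2779 D4473))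
theorem Q2157 : ∀ i, i < 2157 → P i := stepQ 2156 Q2156 (allL N2156 (tt N2156 F15564) (tt N1663 F15565) (tt N2156 F15566) (tt N2778 (iv F21723)) (tt N1651 F15567) (tt N1653 F15568) (tt N2779 (iv F21734)) (tt N2156 F15569) (tt N2780 D4474) (tt N1649 (iv D3213)))
theorem Q2158 : ∀ i, i < 2158 → P i := stepQ 2157 Q2157 (allL N2157 (tt N2157 F15576) (tt N1665 F15577) (tt N2157 F15578) (tt N2131 (iv F20382)) (tt N2779 (iv F21732)) (tt N2157 F15579) (tt N1651 F15580) (tt N2130 F20383) (tt N2781 D4475) (tt N1650 (iv D3215)))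
theorem Q2159 : ∀ i, i < 2159 → P i := stepQ 2158 Q2158 (allL N2158 (tt N2158 F15581) (tt N1666 F15582) (tt N2158 F15583) (tt N2777 (iv F21714)) (tt N2780 (iv F21739)) (tt N2158 F15584) (tt N2781 (iv F21746)) (tt N2158 F15585) (tt N1651 (iv D3216)) (tt N2158 F15586))
theorem Q2160 : ∀ i, i < 2160 → P i := stepQ 2159 Q2159 (allL N2159 (tt N2159 F15587) (tt N2782 D4476) (tt N1652 (iv D3217)) (tt N2159 F15588) (tt N2159 F15589) (tt N2081 F20157) (tt N2022 F20158) (tt N2159 F15590) (tt N1655 F15591) (tt N2783 D4477))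
theorem Q2161 : ∀ i, i < 2161 → P i := stepQ 2160 Q2160 (allL N2160 (tt N2160 F15597) (tt N1669 F15598) (tt N2783 (iv F21757)) (tt N1653 F15599) (tt N2160 F15600) (tt N2778 (iv F21725)) (tt N2030 F20161) (tt N2160 F15601) (tt N2784 D4478) (tt N1652 (iv D3219)))
theorem Q2162 : ∀ i, i < 2162 → P i := stepQ 2161 Q2161 (allL N2161 (tt N2161 F15617) (tt N1672 F15618) (tt N2161 F15619) (tt N2784 (iv F21765)) (tt N1654 F15620) (tt N2785 D4479) (tt N2039 F20165) (tt N2161 F15621) (tt N1653 (iv D3223)) (tt N1657 F15622))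
theorem Q2163 : ∀ i, i < 2163 → P i := stepQ 2162 Q2162 (allL N2162 (tt N2786 D4480) (tt N1655 (iv D3226)) (tt N1674 F15636) (tt N2162 F15637) (tt N2162 F15638) (tt N2162 F15639) (tt N2016 F20171) (tt N2162 F15640) (tt N2782 (iv F21755)) (tt N2787 D4481))
theorem Q2164 : ∀ i, i < 2164 → P i := stepQ 2163 Q2163 (allL N2163 (tt N2163 F15645) (tt N2787 (iv F21783)) (tt N1656 F15646) (tt N2163 F15647) (tt N2163 F15648) (tt N2163 F15649) (tt N2023 F20173) (tt N2163 F15650) (tt N2788 D4482) (tt N1655 (iv D3228)))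
theorem Q2165 : ∀ i, i < 2165 → P i := stepQ 2164 Q2164 (allL N2164 (tt N2164 F15665) (tt N1678 F15666) (tt N2788 (iv F21791)) (tt N1657 F15667) (tt N2164 F15668) (tt N2789 D4483) (tt N2031 F20176) (tt N2164 F15669) (tt N1656 (iv D3232)) (tt N2784 (iv F21769)))
theorem Q2166 : ∀ i, i < 2166 → P i := stepQ 2165 Q2165 (allL N2165 (tt N2165 F15697) (tt N1680 F15698) (tt N2165 F15699) (tt N2789 (iv F21798)) (tt N2165 F15700) (tt N1657 (iv D3238)) (tt N2790 D4484) (tt N2165 F15701) (tt N2165 F15702) (tt N2785 (iv F21775)))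
theorem Q2167 : ∀ i, i < 2167 → P i := stepQ 2166 Q2166 (allL N2166 (tt N1781 F16002) (tt N2074 F20395) (tt N2791 D4485) (tt N1658 (iv D3294)) (tt N1661 F16003) (tt N2166 F16004) (tt N2066 (iv F20394)) (tt N2166 F16005) (tt N2166 F16006) (tt N2792 D4486))
theorem Q2168 : ∀ i, i < 2168 → P i := stepQ 2167 Q2167 (allL N2167 (tt N1783 F16011) (tt N2133 F20378) (tt N2167 F16012) (tt N2792 (iv F21817)) (tt N1660 F16013) (tt N2167 F16014) (tt N2126 (iv F20377)) (tt N2167 F16015) (tt N2793 D4487) (tt N1658 (iv D3296)))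
theorem Q2169 : ∀ i, i < 2169 → P i := stepQ 2168 Q2168 (allL N2168 (tt N1785 F16022) (tt N2131 F20375) (tt N2168 F16023) (tt N1665 F16024) (tt N2126 F20376) (tt N2168 F16025) (tt N1660 F16026) (tt N2125 (iv F20374)) (tt N2794 D4488) (tt N1659 (iv D3298)))
theorem Q2170 : ∀ i, i < 2170 → P i := stepQ 2169 Q2169 (allL N2169 (tt N1786 F16027) (tt N2777 (iv F21712)) (tt N2169 F16028) (tt N1666 F16029) (tt N2793 (iv F21825)) (tt N2169 F16030) (tt N2794 (iv F21834)) (tt N2169 F16031) (tt N1660 (iv D3299)) (tt N2169 F16032))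
theorem Q2171 : ∀ i, i < 2171 → P i := stepQ 2170 Q2170 (allL N2170 (tt N1787 F16033) (tt N2795 D4489) (tt N1661 (iv D3300)) (tt N1683 F16034) (tt N2791 (iv F21810)) (tt N1667 F16035) (tt N2796 D4490) (tt N2170 F16036) (tt N2170 F16037) (tt N2797 D4491))
theorem Q2172 : ∀ i, i < 2172 → P i := stepQ 2171 Q2171 (allL N2171 (tt N1788 F16038) (tt N2072 F20392) (tt N2796 (iv F21846)) (tt N1662 F16039) (tt N2066 F20393) (tt N2798 D4492) (tt N1661 (iv D3301)) (tt N2065 (iv F20391)) (tt N2171 F16040) (tt N2799 D4493))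
theorem Q2173 : ∀ i, i < 2173 → P i := stepQ 2172 Q2172 (allL N2172 (tt N1789 F16041) (tt N2778 (iv F21721)) (tt N2797 (iv F21852)) (tt N1663 F16042) (tt N2792 (iv F21818)) (tt N1669 F16043) (tt N2799 (iv F21867)) (tt N2172 F16044) (tt N2800 D4494) (tt N1661 (iv D3302)))
theorem Q2174 : ∀ i, i < 2174 → P i := stepQ 2173 Q2173 (allL N2173 (tt N1790 F16045) (tt N1999 F20186) (tt N1686 F16046) (tt N2798 (iv F21858)) (tt N2173 F16047) (tt N1662 (iv D3303)) (tt N1670 F16048) (tt N2801 D4495) (tt N1846 F20187) (tt N2802 D4496))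
theorem Q2175 : ∀ i, i < 2175 → P i := stepQ 2174 Q2174 (allL N2174 (tt N1791 F16049) (tt N2071 F20396) (tt N1687 F16050) (tt N2065 (iv F20390)) (tt N1664 F16051) (tt N2801 (iv F21878)) (tt N2174 F16052) (tt N1662 (iv D3304)) (tt N2174 F16053) (tt N2803 D4497))
theorem Q2176 : ∀ i, i < 2176 → P i := stepQ 2175 Q2175 (allL N2175 (tt N1792 F16054) (tt N2779 (iv F21729)) (tt N1688 F16055) (tt N2799 (iv F21865)) (tt N1665 F16056) (tt N2802 (iv F21885)) (tt N1663 F16057) (tt N2803 (iv F21893)) (tt N2804 D4498) (tt N1662 (iv D3305)))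
theorem Q2177 : ∀ i, i < 2177 → P i := stepQ 2176 Q2176 (allL N2176 (tt N1793 F16058) (tt N2780 (iv F21737)) (tt N1689 F16059) (tt N2800 (iv F21870)) (tt N1666 F16060) (tt N2805 D4499) (tt N2804 (iv F21897)) (tt N2176 F16061) (tt N1663 (iv D3306)) (tt N2176 F16062))
theorem Q2178 : ∀ i, i < 2178 → P i := stepQ 2177 Q2177 (allL N2177 (tt N1794 F16063) (tt N2130 (iv F20384)) (tt N1690 F16064) (tt N2125 (iv F20373)) (tt N2803 (iv F21891)) (tt N2177 F16065) (tt N2177 F16066) (tt N1665 F16067) (tt N2806 D4500) (tt N1664 (iv D3307)))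
theorem Q2179 : ∀ i, i < 2179 → P i := stepQ 2178 Q2178 (allL N2178 (tt N1795 F16068) (tt N2781 (iv F21743)) (tt N1691 F16069) (tt N2794 (iv F21832)) (tt N2804 (iv F21896)) (tt N2807 D4501) (tt N1666 F16070) (tt N2806 (iv F21910)) (tt N1665 (iv D3308)) (tt N2178 F16071))
theorem Q2180 : ∀ i, i < 2180 → P i := stepQ 2179 Q2179 (allL N2179 (tt N2808 D4502) (tt N1667 (iv D3309)) (tt N2782 (iv F21749)) (tt N1692 F16072) (tt N2179 F16073) (tt N2795 (iv F21840)) (tt N2809 D4503) (tt N2179 F16074) (tt N1674 F16075) (tt N2810 D4504))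
theorem Q2181 : ∀ i, i < 2181 → P i := stepQ 2180 Q2180 (allL N2180 (tt N1797 F16076) (tt N2809 (iv F21922)) (tt N1668 F16077) (tt N1693 F16078) (tt N2180 F16079) (tt N2811 D4505) (tt N1667 (iv D3310)) (tt N1861 F20180) (tt N1675 F16080) (tt N2812 D4506))
theorem Q2182 : ∀ i, i < 2182 → P i := stepQ 2181 Q2181 (allL N2181 (tt N1798 F16081) (tt N2810 (iv F21928)) (tt N1669 F16082) (tt N1694 F16083) (tt N2181 F16084) (tt N2797 (iv F21854)) (tt N2812 (iv F21941)) (tt N2181 F16085) (tt N2813 D4507) (tt N1667 (iv D3311)))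
theorem Q2183 : ∀ i, i < 2183 → P i := stepQ 2182 Q2182 (allL N2182 (tt N1799 F16086) (tt N1991 F20181) (tt N2811 (iv F21933)) (tt N1670 F16087) (tt N2814 D4508) (tt N1668 (iv D3312)) (tt N2798 (iv F21860)) (tt N1841 F20182) (tt N1840 F20183) (tt N2815 D4509))
theorem Q2184 : ∀ i, i < 2184 → P i := stepQ 2183 Q2183 (allL N2183 (tt N1800 F16093) (tt N2030 F20184) (tt N2812 (iv F21938)) (tt N1671 F16094) (tt N2183 F16095) (tt N2815 (iv F21959)) (tt N1669 F16096) (tt N1866 F20185) (tt N2816 D4510) (tt N1668 (iv D3314)))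
theorem Q2185 : ∀ i, i < 2185 → P i := stepQ 2184 Q2184 (allL N2184 (tt N1801 F16097) (tt N2784 (iv F21764)) (tt N2813 (iv F21944)) (tt N1672 F16098) (tt N2184 F16099) (tt N2817 D4511) (tt N2816 (iv F21965)) (tt N2184 F16100) (tt N1669 (iv D3315)) (tt N1678 F16101))
theorem Q2186 : ∀ i, i < 2186 → P i := stepQ 2185 Q2185 (allL N2185 (tt N1802 F16110) (tt N2001 F20188) (tt N1701 F16111) (tt N2815 (iv F21958)) (tt N2185 F16112) (tt N1671 F16113) (tt N2802 (iv F21886)) (tt N1848 F20189) (tt N2818 D4512) (tt N1670 (iv D3318)))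
theorem Q2187 : ∀ i, i < 2187 → P i := stepQ 2186 Q2186 (allL N2186 (tt N1803 F16119) (tt N2039 F20190) (tt N1703 F16120) (tt N2816 (iv F21963)) (tt N1673 F16121) (tt N2819 D4513) (tt N1672 F16122) (tt N1872 F20191) (tt N1671 (iv D3320)) (tt N1679 F16123))
theorem Q2188 : ∀ i, i < 2188 → P i := stepQ 2187 Q2187 (allL N2187 (tt N1804 F16124) (tt N2785 (iv F21771)) (tt N1704 F16125) (tt N2817 (iv F21969)) (tt N2187 F16126) (tt N1672 (iv D3321)) (tt N2820 D4514) (tt N2187 F16127) (tt N2805 (iv F21903)) (tt N1680 F16128))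
theorem Q2189 : ∀ i, i < 2189 → P i := stepQ 2188 Q2188 (allL N2188 (tt N1805 F16135) (tt N2052 F20194) (tt N1706 F16136) (tt N2188 F16137) (tt N2821 D4515) (tt N1673 (iv D3323)) (tt N2188 F16138) (tt N1881 F20195) (tt N2188 F16139) (tt N1681 F16140))
theorem Q2190 : ∀ i, i < 2190 → P i := stepQ 2189 Q2189 (allL N2189 (tt N1674 (iv D3324)) (tt N1806 F16141) (tt N2786 (iv F21777)) (tt N1707 F16142) (tt N2189 F16143) (tt N2189 F16144) (tt N2822 D4516) (tt N2189 F16145) (tt N2808 (iv F21921)) (tt N2823 D4517))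
theorem Q2191 : ∀ i, i < 2191 → P i := stepQ 2190 Q2190 (allL N2190 (tt N2822 (iv F21994)) (tt N1675 F16146) (tt N2016 F20197) (tt N1708 F16147) (tt N2190 F16148) (tt N1858 F20198) (tt N1674 (iv D3325)) (tt N1857 F20199) (tt N2809 (iv F21926)) (tt N2824 D4518))
theorem Q2192 : ∀ i, i < 2192 → P i := stepQ 2191 Q2191 (allL N2191 (tt N2823 (iv F22001)) (tt N1676 F16149) (tt N2787 (iv F21784)) (tt N1709 F16150) (tt N2191 F16151) (tt N2191 F16152) (tt N2824 (iv F22012)) (tt N2191 F16153) (tt N2825 D4519) (tt N1674 (iv D3326)))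
theorem Q2193 : ∀ i, i < 2193 → P i := stepQ 2192 Q2192 (allL N2192 (tt N1809 F16163) (tt N2824 (iv F22007)) (tt N1677 F16164) (tt N1712 F16165) (tt N2192 F16166) (tt N1863 F20200) (tt N1676 F16167) (tt N1862 F20201) (tt N2826 D4520) (tt N1675 (iv D3329)))
theorem Q2194 : ∀ i, i < 2194 → P i := stepQ 2193 Q2193 (allL N2193 (tt N1810 F16168) (tt N2825 (iv F22014)) (tt N1678 F16169) (tt N1713 F16170) (tt N2193 F16171) (tt N2827 D4521) (tt N2826 (iv F22022)) (tt N2193 F16172) (tt N1676 (iv D3330)) (tt N2813 (iv F21948)))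
theorem Q2195 : ∀ i, i < 2195 → P i := stepQ 2194 Q2194 (allL N2194 (tt N1811 F16192) (tt N2031 F20202) (tt N2826 (iv F22019)) (tt N1679 F16193) (tt N2194 F16194) (tt N2828 D4522) (tt N1678 F16195) (tt N1867 F20203) (tt N1677 (iv D3336)) (tt N2816 (iv F21967)))
theorem Q2196 : ∀ i, i < 2196 → P i := stepQ 2195 Q2195 (allL N2195 (tt N1812 F16196) (tt N2789 (iv F21797)) (tt N2827 (iv F22025)) (tt N1680 F16197) (tt N2829 D4523) (tt N1678 (iv D3337)) (tt N2830 D4524) (tt N2195 F16198) (tt N2195 F16199) (tt N2817 (iv F21971)))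
theorem Q2197 : ∀ i, i < 2197 → P i := stepQ 2196 Q2196 (allL N2196 (tt N1813 F16227) (tt N2040 F20204) (tt N1722 F16228) (tt N2828 (iv F22031)) (tt N2831 D4525) (tt N1679 (iv D3344)) (tt N2832 D4526) (tt N1873 F20205) (tt N1874 F20206) (tt N2819 (iv F21982)))
theorem Q2198 : ∀ i, i < 2198 → P i := stepQ 2197 Q2197 (allL N2197 (tt N1814 F16229) (tt N2790 (iv F21802)) (tt N1723 F16230) (tt N2830 (iv F22040)) (tt N2197 F16231) (tt N2832 (iv F22051)) (tt N1680 (iv D3345)) (tt N2833 D4527) (tt N2197 F16232) (tt N2820 (iv F21986)))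
theorem Q2199 : ∀ i, i < 2199 → P i := stepQ 2198 Q2198 (allL N2198 (tt N1815 F16238) (tt N2053 F20209) (tt N1725 F16239) (tt N2834 D4528) (tt N1681 (iv D3347)) (tt N2831 (iv F22045)) (tt N2198 F16240) (tt N1882 F20210) (tt N1682 F16241) (tt N2821 (iv F21993)))
theorem Q2200 : ∀ i, i < 2200 → P i := stepQ 2199 Q2199 (allL N2199 (tt N1816 F16353) (tt N2058 F20295) (tt N2835 D4529) (tt N1682 (iv D3372)) (tt N2199 F16354) (tt N1886 F20296) (tt N2199 F16355) (tt N1884 F20297) (tt N2834 (iv F22063)) (tt N2199 F16356))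
theorem Q2201 : ∀ i, i < 2201 → P i := stepQ 2200 Q2200 (allL N2200 (tt N2836 D4530) (tt N1683 (iv D3406)) (tt N2200 F16513) (tt N2795 (iv F21838)) (tt N2200 F16514) (tt N1692 F16515) (tt N2837 D4531) (tt N2200 F16516) (tt N2200 F16517) (tt N2838 D4532))
theorem Q2202 : ∀ i, i < 2202 → P i := stepQ 2201 Q2201 (allL N2201 (tt N1818 F16518) (tt N2837 (iv F22077)) (tt N1684 F16519) (tt N2796 (iv F21847)) (tt N2201 F16520) (tt N2839 D4533) (tt N1683 (iv D3407)) (tt N2840 D4534) (tt N2201 F16521) (tt N2841 D4535))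
theorem Q2203 : ∀ i, i < 2203 → P i := stepQ 2202 Q2202 (allL N2202 (tt N1819 F16522) (tt N2838 (iv F22083)) (tt N1685 F16523) (tt N2797 (iv F21853)) (tt N2202 F16524) (tt N1694 F16525) (tt N2841 (iv F22101)) (tt N2202 F16526) (tt N2842 D4536) (tt N1683 (iv D3408)))
theorem Q2204 : ∀ i, i < 2204 → P i := stepQ 2203 Q2203 (allL N2203 (tt N1820 F16527) (tt N2203 F16528) (tt N2839 (iv F22089)) (tt N1686 F16529) (tt N2843 D4537) (tt N1684 (iv D3409)) (tt N1695 F16530) (tt N2844 D4538) (tt N2845 D4539) (tt N2846 D4540))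
theorem Q2205 : ∀ i, i < 2205 → P i := stepQ 2204 Q2204 (allL N2204 (tt N1821 F16531) (tt N2204 F16532) (tt N2840 (iv F22093)) (tt N1687 F16533) (tt N2204 F16534) (tt N2844 (iv F22115)) (tt N2204 F16535) (tt N1684 (iv D3410)) (tt N2204 F16536) (tt N2847 D4541))
theorem Q2206 : ∀ i, i < 2206 → P i := stepQ 2205 Q2205 (allL N2205 (tt N1822 F16537) (tt N2205 F16538) (tt N2841 (iv F22099)) (tt N1688 F16539) (tt N2205 F16540) (tt N2846 (iv F22124)) (tt N1685 F16541) (tt N2847 (iv F22131)) (tt N2848 D4542) (tt N1684 (iv D3411)))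
theorem Q2207 : ∀ i, i < 2207 → P i := stepQ 2206 Q2206 (allL N2206 (tt N1823 F16542) (tt N2206 F16543) (tt N2842 (iv F22103)) (tt N1689 F16544) (tt N2206 F16545) (tt N2849 D4543) (tt N2848 (iv F22136)) (tt N2206 F16546) (tt N1685 (iv D3412)) (tt N2206 F16547))
theorem Q2208 : ∀ i, i < 2208 → P i := stepQ 2207 Q2207 (allL N2207 (tt N1824 F16548) (tt N2207 F16549) (tt N2801 (iv F21875)) (tt N2844 (iv F22114)) (tt N2207 F16550) (tt N1687 F16551) (tt N2850 D4544) (tt N1686 (iv D3413)) (tt N2851 D4545) (tt N2852 D4546))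
theorem Q2209 : ∀ i, i < 2209 → P i := stepQ 2208 Q2208 (allL N2208 (tt N1825 F16552) (tt N2208 F16553) (tt N1846 F20217) (tt N2845 (iv F22118)) (tt N2208 F16554) (tt N2208 F16555) (tt N1700 F16556) (tt N2851 (iv F22157)) (tt N1686 (iv D3414)) (tt N2853 D4547))
theorem Q2210 : ∀ i, i < 2210 → P i := stepQ 2209 Q2209 (allL N2209 (tt N1826 F16557) (tt N2209 F16558) (tt N2802 (iv F21883)) (tt N2846 (iv F22123)) (tt N2209 F16559) (tt N1688 F16560) (tt N1701 F16561) (tt N2852 (iv F22162)) (tt N2854 D4548) (tt N1686 (iv D3415)))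
theorem Q2211 : ∀ i, i < 2211 → P i := stepQ 2210 Q2210 (allL N2210 (tt N1827 F16562) (tt N2210 F16563) (tt N2803 (iv F21889)) (tt N2847 (iv F22128)) (tt N1690 F16564) (tt N2852 (iv F22161)) (tt N2210 F16565) (tt N1688 F16566) (tt N2855 D4549) (tt N1687 (iv D3416)))
theorem Q2212 : ∀ i, i < 2212 → P i := stepQ 2211 Q2211 (allL N2211 (tt N1828 F16567) (tt N2211 F16568) (tt N2804 (iv F21895)) (tt N2848 (iv F22134)) (tt N1691 F16569) (tt N2856 D4550) (tt N1689 F16570) (tt N2855 (iv F22177)) (tt N1688 (iv D3417)) (tt N2211 F16571))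
theorem Q2213 : ∀ i, i < 2213 → P i := stepQ 2212 Q2212 (allL N2212 (tt N1829 F16572) (tt N2212 F16573) (tt N2805 (iv F21900)) (tt N2849 (iv F22140)) (tt N2212 F16574) (tt N1689 (iv D3418)) (tt N2857 D4551) (tt N2212 F16575) (tt N1704 F16576) (tt N2212 F16577))
theorem Q2214 : ∀ i, i < 2214 → P i := stepQ 2213 Q2213 (allL N2213 (tt N1830 F16578) (tt N2213 F16579) (tt N2806 (iv F21907)) (tt N2213 F16580) (tt N2855 (iv F22175)) (tt N2858 D4552) (tt N2213 F16581) (tt N1691 F16582) (tt N1690 (iv D3419)) (tt N2213 F16583))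
theorem Q2215 : ∀ i, i < 2215 → P i := stepQ 2214 Q2214 (allL N2214 (tt N1831 F16584) (tt N2214 F16585) (tt N2807 (iv F21913)) (tt N2214 F16586) (tt N2859 D4553) (tt N1691 (iv D3420)) (tt N2214 F16587) (tt N2858 (iv F22190)) (tt N2214 F16588) (tt N2214 F16589))
theorem Q2216 : ∀ i, i < 2216 → P i := stepQ 2215 Q2215 (allL N2215 (tt N1692 (iv D3421)) (tt N1832 F16590) (tt N2215 F16591) (tt N2808 (iv F21918)) (tt N1733 F16592) (tt N2836 (iv F22074)) (tt N2860 D4554) (tt N2215 F16593) (tt N1707 F16594) (tt N2861 D4555))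
theorem Q2217 : ∀ i, i < 2217 → P i := stepQ 2216 Q2216 (allL N2216 (tt N2860 (iv F22198)) (tt N1693 F16595) (tt N2216 F16596) (tt N2809 (iv F21924)) (tt N1734 F16597) (tt N2862 D4556) (tt N1692 (iv D3422)) (tt N2863 D4557) (tt N1708 F16598) (tt N2864 D4558))
theorem Q2218 : ∀ i, i < 2218 → P i := stepQ 2217 Q2217 (allL N2217 (tt N2861 (iv F22203)) (tt N1694 F16599) (tt N2217 F16600) (tt N2810 (iv F21929)) (tt N1735 F16601) (tt N2838 (iv F22086)) (tt N2864 (iv F22219)) (tt N2217 F16602) (tt N2865 D4559) (tt N1692 (iv D3423)))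
theorem Q2219 : ∀ i, i < 2219 → P i := stepQ 2218 Q2218 (allL N2218 (tt N1835 F16603) (tt N2862 (iv F22208)) (tt N1695 F16604) (tt N2811 (iv F21934)) (tt N2866 D4560) (tt N1693 (iv D3424)) (tt N2839 (iv F22090)) (tt N2867 D4561) (tt N2868 D4562) (tt N2869 D4563))
theorem Q2220 : ∀ i, i < 2220 → P i := stepQ 2219 Q2219 (allL N2219 (tt N1836 F16605) (tt N2863 (iv F22210)) (tt N1696 F16606) (tt N1861 F20211) (tt N1737 F16607) (tt N2867 (iv F22231)) (tt N2219 F16608) (tt N1693 (iv D3425)) (tt N1711 F16609) (tt N2870 D4564))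
theorem Q2221 : ∀ i, i < 2221 → P i := stepQ 2220 Q2220 (allL N2220 (tt N1837 F16610) (tt N2864 (iv F22216)) (tt N1697 F16611) (tt N2812 (iv F21939)) (tt N1738 F16612) (tt N2869 (iv F22240)) (tt N1694 F16613) (tt N2870 (iv F22246)) (tt N2871 D4565) (tt N1693 (iv D3426)))
theorem Q2222 : ∀ i, i < 2222 → P i := stepQ 2221 Q2221 (allL N2221 (tt N1838 F16614) (tt N2865 (iv F22220)) (tt N1698 F16615) (tt N2813 (iv F21945)) (tt N1739 F16616) (tt N2872 D4566) (tt N2871 (iv F22250)) (tt N2221 F16617) (tt N1694 (iv D3427)) (tt N1713 F16618))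
theorem Q2223 : ∀ i, i < 2223 → P i := stepQ 2222 Q2222 (allL N2222 (tt N1839 F16619) (tt N2222 F16620) (tt N2866 (iv F22226)) (tt N2222 F16621) (tt N1695 (iv D3428)) (tt N1740 F16622) (tt N2843 (iv F22111)) (tt N2873 D4567) (tt N2874 D4568) (tt N2875 D4569))
theorem Q2224 : ∀ i, i < 2224 → P i := stepQ 2223 Q2223 (allL N2223 (tt N1840 F16623) (tt N2223 F16624) (tt N2867 (iv F22229)) (tt N1699 F16625) (tt N2873 (iv F22259)) (tt N1696 F16626) (tt N2876 D4570) (tt N1695 (iv D3429)) (tt N1799 F20212) (tt N2877 D4571))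
theorem Q2225 : ∀ i, i < 2225 → P i := stepQ 2224 Q2224 (allL N2224 (tt N1841 F16627) (tt N2224 F16628) (tt N2868 (iv F22234)) (tt N1700 F16629) (tt N2874 (iv F22265)) (tt N1714 F16630) (tt N2845 (iv F22120)) (tt N1799 F20216) (tt N1695 (iv D3430)) (tt N2878 D4572))
theorem Q2226 : ∀ i, i < 2226 → P i := stepQ 2225 Q2225 (allL N2225 (tt N1842 F16631) (tt N2225 F16632) (tt N2869 (iv F22239)) (tt N1701 F16633) (tt N2875 (iv F22271)) (tt N1697 F16634) (tt N2846 (iv F22125)) (tt N2877 (iv F22282)) (tt N2879 D4573) (tt N1695 (iv D3431)))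
theorem Q2227 : ∀ i, i < 2227 → P i := stepQ 2226 Q2226 (allL N2226 (tt N1843 F16635) (tt N2226 F16636) (tt N2870 (iv F22242)) (tt N1702 F16637) (tt N1743 F16638) (tt N2877 (iv F22281)) (tt N2226 F16639) (tt N1697 F16640) (tt N2880 D4574) (tt N1696 (iv D3432)))
theorem Q2228 : ∀ i, i < 2228 → P i := stepQ 2227 Q2227 (allL N2227 (tt N1844 F16641) (tt N2227 F16642) (tt N2871 (iv F22248)) (tt N1703 F16643) (tt N1744 F16644) (tt N2881 D4575) (tt N1698 F16645) (tt N2880 (iv F22296)) (tt N1697 (iv D3433)) (tt N1717 F16646))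
theorem Q2229 : ∀ i, i < 2229 → P i := stepQ 2228 Q2228 (allL N2228 (tt N1845 F16647) (tt N2228 F16648) (tt N2872 (iv F22253)) (tt N1704 F16649) (tt N2882 D4576) (tt N1698 (iv D3434)) (tt N2883 D4577) (tt N2228 F16650) (tt N2849 (iv F22142)) (tt N1718 F16651))
theorem Q2230 : ∀ i, i < 2230 → P i := stepQ 2229 Q2229 (allL N2229 (tt N1846 F16652) (tt N2229 F16653) (tt N1825 F20213) (tt N2876 (iv F22275)) (tt N2229 F16654) (tt N2229 F16655) (tt N1699 (iv D3435)) (tt N2850 (iv F22149)) (tt N1790 F20214) (tt N2884 D4578))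
theorem Q2231 : ∀ i, i < 2231 → P i := stepQ 2230 Q2230 (allL N2230 (tt N1847 F16661) (tt N2230 F16662) (tt N1848 F20215) (tt N2877 (iv F22280)) (tt N2230 F16663) (tt N1702 F16664) (tt N2884 (iv F22317)) (tt N1701 F16665) (tt N2885 D4579) (tt N1699 (iv D3437)))
theorem Q2232 : ∀ i, i < 2232 → P i := stepQ 2231 Q2231 (allL N2231 (tt N1848 F16666) (tt N2231 F16667) (tt N1847 F20218) (tt N2878 (iv F22285)) (tt N2231 F16668) (tt N1719 F16669) (tt N2853 (iv F22168)) (tt N1802 F20219) (tt N2886 D4580) (tt N1700 (iv D3438)))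
theorem Q2233 : ∀ i, i < 2233 → P i := stepQ 2232 Q2232 (allL N2232 (tt N1849 F16670) (tt N2232 F16671) (tt N2818 (iv F21974)) (tt N2879 (iv F22290)) (tt N2232 F16672) (tt N2887 D4581) (tt N2854 (iv F22172)) (tt N2885 (iv F22322)) (tt N1701 (iv D3439)) (tt N2886 (iv F22329)))
theorem Q2234 : ∀ i, i < 2234 → P i := stepQ 2233 Q2233 (allL N2233 (tt N1850 F16673) (tt N2233 F16674) (tt N1872 F20220) (tt N2880 (iv F22293)) (tt N1705 F16675) (tt N2888 D4582) (tt N2233 F16676) (tt N1703 F16677) (tt N1702 (iv D3440)) (tt N1721 F16678))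
theorem Q2235 : ∀ i, i < 2235 → P i := stepQ 2234 Q2234 (allL N2234 (tt N1851 F16679) (tt N2234 F16680) (tt N2819 (iv F21980)) (tt N2881 (iv F22300)) (tt N2889 D4583) (tt N1703 (iv D3441)) (tt N2890 D4584) (tt N2888 (iv F22336)) (tt N2887 (iv F22332)) (tt N1722 F16681))
theorem Q2236 : ∀ i, i < 2236 → P i := stepQ 2235 Q2235 (allL N2235 (tt N1852 F16682) (tt N2235 F16683) (tt N2820 (iv F21984)) (tt N2883 (iv F22310)) (tt N2235 F16684) (tt N2890 (iv F22344)) (tt N1704 (iv D3442)) (tt N2891 D4585) (tt N2857 (iv F22185)) (tt N1723 F16685))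
theorem Q2237 : ∀ i, i < 2237 → P i := stepQ 2236 Q2236 (allL N2236 (tt N1853 F16686) (tt N2236 F16687) (tt N1881 F20221) (tt N1752 F16688) (tt N2892 D4586) (tt N1705 (iv D3443)) (tt N2893 D4587) (tt N1706 F16689) (tt N2236 F16690) (tt N1724 F16691))
theorem Q2238 : ∀ i, i < 2238 → P i := stepQ 2237 Q2237 (allL N2237 (tt N1854 F16692) (tt N2237 F16693) (tt N2821 (iv F21989)) (tt N2894 D4588) (tt N1706 (iv D3444)) (tt N2889 (iv F22340)) (tt N2237 F16694) (tt N2892 (iv F22354)) (tt N2237 F16695) (tt N1725 F16696))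
theorem Q2239 : ∀ i, i < 2239 → P i := stepQ 2238 Q2238 (allL N2238 (tt N1708 F16697) (tt N1855 F16698) (tt N2238 F16699) (tt N2822 (iv F21997)) (tt N1754 F16700) (tt N2895 D4589) (tt N1707 (iv D3445)) (tt N2896 D4590) (tt N2860 (iv F22202)) (tt N2897 D4591))
theorem Q2240 : ∀ i, i < 2240 → P i := stepQ 2239 Q2239 (allL N2239 (tt N1709 F16701) (tt N1856 F16702) (tt N2239 F16703) (tt N2823 (iv F22003)) (tt N1755 F16704) (tt N2239 F16705) (tt N2897 (iv F22389)) (tt N2239 F16706) (tt N2898 D4592) (tt N1707 (iv D3446)))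
theorem Q2241 : ∀ i, i < 2241 → P i := stepQ 2240 Q2240 (allL N2240 (tt N2895 (iv F22371)) (tt N1710 F16707) (tt N2240 F16708) (tt N1858 F20222) (tt N2240 F16709) (tt N1708 (iv D3447)) (tt N2240 F16710) (tt N1807 F20223) (tt N2899 D4593) (tt N2900 D4594))
theorem Q2242 : ∀ i, i < 2242 → P i := stepQ 2241 Q2241 (allL N2241 (tt N2896 (iv F22378)) (tt N1711 F16711) (tt N2241 F16712) (tt N1857 F20228) (tt N1756 F16713) (tt N1807 F20229) (tt N2241 F16714) (tt N1708 (iv D3448)) (tt N2863 (iv F22215)) (tt N2901 D4595))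
theorem Q2243 : ∀ i, i < 2243 → P i := stepQ 2242 Q2242 (allL N2242 (tt N2897 (iv F22385)) (tt N1712 F16715) (tt N2242 F16716) (tt N2824 (iv F22009)) (tt N1757 F16717) (tt N2900 (iv F22405)) (tt N1709 F16718) (tt N2901 (iv F22414)) (tt N2902 D4596) (tt N1708 (iv D3449)))
theorem Q2244 : ∀ i, i < 2244 → P i := stepQ 2243 Q2243 (allL N2243 (tt N2898 (iv F22390)) (tt N1713 F16719) (tt N2243 F16720) (tt N2825 (iv F22015)) (tt N1758 F16721) (tt N2903 D4597) (tt N2902 (iv F22418)) (tt N2243 F16722) (tt N1709 (iv D3450)) (tt N2865 (iv F22224)))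
theorem Q2245 : ∀ i, i < 2245 → P i := stepQ 2244 Q2244 (allL N2244 (tt N1861 F16727) (tt N2899 (iv F22395)) (tt N1714 F16728) (tt N1836 F20224) (tt N2244 F16729) (tt N2868 (iv F22236)) (tt N2244 F16730) (tt N1797 F20225) (tt N1710 (iv D3452)) (tt N2904 D4598))
theorem Q2246 : ∀ i, i < 2246 → P i := stepQ 2245 Q2245 (allL N2245 (tt N1862 F16731) (tt N2900 (iv F22401)) (tt N1715 F16732) (tt N1863 F20226) (tt N2245 F16733) (tt N1712 F16734) (tt N2245 F16735) (tt N1809 F20227) (tt N2905 D4599) (tt N1710 (iv D3453)))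
theorem Q2247 : ∀ i, i < 2247 → P i := stepQ 2246 Q2246 (allL N2246 (tt N1863 F16736) (tt N2901 (iv F22408)) (tt N1716 F16737) (tt N1862 F20230) (tt N1759 F16738) (tt N1809 F20231) (tt N2246 F16739) (tt N1712 F16740) (tt N2906 D4600) (tt N1711 (iv D3454)))
theorem Q2248 : ∀ i, i < 2248 → P i := stepQ 2247 Q2247 (allL N2247 (tt N1864 F16741) (tt N2902 (iv F22415)) (tt N1717 F16742) (tt N2826 (iv F22020)) (tt N1760 F16743) (tt N2907 D4601) (tt N1713 F16744) (tt N2906 (iv F22440)) (tt N1712 (iv D3455)) (tt N2871 (iv F22251)))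
theorem Q2249 : ∀ i, i < 2249 → P i := stepQ 2248 Q2248 (allL N2248 (tt N1865 F16745) (tt N2903 (iv F22419)) (tt N1718 F16746) (tt N2827 (iv F22026)) (tt N2908 D4602) (tt N1713 (iv D3456)) (tt N2909 D4603) (tt N2248 F16747) (tt N2248 F16748) (tt N2872 (iv F22255)))
theorem Q2250 : ∀ i, i < 2250 → P i := stepQ 2249 Q2249 (allL N2249 (tt N1866 F16766) (tt N2249 F16767) (tt N2904 (iv F22424)) (tt N1719 F16768) (tt N2249 F16769) (tt N2878 (iv F22286)) (tt N2249 F16770) (tt N1800 F20232) (tt N2910 D4604) (tt N1714 (iv D3460)))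
theorem Q2251 : ∀ i, i < 2251 → P i := stepQ 2250 Q2250 (allL N2250 (tt N1867 F16771) (tt N2250 F16772) (tt N2905 (iv F22430)) (tt N1720 F16773) (tt N2250 F16774) (tt N2911 D4605) (tt N2250 F16775) (tt N1811 F20233) (tt N1715 (iv D3461)) (tt N2910 (iv F22457)))
theorem Q2252 : ∀ i, i < 2252 → P i := stepQ 2251 Q2251 (allL N2251 (tt N1868 F16776) (tt N2251 F16777) (tt N2906 (iv F22436)) (tt N1721 F16778) (tt N1762 F16779) (tt N2912 D4606) (tt N2251 F16780) (tt N1717 F16781) (tt N1716 (iv D3462)) (tt N2880 (iv F22297)))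
theorem Q2253 : ∀ i, i < 2253 → P i := stepQ 2252 Q2252 (allL N2252 (tt N1869 F16782) (tt N2252 F16783) (tt N2907 (iv F22442)) (tt N1722 F16784) (tt N2913 D4607) (tt N1717 (iv D3463)) (tt N2914 D4608) (tt N2912 (iv F22466)) (tt N2911 (iv F22462)) (tt N2881 (iv F22301)))
theorem Q2254 : ∀ i, i < 2254 → P i := stepQ 2253 Q2253 (allL N2253 (tt N1870 F16785) (tt N2253 F16786) (tt N2908 (iv F22444)) (tt N2253 F16787) (tt N1718 (iv D3464)) (tt N1764 F16788) (tt N2915 D4609) (tt N2253 F16789) (tt N2253 F16790) (tt N2882 (iv F22307)))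
theorem Q2255 : ∀ i, i < 2255 → P i := stepQ 2254 Q2254 (allL N2254 (tt N1871 F16791) (tt N2254 F16792) (tt N2909 (iv F22449)) (tt N1723 F16793) (tt N2915 (iv F22478)) (tt N2914 (iv F22474)) (tt N1718 (iv D3465)) (tt N2916 D4610) (tt N2254 F16794) (tt N2883 (iv F22311)))
theorem Q2256 : ∀ i, i < 2256 → P i := stepQ 2255 Q2255 (allL N2255 (tt N1872 F16814) (tt N2255 F16815) (tt N1850 F20234) (tt N2910 (iv F22453)) (tt N1726 F16816) (tt N2917 D4611) (tt N2255 F16817) (tt N1803 F20235) (tt N1719 (iv D3470)) (tt N1720 F16818))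
theorem Q2257 : ∀ i, i < 2257 → P i := stepQ 2256 Q2256 (allL N2256 (tt N1873 F16819) (tt N2256 F16820) (tt N1874 F20236) (tt N2911 (iv F22460)) (tt N2918 D4612) (tt N1720 (iv D3471)) (tt N2919 D4613) (tt N1813 F20237) (tt N1722 F16821) (tt N2917 (iv F22489)))
theorem Q2258 : ∀ i, i < 2258 → P i := stepQ 2257 Q2257 (allL N2257 (tt N1874 F16822) (tt N2257 F16823) (tt N1873 F20238) (tt N2912 (iv F22465)) (tt N2920 D4614) (tt N1721 (iv D3472)) (tt N2921 D4615) (tt N1722 F16824) (tt N1813 F20239) (tt N2888 (iv F22337)))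
theorem Q2259 : ∀ i, i < 2259 → P i := stepQ 2258 Q2258 (allL N2258 (tt N1875 F16825) (tt N2258 F16826) (tt N2831 (iv F22044)) (tt N2922 D4616) (tt N1722 (iv D3473)) (tt N1725 F16827) (tt N2923 D4617) (tt N2920 (iv F22505)) (tt N2918 (iv F22495)) (tt N2889 (iv F22341)))
theorem Q2260 : ∀ i, i < 2260 → P i := stepQ 2259 Q2259 (allL N2259 (tt N1876 F16828) (tt N2259 F16829) (tt N2832 (iv F22050)) (tt N2914 (iv F22473)) (tt N2923 (iv F22517)) (tt N1723 F16830) (tt N1722 (iv D3474)) (tt N2924 D4618) (tt N2919 (iv F22500)) (tt N2890 (iv F22345)))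
theorem Q2261 : ∀ i, i < 2261 → P i := stepQ 2260 Q2260 (allL N2260 (tt N1877 F16831) (tt N2260 F16832) (tt N2833 (iv F22054)) (tt N2916 (iv F22482)) (tt N2260 F16833) (tt N2924 (iv F22521)) (tt N2260 F16834) (tt N1723 (iv D3475)) (tt N2260 F16835) (tt N2891 (iv F22350)))
theorem Q2262 : ∀ i, i < 2262 → P i := stepQ 2261 Q2261 (allL N2261 (tt N1878 F16836) (tt N2261 F16837) (tt N1882 F20240) (tt N2925 D4619) (tt N1724 (iv D3476)) (tt N2920 (iv F22504)) (tt N2926 D4620) (tt N1725 F16838) (tt N1730 F16839) (tt N2892 (iv F22356)))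
theorem Q2263 : ∀ i, i < 2263 → P i := stepQ 2262 Q2262 (allL N2262 (tt N1879 F16840) (tt N2262 F16841) (tt N1883 F20241) (tt N1771 F16842) (tt N2926 (iv F22530)) (tt N2262 F16843) (tt N1724 (iv D3477)) (tt N2262 F16844) (tt N1731 F16845) (tt N2893 (iv F22364)))
theorem Q2264 : ∀ i, i < 2264 → P i := stepQ 2263 Q2263 (allL N2263 (tt N1880 F16846) (tt N2263 F16847) (tt N2927 D4621) (tt N1725 (iv D3478)) (tt N1772 F16848) (tt N2922 (iv F22514)) (tt N2263 F16849) (tt N2925 (iv F22525)) (tt N1732 F16850) (tt N2894 (iv F22370)))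
theorem Q2265 : ∀ i, i < 2265 → P i := stepQ 2264 Q2264 (allL N2264 (tt N1881 F16877) (tt N2264 F16878) (tt N1853 F20265) (tt N2264 F16879) (tt N2928 D4622) (tt N1726 (iv D3484)) (tt N2929 D4623) (tt N1805 F20266) (tt N2264 F16880) (tt N1727 F16881))
theorem Q2266 : ∀ i, i < 2266 → P i := stepQ 2265 Q2265 (allL N2265 (tt N1882 F16882) (tt N2265 F16883) (tt N1878 F20271) (tt N2930 D4624) (tt N1727 (iv D3485)) (tt N2918 (iv F22493)) (tt N2931 D4625) (tt N1815 F20272) (tt N1728 F16884) (tt N2928 (iv F22542)))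
theorem Q2267 : ∀ i, i < 2267 → P i := stepQ 2266 Q2266 (allL N2266 (tt N1883 F16885) (tt N2266 F16886) (tt N1879 F20273) (tt N2266 F16887) (tt N2931 (iv F22559)) (tt N2266 F16888) (tt N1727 (iv D3486)) (tt N2266 F20274) (tt N1729 F16889) (tt N2929 (iv F22550)))
theorem Q2268 : ∀ i, i < 2268 → P i := stepQ 2267 Q2267 (allL N2267 (tt N1884 F16900) (tt N2267 F16901) (tt N2932 D4626) (tt N1728 (iv D3489)) (tt N2267 F16902) (tt N1732 F16903) (tt N2933 D4627) (tt N1816 F20298) (tt N2930 (iv F22555)) (tt N2267 F16904))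
theorem Q2269 : ∀ i, i < 2269 → P i := stepQ 2268 Q2268 (allL N2268 (tt N1885 F16905) (tt N2268 F16906) (tt N1887 F20299) (tt N2933 (iv F22570)) (tt N1729 F16907) (tt N2268 F16908) (tt N1728 (iv D3490)) (tt N2268 F20300) (tt N2931 (iv F22561)) (tt N2268 F16909))
theorem Q2270 : ∀ i, i < 2270 → P i := stepQ 2269 Q2269 (allL N2269 (tt N1886 F16915) (tt N2269 F16916) (tt N2934 D4628) (tt N1730 (iv D3492)) (tt N1773 F16917) (tt N1816 F20302) (tt N2119 F131330) (tt N1732 F16918) (tt N2925 (iv F22526)) (tt N2269 F16919))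
theorem Q2271 : ∀ i, i < 2271 → P i := stepQ 2270 Q2270 (allL N2270 (tt N1887 F16920) (tt N2270 F16921) (tt N1885 F20303) (tt N2119 F131332) (tt N1731 F16922) (tt N2270 F20304) (tt N1730 (iv D3493)) (tt N2270 F16923) (tt N2926 (iv F22532)) (tt N2270 F16924))
theorem Q2272 : ∀ i, i < 2272 → P i := stepQ 2271 Q2271 (allL N2271 (tt N1888 F16925) (tt N2935 D4630) (tt N1732 (iv D3494)) (tt N2835 (iv F22065)) (tt N1774 F16926) (tt N2932 (iv F22565)) (tt N2271 F16927) (tt N2934 (iv F22579)) (tt N2927 (iv F22536)) (tt N2271 F16928))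
theorem Q2273 : ∀ i, i < 2273 → P i := stepQ 2272 Q2272 (allL N2272 (tt N1734 F17042) (tt N1889 F17043) (tt N2272 F17044) (tt N2272 F17045) (tt N2860 (iv F22201)) (tt N2936 D4631) (tt N1733 (iv D3517)) (tt N2937 D4632) (tt N1754 F17046) (tt N2938 D4633))
theorem Q2274 : ∀ i, i < 2274 → P i := stepQ 2273 Q2273 (allL N2273 (tt N1735 F17047) (tt N1890 F17048) (tt N2273 F17049) (tt N2273 F17050) (tt N2861 (iv F22206)) (tt N2273 F17051) (tt N2938 (iv F22608)) (tt N2273 F17052) (tt N2939 D4634) (tt N1733 (iv D3518)))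
theorem Q2275 : ∀ i, i < 2275 → P i := stepQ 2274 Q2274 (allL N2274 (tt N2936 (iv F22592)) (tt N1736 F17053) (tt N2274 F17054) (tt N2274 F17055) (tt N2940 D4635) (tt N1734 (iv D3519)) (tt N2274 F17056) (tt N2941 D4636) (tt N2274 F17057) (tt N2942 D4637))
theorem Q2276 : ∀ i, i < 2276 → P i := stepQ 2275 Q2275 (allL N2275 (tt N2937 (iv F22598)) (tt N1737 F17058) (tt N2275 F17059) (tt N2275 F17060) (tt N2863 (iv F22213)) (tt N2941 (iv F22622)) (tt N2275 F17061) (tt N1734 (iv D3520)) (tt N1756 F17062) (tt N2943 D4638))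
theorem Q2277 : ∀ i, i < 2277 → P i := stepQ 2276 Q2276 (allL N2276 (tt N2938 (iv F22604)) (tt N1738 F17063) (tt N2276 F17064) (tt N2276 F17065) (tt N2864 (iv F22218)) (tt N2942 (iv F22627)) (tt N1735 F17066) (tt N2943 (iv F22633)) (tt N2944 D4639) (tt N1734 (iv D3521)))
theorem Q2278 : ∀ i, i < 2278 → P i := stepQ 2277 Q2277 (allL N2277 (tt N2939 (iv F22609)) (tt N1739 F17067) (tt N2277 F17068) (tt N2277 F17069) (tt N2865 (iv F22222)) (tt N2945 D4640) (tt N2944 (iv F22637)) (tt N2277 F17070) (tt N1735 (iv D3522)) (tt N1758 F17071))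
theorem Q2279 : ∀ i, i < 2279 → P i := stepQ 2278 Q2278 (allL N2278 (tt N1895 F17072) (tt N2940 (iv F22615)) (tt N1740 F17073) (tt N2946 D4641) (tt N1736 (iv D3523)) (tt N2866 (iv F22227)) (tt N2278 F17074) (tt N2947 D4642) (tt N2278 F17075) (tt N2948 D4643))
theorem Q2280 : ∀ i, i < 2280 → P i := stepQ 2279 Q2279 (allL N2279 (tt N1896 F17076) (tt N2941 (iv F22619)) (tt N1741 F17077) (tt N2279 F17078) (tt N2947 (iv F22652)) (tt N1737 F17079) (tt N2949 D4644) (tt N1736 (iv D3524)) (tt N2279 F17080) (tt N2950 D4645))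
theorem Q2281 : ∀ i, i < 2281 → P i := stepQ 2280 Q2280 (allL N2280 (tt N1897 F17081) (tt N2942 (iv F22624)) (tt N1742 F17082) (tt N2280 F17083) (tt N2948 (iv F22656)) (tt N1738 F17084) (tt N2280 F17085) (tt N2950 (iv F22668)) (tt N2951 D4646) (tt N1736 (iv D3525)))
theorem Q2282 : ∀ i, i < 2282 → P i := stepQ 2281 Q2281 (allL N2281 (tt N1898 F17086) (tt N2943 (iv F22629)) (tt N1743 F17087) (tt N2281 F17088) (tt N2870 (iv F22244)) (tt N2950 (iv F22667)) (tt N2281 F17089) (tt N1738 F17090) (tt N2952 D4647) (tt N1737 (iv D3526)))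
theorem Q2283 : ∀ i, i < 2283 → P i := stepQ 2282 Q2282 (allL N2282 (tt N1899 F17091) (tt N2944 (iv F22634)) (tt N1744 F17092) (tt N2282 F17093) (tt N2871 (iv F22249)) (tt N2953 D4648) (tt N1739 F17094) (tt N2952 (iv F22678)) (tt N1738 (iv D3527)) (tt N1760 F17095))
theorem Q2284 : ∀ i, i < 2284 → P i := stepQ 2283 Q2283 (allL N2283 (tt N1900 F17096) (tt N2945 (iv F22639)) (tt N1745 F17097) (tt N2283 F17098) (tt N2954 D4649) (tt N1739 (iv D3528)) (tt N2955 D4650) (tt N2283 F17099) (tt N2283 F17100) (tt N1761 F17101))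
theorem Q2285 : ∀ i, i < 2285 → P i := stepQ 2284 Q2284 (allL N2284 (tt N1901 F17102) (tt N2284 F17103) (tt N2947 (iv F22651)) (tt N2284 F17104) (tt N1741 F17105) (tt N2873 (iv F22260)) (tt N2956 D4651) (tt N1740 (iv D3529)) (tt N2284 F17106) (tt N2957 D4652))
theorem Q2286 : ∀ i, i < 2286 → P i := stepQ 2285 Q2285 (allL N2285 (tt N1902 F17107) (tt N2285 F17108) (tt N2948 (iv F22655)) (tt N2285 F17109) (tt N1742 F17110) (tt N2875 (iv F22272)) (tt N2285 F17111) (tt N2957 (iv F22704)) (tt N2958 D4653) (tt N1740 (iv D3530)))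
theorem Q2287 : ∀ i, i < 2287 → P i := stepQ 2286 Q2286 (allL N2286 (tt N1903 F17112) (tt N2286 F17113) (tt N2949 (iv F22659)) (tt N1746 F17114) (tt N2956 (iv F22697)) (tt N2286 F17115) (tt N1741 (iv D3531)) (tt N2286 F17116) (tt N2286 F17117) (tt N2959 D4654))
theorem Q2288 : ∀ i, i < 2288 → P i := stepQ 2287 Q2287 (allL N2287 (tt N1904 F17118) (tt N2287 F17119) (tt N2950 (iv F22665)) (tt N1747 F17120) (tt N2957 (iv F22703)) (tt N1743 F17121) (tt N2959 (iv F22715)) (tt N1742 F17122) (tt N2960 D4655) (tt N1741 (iv D3532)))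
theorem Q2289 : ∀ i, i < 2289 → P i := stepQ 2288 Q2288 (allL N2288 (tt N1905 F17123) (tt N2288 F17124) (tt N2951 (iv F22670)) (tt N1748 F17125) (tt N2958 (iv F22708)) (tt N2961 D4656) (tt N2288 F17126) (tt N2960 (iv F22720)) (tt N1742 (iv D3533)) (tt N2288 F17127))
theorem Q2290 : ∀ i, i < 2290 → P i := stepQ 2289 Q2289 (allL N2289 (tt N1906 F17128) (tt N2289 F17129) (tt N2952 (iv F22675)) (tt N1749 F17130) (tt N2880 (iv F22294)) (tt N2962 D4657) (tt N2289 F17131) (tt N1744 F17132) (tt N1743 (iv D3534)) (tt N1762 F17133))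
theorem Q2291 : ∀ i, i < 2291 → P i := stepQ 2290 Q2290 (allL N2290 (tt N1907 F17134) (tt N2290 F17135) (tt N2953 (iv F22681)) (tt N1750 F17136) (tt N2963 D4658) (tt N1744 (iv D3535)) (tt N2964 D4659) (tt N2962 (iv F22730)) (tt N2961 (iv F22725)) (tt N1763 F17137))
theorem Q2292 : ∀ i, i < 2292 → P i := stepQ 2291 Q2291 (allL N2291 (tt N1908 F17138) (tt N2291 F17139) (tt N2954 (iv F22685)) (tt N2291 F17140) (tt N1745 (iv D3536)) (tt N2882 (iv F22305)) (tt N2965 D4660) (tt N2291 F17141) (tt N2291 F17142) (tt N1764 F17143))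
theorem Q2293 : ∀ i, i < 2293 → P i := stepQ 2292 Q2292 (allL N2292 (tt N1909 F17144) (tt N2292 F17145) (tt N2955 (iv F22690)) (tt N1751 F17146) (tt N2965 (iv F22743)) (tt N2964 (iv F22738)) (tt N1745 (iv D3537)) (tt N2966 D4661) (tt N2292 F17147) (tt N1765 F17148))
theorem Q2294 : ∀ i, i < 2294 → P i := stepQ 2293 Q2293 (allL N2293 (tt N1910 F17149) (tt N2293 F17150) (tt N2293 F17151) (tt N2959 (iv F22713)) (tt N2293 F17152) (tt N2293 F17153) (tt N1747 F17154) (tt N2293 F17155) (tt N2967 D4662) (tt N1746 (iv D3538)))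
theorem Q2295 : ∀ i, i < 2295 → P i := stepQ 2294 Q2294 (allL N2294 (tt N1911 F17156) (tt N2294 F17157) (tt N2294 F17158) (tt N2960 (iv F22719)) (tt N2294 F17159) (tt N2968 D4663) (tt N2967 (iv F22756)) (tt N1748 F17160) (tt N1747 (iv D3539)) (tt N2294 F17161))
theorem Q2296 : ∀ i, i < 2296 → P i := stepQ 2295 Q2295 (allL N2295 (tt N1912 F17162) (tt N2295 F17163) (tt N2295 F17164) (tt N2961 (iv F22724)) (tt N2969 D4664) (tt N1748 (iv D3540)) (tt N2970 D4665) (tt N2968 (iv F22762)) (tt N1750 F17165) (tt N2295 F17166))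
theorem Q2297 : ∀ i, i < 2297 → P i := stepQ 2296 Q2296 (allL N2296 (tt N1913 F17167) (tt N2296 F17168) (tt N2296 F17169) (tt N2962 (iv F22729)) (tt N2971 D4666) (tt N1749 (iv D3541)) (tt N2972 D4667) (tt N1750 F17170) (tt N2968 (iv F22763)) (tt N1766 F17171))
theorem Q2298 : ∀ i, i < 2298 → P i := stepQ 2297 Q2297 (allL N2297 (tt N1914 F17172) (tt N2297 F17173) (tt N2297 F17174) (tt N2973 D4668) (tt N1750 (iv D3542)) (tt N1753 F17175) (tt N2974 D4669) (tt N2971 (iv F22781)) (tt N2969 (iv F22769)) (tt N1767 F17176))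
theorem Q2299 : ∀ i, i < 2299 → P i := stepQ 2298 Q2298 (allL N2298 (tt N1915 F17177) (tt N2298 F17178) (tt N2298 F17179) (tt N2964 (iv F22737)) (tt N2974 (iv F22795)) (tt N1751 F17180) (tt N1750 (iv D3543)) (tt N2975 D4670) (tt N2970 (iv F22775)) (tt N1768 F17181))
theorem Q2300 : ∀ i, i < 2300 → P i := stepQ 2299 Q2299 (allL N2299 (tt N1916 F17182) (tt N2299 F17183) (tt N2299 F17184) (tt N2966 (iv F22748)) (tt N2299 F17185) (tt N2975 (iv F22801)) (tt N2299 F17186) (tt N1751 (iv D3544)) (tt N2299 F17187) (tt N1769 F17188))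
theorem Q2301 : ∀ i, i < 2301 → P i := stepQ 2300 Q2300 (allL N2300 (tt N1917 F17189) (tt N2300 F17190) (tt N2300 F17191) (tt N2976 D4671) (tt N1752 (iv D3545)) (tt N2971 (iv F22780)) (tt N2124 F132007) (tt N1753 F17192) (tt N2300 F17193) (tt N1770 F17194))
theorem Q2302 : ∀ i, i < 2302 → P i := stepQ 2301 Q2301 (allL N2301 (tt N1918 F17195) (tt N2301 F17196) (tt N2301 F17197) (tt N2893 (iv F22360)) (tt N2124 F132008) (tt N2301 F17198) (tt N1752 (iv D3546)) (tt N2301 F17199) (tt N2301 F17200) (tt N1771 F17201))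
theorem Q2303 : ∀ i, i < 2303 → P i := stepQ 2302 Q2302 (allL N2302 (tt N1919 F17202) (tt N2302 F17203) (tt N2977 D4673) (tt N1753 (iv D3547)) (tt N2894 (iv F22367)) (tt N2973 (iv F22790)) (tt N2302 F17204) (tt N2976 (iv F22805)) (tt N2302 F17205) (tt N1772 F17206))
theorem Q2304 : ∀ i, i < 2304 → P i := stepQ 2303 Q2303 (allL N2303 (tt N1756 F17207) (tt N1920 F17208) (tt N2303 F17209) (tt N2303 F17210) (tt N2896 (iv F22382)) (tt N2303 F17211) (tt N2303 F17212) (tt N1754 (iv D3548)) (tt N2937 (iv F22603)) (tt N2978 D4674))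
theorem Q2305 : ∀ i, i < 2305 → P i := stepQ 2304 Q2304 (allL N2304 (tt N1757 F17213) (tt N1921 F17214) (tt N2304 F17215) (tt N2304 F17216) (tt N2897 (iv F22388)) (tt N2304 F17217) (tt N1755 F17218) (tt N2978 (iv F22826)) (tt N2979 D4675) (tt N1754 (iv D3549)))
theorem Q2306 : ∀ i, i < 2306 → P i := stepQ 2305 Q2305 (allL N2305 (tt N1758 F17219) (tt N1922 F17220) (tt N2305 F17221) (tt N2305 F17222) (tt N2898 (iv F22393)) (tt N2980 D4676) (tt N2979 (iv F22831)) (tt N2305 F17223) (tt N1755 (iv D3550)) (tt N2939 (iv F22614)))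
theorem Q2307 : ∀ i, i < 2307 → P i := stepQ 2306 Q2306 (allL N2306 (tt N2978 (iv F22820)) (tt N1759 F17224) (tt N2306 F17225) (tt N2306 F17226) (tt N2901 (iv F22411)) (tt N2306 F17227) (tt N2306 F17228) (tt N1757 F17229) (tt N2981 D4677) (tt N1756 (iv D3551)))
theorem Q2308 : ∀ i, i < 2308 → P i := stepQ 2307 Q2307 (allL N2307 (tt N2979 (iv F22827)) (tt N1760 F17230) (tt N2307 F17231) (tt N2307 F17232) (tt N2902 (iv F22417)) (tt N2982 D4678) (tt N1758 F17233) (tt N2981 (iv F22842)) (tt N1757 (iv D3552)) (tt N2944 (iv F22638)))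
theorem Q2309 : ∀ i, i < 2309 → P i := stepQ 2308 Q2308 (allL N2308 (tt N2980 (iv F22832)) (tt N1761 F17234) (tt N2308 F17235) (tt N2308 F17236) (tt N2983 D4679) (tt N1758 (iv D3553)) (tt N2984 D4680) (tt N2308 F17237) (tt N1776 F17238) (tt N2945 (iv F22644)))
theorem Q2310 : ∀ i, i < 2310 → P i := stepQ 2309 Q2309 (allL N2309 (tt N1926 F17239) (tt N2981 (iv F22838)) (tt N1762 F17240) (tt N2309 F17241) (tt N2906 (iv F22438)) (tt N2985 D4681) (tt N2309 F17242) (tt N1760 F17243) (tt N1759 (iv D3554)) (tt N2952 (iv F22679)))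
theorem Q2311 : ∀ i, i < 2311 → P i := stepQ 2310 Q2310 (allL N2310 (tt N1927 F17244) (tt N2982 (iv F22843)) (tt N1763 F17245) (tt N2310 F17246) (tt N2986 D4682) (tt N1760 (iv D3555)) (tt N2987 D4683) (tt N2985 (iv F22858)) (tt N2310 F17247) (tt N2953 (iv F22683)))
theorem Q2312 : ∀ i, i < 2312 → P i := stepQ 2311 Q2311 (allL N2311 (tt N1928 F17248) (tt N2983 (iv F22847)) (tt N1764 F17249) (tt N2988 D4684) (tt N1761 (iv D3556)) (tt N2908 (iv F22445)) (tt N2989 D4685) (tt N2311 F17250) (tt N1777 F17251) (tt N2954 (iv F22688)))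
theorem Q2313 : ∀ i, i < 2313 → P i := stepQ 2312 Q2312 (allL N2312 (tt N1929 F17252) (tt N2984 (iv F22851)) (tt N1765 F17253) (tt N2312 F17254) (tt N2989 (iv F22875)) (tt N2987 (iv F22866)) (tt N1761 (iv D3557)) (tt N2990 D4686) (tt N1778 F17255) (tt N2955 (iv F22693)))
theorem Q2314 : ∀ i, i < 2314 → P i := stepQ 2313 Q2313 (allL N2313 (tt N1930 F17256) (tt N2313 F17257) (tt N2985 (iv F22856)) (tt N1766 F17258) (tt N2991 D4687) (tt N1762 (iv D3558)) (tt N2992 D4688) (tt N1763 F17259) (tt N2313 F17260) (tt N2962 (iv F22731)))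
theorem Q2315 : ∀ i, i < 2315 → P i := stepQ 2314 Q2314 (allL N2314 (tt N1931 F17261) (tt N2314 F17262) (tt N2986 (iv F22861)) (tt N2993 D4689) (tt N1763 (iv D3559)) (tt N2913 (iv F22470)) (tt N2994 D4690) (tt N2991 (iv F22884)) (tt N2314 F17263) (tt N2963 (iv F22734)))
theorem Q2316 : ∀ i, i < 2316 → P i := stepQ 2315 Q2315 (allL N2315 (tt N1932 F17264) (tt N2315 F17265) (tt N2987 (iv F22864)) (tt N1768 F17266) (tt N2994 (iv F22897)) (tt N1765 F17267) (tt N1763 (iv D3560)) (tt N2995 D4691) (tt N2315 F17268) (tt N2964 (iv F22739)))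
theorem Q2317 : ∀ i, i < 2317 → P i := stepQ 2316 Q2316 (allL N2316 (tt N1933 F17269) (tt N2316 F17270) (tt N2989 (iv F22874)) (tt N2316 F17271) (tt N1765 F17272) (tt N2996 D4692) (tt N1764 (iv D3561)) (tt N2997 D4693) (tt N1779 F17273) (tt N2965 (iv F22745)))
theorem Q2318 : ∀ i, i < 2318 → P i := stepQ 2317 Q2317 (allL N2317 (tt N1934 F17274) (tt N2317 F17275) (tt N2990 (iv F22878)) (tt N1769 F17276) (tt N2997 (iv F22910)) (tt N2995 (iv F22902)) (tt N2317 F17277) (tt N1765 (iv D3562)) (tt N1780 F17278) (tt N2966 (iv F22751)))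
theorem Q2319 : ∀ i, i < 2319 → P i := stepQ 2318 Q2318 (allL N2318 (tt N1935 F17279) (tt N2318 F17280) (tt N2318 F17281) (tt N2998 D4694) (tt N1766 (iv D3563)) (tt N1770 F17282) (tt N2150 F132010) (tt N1767 F17283) (tt N2318 F17284) (tt N2971 (iv F22782)))
theorem Q2320 : ∀ i, i < 2320 → P i := stepQ 2319 Q2319 (allL N2319 (tt N1936 F17285) (tt N2319 F17286) (tt N2319 F17287) (tt N2992 (iv F22888)) (tt N2150 F132009) (tt N2319 F17288) (tt N1766 (iv D3564)) (tt N2999 D4696) (tt N2319 F17289) (tt N2972 (iv F22787)))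
theorem Q2321 : ∀ i, i < 2321 → P i := stepQ 2320 Q2320 (allL N2320 (tt N1937 F17290) (tt N2320 F17291) (tt N3000 D4697) (tt N1767 (iv D3565)) (tt N2993 (iv F22893)) (tt N1772 F17292) (tt N3001 D4698) (tt N2998 (iv F22916)) (tt N2320 F17293) (tt N2973 (iv F22791)))
theorem Q2322 : ∀ i, i < 2322 → P i := stepQ 2321 Q2321 (allL N2321 (tt N1938 F17294) (tt N2321 F17295) (tt N2321 F17296) (tt N3001 (iv F22935)) (tt N1768 F17297) (tt N2321 F17298) (tt N1767 (iv D3566)) (tt N3002 D4699) (tt N2321 F17299) (tt N2974 (iv F22797)))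
theorem Q2323 : ∀ i, i < 2323 → P i := stepQ 2322 Q2322 (allL N2322 (tt N1939 F17300) (tt N2322 F17301) (tt N2322 F17302) (tt N2995 (iv F22901)) (tt N3002 (iv F22941)) (tt N1769 F17303) (tt N2999 (iv F22927)) (tt N1768 (iv D3567)) (tt N2322 F17304) (tt N2975 (iv F22802)))
theorem Q2324 : ∀ i, i < 2324 → P i := stepQ 2323 Q2323 (allL N2323 (tt N1940 F17305) (tt N2323 F17306) (tt N3003 D4700) (tt N1770 (iv D3568)) (tt N2925 (iv F22524)) (tt N2998 (iv F22915)) (tt N2103 F131329) (tt N1772 F17307) (tt N1773 F17308) (tt N2976 (iv F22807)))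
theorem Q2325 : ∀ i, i < 2325 → P i := stepQ 2324 Q2324 (allL N2324 (tt N1941 F17315) (tt N3004 D4703) (tt N1772 (iv D3570)) (tt N2324 F17316) (tt N2927 (iv F22534)) (tt N3000 (iv F22931)) (tt N2324 F17317) (tt N3003 (iv F22946)) (tt N1774 F17318) (tt N2977 (iv F22819)))
theorem Q2326 : ∀ i, i < 2326 → P i := stepQ 2325 Q2325 (allL N2325 (tt N1942 F17319) (tt N3005 D4704) (tt N1773 (iv D3571)) (tt N2325 F17320) (tt N2934 (iv F22577)) (tt N2325 F17321) (tt N1944 F130835) (tt N1774 F17322) (tt N3003 (iv F22947)) (tt N2325 F17323))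
theorem Q2327 : ∀ i, i < 2327 → P i := stepQ 2326 Q2326 (allL N2326 (tt N3006 D4708) (tt N1774 (iv D3574)) (tt N2326 F17336) (tt N2326 F17337) (tt N2935 (iv F22589)) (tt N2326 F17338) (tt N2326 F17339) (tt N3005 (iv F22965)) (tt N3004 (iv F22961)) (tt N2326 F17340))
theorem Q2328 : ∀ i, i < 2328 → P i := stepQ 2327 Q2327 (allL N2327 (tt N1776 F17372) (tt N1944 F17373) (tt N2327 F17374) (tt N2327 F17375) (tt N3007 D4710) (tt N1775 (iv D3580)) (tt N3005 F130924) (tt N2327 F17376) (tt N2980 (iv F22837)) (tt N2327 F17377))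
theorem Q2329 : ∀ i, i < 2329 → P i := stepQ 2328 Q2328 (allL N2328 (tt N3007 (iv F22999)) (tt N1777 F17378) (tt N2328 F17379) (tt N3008 D4712) (tt N1776 (iv D3581)) (tt N2328 F17380) (tt N3009 D4713) (tt N2328 F17381) (tt N2983 (iv F22850)) (tt N2328 F17382))
theorem Q2330 : ∀ i, i < 2330 → P i := stepQ 2329 Q2329 (allL N2329 (tt N3005 F130926) (tt N1778 F17383) (tt N2329 F17384) (tt N2329 F17385) (tt N3009 (iv F23018)) (tt N2329 F17386) (tt N1776 (iv D3582)) (tt N3006 F130927) (tt N2984 (iv F22854)) (tt N2329 F17387))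
theorem Q2331 : ∀ i, i < 2331 → P i := stepQ 2330 Q2330 (allL N2330 (tt N1946 F17388) (tt N3008 (iv F23011)) (tt N2330 F17389) (tt N1777 (iv D3583)) (tt N2330 F17390) (tt N2330 F17391) (tt N3010 D4715) (tt N2330 F17392) (tt N2988 (iv F22872)) (tt N2330 F17393))
theorem Q2332 : ∀ i, i < 2332 → P i := stepQ 2331 Q2331 (allL N2331 (tt N1947 F17394) (tt N3009 (iv F23016)) (tt N1779 F17395) (tt N3010 (iv F23028)) (tt N1778 F17396) (tt N3011 D4716) (tt N1777 (iv D3584)) (tt N3012 D4717) (tt N2989 (iv F22876)) (tt N2331 F17397))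
theorem Q2333 : ∀ i, i < 2333 → P i := stepQ 2332 Q2332 (allL N2332 (tt N1943 F130838) (tt N3006 F130839) (tt N1780 F17399) (tt N2332 F17400) (tt N3012 (iv F23038)) (tt N2332 F17401) (tt N2332 F17402) (tt N1778 (iv D3585)) (tt N2990 (iv F22881)) (tt N2332 F17403))
theorem Q2334 : ∀ i, i < 2334 → P i := stepQ 2333 Q2333 (allL N2333 (tt N1948 F17404) (tt N2333 F17405) (tt N3011 (iv F23032)) (tt N2333 F17406) (tt N2333 F17407) (tt N1779 (iv D3586)) (tt N2333 F17408) (tt N3013 D4718) (tt N3014 D4719) (tt N2333 F17409))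
theorem Q2335 : ∀ i, i < 2335 → P i := stepQ 2334 Q2334 (allL N2334 (tt N1949 F17410) (tt N2334 F17411) (tt N3012 (iv F23037)) (tt N2334 F17412) (tt N1780 F17413) (tt N3013 (iv F23045)) (tt N2334 F17414) (tt N1779 (iv D3587)) (tt N2997 (iv F22912)) (tt N2334 F17415))
theorem Q2336 : ∀ i, i < 2336 → P i := stepQ 2335 Q2335 (allL N2335 (tt N2791 (iv F21807)) (tt N3015 D4720) (tt N1781 (iv D3588)) (tt N2335 F17416) (tt N1787 F17417) (tt N2335 F17418) (tt N3016 D4721) (tt N2335 F17419) (tt N2335 F17420) (tt N3017 D4722))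
theorem Q2337 : ∀ i, i < 2337 → P i := stepQ 2336 Q2336 (allL N2336 (tt N2066 (iv F20386)) (tt N2336 F17421) (tt N3016 (iv F23059)) (tt N1782 F17422) (tt N1788 F17423) (tt N2062 (iv F20388)) (tt N1781 (iv D3589)) (tt N2061 F20367) (tt N2336 F17424) (tt N3018 D4723))
theorem Q2338 : ∀ i, i < 2338 → P i := stepQ 2337 Q2337 (allL N2337 (tt N2792 (iv F21815)) (tt N2337 F17425) (tt N3017 (iv F23065)) (tt N1783 F17426) (tt N1789 F17427) (tt N2337 F17428) (tt N3018 (iv F23075)) (tt N2337 F17429) (tt N3019 D4724) (tt N1781 (iv D3590)))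
theorem Q2339 : ∀ i, i < 2339 → P i := stepQ 2338 Q2338 (allL N2338 (tt N2126 (iv F20369)) (tt N2338 F17439) (tt N2338 F17440) (tt N3018 (iv F23072)) (tt N1785 F17441) (tt N2122 (iv F20371)) (tt N1783 F17442) (tt N2121 F20368) (tt N3020 D4725) (tt N1782 (iv D3593)))
theorem Q2340 : ∀ i, i < 2340 → P i := stepQ 2339 Q2339 (allL N2339 (tt N2793 (iv F21822)) (tt N2339 F17443) (tt N2339 F17444) (tt N3019 (iv F23078)) (tt N1786 F17445) (tt N3021 D4726) (tt N3020 (iv F23086)) (tt N2339 F17446) (tt N1783 (iv D3594)) (tt N2339 F17447))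
theorem Q2341 : ∀ i, i < 2341 → P i := stepQ 2340 Q2340 (allL N2340 (tt N2125 F20372) (tt N2340 F17448) (tt N2340 F17449) (tt N1794 F17450) (tt N2121 (iv F20370)) (tt N2340 F17451) (tt N2340 F17452) (tt N1785 F17453) (tt N3022 D4727) (tt N1784 (iv D3595)))
theorem Q2342 : ∀ i, i < 2342 → P i := stepQ 2341 Q2341 (allL N2341 (tt N2794 (iv F21829)) (tt N2341 F17454) (tt N2341 F17455) (tt N1795 F17456) (tt N3020 (iv F23085)) (tt N3023 D4728) (tt N1786 F17457) (tt N3022 (iv F23101)) (tt N1785 (iv D3596)) (tt N2341 F17458))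
theorem Q2343 : ∀ i, i < 2343 → P i := stepQ 2342 Q2342 (allL N2342 (tt N3024 D4729) (tt N1787 (iv D3597)) (tt N2342 F17459) (tt N1817 F17460) (tt N3015 (iv F23054)) (tt N1796 F17461) (tt N3025 D4730) (tt N2342 F17462) (tt N2342 F17463) (tt N3026 D4731))
theorem Q2344 : ∀ i, i < 2344 → P i := stepQ 2343 Q2343 (allL N2343 (tt N2796 (iv F21844)) (tt N3025 (iv F23114)) (tt N1788 F17464) (tt N1818 F17465) (tt N3016 (iv F23061)) (tt N3027 D4732) (tt N1787 (iv D3598)) (tt N3028 D4733) (tt N2343 F17466) (tt N3029 D4734))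
theorem Q2345 : ∀ i, i < 2345 → P i := stepQ 2344 Q2344 (allL N2344 (tt N2797 (iv F21851)) (tt N3026 (iv F23118)) (tt N1789 F17467) (tt N1819 F17468) (tt N3017 (iv F23067)) (tt N1798 F17469) (tt N3029 (iv F23134)) (tt N2344 F17470) (tt N3030 D4735) (tt N1787 (iv D3599)))
theorem Q2346 : ∀ i, i < 2346 → P i := stepQ 2345 Q2345 (allL N2345 (tt N2798 (iv F21856)) (tt N2345 F17471) (tt N3027 (iv F23123)) (tt N1790 F17472) (tt N3031 D4736) (tt N1788 (iv D3600)) (tt N1799 F17473) (tt N3032 D4737) (tt N2876 (iv F22277)) (tt N3033 D4738))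
theorem Q2347 : ∀ i, i < 2347 → P i := stepQ 2346 Q2346 (allL N2346 (tt N2065 F20389) (tt N2346 F17474) (tt N3028 (iv F23127)) (tt N1791 F17475) (tt N2061 (iv F20387)) (tt N3032 (iv F23149)) (tt N2346 F17476) (tt N1788 (iv D3601)) (tt N2346 F17477) (tt N3034 D4739))
theorem Q2348 : ∀ i, i < 2348 → P i := stepQ 2347 Q2347 (allL N2347 (tt N2799 (iv F21863)) (tt N2347 F17478) (tt N3029 (iv F23132)) (tt N1792 F17479) (tt N3018 (iv F23073)) (tt N3033 (iv F23152)) (tt N1789 F17480) (tt N3034 (iv F23159)) (tt N3035 D4740) (tt N1788 (iv D3602)))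
theorem Q2349 : ∀ i, i < 2349 → P i := stepQ 2348 Q2348 (allL N2348 (tt N2800 (iv F21869)) (tt N2348 F17481) (tt N3030 (iv F23135)) (tt N1793 F17482) (tt N3019 (iv F23079)) (tt N3036 D4741) (tt N3035 (iv F23162)) (tt N2348 F17483) (tt N1789 (iv D3603)) (tt N2348 F17484))
theorem Q2350 : ∀ i, i < 2350 → P i := stepQ 2349 Q2349 (allL N2349 (tt N2801 (iv F21873)) (tt N2349 F17485) (tt N1824 F17486) (tt N3032 (iv F23147)) (tt N2349 F17487) (tt N1791 F17488) (tt N2851 (iv F22156)) (tt N1790 (iv D3604)) (tt N2850 F22150) (tt N3037 D4742))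
theorem Q2351 : ∀ i, i < 2351 → P i := stepQ 2350 Q2350 (allL N2350 (tt N2802 (iv F21881)) (tt N2350 F17494) (tt N1826 F17495) (tt N3033 (iv F23151)) (tt N2350 F17496) (tt N1792 F17497) (tt N1802 F17498) (tt N3037 (iv F23173)) (tt N3038 D4743) (tt N1790 (iv D3606)))
theorem Q2352 : ∀ i, i < 2352 → P i := stepQ 2351 Q2351 (allL N2351 (tt N2803 (iv F21887)) (tt N2351 F17499) (tt N1827 F17500) (tt N3034 (iv F23156)) (tt N1794 F17501) (tt N3037 (iv F23172)) (tt N2351 F17502) (tt N1792 F17503) (tt N3039 D4744) (tt N1791 (iv D3607)))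
theorem Q2353 : ∀ i, i < 2353 → P i := stepQ 2352 Q2352 (allL N2352 (tt N2804 (iv F21894)) (tt N2352 F17504) (tt N1828 F17505) (tt N3035 (iv F23161)) (tt N1795 F17506) (tt N3040 D4745) (tt N1793 F17507) (tt N3039 (iv F23182)) (tt N1792 (iv D3608)) (tt N2352 F17508))
theorem Q2354 : ∀ i, i < 2354 → P i := stepQ 2353 Q2353 (allL N2353 (tt N2805 (iv F21899)) (tt N2353 F17509) (tt N1829 F17510) (tt N3036 (iv F23165)) (tt N2353 F17511) (tt N1793 (iv D3609)) (tt N3041 D4746) (tt N2353 F17512) (tt N1804 F17513) (tt N2353 F17514))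
theorem Q2355 : ∀ i, i < 2355 → P i := stepQ 2354 Q2354 (allL N2354 (tt N2806 (iv F21905)) (tt N2354 F17515) (tt N1830 F17516) (tt N3022 (iv F23098)) (tt N3039 (iv F23180)) (tt N3042 D4747) (tt N2354 F17517) (tt N1795 F17518) (tt N1794 (iv D3610)) (tt N2354 F17519))
theorem Q2356 : ∀ i, i < 2356 → P i := stepQ 2355 Q2355 (allL N2355 (tt N2807 (iv F21912)) (tt N2355 F17520) (tt N1831 F17521) (tt N3023 (iv F23105)) (tt N3043 D4748) (tt N1795 (iv D3611)) (tt N2355 F17522) (tt N3042 (iv F23194)) (tt N2355 F17523) (tt N2355 F17524))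
theorem Q2357 : ∀ i, i < 2357 → P i := stepQ 2356 Q2356 (allL N2356 (tt N1796 (iv D3612)) (tt N2808 (iv F21917)) (tt N2356 F17525) (tt N1832 F17526) (tt N2356 F17527) (tt N3024 (iv F23111)) (tt N3044 D4749) (tt N2356 F17528) (tt N1806 F17529) (tt N3045 D4750))
theorem Q2358 : ∀ i, i < 2358 → P i := stepQ 2357 Q2357 (allL N2357 (tt N3044 (iv F23202)) (tt N1797 F17530) (tt N2357 F17531) (tt N1833 F17532) (tt N2357 F17533) (tt N3046 D4751) (tt N1796 (iv D3613)) (tt N2899 (iv F22400)) (tt N1807 F17534) (tt N3047 D4752))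
theorem Q2359 : ∀ i, i < 2359 → P i := stepQ 2358 Q2358 (allL N2358 (tt N3045 (iv F23207)) (tt N1798 F17535) (tt N2358 F17536) (tt N1834 F17537) (tt N2358 F17538) (tt N3026 (iv F23121)) (tt N3047 (iv F23219)) (tt N2358 F17539) (tt N3048 D4753) (tt N1796 (iv D3614)))
theorem Q2360 : ∀ i, i < 2360 → P i := stepQ 2359 Q2359 (allL N2359 (tt N2811 (iv F21932)) (tt N3046 (iv F23212)) (tt N1799 F17540) (tt N1835 F17541) (tt N3049 D4754) (tt N1797 (iv D3615)) (tt N3027 (iv F23125)) (tt N2868 (iv F22237)) (tt N2867 F22232) (tt N3050 D4755))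
theorem Q2361 : ∀ i, i < 2361 → P i := stepQ 2360 Q2360 (allL N2360 (tt N2812 (iv F21937)) (tt N3047 (iv F23215)) (tt N1800 F17547) (tt N1837 F17548) (tt N2360 F17549) (tt N3050 (iv F23230)) (tt N1798 F17550) (tt N2904 (iv F22428)) (tt N3051 D4756) (tt N1797 (iv D3617)))
theorem Q2362 : ∀ i, i < 2362 → P i := stepQ 2361 Q2361 (allL N2361 (tt N2813 (iv F21943)) (tt N3048 (iv F23220)) (tt N1801 F17551) (tt N1838 F17552) (tt N2361 F17553) (tt N3052 D4757) (tt N3051 (iv F23234)) (tt N2361 F17554) (tt N1798 (iv D3618)) (tt N1810 F17555))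
theorem Q2363 : ∀ i, i < 2363 → P i := stepQ 2362 Q2362 (allL N2362 (tt N2814 (iv F21949)) (tt N2362 F17556) (tt N3049 (iv F23226)) (tt N2362 F17557) (tt N1799 (iv D3619)) (tt N2362 F17558) (tt N3031 (iv F23143)) (tt N2874 (iv F22267)) (tt N2873 F22261) (tt N3053 D4758))
theorem Q2364 : ∀ i, i < 2364 → P i := stepQ 2363 Q2363 (allL N2363 (tt N2815 (iv F21956)) (tt N2363 F17565) (tt N3050 (iv F23228)) (tt N1802 F17566) (tt N3053 (iv F23242)) (tt N1800 F17567) (tt N3033 (iv F23153)) (tt N2878 (iv F22287)) (tt N3054 D4759) (tt N1799 (iv D3622)))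
theorem Q2365 : ∀ i, i < 2365 → P i := stepQ 2364 Q2364 (allL N2364 (tt N2816 (iv F21961)) (tt N2364 F17573) (tt N3051 (iv F23231)) (tt N1803 F17574) (tt N2364 F17575) (tt N3055 D4760) (tt N1801 F17576) (tt N2910 (iv F22456)) (tt N1800 (iv D3624)) (tt N1811 F17577))
theorem Q2366 : ∀ i, i < 2366 → P i := stepQ 2365 Q2365 (allL N2365 (tt N2817 (iv F21968)) (tt N2365 F17578) (tt N3052 (iv F23236)) (tt N1804 F17579) (tt N3056 D4761) (tt N1801 (iv D3625)) (tt N3057 D4762) (tt N2365 F17580) (tt N3036 (iv F23167)) (tt N1812 F17581))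
theorem Q2367 : ∀ i, i < 2367 → P i := stepQ 2366 Q2366 (allL N2366 (tt N2818 (iv F21972)) (tt N2366 F17600) (tt N1849 F17601) (tt N3054 (iv F23245)) (tt N2366 F17602) (tt N3058 D4763) (tt N3038 (iv F23177)) (tt N2886 (iv F22328)) (tt N1802 (iv D3630)) (tt N2885 (iv F22323)))
theorem Q2368 : ∀ i, i < 2368 → P i := stepQ 2367 Q2367 (allL N2367 (tt N2819 (iv F21978)) (tt N2367 F17609) (tt N1851 F17610) (tt N3055 (iv F23247)) (tt N3059 D4764) (tt N1803 (iv D3632)) (tt N3060 D4765) (tt N2917 (iv F22488)) (tt N3058 (iv F23259)) (tt N1813 F17611))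
theorem Q2369 : ∀ i, i < 2369 → P i := stepQ 2368 Q2368 (allL N2368 (tt N2820 (iv F21983)) (tt N2368 F17612) (tt N1852 F17613) (tt N3057 (iv F23255)) (tt N2368 F17614) (tt N3060 (iv F23266)) (tt N1804 (iv D3633)) (tt N3061 D4766) (tt N3041 (iv F23190)) (tt N1814 F17615))
theorem Q2370 : ∀ i, i < 2370 → P i := stepQ 2369 Q2369 (allL N2369 (tt N2821 (iv F21987)) (tt N2369 F17622) (tt N1854 F17623) (tt N3062 D4767) (tt N1805 (iv D3635)) (tt N3059 (iv F23262)) (tt N2369 F17624) (tt N2928 (iv F22540)) (tt N2369 F17625) (tt N1815 F17626))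
theorem Q2371 : ∀ i, i < 2371 → P i := stepQ 2370 Q2370 (allL N2370 (tt N1807 F17627) (tt N2822 (iv F21995)) (tt N2370 F17628) (tt N1855 F17629) (tt N2370 F17630) (tt N2896 (iv F22383)) (tt N1806 (iv D3636)) (tt N2895 F22377) (tt N3044 (iv F23206)) (tt N3063 D4768))
theorem Q2372 : ∀ i, i < 2372 → P i := stepQ 2371 Q2371 (allL N2371 (tt N1808 F17631) (tt N2823 (iv F22002)) (tt N2371 F17632) (tt N1856 F17633) (tt N2371 F17634) (tt N2371 F17635) (tt N3063 (iv F23282)) (tt N2371 F17636) (tt N3064 D4769) (tt N1806 (iv D3637)))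
theorem Q2373 : ∀ i, i < 2373 → P i := stepQ 2372 Q2372 (allL N2372 (tt N3063 (iv F23278)) (tt N1809 F17646) (tt N2372 F17647) (tt N1859 F17648) (tt N2372 F17649) (tt N2901 (iv F22412)) (tt N1808 F17650) (tt N2900 (iv F22407)) (tt N3065 D4770) (tt N1807 (iv D3640)))
theorem Q2374 : ∀ i, i < 2374 → P i := stepQ 2373 Q2373 (allL N2373 (tt N3064 (iv F23283)) (tt N1810 F17651) (tt N2373 F17652) (tt N1860 F17653) (tt N2373 F17654) (tt N3066 D4771) (tt N3065 (iv F23292)) (tt N2373 F17655) (tt N1808 (iv D3641)) (tt N3048 (iv F23225)))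
theorem Q2375 : ∀ i, i < 2375 → P i := stepQ 2374 Q2374 (allL N2374 (tt N2826 (iv F22018)) (tt N3065 (iv F23288)) (tt N1811 F17675) (tt N1864 F17676) (tt N2374 F17677) (tt N3067 D4772) (tt N1810 F17678) (tt N2905 (iv F22434)) (tt N1809 (iv D3647)) (tt N3051 (iv F23235)))
theorem Q2376 : ∀ i, i < 2376 → P i := stepQ 2375 Q2375 (allL N2375 (tt N2827 (iv F22024)) (tt N3066 (iv F23293)) (tt N1812 F17679) (tt N1865 F17680) (tt N3068 D4773) (tt N1810 (iv D3648)) (tt N3069 D4774) (tt N2375 F17681) (tt N2375 F17682) (tt N3052 (iv F23239)))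
theorem Q2377 : ∀ i, i < 2377 → P i := stepQ 2376 Q2376 (allL N2376 (tt N2828 (iv F22029)) (tt N2376 F17718) (tt N3067 (iv F23298)) (tt N1813 F17719) (tt N3070 D4775) (tt N1811 (iv D3658)) (tt N3071 D4776) (tt N2911 (iv F22461)) (tt N2912 (iv F22467)) (tt N3055 (iv F23248)))
theorem Q2378 : ∀ i, i < 2378 → P i := stepQ 2377 Q2377 (allL N2377 (tt N2829 (iv F22034)) (tt N2377 F17720) (tt N3068 (iv F23300)) (tt N2377 F17721) (tt N1812 (iv D3659)) (tt N2377 F17722) (tt N3072 D4777) (tt N2377 F17723) (tt N2377 F17724) (tt N3056 (iv F23253)))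
theorem Q2379 : ∀ i, i < 2379 → P i := stepQ 2378 Q2378 (allL N2378 (tt N2830 (iv F22039)) (tt N2378 F17725) (tt N3069 (iv F23304)) (tt N1814 F17726) (tt N3072 (iv F23314)) (tt N3071 (iv F23311)) (tt N1812 (iv D3660)) (tt N3073 D4778) (tt N2378 F17727) (tt N3057 (iv F23256)))
theorem Q2380 : ∀ i, i < 2380 → P i := stepQ 2379 Q2379 (allL N2379 (tt N2831 (iv F22042)) (tt N2379 F17758) (tt N1875 F17759) (tt N3074 D4779) (tt N1813 (iv D3668)) (tt N1815 F17760) (tt N3075 D4780) (tt N2918 (iv F22494)) (tt N2920 (iv F22506)) (tt N3059 (iv F23263)))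
theorem Q2381 : ∀ i, i < 2381 → P i := stepQ 2380 Q2380 (allL N2380 (tt N2832 (iv F22048)) (tt N2380 F17761) (tt N1876 F17762) (tt N3071 (iv F23310)) (tt N3075 (iv F23324)) (tt N1814 F17763) (tt N1813 (iv D3669)) (tt N3076 D4781) (tt N2921 (iv F22511)) (tt N3060 (iv F23267)))
theorem Q2382 : ∀ i, i < 2382 → P i := stepQ 2381 Q2381 (allL N2381 (tt N2833 (iv F22053)) (tt N2381 F17764) (tt N1877 F17765) (tt N3073 (iv F23317)) (tt N2381 F17766) (tt N3076 (iv F23328)) (tt N2381 F17767) (tt N1814 (iv D3670)) (tt N2381 F17768) (tt N3061 (iv F23272)))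
theorem Q2383 : ∀ i, i < 2383 → P i := stepQ 2382 Q2382 (allL N2382 (tt N2834 (iv F22058)) (tt N2382 F17779) (tt N3077 D4782) (tt N1815 (iv D3673)) (tt N2382 F17780) (tt N3074 (iv F23321)) (tt N2382 F17781) (tt N2930 (iv F22554)) (tt N1816 F17782) (tt N3062 (iv F23277)))
theorem Q2384 : ∀ i, i < 2384 → P i := stepQ 2383 Q2383 (allL N2383 (tt N2835 (iv F22064)) (tt N3078 D4783) (tt N1816 (iv D3706)) (tt N1888 F17925) (tt N2383 F17926) (tt N2934 (iv F22578)) (tt N2383 F17927) (tt N2932 (iv F22566)) (tt N3077 (iv F23332)) (tt N2383 F17928))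
theorem Q2385 : ∀ i, i < 2385 → P i := stepQ 2384 Q2384 (allL N2384 (tt N1817 (iv D3754)) (tt N2836 (iv F22071)) (tt N1950 F18152) (tt N3024 (iv F23110)) (tt N2384 F18153) (tt N1832 F18154) (tt N3079 D4784) (tt N2384 F18155) (tt N2384 F18156) (tt N3080 D4785))
theorem Q2386 : ∀ i, i < 2386 → P i := stepQ 2385 Q2385 (allL N2385 (tt N3079 (iv F23338)) (tt N1818 F18157) (tt N1951 F18158) (tt N3025 (iv F23116)) (tt N2385 F18159) (tt N3081 D4786) (tt N1817 (iv D3755)) (tt N3082 D4787) (tt N2385 F18160) (tt N3083 D4788))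
theorem Q2387 : ∀ i, i < 2387 → P i := stepQ 2386 Q2386 (allL N2386 (tt N3080 (iv F23342)) (tt N1819 F18161) (tt N1952 F18162) (tt N3026 (iv F23120)) (tt N2386 F18163) (tt N1834 F18164) (tt N3083 (iv F23358)) (tt N2386 F18165) (tt N3084 D4789) (tt N1817 (iv D3756)))
theorem Q2388 : ∀ i, i < 2388 → P i := stepQ 2387 Q2387 (allL N2387 (tt N2839 (iv F22088)) (tt N3081 (iv F23347)) (tt N1820 F18166) (tt N3027 (iv F23124)) (tt N3085 D4790) (tt N1818 (iv D3757)) (tt N1835 F18167) (tt N3086 D4791) (tt N3087 D4792) (tt N3088 D4793))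
theorem Q2389 : ∀ i, i < 2389 → P i := stepQ 2388 Q2388 (allL N2388 (tt N2840 (iv F22091)) (tt N3082 (iv F23350)) (tt N1821 F18168) (tt N3028 (iv F23128)) (tt N2388 F18169) (tt N3086 (iv F23368)) (tt N2388 F18170) (tt N1818 (iv D3758)) (tt N2388 F18171) (tt N3089 D4794))
theorem Q2390 : ∀ i, i < 2390 → P i := stepQ 2389 Q2389 (allL N2389 (tt N2841 (iv F22098)) (tt N3083 (iv F23355)) (tt N1822 F18172) (tt N3029 (iv F23133)) (tt N2389 F18173) (tt N3088 (iv F23373)) (tt N1819 F18174) (tt N3089 (iv F23378)) (tt N3090 D4795) (tt N1818 (iv D3759)))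
theorem Q2391 : ∀ i, i < 2391 → P i := stepQ 2390 Q2390 (allL N2390 (tt N2842 (iv F22102)) (tt N3084 (iv F23359)) (tt N1823 F18175) (tt N3030 (iv F23136)) (tt N2390 F18176) (tt N3091 D4796) (tt N3090 (iv F23381)) (tt N2390 F18177) (tt N1819 (iv D3760)) (tt N2390 F18178))
theorem Q2392 : ∀ i, i < 2392 → P i := stepQ 2391 Q2391 (allL N2391 (tt N2843 (iv F22107)) (tt N1957 F18179) (tt N3085 (iv F23364)) (tt N2391 F18180) (tt N1820 (iv D3761)) (tt N2391 F18181) (tt N1839 F18182) (tt N3092 D4797) (tt N3093 D4798) (tt N3094 D4799))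
theorem Q2393 : ∀ i, i < 2393 → P i := stepQ 2392 Q2392 (allL N2392 (tt N2844 (iv F22112)) (tt N1958 F18183) (tt N3086 (iv F23367)) (tt N1824 F18184) (tt N3092 (iv F23389)) (tt N1821 F18185) (tt N3095 D4800) (tt N1820 (iv D3762)) (tt N3096 D4801) (tt N3097 D4802))
theorem Q2394 : ∀ i, i < 2394 → P i := stepQ 2393 Q2393 (allL N2393 (tt N2845 (iv F22116)) (tt N1959 F18186) (tt N3087 (iv F23369)) (tt N1825 F18187) (tt N3093 (iv F23395)) (tt N2393 F18188) (tt N1841 F18189) (tt N3096 (iv F23415)) (tt N1820 (iv D3763)) (tt N3098 D4803))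
theorem Q2395 : ∀ i, i < 2395 → P i := stepQ 2394 Q2394 (allL N2394 (tt N2846 (iv F22121)) (tt N1960 F18190) (tt N3088 (iv F23372)) (tt N1826 F18191) (tt N3094 (iv F23401)) (tt N1822 F18192) (tt N1842 F18193) (tt N3097 (iv F23419)) (tt N3099 D4804) (tt N1820 (iv D3764)))
theorem Q2396 : ∀ i, i < 2396 → P i := stepQ 2395 Q2395 (allL N2395 (tt N2847 (iv F22126)) (tt N1961 F18194) (tt N3089 (iv F23375)) (tt N1827 F18195) (tt N2395 F18196) (tt N3097 (iv F23418)) (tt N2395 F18197) (tt N1822 F18198) (tt N3100 D4805) (tt N1821 (iv D3765)))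
theorem Q2397 : ∀ i, i < 2397 → P i := stepQ 2396 Q2396 (allL N2396 (tt N2848 (iv F22132)) (tt N1962 F18199) (tt N3090 (iv F23379)) (tt N1828 F18200) (tt N2396 F18201) (tt N3101 D4806) (tt N1823 F18202) (tt N3100 (iv F23431)) (tt N1822 (iv D3766)) (tt N2396 F18203))
theorem Q2398 : ∀ i, i < 2398 → P i := stepQ 2397 Q2397 (allL N2397 (tt N2849 (iv F22138)) (tt N1963 F18204) (tt N3091 (iv F23383)) (tt N1829 F18205) (tt N3102 D4807) (tt N1823 (iv D3767)) (tt N3103 D4808) (tt N2397 F18206) (tt N1845 F18207) (tt N2397 F18208))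
theorem Q2399 : ∀ i, i < 2399 → P i := stepQ 2398 Q2398 (allL N2398 (tt N2850 (iv F22144)) (tt N1964 F18209) (tt N2851 (iv F22153)) (tt N3095 (iv F23405)) (tt N2398 F18210) (tt N2398 F18211) (tt N1824 (iv D3768)) (tt N1846 F18212) (tt N2801 (iv F21880)) (tt N3104 D4809))
theorem Q2400 : ∀ i, i < 2400 → P i := stepQ 2399 Q2399 (allL N2399 (tt N2851 (iv F22151)) (tt N1965 F18213) (tt N2850 (iv F22146)) (tt N3096 (iv F23411)) (tt N2399 F18214) (tt N2399 F18215) (tt N2801 (iv F21879)) (tt N1825 F18216) (tt N1824 (iv D3769)) (tt N3105 D4810))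
theorem Q2401 : ∀ i, i < 2401 → P i := stepQ 2400 Q2400 (allL N2400 (tt N2852 (iv F22158)) (tt N1966 F18217) (tt N3037 (iv F23170)) (tt N3097 (iv F23417)) (tt N2400 F18218) (tt N1827 F18219) (tt N3104 (iv F23449)) (tt N1826 F18220) (tt N3106 D4811) (tt N1824 (iv D3770)))
theorem Q2402 : ∀ i, i < 2402 → P i := stepQ 2401 Q2401 (allL N2401 (tt N2853 (iv F22163)) (tt N1967 F18221) (tt N2884 (iv F22314)) (tt N3098 (iv F23421)) (tt N2401 F18222) (tt N2401 F18223) (tt N1848 F18224) (tt N3105 (iv F23454)) (tt N3107 D4812) (tt N1825 (iv D3771)))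
theorem Q2403 : ∀ i, i < 2403 → P i := stepQ 2402 Q2402 (allL N2402 (tt N2854 (iv F22169)) (tt N1968 F18225) (tt N3038 (iv F23175)) (tt N3099 (iv F23425)) (tt N2402 F18226) (tt N3108 D4813) (tt N1849 F18227) (tt N3106 (iv F23457)) (tt N1826 (iv D3772)) (tt N3107 (iv F23461)))
theorem Q2404 : ∀ i, i < 2404 → P i := stepQ 2403 Q2403 (allL N2403 (tt N2855 (iv F22173)) (tt N1969 F18228) (tt N3039 (iv F23179)) (tt N3100 (iv F23428)) (tt N1830 F18229) (tt N3109 D4814) (tt N2403 F18230) (tt N1828 F18231) (tt N1827 (iv D3773)) (tt N2403 F18232))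
theorem Q2405 : ∀ i, i < 2405 → P i := stepQ 2404 Q2404 (allL N2404 (tt N2856 (iv F22179)) (tt N1970 F18233) (tt N3040 (iv F23185)) (tt N3101 (iv F23434)) (tt N3110 D4815) (tt N1828 (iv D3774)) (tt N3111 D4816) (tt N3109 (iv F23465)) (tt N3108 (iv F23463)) (tt N2404 F18234))
theorem Q2406 : ∀ i, i < 2406 → P i := stepQ 2405 Q2405 (allL N2405 (tt N2857 (iv F22182)) (tt N1971 F18235) (tt N3041 (iv F23188)) (tt N3103 (iv F23443)) (tt N2405 F18236) (tt N3111 (iv F23471)) (tt N1829 (iv D3775)) (tt N3112 D4817) (tt N1852 F18237) (tt N2405 F18238))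
theorem Q2407 : ∀ i, i < 2407 → P i := stepQ 2406 Q2406 (allL N2406 (tt N2858 (iv F22187)) (tt N1972 F18239) (tt N3042 (iv F23193)) (tt N2406 F18240) (tt N3113 D4818) (tt N1830 (iv D3776)) (tt N3114 D4819) (tt N1831 F18241) (tt N2406 F18242) (tt N2406 F18243))
theorem Q2408 : ∀ i, i < 2408 → P i := stepQ 2407 Q2407 (allL N2407 (tt N2859 (iv F22193)) (tt N1973 F18244) (tt N3043 (iv F23198)) (tt N3115 D4820) (tt N1831 (iv D3777)) (tt N3110 (iv F23468)) (tt N2407 F18245) (tt N3113 (iv F23479)) (tt N2407 F18246) (tt N2407 F18247))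
theorem Q2409 : ∀ i, i < 2409 → P i := stepQ 2408 Q2408 (allL N2408 (tt N1833 F18248) (tt N2860 (iv F22199)) (tt N1974 F18249) (tt N3044 (iv F23204)) (tt N1889 F18250) (tt N3116 D4821) (tt N1832 (iv D3778)) (tt N3117 D4822) (tt N1855 F18251) (tt N3118 D4823))
theorem Q2410 : ∀ i, i < 2410 → P i := stepQ 2409 Q2409 (allL N2409 (tt N1834 F18252) (tt N2861 (iv F22204)) (tt N1975 F18253) (tt N3045 (iv F23209)) (tt N1890 F18254) (tt N3080 (iv F23345)) (tt N3118 (iv F23503)) (tt N2409 F18255) (tt N3119 D4824) (tt N1832 (iv D3779)))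
theorem Q2411 : ∀ i, i < 2411 → P i := stepQ 2410 Q2410 (allL N2410 (tt N3116 (iv F23493)) (tt N1835 F18256) (tt N1976 F18257) (tt N3046 (iv F23214)) (tt N3120 D4825) (tt N1833 (iv D3780)) (tt N3081 (iv F23349)) (tt N3121 D4826) (tt N3122 D4827) (tt N3123 D4828))
theorem Q2412 : ∀ i, i < 2412 → P i := stepQ 2411 Q2411 (allL N2411 (tt N3117 (iv F23495)) (tt N1836 F18258) (tt N1977 F18259) (tt N2899 (iv F22397)) (tt N1892 F18260) (tt N3121 (iv F23514)) (tt N2411 F18261) (tt N1833 (iv D3781)) (tt N1858 F18262) (tt N3124 D4829))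
theorem Q2413 : ∀ i, i < 2413 → P i := stepQ 2412 Q2412 (allL N2412 (tt N3118 (iv F23500)) (tt N1837 F18263) (tt N1978 F18264) (tt N3047 (iv F23217)) (tt N1893 F18265) (tt N3123 (iv F23520)) (tt N1834 F18266) (tt N3124 (iv F23525)) (tt N3125 D4830) (tt N1833 (iv D3782)))
theorem Q2414 : ∀ i, i < 2414 → P i := stepQ 2413 Q2413 (allL N2413 (tt N3119 (iv F23504)) (tt N1838 F18267) (tt N1979 F18268) (tt N3048 (iv F23222)) (tt N1894 F18269) (tt N3126 D4831) (tt N3125 (iv F23529)) (tt N2413 F18270) (tt N1834 (iv D3783)) (tt N1860 F18271))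
theorem Q2415 : ∀ i, i < 2415 → P i := stepQ 2414 Q2414 (allL N2414 (tt N2866 (iv F22225)) (tt N3120 (iv F23509)) (tt N1839 F18272) (tt N3127 D4832) (tt N1835 (iv D3784)) (tt N1895 F18273) (tt N3085 (iv F23366)) (tt N3128 D4833) (tt N3129 D4834) (tt N3130 D4835))
theorem Q2416 : ∀ i, i < 2416 → P i := stepQ 2415 Q2415 (allL N2415 (tt N2867 (iv F22228)) (tt N3121 (iv F23512)) (tt N1840 F18274) (tt N2868 (iv F22235)) (tt N3128 (iv F23538)) (tt N1836 F18275) (tt N3131 D4836) (tt N1835 (iv D3785)) (tt N2811 (iv F21936)) (tt N3132 D4837))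
theorem Q2417 : ∀ i, i < 2417 → P i := stepQ 2416 Q2416 (allL N2416 (tt N2868 (iv F22233)) (tt N3122 (iv F23515)) (tt N1841 F18276) (tt N2867 (iv F22230)) (tt N3129 (iv F23541)) (tt N1861 F18277) (tt N3087 (iv F23371)) (tt N2811 (iv F21935)) (tt N1835 (iv D3786)) (tt N3133 D4838))
theorem Q2418 : ∀ i, i < 2418 → P i := stepQ 2417 Q2417 (allL N2417 (tt N2869 (iv F22238)) (tt N3123 (iv F23518)) (tt N1842 F18278) (tt N3050 (iv F23229)) (tt N3130 (iv F23544)) (tt N1837 F18279) (tt N3088 (iv F23374)) (tt N3132 (iv F23550)) (tt N3134 D4839) (tt N1835 (iv D3787)))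
theorem Q2419 : ∀ i, i < 2419 → P i := stepQ 2418 Q2418 (allL N2418 (tt N2870 (iv F22241)) (tt N3124 (iv F23521)) (tt N1843 F18280) (tt N2904 (iv F22425)) (tt N1898 F18281) (tt N3132 (iv F23549)) (tt N2418 F18282) (tt N1837 F18283) (tt N3135 D4840) (tt N1836 (iv D3788)))
theorem Q2420 : ∀ i, i < 2420 → P i := stepQ 2419 Q2419 (allL N2419 (tt N2871 (iv F22247)) (tt N3125 (iv F23526)) (tt N1844 F18284) (tt N3051 (iv F23232)) (tt N1899 F18285) (tt N3136 D4841) (tt N1838 F18286) (tt N3135 (iv F23557)) (tt N1837 (iv D3789)) (tt N1864 F18287))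
theorem Q2421 : ∀ i, i < 2421 → P i := stepQ 2420 Q2420 (allL N2420 (tt N2872 (iv F22252)) (tt N3126 (iv F23531)) (tt N1845 F18288) (tt N3052 (iv F23237)) (tt N3137 D4842) (tt N1838 (iv D3790)) (tt N3138 D4843) (tt N2420 F18289) (tt N3091 (iv F23385)) (tt N1865 F18290))
theorem Q2422 : ∀ i, i < 2422 → P i := stepQ 2421 Q2421 (allL N2421 (tt N2873 (iv F22256)) (tt N1987 F18291) (tt N3128 (iv F23537)) (tt N2421 F18292) (tt N1840 F18293) (tt N1901 F18294) (tt N3139 D4844) (tt N1839 (iv D3791)) (tt N2814 (iv F21955)) (tt N3140 D4845))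
theorem Q2423 : ∀ i, i < 2423 → P i := stepQ 2422 Q2422 (allL N2422 (tt N2874 (iv F22262)) (tt N1988 F18295) (tt N3129 (iv F23540)) (tt N2422 F18296) (tt N1841 F18297) (tt N2422 F18298) (tt N3093 (iv F23396)) (tt N2814 (iv F21954)) (tt N1839 (iv D3792)) (tt N3141 D4846))
theorem Q2424 : ∀ i, i < 2424 → P i := stepQ 2423 Q2423 (allL N2423 (tt N2875 (iv F22268)) (tt N1989 F18299) (tt N3130 (iv F23543)) (tt N2423 F18300) (tt N1842 F18301) (tt N1902 F18302) (tt N3094 (iv F23403)) (tt N3140 (iv F23577)) (tt N3142 D4847) (tt N1839 (iv D3793)))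
theorem Q2425 : ∀ i, i < 2425 → P i := stepQ 2424 Q2424 (allL N2424 (tt N2876 (iv F22273)) (tt N1990 F18303) (tt N3131 (iv F23546)) (tt N1846 F18304) (tt N3139 (iv F23569)) (tt N2424 F18305) (tt N1840 (iv D3794)) (tt N3095 (iv F23408)) (tt N2798 F21862) (tt N3143 D4848))
theorem Q2426 : ∀ i, i < 2426 → P i := stepQ 2425 Q2425 (allL N2425 (tt N2877 (iv F22278)) (tt N1992 F18310) (tt N3132 (iv F23548)) (tt N1847 F18311) (tt N3140 (iv F23575)) (tt N1843 F18312) (tt N3143 (iv F23588)) (tt N1842 F18313) (tt N3144 D4849) (tt N1840 (iv D3796)))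
theorem Q2427 : ∀ i, i < 2427 → P i := stepQ 2426 Q2426 (allL N2426 (tt N2878 (iv F22283)) (tt N1993 F18314) (tt N3133 (iv F23551)) (tt N1848 F18315) (tt N3141 (iv F23580)) (tt N1866 F18316) (tt N3098 (iv F23423)) (tt N2815 (iv F21960)) (tt N3145 D4850) (tt N1841 (iv D3797)))
theorem Q2428 : ∀ i, i < 2428 → P i := stepQ 2427 Q2427 (allL N2427 (tt N2879 (iv F22288)) (tt N1994 F18317) (tt N3134 (iv F23553)) (tt N1849 F18318) (tt N3142 (iv F23584)) (tt N3146 D4851) (tt N3099 (iv F23426)) (tt N3144 (iv F23591)) (tt N1842 (iv D3798)) (tt N3145 (iv F23594)))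
theorem Q2429 : ∀ i, i < 2429 → P i := stepQ 2428 Q2428 (allL N2428 (tt N2880 (iv F22291)) (tt N1995 F18319) (tt N3135 (iv F23554)) (tt N1850 F18320) (tt N1906 F18321) (tt N3147 D4852) (tt N2428 F18322) (tt N1844 F18323) (tt N1843 (iv D3799)) (tt N1868 F18324))
theorem Q2430 : ∀ i, i < 2430 → P i := stepQ 2429 Q2429 (allL N2429 (tt N2881 (iv F22298)) (tt N1996 F18325) (tt N3136 (iv F23559)) (tt N1851 F18326) (tt N3148 D4853) (tt N1844 (iv D3800)) (tt N3149 D4854) (tt N3147 (iv F23600)) (tt N3146 (iv F23597)) (tt N1869 F18327))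
theorem Q2431 : ∀ i, i < 2431 → P i := stepQ 2430 Q2430 (allL N2430 (tt N2882 (iv F22302)) (tt N1997 F18328) (tt N3137 (iv F23561)) (tt N2430 F18329) (tt N1845 (iv D3801)) (tt N1908 F18330) (tt N3150 D4855) (tt N2430 F18331) (tt N3102 (iv F23440)) (tt N1870 F18332))
theorem Q2432 : ∀ i, i < 2432 → P i := stepQ 2431 Q2431 (allL N2431 (tt N2883 (iv F22308)) (tt N1998 F18333) (tt N3138 (iv F23565)) (tt N1852 F18334) (tt N3150 (iv F23611)) (tt N3149 (iv F23607)) (tt N1845 (iv D3802)) (tt N3151 D4856) (tt N3103 (iv F23444)) (tt N1871 F18335))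
theorem Q2433 : ∀ i, i < 2433 → P i := stepQ 2432 Q2432 (allL N2432 (tt N2884 (iv F22312)) (tt N2000 F18339) (tt N2853 (iv F22165)) (tt N3143 (iv F23586)) (tt N2432 F18340) (tt N2432 F18341) (tt N1847 F18342) (tt N3104 (iv F23450)) (tt N3152 D4857) (tt N1846 (iv D3804)))
theorem Q2434 : ∀ i, i < 2434 → P i := stepQ 2433 Q2433 (allL N2433 (tt N2885 (iv F22318)) (tt N2002 F18347) (tt N2886 (iv F22326)) (tt N3144 (iv F23590)) (tt N2433 F18348) (tt N3153 D4858) (tt N3152 (iv F23619)) (tt N1849 F18349) (tt N1847 (iv D3806)) (tt N2818 (iv F21977)))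
theorem Q2435 : ∀ i, i < 2435 → P i := stepQ 2434 Q2434 (allL N2434 (tt N2886 (iv F22324)) (tt N2003 F18350) (tt N2885 (iv F22320)) (tt N3145 (iv F23593)) (tt N2434 F18351) (tt N3154 D4859) (tt N3107 (iv F23460)) (tt N2818 (iv F21976)) (tt N1848 (iv D3807)) (tt N1849 F18352))
theorem Q2436 : ∀ i, i < 2436 → P i := stepQ 2435 Q2435 (allL N2435 (tt N2887 (iv F22330)) (tt N2004 F18353) (tt N3058 (iv F23258)) (tt N3146 (iv F23596)) (tt N3155 D4860) (tt N1849 (iv D3808)) (tt N3156 D4861) (tt N3153 (iv F23621)) (tt N1851 F18354) (tt N3154 (iv F23625)))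
theorem Q2437 : ∀ i, i < 2437 → P i := stepQ 2436 Q2436 (allL N2436 (tt N2888 (iv F22333)) (tt N2005 F18355) (tt N2917 (iv F22487)) (tt N3147 (iv F23599)) (tt N3157 D4862) (tt N1850 (iv D3809)) (tt N3158 D4863) (tt N1851 F18356) (tt N3153 (iv F23622)) (tt N1874 F18357))
theorem Q2438 : ∀ i, i < 2438 → P i := stepQ 2437 Q2437 (allL N2437 (tt N2889 (iv F22338)) (tt N2006 F18358) (tt N3059 (iv F23261)) (tt N3159 D4864) (tt N1851 (iv D3810)) (tt N1854 F18359) (tt N3160 D4865) (tt N3157 (iv F23633)) (tt N3155 (iv F23628)) (tt N1875 F18360))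
theorem Q2439 : ∀ i, i < 2439 → P i := stepQ 2438 Q2438 (allL N2438 (tt N2890 (iv F22342)) (tt N2007 F18361) (tt N3060 (iv F23265)) (tt N3149 (iv F23606)) (tt N3160 (iv F23642)) (tt N1852 F18362) (tt N1851 (iv D3811)) (tt N3161 D4866) (tt N3156 (iv F23630)) (tt N1876 F18363))
theorem Q2440 : ∀ i, i < 2440 → P i := stepQ 2439 Q2439 (allL N2439 (tt N2891 (iv F22346)) (tt N2008 F18364) (tt N3061 (iv F23269)) (tt N3151 (iv F23614)) (tt N2439 F18365) (tt N3161 (iv F23646)) (tt N2439 F18366) (tt N1852 (iv D3812)) (tt N3112 (iv F23476)) (tt N1877 F18367))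
theorem Q2441 : ∀ i, i < 2441 → P i := stepQ 2440 Q2440 (allL N2440 (tt N2892 (iv F22351)) (tt N2009 F18368) (tt N2928 (iv F22539)) (tt N3162 D4867) (tt N1853 (iv D3813)) (tt N3157 (iv F23632)) (tt N3163 D4868) (tt N1854 F18369) (tt N2440 F18370) (tt N1878 F18371))
theorem Q2442 : ∀ i, i < 2442 → P i := stepQ 2441 Q2441 (allL N2441 (tt N2893 (iv F22357)) (tt N2010 F18372) (tt N2929 (iv F22545)) (tt N1918 F18373) (tt N3163 (iv F23654)) (tt N2441 F18374) (tt N1853 (iv D3814)) (tt N2441 F18375) (tt N2441 F18376) (tt N1879 F18377))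
theorem Q2443 : ∀ i, i < 2443 → P i := stepQ 2442 Q2442 (allL N2442 (tt N2894 (iv F22365)) (tt N2011 F18378) (tt N3164 D4869) (tt N1854 (iv D3815)) (tt N1919 F18379) (tt N3159 (iv F23639)) (tt N2442 F18380) (tt N3162 (iv F23650)) (tt N2442 F18381) (tt N1880 F18382))
theorem Q2444 : ∀ i, i < 2444 → P i := stepQ 2443 Q2443 (allL N2443 (tt N1857 F18383) (tt N2895 (iv F22372)) (tt N2012 F18384) (tt N2896 (iv F22381)) (tt N2443 F18385) (tt N1855 (iv D3816)) (tt N2443 F18386) (tt N2822 F22000) (tt N3165 D4870) (tt N3166 D4871))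
theorem Q2445 : ∀ i, i < 2445 → P i := stepQ 2444 Q2444 (allL N2444 (tt N1858 F18387) (tt N2896 (iv F22379)) (tt N2013 F18388) (tt N2895 (iv F22374)) (tt N1920 F18389) (tt N2822 F21999) (tt N2444 F18390) (tt N1855 (iv D3817)) (tt N3117 (iv F23499)) (tt N3167 D4872))
theorem Q2446 : ∀ i, i < 2446 → P i := stepQ 2445 Q2445 (allL N2445 (tt N1859 F18391) (tt N2897 (iv F22386)) (tt N2014 F18392) (tt N3063 (iv F23280)) (tt N1921 F18393) (tt N3166 (iv F23669)) (tt N1856 F18394) (tt N3167 (iv F23675)) (tt N3168 D4873) (tt N1855 (iv D3818)))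
theorem Q2447 : ∀ i, i < 2447 → P i := stepQ 2446 Q2446 (allL N2446 (tt N1860 F18395) (tt N2898 (iv F22391)) (tt N2015 F18396) (tt N3064 (iv F23285)) (tt N1922 F18397) (tt N3169 D4874) (tt N3168 (iv F23679)) (tt N2446 F18398) (tt N1856 (iv D3819)) (tt N3119 (iv F23508)))
theorem Q2448 : ∀ i, i < 2448 → P i := stepQ 2447 Q2447 (allL N2447 (tt N3165 (iv F23662)) (tt N1861 F18403) (tt N2017 F18404) (tt N2863 (iv F22212)) (tt N2447 F18405) (tt N3122 (iv F23517)) (tt N2447 F18406) (tt N2809 F21927) (tt N1857 (iv D3821)) (tt N3170 D4875))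
theorem Q2449 : ∀ i, i < 2449 → P i := stepQ 2448 Q2448 (allL N2448 (tt N3166 (iv F23666)) (tt N1862 F18407) (tt N2018 F18408) (tt N2901 (iv F22410)) (tt N2448 F18409) (tt N1859 F18410) (tt N2448 F18411) (tt N2824 (iv F22013)) (tt N3171 D4876) (tt N1857 (iv D3822)))
theorem Q2450 : ∀ i, i < 2450 → P i := stepQ 2449 Q2449 (allL N2449 (tt N3167 (iv F23671)) (tt N1863 F18412) (tt N2019 F18413) (tt N2900 (iv F22403)) (tt N1923 F18414) (tt N2824 (iv F22011)) (tt N2449 F18415) (tt N1859 F18416) (tt N3172 D4877) (tt N1858 (iv D3823)))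
theorem Q2451 : ∀ i, i < 2451 → P i := stepQ 2450 Q2450 (allL N2450 (tt N3168 (iv F23676)) (tt N1864 F18417) (tt N2020 F18418) (tt N3065 (iv F23290)) (tt N1924 F18419) (tt N3173 D4878) (tt N1860 F18420) (tt N3172 (iv F23696)) (tt N1859 (iv D3824)) (tt N3125 (iv F23530)))
theorem Q2452 : ∀ i, i < 2452 → P i := stepQ 2451 Q2451 (allL N2451 (tt N3169 (iv F23680)) (tt N1865 F18421) (tt N2021 F18422) (tt N3066 (iv F23295)) (tt N3174 D4879) (tt N1860 (iv D3825)) (tt N3175 D4880) (tt N2451 F18423) (tt N2451 F18424) (tt N3126 (iv F23534)))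
theorem Q2453 : ∀ i, i < 2453 → P i := stepQ 2452 Q2452 (allL N2452 (tt N2904 (iv F22423)) (tt N3170 (iv F23684)) (tt N1866 F18436) (tt N2870 (iv F22243)) (tt N2452 F18437) (tt N3133 (iv F23552)) (tt N2452 F18438) (tt N2812 (iv F21942)) (tt N3176 D4881) (tt N1861 (iv D3829)))
theorem Q2454 : ∀ i, i < 2454 → P i := stepQ 2453 Q2453 (allL N2453 (tt N2905 (iv F22429)) (tt N3171 (iv F23688)) (tt N1867 F18439) (tt N2906 (iv F22437)) (tt N2453 F18440) (tt N3177 D4882) (tt N2453 F18441) (tt N2826 (iv F22023)) (tt N1862 (iv D3830)) (tt N3176 (iv F23710)))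
theorem Q2455 : ∀ i, i < 2455 → P i := stepQ 2454 Q2454 (allL N2454 (tt N2906 (iv F22435)) (tt N3172 (iv F23692)) (tt N1868 F18442) (tt N2905 (iv F22431)) (tt N1926 F18443) (tt N3178 D4883) (tt N2454 F18444) (tt N1864 F18445) (tt N1863 (iv D3831)) (tt N3135 (iv F23558)))
theorem Q2456 : ∀ i, i < 2456 → P i := stepQ 2455 Q2455 (allL N2455 (tt N2907 (iv F22441)) (tt N3173 (iv F23697)) (tt N1869 F18446) (tt N3067 (iv F23299)) (tt N3179 D4884) (tt N1864 (iv D3832)) (tt N3180 D4885) (tt N3178 (iv F23714)) (tt N3177 (iv F23712)) (tt N3136 (iv F23560)))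
theorem Q2457 : ∀ i, i < 2457 → P i := stepQ 2456 Q2456 (allL N2456 (tt N2908 (iv F22443)) (tt N3174 (iv F23699)) (tt N1870 F18447) (tt N3181 D4886) (tt N1865 (iv D3833)) (tt N1928 F18448) (tt N3182 D4887) (tt N2456 F18449) (tt N2456 F18450) (tt N3137 (iv F23564)))
theorem Q2458 : ∀ i, i < 2458 → P i := stepQ 2457 Q2457 (allL N2457 (tt N2909 (iv F22448)) (tt N3175 (iv F23704)) (tt N1871 F18451) (tt N3069 (iv F23305)) (tt N3182 (iv F23724)) (tt N3180 (iv F23718)) (tt N1865 (iv D3834)) (tt N3183 D4888) (tt N2457 F18452) (tt N3138 (iv F23566)))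
theorem Q2459 : ∀ i, i < 2459 → P i := stepQ 2458 Q2458 (allL N2458 (tt N2910 (iv F22451)) (tt N2032 F18472) (tt N3176 (iv F23707)) (tt N1872 F18473) (tt N2458 F18474) (tt N3184 D4889) (tt N2458 F18475) (tt N2816 (iv F21966)) (tt N1866 (iv D3839)) (tt N1867 F18476))
theorem Q2460 : ∀ i, i < 2460 → P i := stepQ 2459 Q2459 (allL N2459 (tt N2911 (iv F22458)) (tt N2033 F18477) (tt N3177 (iv F23711)) (tt N1873 F18478) (tt N3185 D4890) (tt N1867 (iv D3840)) (tt N3186 D4891) (tt N2828 (iv F22032)) (tt N1869 F18479) (tt N3184 (iv F23731)))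
theorem Q2461 : ∀ i, i < 2461 → P i := stepQ 2460 Q2460 (allL N2460 (tt N2912 (iv F22463)) (tt N2034 F18480) (tt N3178 (iv F23713)) (tt N1874 F18481) (tt N3187 D4892) (tt N1868 (iv D3841)) (tt N3188 D4893) (tt N1869 F18482) (tt N2828 (iv F22033)) (tt N3147 (iv F23601)))
theorem Q2462 : ∀ i, i < 2462 → P i := stepQ 2461 Q2461 (allL N2461 (tt N2913 (iv F22468)) (tt N2035 F18483) (tt N3179 (iv F23715)) (tt N3189 D4894) (tt N1869 (iv D3842)) (tt N1931 F18484) (tt N3190 D4895) (tt N3187 (iv F23741)) (tt N3185 (iv F23734)) (tt N3148 (iv F23604)))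
theorem Q2463 : ∀ i, i < 2463 → P i := stepQ 2462 Q2462 (allL N2462 (tt N2914 (iv F22471)) (tt N2036 F18485) (tt N3180 (iv F23717)) (tt N1876 F18486) (tt N3190 (iv F23749)) (tt N1871 F18487) (tt N1869 (iv D3843)) (tt N3191 D4896) (tt N3186 (iv F23738)) (tt N3149 (iv F23608)))
theorem Q2464 : ∀ i, i < 2464 → P i := stepQ 2463 Q2463 (allL N2463 (tt N2915 (iv F22475)) (tt N2037 F18488) (tt N3182 (iv F23723)) (tt N2463 F18489) (tt N1871 F18490) (tt N3192 D4897) (tt N1870 (iv D3844)) (tt N3193 D4898) (tt N2463 F18491) (tt N3150 (iv F23612)))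
theorem Q2465 : ∀ i, i < 2465 → P i := stepQ 2464 Q2464 (allL N2464 (tt N2916 (iv F22480)) (tt N2038 F18492) (tt N3183 (iv F23726)) (tt N1877 F18493) (tt N3193 (iv F23758)) (tt N3191 (iv F23752)) (tt N2464 F18494) (tt N1871 (iv D3845)) (tt N2464 F18495) (tt N3151 (iv F23616)))
theorem Q2466 : ∀ i, i < 2466 → P i := stepQ 2465 Q2465 (allL N2465 (tt N2917 (iv F22485)) (tt N2041 F18514) (tt N2888 (iv F22335)) (tt N3184 (iv F23730)) (tt N3194 D4899) (tt N1872 (iv D3851)) (tt N3195 D4900) (tt N2819 (iv F21981)) (tt N3154 (iv F23624)) (tt N1873 F18515))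
theorem Q2467 : ∀ i, i < 2467 → P i := stepQ 2466 Q2466 (allL N2466 (tt N2918 (iv F22490)) (tt N2042 F18516) (tt N2920 (iv F22503)) (tt N3196 D4901) (tt N1873 (iv D3852)) (tt N1882 F18517) (tt N3197 D4902) (tt N2831 (iv F22046)) (tt N1875 F18518) (tt N3194 (iv F23763)))
theorem Q2468 : ∀ i, i < 2468 → P i := stepQ 2467 Q2467 (allL N2467 (tt N2919 (iv F22496)) (tt N2043 F18519) (tt N2921 (iv F22509)) (tt N3186 (iv F23736)) (tt N3197 (iv F23771)) (tt N2467 F18520) (tt N1873 (iv D3853)) (tt N3198 D4903) (tt N1876 F18521) (tt N3195 (iv F23766)))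
theorem Q2469 : ∀ i, i < 2469 → P i := stepQ 2468 Q2468 (allL N2468 (tt N2920 (iv F22501)) (tt N2044 F18522) (tt N2918 (iv F22492)) (tt N3199 D4904) (tt N1874 (iv D3854)) (tt N1878 F18523) (tt N3200 D4905) (tt N1875 F18524) (tt N2831 (iv F22047)) (tt N3157 (iv F23634)))
theorem Q2470 : ∀ i, i < 2470 → P i := stepQ 2469 Q2469 (allL N2469 (tt N2921 (iv F22507)) (tt N2045 F18525) (tt N2919 (iv F22498)) (tt N3188 (iv F23743)) (tt N3200 (iv F23780)) (tt N2469 F18526) (tt N1874 (iv D3855)) (tt N3201 D4906) (tt N2832 (iv F22052)) (tt N3158 (iv F23637)))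
theorem Q2471 : ∀ i, i < 2471 → P i := stepQ 2470 Q2470 (allL N2470 (tt N2922 (iv F22512)) (tt N2046 F18527) (tt N3202 D4907) (tt N1875 (iv D3856)) (tt N3189 (iv F23746)) (tt N1880 F18528) (tt N3203 D4908) (tt N3199 (iv F23778)) (tt N3196 (iv F23769)) (tt N3159 (iv F23640)))
theorem Q2472 : ∀ i, i < 2472 → P i := stepQ 2471 Q2471 (allL N2471 (tt N2923 (iv F22515)) (tt N2047 F18529) (tt N3075 (iv F23323)) (tt N3203 (iv F23786)) (tt N1876 F18530) (tt N2471 F18531) (tt N1875 (iv D3857)) (tt N3204 D4909) (tt N3197 (iv F23772)) (tt N3160 (iv F23644)))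
theorem Q2473 : ∀ i, i < 2473 → P i := stepQ 2472 Q2472 (allL N2472 (tt N2924 (iv F22519)) (tt N2048 F18532) (tt N3076 (iv F23327)) (tt N3191 (iv F23751)) (tt N3204 (iv F23789)) (tt N1877 F18533) (tt N3201 (iv F23783)) (tt N1876 (iv D3858)) (tt N3198 (iv F23775)) (tt N3161 (iv F23647)))
theorem Q2474 : ∀ i, i < 2474 → P i := stepQ 2473 Q2473 (allL N2473 (tt N2925 (iv F22522)) (tt N2049 F18534) (tt N3205 D4910) (tt N1878 (iv D3859)) (tt N1940 F18535) (tt N3199 (iv F23777)) (tt N2106 F131286) (tt N1880 F18536) (tt N1886 F18537) (tt N3162 (iv F23652)))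
theorem Q2475 : ∀ i, i < 2475 → P i := stepQ 2474 Q2474 (allL N2474 (tt N2926 (iv F22527)) (tt N2050 F18538) (tt N2931 (iv F22558)) (tt N2106 F131289) (tt N1879 F18539) (tt N3206 D4912) (tt N1878 (iv D3860)) (tt N2474 F18540) (tt N1887 F18541) (tt N3163 (iv F23657)))
theorem Q2476 : ∀ i, i < 2476 → P i := stepQ 2475 Q2475 (allL N2475 (tt N2927 (iv F22533)) (tt N3207 D4913) (tt N1880 (iv D3861)) (tt N3077 (iv F23329)) (tt N1941 F18542) (tt N3202 (iv F23784)) (tt N2475 F18543) (tt N3205 (iv F23792)) (tt N1888 F18544) (tt N3164 (iv F23661)))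
theorem Q2477 : ∀ i, i < 2477 → P i := stepQ 2476 Q2476 (allL N2476 (tt N2928 (iv F22537)) (tt N2054 F18574) (tt N2892 (iv F22353)) (tt N3208 D4914) (tt N1881 (iv D3869)) (tt N3194 (iv F23762)) (tt N3209 D4915) (tt N2821 (iv F21991)) (tt N2476 F18575) (tt N1882 F18576))
theorem Q2478 : ∀ i, i < 2478 → P i := stepQ 2477 Q2477 (allL N2477 (tt N2929 (iv F22543)) (tt N2055 F18577) (tt N2893 (iv F22359)) (tt N2477 F18578) (tt N3209 (iv F23812)) (tt N2477 F18579) (tt N1881 (iv D3870)) (tt N2477 F20362) (tt N2477 F18580) (tt N1883 F18581))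
theorem Q2479 : ∀ i, i < 2479 → P i := stepQ 2478 Q2478 (allL N2478 (tt N2930 (iv F22551)) (tt N2056 F18582) (tt N3210 D4916) (tt N1882 (iv D3871)) (tt N2478 F18583) (tt N3196 (iv F23768)) (tt N3211 D4917) (tt N2834 (iv F22062)) (tt N1884 F18584) (tt N3208 (iv F23810)))
theorem Q2480 : ∀ i, i < 2480 → P i := stepQ 2479 Q2479 (allL N2479 (tt N2931 (iv F22556)) (tt N2057 F18585) (tt N2926 (iv F22529)) (tt N3211 (iv F23819)) (tt N1883 F18586) (tt N3212 D4918) (tt N1882 (iv D3872)) (tt N2479 F20365) (tt N1885 F18587) (tt N3209 (iv F23815)))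
theorem Q2481 : ∀ i, i < 2481 → P i := stepQ 2480 Q2480 (allL N2480 (tt N2932 (iv F22562)) (tt N3213 D4919) (tt N1884 (iv D3877)) (tt N2934 (iv F22576)) (tt N2480 F18605) (tt N1888 F18606) (tt N3214 D4920) (tt N2835 (iv F22069)) (tt N3210 (iv F23817)) (tt N2480 F18607))
theorem Q2482 : ∀ i, i < 2482 → P i := stepQ 2481 Q2481 (allL N2481 (tt N2933 (iv F22568)) (tt N2060 F18608) (tt N3214 (iv F23831)) (tt N1885 F18609) (tt N2481 F18610) (tt N2481 F18611) (tt N1884 (iv D3878)) (tt N2481 F20358) (tt N3211 (iv F23822)) (tt N2481 F18612))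
theorem Q2483 : ∀ i, i < 2483 → P i := stepQ 2482 Q2482 (allL N2482 (tt N2934 (iv F22575)) (tt N1947 (iv F131101)) (tt N1886 (iv D3880)) (tt N2932 (iv F22563)) (tt N1942 F18617) (tt N2835 (iv F22067)) (tt N1945 (iv F131014)) (tt N1888 F18618) (tt N3205 (iv F23793)) (tt N2482 F18619))
theorem Q2484 : ∀ i, i < 2484 → P i := stepQ 2483 Q2483 (allL N2483 (tt N3012 (iv F131106)) (tt N1888 (iv D3883)) (tt N1949 (iv F131013)) (tt N3078 (iv F23334)) (tt N1943 F18630) (tt N3213 (iv F23829)) (tt N2483 F18631) (tt N1947 (iv F131102)) (tt N3207 (iv F23806)) (tt N2483 F18632))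
theorem Q2485 : ∀ i, i < 2485 → P i := stepQ 2484 Q2484 (allL N2484 (tt N1891 F18756) (tt N2936 (iv F22593)) (tt N2061 F18757) (tt N2484 F18758) (tt N3028 (iv F23129)) (tt N1889 (iv D3914)) (tt N2484 F18759) (tt N3016 F23064) (tt N2484 F18760) (tt N3215 D4924))
theorem Q2486 : ∀ i, i < 2486 → P i := stepQ 2485 Q2485 (allL N2485 (tt N1892 F18761) (tt N2937 (iv F22599)) (tt N2062 F18762) (tt N2485 F18763) (tt N3117 (iv F23497)) (tt N3016 F23063) (tt N2485 F18764) (tt N1889 (iv D3915)) (tt N1920 F18765) (tt N3216 D4925))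
theorem Q2487 : ∀ i, i < 2487 → P i := stepQ 2486 Q2486 (allL N2486 (tt N1893 F18766) (tt N2938 (iv F22605)) (tt N2063 F18767) (tt N2486 F18768) (tt N3118 (iv F23502)) (tt N3215 (iv F23852)) (tt N1890 F18769) (tt N3216 (iv F23858)) (tt N3217 D4926) (tt N1889 (iv D3916)))
theorem Q2488 : ∀ i, i < 2488 → P i := stepQ 2487 Q2487 (allL N2487 (tt N1894 F18770) (tt N2939 (iv F22610)) (tt N2064 F18771) (tt N2487 F18772) (tt N3119 (iv F23506)) (tt N3218 D4927) (tt N3217 (iv F23862)) (tt N2487 F18773) (tt N1890 (iv D3917)) (tt N1922 F18774))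
theorem Q2489 : ∀ i, i < 2489 → P i := stepQ 2488 Q2488 (allL N2488 (tt N3028 (iv F23126)) (tt N1895 F18775) (tt N2065 F18776) (tt N2840 (iv F22094)) (tt N1891 (iv D3918)) (tt N3120 (iv F23511)) (tt N2488 F18777) (tt N2796 F21850) (tt N2488 F18778) (tt N3219 D4928))
theorem Q2490 : ∀ i, i < 2490 → P i := stepQ 2489 Q2489 (allL N2489 (tt N3016 (iv F23058)) (tt N1896 F18779) (tt N2066 F18780) (tt N2489 F18781) (tt N2796 (iv F21848)) (tt N1892 F18782) (tt N2791 (iv F21812)) (tt N1891 (iv D3919)) (tt N2489 F18783) (tt N3220 D4929))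
theorem Q2491 : ∀ i, i < 2491 → P i := stepQ 2490 Q2490 (allL N2490 (tt N3215 (iv F23849)) (tt N1897 F18784) (tt N2067 F18785) (tt N2490 F18786) (tt N3219 (iv F23872)) (tt N1893 F18787) (tt N2490 F18788) (tt N3220 (iv F23878)) (tt N3221 D4930) (tt N1891 (iv D3920)))
theorem Q2492 : ∀ i, i < 2492 → P i := stepQ 2491 Q2491 (allL N2491 (tt N3216 (iv F23854)) (tt N1898 F18789) (tt N2068 F18790) (tt N2491 F18791) (tt N3124 (iv F23523)) (tt N3220 (iv F23877)) (tt N2491 F18792) (tt N1893 F18793) (tt N3222 D4931) (tt N1892 (iv D3921)))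
theorem Q2493 : ∀ i, i < 2493 → P i := stepQ 2492 Q2492 (allL N2492 (tt N3217 (iv F23859)) (tt N1899 F18794) (tt N2069 F18795) (tt N2492 F18796) (tt N3125 (iv F23528)) (tt N3223 D4932) (tt N1894 F18797) (tt N3222 (iv F23888)) (tt N1893 (iv D3922)) (tt N1924 F18798))
theorem Q2494 : ∀ i, i < 2494 → P i := stepQ 2493 Q2493 (allL N2493 (tt N3218 (iv F23864)) (tt N1900 F18799) (tt N2070 F18800) (tt N2493 F18801) (tt N3224 D4933) (tt N1894 (iv D3923)) (tt N3225 D4934) (tt N2493 F18802) (tt N2493 F18803) (tt N1925 F18804))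
theorem Q2495 : ∀ i, i < 2495 → P i := stepQ 2494 Q2494 (allL N2494 (tt N2946 (iv F22645)) (tt N2840 (iv F22092)) (tt N2494 F18805) (tt N1895 (iv D3924)) (tt N2494 F18806) (tt N3127 (iv F23536)) (tt N2494 F18807) (tt N2837 F22082) (tt N2494 F18808) (tt N3226 D4935))
theorem Q2496 : ∀ i, i < 2496 → P i := stepQ 2495 Q2495 (allL N2495 (tt N2947 (iv F22650)) (tt N2796 (iv F21845)) (tt N1901 F18809) (tt N2837 (iv F22079)) (tt N1896 F18810) (tt N3128 (iv F23539)) (tt N2795 F21843) (tt N1895 (iv D3925)) (tt N2495 F18811) (tt N3227 D4936))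
theorem Q2497 : ∀ i, i < 2497 → P i := stepQ 2496 Q2496 (allL N2496 (tt N2948 (iv F22654)) (tt N3219 (iv F23870)) (tt N1902 F18812) (tt N3226 (iv F23905)) (tt N1897 F18813) (tt N3130 (iv F23545)) (tt N2496 F18814) (tt N3227 (iv F23910)) (tt N3228 D4937) (tt N1895 (iv D3926)))
theorem Q2498 : ∀ i, i < 2498 → P i := stepQ 2497 Q2497 (allL N2497 (tt N2949 (iv F22658)) (tt N2791 (iv F21808)) (tt N1903 F18815) (tt N2497 F18816) (tt N2795 (iv F21839)) (tt N2497 F18817) (tt N1896 (iv D3927)) (tt N2497 F18818) (tt N2497 F18819) (tt N3229 D4938))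
theorem Q2499 : ∀ i, i < 2499 → P i := stepQ 2498 Q2498 (allL N2498 (tt N2950 (iv F22664)) (tt N3220 (iv F23874)) (tt N1904 F18820) (tt N2498 F18821) (tt N3227 (iv F23909)) (tt N1898 F18822) (tt N3229 (iv F23918)) (tt N1897 F18823) (tt N3230 D4939) (tt N1896 (iv D3928)))
theorem Q2500 : ∀ i, i < 2500 → P i := stepQ 2499 Q2499 (allL N2499 (tt N2951 (iv F22669)) (tt N3221 (iv F23879)) (tt N1905 F18824) (tt N2499 F18825) (tt N3228 (iv F23912)) (tt N3231 D4940) (tt N2499 F18826) (tt N3230 (iv F23922)) (tt N1897 (iv D3929)) (tt N2499 F18827))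
theorem Q2501 : ∀ i, i < 2501 → P i := stepQ 2500 Q2500 (allL N2500 (tt N2952 (iv F22674)) (tt N3222 (iv F23884)) (tt N1906 F18828) (tt N2500 F18829) (tt N3135 (iv F23555)) (tt N3232 D4941) (tt N2500 F18830) (tt N1899 F18831) (tt N1898 (iv D3930)) (tt N1926 F18832))
theorem Q2502 : ∀ i, i < 2502 → P i := stepQ 2501 Q2501 (allL N2501 (tt N2953 (iv F22680)) (tt N3223 (iv F23890)) (tt N1907 F18833) (tt N2501 F18834) (tt N3233 D4942) (tt N1899 (iv D3931)) (tt N3234 D4943) (tt N3232 (iv F23930)) (tt N3231 (iv F23926)) (tt N1927 F18835))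
theorem Q2503 : ∀ i, i < 2503 → P i := stepQ 2502 Q2502 (allL N2502 (tt N2954 (iv F22684)) (tt N3224 (iv F23894)) (tt N1908 F18836) (tt N3235 D4944) (tt N1900 (iv D3932)) (tt N3137 (iv F23562)) (tt N3236 D4945) (tt N2502 F18837) (tt N2502 F18838) (tt N1928 F18839))
theorem Q2504 : ∀ i, i < 2504 → P i := stepQ 2503 Q2503 (allL N2503 (tt N2955 (iv F22689)) (tt N3225 (iv F23899)) (tt N1909 F18840) (tt N2503 F18841) (tt N3236 (iv F23944)) (tt N3234 (iv F23936)) (tt N1900 (iv D3933)) (tt N3237 D4946) (tt N2503 F18842) (tt N1929 F18843))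
theorem Q2505 : ∀ i, i < 2505 → P i := stepQ 2504 Q2504 (allL N2504 (tt N2956 (iv F22694)) (tt N2081 F18844) (tt N2795 (iv F21837)) (tt N2504 F18845) (tt N1903 F18846) (tt N2782 (iv F21752)) (tt N1901 (iv D3934)) (tt N2504 F18847) (tt N2504 F18848) (tt N3238 D4947))
theorem Q2506 : ∀ i, i < 2506 → P i := stepQ 2505 Q2505 (allL N2505 (tt N2957 (iv F22700)) (tt N2082 F18849) (tt N3227 (iv F23908)) (tt N2505 F18850) (tt N1904 F18851) (tt N3140 (iv F23576)) (tt N3238 (iv F23955)) (tt N1902 F18852) (tt N3239 D4948) (tt N1901 (iv D3935)))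
theorem Q2507 : ∀ i, i < 2507 → P i := stepQ 2506 Q2506 (allL N2506 (tt N2958 (iv F22705)) (tt N2083 F18853) (tt N3228 (iv F23911)) (tt N2506 F18854) (tt N1905 F18855) (tt N3240 D4949) (tt N2506 F18856) (tt N3239 (iv F23960)) (tt N1902 (iv D3936)) (tt N2506 F18857))
theorem Q2508 : ∀ i, i < 2508 → P i := stepQ 2507 Q2507 (allL N2507 (tt N2959 (iv F22711)) (tt N2084 F18858) (tt N3229 (iv F23915)) (tt N1910 F18859) (tt N3238 (iv F23954)) (tt N2507 F18860) (tt N1904 F18861) (tt N2507 F18862) (tt N3241 D4950) (tt N1903 (iv D3937)))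
theorem Q2509 : ∀ i, i < 2509 → P i := stepQ 2508 Q2508 (allL N2508 (tt N2960 (iv F22717)) (tt N2085 F18863) (tt N3230 (iv F23920)) (tt N1911 F18864) (tt N3239 (iv F23959)) (tt N3242 D4951) (tt N3241 (iv F23967)) (tt N1905 F18865) (tt N1904 (iv D3938)) (tt N2508 F18866))
theorem Q2510 : ∀ i, i < 2510 → P i := stepQ 2509 Q2509 (allL N2509 (tt N2961 (iv F22722)) (tt N2086 F18867) (tt N3231 (iv F23924)) (tt N1912 F18868) (tt N3243 D4952) (tt N1905 (iv D3939)) (tt N3244 D4953) (tt N3242 (iv F23972)) (tt N1907 F18869) (tt N2509 F18870))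
theorem Q2511 : ∀ i, i < 2511 → P i := stepQ 2510 Q2510 (allL N2510 (tt N2962 (iv F22727)) (tt N2087 F18871) (tt N3232 (iv F23928)) (tt N1913 F18872) (tt N3245 D4954) (tt N1906 (iv D3940)) (tt N3246 D4955) (tt N1907 F18873) (tt N3242 (iv F23973)) (tt N1930 F18874))
theorem Q2512 : ∀ i, i < 2512 → P i := stepQ 2511 Q2511 (allL N2511 (tt N2963 (iv F22732)) (tt N2088 F18875) (tt N3233 (iv F23932)) (tt N3247 D4956) (tt N1907 (iv D3941)) (tt N3148 (iv F23603)) (tt N3248 D4957) (tt N3245 (iv F23984)) (tt N3243 (iv F23976)) (tt N1931 F18876))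
theorem Q2513 : ∀ i, i < 2513 → P i := stepQ 2512 Q2512 (allL N2512 (tt N2964 (iv F22735)) (tt N2089 F18877) (tt N3234 (iv F23934)) (tt N1915 F18878) (tt N3248 (iv F23994)) (tt N1909 F18879) (tt N1907 (iv D3942)) (tt N3249 D4958) (tt N3244 (iv F23981)) (tt N1932 F18880))
theorem Q2514 : ∀ i, i < 2514 → P i := stepQ 2513 Q2513 (allL N2513 (tt N2965 (iv F22740)) (tt N2090 F18881) (tt N3236 (iv F23943)) (tt N2513 F18882) (tt N1909 F18883) (tt N3250 D4959) (tt N1908 (iv D3943)) (tt N3251 D4960) (tt N2513 F18884) (tt N1933 F18885))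
theorem Q2515 : ∀ i, i < 2515 → P i := stepQ 2514 Q2514 (allL N2514 (tt N2966 (iv F22746)) (tt N2091 F18886) (tt N3237 (iv F23947)) (tt N1916 F18887) (tt N3251 (iv F24005)) (tt N3249 (iv F23998)) (tt N2514 F18888) (tt N1909 (iv D3944)) (tt N2514 F18889) (tt N1934 F18890))
theorem Q2516 : ∀ i, i < 2516 → P i := stepQ 2515 Q2515 (allL N2515 (tt N2967 (iv F22752)) (tt N2092 F18891) (tt N2515 F18892) (tt N3241 (iv F23966)) (tt N2515 F18893) (tt N3252 D4961) (tt N1911 F18894) (tt N2515 F18895) (tt N1910 (iv D3945)) (tt N2515 F18896))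
theorem Q2517 : ∀ i, i < 2517 → P i := stepQ 2516 Q2516 (allL N2516 (tt N2968 (iv F22759)) (tt N2093 F18897) (tt N2516 F18898) (tt N3242 (iv F23971)) (tt N3253 D4962) (tt N1911 (iv D3946)) (tt N3254 D4963) (tt N1912 F18899) (tt N1913 F18900) (tt N2516 F18901))
theorem Q2518 : ∀ i, i < 2518 → P i := stepQ 2517 Q2517 (allL N2517 (tt N2969 (iv F22765)) (tt N2094 F18902) (tt N2517 F18903) (tt N3255 D4964) (tt N1912 (iv D3947)) (tt N2517 F18904) (tt N3256 D4965) (tt N3253 (iv F24017)) (tt N1914 F18905) (tt N2517 F18906))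
theorem Q2519 : ∀ i, i < 2519 → P i := stepQ 2518 Q2518 (allL N2518 (tt N2970 (iv F22771)) (tt N2095 F18907) (tt N2518 F18908) (tt N3244 (iv F23979)) (tt N3256 (iv F24030)) (tt N2518 F18909) (tt N1912 (iv D3948)) (tt N3257 D4966) (tt N1915 F18910) (tt N2518 F18911))
theorem Q2520 : ∀ i, i < 2520 → P i := stepQ 2519 Q2519 (allL N2519 (tt N2971 (iv F22777)) (tt N2096 F18912) (tt N2519 F18913) (tt N3258 D4967) (tt N1913 (iv D3949)) (tt N1917 F18914) (tt N2129 F131975) (tt N1914 F18915) (tt N3253 (iv F24018)) (tt N1935 F18916))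
theorem Q2521 : ∀ i, i < 2521 → P i := stepQ 2520 Q2520 (allL N2520 (tt N2972 (iv F22783)) (tt N2097 F18917) (tt N2520 F18918) (tt N3246 (iv F23987)) (tt N2129 F131974) (tt N2520 F18919) (tt N1913 (iv D3950)) (tt N3259 D4969) (tt N3254 (iv F24022)) (tt N1936 F18920))
theorem Q2522 : ∀ i, i < 2522 → P i := stepQ 2521 Q2521 (allL N2521 (tt N2973 (iv F22788)) (tt N2098 F18921) (tt N3260 D4970) (tt N1914 (iv D3951)) (tt N3247 (iv F23991)) (tt N1919 F18922) (tt N3261 D4971) (tt N3258 (iv F24040)) (tt N3255 (iv F24026)) (tt N1937 F18923))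
theorem Q2523 : ∀ i, i < 2523 → P i := stepQ 2522 Q2522 (allL N2522 (tt N2974 (iv F22792)) (tt N2099 F18924) (tt N2522 F18925) (tt N3261 (iv F24055)) (tt N1915 F18926) (tt N2522 F18927) (tt N1914 (iv D3952)) (tt N3262 D4972) (tt N3256 (iv F24031)) (tt N1938 F18928))
theorem Q2524 : ∀ i, i < 2524 → P i := stepQ 2523 Q2523 (allL N2523 (tt N2975 (iv F22798)) (tt N2100 F18929) (tt N2523 F18930) (tt N3249 (iv F23997)) (tt N3262 (iv F24060)) (tt N1916 F18931) (tt N3259 (iv F24049)) (tt N1915 (iv D3953)) (tt N3257 (iv F24036)) (tt N1939 F18932))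
theorem Q2525 : ∀ i, i < 2525 → P i := stepQ 2524 Q2524 (allL N2524 (tt N2976 (iv F22803)) (tt N2080 F131311) (tt N3225 F131312) (tt N1917 (iv D3954)) (tt N3162 (iv F23649)) (tt N3258 (iv F24039)) (tt N2070 F131313) (tt N1919 F18934) (tt N2524 F18935) (tt N1940 F18936))
theorem Q2526 : ∀ i, i < 2526 → P i := stepQ 2525 Q2525 (allL N2525 (tt N2977 (iv F22815)) (tt N3237 F131454) (tt N1919 (iv D3956)) (tt N2525 F18943) (tt N3164 (iv F23658)) (tt N3260 (iv F24052)) (tt N2525 F18944) (tt N3225 F131455) (tt N2525 F18945) (tt N1941 F18946))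
theorem Q2527 : ∀ i, i < 2527 → P i := stepQ 2526 Q2526 (allL N2526 (tt N1923 F18947) (tt N2978 (iv F22821)) (tt N2101 F18948) (tt N2526 F18949) (tt N3167 (iv F23673)) (tt N2526 F18950) (tt N2526 F18951) (tt N1921 F18952) (tt N3263 D4977) (tt N1920 (iv D3957)))
theorem Q2528 : ∀ i, i < 2528 → P i := stepQ 2527 Q2527 (allL N2527 (tt N1924 F18953) (tt N2979 (iv F22828)) (tt N2102 F18954) (tt N2527 F18955) (tt N3168 (iv F23678)) (tt N3264 D4978) (tt N1922 F18956) (tt N3263 (iv F24086)) (tt N1921 (iv D3958)) (tt N3217 (iv F23863)))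
theorem Q2529 : ∀ i, i < 2529 → P i := stepQ 2528 Q2528 (allL N2528 (tt N1925 F18957) (tt N2980 (iv F22833)) (tt N2103 F18958) (tt N2528 F18959) (tt N3265 D4979) (tt N1922 (iv D3959)) (tt N3003 (iv F131097)) (tt N2528 F18960) (tt N1944 F18961) (tt N3218 (iv F23869)))
theorem Q2530 : ∀ i, i < 2530 → P i := stepQ 2529 Q2529 (allL N2529 (tt N3263 (iv F24082)) (tt N1926 F18962) (tt N2104 F18963) (tt N2529 F18964) (tt N3172 (iv F23694)) (tt N3266 D4981) (tt N2529 F18965) (tt N1924 F18966) (tt N1923 (iv D3960)) (tt N3222 (iv F23889)))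
theorem Q2531 : ∀ i, i < 2531 → P i := stepQ 2530 Q2530 (allL N2530 (tt N3264 (iv F24087)) (tt N1927 F18967) (tt N2105 F18968) (tt N2530 F18969) (tt N3267 D4982) (tt N1924 (iv D3961)) (tt N3268 D4983) (tt N3266 (iv F24102)) (tt N2530 F18970) (tt N3223 (iv F23893)))
theorem Q2532 : ∀ i, i < 2532 → P i := stepQ 2531 Q2531 (allL N2531 (tt N3265 (iv F24091)) (tt N1928 F18971) (tt N2106 F18972) (tt N3269 D4984) (tt N1925 (iv D3962)) (tt N3174 (iv F23701)) (tt N3205 F131316) (tt N2531 F18973) (tt N1945 F18974) (tt N3224 (iv F23898)))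
theorem Q2533 : ∀ i, i < 2533 → P i := stepQ 2532 Q2532 (allL N2532 (tt N3003 (iv F131095)) (tt N1929 F18975) (tt N1940 (iv F131002)) (tt N2532 F18977) (tt N3205 (iv F131072)) (tt N3268 (iv F24110)) (tt N1925 (iv D3963)) (tt N1941 (iv F131099)) (tt N1942 F130832) (tt N3225 (iv F23903)))
theorem Q2534 : ∀ i, i < 2534 → P i := stepQ 2533 Q2533 (allL N2533 (tt N2985 (iv F22855)) (tt N3266 (iv F24099)) (tt N1930 F18979) (tt N2533 F18980) (tt N3270 D4987) (tt N1926 (iv D3964)) (tt N3271 D4988) (tt N1927 F18981) (tt N2533 F18982) (tt N3232 (iv F23931)))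
theorem Q2535 : ∀ i, i < 2535 → P i := stepQ 2534 Q2534 (allL N2534 (tt N2986 (iv F22860)) (tt N3267 (iv F24104)) (tt N1931 F18983) (tt N3272 D4989) (tt N1927 (iv D3965)) (tt N3179 (iv F23716)) (tt N3273 D4990) (tt N3270 (iv F24126)) (tt N2534 F18984) (tt N3233 (iv F23933)))
theorem Q2536 : ∀ i, i < 2536 → P i := stepQ 2535 Q2535 (allL N2535 (tt N2987 (iv F22863)) (tt N3268 (iv F24107)) (tt N1932 F18985) (tt N2535 F18986) (tt N3273 (iv F24135)) (tt N1929 F18987) (tt N1927 (iv D3966)) (tt N3274 D4991) (tt N2535 F18988) (tt N3234 (iv F23937)))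
theorem Q2537 : ∀ i, i < 2537 → P i := stepQ 2536 Q2536 (allL N2536 (tt N2988 (iv F22868)) (tt N3269 (iv F24112)) (tt N2536 F18989) (tt N1928 (iv D3967)) (tt N2536 F18990) (tt N3181 (iv F23720)) (tt N3275 D4992) (tt N2536 F18991) (tt N1946 F18992) (tt N3235 (iv F23942)))
theorem Q2538 : ∀ i, i < 2538 → P i := stepQ 2537 Q2537 (allL N2537 (tt N2989 (iv F22873)) (tt N3205 F131428) (tt N1933 F18993) (tt N3275 (iv F24142)) (tt N1929 F18994) (tt N3276 D4993) (tt N1928 (iv D3968)) (tt N3207 F131429) (tt N1947 F18995) (tt N3236 (iv F23946)))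
theorem Q2539 : ∀ i, i < 2539 → P i := stepQ 2538 Q2538 (allL N2538 (tt N2990 (iv F22877)) (tt N1941 (iv F131098)) (tt N1934 F18996) (tt N2538 F18997) (tt N3207 (iv F131075)) (tt N3274 (iv F24139)) (tt N2538 F18998) (tt N1929 (iv D3969)) (tt N1943 F130833) (tt N3237 (iv F23951)))
theorem Q2540 : ∀ i, i < 2540 → P i := stepQ 2539 Q2539 (allL N2539 (tt N2991 (iv F22882)) (tt N2110 F19000) (tt N3270 (iv F24125)) (tt N3277 D4995) (tt N1930 (iv D3970)) (tt N3187 (iv F23740)) (tt N3278 D4996) (tt N1931 F19001) (tt N2539 F19002) (tt N3245 (iv F23985)))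
theorem Q2541 : ∀ i, i < 2541 → P i := stepQ 2540 Q2540 (allL N2540 (tt N2992 (iv F22886)) (tt N2111 F19003) (tt N3271 (iv F24128)) (tt N1936 F19004) (tt N3278 (iv F24155)) (tt N2540 F19005) (tt N1930 (iv D3971)) (tt N3279 D4997) (tt N2540 F19006) (tt N3246 (iv F23989)))
theorem Q2542 : ∀ i, i < 2542 → P i := stepQ 2541 Q2541 (allL N2541 (tt N2993 (iv F22891)) (tt N2112 F19007) (tt N3280 D4998) (tt N1931 (iv D3972)) (tt N1937 F19008) (tt N3189 (iv F23747)) (tt N3281 D4999) (tt N3277 (iv F24152)) (tt N2541 F19009) (tt N3247 (iv F23992)))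
theorem Q2543 : ∀ i, i < 2543 → P i := stepQ 2542 Q2542 (allL N2542 (tt N2994 (iv F22895)) (tt N2113 F19010) (tt N3273 (iv F24134)) (tt N3281 (iv F24165)) (tt N1932 F19011) (tt N3282 D5000) (tt N1931 (iv D3973)) (tt N3283 D5001) (tt N2542 F19012) (tt N3248 (iv F23995)))
theorem Q2544 : ∀ i, i < 2544 → P i := stepQ 2543 Q2543 (allL N2543 (tt N2995 (iv F22899)) (tt N2114 F19013) (tt N3274 (iv F24137)) (tt N1939 F19014) (tt N3283 (iv F24171)) (tt N1934 F19015) (tt N3279 (iv F24160)) (tt N1932 (iv D3974)) (tt N2543 F19016) (tt N3249 (iv F23999)))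
theorem Q2545 : ∀ i, i < 2545 → P i := stepQ 2544 Q2544 (allL N2544 (tt N2996 (iv F22904)) (tt N2115 F19017) (tt N3276 (iv F24145)) (tt N2544 F19018) (tt N3282 (iv F24169)) (tt N1933 (iv D3975)) (tt N3192 (iv F23755)) (tt N3284 D5002) (tt N3285 D5003) (tt N3250 (iv F24002)))
theorem Q2546 : ∀ i, i < 2546 → P i := stepQ 2545 Q2545 (allL N2545 (tt N2997 (iv F22907)) (tt N2051 F131293) (tt N3207 F131294) (tt N2545 F19020) (tt N1934 F19021) (tt N3284 (iv F24175)) (tt N2545 F19022) (tt N1933 (iv D3976)) (tt N1949 F19023) (tt N3251 (iv F24008)))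
theorem Q2547 : ∀ i, i < 2547 → P i := stepQ 2546 Q2546 (allL N2546 (tt N2998 (iv F22913)) (tt N2109 F131317) (tt N3268 F131318) (tt N1935 (iv D3977)) (tt N3277 (iv F24151)) (tt N1940 F19025) (tt N2105 F131319) (tt N1937 F19026) (tt N2546 F19027) (tt N3258 (iv F24041)))
theorem Q2548 : ∀ i, i < 2548 → P i := stepQ 2547 Q2547 (allL N2547 (tt N2999 (iv F22923)) (tt N2116 F19032) (tt N2547 F19033) (tt N3279 (iv F24158)) (tt N2151 F131742) (tt N2547 F19034) (tt N1939 F19035) (tt N1936 (iv D3979)) (tt N2547 F19036) (tt N3259 (iv F24050)))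
theorem Q2549 : ∀ i, i < 2549 → P i := stepQ 2548 Q2548 (allL N2548 (tt N3000 (iv F22929)) (tt N3274 F131462) (tt N1937 (iv D3980)) (tt N2548 F19037) (tt N3280 (iv F24162)) (tt N1941 F19038) (tt N3286 D5009) (tt N3268 F131463) (tt N2548 F19039) (tt N3260 (iv F24053)))
theorem Q2550 : ∀ i, i < 2550 → P i := stepQ 2549 Q2549 (allL N2549 (tt N3001 (iv F22933)) (tt N2117 F19040) (tt N3286 (iv F24199)) (tt N1938 F19041) (tt N3281 (iv F24166)) (tt N2549 F19042) (tt N1937 (iv D3981)) (tt N3287 D5010) (tt N2549 F19043) (tt N3261 (iv F24057)))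
theorem Q2551 : ∀ i, i < 2551 → P i := stepQ 2550 Q2550 (allL N2550 (tt N3002 (iv F22938)) (tt N2118 F19044) (tt N2550 F19045) (tt N3287 (iv F24204)) (tt N1939 F19046) (tt N2550 F19047) (tt N2151 F131743) (tt N1938 (iv D3982)) (tt N2550 F19048) (tt N3262 (iv F24062)))
theorem Q2552 : ∀ i, i < 2552 → P i := stepQ 2551 Q2551 (allL N2551 (tt N1945 F19120) (tt N3007 (iv F23000)) (tt N2119 F19121) (tt N3214 (iv F131110)) (tt N1944 (iv D3998)) (tt N2551 F19122) (tt N2934 (iv F131100)) (tt N2551 F19123) (tt N3265 (iv F24094)) (tt N2551 F19124))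
theorem Q2553 : ∀ i, i < 2553 → P i := stepQ 2552 Q2552 (allL N2552 (tt N3214 (iv F131109)) (tt N1946 F19130) (tt N2933 (iv F131155)) (tt N1945 (iv D4000)) (tt N2552 F19131) (tt N2552 F19132) (tt N2932 (iv F131104)) (tt N2552 F19133) (tt N3269 (iv F24115)) (tt N2552 F19134))
theorem Q2554 : ∀ i, i < 2554 → P i := stepQ 2553 Q2553 (allL N2553 (tt N3010 (iv F23026)) (tt N2932 (iv F131103)) (tt N2553 F19145) (tt N1947 F19146) (tt N2553 F19147) (tt N2935 (iv F131153)) (tt N1946 (iv D4003)) (tt N3078 (iv F131073)) (tt N3275 (iv F24144)) (tt N2553 F19148))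
theorem Q2555 : ∀ i, i < 2555 → P i := stepQ 2554 Q2554 (allL N2554 (tt N3011 (iv F23031)) (tt N2835 (iv F131105)) (tt N1948 F19149) (tt N2935 (iv F131152)) (tt N2554 F19150) (tt N1947 (iv D4004)) (tt N2554 F19151) (tt N3213 (iv F131074)) (tt N3288 D5031) (tt N2554 F19152))
theorem Q2556 : ∀ i, i < 2556 → P i := stepQ 2555 Q2555 (allL N2555 (tt N3013 (iv F23041)) (tt N2059 F131291) (tt N3213 F131292) (tt N2555 F19158) (tt N2555 F19159) (tt N1949 F19160) (tt N3289 D5032) (tt N1948 (iv D4006)) (tt N3290 D5033) (tt N2555 F19161))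
theorem Q2557 : ∀ i, i < 2557 → P i := stepQ 2556 Q2556 (allL N2556 (tt N3014 (iv F23047)) (tt N2120 F19162) (tt N3288 (iv F24302)) (tt N2556 F19163) (tt N2556 F19164) (tt N3285 (iv F24178)) (tt N2556 F19165) (tt N3290 (iv F24314)) (tt N1948 (iv D4007)) (tt N3291 D5034))
theorem Q2558 : ∀ i, i < 2558 → P i := stepQ 2557 Q2557 (allL N2557 (tt N1951 F19166) (tt N2557 F19167) (tt N3079 (iv F23339)) (tt N2557 F19168) (tt N2557 F19169) (tt N3292 D5035) (tt N1950 (iv D4008)) (tt N3293 D5036) (tt N2557 F19170) (tt N3294 D5037))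
theorem Q2559 : ∀ i, i < 2559 → P i := stepQ 2558 Q2558 (allL N2558 (tt N1952 F19171) (tt N2558 F19172) (tt N3080 (iv F23343)) (tt N2558 F19173) (tt N2558 F19174) (tt N1975 F19175) (tt N3294 (iv F24334)) (tt N2558 F19176) (tt N3295 D5038) (tt N1950 (iv D4009)))
theorem Q2560 : ∀ i, i < 2560 → P i := stepQ 2559 Q2559 (allL N2559 (tt N3292 (iv F24320)) (tt N1953 F19177) (tt N3081 (iv F23348)) (tt N2559 F19178) (tt N3096 (iv F23412)) (tt N1951 (iv D4010)) (tt N1976 F19179) (tt N3093 (iv F23397)) (tt N3092 F23392) (tt N3296 D5039))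
theorem Q2561 : ∀ i, i < 2561 → P i := stepQ 2560 Q2560 (allL N2560 (tt N3293 (iv F24324)) (tt N1954 F19180) (tt N3082 (iv F23351)) (tt N2560 F19181) (tt N2560 F19182) (tt N3093 F23398) (tt N2560 F19183) (tt N1951 (iv D4011)) (tt N2560 F19184) (tt N3297 D5040))
theorem Q2562 : ∀ i, i < 2562 → P i := stepQ 2561 Q2561 (allL N2561 (tt N3294 (iv F24330)) (tt N1955 F19185) (tt N3083 (iv F23356)) (tt N2561 F19186) (tt N2561 F19187) (tt N3296 (iv F24343)) (tt N1952 F19188) (tt N3297 (iv F24349)) (tt N3298 D5041) (tt N1951 (iv D4012)))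
theorem Q2563 : ∀ i, i < 2563 → P i := stepQ 2562 Q2562 (allL N2562 (tt N3295 (iv F24335)) (tt N1956 F19189) (tt N3084 (iv F23360)) (tt N2562 F19190) (tt N2562 F19191) (tt N3299 D5042) (tt N3298 (iv F24353)) (tt N2562 F19192) (tt N1952 (iv D4013)) (tt N2562 F19193))
theorem Q2564 : ∀ i, i < 2564 → P i := stepQ 2563 Q2563 (allL N2563 (tt N2563 F19194) (tt N3096 (iv F23410)) (tt N1957 F19195) (tt N1965 (iv F19198)) (tt N1953 (iv D4014)) (tt N2563 F19196) (tt N1980 F19197) (tt N1959 F19199) (tt N1958 F19200) (tt N3300 D5043))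
theorem Q2565 : ∀ i, i < 2565 → P i := stepQ 2564 Q2564 (allL N2564 (tt N2564 F19201) (tt N3093 (iv F23393)) (tt N1958 F19202) (tt N2564 F19203) (tt N1959 F19204) (tt N1954 F19205) (tt N1988 (iv F19206)) (tt N1953 (iv D4015)) (tt N1957 (iv F19207)) (tt N3301 D5044))
theorem Q2566 : ∀ i, i < 2566 → P i := stepQ 2565 Q2565 (allL N2565 (tt N2565 F19208) (tt N3092 (iv F23387)) (tt N1959 F19209) (tt N2565 F19210) (tt N1958 F19211) (tt N2565 F19212) (tt N1982 F19213) (tt N1957 F19214) (tt N1953 (iv D4016)) (tt N3302 D5045))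
theorem Q2567 : ∀ i, i < 2567 → P i := stepQ 2566 Q2566 (allL N2566 (tt N2566 F19215) (tt N3296 (iv F24341)) (tt N1960 F19216) (tt N2566 F19217) (tt N3300 (iv F24363)) (tt N1955 F19218) (tt N1983 F19219) (tt N3301 (iv F24373)) (tt N3303 D5046) (tt N1953 (iv D4017)))
theorem Q2568 : ∀ i, i < 2568 → P i := stepQ 2567 Q2567 (allL N2567 (tt N2567 F19220) (tt N3297 (iv F24345)) (tt N1961 F19221) (tt N2567 F19222) (tt N2567 F19223) (tt N3301 (iv F24371)) (tt N2567 F19224) (tt N1955 F19225) (tt N3304 D5047) (tt N1954 (iv D4018)))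
theorem Q2569 : ∀ i, i < 2569 → P i := stepQ 2568 Q2568 (allL N2568 (tt N2568 F19226) (tt N3298 (iv F24350)) (tt N1962 F19227) (tt N2568 F19228) (tt N2568 F19229) (tt N3305 D5048) (tt N1956 F19230) (tt N3304 (iv F24390)) (tt N1955 (iv D4019)) (tt N2568 F19231))
theorem Q2570 : ∀ i, i < 2570 → P i := stepQ 2569 Q2569 (allL N2569 (tt N2569 F19232) (tt N3299 (iv F24355)) (tt N1963 F19233) (tt N2569 F19234) (tt N3306 D5049) (tt N1956 (iv D4020)) (tt N3307 D5050) (tt N2569 F19235) (tt N1986 F19236) (tt N2569 F19237))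
theorem Q2571 : ∀ i, i < 2571 → P i := stepQ 2570 Q2570 (allL N2570 (tt N2570 F19238) (tt N3094 (iv F23399)) (tt N3300 (iv F24361)) (tt N2570 F19239) (tt N1960 F19240) (tt N2570 F19241) (tt N1989 F19242) (tt N3302 (iv F24380)) (tt N3308 D5051) (tt N1957 (iv D4021)))
theorem Q2572 : ∀ i, i < 2572 → P i := stepQ 2571 Q2571 (allL N2571 (tt N2571 F19243) (tt N3095 (iv F23404)) (tt N1988 F19244) (tt N1964 F19245) (tt N1982 F19246) (tt N2571 F19247) (tt N1958 (iv D4022)) (tt N1990 F19248) (tt N1980 F19249) (tt N3309 D5052))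
theorem Q2573 : ∀ i, i < 2573 → P i := stepQ 2572 Q2572 (allL N2572 (tt N2572 F19250) (tt N3097 (iv F23416)) (tt N3301 (iv F24368)) (tt N1966 F19251) (tt N3302 (iv F24377)) (tt N1961 F19252) (tt N3309 (iv F24416)) (tt N1960 F19253) (tt N3310 D5053) (tt N1958 (iv D4023)))
theorem Q2574 : ∀ i, i < 2574 → P i := stepQ 2573 Q2573 (allL N2573 (tt N2573 F19254) (tt N3098 (iv F23420)) (tt N3302 (iv F24375)) (tt N1967 F19255) (tt N3301 (iv F24370)) (tt N2573 F19256) (tt N1993 F19257) (tt N3300 (iv F24366)) (tt N3311 D5054) (tt N1959 (iv D4024)))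
theorem Q2575 : ∀ i, i < 2575 → P i := stepQ 2574 Q2574 (allL N2574 (tt N2574 F19258) (tt N3099 (iv F23424)) (tt N3303 (iv F24382)) (tt N1968 F19259) (tt N3308 (iv F24409)) (tt N3312 D5055) (tt N1994 F19260) (tt N3310 (iv F24420)) (tt N1960 (iv D4025)) (tt N3311 (iv F24424)))
theorem Q2576 : ∀ i, i < 2576 → P i := stepQ 2575 Q2575 (allL N2575 (tt N2575 F19261) (tt N3100 (iv F23427)) (tt N3304 (iv F24386)) (tt N1969 F19262) (tt N2575 F19263) (tt N3313 D5056) (tt N2575 F19264) (tt N1962 F19265) (tt N1961 (iv D4026)) (tt N2575 F19266))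
theorem Q2577 : ∀ i, i < 2577 → P i := stepQ 2576 Q2576 (allL N2576 (tt N2576 F19267) (tt N3101 (iv F23433)) (tt N3305 (iv F24393)) (tt N1970 F19268) (tt N3314 D5057) (tt N1962 (iv D4027)) (tt N3315 D5058) (tt N3313 (iv F24430)) (tt N3312 (iv F24427)) (tt N2576 F19269))
theorem Q2578 : ∀ i, i < 2578 → P i := stepQ 2577 Q2577 (allL N2577 (tt N2577 F19270) (tt N3102 (iv F23436)) (tt N3306 (iv F24397)) (tt N2577 F19271) (tt N1963 (iv D4028)) (tt N2577 F19272) (tt N3316 D5059) (tt N2577 F19273) (tt N1997 F19274) (tt N2577 F19275))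
theorem Q2579 : ∀ i, i < 2579 → P i := stepQ 2578 Q2578 (allL N2578 (tt N2578 F19276) (tt N3103 (iv F23442)) (tt N3307 (iv F24403)) (tt N1971 F19277) (tt N3316 (iv F24441)) (tt N3315 (iv F24437)) (tt N1963 (iv D4029)) (tt N3317 D5060) (tt N1998 F19278) (tt N2578 F19279))
theorem Q2580 : ∀ i, i < 2580 → P i := stepQ 2579 Q2579 (allL N2579 (tt N2579 F19280) (tt N2801 (iv F21874)) (tt N2579 F19281) (tt N1980 F19282) (tt N2579 F19283) (tt N2071 (iv F19286)) (tt N1965 F19284) (tt N1999 F19285) (tt N1964 (iv D4030)) (tt N3318 D5061))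
theorem Q2581 : ∀ i, i < 2581 → P i := stepQ 2580 Q2580 (allL N2580 (tt N2580 F19287) (tt N3104 (iv F23446)) (tt N2580 F19288) (tt N3309 (iv F24413)) (tt N2580 F19289) (tt N2580 F19290) (tt N1966 F19291) (tt N2000 F19292) (tt N3319 D5062) (tt N1964 (iv D4031)))
theorem Q2582 : ∀ i, i < 2582 → P i := stepQ 2581 Q2581 (allL N2581 (tt N2581 F19293) (tt N3105 (iv F23451)) (tt N2581 F19294) (tt N3300 (iv F24362)) (tt N2581 F19295) (tt N2581 F19296) (tt N3318 (iv F24454)) (tt N1967 F19297) (tt N3320 D5063) (tt N1965 (iv D4032)))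
theorem Q2583 : ∀ i, i < 2583 → P i := stepQ 2582 Q2582 (allL N2582 (tt N2582 F19298) (tt N3106 (iv F23455)) (tt N2582 F19299) (tt N3310 (iv F24419)) (tt N2582 F19300) (tt N3321 D5064) (tt N3319 (iv F24459)) (tt N1968 F19301) (tt N1966 (iv D4033)) (tt N3320 (iv F24465)))
theorem Q2584 : ∀ i, i < 2584 → P i := stepQ 2583 Q2583 (allL N2583 (tt N2583 F19302) (tt N3107 (iv F23458)) (tt N2583 F19303) (tt N3311 (iv F24422)) (tt N2583 F19304) (tt N3322 D5065) (tt N2003 F19305) (tt N3320 (iv F24464)) (tt N1967 (iv D4034)) (tt N1968 F19306))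
theorem Q2585 : ∀ i, i < 2585 → P i := stepQ 2584 Q2584 (allL N2584 (tt N2584 F19307) (tt N3108 (iv F23462)) (tt N2584 F19308) (tt N3312 (iv F24426)) (tt N3323 D5066) (tt N1968 (iv D4035)) (tt N3324 D5067) (tt N3321 (iv F24468)) (tt N1970 F19309) (tt N3322 (iv F24473)))
theorem Q2586 : ∀ i, i < 2586 → P i := stepQ 2585 Q2585 (allL N2585 (tt N2585 F19310) (tt N3109 (iv F23464)) (tt N2585 F19311) (tt N3313 (iv F24429)) (tt N3325 D5068) (tt N1969 (iv D4036)) (tt N3326 D5069) (tt N1970 F19312) (tt N3321 (iv F24469)) (tt N2585 F19313))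
theorem Q2587 : ∀ i, i < 2587 → P i := stepQ 2586 Q2586 (allL N2586 (tt N2586 F19314) (tt N3110 (iv F23467)) (tt N2586 F19315) (tt N3327 D5070) (tt N1970 (iv D4037)) (tt N1973 F19316) (tt N3328 D5071) (tt N3325 (iv F24485)) (tt N3323 (iv F24477)) (tt N2586 F19317))
theorem Q2588 : ∀ i, i < 2588 → P i := stepQ 2587 Q2587 (allL N2587 (tt N2587 F19318) (tt N3111 (iv F23470)) (tt N2587 F19319) (tt N3315 (iv F24436)) (tt N3328 (iv F24496)) (tt N1971 F19320) (tt N1970 (iv D4038)) (tt N3329 D5072) (tt N3324 (iv F24481)) (tt N2587 F19321))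
theorem Q2589 : ∀ i, i < 2589 → P i := stepQ 2588 Q2588 (allL N2588 (tt N2588 F19322) (tt N3112 (iv F23473)) (tt N2588 F19323) (tt N3317 (iv F24445)) (tt N2588 F19324) (tt N3329 (iv F24501)) (tt N2588 F19325) (tt N1971 (iv D4039)) (tt N2008 F19326) (tt N2588 F19327))
theorem Q2590 : ∀ i, i < 2590 → P i := stepQ 2589 Q2589 (allL N2589 (tt N2589 F19328) (tt N3113 (iv F23478)) (tt N2589 F19329) (tt N3330 D5073) (tt N1972 (iv D4040)) (tt N3325 (iv F24484)) (tt N3331 D5074) (tt N1973 F19330) (tt N2589 F19331) (tt N2589 F19332))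
theorem Q2591 : ∀ i, i < 2591 → P i := stepQ 2590 Q2590 (allL N2590 (tt N2590 F19333) (tt N3114 (iv F23482)) (tt N2590 F19334) (tt N2590 F19335) (tt N3331 (iv F24510)) (tt N2590 F19336) (tt N1972 (iv D4041)) (tt N2590 F19337) (tt N2590 F19338) (tt N2590 F19339))
theorem Q2592 : ∀ i, i < 2592 → P i := stepQ 2591 Q2591 (allL N2591 (tt N2591 F19340) (tt N3115 (iv F23488)) (tt N3332 D5075) (tt N1973 (iv D4042)) (tt N2591 F19341) (tt N3327 (iv F24492)) (tt N2591 F19342) (tt N3330 (iv F24505)) (tt N2591 F19343) (tt N2591 F19344))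
theorem Q2593 : ∀ i, i < 2593 → P i := stepQ 2592 Q2592 (allL N2592 (tt N1976 F19345) (tt N2592 F19346) (tt N3116 (iv F23494)) (tt N2592 F19347) (tt N3032 (iv F23148)) (tt N1974 (iv D4043)) (tt N3292 (iv F24323)) (tt N3031 F23144) (tt N3333 D5076) (tt N3334 D5077))
theorem Q2594 : ∀ i, i < 2594 → P i := stepQ 2593 Q2593 (allL N2593 (tt N1977 F19348) (tt N2593 F19349) (tt N3117 (iv F23496)) (tt N2593 F19350) (tt N2062 F19351) (tt N3031 (iv F23142)) (tt N2593 F19352) (tt N1974 (iv D4044)) (tt N2013 F19353) (tt N3335 D5078))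
theorem Q2595 : ∀ i, i < 2595 → P i := stepQ 2594 Q2594 (allL N2594 (tt N1978 F19354) (tt N2594 F19355) (tt N3118 (iv F23501)) (tt N2594 F19356) (tt N2063 F19357) (tt N3334 (iv F24527)) (tt N1975 F19358) (tt N3335 (iv F24533)) (tt N3336 D5079) (tt N1974 (iv D4045)))
theorem Q2596 : ∀ i, i < 2596 → P i := stepQ 2595 Q2595 (allL N2595 (tt N1979 F19359) (tt N2595 F19360) (tt N3119 (iv F23505)) (tt N2595 F19361) (tt N2064 F19362) (tt N3337 D5080) (tt N3336 (iv F24538)) (tt N2595 F19363) (tt N1975 (iv D4046)) (tt N2015 F19364))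
theorem Q2597 : ∀ i, i < 2597 → P i := stepQ 2596 Q2596 (allL N2596 (tt N3032 (iv F23145)) (tt N1980 F19365) (tt N3120 (iv F23510)) (tt N2801 (iv F21876)) (tt N1976 (iv D4047)) (tt N2065 F19366) (tt N3096 (iv F23414)) (tt N2798 (iv F21861)) (tt N3095 F23409) (tt N3338 D5081))
theorem Q2598 : ∀ i, i < 2598 → P i := stepQ 2597 Q2597 (allL N2597 (tt N3031 (iv F23139)) (tt N1981 F19367) (tt N3121 (iv F23513)) (tt N2597 F19368) (tt N2798 (iv F21859)) (tt N1977 F19369) (tt N2814 (iv F21953)) (tt N1976 (iv D4048)) (tt N3139 (iv F23572)) (tt N3339 D5082))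
theorem Q2599 : ∀ i, i < 2599 → P i := stepQ 2598 Q2598 (allL N2598 (tt N3333 (iv F24520)) (tt N1982 F19370) (tt N3122 (iv F23516)) (tt N2598 F19371) (tt N3095 (iv F23406)) (tt N2017 F19372) (tt N3092 F23391) (tt N3139 (iv F23571)) (tt N1976 (iv D4049)) (tt N3340 D5083))
theorem Q2600 : ∀ i, i < 2600 → P i := stepQ 2599 Q2599 (allL N2599 (tt N3334 (iv F24524)) (tt N1983 F19373) (tt N3123 (iv F23519)) (tt N2599 F19374) (tt N3338 (iv F24546)) (tt N1978 F19375) (tt N3296 (iv F24344)) (tt N3339 (iv F24551)) (tt N3341 D5084) (tt N1976 (iv D4050)))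
theorem Q2601 : ∀ i, i < 2601 → P i := stepQ 2600 Q2600 (allL N2600 (tt N3335 (iv F24528)) (tt N1984 F19376) (tt N3124 (iv F23522)) (tt N2600 F19377) (tt N2068 F19378) (tt N3339 (iv F24550)) (tt N2600 F19379) (tt N1978 F19380) (tt N3342 D5085) (tt N1977 (iv D4051)))
theorem Q2602 : ∀ i, i < 2602 → P i := stepQ 2601 Q2601 (allL N2601 (tt N3336 (iv F24534)) (tt N1985 F19381) (tt N3125 (iv F23527)) (tt N2601 F19382) (tt N2069 F19383) (tt N3343 D5086) (tt N1979 F19384) (tt N3342 (iv F24561)) (tt N1978 (iv D4052)) (tt N2020 F19385))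
theorem Q2603 : ∀ i, i < 2603 → P i := stepQ 2602 Q2602 (allL N2602 (tt N3337 (iv F24540)) (tt N1986 F19386) (tt N3126 (iv F23532)) (tt N2602 F19387) (tt N3344 D5087) (tt N1979 (iv D4053)) (tt N3345 D5088) (tt N2602 F19388) (tt N3299 (iv F24358)) (tt N2021 F19389))
theorem Q2604 : ∀ i, i < 2604 → P i := stepQ 2603 Q2603 (allL N2603 (tt N2603 F19390) (tt N2798 (iv F21857)) (tt N1987 F19391) (tt N1999 F19392) (tt N1981 F19393) (tt N2072 F19394) (tt N1991 F19395) (tt N1980 (iv D4054)) (tt N1990 F19396) (tt N3346 D5089))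
theorem Q2605 : ∀ i, i < 2605 → P i := stepQ 2604 Q2604 (allL N2604 (tt N2604 F19397) (tt N3338 (iv F24545)) (tt N1989 F19398) (tt N3318 (iv F24451)) (tt N1983 F19399) (tt N2073 F19400) (tt N3300 (iv F24365)) (tt N3346 (iv F24579)) (tt N3347 D5090) (tt N1980 (iv D4055)))
theorem Q2606 : ∀ i, i < 2606 → P i := stepQ 2605 Q2605 (allL N2605 (tt N2605 F19401) (tt N2814 (iv F21950)) (tt N1990 F19402) (tt N2605 F19403) (tt N1991 F19404) (tt N2605 F19405) (tt N1981 (iv D4056)) (tt N1988 F19406) (tt N1987 (iv F19407)) (tt N3348 D5091))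
theorem Q2607 : ∀ i, i < 2607 → P i := stepQ 2606 Q2606 (allL N2606 (tt N2606 F19408) (tt N3139 (iv F23567)) (tt N1991 F19409) (tt N2606 F19410) (tt N1990 F19411) (tt N2022 F19412) (tt N1987 F19413) (tt N1982 F19414) (tt N1981 (iv D4057)) (tt N3349 D5092))
theorem Q2608 : ∀ i, i < 2608 → P i := stepQ 2607 Q2607 (allL N2607 (tt N2607 F19415) (tt N3339 (iv F24548)) (tt N1992 F19416) (tt N2607 F19417) (tt N3346 (iv F24576)) (tt N1984 F19418) (tt N3348 (iv F24588)) (tt N1983 F19419) (tt N3350 D5093) (tt N1981 (iv D4058)))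
theorem Q2609 : ∀ i, i < 2609 → P i := stepQ 2608 Q2608 (allL N2608 (tt N2608 F19420) (tt N3340 (iv F24552)) (tt N1993 F19421) (tt N2608 F19422) (tt N3309 (iv F24414)) (tt N2024 F19423) (tt N3302 (iv F24379)) (tt N3349 (iv F24596)) (tt N3351 D5094) (tt N1982 (iv D4059)))
theorem Q2610 : ∀ i, i < 2610 → P i := stepQ 2609 Q2609 (allL N2609 (tt N2609 F19424) (tt N3341 (iv F24555)) (tt N1994 F19425) (tt N2609 F19426) (tt N3347 (iv F24582)) (tt N3352 D5095) (tt N3303 (iv F24384)) (tt N3350 (iv F24600)) (tt N1983 (iv D4060)) (tt N3351 (iv F24604)))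
theorem Q2611 : ∀ i, i < 2611 → P i := stepQ 2610 Q2610 (allL N2610 (tt N2610 F19427) (tt N3342 (iv F24557)) (tt N1995 F19428) (tt N2610 F19429) (tt N2077 F19430) (tt N3353 D5096) (tt N2610 F19431) (tt N1985 F19432) (tt N1984 (iv D4061)) (tt N2026 F19433))
theorem Q2612 : ∀ i, i < 2612 → P i := stepQ 2611 Q2611 (allL N2611 (tt N2611 F19434) (tt N3343 (iv F24563)) (tt N1996 F19435) (tt N2611 F19436) (tt N3354 D5097) (tt N1985 (iv D4062)) (tt N3355 D5098) (tt N3353 (iv F24612)) (tt N3352 (iv F24608)) (tt N2027 F19437))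
theorem Q2613 : ∀ i, i < 2613 → P i := stepQ 2612 Q2612 (allL N2612 (tt N2612 F19438) (tt N3344 (iv F24566)) (tt N1997 F19439) (tt N3356 D5099) (tt N1986 (iv D4063)) (tt N2079 F19440) (tt N3357 D5100) (tt N2612 F19441) (tt N3306 (iv F24400)) (tt N2028 F19442))
theorem Q2614 : ∀ i, i < 2614 → P i := stepQ 2613 Q2613 (allL N2613 (tt N2613 F19443) (tt N3345 (iv F24570)) (tt N1998 F19444) (tt N2613 F19445) (tt N3357 (iv F24631)) (tt N3355 (iv F24621)) (tt N1986 (iv D4064)) (tt N3358 D5101) (tt N3307 (iv F24405)) (tt N2029 F19446))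
theorem Q2615 : ∀ i, i < 2615 → P i := stepQ 2614 Q2614 (allL N2614 (tt N2614 F19447) (tt N3140 (iv F23573)) (tt N3346 (iv F24574)) (tt N2614 F19448) (tt N1992 F19449) (tt N2082 F19450) (tt N3349 (iv F24595)) (tt N1989 F19451) (tt N3359 D5102) (tt N1987 (iv D4065)))
theorem Q2616 : ∀ i, i < 2616 → P i := stepQ 2615 Q2615 (allL N2615 (tt N2615 F19452) (tt N3141 (iv F23578)) (tt N3309 (iv F24412)) (tt N2615 F19453) (tt N1993 F19454) (tt N2615 F19455) (tt N3301 (iv F24372)) (tt N3348 (iv F24589)) (tt N3360 D5103) (tt N1988 (iv D4066)))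
theorem Q2617 : ∀ i, i < 2617 → P i := stepQ 2616 Q2616 (allL N2616 (tt N2616 F19456) (tt N3142 (iv F23582)) (tt N3347 (iv F24581)) (tt N2616 F19457) (tt N1994 F19458) (tt N3361 D5104) (tt N3308 (iv F24410)) (tt N3359 (iv F24641)) (tt N1989 (iv D4067)) (tt N3360 (iv F24645)))
theorem Q2618 : ∀ i, i < 2618 → P i := stepQ 2617 Q2617 (allL N2617 (tt N2617 F19459) (tt N3143 (iv F23585)) (tt N3348 (iv F24584)) (tt N2000 F19460) (tt N3349 (iv F24593)) (tt N2617 F19461) (tt N1992 F19462) (tt N3309 (iv F24417)) (tt N3362 D5105) (tt N1990 (iv D4068)))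
theorem Q2619 : ∀ i, i < 2619 → P i := stepQ 2618 Q2618 (allL N2618 (tt N2618 F19463) (tt N2815 (iv F21957)) (tt N3349 (iv F24591)) (tt N2001 F19464) (tt N3348 (iv F24586)) (tt N2030 F19465) (tt N3346 (iv F24578)) (tt N1993 F19466) (tt N3363 D5106) (tt N1991 (iv D4069)))
theorem Q2620 : ∀ i, i < 2620 → P i := stepQ 2619 Q2619 (allL N2619 (tt N2619 F19467) (tt N3144 (iv F23589)) (tt N3350 (iv F24598)) (tt N2002 F19468) (tt N3359 (iv F24640)) (tt N3364 D5107) (tt N3362 (iv F24651)) (tt N1994 F19469) (tt N1992 (iv D4070)) (tt N3363 (iv F24655)))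
theorem Q2621 : ∀ i, i < 2621 → P i := stepQ 2620 Q2620 (allL N2620 (tt N2620 F19470) (tt N3145 (iv F23592)) (tt N3351 (iv F24602)) (tt N2003 F19471) (tt N3360 (iv F24644)) (tt N3365 D5108) (tt N3311 (iv F24423)) (tt N3363 (iv F24654)) (tt N1993 (iv D4071)) (tt N1994 F19472))
theorem Q2622 : ∀ i, i < 2622 → P i := stepQ 2621 Q2621 (allL N2621 (tt N2621 F19473) (tt N3146 (iv F23595)) (tt N3352 (iv F24606)) (tt N2004 F19474) (tt N3366 D5109) (tt N1994 (iv D4072)) (tt N3367 D5110) (tt N3364 (iv F24658)) (tt N1996 F19475) (tt N3365 (iv F24663)))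
theorem Q2623 : ∀ i, i < 2623 → P i := stepQ 2622 Q2622 (allL N2622 (tt N2622 F19476) (tt N3147 (iv F23598)) (tt N3353 (iv F24610)) (tt N2005 F19477) (tt N3368 D5111) (tt N1995 (iv D4073)) (tt N3369 D5112) (tt N1996 F19478) (tt N3364 (iv F24659)) (tt N2034 F19479))
theorem Q2624 : ∀ i, i < 2624 → P i := stepQ 2623 Q2623 (allL N2623 (tt N2623 F19480) (tt N3148 (iv F23602)) (tt N3354 (iv F24615)) (tt N3370 D5113) (tt N1996 (iv D4074)) (tt N2088 F19481) (tt N3371 D5114) (tt N3368 (iv F24671)) (tt N3366 (iv F24665)) (tt N2035 F19482))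
theorem Q2625 : ∀ i, i < 2625 → P i := stepQ 2624 Q2624 (allL N2624 (tt N2624 F19483) (tt N3149 (iv F23605)) (tt N3355 (iv F24619)) (tt N2007 F19484) (tt N3371 (iv F24682)) (tt N1998 F19485) (tt N1996 (iv D4075)) (tt N3372 D5115) (tt N3367 (iv F24668)) (tt N2036 F19486))
theorem Q2626 : ∀ i, i < 2626 → P i := stepQ 2625 Q2625 (allL N2625 (tt N2625 F19487) (tt N3150 (iv F23609)) (tt N3357 (iv F24630)) (tt N2625 F19488) (tt N1998 F19489) (tt N3373 D5116) (tt N1997 (iv D4076)) (tt N3374 D5117) (tt N3316 (iv F24442)) (tt N2037 F19490))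
theorem Q2627 : ∀ i, i < 2627 → P i := stepQ 2626 Q2626 (allL N2626 (tt N2626 F19491) (tt N3151 (iv F23613)) (tt N3358 (iv F24634)) (tt N2008 F19492) (tt N3374 (iv F24694)) (tt N3372 (iv F24686)) (tt N2626 F19493) (tt N1998 (iv D4077)) (tt N3317 (iv F24447)) (tt N2038 F19494))
theorem Q2628 : ∀ i, i < 2628 → P i := stepQ 2627 Q2627 (allL N2627 (tt N2627 F19502) (tt N2802 (iv F21882)) (tt N2627 F19503) (tt N3346 (iv F24575)) (tt N2627 F19504) (tt N2779 (iv F21733)) (tt N2001 F19505) (tt N3318 (iv F24455)) (tt N3375 D5118) (tt N1999 (iv D4079)))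
theorem Q2629 : ∀ i, i < 2629 → P i := stepQ 2628 Q2628 (allL N2628 (tt N2628 F19506) (tt N3152 (iv F23617)) (tt N2628 F19507) (tt N3362 (iv F24650)) (tt N2628 F19508) (tt N3376 D5119) (tt N2002 F19509) (tt N3319 (iv F24460)) (tt N2000 (iv D4080)) (tt N3375 (iv F24701)))
theorem Q2630 : ∀ i, i < 2630 → P i := stepQ 2629 Q2629 (allL N2629 (tt N2629 F19510) (tt N2818 (iv F21973)) (tt N2629 F19511) (tt N3363 (iv F24653)) (tt N2629 F19512) (tt N3377 D5120) (tt N3375 (iv F24700)) (tt N2003 F19513) (tt N2001 (iv D4081)) (tt N2002 F19514))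
theorem Q2631 : ∀ i, i < 2631 → P i := stepQ 2630 Q2630 (allL N2630 (tt N2630 F19515) (tt N3153 (iv F23620)) (tt N2630 F19516) (tt N3364 (iv F24657)) (tt N3378 D5121) (tt N2002 (iv D4082)) (tt N3379 D5122) (tt N2004 F19517) (tt N2005 F19518) (tt N3377 (iv F24709)))
theorem Q2632 : ∀ i, i < 2632 → P i := stepQ 2631 Q2631 (allL N2631 (tt N2631 F19519) (tt N3154 (iv F23623)) (tt N2631 F19520) (tt N3365 (iv F24661)) (tt N3380 D5123) (tt N2003 (iv D4083)) (tt N3381 D5124) (tt N3377 (iv F24707)) (tt N2041 F19521) (tt N2004 F19522))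
theorem Q2633 : ∀ i, i < 2633 → P i := stepQ 2632 Q2632 (allL N2632 (tt N2632 F19523) (tt N3155 (iv F23626)) (tt N2632 F19524) (tt N3382 D5125) (tt N2004 (iv D4084)) (tt N2632 F19525) (tt N3383 D5126) (tt N3378 (iv F24713)) (tt N2006 F19526) (tt N3380 (iv F24722)))
theorem Q2634 : ∀ i, i < 2634 → P i := stepQ 2633 Q2633 (allL N2633 (tt N2633 F19527) (tt N3156 (iv F23629)) (tt N2633 F19528) (tt N3367 (iv F24667)) (tt N3383 (iv F24732)) (tt N3324 (iv F24480)) (tt N2004 (iv D4085)) (tt N3384 D5127) (tt N2007 F19529) (tt N3381 (iv F24726)))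
theorem Q2635 : ∀ i, i < 2635 → P i := stepQ 2634 Q2634 (allL N2634 (tt N2634 F19530) (tt N3157 (iv F23631)) (tt N2634 F19531) (tt N3385 D5128) (tt N2005 (iv D4086)) (tt N2009 F19532) (tt N3386 D5129) (tt N2006 F19533) (tt N3378 (iv F24714)) (tt N2044 F19534))
theorem Q2636 : ∀ i, i < 2636 → P i := stepQ 2635 Q2635 (allL N2635 (tt N2635 F19535) (tt N3158 (iv F23635)) (tt N2635 F19536) (tt N3369 (iv F24674)) (tt N3386 (iv F24743)) (tt N2635 F19537) (tt N2005 (iv D4087)) (tt N3387 D5130) (tt N3379 (iv F24717)) (tt N2045 F19538))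
theorem Q2637 : ∀ i, i < 2637 → P i := stepQ 2636 Q2636 (allL N2636 (tt N2636 F19539) (tt N3159 (iv F23638)) (tt N3388 D5131) (tt N2006 (iv D4088)) (tt N3370 (iv F24678)) (tt N2011 F19540) (tt N3389 D5132) (tt N3385 (iv F24739)) (tt N3382 (iv F24729)) (tt N2046 F19541))
theorem Q2638 : ∀ i, i < 2638 → P i := stepQ 2637 Q2637 (allL N2637 (tt N2637 F19542) (tt N3160 (iv F23641)) (tt N2637 F19543) (tt N3389 (iv F24755)) (tt N2007 F19544) (tt N2637 F19545) (tt N2006 (iv D4089)) (tt N3390 D5133) (tt N3383 (iv F24733)) (tt N2047 F19546))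
theorem Q2639 : ∀ i, i < 2639 → P i := stepQ 2638 Q2638 (allL N2638 (tt N2638 F19547) (tt N3161 (iv F23645)) (tt N2638 F19548) (tt N3372 (iv F24685)) (tt N3390 (iv F24760)) (tt N2008 F19549) (tt N3387 (iv F24748)) (tt N2007 (iv D4090)) (tt N3384 (iv F24736)) (tt N2048 F19550))
theorem Q2640 : ∀ i, i < 2640 → P i := stepQ 2639 Q2639 (allL N2639 (tt N2639 F19551) (tt N3162 (iv F23648)) (tt N2090 (iv F131684)) (tt N2009 (iv D4091)) (tt N2080 F131279) (tt N3385 (iv F24738)) (tt N2079 (iv F131639)) (tt N2011 F19553) (tt N2639 F19554) (tt N2049 F19555))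
theorem Q2641 : ∀ i, i < 2641 → P i := stepQ 2640 Q2640 (allL N2640 (tt N2640 F19556) (tt N3163 (iv F23653)) (tt N2640 F19557) (tt N2079 (iv F131638)) (tt N2010 F19558) (tt N3356 (iv F131687)) (tt N2009 (iv D4092)) (tt N2640 F19559) (tt N2640 F19560) (tt N2050 F19561))
theorem Q2642 : ∀ i, i < 2642 → P i := stepQ 2641 Q2641 (allL N2641 (tt N2641 F19562) (tt N3251 (iv F131690)) (tt N2011 (iv D4093)) (tt N2641 F19563) (tt N2091 F131280) (tt N3388 (iv F24752)) (tt N2641 F19565) (tt N2090 (iv F131685)) (tt N2641 F19566) (tt N2051 F19567))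
theorem Q2643 : ∀ i, i < 2643 → P i := stepQ 2642 Q2642 (allL N2642 (tt N2016 F19568) (tt N2642 F19569) (tt N2822 (iv F21996)) (tt N2642 F19570) (tt N2642 F19571) (tt N2013 F19572) (tt N2786 (iv F21781)) (tt N2012 (iv D4094)) (tt N3391 D5138) (tt N3392 D5139))
theorem Q2644 : ∀ i, i < 2644 → P i := stepQ 2643 Q2643 (allL N2643 (tt N2017 F19573) (tt N2643 F19574) (tt N3165 (iv F23663)) (tt N2643 F19575) (tt N2643 F19576) (tt N3333 (iv F24523)) (tt N2643 F19577) (tt N3391 (iv F24789)) (tt N2012 (iv D4095)) (tt N3393 D5140))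
theorem Q2645 : ∀ i, i < 2645 → P i := stepQ 2644 Q2644 (allL N2644 (tt N2018 F19578) (tt N2644 F19579) (tt N3166 (iv F23667)) (tt N2644 F19580) (tt N2644 F19581) (tt N2014 F19582) (tt N2644 F19583) (tt N3392 (iv F24795)) (tt N3394 D5141) (tt N2012 (iv D4096)))
theorem Q2646 : ∀ i, i < 2646 → P i := stepQ 2645 Q2645 (allL N2645 (tt N2019 F19584) (tt N2645 F19585) (tt N3167 (iv F23672)) (tt N2645 F19586) (tt N2101 F19587) (tt N3392 (iv F24794)) (tt N2645 F19588) (tt N2014 F19589) (tt N3395 D5142) (tt N2013 (iv D4097)))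
theorem Q2647 : ∀ i, i < 2647 → P i := stepQ 2646 Q2646 (allL N2646 (tt N2020 F19590) (tt N2646 F19591) (tt N3168 (iv F23677)) (tt N2646 F19592) (tt N2102 F19593) (tt N3396 D5143) (tt N2015 F19594) (tt N3395 (iv F24811)) (tt N2014 (iv D4098)) (tt N3336 (iv F24539)))
theorem Q2648 : ∀ i, i < 2648 → P i := stepQ 2647 Q2647 (allL N2647 (tt N2021 F19595) (tt N2647 F19596) (tt N3169 (iv F23681)) (tt N2647 F19597) (tt N3397 D5144) (tt N2015 (iv D4099)) (tt N3398 D5145) (tt N2647 F19598) (tt N2647 F19599) (tt N3337 (iv F24544)))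
theorem Q2649 : ∀ i, i < 2649 → P i := stepQ 2648 Q2648 (allL N2648 (tt N3391 (iv F24785)) (tt N2022 F19605) (tt N2809 (iv F21923)) (tt N2648 F19606) (tt N2648 F19607) (tt N3139 (iv F23570)) (tt N2782 (iv F21753)) (tt N2017 F19608) (tt N2016 (iv D4101)) (tt N3399 D5146))
theorem Q2650 : ∀ i, i < 2650 → P i := stepQ 2649 Q2649 (allL N2649 (tt N3392 (iv F24790)) (tt N2023 F19609) (tt N2824 (iv F22008)) (tt N2649 F19610) (tt N2649 F19611) (tt N2019 F19612) (tt N2787 (iv F21788)) (tt N2018 F19613) (tt N3400 D5147) (tt N2016 (iv D4102)))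
theorem Q2651 : ∀ i, i < 2651 → P i := stepQ 2650 Q2650 (allL N2650 (tt N3393 (iv F24796)) (tt N2024 F19614) (tt N3170 (iv F23685)) (tt N2650 F19615) (tt N2650 F19616) (tt N3340 (iv F24554)) (tt N2650 F19617) (tt N3399 (iv F24827)) (tt N3401 D5148) (tt N2017 (iv D4103)))
theorem Q2652 : ∀ i, i < 2652 → P i := stepQ 2651 Q2651 (allL N2651 (tt N3394 (iv F24801)) (tt N2025 F19618) (tt N3171 (iv F23689)) (tt N2651 F19619) (tt N2651 F19620) (tt N3402 D5149) (tt N2651 F19621) (tt N3400 (iv F24831)) (tt N2018 (iv D4104)) (tt N3401 (iv F24836)))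
theorem Q2653 : ∀ i, i < 2653 → P i := stepQ 2652 Q2652 (allL N2652 (tt N3395 (iv F24806)) (tt N2026 F19622) (tt N3172 (iv F23693)) (tt N2652 F19623) (tt N2104 F19624) (tt N3403 D5150) (tt N2652 F19625) (tt N2020 F19626) (tt N2019 (iv D4105)) (tt N3342 (iv F24562)))
theorem Q2654 : ∀ i, i < 2654 → P i := stepQ 2653 Q2653 (allL N2653 (tt N3396 (iv F24812)) (tt N2027 F19627) (tt N3173 (iv F23698)) (tt N2653 F19628) (tt N3404 D5151) (tt N2020 (iv D4106)) (tt N3405 D5152) (tt N3403 (iv F24842)) (tt N3402 (iv F24839)) (tt N3343 (iv F24565)))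
theorem Q2655 : ∀ i, i < 2655 → P i := stepQ 2654 Q2654 (allL N2654 (tt N3397 (iv F24815)) (tt N2028 F19629) (tt N3174 (iv F23700)) (tt N3206 (iv F131703)) (tt N2021 (iv D4107)) (tt N2106 F19630) (tt N3406 D5154) (tt N2654 F19631) (tt N2654 F19632) (tt N3344 (iv F24569)))
theorem Q2656 : ∀ i, i < 2656 → P i := stepQ 2655 Q2655 (allL N2655 (tt N3398 (iv F24820)) (tt N2029 F19633) (tt N3175 (iv F23705)) (tt N2655 F19634) (tt N3406 (iv F24854)) (tt N3405 (iv F24847)) (tt N2021 (iv D4108)) (tt N3407 D5155) (tt N2655 F19635) (tt N3345 (iv F24572)))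
theorem Q2657 : ∀ i, i < 2657 → P i := stepQ 2656 Q2656 (allL N2656 (tt N2656 F19650) (tt N3399 (iv F24824)) (tt N2030 F19651) (tt N2656 F19652) (tt N2656 F19653) (tt N3349 (iv F24594)) (tt N2783 (iv F21761)) (tt N2024 F19654) (tt N3408 D5156) (tt N2022 (iv D4111)))
theorem Q2658 : ∀ i, i < 2658 → P i := stepQ 2657 Q2657 (allL N2657 (tt N2657 F19655) (tt N3400 (iv F24828)) (tt N2031 F19656) (tt N2657 F19657) (tt N2657 F19658) (tt N3409 D5157) (tt N2788 (iv F21794)) (tt N2025 F19659) (tt N2023 (iv D4112)) (tt N3408 (iv F24865)))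
theorem Q2659 : ∀ i, i < 2659 → P i := stepQ 2658 Q2658 (allL N2658 (tt N2658 F19660) (tt N3401 (iv F24832)) (tt N2032 F19661) (tt N2658 F19662) (tt N2658 F19663) (tt N3410 D5158) (tt N2658 F19664) (tt N3408 (iv F24864)) (tt N2024 (iv D4113)) (tt N2025 F19665))
theorem Q2660 : ∀ i, i < 2660 → P i := stepQ 2659 Q2659 (allL N2659 (tt N2659 F19666) (tt N3402 (iv F24837)) (tt N2033 F19667) (tt N2659 F19668) (tt N3411 D5159) (tt N2025 (iv D4114)) (tt N3412 D5160) (tt N3409 (iv F24869)) (tt N2027 F19669) (tt N3410 (iv F24874)))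
theorem Q2661 : ∀ i, i < 2661 → P i := stepQ 2660 Q2660 (allL N2660 (tt N2660 F19670) (tt N3403 (iv F24840)) (tt N2034 F19671) (tt N2660 F19672) (tt N3413 D5161) (tt N2026 (iv D4115)) (tt N3414 D5162) (tt N2027 F19673) (tt N3409 (iv F24870)) (tt N3353 (iv F24613)))
theorem Q2662 : ∀ i, i < 2662 → P i := stepQ 2661 Q2661 (allL N2661 (tt N2661 F19674) (tt N3404 (iv F24843)) (tt N2035 F19675) (tt N3415 D5163) (tt N2027 (iv D4116)) (tt N2108 F19676) (tt N3416 D5164) (tt N3413 (iv F24887)) (tt N3411 (iv F24878)) (tt N3354 (iv F24617)))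
theorem Q2663 : ∀ i, i < 2663 → P i := stepQ 2662 Q2662 (allL N2662 (tt N2662 F19677) (tt N3405 (iv F24845)) (tt N2036 F19678) (tt N2662 F19679) (tt N3416 (iv F24897)) (tt N2029 F19680) (tt N2027 (iv D4117)) (tt N3417 D5165) (tt N3412 (iv F24883)) (tt N3355 (iv F24622)))
theorem Q2664 : ∀ i, i < 2664 → P i := stepQ 2663 Q2663 (allL N2663 (tt N2663 F19681) (tt N3206 (iv F131702)) (tt N2663 F19682) (tt N2028 (iv D4118)) (tt N2663 F19683) (tt N2050 F131290) (tt N3418 D5166) (tt N2663 F19685) (tt N2663 F19686) (tt N3356 (iv F24628)))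
theorem Q2665 : ∀ i, i < 2665 → P i := stepQ 2664 Q2664 (allL N2664 (tt N2664 F19687) (tt N3406 (iv F24853)) (tt N2037 F19688) (tt N3418 (iv F24904)) (tt N2029 F19689) (tt N3419 D5167) (tt N2028 (iv D4119)) (tt N3420 D5168) (tt N2664 F19690) (tt N3357 (iv F24632)))
theorem Q2666 : ∀ i, i < 2666 → P i := stepQ 2665 Q2665 (allL N2665 (tt N2665 F19691) (tt N3407 (iv F24856)) (tt N2038 F19692) (tt N2665 F19693) (tt N3420 (iv F24912)) (tt N3417 (iv F24901)) (tt N2665 F19694) (tt N2029 (iv D4120)) (tt N2665 F19695) (tt N3358 (iv F24637)))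
theorem Q2667 : ∀ i, i < 2667 → P i := stepQ 2666 Q2666 (allL N2666 (tt N2666 F19713) (tt N2816 (iv F21962)) (tt N3408 (iv F24861)) (tt N2039 F19714) (tt N2666 F19715) (tt N3421 D5169) (tt N2784 (iv F21767)) (tt N2032 F19716) (tt N2030 (iv D4124)) (tt N2031 F19717))
theorem Q2668 : ∀ i, i < 2668 → P i := stepQ 2667 Q2667 (allL N2667 (tt N2667 F19718) (tt N2828 (iv F22030)) (tt N3409 (iv F24867)) (tt N2040 F19719) (tt N3422 D5170) (tt N2031 (iv D4125)) (tt N3423 D5171) (tt N2033 F19720) (tt N2034 F19721) (tt N3421 (iv F24918)))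
theorem Q2669 : ∀ i, i < 2669 → P i := stepQ 2668 Q2668 (allL N2668 (tt N2668 F19722) (tt N3184 (iv F23729)) (tt N3410 (iv F24872)) (tt N2041 F19723) (tt N3424 D5172) (tt N2032 (iv D4126)) (tt N3425 D5173) (tt N3421 (iv F24917)) (tt N3365 (iv F24662)) (tt N2033 F19724))
theorem Q2670 : ∀ i, i < 2670 → P i := stepQ 2669 Q2669 (allL N2669 (tt N2669 F19725) (tt N3185 (iv F23732)) (tt N3411 (iv F24876)) (tt N3426 D5174) (tt N2033 (iv D4127)) (tt N2669 F19726) (tt N3427 D5175) (tt N3422 (iv F24921)) (tt N2035 F19727) (tt N3424 (iv F24928)))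
theorem Q2671 : ∀ i, i < 2671 → P i := stepQ 2670 Q2670 (allL N2670 (tt N2670 F19728) (tt N3186 (iv F23735)) (tt N3412 (iv F24880)) (tt N2043 F19729) (tt N3427 (iv F24938)) (tt N2670 F19730) (tt N2033 (iv D4128)) (tt N3428 D5176) (tt N2036 F19731) (tt N3425 (iv F24932)))
theorem Q2672 : ∀ i, i < 2672 → P i := stepQ 2671 Q2671 (allL N2671 (tt N2671 F19732) (tt N3187 (iv F23739)) (tt N3413 (iv F24885)) (tt N3429 D5177) (tt N2034 (iv D4129)) (tt N2110 F19733) (tt N3430 D5178) (tt N2035 F19734) (tt N3422 (iv F24922)) (tt N3368 (iv F24672)))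
theorem Q2673 : ∀ i, i < 2673 → P i := stepQ 2672 Q2672 (allL N2672 (tt N2672 F19735) (tt N3188 (iv F23742)) (tt N3414 (iv F24889)) (tt N2045 F19736) (tt N3430 (iv F24949)) (tt N2672 F19737) (tt N2034 (iv D4130)) (tt N3431 D5179) (tt N3423 (iv F24925)) (tt N3369 (iv F24676)))
theorem Q2674 : ∀ i, i < 2674 → P i := stepQ 2673 Q2673 (allL N2673 (tt N2673 F19738) (tt N3189 (iv F23745)) (tt N3432 D5180) (tt N2035 (iv D4131)) (tt N2046 F19739) (tt N2112 F19740) (tt N3433 D5181) (tt N3429 (iv F24947)) (tt N3426 (iv F24936)) (tt N3370 (iv F24680)))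
theorem Q2675 : ∀ i, i < 2675 → P i := stepQ 2674 Q2674 (allL N2674 (tt N2674 F19741) (tt N3190 (iv F23748)) (tt N3416 (iv F24896)) (tt N3433 (iv F24958)) (tt N2036 F19742) (tt N3434 D5182) (tt N2035 (iv D4132)) (tt N3435 D5183) (tt N3427 (iv F24939)) (tt N3371 (iv F24683)))
theorem Q2676 : ∀ i, i < 2676 → P i := stepQ 2675 Q2675 (allL N2675 (tt N2675 F19743) (tt N3191 (iv F23750)) (tt N3417 (iv F24899)) (tt N2048 F19744) (tt N3435 (iv F24964)) (tt N2038 F19745) (tt N3431 (iv F24953)) (tt N2036 (iv D4133)) (tt N3428 (iv F24943)) (tt N3372 (iv F24687)))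
theorem Q2677 : ∀ i, i < 2677 → P i := stepQ 2676 Q2676 (allL N2676 (tt N2676 F19746) (tt N3192 (iv F23753)) (tt N3419 (iv F24908)) (tt N2676 F19747) (tt N3434 (iv F24961)) (tt N2037 (iv D4134)) (tt N2115 F19748) (tt N3436 D5184) (tt N3437 D5185) (tt N3373 (iv F24691)))
theorem Q2678 : ∀ i, i < 2678 → P i := stepQ 2677 Q2677 (allL N2677 (tt N2677 F19749) (tt N3193 (iv F23756)) (tt N3420 (iv F24911)) (tt N2677 F19750) (tt N2038 F19751) (tt N3436 (iv F24967)) (tt N2677 F19752) (tt N2037 (iv D4135)) (tt N2677 F19753) (tt N3374 (iv F24696)))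
theorem Q2679 : ∀ i, i < 2679 → P i := stepQ 2678 Q2678 (allL N2678 (tt N2678 F19775) (tt N2819 (iv F21979)) (tt N2678 F19776) (tt N3421 (iv F24916)) (tt N3438 D5186) (tt N2039 (iv D4140)) (tt N3439 D5187) (tt N2041 F19777) (tt N3377 (iv F24708)) (tt N2040 F19778))
theorem Q2680 : ∀ i, i < 2680 → P i := stepQ 2679 Q2679 (allL N2679 (tt N2679 F19779) (tt N2831 (iv F22043)) (tt N2679 F19780) (tt N3440 D5188) (tt N2040 (iv D4141)) (tt N2053 F19781) (tt N3441 D5189) (tt N2042 F19782) (tt N2044 F19783) (tt N3438 (iv F24976)))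
theorem Q2681 : ∀ i, i < 2681 → P i := stepQ 2680 Q2680 (allL N2680 (tt N2680 F19784) (tt N2832 (iv F22049)) (tt N2680 F19785) (tt N3423 (iv F24924)) (tt N3441 (iv F24986)) (tt N2790 (iv F21805)) (tt N2040 (iv D4142)) (tt N3442 D5190) (tt N2045 F19786) (tt N3439 (iv F24979)))
theorem Q2682 : ∀ i, i < 2682 → P i := stepQ 2681 Q2681 (allL N2681 (tt N2681 F19787) (tt N3194 (iv F23761)) (tt N2681 F19788) (tt N3443 D5191) (tt N2041 (iv D4143)) (tt N2054 F19789) (tt N3444 D5192) (tt N3438 (iv F24975)) (tt N3380 (iv F24721)) (tt N2042 F19790))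
theorem Q2683 : ∀ i, i < 2683 → P i := stepQ 2682 Q2682 (allL N2682 (tt N2682 F19791) (tt N3195 (iv F23764)) (tt N2682 F19792) (tt N3425 (iv F24930)) (tt N3444 (iv F24998)) (tt N2682 F19793) (tt N2041 (iv D4144)) (tt N3445 D5193) (tt N3381 (iv F24725)) (tt N2043 F19794))
theorem Q2684 : ∀ i, i < 2684 → P i := stepQ 2683 Q2683 (allL N2683 (tt N2683 F19795) (tt N3196 (iv F23767)) (tt N3446 D5194) (tt N2042 (iv D4145)) (tt N3426 (iv F24934)) (tt N2056 F19796) (tt N3447 D5195) (tt N3440 (iv F24982)) (tt N2046 F19797) (tt N3443 (iv F24995)))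
theorem Q2685 : ∀ i, i < 2685 → P i := stepQ 2684 Q2684 (allL N2684 (tt N2684 F19798) (tt N3197 (iv F23770)) (tt N2684 F19799) (tt N3447 (iv F25009)) (tt N2043 F19800) (tt N3448 D5196) (tt N2042 (iv D4146)) (tt N3449 D5197) (tt N2047 F19801) (tt N3444 (iv F24999)))
theorem Q2686 : ∀ i, i < 2686 → P i := stepQ 2685 Q2685 (allL N2685 (tt N2685 F19802) (tt N3198 (iv F23773)) (tt N2685 F19803) (tt N3428 (iv F24941)) (tt N3449 (iv F25018)) (tt N2685 F19804) (tt N3442 (iv F24991)) (tt N2043 (iv D4147)) (tt N2048 F19805) (tt N3445 (iv F25003)))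
theorem Q2687 : ∀ i, i < 2687 → P i := stepQ 2686 Q2686 (allL N2686 (tt N2686 F19806) (tt N3199 (iv F23776)) (tt N2115 (iv F131680)) (tt N2044 (iv D4148)) (tt N3429 (iv F24945)) (tt N2049 F19807) (tt N3419 (iv F131678)) (tt N2046 F19808) (tt N3440 (iv F24983)) (tt N3385 (iv F24740)))
theorem Q2688 : ∀ i, i < 2688 → P i := stepQ 2687 Q2687 (allL N2687 (tt N2687 F19809) (tt N3200 (iv F23779)) (tt N2687 F19810) (tt N3419 F132081) (tt N2045 F19811) (tt N3418 F132082) (tt N2044 (iv D4149)) (tt N3450 D5201) (tt N3441 (iv F24988)) (tt N3386 (iv F24744)))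
theorem Q2689 : ∀ i, i < 2689 → P i := stepQ 2688 Q2688 (allL N2688 (tt N2688 F19812) (tt N3201 (iv F23781)) (tt N2688 F19813) (tt N3431 (iv F24951)) (tt N3450 (iv F25033)) (tt N2688 F19814) (tt N2048 F19815) (tt N2045 (iv D4150)) (tt N3442 (iv F24992)) (tt N3387 (iv F24749)))
theorem Q2690 : ∀ i, i < 2690 → P i := stepQ 2689 Q2689 (allL N2689 (tt N2689 F19816) (tt N3284 (iv F131688)) (tt N2046 (iv D4151)) (tt N2689 F19817) (tt N3432 (iv F24955)) (tt N2051 F19818) (tt N3451 D5203) (tt N2115 (iv F131681)) (tt N3446 (iv F25007)) (tt N3388 (iv F24753)))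
theorem Q2691 : ∀ i, i < 2691 → P i := stepQ 2690 Q2690 (allL N2690 (tt N2690 F19819) (tt N3203 (iv F23785)) (tt N3451 (iv F25038)) (tt N2047 F19820) (tt N3433 (iv F24959)) (tt N2690 F19821) (tt N2046 (iv D4152)) (tt N3452 D5204) (tt N3447 (iv F25010)) (tt N3389 (iv F24757)))
theorem Q2692 : ∀ i, i < 2692 → P i := stepQ 2691 Q2691 (allL N2691 (tt N2691 F19822) (tt N3204 (iv F23788)) (tt N2691 F19823) (tt N3452 (iv F25042)) (tt N2048 F19824) (tt N2691 F19825) (tt N3450 (iv F25034)) (tt N2047 (iv D4153)) (tt N3449 (iv F25019)) (tt N3390 (iv F24762)))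
theorem Q2693 : ∀ i, i < 2693 → P i := stepQ 2692 Q2692 (allL N2692 (tt N2692 F19876) (tt N2821 (iv F21988)) (tt N2692 F19877) (tt N3453 D5209) (tt N2052 (iv D4164)) (tt N3438 (iv F24974)) (tt N2692 F20364) (tt N2054 F19878) (tt N2692 F19879) (tt N2053 F19880))
theorem Q2694 : ∀ i, i < 2694 → P i := stepQ 2693 Q2693 (allL N2693 (tt N2693 F19886) (tt N2834 (iv F22059)) (tt N2120 F131331) (tt N2053 (iv D4166)) (tt N2693 F19887) (tt N3440 (iv F24981)) (tt N2693 F20360) (tt N2056 F19888) (tt N2058 F19889) (tt N3453 (iv F25068)))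
theorem Q2695 : ∀ i, i < 2695 → P i := stepQ 2694 Q2694 (allL N2694 (tt N2694 F19899) (tt N3208 (iv F23807)) (tt N3454 D5211) (tt N2054 (iv D4169)) (tt N2694 F19900) (tt N3443 (iv F24994)) (tt N3455 D5212) (tt N3453 (iv F25066)) (tt N2694 F19901) (tt N2056 F19902))
theorem Q2696 : ∀ i, i < 2696 → P i := stepQ 2695 Q2695 (allL N2695 (tt N2695 F19903) (tt N3209 (iv F23811)) (tt N2695 F19904) (tt N3455 (iv F25081)) (tt N2055 F19905) (tt N3456 D5213) (tt N2054 (iv D4170)) (tt N2695 F20363) (tt N2695 F19906) (tt N2057 F19907))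
theorem Q2697 : ∀ i, i < 2697 → P i := stepQ 2696 Q2696 (allL N2696 (tt N2696 F19914) (tt N3290 (iv F131698)) (tt N2056 (iv D4172)) (tt N2696 F19915) (tt N2696 F19916) (tt N3446 (iv F25006)) (tt N3457 D5215) (tt N2120 F131284) (tt N2059 F19917) (tt N3454 (iv F25079)))
theorem Q2698 : ∀ i, i < 2698 → P i := stepQ 2697 Q2697 (allL N2697 (tt N2697 F19918) (tt N3211 (iv F23818)) (tt N3457 (iv F25095)) (tt N2057 F19919) (tt N2697 F19920) (tt N3458 D5216) (tt N2056 (iv D4173)) (tt N2697 F20359) (tt N2060 F19921) (tt N3455 (iv F25085)))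
theorem Q2699 : ∀ i, i < 2699 → P i := stepQ 2698 Q2698 (allL N2698 (tt N2698 F19922) (tt N3212 (iv F23823)) (tt N2698 F19923) (tt N3458 (iv F25101)) (tt N2698 F19924) (tt N2057 (iv D4174)) (tt N3448 (iv F25014)) (tt N2698 F20366) (tt N2698 F19925) (tt N3456 (iv F25090)))
theorem Q2700 : ∀ i, i < 2700 → P i := stepQ 2699 Q2699 (allL N2699 (tt N2699 F19954) (tt N3289 F131285) (tt N2060 F19955) (tt N2699 F19956) (tt N2699 F19957) (tt N2699 F19958) (tt N2059 (iv D4181)) (tt N2699 F20356) (tt N3457 (iv F25099)) (tt N2699 F19959))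
theorem Q2701 : ∀ i, i < 2701 → P i := stepQ 2700 Q2700 (allL N2700 (tt N2067 F20397) (tt N2700 F20398) (tt N3215 (iv F23850)) (tt N2121 F20399) (tt N3034 (iv F23157)) (tt N2063 F20400) (tt N2700 F20401) (tt N3018 (iv F23076)) (tt N3459 D5222) (tt N2061 (iv D4189)))
theorem Q2702 : ∀ i, i < 2702 → P i := stepQ 2701 Q2701 (allL N2701 (tt N2068 F20402) (tt N2701 F20403) (tt N3216 (iv F23855)) (tt N2122 F20404) (tt N3335 (iv F24531)) (tt N3018 (iv F23074)) (tt N2701 F20405) (tt N2063 F20406) (tt N3460 D5223) (tt N2062 (iv D4190)))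
theorem Q2703 : ∀ i, i < 2703 → P i := stepQ 2702 Q2702 (allL N2702 (tt N2069 F20407) (tt N2702 F20408) (tt N3217 (iv F23860)) (tt N2123 F20409) (tt N3336 (iv F24537)) (tt N3461 D5224) (tt N2064 F20410) (tt N3460 (iv F25141)) (tt N2063 (iv D4191)) (tt N2102 F20411))
theorem Q2704 : ∀ i, i < 2704 → P i := stepQ 2703 Q2703 (allL N2703 (tt N2070 F20412) (tt N2703 F20413) (tt N3218 (iv F23865)) (tt N2124 F20414) (tt N3462 D5225) (tt N2064 (iv D4192)) (tt N2976 (iv F131719)) (tt N2703 F20415) (tt N2703 F20416) (tt N2103 F20417))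
theorem Q2705 : ∀ i, i < 2705 → P i := stepQ 2704 Q2704 (allL N2704 (tt N3034 (iv F23154)) (tt N2073 F20418) (tt N3219 (iv F23871)) (tt N2803 (iv F21890)) (tt N2067 F20419) (tt N3338 (iv F24547)) (tt N2704 F20420) (tt N2799 (iv F21868)) (tt N3463 D5227) (tt N2065 (iv D4193)))
theorem Q2706 : ∀ i, i < 2706 → P i := stepQ 2705 Q2705 (allL N2705 (tt N3018 (iv F23070)) (tt N2075 F20421) (tt N3220 (iv F23875)) (tt N2126 F20422) (tt N2799 (iv F21866)) (tt N2068 F20423) (tt N2792 (iv F21820)) (tt N2067 F20424) (tt N3464 D5228) (tt N2066 (iv D4194)))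
theorem Q2707 : ∀ i, i < 2707 → P i := stepQ 2706 Q2706 (allL N2706 (tt N3459 (iv F25132)) (tt N2076 F20425) (tt N3221 (iv F23880)) (tt N2127 F20426) (tt N3463 (iv F25158)) (tt N3465 D5229) (tt N2706 F20427) (tt N3464 (iv F25163)) (tt N2067 (iv D4195)) (tt N2706 F20428))
theorem Q2708 : ∀ i, i < 2708 → P i := stepQ 2707 Q2707 (allL N2707 (tt N3460 (iv F25137)) (tt N2077 F20429) (tt N3222 (iv F23885)) (tt N2128 F20430) (tt N3342 (iv F24559)) (tt N3466 D5230) (tt N2707 F20431) (tt N2069 F20432) (tt N2068 (iv D4196)) (tt N2104 F20433))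
theorem Q2709 : ∀ i, i < 2709 → P i := stepQ 2708 Q2708 (allL N2708 (tt N3461 (iv F25143)) (tt N2078 F20434) (tt N3223 (iv F23891)) (tt N2129 F20435) (tt N3467 D5231) (tt N2069 (iv D4197)) (tt N3258 (iv F131713)) (tt N3466 (iv F25171)) (tt N3465 (iv F25167)) (tt N2105 F20436))
theorem Q2710 : ∀ i, i < 2710 → P i := stepQ 2709 Q2709 (allL N2709 (tt N3462 (iv F25147)) (tt N2079 F20437) (tt N3224 (iv F23895)) (tt N3163 (iv F131686)) (tt N2070 (iv D4198)) (tt N3344 (iv F24567)) (tt N3162 (iv F131683)) (tt N2709 F20438) (tt N2709 F20439) (tt N2106 F20440))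
theorem Q2711 : ∀ i, i < 2711 → P i := stepQ 2710 Q2710 (allL N2710 (tt N2710 F20445) (tt N2803 (iv F21888)) (tt N2710 F20446) (tt N2073 F20447) (tt N2130 F20448) (tt N3318 (iv F24453)) (tt N2710 F20449) (tt N2779 (iv F21735)) (tt N3468 D5236) (tt N2071 (iv D4200)))
theorem Q2712 : ∀ i, i < 2712 → P i := stepQ 2711 Q2711 (allL N2711 (tt N2711 F20450) (tt N2799 (iv F21864)) (tt N2082 F20451) (tt N2779 (iv F21731)) (tt N2075 F20452) (tt N3346 (iv F24577)) (tt N2778 (iv F21726)) (tt N2073 F20453) (tt N3469 D5237) (tt N2072 (iv D4201)))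
theorem Q2713 : ∀ i, i < 2713 → P i := stepQ 2712 Q2712 (allL N2712 (tt N2712 F20454) (tt N3463 (iv F25157)) (tt N2083 F20455) (tt N3468 (iv F25195)) (tt N2076 F20456) (tt N3470 D5238) (tt N2712 F20457) (tt N3469 (iv F25202)) (tt N2073 (iv D4202)) (tt N2712 F20458))
theorem Q2714 : ∀ i, i < 2714 → P i := stepQ 2713 Q2713 (allL N2713 (tt N2713 F20459) (tt N2792 (iv F21816)) (tt N2084 F20460) (tt N2133 F20461) (tt N2778 (iv F21724)) (tt N2713 F20462) (tt N2075 F20463) (tt N2713 F20464) (tt N3471 D5239) (tt N2074 (iv D4203)))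
theorem Q2715 : ∀ i, i < 2715 → P i := stepQ 2714 Q2714 (allL N2714 (tt N2714 F20465) (tt N3464 (iv F25161)) (tt N2085 F20466) (tt N2134 F20467) (tt N3469 (iv F25201)) (tt N3472 D5240) (tt N3471 (iv F25210)) (tt N2076 F20468) (tt N2075 (iv D4204)) (tt N2714 F20469))
theorem Q2716 : ∀ i, i < 2716 → P i := stepQ 2715 Q2715 (allL N2715 (tt N2715 F20470) (tt N3465 (iv F25165)) (tt N2086 F20471) (tt N2135 F20472) (tt N3473 D5241) (tt N2076 (iv D4205)) (tt N3474 D5242) (tt N3472 (iv F25216)) (tt N2078 F20473) (tt N2715 F20474))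
theorem Q2717 : ∀ i, i < 2717 → P i := stepQ 2716 Q2716 (allL N2716 (tt N2716 F20475) (tt N3466 (iv F25169)) (tt N2087 F20476) (tt N2136 F20477) (tt N3475 D5243) (tt N2077 (iv D4206)) (tt N3476 D5244) (tt N2078 F20478) (tt N3472 (iv F25217)) (tt N2107 F20479))
theorem Q2718 : ∀ i, i < 2718 → P i := stepQ 2717 Q2717 (allL N2717 (tt N2717 F20480) (tt N3467 (iv F25173)) (tt N2088 F20481) (tt N3477 D5245) (tt N2078 (iv D4207)) (tt N3354 (iv F24616)) (tt N3478 D5246) (tt N3475 (iv F25231)) (tt N3473 (iv F25221)) (tt N2108 F20482))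
theorem Q2719 : ∀ i, i < 2719 → P i := stepQ 2718 Q2718 (allL N2718 (tt N2718 F20483) (tt N3258 (iv F131711)) (tt N2089 F20484) (tt N2096 (iv F131623)) (tt N3478 (iv F25243)) (tt N2080 F20486) (tt N2078 (iv D4208)) (tt N2098 (iv F131715)) (tt N3474 (iv F25227)) (tt N2109 F20487))
theorem Q2720 : ∀ i, i < 2720 → P i := stepQ 2719 Q2719 (allL N2719 (tt N2719 F20505) (tt N3238 (iv F23952)) (tt N2778 (iv F21722)) (tt N2719 F20506) (tt N2084 F20507) (tt N2783 (iv F21760)) (tt N2082 F20508) (tt N2719 F20509) (tt N3479 D5251) (tt N2081 (iv D4212)))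
theorem Q2721 : ∀ i, i < 2721 → P i := stepQ 2720 Q2720 (allL N2720 (tt N2720 F20510) (tt N3239 (iv F23957)) (tt N3469 (iv F25200)) (tt N2720 F20511) (tt N2085 F20512) (tt N3480 D5252) (tt N3479 (iv F25268)) (tt N2083 F20513) (tt N2082 (iv D4213)) (tt N2720 F20514))
theorem Q2722 : ∀ i, i < 2722 → P i := stepQ 2721 Q2721 (allL N2721 (tt N2721 F20515) (tt N3240 (iv F23962)) (tt N3470 (iv F25205)) (tt N2721 F20516) (tt N3481 D5253) (tt N2083 (iv D4214)) (tt N3482 D5254) (tt N3480 (iv F25273)) (tt N3361 (iv F24648)) (tt N2721 F20517))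
theorem Q2723 : ∀ i, i < 2723 → P i := stepQ 2722 Q2722 (allL N2722 (tt N2722 F20518) (tt N3241 (iv F23965)) (tt N3471 (iv F25208)) (tt N2092 F20519) (tt N3479 (iv F25267)) (tt N3483 D5255) (tt N2085 F20520) (tt N2722 F20521) (tt N2084 (iv D4215)) (tt N2722 F20522))
theorem Q2724 : ∀ i, i < 2724 → P i := stepQ 2723 Q2723 (allL N2723 (tt N2723 F20523) (tt N3242 (iv F23970)) (tt N3472 (iv F25214)) (tt N2093 F20524) (tt N3484 D5256) (tt N2085 (iv D4216)) (tt N3485 D5257) (tt N2086 F20525) (tt N2087 F20526) (tt N2723 F20527))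
theorem Q2725 : ∀ i, i < 2725 → P i := stepQ 2724 Q2724 (allL N2724 (tt N2724 F20528) (tt N3243 (iv F23975)) (tt N3473 (iv F25220)) (tt N3486 D5258) (tt N2086 (iv D4217)) (tt N3481 (iv F25276)) (tt N3487 D5259) (tt N3484 (iv F25288)) (tt N2088 F20529) (tt N2724 F20530))
theorem Q2726 : ∀ i, i < 2726 → P i := stepQ 2725 Q2725 (allL N2725 (tt N2725 F20531) (tt N3244 (iv F23978)) (tt N3474 (iv F25224)) (tt N2095 F20532) (tt N3487 (iv F25300)) (tt N2725 F20533) (tt N2086 (iv D4218)) (tt N3488 D5260) (tt N2089 F20534) (tt N2725 F20535))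
theorem Q2727 : ∀ i, i < 2727 → P i := stepQ 2726 Q2726 (allL N2726 (tt N2726 F20536) (tt N3245 (iv F23983)) (tt N3475 (iv F25230)) (tt N3478 F132142) (tt N2087 (iv D4219)) (tt N3368 (iv F24670)) (tt N3477 F132143) (tt N2088 F20537) (tt N3484 (iv F25289)) (tt N2110 F20538))
theorem Q2728 : ∀ i, i < 2728 → P i := stepQ 2727 Q2727 (allL N2727 (tt N2727 F20539) (tt N3246 (iv F23986)) (tt N3476 (iv F25234)) (tt N2097 F20540) (tt N3477 F132004) (tt N2727 F20541) (tt N2087 (iv D4220)) (tt N3489 D5263) (tt N3485 (iv F25293)) (tt N2111 F20542))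
theorem Q2729 : ∀ i, i < 2729 → P i := stepQ 2728 Q2728 (allL N2728 (tt N2728 F20543) (tt N3247 (iv F23990)) (tt N3490 D5264) (tt N2088 (iv D4221)) (tt N2098 F20544) (tt N3370 (iv F24679)) (tt N3491 D5265) (tt N3478 F132144) (tt N3486 (iv F25297)) (tt N2112 F20545))
theorem Q2730 : ∀ i, i < 2730 → P i := stepQ 2729 Q2729 (allL N2729 (tt N2729 F20546) (tt N3248 (iv F23993)) (tt N3478 (iv F25242)) (tt N3491 (iv F25324)) (tt N2089 F20547) (tt N3492 D5266) (tt N2088 (iv D4222)) (tt N3490 F132141) (tt N3487 (iv F25301)) (tt N2113 F20548))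
theorem Q2731 : ∀ i, i < 2731 → P i := stepQ 2730 Q2730 (allL N2730 (tt N2730 F20549) (tt N3249 (iv F23996)) (tt N2098 (iv F131714)) (tt N2100 F20550) (tt N3490 (iv F131717)) (tt N2091 F20551) (tt N3489 (iv F25318)) (tt N2089 (iv D4223)) (tt N3488 (iv F25306)) (tt N2114 F20552))
theorem Q2732 : ∀ i, i < 2732 → P i := stepQ 2731 Q2731 (allL N2731 (tt N2731 F20553) (tt N3250 (iv F24000)) (tt N3385 F132042) (tt N2731 F20554) (tt N3492 (iv F25328)) (tt N2090 (iv D4224)) (tt N3373 (iv F24690)) (tt N3388 F132043) (tt N3493 D5269) (tt N2115 F20555))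
theorem Q2733 : ∀ i, i < 2733 → P i := stepQ 2732 Q2732 (allL N2732 (tt N2732 F20562) (tt N3252 (iv F24009)) (tt N2146 F20563) (tt N3483 (iv F25283)) (tt N3494 D5270) (tt N2092 (iv D4226)) (tt N3495 D5271) (tt N2732 F20564) (tt N2732 F20565) (tt N2732 F20566))
theorem Q2734 : ∀ i, i < 2734 → P i := stepQ 2733 Q2733 (allL N2733 (tt N2733 F20567) (tt N3253 (iv F24014)) (tt N2143 F131988) (tt N3474 F131989) (tt N2093 (iv D4227)) (tt N2733 F20569) (tt N2135 F131990) (tt N2094 F20570) (tt N2096 F20571) (tt N2733 F20572))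
theorem Q2735 : ∀ i, i < 2735 → P i := stepQ 2734 Q2734 (allL N2734 (tt N2734 F20573) (tt N3254 (iv F24020)) (tt N2142 F131986) (tt N3485 (iv F25292)) (tt N2135 F131987) (tt N3495 (iv F25348)) (tt N2093 (iv D4228)) (tt N3496 D5274) (tt N2097 F20575) (tt N2734 F20576))
theorem Q2736 : ∀ i, i < 2736 → P i := stepQ 2735 Q2735 (allL N2735 (tt N2735 F20577) (tt N3255 (iv F24024)) (tt N3488 F132145) (tt N2094 (iv D4229)) (tt N3486 (iv F25296)) (tt N2735 F20578) (tt N3497 D5276) (tt N3474 F132146) (tt N2098 F20579) (tt N2735 F20580))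
theorem Q2737 : ∀ i, i < 2737 → P i := stepQ 2736 Q2736 (allL N2736 (tt N2736 F20581) (tt N3256 (iv F24028)) (tt N2148 F20582) (tt N3497 (iv F25372)) (tt N2095 F20583) (tt N3498 D5277) (tt N2094 (iv D4230)) (tt N3499 D5278) (tt N2099 F20584) (tt N2736 F20585))
theorem Q2738 : ∀ i, i < 2738 → P i := stepQ 2737 Q2737 (allL N2737 (tt N2737 F20586) (tt N3257 (iv F24033)) (tt N2147 F132003) (tt N3488 (iv F25304)) (tt N3499 (iv F25383)) (tt N2737 F20588) (tt N3496 (iv F25363)) (tt N2095 (iv D4231)) (tt N2100 F20589) (tt N2737 F20590))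
theorem Q2739 : ∀ i, i < 2739 → P i := stepQ 2738 Q2738 (allL N2738 (tt N2738 F20599) (tt N3259 (iv F24046)) (tt N2144 (iv F131621)) (tt N3489 (iv F25316)) (tt N2136 (iv F131614)) (tt N2738 F20601) (tt N2100 F20602) (tt N2097 (iv D4234)) (tt N3496 (iv F25364)) (tt N2116 F20603))
theorem Q2740 : ∀ i, i < 2740 → P i := stepQ 2739 Q2739 (allL N2739 (tt N2739 F20608) (tt N3261 (iv F24054)) (tt N3489 F132005) (tt N2099 F20609) (tt N3491 (iv F25325)) (tt N2739 F20610) (tt N2098 (iv D4236)) (tt N3476 F132006) (tt N3497 (iv F25373)) (tt N2117 F20611))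
theorem Q2741 : ∀ i, i < 2741 → P i := stepQ 2740 Q2740 (allL N2740 (tt N2740 F20612) (tt N3262 (iv F24058)) (tt N2145 (iv F131619)) (tt N3476 (iv F131718)) (tt N2100 F20614) (tt N2740 F20615) (tt N2136 (iv F131615)) (tt N2099 (iv D4237)) (tt N3499 (iv F25384)) (tt N2118 F20616))
theorem Q2742 : ∀ i, i < 2742 → P i := stepQ 2741 Q2741 (allL N2741 (tt N2104 F20636) (tt N2741 F20637) (tt N3263 (iv F24083)) (tt N2149 F20638) (tt N3395 (iv F24809)) (tt N3500 D5291) (tt N2741 F20639) (tt N2102 F20640) (tt N2101 (iv D4242)) (tt N3460 (iv F25142)))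
theorem Q2743 : ∀ i, i < 2743 → P i := stepQ 2742 Q2742 (allL N2742 (tt N2105 F20641) (tt N2742 F20642) (tt N3264 (iv F24088)) (tt N2150 F20643) (tt N3501 D5292) (tt N2102 (iv D4243)) (tt N2998 (iv F131723)) (tt N3500 (iv F25443)) (tt N2742 F20644) (tt N3461 (iv F25146)))
theorem Q2744 : ∀ i, i < 2744 → P i := stepQ 2743 Q2743 (allL N2743 (tt N2106 F20645) (tt N2743 F20646) (tt N3265 (iv F24092)) (tt N2926 (iv F131701)) (tt N2103 (iv D4244)) (tt N3397 (iv F24817)) (tt N2925 (iv F131700)) (tt N2743 F20647) (tt N2119 F20648) (tt N3462 (iv F25151)))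
theorem Q2745 : ∀ i, i < 2745 → P i := stepQ 2744 Q2744 (allL N2744 (tt N3500 (iv F25440)) (tt N2107 F20653) (tt N3266 (iv F24100)) (tt N2151 F20654) (tt N3502 D5297) (tt N2104 (iv D4246)) (tt N3287 (iv F131722)) (tt N2105 F20655) (tt N2744 F20656) (tt N3466 (iv F25172)))
theorem Q2746 : ∀ i, i < 2746 → P i := stepQ 2745 Q2745 (allL N2745 (tt N3501 (iv F25445)) (tt N2108 F20657) (tt N3267 (iv F24105)) (tt N3278 (iv F131729)) (tt N2105 (iv D4247)) (tt N3404 (iv F24844)) (tt N3277 (iv F131732)) (tt N3502 (iv F25468)) (tt N2745 F20658) (tt N3467 (iv F25174)))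
theorem Q2747 : ∀ i, i < 2747 → P i := stepQ 2746 Q2746 (allL N2746 (tt N2746 F20674) (tt N3502 (iv F25467)) (tt N2110 F20675) (tt N3503 D5306) (tt N2107 (iv D4252)) (tt N3413 (iv F24886)) (tt N3504 D5307) (tt N2108 F20676) (tt N2746 F20677) (tt N3475 (iv F25232)))
theorem Q2748 : ∀ i, i < 2748 → P i := stepQ 2747 Q2747 (allL N2747 (tt N2747 F20678) (tt N3287 (iv F131720)) (tt N2111 F20679) (tt N2118 (iv F131327)) (tt N3504 (iv F25503)) (tt N2747 F20681) (tt N2107 (iv D4253)) (tt N2117 (iv F131739)) (tt N2747 F20682) (tt N3476 (iv F25237)))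
theorem Q2749 : ∀ i, i < 2749 → P i := stepQ 2748 Q2748 (allL N2748 (tt N2748 F20683) (tt N3278 (iv F131728)) (tt N3504 (iv F131726)) (tt N2108 (iv D4254)) (tt N2111 (iv F131640)) (tt N3415 (iv F24894)) (tt N2110 (iv F131736)) (tt N3503 (iv F25499)) (tt N2748 F20685) (tt N3477 (iv F25240)))
theorem Q2750 : ∀ i, i < 2750 → P i := stepQ 2749 Q2749 (allL N2749 (tt N2749 F20686) (tt N3277 (iv F131730)) (tt N2113 F20687) (tt N2110 (iv F131735)) (tt N2109 F20688) (tt N3429 (iv F131677)) (tt N2108 (iv D4255)) (tt N2112 (iv F131737)) (tt N2749 F20689) (tt N3478 (iv F25244)))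
theorem Q2751 : ∀ i, i < 2751 → P i := stepQ 2750 Q2750 (allL N2750 (tt N2750 F20714) (tt N3279 (iv F24157)) (tt N2117 (iv F131738)) (tt N2116 F20715) (tt N3503 (iv F131733)) (tt N2750 F20716) (tt N2114 F20717) (tt N2111 (iv D4262)) (tt N2750 F20718) (tt N3489 (iv F25319)))
theorem Q2752 : ∀ i, i < 2752 → P i := stepQ 2751 Q2751 (allL N2751 (tt N2751 F20719) (tt N3283 (iv F131741)) (tt N2112 (iv D4263)) (tt N3504 (iv F131727)) (tt N2114 F131323) (tt N3432 (iv F24956)) (tt N3503 (iv F131724)) (tt N2113 (iv F131734)) (tt N2751 F20721) (tt N3490 (iv F25322)))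
theorem Q2753 : ∀ i, i < 2753 → P i := stepQ 2752 Q2752 (allL N2752 (tt N2752 F20722) (tt N3281 (iv F24164)) (tt N3503 F131740) (tt N2113 F20723) (tt N2117 F20724) (tt N3505 D5323) (tt N2112 (iv D4264)) (tt N3504 (iv F131725)) (tt N2752 F20725) (tt N3491 (iv F25326)))
theorem Q2754 : ∀ i, i < 2754 → P i := stepQ 2753 Q2753 (allL N2753 (tt N2753 F20726) (tt N3282 (iv F24168)) (tt N3429 F132075) (tt N3505 (iv F25562)) (tt N2115 F20727) (tt N2113 (iv D4265)) (tt N3434 (iv F24962)) (tt N3432 F132076) (tt N3506 D5326) (tt N3492 (iv F25329)))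
theorem Q2755 : ∀ i, i < 2755 → P i := stepQ 2754 Q2754 (allL N2754 (tt N2754 F20734) (tt N3285 (iv F24176)) (tt N3440 (iv F131682)) (tt N2754 F20735) (tt N3506 (iv F25572)) (tt N2120 F20736) (tt N3437 (iv F24971)) (tt N3446 (iv F131679)) (tt N2115 (iv D4268)) (tt N3507 D5329))
theorem Q2756 : ∀ i, i < 2756 → P i := stepQ 2755 Q2755 (allL N2755 (tt N2755 F20876) (tt N3291 (iv F24315)) (tt N3453 (iv F131744)) (tt N2755 F20877) (tt N2755 F20878) (tt N3507 (iv F25583)) (tt N2755 F20879) (tt N3454 (iv F131694)) (tt N2755 F20880) (tt N2120 (iv D4299)))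
theorem Q2757 : ∀ i, i < 2757 → P i := stepQ 2756 Q2756 (allL N2756 (tt N2127 F20881) (tt N2756 F20882) (tt N2756 F20883) (tt N3459 (iv F25134)) (tt N3022 (iv F23099)) (tt N3508 D5366) (tt N2756 F20884) (tt N3020 (iv F23087)) (tt N2121 (iv D4300)) (tt N2756 F20885))
theorem Q2758 : ∀ i, i < 2758 → P i := stepQ 2757 Q2757 (allL N2757 (tt N2128 F20886) (tt N2757 F20887) (tt N2757 F20888) (tt N3460 (iv F25139)) (tt N2757 F20889) (tt N3509 D5367) (tt N2757 F20890) (tt N2123 F20891) (tt N2122 (iv D4301)) (tt N2149 F20892))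
theorem Q2759 : ∀ i, i < 2759 → P i := stepQ 2758 Q2758 (allL N2758 (tt N2129 F20893) (tt N2758 F20894) (tt N2758 F20895) (tt N3461 (iv F25145)) (tt N2972 (iv F132539)) (tt N2123 (iv D4302)) (tt N2971 (iv F132540)) (tt N3509 (iv F25757)) (tt N3508 (iv F25752)) (tt N2150 F20896))
theorem Q2760 : ∀ i, i < 2760 → P i := stepQ 2759 Q2759 (allL N2759 (tt N3022 (iv F23095)) (tt N2132 F20909) (tt N2759 F20910) (tt N2806 (iv F21908)) (tt N2127 F20911) (tt N3510 D5373) (tt N2759 F20912) (tt N2794 (iv F21835)) (tt N2125 (iv D4305)) (tt N2759 F20913))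
theorem Q2761 : ∀ i, i < 2761 → P i := stepQ 2760 Q2760 (allL N2760 (tt N3020 (iv F23082)) (tt N2134 F20914) (tt N2760 F20915) (tt N3464 (iv F25162)) (tt N2794 (iv F21833)) (tt N3511 D5374) (tt N2793 (iv F21826)) (tt N2127 F20916) (tt N2126 (iv D4306)) (tt N2760 F20917))
theorem Q2762 : ∀ i, i < 2762 → P i := stepQ 2761 Q2761 (allL N2761 (tt N3508 (iv F25749)) (tt N2135 F20918) (tt N2761 F20919) (tt N3465 (iv F25166)) (tt N3254 (iv F132543)) (tt N2127 (iv D4307)) (tt N3253 (iv F132544)) (tt N3511 (iv F25793)) (tt N2129 F20920) (tt N2761 F20921))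
theorem Q2763 : ∀ i, i < 2763 → P i := stepQ 2762 Q2762 (allL N2762 (tt N3509 (iv F25754)) (tt N2136 F20922) (tt N2762 F20923) (tt N3466 (iv F25170)) (tt N3259 F131972) (tt N2128 (iv D4308)) (tt N3262 F131973) (tt N2129 F20924) (tt N3511 (iv F25794)) (tt N2151 F20925))
theorem Q2764 : ∀ i, i < 2764 → P i := stepQ 2763 Q2763 (allL N2763 (tt N2763 F20949) (tt N2806 (iv F21906)) (tt N2763 F20950) (tt N2132 F20951) (tt N3468 (iv F25196)) (tt N3512 D5386) (tt N2763 F20952) (tt N2781 (iv F21747)) (tt N2130 (iv D4314)) (tt N2763 F20953))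
theorem Q2765 : ∀ i, i < 2765 → P i := stepQ 2764 Q2764 (allL N2764 (tt N2764 F20954) (tt N2794 (iv F21830)) (tt N2138 F20955) (tt N2781 (iv F21745)) (tt N2134 F20956) (tt N3513 D5387) (tt N2777 (iv F21717)) (tt N2132 F20957) (tt N2131 (iv D4315)) (tt N2764 F20958))
theorem Q2766 : ∀ i, i < 2766 → P i := stepQ 2765 Q2765 (allL N2765 (tt N2765 F20959) (tt N3510 (iv F25787)) (tt N2139 F20960) (tt N3512 (iv F25847)) (tt N3495 (iv F132550)) (tt N2132 (iv D4316)) (tt N3494 (iv F132559)) (tt N3513 (iv F25853)) (tt N2765 F20961) (tt N2765 F20962))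
theorem Q2767 : ∀ i, i < 2767 → P i := stepQ 2766 Q2766 (allL N2766 (tt N2766 F20963) (tt N2793 (iv F21823)) (tt N2140 F20964) (tt N3471 (iv F25209)) (tt N2777 (iv F21715)) (tt N3514 D5390) (tt N2134 F20965) (tt N2766 F20966) (tt N2133 (iv D4317)) (tt N2766 F20967))
theorem Q2768 : ∀ i, i < 2768 → P i := stepQ 2767 Q2767 (allL N2767 (tt N2767 F20968) (tt N3511 (iv F25791)) (tt N2141 F20969) (tt N3472 (iv F25215)) (tt N3496 F131984) (tt N2134 (iv D4318)) (tt N3499 F131985) (tt N2135 F20970) (tt N2136 F20971) (tt N2767 F20972))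
theorem Q2769 : ∀ i, i < 2769 → P i := stepQ 2768 Q2768 (allL N2768 (tt N2768 F21017) (tt N2768 F21018) (tt N2777 (iv F21713)) (tt N2768 F21019) (tt N2140 F21020) (tt N2768 F21021) (tt N2138 F21022) (tt N2768 F21023) (tt N2137 (iv D4329)) (tt N2768 F21024))
theorem Q2770 : ∀ i, i < 2770 → P i := stepQ 2769 Q2769 (allL N2769 (tt N2769 F21025) (tt N2769 F21026) (tt N3513 (iv F25851)) (tt N2769 F21027) (tt N3515 D5407) (tt N2138 (iv D4330)) (tt N2769 F21028) (tt N2139 F21029) (tt N2769 F21030) (tt N2769 F21031))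
theorem Q2771 : ∀ i, i < 2771 → P i := stepQ 2770 Q2770 (allL N2770 (tt N2770 F21032) (tt N2770 F21033) (tt N3495 (iv F132549)) (tt N3516 D5408) (tt N2139 (iv D4331)) (tt N2142 F21034) (tt N2146 (iv F132557)) (tt N3515 (iv F25947)) (tt N2770 F21035) (tt N2770 F21036))
theorem Q2772 : ∀ i, i < 2772 → P i := stepQ 2771 Q2771 (allL N2771 (tt N2771 F21037) (tt N2771 F21038) (tt N3494 (iv F132558)) (tt N2771 F21039) (tt N2146 (iv F132556)) (tt N2771 F21040) (tt N2139 (iv D4332)) (tt N2771 F21041) (tt N2771 F21042) (tt N2771 F21043))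
theorem Q2773 : ∀ i, i < 2773 → P i := stepQ 2772 Q2772 (allL N2772 (tt N2772 F21044) (tt N2772 F21045) (tt N3514 (iv F25868)) (tt N2146 F21046) (tt N2772 F21047) (tt N2140 (iv D4333)) (tt N3516 F133066) (tt N2772 F21048) (tt N2772 F21049) (tt N2772 F21050))
theorem Q2774 : ∀ i, i < 2774 → P i := stepQ 2773 Q2773 (allL N2773 (tt N2773 F21051) (tt N2773 F21052) (tt N3496 F131996) (tt N2148 F131992) (tt N2141 (iv D4334)) (tt N3515 (iv F25945)) (tt N2147 F131993) (tt N2142 F21053) (tt N2144 F21054) (tt N2773 F21055))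
theorem Q2775 : ∀ i, i < 2775 → P i := stepQ 2774 Q2774 (allL N2774 (tt N2774 F21056) (tt N2774 F21057) (tt N3499 F131994) (tt N2142 F131997) (tt N2147 F131998) (tt N3516 (iv F132555)) (tt N2141 (iv D4335)) (tt N2148 F131995) (tt N2145 F21059) (tt N2774 F21060))
theorem Q2776 : ∀ i, i < 2776 → P i := stepQ 2775 Q2775 (allL N2775 (tt N2775 F21158) (tt N2775 F21159) (tt N3498 (iv F25376)) (tt N3515 (iv F132551)) (tt N2775 F21160) (tt N2148 (iv D4355)) (tt N2775 F21161) (tt N3516 (iv F132553)) (tt N2775 F21162) (tt N2775 F21163))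
theorem Q2777 : ∀ i, i < 2777 → P i := stepQ 2776 Q2776 (allL N2776 (tt N2151 F21226) (tt N2776 F21227) (tt N2776 F21228) (tt N3500 (iv F25442)) (tt N2999 (iv F132157)) (tt N2149 (iv D4369)) (tt N3002 (iv F132158)) (tt N2150 F21229) (tt N2776 F21230) (tt N3509 (iv F25758)))
theorem Q2778 : ∀ i, i < 2778 → P i := stepQ 2777 Q2777 (allL N2777 (tt N2777 F21711) (tt N2169 F21712) (tt N2768 F21713) (tt N2158 F21714) (tt N2766 F21715) (tt N2777 F21716) (tt N2764 F21717) (tt N2777 F21718) (tt N2153 (iv D4471)) (tt N2777 F21719))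
theorem Q2779 : ∀ i, i < 2779 → P i := stepQ 2778 Q2778 (allL N2778 (tt N2778 F21720) (tt N2172 F21721) (tt N2719 F21722) (tt N2156 F21723) (tt N2713 F21724) (tt N2160 F21725) (tt N2711 F21726) (tt N2778 F21727) (tt N3517 D5589) (tt N2154 (iv D4472)))
theorem Q2780 : ∀ i, i < 2780 → P i := stepQ 2779 Q2779 (allL N2779 (tt N2779 F21728) (tt N2175 F21729) (tt N2779 F21730) (tt N2711 F21731) (tt N2157 F21732) (tt N2627 F21733) (tt N2156 F21734) (tt N2710 F21735) (tt N3518 D5590) (tt N2155 (iv D4473)))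
theorem Q2781 : ∀ i, i < 2781 → P i := stepQ 2780 Q2780 (allL N2780 (tt N2780 F21736) (tt N2176 F21737) (tt N2780 F21738) (tt N3517 (iv F26821)) (tt N2158 F21739) (tt N3519 D5591) (tt N3518 (iv F26831)) (tt N2780 F21740) (tt N2156 (iv D4474)) (tt N2780 F21741))
theorem Q2782 : ∀ i, i < 2782 → P i := stepQ 2781 Q2781 (allL N2781 (tt N2781 F21742) (tt N2178 F21743) (tt N2781 F21744) (tt N2764 F21745) (tt N3518 (iv F26830)) (tt N3520 D5592) (tt N2158 F21746) (tt N2763 F21747) (tt N2157 (iv D4475)) (tt N2781 F21748))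
theorem Q2783 : ∀ i, i < 2783 → P i := stepQ 2782 Q2782 (allL N2782 (tt N3521 D5593) (tt N2159 (iv D4476)) (tt N2179 F21749) (tt N2782 F21750) (tt N2782 F21751) (tt N2504 F21752) (tt N2648 F21753) (tt N2782 F21754) (tt N2162 F21755) (tt N3522 D5594))
theorem Q2784 : ∀ i, i < 2784 → P i := stepQ 2783 Q2783 (allL N2783 (tt N2783 F21756) (tt N3522 (iv F26857)) (tt N2160 F21757) (tt N2783 F21758) (tt N2783 F21759) (tt N2719 F21760) (tt N2656 F21761) (tt N2783 F21762) (tt N3523 D5595) (tt N2159 (iv D4477)))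
theorem Q2785 : ∀ i, i < 2785 → P i := stepQ 2784 Q2784 (allL N2784 (tt N2784 F21763) (tt N2184 F21764) (tt N3523 (iv F26865)) (tt N2161 F21765) (tt N2784 F21766) (tt N3524 D5596) (tt N2666 F21767) (tt N2784 F21768) (tt N2160 (iv D4478)) (tt N2164 F21769))
theorem Q2786 : ∀ i, i < 2786 → P i := stepQ 2785 Q2785 (allL N2785 (tt N2785 F21770) (tt N2187 F21771) (tt N2785 F21772) (tt N3524 (iv F26873)) (tt N2785 F21773) (tt N2161 (iv D4479)) (tt N3525 D5597) (tt N2785 F21774) (tt N3519 (iv F26839)) (tt N2165 F21775))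
theorem Q2787 : ∀ i, i < 2787 → P i := stepQ 2786 Q2786 (allL N2786 (tt N2162 (iv D4480)) (tt N2786 F21776) (tt N2189 F21777) (tt N2786 F21778) (tt N2786 F21779) (tt N2786 F21780) (tt N2642 F21781) (tt N2786 F21782) (tt N3521 (iv F26856)) (tt N3526 D5598))
theorem Q2788 : ∀ i, i < 2788 → P i := stepQ 2787 Q2787 (allL N2787 (tt N3526 (iv F26882)) (tt N2163 F21783) (tt N2191 F21784) (tt N2787 F21785) (tt N2787 F21786) (tt N2787 F21787) (tt N2649 F21788) (tt N2787 F21789) (tt N3527 D5599) (tt N2162 (iv D4481)))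
theorem Q2789 : ∀ i, i < 2789 → P i := stepQ 2788 Q2788 (allL N2788 (tt N2788 F21790) (tt N3527 (iv F26890)) (tt N2164 F21791) (tt N2788 F21792) (tt N2788 F21793) (tt N3528 D5600) (tt N2657 F21794) (tt N2788 F21795) (tt N2163 (iv D4482)) (tt N3523 (iv F26870)))
theorem Q2790 : ∀ i, i < 2790 → P i := stepQ 2789 Q2789 (allL N2789 (tt N2789 F21796) (tt N2195 F21797) (tt N3528 (iv F26897)) (tt N2165 F21798) (tt N3529 D5601) (tt N2164 (iv D4483)) (tt N3530 D5602) (tt N2789 F21799) (tt N2789 F21800) (tt N3524 (iv F26875)))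
theorem Q2791 : ∀ i, i < 2791 → P i := stepQ 2790 Q2790 (allL N2790 (tt N2790 F21801) (tt N2197 F21802) (tt N2790 F21803) (tt N3530 (iv F26909)) (tt N2790 F21804) (tt N2680 F21805) (tt N2165 (iv D4484)) (tt N3531 D5603) (tt N2790 F21806) (tt N3525 (iv F26881)))
theorem Q2792 : ∀ i, i < 2792 → P i := stepQ 2791 Q2791 (allL N2791 (tt N2335 F21807) (tt N2497 F21808) (tt N2166 (iv D4485)) (tt N2791 F21809) (tt N2170 F21810) (tt N2791 F21811) (tt N2489 F21812) (tt N2791 F21813) (tt N2791 F21814) (tt N3532 D5604))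
theorem Q2793 : ∀ i, i < 2793 → P i := stepQ 2792 Q2792 (allL N2792 (tt N2337 F21815) (tt N2713 F21816) (tt N3532 (iv F26921)) (tt N2167 F21817) (tt N2172 F21818) (tt N2792 F21819) (tt N2705 F21820) (tt N2792 F21821) (tt N3533 D5605) (tt N2166 (iv D4486)))
theorem Q2794 : ∀ i, i < 2794 → P i := stepQ 2793 Q2793 (allL N2793 (tt N2339 F21822) (tt N2766 F21823) (tt N2793 F21824) (tt N3533 (iv F26929)) (tt N2169 F21825) (tt N3534 D5606) (tt N2760 F21826) (tt N2793 F21827) (tt N2167 (iv D4487)) (tt N2793 F21828))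
theorem Q2795 : ∀ i, i < 2795 → P i := stepQ 2794 Q2794 (allL N2794 (tt N2341 F21829) (tt N2764 F21830) (tt N2794 F21831) (tt N2178 F21832) (tt N2760 F21833) (tt N3535 D5607) (tt N2169 F21834) (tt N2759 F21835) (tt N2168 (iv D4488)) (tt N2794 F21836))
theorem Q2796 : ∀ i, i < 2796 → P i := stepQ 2795 Q2795 (allL N2795 (tt N3536 D5608) (tt N2170 (iv D4489)) (tt N2504 F21837) (tt N2200 F21838) (tt N2497 F21839) (tt N2179 F21840) (tt N2495 (iv F21843)) (tt N2795 F21841) (tt N2795 F21842) (tt N3537 D5609))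
theorem Q2797 : ∀ i, i < 2797 → P i := stepQ 2796 Q2796 (allL N2796 (tt N2343 F21844) (tt N2495 F21845) (tt N2171 F21846) (tt N2201 F21847) (tt N2489 F21848) (tt N3538 D5610) (tt N2170 (iv D4490)) (tt N2488 (iv F21850)) (tt N2796 F21849) (tt N3539 D5611))
theorem Q2798 : ∀ i, i < 2798 → P i := stepQ 2797 Q2797 (allL N2797 (tt N2344 F21851) (tt N3537 (iv F26957)) (tt N2172 F21852) (tt N2202 F21853) (tt N3532 (iv F26923)) (tt N2181 F21854) (tt N3539 (iv F26977)) (tt N2797 F21855) (tt N3540 D5612) (tt N2170 (iv D4491)))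
theorem Q2799 : ∀ i, i < 2799 → P i := stepQ 2798 Q2798 (allL N2798 (tt N2345 F21856) (tt N2603 F21857) (tt N3538 (iv F26966)) (tt N2173 F21858) (tt N2597 F21859) (tt N2171 (iv D4492)) (tt N2182 F21860) (tt N2596 F21861) (tt N2424 (iv F21862)) (tt N3541 D5613))
theorem Q2800 : ∀ i, i < 2800 → P i := stepQ 2799 Q2799 (allL N2799 (tt N2347 F21863) (tt N2711 F21864) (tt N3539 (iv F26974)) (tt N2175 F21865) (tt N2705 F21866) (tt N3541 (iv F26988)) (tt N2172 F21867) (tt N2704 F21868) (tt N3542 D5614) (tt N2171 (iv D4493)))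
theorem Q2801 : ∀ i, i < 2801 → P i := stepQ 2800 Q2800 (allL N2800 (tt N2348 F21869) (tt N3517 (iv F26819)) (tt N3540 (iv F26980)) (tt N2176 F21870) (tt N3533 (iv F26930)) (tt N3543 D5615) (tt N3542 (iv F26995)) (tt N2800 F21871) (tt N2172 (iv D4494)) (tt N2800 F21872))
theorem Q2802 : ∀ i, i < 2802 → P i := stepQ 2801 Q2801 (allL N2801 (tt N2349 F21873) (tt N2579 F21874) (tt N2207 F21875) (tt N2596 F21876) (tt N2801 F21877) (tt N2174 F21878) (tt N2399 F21879) (tt N2173 (iv D4495)) (tt N2398 F21880) (tt N3544 D5616))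
theorem Q2803 : ∀ i, i < 2803 → P i := stepQ 2802 Q2802 (allL N2802 (tt N2350 F21881) (tt N2627 F21882) (tt N2209 F21883) (tt N3541 (iv F26986)) (tt N2802 F21884) (tt N2175 F21885) (tt N2185 F21886) (tt N3544 (iv F27010)) (tt N3545 D5617) (tt N2173 (iv D4496)))
theorem Q2804 : ∀ i, i < 2804 → P i := stepQ 2803 Q2803 (allL N2803 (tt N2351 F21887) (tt N2710 F21888) (tt N2210 F21889) (tt N2704 F21890) (tt N2177 F21891) (tt N3544 (iv F27008)) (tt N2803 F21892) (tt N2175 F21893) (tt N3546 D5618) (tt N2174 (iv D4497)))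
theorem Q2805 : ∀ i, i < 2805 → P i := stepQ 2804 Q2804 (allL N2804 (tt N2352 F21894) (tt N3518 (iv F26827)) (tt N2211 F21895) (tt N3542 (iv F26993)) (tt N2178 F21896) (tt N3547 D5619) (tt N2176 F21897) (tt N3546 (iv F27023)) (tt N2175 (iv D4498)) (tt N2804 F21898))
theorem Q2806 : ∀ i, i < 2806 → P i := stepQ 2805 Q2805 (allL N2805 (tt N2353 F21899) (tt N3519 (iv F26835)) (tt N2212 F21900) (tt N3543 (iv F26999)) (tt N2805 F21901) (tt N2176 (iv D4499)) (tt N3548 D5620) (tt N2805 F21902) (tt N2187 F21903) (tt N2805 F21904))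
theorem Q2807 : ∀ i, i < 2807 → P i := stepQ 2806 Q2806 (allL N2806 (tt N2354 F21905) (tt N2763 F21906) (tt N2213 F21907) (tt N2759 F21908) (tt N3546 (iv F27021)) (tt N3549 D5621) (tt N2806 F21909) (tt N2178 F21910) (tt N2177 (iv D4500)) (tt N2806 F21911))
theorem Q2808 : ∀ i, i < 2808 → P i := stepQ 2807 Q2807 (allL N2807 (tt N2355 F21912) (tt N3520 (iv F26842)) (tt N2214 F21913) (tt N3535 (iv F26944)) (tt N3550 D5622) (tt N2178 (iv D4501)) (tt N2807 F21914) (tt N3549 (iv F27037)) (tt N2807 F21915) (tt N2807 F21916))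
theorem Q2809 : ∀ i, i < 2809 → P i := stepQ 2808 Q2808 (allL N2808 (tt N2179 (iv D4502)) (tt N2356 F21917) (tt N3521 (iv F26850)) (tt N2215 F21918) (tt N2808 F21919) (tt N3536 (iv F26953)) (tt N3551 D5623) (tt N2808 F21920) (tt N2189 F21921) (tt N3552 D5624))
theorem Q2810 : ∀ i, i < 2810 → P i := stepQ 2809 Q2809 (allL N2809 (tt N3551 (iv F27045)) (tt N2180 F21922) (tt N2648 F21923) (tt N2216 F21924) (tt N2809 F21925) (tt N3553 D5625) (tt N2179 (iv D4503)) (tt N2447 (iv F21927)) (tt N2190 F21926) (tt N3554 D5626))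
theorem Q2811 : ∀ i, i < 2811 → P i := stepQ 2810 Q2810 (allL N2810 (tt N3552 (iv F27052)) (tt N2181 F21928) (tt N3522 (iv F26858)) (tt N2217 F21929) (tt N2810 F21930) (tt N3537 (iv F26961)) (tt N3554 (iv F27068)) (tt N2810 F21931) (tt N3555 D5627) (tt N2179 (iv D4504)))
theorem Q2812 : ∀ i, i < 2812 → P i := stepQ 2811 Q2811 (allL N2811 (tt N2359 F21932) (tt N3553 (iv F27057)) (tt N2182 F21933) (tt N2218 F21934) (tt N3556 D5628) (tt N2180 (iv D4505)) (tt N3538 (iv F26969)) (tt N2416 F21935) (tt N2415 F21936) (tt N3557 D5629))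
theorem Q2813 : ∀ i, i < 2813 → P i := stepQ 2812 Q2812 (allL N2812 (tt N2360 F21937) (tt N3554 (iv F27064)) (tt N2183 F21938) (tt N2220 F21939) (tt N2812 F21940) (tt N3557 (iv F27085)) (tt N2181 F21941) (tt N2452 F21942) (tt N3558 D5630) (tt N2180 (iv D4506)))
theorem Q2814 : ∀ i, i < 2814 → P i := stepQ 2813 Q2813 (allL N2813 (tt N2361 F21943) (tt N3555 (iv F27070)) (tt N2184 F21944) (tt N2221 F21945) (tt N2813 F21946) (tt N3559 D5631) (tt N3558 (iv F27091)) (tt N2813 F21947) (tt N2181 (iv D4507)) (tt N2193 F21948))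
theorem Q2815 : ∀ i, i < 2815 → P i := stepQ 2814 Q2814 (allL N2814 (tt N2362 F21949) (tt N2605 F21950) (tt N3556 (iv F27077)) (tt N2814 F21951) (tt N2182 (iv D4508)) (tt N2814 F21952) (tt N2597 F21953) (tt N2422 F21954) (tt N2421 F21955) (tt N3560 D5632))
theorem Q2816 : ∀ i, i < 2816 → P i := stepQ 2815 Q2815 (allL N2815 (tt N2363 F21956) (tt N2618 F21957) (tt N3557 (iv F27083)) (tt N2185 F21958) (tt N3560 (iv F27102)) (tt N2183 F21959) (tt N3541 (iv F26989)) (tt N2426 F21960) (tt N3561 D5633) (tt N2182 (iv D4509)))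
theorem Q2817 : ∀ i, i < 2817 → P i := stepQ 2816 Q2816 (allL N2816 (tt N2364 F21961) (tt N2666 F21962) (tt N3558 (iv F27088)) (tt N2186 F21963) (tt N2816 F21964) (tt N3562 D5634) (tt N2184 F21965) (tt N2458 F21966) (tt N2183 (iv D4510)) (tt N2194 F21967))
theorem Q2818 : ∀ i, i < 2818 → P i := stepQ 2817 Q2817 (allL N2817 (tt N2365 F21968) (tt N3524 (iv F26872)) (tt N3559 (iv F27095)) (tt N2187 F21969) (tt N3563 D5635) (tt N2184 (iv D4511)) (tt N3564 D5636) (tt N2817 F21970) (tt N3543 (iv F27001)) (tt N2195 F21971))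
theorem Q2819 : ∀ i, i < 2819 → P i := stepQ 2818 Q2818 (allL N2818 (tt N2366 F21972) (tt N2629 F21973) (tt N2232 F21974) (tt N3561 (iv F27108)) (tt N2818 F21975) (tt N3565 D5637) (tt N3545 (iv F27015)) (tt N2434 F21976) (tt N2185 (iv D4512)) (tt N2433 F21977))
theorem Q2820 : ∀ i, i < 2820 → P i := stepQ 2819 Q2819 (allL N2819 (tt N2367 F21978) (tt N2678 F21979) (tt N2234 F21980) (tt N3562 (iv F27113)) (tt N3566 D5638) (tt N2186 (iv D4513)) (tt N3567 D5639) (tt N2465 F21981) (tt N3565 (iv F27128)) (tt N2196 F21982))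
theorem Q2821 : ∀ i, i < 2821 → P i := stepQ 2820 Q2820 (allL N2820 (tt N2368 F21983) (tt N3525 (iv F26877)) (tt N2235 F21984) (tt N3564 (iv F27122)) (tt N2820 F21985) (tt N3567 (iv F27139)) (tt N2187 (iv D4514)) (tt N3568 D5640) (tt N3548 (iv F27031)) (tt N2197 F21986))
theorem Q2822 : ∀ i, i < 2822 → P i := stepQ 2821 Q2821 (allL N2821 (tt N2369 F21987) (tt N2692 F21988) (tt N2237 F21989) (tt N3569 D5641) (tt N2188 (iv D4515)) (tt N3566 (iv F27133)) (tt N2821 F21990) (tt N2476 F21991) (tt N2821 F21992) (tt N2198 F21993))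
theorem Q2823 : ∀ i, i < 2823 → P i := stepQ 2822 Q2822 (allL N2822 (tt N2190 F21994) (tt N2370 F21995) (tt N2642 F21996) (tt N2238 F21997) (tt N2822 F21998) (tt N2444 (iv F21999)) (tt N2189 (iv D4516)) (tt N2443 (iv F22000)) (tt N3551 (iv F27050)) (tt N3570 D5642))
theorem Q2824 : ∀ i, i < 2824 → P i := stepQ 2823 Q2823 (allL N2823 (tt N2191 F22001) (tt N2371 F22002) (tt N3526 (iv F26884)) (tt N2239 F22003) (tt N2823 F22004) (tt N2823 F22005) (tt N3570 (iv F27159)) (tt N2823 F22006) (tt N3571 D5643) (tt N2189 (iv D4517)))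
theorem Q2825 : ∀ i, i < 2825 → P i := stepQ 2824 Q2824 (allL N2824 (tt N3570 (iv F27153)) (tt N2192 F22007) (tt N2649 F22008) (tt N2242 F22009) (tt N2824 F22010) (tt N2449 F22011) (tt N2191 F22012) (tt N2448 F22013) (tt N3572 D5644) (tt N2190 (iv D4518)))
theorem Q2826 : ∀ i, i < 2826 → P i := stepQ 2825 Q2825 (allL N2825 (tt N3571 (iv F27161)) (tt N2193 F22014) (tt N3527 (iv F26891)) (tt N2243 F22015) (tt N2825 F22016) (tt N3573 D5645) (tt N3572 (iv F27170)) (tt N2825 F22017) (tt N2191 (iv D4519)) (tt N3555 (iv F27074)))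
theorem Q2827 : ∀ i, i < 2827 → P i := stepQ 2826 Q2826 (allL N2826 (tt N2374 F22018) (tt N3572 (iv F27166)) (tt N2194 F22019) (tt N2247 F22020) (tt N2826 F22021) (tt N3574 D5646) (tt N2193 F22022) (tt N2453 F22023) (tt N2192 (iv D4520)) (tt N3558 (iv F27093)))
theorem Q2828 : ∀ i, i < 2828 → P i := stepQ 2827 Q2827 (allL N2827 (tt N2375 F22024) (tt N3573 (iv F27172)) (tt N2195 F22025) (tt N2248 F22026) (tt N3575 D5647) (tt N2193 (iv D4521)) (tt N3576 D5648) (tt N2827 F22027) (tt N2827 F22028) (tt N3559 (iv F27098)))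
theorem Q2829 : ∀ i, i < 2829 → P i := stepQ 2828 Q2828 (allL N2828 (tt N2376 F22029) (tt N2667 F22030) (tt N3574 (iv F27177)) (tt N2196 F22031) (tt N3577 D5649) (tt N2194 (iv D4522)) (tt N3578 D5650) (tt N2459 F22032) (tt N2460 F22033) (tt N3562 (iv F27115)))
theorem Q2830 : ∀ i, i < 2830 → P i := stepQ 2829 Q2829 (allL N2829 (tt N2377 F22034) (tt N3529 (iv F26902)) (tt N3575 (iv F27182)) (tt N2829 F22035) (tt N2195 (iv D4523)) (tt N2829 F22036) (tt N3579 D5651) (tt N2829 F22037) (tt N2829 F22038) (tt N3563 (iv F27120)))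
theorem Q2831 : ∀ i, i < 2831 → P i := stepQ 2830 Q2830 (allL N2830 (tt N2378 F22039) (tt N3530 (iv F26908)) (tt N3576 (iv F27187)) (tt N2197 F22040) (tt N3579 (iv F27202)) (tt N3578 (iv F27198)) (tt N2195 (iv D4524)) (tt N3580 D5652) (tt N2830 F22041) (tt N3564 (iv F27123)))
theorem Q2832 : ∀ i, i < 2832 → P i := stepQ 2831 Q2831 (allL N2831 (tt N2379 F22042) (tt N2679 F22043) (tt N2258 F22044) (tt N3581 D5653) (tt N2196 (iv D4525)) (tt N2198 F22045) (tt N3582 D5654) (tt N2466 F22046) (tt N2468 F22047) (tt N3566 (iv F27135)))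
theorem Q2833 : ∀ i, i < 2833 → P i := stepQ 2832 Q2832 (allL N2832 (tt N2380 F22048) (tt N2680 F22049) (tt N2259 F22050) (tt N3578 (iv F27197)) (tt N3582 (iv F27216)) (tt N2197 F22051) (tt N2196 (iv D4526)) (tt N3583 D5655) (tt N2469 F22052) (tt N3567 (iv F27140)))
theorem Q2834 : ∀ i, i < 2834 → P i := stepQ 2833 Q2833 (allL N2833 (tt N2381 F22053) (tt N3531 (iv F26913)) (tt N2260 F22054) (tt N3580 (iv F27205)) (tt N2833 F22055) (tt N3583 (iv F27222)) (tt N2833 F22056) (tt N2197 (iv D4527)) (tt N2833 F22057) (tt N3568 (iv F27145)))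
theorem Q2835 : ∀ i, i < 2835 → P i := stepQ 2834 Q2834 (allL N2834 (tt N2382 F22058) (tt N2693 F22059) (tt N3584 D5656) (tt N2198 (iv D4528)) (tt N2834 F22060) (tt N3581 (iv F27210)) (tt N2834 F22061) (tt N2478 F22062) (tt N2199 F22063) (tt N3569 (iv F27152)))
theorem Q2836 : ∀ i, i < 2836 → P i := stepQ 2835 Q2835 (allL N2835 (tt N2383 F22064) (tt N2554 F131105) (tt N2199 (iv D4529)) (tt N2271 F22065) (tt N2835 F22066) (tt N2482 F22067) (tt N2835 F22068) (tt N2480 F22069) (tt N3584 (iv F27230)) (tt N2835 F22070))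
theorem Q2837 : ∀ i, i < 2837 → P i := stepQ 2836 Q2836 (allL N2836 (tt N2200 (iv D4530)) (tt N2384 F22071) (tt N2836 F22072) (tt N3536 (iv F26951)) (tt N2836 F22073) (tt N2215 F22074) (tt N3585 D5658) (tt N2836 F22075) (tt N2836 F22076) (tt N3586 D5659))
theorem Q2838 : ∀ i, i < 2838 → P i := stepQ 2837 Q2837 (allL N2837 (tt N3585 (iv F27238)) (tt N2201 F22077) (tt N2837 F22078) (tt N2495 F22079) (tt N2837 F22080) (tt N3587 D5660) (tt N2200 (iv D4531)) (tt N2494 (iv F22082)) (tt N2837 F22081) (tt N3588 D5661))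
theorem Q2839 : ∀ i, i < 2839 → P i := stepQ 2838 Q2838 (allL N2838 (tt N3586 (iv F27245)) (tt N2202 F22083) (tt N2838 F22084) (tt N3537 (iv F26959)) (tt N2838 F22085) (tt N2217 F22086) (tt N3588 (iv F27260)) (tt N2838 F22087) (tt N3589 D5662) (tt N2200 (iv D4532)))
theorem Q2840 : ∀ i, i < 2840 → P i := stepQ 2839 Q2839 (allL N2839 (tt N2387 F22088) (tt N3587 (iv F27251)) (tt N2203 F22089) (tt N3538 (iv F26967)) (tt N3590 D5663) (tt N2201 (iv D4533)) (tt N2218 F22090) (tt N3591 D5664) (tt N3592 D5665) (tt N3593 D5666))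
theorem Q2841 : ∀ i, i < 2841 → P i := stepQ 2840 Q2840 (allL N2840 (tt N2388 F22091) (tt N2494 F22092) (tt N2204 F22093) (tt N2488 F22094) (tt N2840 F22095) (tt N3591 (iv F27275)) (tt N2840 F22096) (tt N2201 (iv D4534)) (tt N2840 F22097) (tt N3594 D5667))
theorem Q2842 : ∀ i, i < 2842 → P i := stepQ 2841 Q2841 (allL N2841 (tt N2389 F22098) (tt N3588 (iv F27256)) (tt N2205 F22099) (tt N3539 (iv F26975)) (tt N2841 F22100) (tt N3593 (iv F27283)) (tt N2202 F22101) (tt N3594 (iv F27291)) (tt N3595 D5668) (tt N2201 (iv D4535)))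
theorem Q2843 : ∀ i, i < 2843 → P i := stepQ 2842 Q2842 (allL N2842 (tt N2390 F22102) (tt N3589 (iv F27262)) (tt N2206 F22103) (tt N3540 (iv F26981)) (tt N2842 F22104) (tt N3596 D5669) (tt N3595 (iv F27295)) (tt N2842 F22105) (tt N2202 (iv D4536)) (tt N2842 F22106))
theorem Q2844 : ∀ i, i < 2844 → P i := stepQ 2843 Q2843 (allL N2843 (tt N2391 F22107) (tt N2843 F22108) (tt N3590 (iv F27268)) (tt N2843 F22109) (tt N2203 (iv D4537)) (tt N2843 F22110) (tt N2222 F22111) (tt N3597 D5670) (tt N3598 D5671) (tt N3599 D5672))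
theorem Q2845 : ∀ i, i < 2845 → P i := stepQ 2844 Q2844 (allL N2844 (tt N2392 F22112) (tt N2844 F22113) (tt N3591 (iv F27273)) (tt N2207 F22114) (tt N3597 (iv F27305)) (tt N2204 F22115) (tt N3600 D5673) (tt N2203 (iv D4538)) (tt N3601 D5674) (tt N3602 D5675))
theorem Q2846 : ∀ i, i < 2846 → P i := stepQ 2845 Q2845 (allL N2845 (tt N2393 F22116) (tt N2845 F22117) (tt N3592 (iv F27277)) (tt N2208 F22118) (tt N3598 (iv F27312)) (tt N2845 F22119) (tt N2224 F22120) (tt N3601 (iv F27335)) (tt N2203 (iv D4539)) (tt N3603 D5676))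
theorem Q2847 : ∀ i, i < 2847 → P i := stepQ 2846 Q2846 (allL N2846 (tt N2394 F22121) (tt N2846 F22122) (tt N3593 (iv F27282)) (tt N2209 F22123) (tt N3599 (iv F27319)) (tt N2205 F22124) (tt N2225 F22125) (tt N3602 (iv F27340)) (tt N3604 D5677) (tt N2203 (iv D4540)))
theorem Q2848 : ∀ i, i < 2848 → P i := stepQ 2847 Q2847 (allL N2847 (tt N2395 F22126) (tt N2847 F22127) (tt N3594 (iv F27287)) (tt N2210 F22128) (tt N2847 F22129) (tt N3602 (iv F27339)) (tt N2847 F22130) (tt N2205 F22131) (tt N3605 D5678) (tt N2204 (iv D4541)))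
theorem Q2849 : ∀ i, i < 2849 → P i := stepQ 2848 Q2848 (allL N2848 (tt N2396 F22132) (tt N2848 F22133) (tt N3595 (iv F27293)) (tt N2211 F22134) (tt N2848 F22135) (tt N3606 D5679) (tt N2206 F22136) (tt N3605 (iv F27355)) (tt N2205 (iv D4542)) (tt N2848 F22137))
theorem Q2850 : ∀ i, i < 2850 → P i := stepQ 2849 Q2849 (allL N2849 (tt N2397 F22138) (tt N2849 F22139) (tt N3596 (iv F27298)) (tt N2212 F22140) (tt N3607 D5680) (tt N2206 (iv D4543)) (tt N3608 D5681) (tt N2849 F22141) (tt N2228 F22142) (tt N2849 F22143))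
theorem Q2851 : ∀ i, i < 2851 → P i := stepQ 2850 Q2850 (allL N2850 (tt N2398 F22144) (tt N2850 F22145) (tt N2399 F22146) (tt N3600 (iv F27324)) (tt N2850 F22147) (tt N2850 F22148) (tt N2207 (iv D4544)) (tt N2229 F22149) (tt N2349 (iv F22150)) (tt N3609 D5682))
theorem Q2852 : ∀ i, i < 2852 → P i := stepQ 2851 Q2851 (allL N2851 (tt N2399 F22151) (tt N2851 F22152) (tt N2398 F22153) (tt N3601 (iv F27331)) (tt N2851 F22154) (tt N2851 F22155) (tt N2349 F22156) (tt N2208 F22157) (tt N2207 (iv D4545)) (tt N3610 D5683))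
theorem Q2853 : ∀ i, i < 2853 → P i := stepQ 2852 Q2852 (allL N2852 (tt N2400 F22158) (tt N2852 F22159) (tt N3544 (iv F27005)) (tt N3602 (iv F27338)) (tt N2852 F22160) (tt N2210 F22161) (tt N3609 (iv F27378)) (tt N2209 F22162) (tt N3611 D5684) (tt N2207 (iv D4546)))
theorem Q2854 : ∀ i, i < 2854 → P i := stepQ 2853 Q2853 (allL N2853 (tt N2401 F22163) (tt N2853 F22164) (tt N2432 F22165) (tt N3603 (iv F27343)) (tt N2853 F22166) (tt N2853 F22167) (tt N2231 F22168) (tt N3610 (iv F27386)) (tt N3612 D5685) (tt N2208 (iv D4547)))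
theorem Q2855 : ∀ i, i < 2855 → P i := stepQ 2854 Q2854 (allL N2854 (tt N2402 F22169) (tt N2854 F22170) (tt N3545 (iv F27013)) (tt N3604 (iv F27348)) (tt N2854 F22171) (tt N3613 D5686) (tt N2232 F22172) (tt N3611 (iv F27390)) (tt N2209 (iv D4548)) (tt N3612 (iv F27396)))
theorem Q2856 : ∀ i, i < 2856 → P i := stepQ 2855 Q2855 (allL N2855 (tt N2403 F22173) (tt N2855 F22174) (tt N3546 (iv F27019)) (tt N3605 (iv F27352)) (tt N2213 F22175) (tt N3614 D5687) (tt N2855 F22176) (tt N2211 F22177) (tt N2210 (iv D4549)) (tt N2855 F22178))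
theorem Q2857 : ∀ i, i < 2857 → P i := stepQ 2856 Q2856 (allL N2856 (tt N2404 F22179) (tt N2856 F22180) (tt N3547 (iv F27026)) (tt N3606 (iv F27359)) (tt N3615 D5688) (tt N2211 (iv D4550)) (tt N3616 D5689) (tt N3614 (iv F27402)) (tt N3613 (iv F27399)) (tt N2856 F22181))
theorem Q2858 : ∀ i, i < 2858 → P i := stepQ 2857 Q2857 (allL N2857 (tt N2405 F22182) (tt N2857 F22183) (tt N3548 (iv F27029)) (tt N3608 (iv F27370)) (tt N2857 F22184) (tt N3616 (iv F27410)) (tt N2212 (iv D4551)) (tt N3617 D5690) (tt N2235 F22185) (tt N2857 F22186))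
theorem Q2859 : ∀ i, i < 2859 → P i := stepQ 2858 Q2858 (allL N2858 (tt N2406 F22187) (tt N2858 F22188) (tt N3549 (iv F27035)) (tt N2858 F22189) (tt N3618 D5691) (tt N2213 (iv D4552)) (tt N3619 D5692) (tt N2214 F22190) (tt N2858 F22191) (tt N2858 F22192))
theorem Q2860 : ∀ i, i < 2860 → P i := stepQ 2859 Q2859 (allL N2859 (tt N2407 F22193) (tt N2859 F22194) (tt N3550 (iv F27041)) (tt N3620 D5693) (tt N2214 (iv D4553)) (tt N3615 (iv F27406)) (tt N2859 F22195) (tt N3618 (iv F27420)) (tt N2859 F22196) (tt N2859 F22197))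
theorem Q2861 : ∀ i, i < 2861 → P i := stepQ 2860 Q2860 (allL N2860 (tt N2216 F22198) (tt N2408 F22199) (tt N2860 F22200) (tt N3551 (iv F27048)) (tt N2272 F22201) (tt N3621 D5694) (tt N2215 (iv D4554)) (tt N3622 D5695) (tt N2238 F22202) (tt N3623 D5696))
theorem Q2862 : ∀ i, i < 2862 → P i := stepQ 2861 Q2861 (allL N2861 (tt N2217 F22203) (tt N2409 F22204) (tt N2861 F22205) (tt N3552 (iv F27054)) (tt N2273 F22206) (tt N3586 (iv F27249)) (tt N3623 (iv F27450)) (tt N2861 F22207) (tt N3624 D5697) (tt N2215 (iv D4555)))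
theorem Q2863 : ∀ i, i < 2863 → P i := stepQ 2862 Q2862 (allL N2862 (tt N3621 (iv F27436)) (tt N2218 F22208) (tt N2862 F22209) (tt N3553 (iv F27059)) (tt N3625 D5698) (tt N2216 (iv D4556)) (tt N3587 (iv F27254)) (tt N3626 D5699) (tt N3627 D5700) (tt N3628 D5701))
theorem Q2864 : ∀ i, i < 2864 → P i := stepQ 2863 Q2863 (allL N2863 (tt N3622 (iv F27439)) (tt N2219 F22210) (tt N2863 F22211) (tt N2447 F22212) (tt N2275 F22213) (tt N3626 (iv F27463)) (tt N2863 F22214) (tt N2216 (iv D4557)) (tt N2241 F22215) (tt N3629 D5702))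
theorem Q2865 : ∀ i, i < 2865 → P i := stepQ 2864 Q2864 (allL N2864 (tt N3623 (iv F27446)) (tt N2220 F22216) (tt N2864 F22217) (tt N3554 (iv F27066)) (tt N2276 F22218) (tt N3628 (iv F27472)) (tt N2217 F22219) (tt N3629 (iv F27478)) (tt N3630 D5703) (tt N2216 (iv D4558)))
theorem Q2866 : ∀ i, i < 2866 → P i := stepQ 2865 Q2865 (allL N2865 (tt N3624 (iv F27451)) (tt N2221 F22220) (tt N2865 F22221) (tt N3555 (iv F27071)) (tt N2277 F22222) (tt N3631 D5704) (tt N3630 (iv F27482)) (tt N2865 F22223) (tt N2217 (iv D4559)) (tt N2243 F22224))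
theorem Q2867 : ∀ i, i < 2867 → P i := stepQ 2866 Q2866 (allL N2866 (tt N2414 F22225) (tt N3625 (iv F27457)) (tt N2222 F22226) (tt N3632 D5705) (tt N2218 (iv D4560)) (tt N2278 F22227) (tt N3590 (iv F27270)) (tt N3633 D5706) (tt N3634 D5707) (tt N3635 D5708))
theorem Q2868 : ∀ i, i < 2868 → P i := stepQ 2867 Q2867 (allL N2867 (tt N2415 F22228) (tt N3626 (iv F27460)) (tt N2223 F22229) (tt N2416 F22230) (tt N3633 (iv F27493)) (tt N2219 F22231) (tt N3636 D5709) (tt N2218 (iv D4561)) (tt N2359 (iv F22232)) (tt N3637 D5710))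
theorem Q2869 : ∀ i, i < 2869 → P i := stepQ 2868 Q2868 (allL N2868 (tt N2416 F22233) (tt N3627 (iv F27465)) (tt N2224 F22234) (tt N2415 F22235) (tt N3634 (iv F27498)) (tt N2244 F22236) (tt N3592 (iv F27280)) (tt N2359 F22237) (tt N2218 (iv D4562)) (tt N3638 D5711))
theorem Q2870 : ∀ i, i < 2870 → P i := stepQ 2869 Q2869 (allL N2869 (tt N2417 F22238) (tt N3628 (iv F27470)) (tt N2225 F22239) (tt N3557 (iv F27084)) (tt N3635 (iv F27503)) (tt N2220 F22240) (tt N3593 (iv F27284)) (tt N3637 (iv F27514)) (tt N3639 D5712) (tt N2218 (iv D4563)))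
theorem Q2871 : ∀ i, i < 2871 → P i := stepQ 2870 Q2870 (allL N2870 (tt N2418 F22241) (tt N3629 (iv F27473)) (tt N2226 F22242) (tt N2452 F22243) (tt N2281 F22244) (tt N3637 (iv F27513)) (tt N2870 F22245) (tt N2220 F22246) (tt N3640 D5713) (tt N2219 (iv D4564)))
theorem Q2872 : ∀ i, i < 2872 → P i := stepQ 2871 Q2871 (allL N2871 (tt N2419 F22247) (tt N3630 (iv F27479)) (tt N2227 F22248) (tt N3558 (iv F27089)) (tt N2282 F22249) (tt N3641 D5714) (tt N2221 F22250) (tt N3640 (iv F27527)) (tt N2220 (iv D4565)) (tt N2247 F22251))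
theorem Q2873 : ∀ i, i < 2873 → P i := stepQ 2872 Q2872 (allL N2872 (tt N2420 F22252) (tt N3631 (iv F27484)) (tt N2228 F22253) (tt N3559 (iv F27096)) (tt N3642 D5715) (tt N2221 (iv D4566)) (tt N3643 D5716) (tt N2872 F22254) (tt N3596 (iv F27300)) (tt N2248 F22255))
theorem Q2874 : ∀ i, i < 2874 → P i := stepQ 2873 Q2873 (allL N2873 (tt N2421 F22256) (tt N2873 F22257) (tt N3633 (iv F27492)) (tt N2873 F22258) (tt N2223 F22259) (tt N2284 F22260) (tt N3644 D5717) (tt N2222 (iv D4567)) (tt N2362 (iv F22261)) (tt N3645 D5718))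
theorem Q2875 : ∀ i, i < 2875 → P i := stepQ 2874 Q2874 (allL N2874 (tt N2422 F22262) (tt N2874 F22263) (tt N3634 (iv F27497)) (tt N2874 F22264) (tt N2224 F22265) (tt N2874 F22266) (tt N3598 (iv F27313)) (tt N2362 F22267) (tt N2222 (iv D4568)) (tt N3646 D5719))
theorem Q2876 : ∀ i, i < 2876 → P i := stepQ 2875 Q2875 (allL N2875 (tt N2423 F22268) (tt N2875 F22269) (tt N3635 (iv F27502)) (tt N2875 F22270) (tt N2225 F22271) (tt N2285 F22272) (tt N3599 (iv F27321)) (tt N3645 (iv F27552)) (tt N3647 D5720) (tt N2222 (iv D4569)))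
theorem Q2877 : ∀ i, i < 2877 → P i := stepQ 2876 Q2876 (allL N2876 (tt N2424 F22273) (tt N2876 F22274) (tt N3636 (iv F27506)) (tt N2229 F22275) (tt N3644 (iv F27543)) (tt N2876 F22276) (tt N2223 (iv D4570)) (tt N3600 (iv F27327)) (tt N2345 F22277) (tt N3648 D5721))
theorem Q2878 : ∀ i, i < 2878 → P i := stepQ 2877 Q2877 (allL N2877 (tt N2425 F22278) (tt N2877 F22279) (tt N3637 (iv F27511)) (tt N2230 F22280) (tt N3645 (iv F27550)) (tt N2226 F22281) (tt N3648 (iv F27567)) (tt N2225 F22282) (tt N3649 D5722) (tt N2223 (iv D4571)))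
theorem Q2879 : ∀ i, i < 2879 → P i := stepQ 2878 Q2878 (allL N2878 (tt N2426 F22283) (tt N2878 F22284) (tt N3638 (iv F27516)) (tt N2231 F22285) (tt N3646 (iv F27556)) (tt N2249 F22286) (tt N3603 (iv F27345)) (tt N2363 F22287) (tt N3650 D5723) (tt N2224 (iv D4572)))
theorem Q2880 : ∀ i, i < 2880 → P i := stepQ 2879 Q2879 (allL N2879 (tt N2427 F22288) (tt N2879 F22289) (tt N3639 (iv F27521)) (tt N2232 F22290) (tt N3647 (iv F27562)) (tt N3651 D5724) (tt N3604 (iv F27349)) (tt N3649 (iv F27571)) (tt N2225 (iv D4573)) (tt N3650 (iv F27577)))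
theorem Q2881 : ∀ i, i < 2881 → P i := stepQ 2880 Q2880 (allL N2880 (tt N2428 F22291) (tt N2880 F22292) (tt N3640 (iv F27523)) (tt N2233 F22293) (tt N2289 F22294) (tt N3652 D5725) (tt N2880 F22295) (tt N2227 F22296) (tt N2226 (iv D4574)) (tt N2251 F22297))
theorem Q2882 : ∀ i, i < 2882 → P i := stepQ 2881 Q2881 (allL N2881 (tt N2429 F22298) (tt N2881 F22299) (tt N3641 (iv F27530)) (tt N2234 F22300) (tt N3653 D5726) (tt N2227 (iv D4575)) (tt N3654 D5727) (tt N3652 (iv F27585)) (tt N3651 (iv F27581)) (tt N2252 F22301))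
theorem Q2883 : ∀ i, i < 2883 → P i := stepQ 2882 Q2882 (allL N2882 (tt N2430 F22302) (tt N2882 F22303) (tt N3642 (iv F27533)) (tt N2882 F22304) (tt N2228 (iv D4576)) (tt N2291 F22305) (tt N3655 D5728) (tt N2882 F22306) (tt N3607 (iv F27366)) (tt N2253 F22307))
theorem Q2884 : ∀ i, i < 2884 → P i := stepQ 2883 Q2883 (allL N2883 (tt N2431 F22308) (tt N2883 F22309) (tt N3643 (iv F27538)) (tt N2235 F22310) (tt N3655 (iv F27599)) (tt N3654 (iv F27594)) (tt N2228 (iv D4577)) (tt N3656 D5729) (tt N3608 (iv F27371)) (tt N2254 F22311))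
theorem Q2885 : ∀ i, i < 2885 → P i := stepQ 2884 Q2884 (allL N2884 (tt N2432 F22312) (tt N2884 F22313) (tt N2401 F22314) (tt N3648 (iv F27565)) (tt N2884 F22315) (tt N2884 F22316) (tt N2230 F22317) (tt N3609 (iv F27379)) (tt N3657 D5730) (tt N2229 (iv D4578)))
theorem Q2886 : ∀ i, i < 2886 → P i := stepQ 2885 Q2885 (allL N2885 (tt N2433 F22318) (tt N2885 F22319) (tt N2434 F22320) (tt N3649 (iv F27570)) (tt N2885 F22321) (tt N3658 D5731) (tt N3657 (iv F27610)) (tt N2232 F22322) (tt N2230 (iv D4579)) (tt N2366 F22323))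
theorem Q2887 : ∀ i, i < 2887 → P i := stepQ 2886 Q2886 (allL N2886 (tt N2434 F22324) (tt N2886 F22325) (tt N2433 F22326) (tt N3650 (iv F27575)) (tt N2886 F22327) (tt N3659 D5732) (tt N3612 (iv F27395)) (tt N2366 F22328) (tt N2231 (iv D4580)) (tt N2232 F22329))
theorem Q2888 : ∀ i, i < 2888 → P i := stepQ 2887 Q2887 (allL N2887 (tt N2435 F22330) (tt N2887 F22331) (tt N3565 (iv F27126)) (tt N3651 (iv F27580)) (tt N3660 D5733) (tt N2232 (iv D4581)) (tt N3661 D5734) (tt N3658 (iv F27615)) (tt N2234 F22332) (tt N3659 (iv F27623)))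
theorem Q2889 : ∀ i, i < 2889 → P i := stepQ 2888 Q2888 (allL N2888 (tt N2436 F22333) (tt N2888 F22334) (tt N2465 F22335) (tt N3652 (iv F27584)) (tt N3662 D5735) (tt N2233 (iv D4582)) (tt N3663 D5736) (tt N2234 F22336) (tt N3658 (iv F27616)) (tt N2257 F22337))
theorem Q2890 : ∀ i, i < 2890 → P i := stepQ 2889 Q2889 (allL N2889 (tt N2437 F22338) (tt N2889 F22339) (tt N3566 (iv F27132)) (tt N3664 D5737) (tt N2234 (iv D4583)) (tt N2237 F22340) (tt N3665 D5738) (tt N3662 (iv F27635)) (tt N3660 (iv F27627)) (tt N2258 F22341))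
theorem Q2891 : ∀ i, i < 2891 → P i := stepQ 2890 Q2890 (allL N2890 (tt N2438 F22342) (tt N2890 F22343) (tt N3567 (iv F27138)) (tt N3654 (iv F27593)) (tt N3665 (iv F27648)) (tt N2235 F22344) (tt N2234 (iv D4584)) (tt N3666 D5739) (tt N3661 (iv F27630)) (tt N2259 F22345))
theorem Q2892 : ∀ i, i < 2892 → P i := stepQ 2891 Q2891 (allL N2891 (tt N2439 F22346) (tt N2891 F22347) (tt N3568 (iv F27142)) (tt N3656 (iv F27603)) (tt N2891 F22348) (tt N3666 (iv F27653)) (tt N2891 F22349) (tt N2235 (iv D4585)) (tt N3617 (iv F27416)) (tt N2260 F22350))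
theorem Q2893 : ∀ i, i < 2893 → P i := stepQ 2892 Q2892 (allL N2892 (tt N2440 F22351) (tt N2892 F22352) (tt N2476 F22353) (tt N3667 D5740) (tt N2236 (iv D4586)) (tt N3662 (iv F27634)) (tt N3668 D5741) (tt N2237 F22354) (tt N2892 F22355) (tt N2261 F22356))
theorem Q2894 : ∀ i, i < 2894 → P i := stepQ 2893 Q2893 (allL N2893 (tt N2441 F22357) (tt N2893 F22358) (tt N2477 F22359) (tt N2301 F22360) (tt N3668 (iv F27664)) (tt N2893 F22361) (tt N2236 (iv D4587)) (tt N2893 F22362) (tt N2893 F22363) (tt N2262 F22364))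
theorem Q2895 : ∀ i, i < 2895 → P i := stepQ 2894 Q2894 (allL N2894 (tt N2442 F22365) (tt N2894 F22366) (tt N3669 D5742) (tt N2237 (iv D4588)) (tt N2302 F22367) (tt N3664 (iv F27644)) (tt N2894 F22368) (tt N3667 (iv F27658)) (tt N2894 F22369) (tt N2263 F22370))
theorem Q2896 : ∀ i, i < 2896 → P i := stepQ 2895 Q2895 (allL N2895 (tt N2240 F22371) (tt N2443 F22372) (tt N2895 F22373) (tt N2444 F22374) (tt N2895 F22375) (tt N2238 (iv D4589)) (tt N2895 F22376) (tt N2370 (iv F22377)) (tt N3670 D5743) (tt N3671 D5744))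
theorem Q2897 : ∀ i, i < 2897 → P i := stepQ 2896 Q2896 (allL N2896 (tt N2241 F22378) (tt N2444 F22379) (tt N2896 F22380) (tt N2443 F22381) (tt N2303 F22382) (tt N2370 F22383) (tt N2896 F22384) (tt N2238 (iv D4590)) (tt N3622 (iv F27445)) (tt N3672 D5745))
theorem Q2898 : ∀ i, i < 2898 → P i := stepQ 2897 Q2897 (allL N2897 (tt N2242 F22385) (tt N2445 F22386) (tt N2897 F22387) (tt N3570 (iv F27156)) (tt N2304 F22388) (tt N3671 (iv F27685)) (tt N2239 F22389) (tt N3672 (iv F27695)) (tt N3673 D5746) (tt N2238 (iv D4591)))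
theorem Q2899 : ∀ i, i < 2899 → P i := stepQ 2898 Q2898 (allL N2898 (tt N2243 F22390) (tt N2446 F22391) (tt N2898 F22392) (tt N3571 (iv F27163)) (tt N2305 F22393) (tt N3674 D5747) (tt N3673 (iv F27700)) (tt N2898 F22394) (tt N2239 (iv D4592)) (tt N3624 (iv F27456)))
theorem Q2900 : ∀ i, i < 2900 → P i := stepQ 2899 Q2899 (allL N2899 (tt N3670 (iv F27673)) (tt N2244 F22395) (tt N2899 F22396) (tt N2411 F22397) (tt N2899 F22398) (tt N3627 (iv F27468)) (tt N2899 F22399) (tt N2357 F22400) (tt N2240 (iv D4593)) (tt N3675 D5748))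
theorem Q2901 : ∀ i, i < 2901 → P i := stepQ 2900 Q2900 (allL N2900 (tt N3671 (iv F27680)) (tt N2245 F22401) (tt N2900 F22402) (tt N2449 F22403) (tt N2900 F22404) (tt N2242 F22405) (tt N2900 F22406) (tt N2372 F22407) (tt N3676 D5749) (tt N2240 (iv D4594)))
theorem Q2902 : ∀ i, i < 2902 → P i := stepQ 2901 Q2901 (allL N2901 (tt N3672 (iv F27688)) (tt N2246 F22408) (tt N2901 F22409) (tt N2448 F22410) (tt N2306 F22411) (tt N2372 F22412) (tt N2901 F22413) (tt N2242 F22414) (tt N3677 D5750) (tt N2241 (iv D4595)))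
theorem Q2903 : ∀ i, i < 2903 → P i := stepQ 2902 Q2902 (allL N2902 (tt N3673 (iv F27696)) (tt N2247 F22415) (tt N2902 F22416) (tt N3572 (iv F27168)) (tt N2307 F22417) (tt N3678 D5751) (tt N2243 F22418) (tt N3677 (iv F27723)) (tt N2242 (iv D4596)) (tt N3630 (iv F27483)))
theorem Q2904 : ∀ i, i < 2904 → P i := stepQ 2903 Q2903 (allL N2903 (tt N3674 (iv F27701)) (tt N2248 F22419) (tt N2903 F22420) (tt N3573 (iv F27173)) (tt N3679 D5752) (tt N2243 (iv D4597)) (tt N3680 D5753) (tt N2903 F22421) (tt N2903 F22422) (tt N3631 (iv F27487)))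
theorem Q2905 : ∀ i, i < 2905 → P i := stepQ 2904 Q2904 (allL N2904 (tt N2452 F22423) (tt N3675 (iv F27706)) (tt N2249 F22424) (tt N2418 F22425) (tt N2904 F22426) (tt N3638 (iv F27518)) (tt N2904 F22427) (tt N2360 F22428) (tt N3681 D5754) (tt N2244 (iv D4598)))
theorem Q2906 : ∀ i, i < 2906 → P i := stepQ 2905 Q2905 (allL N2905 (tt N2453 F22429) (tt N3676 (iv F27712)) (tt N2250 F22430) (tt N2454 F22431) (tt N2905 F22432) (tt N3682 D5755) (tt N2905 F22433) (tt N2374 F22434) (tt N2245 (iv D4599)) (tt N3681 (iv F27740)))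
theorem Q2907 : ∀ i, i < 2907 → P i := stepQ 2906 Q2906 (allL N2906 (tt N2454 F22435) (tt N3677 (iv F27718)) (tt N2251 F22436) (tt N2453 F22437) (tt N2309 F22438) (tt N3683 D5756) (tt N2906 F22439) (tt N2247 F22440) (tt N2246 (iv D4600)) (tt N3640 (iv F27528)))
theorem Q2908 : ∀ i, i < 2908 → P i := stepQ 2907 Q2907 (allL N2907 (tt N2455 F22441) (tt N3678 (iv F27724)) (tt N2252 F22442) (tt N3574 (iv F27178)) (tt N3684 D5757) (tt N2247 (iv D4601)) (tt N3685 D5758) (tt N3683 (iv F27749)) (tt N3682 (iv F27745)) (tt N3641 (iv F27531)))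
theorem Q2909 : ∀ i, i < 2909 → P i := stepQ 2908 Q2908 (allL N2908 (tt N2456 F22443) (tt N3679 (iv F27726)) (tt N2253 F22444) (tt N3686 D5759) (tt N2248 (iv D4602)) (tt N2311 F22445) (tt N3687 D5760) (tt N2908 F22446) (tt N2908 F22447) (tt N3642 (iv F27536)))
theorem Q2910 : ∀ i, i < 2910 → P i := stepQ 2909 Q2909 (allL N2909 (tt N2457 F22448) (tt N3680 (iv F27731)) (tt N2254 F22449) (tt N3576 (iv F27188)) (tt N3687 (iv F27764)) (tt N3685 (iv F27756)) (tt N2248 (iv D4603)) (tt N3688 D5761) (tt N2909 F22450) (tt N3643 (iv F27539)))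
theorem Q2911 : ∀ i, i < 2911 → P i := stepQ 2910 Q2910 (allL N2910 (tt N2458 F22451) (tt N2910 F22452) (tt N3681 (iv F27735)) (tt N2255 F22453) (tt N2910 F22454) (tt N3689 D5762) (tt N2910 F22455) (tt N2364 F22456) (tt N2249 (iv D4604)) (tt N2250 F22457))
theorem Q2912 : ∀ i, i < 2912 → P i := stepQ 2911 Q2911 (allL N2911 (tt N2459 F22458) (tt N2911 F22459) (tt N3682 (iv F27742)) (tt N2256 F22460) (tt N3690 D5763) (tt N2250 (iv D4605)) (tt N3691 D5764) (tt N2376 F22461) (tt N2252 F22462) (tt N3689 (iv F27774)))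
theorem Q2913 : ∀ i, i < 2913 → P i := stepQ 2912 Q2912 (allL N2912 (tt N2460 F22463) (tt N2912 F22464) (tt N3683 (iv F27747)) (tt N2257 F22465) (tt N3692 D5765) (tt N2251 (iv D4606)) (tt N3693 D5766) (tt N2252 F22466) (tt N2376 F22467) (tt N3652 (iv F27586)))
theorem Q2914 : ∀ i, i < 2914 → P i := stepQ 2913 Q2913 (allL N2913 (tt N2461 F22468) (tt N2913 F22469) (tt N3684 (iv F27752)) (tt N3694 D5767) (tt N2252 (iv D4607)) (tt N2314 F22470) (tt N3695 D5768) (tt N3692 (iv F27788)) (tt N3690 (iv F27779)) (tt N3653 (iv F27590)))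
theorem Q2915 : ∀ i, i < 2915 → P i := stepQ 2914 Q2914 (allL N2914 (tt N2462 F22471) (tt N2914 F22472) (tt N3685 (iv F27755)) (tt N2259 F22473) (tt N3695 (iv F27801)) (tt N2254 F22474) (tt N2252 (iv D4608)) (tt N3696 D5769) (tt N3691 (iv F27784)) (tt N3654 (iv F27595)))
theorem Q2916 : ∀ i, i < 2916 → P i := stepQ 2915 Q2915 (allL N2915 (tt N2463 F22475) (tt N2915 F22476) (tt N3687 (iv F27763)) (tt N2915 F22477) (tt N2254 F22478) (tt N3697 D5770) (tt N2253 (iv D4609)) (tt N3698 D5771) (tt N2915 F22479) (tt N3655 (iv F27600)))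
theorem Q2917 : ∀ i, i < 2917 → P i := stepQ 2916 Q2916 (allL N2916 (tt N2464 F22480) (tt N2916 F22481) (tt N3688 (iv F27767)) (tt N2260 F22482) (tt N3698 (iv F27813)) (tt N3696 (iv F27805)) (tt N2916 F22483) (tt N2254 (iv D4610)) (tt N2916 F22484) (tt N3656 (iv F27605)))
theorem Q2918 : ∀ i, i < 2918 → P i := stepQ 2917 Q2917 (allL N2917 (tt N2465 F22485) (tt N2917 F22486) (tt N2436 F22487) (tt N3689 (iv F27772)) (tt N3699 D5772) (tt N2255 (iv D4611)) (tt N3700 D5773) (tt N2367 F22488) (tt N3659 (iv F27622)) (tt N2256 F22489))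
theorem Q2919 : ∀ i, i < 2919 → P i := stepQ 2918 Q2918 (allL N2918 (tt N2466 F22490) (tt N2918 F22491) (tt N2468 F22492) (tt N3701 D5774) (tt N2256 (iv D4612)) (tt N2265 F22493) (tt N3702 D5775) (tt N2379 F22494) (tt N2258 F22495) (tt N3699 (iv F27821)))
theorem Q2920 : ∀ i, i < 2920 → P i := stepQ 2919 Q2919 (allL N2919 (tt N2467 F22496) (tt N2919 F22497) (tt N2469 F22498) (tt N3691 (iv F27782)) (tt N3702 (iv F27835)) (tt N2919 F22499) (tt N2256 (iv D4613)) (tt N3703 D5776) (tt N2259 F22500) (tt N3700 (iv F27826)))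
theorem Q2921 : ∀ i, i < 2921 → P i := stepQ 2920 Q2920 (allL N2920 (tt N2468 F22501) (tt N2920 F22502) (tt N2466 F22503) (tt N3704 D5777) (tt N2257 (iv D4614)) (tt N2261 F22504) (tt N3705 D5778) (tt N2258 F22505) (tt N2379 F22506) (tt N3662 (iv F27636)))
theorem Q2922 : ∀ i, i < 2922 → P i := stepQ 2921 Q2921 (allL N2921 (tt N2469 F22507) (tt N2921 F22508) (tt N2467 F22509) (tt N3693 (iv F27792)) (tt N3705 (iv F27851)) (tt N2921 F22510) (tt N2257 (iv D4615)) (tt N3706 D5779) (tt N2380 F22511) (tt N3663 (iv F27641)))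
theorem Q2923 : ∀ i, i < 2923 → P i := stepQ 2922 Q2922 (allL N2922 (tt N2470 F22512) (tt N2922 F22513) (tt N3707 D5780) (tt N2258 (iv D4616)) (tt N3694 (iv F27797)) (tt N2263 F22514) (tt N3708 D5781) (tt N3704 (iv F27846)) (tt N3701 (iv F27831)) (tt N3664 (iv F27645)))
theorem Q2924 : ∀ i, i < 2924 → P i := stepQ 2923 Q2923 (allL N2923 (tt N2471 F22515) (tt N2923 F22516) (tt N3582 (iv F27215)) (tt N3708 (iv F27863)) (tt N2259 F22517) (tt N2923 F22518) (tt N2258 (iv D4617)) (tt N3709 D5782) (tt N3702 (iv F27836)) (tt N3665 (iv F27650)))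
theorem Q2925 : ∀ i, i < 2925 → P i := stepQ 2924 Q2924 (allL N2924 (tt N2472 F22519) (tt N2924 F22520) (tt N3583 (iv F27221)) (tt N3696 (iv F27804)) (tt N3709 (iv F27867)) (tt N2260 F22521) (tt N3706 (iv F27857)) (tt N2259 (iv D4618)) (tt N3703 (iv F27842)) (tt N3666 (iv F27654)))
theorem Q2926 : ∀ i, i < 2926 → P i := stepQ 2925 Q2925 (allL N2925 (tt N2473 F22522) (tt N2925 F22523) (tt N3710 D5783) (tt N2261 (iv D4619)) (tt N2323 F22524) (tt N3704 (iv F27845)) (tt N2743 F131700) (tt N2263 F22525) (tt N2269 F22526) (tt N3667 (iv F27660)))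
theorem Q2927 : ∀ i, i < 2927 → P i := stepQ 2926 Q2926 (allL N2926 (tt N2474 F22527) (tt N2926 F22528) (tt N2479 F22529) (tt N2743 F131701) (tt N2262 F22530) (tt N3711 D5785) (tt N2261 (iv D4620)) (tt N2926 F22531) (tt N2270 F22532) (tt N3668 (iv F27667)))
theorem Q2928 : ∀ i, i < 2928 → P i := stepQ 2927 Q2927 (allL N2927 (tt N2475 F22533) (tt N3712 D5786) (tt N2263 (iv D4621)) (tt N3584 (iv F27226)) (tt N2324 F22534) (tt N3707 (iv F27860)) (tt N2927 F22535) (tt N3710 (iv F27872)) (tt N2271 F22536) (tt N3669 (iv F27672)))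
theorem Q2929 : ∀ i, i < 2929 → P i := stepQ 2928 Q2928 (allL N2928 (tt N2476 F22537) (tt N2928 F22538) (tt N2440 F22539) (tt N3713 D5787) (tt N2264 (iv D4622)) (tt N3699 (iv F27819)) (tt N3714 D5788) (tt N2369 F22540) (tt N2928 F22541) (tt N2265 F22542))
theorem Q2930 : ∀ i, i < 2930 → P i := stepQ 2929 Q2929 (allL N2929 (tt N2477 F22543) (tt N2929 F22544) (tt N2441 F22545) (tt N2929 F22546) (tt N3714 (iv F27899)) (tt N2929 F22547) (tt N2264 (iv D4623)) (tt N2929 F22548) (tt N2929 F22549) (tt N2266 F22550))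
theorem Q2931 : ∀ i, i < 2931 → P i := stepQ 2930 Q2930 (allL N2930 (tt N2478 F22551) (tt N2930 F22552) (tt N3715 D5789) (tt N2265 (iv D4624)) (tt N2930 F22553) (tt N3701 (iv F27829)) (tt N3716 D5790) (tt N2382 F22554) (tt N2267 F22555) (tt N3713 (iv F27895)))
theorem Q2932 : ∀ i, i < 2932 → P i := stepQ 2931 Q2931 (allL N2931 (tt N2479 F22556) (tt N2931 F22557) (tt N2474 F22558) (tt N3716 (iv F27910)) (tt N2266 F22559) (tt N3717 D5791) (tt N2265 (iv D4625)) (tt N2931 F22560) (tt N2268 F22561) (tt N3714 (iv F27902)))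
theorem Q2933 : ∀ i, i < 2933 → P i := stepQ 2932 Q2932 (allL N2932 (tt N2480 F22562) (tt N2553 F131103) (tt N2267 (iv D4626)) (tt N2482 F22563) (tt N2932 F22564) (tt N2271 F22565) (tt N2552 F131104) (tt N2383 F22566) (tt N3715 (iv F27907)) (tt N2932 F22567))
theorem Q2934 : ∀ i, i < 2934 → P i := stepQ 2933 Q2933 (allL N2933 (tt N2481 F22568) (tt N2933 F22569) (tt N2552 F131155) (tt N2268 F22570) (tt N2933 F22571) (tt N2933 F22572) (tt N2267 (iv D4627)) (tt N2933 F22573) (tt N3716 (iv F27913)) (tt N2933 F22574))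
theorem Q2935 : ∀ i, i < 2935 → P i := stepQ 2934 Q2934 (allL N2934 (tt N2482 F22575) (tt N3718 D5794) (tt N2269 (iv D4628)) (tt N2480 F22576) (tt N2325 F22577) (tt N2383 F22578) (tt N2551 F131100) (tt N2271 F22579) (tt N3710 (iv F27873)) (tt N2934 F22580))
theorem Q2936 : ∀ i, i < 2936 → P i := stepQ 2935 Q2935 (allL N2935 (tt N3719 D5796) (tt N2271 (iv D4630)) (tt N2935 F22588) (tt N2554 F131152) (tt N2326 F22589) (tt N2553 F131153) (tt N2935 F22590) (tt N3718 (iv F27937)) (tt N3712 (iv F27889)) (tt N2935 F22591))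
theorem Q2937 : ∀ i, i < 2937 → P i := stepQ 2936 Q2936 (allL N2936 (tt N2274 F22592) (tt N2484 F22593) (tt N2936 F22594) (tt N2936 F22595) (tt N3720 D5797) (tt N2272 (iv D4631)) (tt N2936 F22596) (tt N3721 D5798) (tt N2936 F22597) (tt N3722 D5799))
theorem Q2938 : ∀ i, i < 2938 → P i := stepQ 2937 Q2937 (allL N2937 (tt N2275 F22598) (tt N2485 F22599) (tt N2937 F22600) (tt N2937 F22601) (tt N3622 (iv F27443)) (tt N3721 (iv F27963)) (tt N2937 F22602) (tt N2272 (iv D4632)) (tt N2303 F22603) (tt N3723 D5800))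
theorem Q2939 : ∀ i, i < 2939 → P i := stepQ 2938 Q2938 (allL N2938 (tt N2276 F22604) (tt N2486 F22605) (tt N2938 F22606) (tt N2938 F22607) (tt N3623 (iv F27449)) (tt N3722 (iv F27970)) (tt N2273 F22608) (tt N3723 (iv F27977)) (tt N3724 D5801) (tt N2272 (iv D4633)))
theorem Q2940 : ∀ i, i < 2940 → P i := stepQ 2939 Q2939 (allL N2939 (tt N2277 F22609) (tt N2487 F22610) (tt N2939 F22611) (tt N2939 F22612) (tt N3624 (iv F27454)) (tt N3725 D5802) (tt N3724 (iv F27982)) (tt N2939 F22613) (tt N2273 (iv D4634)) (tt N2305 F22614))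
theorem Q2941 : ∀ i, i < 2941 → P i := stepQ 2940 Q2940 (allL N2940 (tt N3720 (iv F27951)) (tt N2278 F22615) (tt N2940 F22616) (tt N3726 D5803) (tt N2274 (iv D4635)) (tt N3625 (iv F27459)) (tt N2940 F22617) (tt N3727 D5804) (tt N2940 F22618) (tt N3728 D5805))
theorem Q2942 : ∀ i, i < 2942 → P i := stepQ 2941 Q2941 (allL N2941 (tt N3721 (iv F27958)) (tt N2279 F22619) (tt N2941 F22620) (tt N2941 F22621) (tt N3727 (iv F28002)) (tt N2275 F22622) (tt N3729 D5806) (tt N2274 (iv D4636)) (tt N2941 F22623) (tt N3730 D5807))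
theorem Q2943 : ∀ i, i < 2943 → P i := stepQ 2942 Q2942 (allL N2942 (tt N3722 (iv F27966)) (tt N2280 F22624) (tt N2942 F22625) (tt N2942 F22626) (tt N3728 (iv F28007)) (tt N2276 F22627) (tt N2942 F22628) (tt N3730 (iv F28021)) (tt N3731 D5808) (tt N2274 (iv D4637)))
theorem Q2944 : ∀ i, i < 2944 → P i := stepQ 2943 Q2943 (allL N2943 (tt N3723 (iv F27972)) (tt N2281 F22629) (tt N2943 F22630) (tt N2943 F22631) (tt N3629 (iv F27476)) (tt N3730 (iv F28020)) (tt N2943 F22632) (tt N2276 F22633) (tt N3732 D5809) (tt N2275 (iv D4638)))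
theorem Q2945 : ∀ i, i < 2945 → P i := stepQ 2944 Q2944 (allL N2944 (tt N3724 (iv F27978)) (tt N2282 F22634) (tt N2944 F22635) (tt N2944 F22636) (tt N3630 (iv F27481)) (tt N3733 D5810) (tt N2277 F22637) (tt N3732 (iv F28031)) (tt N2276 (iv D4639)) (tt N2307 F22638))
theorem Q2946 : ∀ i, i < 2946 → P i := stepQ 2945 Q2945 (allL N2945 (tt N3725 (iv F27984)) (tt N2283 F22639) (tt N2945 F22640) (tt N2945 F22641) (tt N3734 D5811) (tt N2277 (iv D4640)) (tt N3735 D5812) (tt N2945 F22642) (tt N2945 F22643) (tt N2308 F22644))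
theorem Q2947 : ∀ i, i < 2947 → P i := stepQ 2946 Q2946 (allL N2946 (tt N2494 F22645) (tt N3726 (iv F27992)) (tt N2946 F22646) (tt N2278 (iv D4641)) (tt N2946 F22647) (tt N3632 (iv F27490)) (tt N2946 F22648) (tt N3585 (iv F27244)) (tt N2946 F22649) (tt N3736 D5813))
theorem Q2948 : ∀ i, i < 2948 → P i := stepQ 2947 Q2947 (allL N2947 (tt N2495 F22650) (tt N3727 (iv F27999)) (tt N2284 F22651) (tt N3585 (iv F27241)) (tt N2279 F22652) (tt N3633 (iv F27494)) (tt N3536 (iv F26954)) (tt N2278 (iv D4642)) (tt N2947 F22653) (tt N3737 D5814))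
theorem Q2949 : ∀ i, i < 2949 → P i := stepQ 2948 Q2948 (allL N2948 (tt N2496 F22654) (tt N3728 (iv F28005)) (tt N2285 F22655) (tt N3736 (iv F28049)) (tt N2280 F22656) (tt N3635 (iv F27504)) (tt N2948 F22657) (tt N3737 (iv F28055)) (tt N3738 D5815) (tt N2278 (iv D4643)))
theorem Q2950 : ∀ i, i < 2950 → P i := stepQ 2949 Q2949 (allL N2949 (tt N2497 F22658) (tt N3729 (iv F28010)) (tt N2286 F22659) (tt N2949 F22660) (tt N3536 (iv F26952)) (tt N2949 F22661) (tt N2279 (iv D4644)) (tt N2949 F22662) (tt N2949 F22663) (tt N3739 D5816))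
theorem Q2951 : ∀ i, i < 2951 → P i := stepQ 2950 Q2950 (allL N2950 (tt N2498 F22664) (tt N3730 (iv F28017)) (tt N2287 F22665) (tt N2950 F22666) (tt N3737 (iv F28054)) (tt N2281 F22667) (tt N3739 (iv F28065)) (tt N2280 F22668) (tt N3740 D5817) (tt N2279 (iv D4645)))
theorem Q2952 : ∀ i, i < 2952 → P i := stepQ 2951 Q2951 (allL N2951 (tt N2499 F22669) (tt N3731 (iv F28022)) (tt N2288 F22670) (tt N2951 F22671) (tt N3738 (iv F28058)) (tt N3741 D5818) (tt N2951 F22672) (tt N3740 (iv F28070)) (tt N2280 (iv D4646)) (tt N2951 F22673))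
theorem Q2953 : ∀ i, i < 2953 → P i := stepQ 2952 Q2952 (allL N2952 (tt N2500 F22674) (tt N3732 (iv F28027)) (tt N2289 F22675) (tt N2952 F22676) (tt N3640 (iv F27525)) (tt N3742 D5819) (tt N2952 F22677) (tt N2282 F22678) (tt N2281 (iv D4647)) (tt N2309 F22679))
theorem Q2954 : ∀ i, i < 2954 → P i := stepQ 2953 Q2953 (allL N2953 (tt N2501 F22680) (tt N3733 (iv F28033)) (tt N2290 F22681) (tt N2953 F22682) (tt N3743 D5820) (tt N2282 (iv D4648)) (tt N3744 D5821) (tt N3742 (iv F28080)) (tt N3741 (iv F28075)) (tt N2310 F22683))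
theorem Q2955 : ∀ i, i < 2955 → P i := stepQ 2954 Q2954 (allL N2954 (tt N2502 F22684) (tt N3734 (iv F28037)) (tt N2291 F22685) (tt N3745 D5822) (tt N2283 (iv D4649)) (tt N3642 (iv F27534)) (tt N3746 D5823) (tt N2954 F22686) (tt N2954 F22687) (tt N2311 F22688))
theorem Q2956 : ∀ i, i < 2956 → P i := stepQ 2955 Q2955 (allL N2955 (tt N2503 F22689) (tt N3735 (iv F28042)) (tt N2292 F22690) (tt N2955 F22691) (tt N3746 (iv F28098)) (tt N3744 (iv F28088)) (tt N2283 (iv D4650)) (tt N3747 D5824) (tt N2955 F22692) (tt N2312 F22693))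
theorem Q2957 : ∀ i, i < 2957 → P i := stepQ 2956 Q2956 (allL N2956 (tt N2504 F22694) (tt N2956 F22695) (tt N3536 (iv F26950)) (tt N2956 F22696) (tt N2286 F22697) (tt N3521 (iv F26853)) (tt N2284 (iv D4651)) (tt N2956 F22698) (tt N2956 F22699) (tt N3748 D5825))
theorem Q2958 : ∀ i, i < 2958 → P i := stepQ 2957 Q2957 (allL N2957 (tt N2505 F22700) (tt N2957 F22701) (tt N3737 (iv F28053)) (tt N2957 F22702) (tt N2287 F22703) (tt N3645 (iv F27551)) (tt N3748 (iv F28111)) (tt N2285 F22704) (tt N3749 D5826) (tt N2284 (iv D4652)))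
theorem Q2959 : ∀ i, i < 2959 → P i := stepQ 2958 Q2958 (allL N2958 (tt N2506 F22705) (tt N2958 F22706) (tt N3738 (iv F28057)) (tt N2958 F22707) (tt N2288 F22708) (tt N3750 D5827) (tt N2958 F22709) (tt N3749 (iv F28117)) (tt N2285 (iv D4653)) (tt N2958 F22710))
theorem Q2960 : ∀ i, i < 2960 → P i := stepQ 2959 Q2959 (allL N2959 (tt N2507 F22711) (tt N2959 F22712) (tt N3739 (iv F28062)) (tt N2293 F22713) (tt N3748 (iv F28110)) (tt N2959 F22714) (tt N2287 F22715) (tt N2959 F22716) (tt N3751 D5828) (tt N2286 (iv D4654)))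
theorem Q2961 : ∀ i, i < 2961 → P i := stepQ 2960 Q2960 (allL N2960 (tt N2508 F22717) (tt N2960 F22718) (tt N3740 (iv F28068)) (tt N2294 F22719) (tt N3749 (iv F28116)) (tt N3752 D5829) (tt N3751 (iv F28126)) (tt N2288 F22720) (tt N2287 (iv D4655)) (tt N2960 F22721))
theorem Q2962 : ∀ i, i < 2962 → P i := stepQ 2961 Q2961 (allL N2961 (tt N2509 F22722) (tt N2961 F22723) (tt N3741 (iv F28073)) (tt N2295 F22724) (tt N3753 D5830) (tt N2288 (iv D4656)) (tt N3754 D5831) (tt N3752 (iv F28132)) (tt N2290 F22725) (tt N2961 F22726))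
theorem Q2963 : ∀ i, i < 2963 → P i := stepQ 2962 Q2962 (allL N2962 (tt N2510 F22727) (tt N2962 F22728) (tt N3742 (iv F28078)) (tt N2296 F22729) (tt N3755 D5832) (tt N2289 (iv D4657)) (tt N3756 D5833) (tt N2290 F22730) (tt N3752 (iv F28133)) (tt N2313 F22731))
theorem Q2964 : ∀ i, i < 2964 → P i := stepQ 2963 Q2963 (allL N2963 (tt N2511 F22732) (tt N2963 F22733) (tt N3743 (iv F28083)) (tt N3757 D5834) (tt N2290 (iv D4658)) (tt N3653 (iv F27589)) (tt N3758 D5835) (tt N3755 (iv F28147)) (tt N3753 (iv F28137)) (tt N2314 F22734))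
theorem Q2965 : ∀ i, i < 2965 → P i := stepQ 2964 Q2964 (allL N2964 (tt N2512 F22735) (tt N2964 F22736) (tt N3744 (iv F28086)) (tt N2298 F22737) (tt N3758 (iv F28160)) (tt N2292 F22738) (tt N2290 (iv D4659)) (tt N3759 D5836) (tt N3754 (iv F28143)) (tt N2315 F22739))
theorem Q2966 : ∀ i, i < 2966 → P i := stepQ 2965 Q2965 (allL N2965 (tt N2513 F22740) (tt N2965 F22741) (tt N3746 (iv F28097)) (tt N2965 F22742) (tt N2292 F22743) (tt N3760 D5837) (tt N2291 (iv D4660)) (tt N3761 D5838) (tt N2965 F22744) (tt N2316 F22745))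
theorem Q2967 : ∀ i, i < 2967 → P i := stepQ 2966 Q2966 (allL N2966 (tt N2514 F22746) (tt N2966 F22747) (tt N3747 (iv F28102)) (tt N2299 F22748) (tt N3761 (iv F28174)) (tt N3759 (iv F28165)) (tt N2966 F22749) (tt N2292 (iv D4661)) (tt N2966 F22750) (tt N2317 F22751))
theorem Q2968 : ∀ i, i < 2968 → P i := stepQ 2967 Q2967 (allL N2967 (tt N2515 F22752) (tt N2967 F22753) (tt N2967 F22754) (tt N3751 (iv F28125)) (tt N2967 F22755) (tt N3762 D5839) (tt N2294 F22756) (tt N2967 F22757) (tt N2293 (iv D4662)) (tt N2967 F22758))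
theorem Q2969 : ∀ i, i < 2969 → P i := stepQ 2968 Q2968 (allL N2968 (tt N2516 F22759) (tt N2968 F22760) (tt N2968 F22761) (tt N3752 (iv F28131)) (tt N3763 D5840) (tt N2294 (iv D4663)) (tt N3764 D5841) (tt N2295 F22762) (tt N2296 F22763) (tt N2968 F22764))
theorem Q2970 : ∀ i, i < 2970 → P i := stepQ 2969 Q2969 (allL N2969 (tt N2517 F22765) (tt N2969 F22766) (tt N2969 F22767) (tt N3765 D5842) (tt N2295 (iv D4664)) (tt N2969 F22768) (tt N3766 D5843) (tt N3763 (iv F28188)) (tt N2297 F22769) (tt N2969 F22770))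
theorem Q2971 : ∀ i, i < 2971 → P i := stepQ 2970 Q2970 (allL N2970 (tt N2518 F22771) (tt N2970 F22772) (tt N2970 F22773) (tt N3754 (iv F28141)) (tt N3766 (iv F28204)) (tt N2970 F22774) (tt N2295 (iv D4665)) (tt N3767 D5844) (tt N2298 F22775) (tt N2970 F22776))
theorem Q2972 : ∀ i, i < 2972 → P i := stepQ 2971 Q2971 (allL N2971 (tt N2519 F22777) (tt N2971 F22778) (tt N2971 F22779) (tt N3768 D5845) (tt N2296 (iv D4666)) (tt N2300 F22780) (tt N2758 F132540) (tt N2297 F22781) (tt N3763 (iv F28189)) (tt N2318 F22782))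
theorem Q2973 : ∀ i, i < 2973 → P i := stepQ 2972 Q2972 (allL N2972 (tt N2520 F22783) (tt N2972 F22784) (tt N2972 F22785) (tt N3756 (iv F28151)) (tt N2758 F132539) (tt N2972 F22786) (tt N2296 (iv D4667)) (tt N3769 D5847) (tt N3764 (iv F28194)) (tt N2319 F22787))
theorem Q2974 : ∀ i, i < 2974 → P i := stepQ 2973 Q2973 (allL N2973 (tt N2521 F22788) (tt N2973 F22789) (tt N3770 D5848) (tt N2297 (iv D4668)) (tt N3757 (iv F28156)) (tt N2302 F22790) (tt N3771 D5849) (tt N3768 (iv F28216)) (tt N3765 (iv F28199)) (tt N2320 F22791))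
theorem Q2975 : ∀ i, i < 2975 → P i := stepQ 2974 Q2974 (allL N2974 (tt N2522 F22792) (tt N2974 F22793) (tt N2974 F22794) (tt N3771 (iv F28235)) (tt N2298 F22795) (tt N2974 F22796) (tt N2297 (iv D4669)) (tt N3772 D5850) (tt N3766 (iv F28205)) (tt N2321 F22797))
theorem Q2976 : ∀ i, i < 2976 → P i := stepQ 2975 Q2975 (allL N2975 (tt N2523 F22798) (tt N2975 F22799) (tt N2975 F22800) (tt N3759 (iv F28164)) (tt N3772 (iv F28241)) (tt N2299 F22801) (tt N3769 (iv F28227)) (tt N2298 (iv D4670)) (tt N3767 (iv F28211)) (tt N2322 F22802))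
theorem Q2977 : ∀ i, i < 2977 → P i := stepQ 2976 Q2976 (allL N2976 (tt N2524 F22803) (tt N2976 F22804) (tt N3773 D5851) (tt N2300 (iv D4671)) (tt N3667 (iv F27657)) (tt N3768 (iv F28215)) (tt N2703 F131719) (tt N2302 F22805) (tt N2976 F22806) (tt N2323 F22807))
theorem Q2978 : ∀ i, i < 2978 → P i := stepQ 2977 Q2977 (allL N2977 (tt N2525 F22815) (tt N3774 D5854) (tt N2302 (iv D4673)) (tt N2977 F22816) (tt N3669 (iv F27669)) (tt N3770 (iv F28231)) (tt N2977 F22817) (tt N3773 (iv F28246)) (tt N2977 F22818) (tt N2324 F22819))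
theorem Q2979 : ∀ i, i < 2979 → P i := stepQ 2978 Q2978 (allL N2978 (tt N2306 F22820) (tt N2526 F22821) (tt N2978 F22822) (tt N2978 F22823) (tt N3672 (iv F27692)) (tt N2978 F22824) (tt N2978 F22825) (tt N2304 F22826) (tt N3775 D5855) (tt N2303 (iv D4674)))
theorem Q2980 : ∀ i, i < 2980 → P i := stepQ 2979 Q2979 (allL N2979 (tt N2307 F22827) (tt N2527 F22828) (tt N2979 F22829) (tt N2979 F22830) (tt N3673 (iv F27699)) (tt N3776 D5856) (tt N2305 F22831) (tt N3775 (iv F28271)) (tt N2304 (iv D4675)) (tt N3724 (iv F27983)))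
theorem Q2981 : ∀ i, i < 2981 → P i := stepQ 2980 Q2980 (allL N2980 (tt N2308 F22832) (tt N2528 F22833) (tt N2980 F22834) (tt N2980 F22835) (tt N3777 D5857) (tt N2305 (iv D4676)) (tt N3778 D5858) (tt N2980 F22836) (tt N2327 F22837) (tt N3725 (iv F27990)))
theorem Q2982 : ∀ i, i < 2982 → P i := stepQ 2981 Q2981 (allL N2981 (tt N3775 (iv F28266)) (tt N2309 F22838) (tt N2981 F22839) (tt N2981 F22840) (tt N3677 (iv F27721)) (tt N3779 D5859) (tt N2981 F22841) (tt N2307 F22842) (tt N2306 (iv D4677)) (tt N3732 (iv F28032)))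
theorem Q2983 : ∀ i, i < 2983 → P i := stepQ 2982 Q2982 (allL N2982 (tt N3776 (iv F28272)) (tt N2310 F22843) (tt N2982 F22844) (tt N2982 F22845) (tt N3780 D5860) (tt N2307 (iv D4678)) (tt N3781 D5861) (tt N3779 (iv F28290)) (tt N2982 F22846) (tt N3733 (iv F28036)))
theorem Q2984 : ∀ i, i < 2984 → P i := stepQ 2983 Q2983 (allL N2983 (tt N3777 (iv F28277)) (tt N2311 F22847) (tt N2983 F22848) (tt N3782 D5862) (tt N2308 (iv D4679)) (tt N3679 (iv F27728)) (tt N3783 D5863) (tt N2983 F22849) (tt N2328 F22850) (tt N3734 (iv F28041)))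
theorem Q2985 : ∀ i, i < 2985 → P i := stepQ 2984 Q2984 (allL N2984 (tt N3778 (iv F28282)) (tt N2312 F22851) (tt N2984 F22852) (tt N2984 F22853) (tt N3783 (iv F28306)) (tt N3781 (iv F28298)) (tt N2308 (iv D4680)) (tt N3784 D5864) (tt N2329 F22854) (tt N3735 (iv F28046)))
theorem Q2986 : ∀ i, i < 2986 → P i := stepQ 2985 Q2985 (allL N2985 (tt N2533 F22855) (tt N3779 (iv F28287)) (tt N2313 F22856) (tt N2985 F22857) (tt N3785 D5865) (tt N2309 (iv D4681)) (tt N3786 D5866) (tt N2310 F22858) (tt N2985 F22859) (tt N3742 (iv F28081)))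
theorem Q2987 : ∀ i, i < 2987 → P i := stepQ 2986 Q2986 (allL N2986 (tt N2534 F22860) (tt N3780 (iv F28292)) (tt N2314 F22861) (tt N3787 D5867) (tt N2310 (iv D4682)) (tt N3684 (iv F27753)) (tt N3788 D5868) (tt N3785 (iv F28315)) (tt N2986 F22862) (tt N3743 (iv F28084)))
theorem Q2988 : ∀ i, i < 2988 → P i := stepQ 2987 Q2987 (allL N2987 (tt N2535 F22863) (tt N3781 (iv F28295)) (tt N2315 F22864) (tt N2987 F22865) (tt N3788 (iv F28327)) (tt N2312 F22866) (tt N2310 (iv D4683)) (tt N3789 D5869) (tt N2987 F22867) (tt N3744 (iv F28089)))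
theorem Q2989 : ∀ i, i < 2989 → P i := stepQ 2988 Q2988 (allL N2988 (tt N2536 F22868) (tt N3782 (iv F28300)) (tt N2988 F22869) (tt N2311 (iv D4684)) (tt N2988 F22870) (tt N3686 (iv F27759)) (tt N3790 D5870) (tt N2988 F22871) (tt N2330 F22872) (tt N3745 (iv F28095)))
theorem Q2990 : ∀ i, i < 2990 → P i := stepQ 2989 Q2989 (allL N2989 (tt N2537 F22873) (tt N3783 (iv F28304)) (tt N2316 F22874) (tt N3790 (iv F28336)) (tt N2312 F22875) (tt N3791 D5871) (tt N2311 (iv D4685)) (tt N3792 D5872) (tt N2331 F22876) (tt N3746 (iv F28100)))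
theorem Q2991 : ∀ i, i < 2991 → P i := stepQ 2990 Q2990 (allL N2990 (tt N2538 F22877) (tt N3784 (iv F28308)) (tt N2317 F22878) (tt N2990 F22879) (tt N3792 (iv F28343)) (tt N3789 (iv F28332)) (tt N2990 F22880) (tt N2312 (iv D4686)) (tt N2332 F22881) (tt N3747 (iv F28106)))
theorem Q2992 : ∀ i, i < 2992 → P i := stepQ 2991 Q2991 (allL N2991 (tt N2539 F22882) (tt N2991 F22883) (tt N3785 (iv F28314)) (tt N3793 D5873) (tt N2313 (iv D4687)) (tt N3692 (iv F27787)) (tt N3794 D5874) (tt N2314 F22884) (tt N2991 F22885) (tt N3755 (iv F28148)))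
theorem Q2993 : ∀ i, i < 2993 → P i := stepQ 2992 Q2992 (allL N2992 (tt N2540 F22886) (tt N2992 F22887) (tt N3786 (iv F28318)) (tt N2319 F22888) (tt N3794 (iv F28353)) (tt N2992 F22889) (tt N2313 (iv D4688)) (tt N3795 D5875) (tt N2992 F22890) (tt N3756 (iv F28153)))
theorem Q2994 : ∀ i, i < 2994 → P i := stepQ 2993 Q2993 (allL N2993 (tt N2541 F22891) (tt N2993 F22892) (tt N3796 D5876) (tt N2314 (iv D4689)) (tt N2320 F22893) (tt N3694 (iv F27798)) (tt N3797 D5877) (tt N3793 (iv F28349)) (tt N2993 F22894) (tt N3757 (iv F28157)))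
theorem Q2995 : ∀ i, i < 2995 → P i := stepQ 2994 Q2994 (allL N2994 (tt N2542 F22895) (tt N2994 F22896) (tt N3788 (iv F28326)) (tt N3797 (iv F28366)) (tt N2315 F22897) (tt N3798 D5878) (tt N2314 (iv D4690)) (tt N3799 D5879) (tt N2994 F22898) (tt N3758 (iv F28161)))
theorem Q2996 : ∀ i, i < 2996 → P i := stepQ 2995 Q2995 (allL N2995 (tt N2543 F22899) (tt N2995 F22900) (tt N3789 (iv F28330)) (tt N2322 F22901) (tt N3799 (iv F28374)) (tt N2317 F22902) (tt N3795 (iv F28359)) (tt N2315 (iv D4691)) (tt N2995 F22903) (tt N3759 (iv F28166)))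
theorem Q2997 : ∀ i, i < 2997 → P i := stepQ 2996 Q2996 (allL N2996 (tt N2544 F22904) (tt N2996 F22905) (tt N3791 (iv F28340)) (tt N2996 F22906) (tt N3798 (iv F28371)) (tt N2316 (iv D4692)) (tt N3697 (iv F27809)) (tt N3800 D5880) (tt N3801 D5881) (tt N3760 (iv F28170)))
theorem Q2998 : ∀ i, i < 2998 → P i := stepQ 2997 Q2997 (allL N2997 (tt N2545 F22907) (tt N2997 F22908) (tt N3792 (iv F28342)) (tt N2997 F22909) (tt N2317 F22910) (tt N3800 (iv F28379)) (tt N2997 F22911) (tt N2316 (iv D4693)) (tt N2334 F22912) (tt N3761 (iv F28177)))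
theorem Q2999 : ∀ i, i < 2999 → P i := stepQ 2998 Q2998 (allL N2998 (tt N2546 F22913) (tt N2998 F22914) (tt N3802 D5882) (tt N2318 (iv D4694)) (tt N3793 (iv F28348)) (tt N2323 F22915) (tt N2742 F131723) (tt N2320 F22916) (tt N2998 F22917) (tt N3768 (iv F28217)))
theorem Q3000 : ∀ i, i < 3000 → P i := stepQ 2999 Q2999 (allL N2999 (tt N2547 F22923) (tt N2999 F22924) (tt N2999 F22925) (tt N3795 (iv F28357)) (tt N2776 F132157) (tt N2999 F22926) (tt N2322 F22927) (tt N2319 (iv D4696)) (tt N2999 F22928) (tt N3769 (iv F28228)))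
theorem Q3001 : ∀ i, i < 3001 → P i := stepQ 3000 Q3000 (allL N3000 (tt N2548 F22929) (tt N3803 D5886) (tt N2320 (iv D4697)) (tt N3000 F22930) (tt N3796 (iv F28362)) (tt N2324 F22931) (tt N3804 D5887) (tt N3802 (iv F28387)) (tt N3000 F22932) (tt N3770 (iv F28232)))
theorem Q3002 : ∀ i, i < 3002 → P i := stepQ 3001 Q3001 (allL N3001 (tt N2549 F22933) (tt N3001 F22934) (tt N3804 (iv F28409)) (tt N2321 F22935) (tt N3797 (iv F28367)) (tt N3001 F22936) (tt N2320 (iv D4698)) (tt N3805 D5888) (tt N3001 F22937) (tt N3771 (iv F28237)))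
theorem Q3003 : ∀ i, i < 3003 → P i := stepQ 3002 Q3002 (allL N3002 (tt N2550 F22938) (tt N3002 F22939) (tt N3002 F22940) (tt N3805 (iv F28415)) (tt N2322 F22941) (tt N3002 F22942) (tt N2776 F132158) (tt N2321 (iv D4699)) (tt N3002 F22943) (tt N3772 (iv F28243)))
theorem Q3004 : ∀ i, i < 3004 → P i := stepQ 3003 Q3003 (allL N3003 (tt N2532 F131095) (tt N3778 F131096) (tt N2323 (iv D4700)) (tt N3003 F22945) (tt N3710 (iv F27871)) (tt N3802 (iv F28386)) (tt N2528 F131097) (tt N2324 F22946) (tt N2325 F22947) (tt N3773 (iv F28248)))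
theorem Q3005 : ∀ i, i < 3005 → P i := stepQ 3004 Q3004 (allL N3004 (tt N3784 F131184) (tt N2324 (iv D4703)) (tt N3004 F22958) (tt N3004 F22959) (tt N3712 (iv F27887)) (tt N3803 (iv F28406)) (tt N3004 F22960) (tt N3778 F131185) (tt N2326 F22961) (tt N3774 (iv F28265)))
theorem Q3006 : ∀ i, i < 3006 → P i := stepQ 3005 Q3005 (allL N3005 (tt N2329 (iv F130926)) (tt N2325 (iv D4704)) (tt N3005 F22962) (tt N3005 F22963) (tt N3718 (iv F27935)) (tt N3005 F22964) (tt N2327 (iv F130924)) (tt N2326 F22965) (tt N3778 (iv F130922)) (tt N3005 F22966))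
theorem Q3007 : ∀ i, i < 3007 → P i := stepQ 3006 Q3006 (allL N3006 (tt N2326 (iv D4708)) (tt N2332 (iv F130839)) (tt N3006 F22986) (tt N3006 F22987) (tt N3719 (iv F27948)) (tt N3006 F22988) (tt N3006 F22989) (tt N2329 (iv F130927)) (tt N3784 (iv F130923)) (tt N3006 F22990))
theorem Q3008 : ∀ i, i < 3008 → P i := stepQ 3007 Q3007 (allL N3007 (tt N2328 F22999) (tt N2551 F23000) (tt N3007 F23001) (tt N3806 D5899) (tt N2327 (iv D4710)) (tt N3007 F23002) (tt N3718 F131108) (tt N3007 F23003) (tt N3777 (iv F28281)) (tt N3007 F23004))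
theorem Q3009 : ∀ i, i < 3009 → P i := stepQ 3008 Q3008 (allL N3008 (tt N3806 (iv F28473)) (tt N2330 F23011) (tt N3807 D5902) (tt N2328 (iv D4712)) (tt N3008 F23012) (tt N3008 F23013) (tt N3808 D5903) (tt N3008 F23014) (tt N3782 (iv F28303)) (tt N3008 F23015))
theorem Q3010 : ∀ i, i < 3010 → P i := stepQ 3009 Q3009 (allL N3009 (tt N3718 F131186) (tt N2331 F23016) (tt N3009 F23017) (tt N3808 (iv F28498)) (tt N2329 F23018) (tt N3809 D5904) (tt N2328 (iv D4713)) (tt N3719 F131187) (tt N3783 (iv F28307)) (tt N3009 F23019))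
theorem Q3011 : ∀ i, i < 3011 → P i := stepQ 3010 Q3010 (allL N3010 (tt N2553 F23026) (tt N3808 (iv F28497)) (tt N3010 F23027) (tt N2331 F23028) (tt N3010 F23029) (tt N3719 F131154) (tt N2330 (iv D4715)) (tt N3809 (iv F130931)) (tt N3790 (iv F28338)) (tt N3010 F23030))
theorem Q3012 : ∀ i, i < 3012 → P i := stepQ 3011 Q3011 (allL N3011 (tt N2554 F23031) (tt N3809 (iv F28501)) (tt N2333 F23032) (tt N3719 F131151) (tt N3011 F23033) (tt N2331 (iv D4716)) (tt N3011 F23034) (tt N3808 (iv F130933)) (tt N3810 D5909) (tt N3011 F23035))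
theorem Q3013 : ∀ i, i < 3013 → P i := stepQ 3012 Q3012 (allL N3012 (tt N2483 F131106) (tt N3719 F131107) (tt N2334 F23037) (tt N3809 (iv F130930)) (tt N2332 F23038) (tt N3808 (iv F130932)) (tt N3012 F23039) (tt N2331 (iv D4717)) (tt N3792 (iv F28345)) (tt N3012 F23040))
theorem Q3014 : ∀ i, i < 3014 → P i := stepQ 3013 Q3013 (allL N3013 (tt N2555 F23041) (tt N3013 F23042) (tt N3808 F131191) (tt N3013 F23043) (tt N3013 F23044) (tt N2334 F23045) (tt N3807 F131192) (tt N2333 (iv D4718)) (tt N3811 D5911) (tt N3013 F23046))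
theorem Q3015 : ∀ i, i < 3015 → P i := stepQ 3014 Q3014 (allL N3014 (tt N2556 F23047) (tt N3014 F23048) (tt N3810 (iv F28528)) (tt N3014 F23049) (tt N3014 F23050) (tt N3801 (iv F28383)) (tt N3014 F23051) (tt N3811 (iv F28542)) (tt N2333 (iv D4719)) (tt N3812 D5912))
theorem Q3016 : ∀ i, i < 3016 → P i := stepQ 3015 Q3015 (allL N3015 (tt N3729 (iv F28009)) (tt N2335 (iv D4720)) (tt N3015 F23052) (tt N3015 F23053) (tt N2342 F23054) (tt N3015 F23055) (tt N3721 F27965) (tt N3015 F23056) (tt N3015 F23057) (tt N3813 D5913))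
theorem Q3017 : ∀ i, i < 3017 → P i := stepQ 3016 Q3016 (allL N3016 (tt N2489 F23058) (tt N3721 (iv F27959)) (tt N2336 F23059) (tt N3016 F23060) (tt N2343 F23061) (tt N2485 (iv F23063)) (tt N2335 (iv D4721)) (tt N2484 (iv F23064)) (tt N3016 F23062) (tt N3814 D5914))
theorem Q3018 : ∀ i, i < 3018 → P i := stepQ 3017 Q3017 (allL N3017 (tt N3532 (iv F26919)) (tt N3813 (iv F28549)) (tt N2337 F23065) (tt N3017 F23066) (tt N2344 F23067) (tt N3017 F23068) (tt N3814 (iv F28560)) (tt N3017 F23069) (tt N3815 D5915) (tt N2335 (iv D4722)))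
theorem Q3019 : ∀ i, i < 3019 → P i := stepQ 3018 Q3018 (allL N3018 (tt N2705 F23070) (tt N3018 F23071) (tt N3814 (iv F28556)) (tt N2338 F23072) (tt N2347 F23073) (tt N2701 F23074) (tt N2337 F23075) (tt N2700 F23076) (tt N3816 D5916) (tt N2336 (iv D4723)))
theorem Q3020 : ∀ i, i < 3020 → P i := stepQ 3019 Q3019 (allL N3019 (tt N3533 (iv F26927)) (tt N3019 F23077) (tt N3815 (iv F28562)) (tt N2339 F23078) (tt N2348 F23079) (tt N3817 D5917) (tt N3816 (iv F28571)) (tt N3019 F23080) (tt N2337 (iv D4724)) (tt N3019 F23081))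
theorem Q3021 : ∀ i, i < 3021 → P i := stepQ 3020 Q3020 (allL N3020 (tt N2760 F23082) (tt N3020 F23083) (tt N3020 F23084) (tt N3816 (iv F28569)) (tt N2341 F23085) (tt N3818 D5918) (tt N2339 F23086) (tt N2756 F23087) (tt N2338 (iv D4725)) (tt N3020 F23088))
theorem Q3022 : ∀ i, i < 3022 → P i := stepQ 3021 Q3021 (allL N3021 (tt N3534 (iv F26934)) (tt N3021 F23089) (tt N3021 F23090) (tt N3817 (iv F28575)) (tt N3021 F23091) (tt N2339 (iv D4726)) (tt N3819 D5919) (tt N3021 F23092) (tt N3021 F23093) (tt N3021 F23094))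
theorem Q3023 : ∀ i, i < 3023 → P i := stepQ 3022 Q3022 (allL N3022 (tt N2759 F23095) (tt N3022 F23096) (tt N3022 F23097) (tt N2354 F23098) (tt N2756 F23099) (tt N3820 D5920) (tt N3022 F23100) (tt N2341 F23101) (tt N2340 (iv D4727)) (tt N3022 F23102))
theorem Q3024 : ∀ i, i < 3024 → P i := stepQ 3023 Q3023 (allL N3023 (tt N3535 (iv F26941)) (tt N3023 F23103) (tt N3023 F23104) (tt N2355 F23105) (tt N3821 D5921) (tt N2341 (iv D4728)) (tt N3023 F23106) (tt N3820 (iv F28594)) (tt N3023 F23107) (tt N3023 F23108))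
theorem Q3025 : ∀ i, i < 3025 → P i := stepQ 3024 Q3024 (allL N3024 (tt N2342 (iv D4729)) (tt N3536 (iv F26949)) (tt N3024 F23109) (tt N2384 F23110) (tt N3729 (iv F28013)) (tt N2356 F23111) (tt N3727 F28004) (tt N3024 F23112) (tt N3024 F23113) (tt N3822 D5922))
theorem Q3026 : ∀ i, i < 3026 → P i := stepQ 3025 Q3025 (allL N3025 (tt N3727 (iv F27998)) (tt N2343 F23114) (tt N3025 F23115) (tt N2385 F23116) (tt N3721 (iv F27962)) (tt N3823 D5923) (tt N2342 (iv D4730)) (tt N3720 F27957) (tt N3025 F23117) (tt N3824 D5924))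
theorem Q3027 : ∀ i, i < 3027 → P i := stepQ 3026 Q3026 (allL N3026 (tt N3822 (iv F28602)) (tt N2344 F23118) (tt N3026 F23119) (tt N2386 F23120) (tt N3813 (iv F28552)) (tt N2358 F23121) (tt N3824 (iv F28614)) (tt N3026 F23122) (tt N3825 D5925) (tt N2342 (iv D4731)))
theorem Q3028 : ∀ i, i < 3028 → P i := stepQ 3027 Q3027 (allL N3027 (tt N3538 (iv F26964)) (tt N3823 (iv F28607)) (tt N2345 F23123) (tt N2387 F23124) (tt N3826 D5926) (tt N2343 (iv D4732)) (tt N2359 F23125) (tt N3827 D5927) (tt N3636 (iv F27509)) (tt N3828 D5928))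
theorem Q3029 : ∀ i, i < 3029 → P i := stepQ 3028 Q3028 (allL N3028 (tt N2488 F23126) (tt N3720 (iv F27952)) (tt N2346 F23127) (tt N2388 F23128) (tt N2484 F23129) (tt N3827 (iv F28629)) (tt N3028 F23130) (tt N2343 (iv D4733)) (tt N3028 F23131) (tt N3829 D5929))
theorem Q3030 : ∀ i, i < 3030 → P i := stepQ 3029 Q3029 (allL N3029 (tt N3539 (iv F26972)) (tt N3824 (iv F28611)) (tt N2347 F23132) (tt N2389 F23133) (tt N3814 (iv F28558)) (tt N3828 (iv F28632)) (tt N2344 F23134) (tt N3829 (iv F28639)) (tt N3830 D5930) (tt N2343 (iv D4734)))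
theorem Q3031 : ∀ i, i < 3031 → P i := stepQ 3030 Q3030 (allL N3030 (tt N3540 (iv F26979)) (tt N3825 (iv F28615)) (tt N2348 F23135) (tt N2390 F23136) (tt N3815 (iv F28564)) (tt N3831 D5931) (tt N3830 (iv F28642)) (tt N3030 F23137) (tt N2344 (iv D4735)) (tt N3030 F23138))
theorem Q3032 : ∀ i, i < 3032 → P i := stepQ 3031 Q3031 (allL N3031 (tt N2597 F23139) (tt N3031 F23140) (tt N3826 (iv F28621)) (tt N3031 F23141) (tt N2345 (iv D4736)) (tt N2593 F23142) (tt N2362 F23143) (tt N2592 (iv F23144)) (tt N3644 (iv F27546)) (tt N3832 D5932))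
theorem Q3033 : ∀ i, i < 3033 → P i := stepQ 3032 Q3032 (allL N3032 (tt N2596 F23145) (tt N3032 F23146) (tt N3827 (iv F28626)) (tt N2349 F23147) (tt N2592 F23148) (tt N2346 F23149) (tt N3601 (iv F27334)) (tt N2345 (iv D4737)) (tt N3600 F27328) (tt N3833 D5933))
theorem Q3034 : ∀ i, i < 3034 → P i := stepQ 3033 Q3033 (allL N3033 (tt N3541 (iv F26984)) (tt N3033 F23150) (tt N3828 (iv F28630)) (tt N2350 F23151) (tt N3832 (iv F28652)) (tt N2347 F23152) (tt N2363 F23153) (tt N3833 (iv F28661)) (tt N3834 D5934) (tt N2345 (iv D4738)))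
theorem Q3035 : ∀ i, i < 3035 → P i := stepQ 3034 Q3034 (allL N3034 (tt N2704 F23154) (tt N3034 F23155) (tt N3829 (iv F28635)) (tt N2351 F23156) (tt N2700 F23157) (tt N3833 (iv F28660)) (tt N3034 F23158) (tt N2347 F23159) (tt N3835 D5935) (tt N2346 (iv D4739)))
theorem Q3036 : ∀ i, i < 3036 → P i := stepQ 3035 Q3035 (allL N3035 (tt N3542 (iv F26991)) (tt N3035 F23160) (tt N3830 (iv F28640)) (tt N2352 F23161) (tt N3816 (iv F28570)) (tt N3836 D5936) (tt N2348 F23162) (tt N3835 (iv F28670)) (tt N2347 (iv D4740)) (tt N3035 F23163))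
theorem Q3037 : ∀ i, i < 3037 → P i := stepQ 3036 Q3036 (allL N3036 (tt N3543 (iv F26998)) (tt N3036 F23164) (tt N3831 (iv F28644)) (tt N2353 F23165) (tt N3837 D5937) (tt N2348 (iv D4741)) (tt N3838 D5938) (tt N3036 F23166) (tt N2365 F23167) (tt N3036 F23168))
theorem Q3038 : ∀ i, i < 3038 → P i := stepQ 3037 Q3037 (allL N3037 (tt N3544 (iv F27003)) (tt N3037 F23169) (tt N2400 F23170) (tt N3833 (iv F28658)) (tt N3037 F23171) (tt N2351 F23172) (tt N3610 (iv F27385)) (tt N2350 F23173) (tt N3839 D5939) (tt N2349 (iv D4742)))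
theorem Q3039 : ∀ i, i < 3039 → P i := stepQ 3038 Q3038 (allL N3038 (tt N3545 (iv F27011)) (tt N3038 F23174) (tt N2402 F23175) (tt N3834 (iv F28663)) (tt N3038 F23176) (tt N3840 D5940) (tt N2366 F23177) (tt N3839 (iv F28687)) (tt N2350 (iv D4743)) (tt N3657 (iv F27611)))
theorem Q3040 : ∀ i, i < 3040 → P i := stepQ 3039 Q3039 (allL N3039 (tt N3546 (iv F27017)) (tt N3039 F23178) (tt N2403 F23179) (tt N3835 (iv F28667)) (tt N2354 F23180) (tt N3841 D5941) (tt N3039 F23181) (tt N2352 F23182) (tt N2351 (iv D4744)) (tt N3039 F23183))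
theorem Q3041 : ∀ i, i < 3041 → P i := stepQ 3040 Q3040 (allL N3040 (tt N3547 (iv F27025)) (tt N3040 F23184) (tt N2404 F23185) (tt N3836 (iv F28673)) (tt N3842 D5942) (tt N2352 (iv D4745)) (tt N3843 D5943) (tt N3841 (iv F28693)) (tt N3840 (iv F28690)) (tt N3040 F23186))
theorem Q3042 : ∀ i, i < 3042 → P i := stepQ 3041 Q3041 (allL N3041 (tt N3548 (iv F27028)) (tt N3041 F23187) (tt N2405 F23188) (tt N3838 (iv F28681)) (tt N3041 F23189) (tt N3843 (iv F28701)) (tt N2353 (iv D4746)) (tt N3844 D5944) (tt N2368 F23190) (tt N3041 F23191))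
theorem Q3043 : ∀ i, i < 3043 → P i := stepQ 3042 Q3042 (allL N3042 (tt N3549 (iv F27033)) (tt N3042 F23192) (tt N2406 F23193) (tt N3820 (iv F28593)) (tt N3845 D5945) (tt N2354 (iv D4747)) (tt N3846 D5946) (tt N2355 F23194) (tt N3042 F23195) (tt N3042 F23196))
theorem Q3044 : ∀ i, i < 3044 → P i := stepQ 3043 Q3043 (allL N3043 (tt N3550 (iv F27040)) (tt N3043 F23197) (tt N2407 F23198) (tt N3847 D5947) (tt N2355 (iv D4748)) (tt N3842 (iv F28697)) (tt N3043 F23199) (tt N3845 (iv F28711)) (tt N3043 F23200) (tt N3043 F23201))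
theorem Q3045 : ∀ i, i < 3045 → P i := stepQ 3044 Q3044 (allL N3044 (tt N2357 F23202) (tt N3551 (iv F27046)) (tt N3044 F23203) (tt N2408 F23204) (tt N3044 F23205) (tt N3848 D5948) (tt N2356 (iv D4749)) (tt N3670 (iv F27679)) (tt N2370 F23206) (tt N3849 D5949))
theorem Q3046 : ∀ i, i < 3046 → P i := stepQ 3045 Q3045 (allL N3045 (tt N2358 F23207) (tt N3552 (iv F27053)) (tt N3045 F23208) (tt N2409 F23209) (tt N3045 F23210) (tt N3822 (iv F28605)) (tt N3849 (iv F28731)) (tt N3045 F23211) (tt N3850 D5950) (tt N2356 (iv D4750)))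
theorem Q3047 : ∀ i, i < 3047 → P i := stepQ 3046 Q3046 (allL N3046 (tt N3848 (iv F28724)) (tt N2359 F23212) (tt N3046 F23213) (tt N2410 F23214) (tt N3851 D5951) (tt N2357 (iv D4751)) (tt N3823 (iv F28610)) (tt N3627 (iv F27469)) (tt N3626 (iv F27464)) (tt N3852 D5952))
theorem Q3048 : ∀ i, i < 3048 → P i := stepQ 3047 Q3047 (allL N3047 (tt N3849 (iv F28727)) (tt N2360 F23215) (tt N3047 F23216) (tt N2412 F23217) (tt N3047 F23218) (tt N3852 (iv F28744)) (tt N2358 F23219) (tt N3675 (iv F27711)) (tt N3853 D5953) (tt N2357 (iv D4752)))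
theorem Q3049 : ∀ i, i < 3049 → P i := stepQ 3048 Q3048 (allL N3048 (tt N3850 (iv F28732)) (tt N2361 F23220) (tt N3048 F23221) (tt N2413 F23222) (tt N3048 F23223) (tt N3854 D5954) (tt N3853 (iv F28749)) (tt N3048 F23224) (tt N2358 (iv D4753)) (tt N2373 F23225))
theorem Q3050 : ∀ i, i < 3050 → P i := stepQ 3049 Q3049 (allL N3049 (tt N3556 (iv F27075)) (tt N3851 (iv F28738)) (tt N2362 F23226) (tt N3855 D5955) (tt N2359 (iv D4754)) (tt N3049 F23227) (tt N3826 (iv F28623)) (tt N3634 (iv F27500)) (tt N3633 (iv F27495)) (tt N3856 D5956))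
theorem Q3051 : ∀ i, i < 3051 → P i := stepQ 3050 Q3050 (allL N3050 (tt N3557 (iv F27082)) (tt N3852 (iv F28741)) (tt N2363 F23228) (tt N2417 F23229) (tt N3856 (iv F28760)) (tt N2360 F23230) (tt N3828 (iv F28633)) (tt N3638 (iv F27519)) (tt N3857 D5957) (tt N2359 (iv D4755)))
theorem Q3052 : ∀ i, i < 3052 → P i := stepQ 3051 Q3051 (allL N3051 (tt N3558 (iv F27087)) (tt N3853 (iv F28745)) (tt N2364 F23231) (tt N2419 F23232) (tt N3051 F23233) (tt N3858 D5958) (tt N2361 F23234) (tt N3681 (iv F27739)) (tt N2360 (iv D4756)) (tt N2374 F23235))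
theorem Q3053 : ∀ i, i < 3053 → P i := stepQ 3052 Q3052 (allL N3052 (tt N3559 (iv F27094)) (tt N3854 (iv F28751)) (tt N2365 F23236) (tt N2420 F23237) (tt N3859 D5959) (tt N2361 (iv D4757)) (tt N3860 D5960) (tt N3052 F23238) (tt N3831 (iv F28647)) (tt N2375 F23239))
theorem Q3054 : ∀ i, i < 3054 → P i := stepQ 3053 Q3053 (allL N3053 (tt N3560 (iv F27099)) (tt N3053 F23240) (tt N3856 (iv F28759)) (tt N3053 F23241) (tt N2363 F23242) (tt N3053 F23243) (tt N3832 (iv F28654)) (tt N3646 (iv F27558)) (tt N3861 D5961) (tt N2362 (iv D4758)))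
theorem Q3055 : ∀ i, i < 3055 → P i := stepQ 3054 Q3054 (allL N3054 (tt N3561 (iv F27106)) (tt N3054 F23244) (tt N3857 (iv F28762)) (tt N2366 F23245) (tt N3861 (iv F28776)) (tt N3862 D5962) (tt N3834 (iv F28664)) (tt N3650 (iv F27576)) (tt N2363 (iv D4759)) (tt N3649 (iv F27572)))
theorem Q3056 : ∀ i, i < 3056 → P i := stepQ 3055 Q3055 (allL N3055 (tt N3562 (iv F27111)) (tt N3055 F23246) (tt N3858 (iv F28764)) (tt N2367 F23247) (tt N3863 D5963) (tt N2364 (iv D4760)) (tt N3864 D5964) (tt N3689 (iv F27773)) (tt N3862 (iv F28779)) (tt N2376 F23248))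
theorem Q3057 : ∀ i, i < 3057 → P i := stepQ 3056 Q3056 (allL N3056 (tt N3563 (iv F27116)) (tt N3056 F23249) (tt N3859 (iv F28767)) (tt N3056 F23250) (tt N2365 (iv D4761)) (tt N3056 F23251) (tt N3865 D5965) (tt N3056 F23252) (tt N3837 (iv F28678)) (tt N2377 F23253))
theorem Q3058 : ∀ i, i < 3058 → P i := stepQ 3057 Q3057 (allL N3057 (tt N3564 (iv F27121)) (tt N3057 F23254) (tt N3860 (iv F28771)) (tt N2368 F23255) (tt N3865 (iv F28789)) (tt N3864 (iv F28785)) (tt N2365 (iv D4762)) (tt N3866 D5966) (tt N3838 (iv F28682)) (tt N2378 F23256))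
theorem Q3059 : ∀ i, i < 3059 → P i := stepQ 3058 Q3058 (allL N3058 (tt N3565 (iv F27124)) (tt N3058 F23257) (tt N2435 F23258) (tt N3862 (iv F28778)) (tt N3867 D5967) (tt N2366 (iv D4763)) (tt N3868 D5968) (tt N3659 (iv F27621)) (tt N2367 F23259) (tt N3658 (iv F27617)))
theorem Q3060 : ∀ i, i < 3060 → P i := stepQ 3059 Q3059 (allL N3059 (tt N3566 (iv F27130)) (tt N3059 F23260) (tt N2437 F23261) (tt N3869 D5969) (tt N2367 (iv D4764)) (tt N2369 F23262) (tt N3870 D5970) (tt N3699 (iv F27820)) (tt N3867 (iv F28798)) (tt N2379 F23263))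
theorem Q3061 : ∀ i, i < 3061 → P i := stepQ 3060 Q3060 (allL N3060 (tt N3567 (iv F27136)) (tt N3060 F23264) (tt N2438 F23265) (tt N3864 (iv F28784)) (tt N3870 (iv F28807)) (tt N2368 F23266) (tt N2367 (iv D4765)) (tt N3871 D5971) (tt N3868 (iv F28801)) (tt N2380 F23267))
theorem Q3062 : ∀ i, i < 3062 → P i := stepQ 3061 Q3061 (allL N3061 (tt N3568 (iv F27141)) (tt N3061 F23268) (tt N2439 F23269) (tt N3866 (iv F28792)) (tt N3061 F23270) (tt N3871 (iv F28812)) (tt N3061 F23271) (tt N2368 (iv D4766)) (tt N3844 (iv F28707)) (tt N2381 F23272))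
theorem Q3063 : ∀ i, i < 3063 → P i := stepQ 3062 Q3062 (allL N3062 (tt N3569 (iv F27146)) (tt N3062 F23273) (tt N3872 D5972) (tt N2369 (iv D4767)) (tt N3062 F23274) (tt N3869 (iv F28803)) (tt N3062 F23275) (tt N3713 (iv F27893)) (tt N3062 F23276) (tt N2382 F23277))
theorem Q3064 : ∀ i, i < 3064 → P i := stepQ 3063 Q3063 (allL N3063 (tt N2372 F23278) (tt N3570 (iv F27154)) (tt N3063 F23279) (tt N2445 F23280) (tt N3063 F23281) (tt N3672 (iv F27693)) (tt N2371 F23282) (tt N3671 (iv F27687)) (tt N3873 D5973) (tt N2370 (iv D4768)))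
theorem Q3065 : ∀ i, i < 3065 → P i := stepQ 3064 Q3064 (allL N3064 (tt N2373 F23283) (tt N3571 (iv F27162)) (tt N3064 F23284) (tt N2446 F23285) (tt N3064 F23286) (tt N3874 D5974) (tt N3873 (iv F28823)) (tt N3064 F23287) (tt N2371 (iv D4769)) (tt N3850 (iv F28737)))
theorem Q3066 : ∀ i, i < 3066 → P i := stepQ 3065 Q3065 (allL N3065 (tt N3873 (iv F28819)) (tt N2374 F23288) (tt N3065 F23289) (tt N2450 F23290) (tt N3065 F23291) (tt N3875 D5975) (tt N2373 F23292) (tt N3676 (iv F27717)) (tt N2372 (iv D4770)) (tt N3853 (iv F28750)))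
theorem Q3067 : ∀ i, i < 3067 → P i := stepQ 3066 Q3066 (allL N3066 (tt N3874 (iv F28824)) (tt N2375 F23293) (tt N3066 F23294) (tt N2451 F23295) (tt N3876 D5976) (tt N2373 (iv D4771)) (tt N3877 D5977) (tt N3066 F23296) (tt N3066 F23297) (tt N3854 (iv F28755)))
theorem Q3068 : ∀ i, i < 3068 → P i := stepQ 3067 Q3067 (allL N3067 (tt N3574 (iv F27176)) (tt N3875 (iv F28829)) (tt N2376 F23298) (tt N2455 F23299) (tt N3878 D5978) (tt N2374 (iv D4772)) (tt N3879 D5979) (tt N3682 (iv F27744)) (tt N3683 (iv F27750)) (tt N3858 (iv F28766)))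
theorem Q3069 : ∀ i, i < 3069 → P i := stepQ 3068 Q3068 (allL N3068 (tt N3575 (iv F27181)) (tt N3876 (iv F28832)) (tt N2377 F23300) (tt N3880 D5980) (tt N2375 (iv D4773)) (tt N3068 F23301) (tt N3881 D5981) (tt N3068 F23302) (tt N3068 F23303) (tt N3859 (iv F28770)))
theorem Q3070 : ∀ i, i < 3070 → P i := stepQ 3069 Q3069 (allL N3069 (tt N3576 (iv F27186)) (tt N3877 (iv F28837)) (tt N2378 F23304) (tt N2457 F23305) (tt N3881 (iv F28852)) (tt N3879 (iv F28845)) (tt N2375 (iv D4774)) (tt N3882 D5982) (tt N3069 F23306) (tt N3860 (iv F28773)))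
theorem Q3071 : ∀ i, i < 3071 → P i := stepQ 3070 Q3070 (allL N3070 (tt N3577 (iv F27190)) (tt N3070 F23307) (tt N3878 (iv F28841)) (tt N3883 D5983) (tt N2376 (iv D4775)) (tt N3070 F23308) (tt N3884 D5984) (tt N3690 (iv F27778)) (tt N3692 (iv F27789)) (tt N3863 (iv F28782)))
theorem Q3072 : ∀ i, i < 3072 → P i := stepQ 3071 Q3071 (allL N3071 (tt N3578 (iv F27195)) (tt N3071 F23309) (tt N3879 (iv F28843)) (tt N2380 F23310) (tt N3884 (iv F28862)) (tt N2378 F23311) (tt N2376 (iv D4776)) (tt N3885 D5985) (tt N3693 (iv F27794)) (tt N3864 (iv F28786)))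
theorem Q3073 : ∀ i, i < 3073 → P i := stepQ 3072 Q3072 (allL N3072 (tt N3579 (iv F27200)) (tt N3072 F23312) (tt N3881 (iv F28851)) (tt N3072 F23313) (tt N2378 F23314) (tt N3886 D5986) (tt N2377 (iv D4777)) (tt N3887 D5987) (tt N3072 F23315) (tt N3865 (iv F28790)))
theorem Q3074 : ∀ i, i < 3074 → P i := stepQ 3073 Q3073 (allL N3073 (tt N3580 (iv F27204)) (tt N3073 F23316) (tt N3882 (iv F28854)) (tt N2381 F23317) (tt N3887 (iv F28871)) (tt N3885 (iv F28865)) (tt N3073 F23318) (tt N2378 (iv D4778)) (tt N3073 F23319) (tt N3866 (iv F28794)))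
theorem Q3075 : ∀ i, i < 3075 → P i := stepQ 3074 Q3074 (allL N3074 (tt N3581 (iv F27208)) (tt N3074 F23320) (tt N3888 D5988) (tt N2379 (iv D4779)) (tt N3883 (iv F28859)) (tt N2382 F23321) (tt N3889 D5989) (tt N3701 (iv F27830)) (tt N3704 (iv F27847)) (tt N3869 (iv F28804)))
theorem Q3076 : ∀ i, i < 3076 → P i := stepQ 3075 Q3075 (allL N3075 (tt N3582 (iv F27213)) (tt N3075 F23322) (tt N2471 F23323) (tt N3889 (iv F28877)) (tt N2380 F23324) (tt N3075 F23325) (tt N2379 (iv D4780)) (tt N3890 D5990) (tt N3705 (iv F27852)) (tt N3870 (iv F28809)))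
theorem Q3077 : ∀ i, i < 3077 → P i := stepQ 3076 Q3076 (allL N3076 (tt N3583 (iv F27219)) (tt N3076 F23326) (tt N2472 F23327) (tt N3885 (iv F28864)) (tt N3890 (iv F28881)) (tt N2381 F23328) (tt N3703 (iv F27841)) (tt N2380 (iv D4781)) (tt N3706 (iv F27858)) (tt N3871 (iv F28813)))
theorem Q3078 : ∀ i, i < 3078 → P i := stepQ 3077 Q3077 (allL N3077 (tt N3584 (iv F27225)) (tt N3891 D5991) (tt N2382 (iv D4782)) (tt N2475 F23329) (tt N3077 F23330) (tt N3888 (iv F28875)) (tt N3077 F23331) (tt N3715 (iv F27906)) (tt N2383 F23332) (tt N3872 (iv F28818)))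
theorem Q3079 : ∀ i, i < 3079 → P i := stepQ 3078 Q3078 (allL N3078 (tt N3809 F131039) (tt N2383 (iv D4783)) (tt N3078 F23333) (tt N2483 F23334) (tt N3078 F23335) (tt N3718 (iv F27936)) (tt N3078 F23336) (tt N2553 F131073) (tt N3891 (iv F28887)) (tt N3078 F23337))
theorem Q3080 : ∀ i, i < 3080 → P i := stepQ 3079 Q3079 (allL N3079 (tt N2385 F23338) (tt N3585 (iv F27239)) (tt N2557 F23339) (tt N3727 (iv F28001)) (tt N3079 F23340) (tt N3892 D5993) (tt N2384 (iv D4784)) (tt N3726 F27996) (tt N3079 F23341) (tt N3893 D5994))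
theorem Q3081 : ∀ i, i < 3081 → P i := stepQ 3080 Q3080 (allL N3080 (tt N2386 F23342) (tt N3586 (iv F27246)) (tt N2558 F23343) (tt N3822 (iv F28604)) (tt N3080 F23344) (tt N2409 F23345) (tt N3893 (iv F28899)) (tt N3080 F23346) (tt N3894 D5995) (tt N2384 (iv D4785)))
theorem Q3082 : ∀ i, i < 3082 → P i := stepQ 3081 Q3081 (allL N3081 (tt N3892 (iv F28893)) (tt N2387 F23347) (tt N2559 F23348) (tt N3823 (iv F28609)) (tt N3895 D5996) (tt N2385 (iv D4786)) (tt N2410 F23349) (tt N3896 D5997) (tt N3897 D5998) (tt N3898 D5999))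
theorem Q3083 : ∀ i, i < 3083 → P i := stepQ 3082 Q3082 (allL N3082 (tt N3726 (iv F27991)) (tt N2388 F23350) (tt N2560 F23351) (tt N3720 F27956) (tt N3082 F23352) (tt N3896 (iv F28914)) (tt N3082 F23353) (tt N2385 (iv D4787)) (tt N3082 F23354) (tt N3899 D6000))
theorem Q3084 : ∀ i, i < 3084 → P i := stepQ 3083 Q3083 (allL N3083 (tt N3893 (iv F28896)) (tt N2389 F23355) (tt N2561 F23356) (tt N3824 (iv F28613)) (tt N3083 F23357) (tt N3898 (iv F28925)) (tt N2386 F23358) (tt N3899 (iv F28931)) (tt N3900 D6001) (tt N2385 (iv D4788)))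
theorem Q3085 : ∀ i, i < 3085 → P i := stepQ 3084 Q3084 (allL N3084 (tt N3894 (iv F28900)) (tt N2390 F23359) (tt N2562 F23360) (tt N3825 (iv F28617)) (tt N3084 F23361) (tt N3901 D6002) (tt N3900 (iv F28935)) (tt N3084 F23362) (tt N2386 (iv D4789)) (tt N3084 F23363))
theorem Q3086 : ∀ i, i < 3086 → P i := stepQ 3085 Q3085 (allL N3085 (tt N3590 (iv F27267)) (tt N3895 (iv F28905)) (tt N2391 F23364) (tt N3902 D6003) (tt N2387 (iv D4790)) (tt N3085 F23365) (tt N2414 F23366) (tt N3897 (iv F28922)) (tt N3896 F28916) (tt N3903 D6004))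
theorem Q3087 : ∀ i, i < 3087 → P i := stepQ 3086 Q3086 (allL N3086 (tt N3591 (iv F27271)) (tt N3896 (iv F28911)) (tt N2392 F23367) (tt N3827 (iv F28627)) (tt N3897 (iv F28919)) (tt N2388 F23368) (tt N3904 D6005) (tt N2387 (iv D4791)) (tt N3895 (iv F28910)) (tt N3905 D6006))
theorem Q3088 : ∀ i, i < 3088 → P i := stepQ 3087 Q3087 (allL N3087 (tt N3592 (iv F27276)) (tt N3897 (iv F28917)) (tt N2393 F23369) (tt N3636 (iv F27507)) (tt N3896 (iv F28913)) (tt N3087 F23370) (tt N2416 F23371) (tt N3895 F28909) (tt N2387 (iv D4792)) (tt N3906 D6007))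
theorem Q3089 : ∀ i, i < 3089 → P i := stepQ 3088 Q3088 (allL N3088 (tt N3593 (iv F27281)) (tt N3898 (iv F28923)) (tt N2394 F23372) (tt N3828 (iv F28631)) (tt N3903 (iv F28946)) (tt N2389 F23373) (tt N2417 F23374) (tt N3905 (iv F28957)) (tt N3907 D6008) (tt N2387 (iv D4793)))
theorem Q3090 : ∀ i, i < 3090 → P i := stepQ 3089 Q3089 (allL N3089 (tt N3594 (iv F27285)) (tt N3899 (iv F28927)) (tt N2395 F23375) (tt N3829 (iv F28636)) (tt N3089 F23376) (tt N3905 (iv F28956)) (tt N3089 F23377) (tt N2389 F23378) (tt N3908 D6009) (tt N2388 (iv D4794)))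
theorem Q3091 : ∀ i, i < 3091 → P i := stepQ 3090 Q3090 (allL N3090 (tt N3595 (iv F27292)) (tt N3900 (iv F28932)) (tt N2396 F23379) (tt N3830 (iv F28641)) (tt N3090 F23380) (tt N3909 D6010) (tt N2390 F23381) (tt N3908 (iv F28966)) (tt N2389 (iv D4795)) (tt N3090 F23382))
theorem Q3092 : ∀ i, i < 3092 → P i := stepQ 3091 Q3091 (allL N3091 (tt N3596 (iv F27297)) (tt N3901 (iv F28937)) (tt N2397 F23383) (tt N3831 (iv F28645)) (tt N3910 D6011) (tt N2390 (iv D4796)) (tt N3911 D6012) (tt N3091 F23384) (tt N2420 F23385) (tt N3091 F23386))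
theorem Q3093 : ∀ i, i < 3093 → P i := stepQ 3092 Q3092 (allL N3092 (tt N3597 (iv F27302)) (tt N2565 F23387) (tt N3897 (iv F28918)) (tt N3092 F23388) (tt N2392 F23389) (tt N3092 F23390) (tt N2598 (iv F23391)) (tt N2391 (iv D4797)) (tt N2559 (iv F23392)) (tt N3912 D6013))
theorem Q3094 : ∀ i, i < 3094 → P i := stepQ 3093 Q3093 (allL N3093 (tt N3598 (iv F27309)) (tt N2564 F23393) (tt N3896 (iv F28912)) (tt N3093 F23394) (tt N2393 F23395) (tt N2560 (iv F23398)) (tt N2422 F23396) (tt N2559 F23397) (tt N2391 (iv D4798)) (tt N3913 D6014))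
theorem Q3095 : ∀ i, i < 3095 → P i := stepQ 3094 Q3094 (allL N3094 (tt N3599 (iv F27316)) (tt N2570 F23399) (tt N3903 (iv F28945)) (tt N3094 F23400) (tt N2394 F23401) (tt N3094 F23402) (tt N2423 F23403) (tt N3912 (iv F28983)) (tt N3914 D6015) (tt N2391 (iv D4799)))
theorem Q3096 : ∀ i, i < 3096 → P i := stepQ 3095 Q3095 (allL N3095 (tt N3600 (iv F27322)) (tt N2571 F23404) (tt N3904 (iv F28950)) (tt N2398 F23405) (tt N2598 F23406) (tt N3095 F23407) (tt N2392 (iv D4800)) (tt N2424 F23408) (tt N2596 (iv F23409)) (tt N3915 D6016))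
theorem Q3097 : ∀ i, i < 3097 → P i := stepQ 3096 Q3096 (allL N3096 (tt N3601 (iv F27329)) (tt N2563 F23410) (tt N3895 (iv F28906)) (tt N2399 F23411) (tt N2559 F23412) (tt N3096 F23413) (tt N2596 F23414) (tt N2393 F23415) (tt N2392 (iv D4801)) (tt N3916 D6017))
theorem Q3098 : ∀ i, i < 3098 → P i := stepQ 3097 Q3097 (allL N3097 (tt N3602 (iv F27336)) (tt N2572 F23416) (tt N3905 (iv F28955)) (tt N2400 F23417) (tt N3912 (iv F28980)) (tt N2395 F23418) (tt N3915 (iv F28998)) (tt N2394 F23419) (tt N3917 D6018) (tt N2392 (iv D4802)))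
theorem Q3099 : ∀ i, i < 3099 → P i := stepQ 3098 Q3098 (allL N3098 (tt N3603 (iv F27341)) (tt N2573 F23420) (tt N3906 (iv F28958)) (tt N2401 F23421) (tt N3913 (iv F28986)) (tt N3098 F23422) (tt N2426 F23423) (tt N3916 (iv F29005)) (tt N3918 D6019) (tt N2393 (iv D4803)))
theorem Q3100 : ∀ i, i < 3100 → P i := stepQ 3099 Q3099 (allL N3099 (tt N3604 (iv F27346)) (tt N2574 F23424) (tt N3907 (iv F28961)) (tt N2402 F23425) (tt N3914 (iv F28992)) (tt N3919 D6020) (tt N2427 F23426) (tt N3917 (iv F29008)) (tt N2394 (iv D4804)) (tt N3918 (iv F29012)))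
theorem Q3101 : ∀ i, i < 3101 → P i := stepQ 3100 Q3100 (allL N3100 (tt N3605 (iv F27350)) (tt N2575 F23427) (tt N3908 (iv F28963)) (tt N2403 F23428) (tt N3100 F23429) (tt N3920 D6021) (tt N3100 F23430) (tt N2396 F23431) (tt N2395 (iv D4805)) (tt N3100 F23432))
theorem Q3102 : ∀ i, i < 3102 → P i := stepQ 3101 Q3101 (allL N3101 (tt N3606 (iv F27357)) (tt N2576 F23433) (tt N3909 (iv F28968)) (tt N2404 F23434) (tt N3921 D6022) (tt N2396 (iv D4806)) (tt N3922 D6023) (tt N3920 (iv F29018)) (tt N3919 (iv F29015)) (tt N3101 F23435))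
theorem Q3103 : ∀ i, i < 3103 → P i := stepQ 3102 Q3102 (allL N3102 (tt N3607 (iv F27361)) (tt N2577 F23436) (tt N3910 (iv F28970)) (tt N3102 F23437) (tt N2397 (iv D4807)) (tt N3102 F23438) (tt N3923 D6024) (tt N3102 F23439) (tt N2430 F23440) (tt N3102 F23441))
theorem Q3104 : ∀ i, i < 3104 → P i := stepQ 3103 Q3103 (allL N3103 (tt N3608 (iv F27368)) (tt N2578 F23442) (tt N3911 (iv F28975)) (tt N2405 F23443) (tt N3923 (iv F29029)) (tt N3922 (iv F29025)) (tt N2397 (iv D4808)) (tt N3924 D6025) (tt N2431 F23444) (tt N3103 F23445))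
theorem Q3105 : ∀ i, i < 3105 → P i := stepQ 3104 Q3104 (allL N3104 (tt N3609 (iv F27373)) (tt N2580 F23446) (tt N3610 (iv F27382)) (tt N3915 (iv F28995)) (tt N3104 F23447) (tt N3104 F23448) (tt N2400 F23449) (tt N2432 F23450) (tt N3925 D6026) (tt N2398 (iv D4809)))
theorem Q3106 : ∀ i, i < 3106 → P i := stepQ 3105 Q3105 (allL N3105 (tt N3610 (iv F27380)) (tt N2581 F23451) (tt N3609 (iv F27375)) (tt N3916 (iv F29001)) (tt N3105 F23452) (tt N3105 F23453) (tt N3544 (iv F27009)) (tt N2401 F23454) (tt N3926 D6027) (tt N2399 (iv D4810)))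
theorem Q3107 : ∀ i, i < 3107 → P i := stepQ 3106 Q3106 (allL N3106 (tt N3611 (iv F27387)) (tt N2582 F23455) (tt N3839 (iv F28685)) (tt N3917 (iv F29007)) (tt N3106 F23456) (tt N3927 D6028) (tt N3925 (iv F29039)) (tt N2402 F23457) (tt N2400 (iv D4811)) (tt N3926 (iv F29044)))
theorem Q3108 : ∀ i, i < 3108 → P i := stepQ 3107 Q3107 (allL N3107 (tt N3612 (iv F27391)) (tt N2583 F23458) (tt N3657 (iv F27608)) (tt N3918 (iv F29010)) (tt N3107 F23459) (tt N3928 D6029) (tt N2434 F23460) (tt N3926 (iv F29043)) (tt N2401 (iv D4812)) (tt N2402 F23461))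
theorem Q3109 : ∀ i, i < 3109 → P i := stepQ 3108 Q3108 (allL N3108 (tt N3613 (iv F27397)) (tt N2584 F23462) (tt N3840 (iv F28689)) (tt N3919 (iv F29014)) (tt N3929 D6030) (tt N2402 (iv D4813)) (tt N3930 D6031) (tt N3927 (iv F29046)) (tt N2404 F23463) (tt N3928 (iv F29050)))
theorem Q3110 : ∀ i, i < 3110 → P i := stepQ 3109 Q3109 (allL N3109 (tt N3614 (iv F27400)) (tt N2585 F23464) (tt N3841 (iv F28692)) (tt N3920 (iv F29017)) (tt N3931 D6032) (tt N2403 (iv D4814)) (tt N3932 D6033) (tt N2404 F23465) (tt N3927 (iv F29047)) (tt N3109 F23466))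
theorem Q3111 : ∀ i, i < 3111 → P i := stepQ 3110 Q3110 (allL N3110 (tt N3615 (iv F27404)) (tt N2586 F23467) (tt N3842 (iv F28696)) (tt N3933 D6034) (tt N2404 (iv D4815)) (tt N2407 F23468) (tt N3934 D6035) (tt N3931 (iv F29059)) (tt N3929 (iv F29053)) (tt N3110 F23469))
theorem Q3112 : ∀ i, i < 3112 → P i := stepQ 3111 Q3111 (allL N3111 (tt N3616 (iv F27408)) (tt N2587 F23470) (tt N3843 (iv F28700)) (tt N3922 (iv F29024)) (tt N3934 (iv F29068)) (tt N2405 F23471) (tt N2404 (iv D4816)) (tt N3935 D6036) (tt N3930 (iv F29056)) (tt N3111 F23472))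
theorem Q3113 : ∀ i, i < 3113 → P i := stepQ 3112 Q3112 (allL N3112 (tt N3617 (iv F27412)) (tt N2588 F23473) (tt N3844 (iv F28704)) (tt N3924 (iv F29033)) (tt N3112 F23474) (tt N3935 (iv F29072)) (tt N3112 F23475) (tt N2405 (iv D4817)) (tt N2439 F23476) (tt N3112 F23477))
theorem Q3114 : ∀ i, i < 3114 → P i := stepQ 3113 Q3113 (allL N3113 (tt N3618 (iv F27418)) (tt N2589 F23478) (tt N3845 (iv F28710)) (tt N3936 D6037) (tt N2406 (iv D4818)) (tt N3931 (iv F29058)) (tt N3937 D6038) (tt N2407 F23479) (tt N3113 F23480) (tt N3113 F23481))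
theorem Q3115 : ∀ i, i < 3115 → P i := stepQ 3114 Q3114 (allL N3114 (tt N3619 (iv F27423)) (tt N2590 F23482) (tt N3846 (iv F28715)) (tt N3114 F23483) (tt N3937 (iv F29080)) (tt N3114 F23484) (tt N2406 (iv D4819)) (tt N3114 F23485) (tt N3114 F23486) (tt N3114 F23487))
theorem Q3116 : ∀ i, i < 3116 → P i := stepQ 3115 Q3115 (allL N3115 (tt N3620 (iv F27430)) (tt N2591 F23488) (tt N3938 D6039) (tt N2407 (iv D4820)) (tt N3115 F23489) (tt N3933 (iv F29065)) (tt N3115 F23490) (tt N3936 (iv F29076)) (tt N3115 F23491) (tt N3115 F23492))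
theorem Q3117 : ∀ i, i < 3117 → P i := stepQ 3116 Q3116 (allL N3116 (tt N2410 F23493) (tt N3621 (iv F27437)) (tt N2592 F23494) (tt N3848 (iv F28726)) (tt N3827 (iv F28628)) (tt N2408 (iv D4821)) (tt N3892 (iv F28895)) (tt N3826 F28624) (tt N3939 D6040) (tt N3940 D6041))
theorem Q3118 : ∀ i, i < 3118 → P i := stepQ 3117 Q3117 (allL N3117 (tt N2411 F23495) (tt N3622 (iv F27440)) (tt N2593 F23496) (tt N3670 (iv F27676)) (tt N2485 F23497) (tt N3826 (iv F28622)) (tt N3117 F23498) (tt N2408 (iv D4822)) (tt N2444 F23499) (tt N3941 D6042))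
theorem Q3119 : ∀ i, i < 3119 → P i := stepQ 3118 Q3118 (allL N3118 (tt N2412 F23500) (tt N3623 (iv F27447)) (tt N2594 F23501) (tt N3849 (iv F28729)) (tt N2486 F23502) (tt N3940 (iv F29093)) (tt N2409 F23503) (tt N3941 (iv F29098)) (tt N3942 D6043) (tt N2408 (iv D4823)))
theorem Q3120 : ∀ i, i < 3120 → P i := stepQ 3119 Q3119 (allL N3119 (tt N2413 F23504) (tt N3624 (iv F27452)) (tt N2595 F23505) (tt N3850 (iv F28734)) (tt N2487 F23506) (tt N3943 D6044) (tt N3942 (iv F29102)) (tt N3119 F23507) (tt N2409 (iv D4824)) (tt N2446 F23508))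
theorem Q3121 : ∀ i, i < 3121 → P i := stepQ 3120 Q3120 (allL N3120 (tt N3827 (iv F28625)) (tt N2414 F23509) (tt N2596 F23510) (tt N3591 (iv F27274)) (tt N2410 (iv D4825)) (tt N2488 F23511) (tt N3895 (iv F28908)) (tt N3538 (iv F26970)) (tt N3904 (iv F28954)) (tt N3944 D6045))
theorem Q3122 : ∀ i, i < 3122 → P i := stepQ 3121 Q3121 (allL N3121 (tt N3826 (iv F28620)) (tt N2415 F23512) (tt N2597 F23513) (tt N3627 (iv F27467)) (tt N3538 (iv F26968)) (tt N2411 F23514) (tt N3556 (iv F27079)) (tt N2410 (iv D4826)) (tt N3553 (iv F27062)) (tt N3945 D6046))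
theorem Q3123 : ∀ i, i < 3123 → P i := stepQ 3122 Q3122 (allL N3122 (tt N3939 (iv F29088)) (tt N2416 F23515) (tt N2598 F23516) (tt N3626 (iv F27462)) (tt N3904 (iv F28951)) (tt N2447 F23517) (tt N3897 (iv F28921)) (tt N3553 (iv F27061)) (tt N2410 (iv D4827)) (tt N3946 D6047))
theorem Q3124 : ∀ i, i < 3124 → P i := stepQ 3123 Q3123 (allL N3123 (tt N3940 (iv F29091)) (tt N2417 F23518) (tt N2599 F23519) (tt N3852 (iv F28743)) (tt N3944 (iv F29110)) (tt N2412 F23520) (tt N3898 (iv F28926)) (tt N3945 (iv F29115)) (tt N3947 D6048) (tt N2410 (iv D4828)))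
theorem Q3125 : ∀ i, i < 3125 → P i := stepQ 3124 Q3124 (allL N3124 (tt N3941 (iv F29094)) (tt N2418 F23521) (tt N2600 F23522) (tt N3675 (iv F27708)) (tt N2491 F23523) (tt N3945 (iv F29114)) (tt N3124 F23524) (tt N2412 F23525) (tt N3948 D6049) (tt N2411 (iv D4829)))
theorem Q3126 : ∀ i, i < 3126 → P i := stepQ 3125 Q3125 (allL N3125 (tt N3942 (iv F29099)) (tt N2419 F23526) (tt N2601 F23527) (tt N3853 (iv F28747)) (tt N2492 F23528) (tt N3949 D6050) (tt N2413 F23529) (tt N3948 (iv F29125)) (tt N2412 (iv D4830)) (tt N2450 F23530))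
theorem Q3127 : ∀ i, i < 3127 → P i := stepQ 3126 Q3126 (allL N3126 (tt N3943 (iv F29104)) (tt N2420 F23531) (tt N2602 F23532) (tt N3854 (iv F28753)) (tt N3950 D6051) (tt N2413 (iv D4831)) (tt N3951 D6052) (tt N3126 F23533) (tt N3901 (iv F28940)) (tt N2451 F23534))
theorem Q3128 : ∀ i, i < 3128 → P i := stepQ 3127 Q3127 (allL N3127 (tt N3632 (iv F27488)) (tt N3591 (iv F27272)) (tt N3127 F23535) (tt N2414 (iv D4832)) (tt N3855 (iv F28757)) (tt N2494 F23536) (tt N3902 (iv F28944)) (tt N3587 (iv F27255)) (tt N3952 D6053) (tt N3953 D6054))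
theorem Q3129 : ∀ i, i < 3129 → P i := stepQ 3128 Q3128 (allL N3128 (tt N3633 (iv F27491)) (tt N3538 (iv F26965)) (tt N2421 F23537) (tt N3587 (iv F27253)) (tt N2415 F23538) (tt N2495 F23539) (tt N3553 (iv F27060)) (tt N2414 (iv D4833)) (tt N3556 (iv F27081)) (tt N3954 D6055))
theorem Q3130 : ∀ i, i < 3130 → P i := stepQ 3129 Q3129 (allL N3129 (tt N3634 (iv F27496)) (tt N3904 (iv F28949)) (tt N2422 F23540) (tt N3952 (iv F29139)) (tt N2416 F23541) (tt N3129 F23542) (tt N3896 (iv F28915)) (tt N3556 (iv F27080)) (tt N2414 (iv D4834)) (tt N3955 D6056))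
theorem Q3131 : ∀ i, i < 3131 → P i := stepQ 3130 Q3130 (allL N3130 (tt N3635 (iv F27501)) (tt N3944 (iv F29108)) (tt N2423 F23543) (tt N3953 (iv F29142)) (tt N2417 F23544) (tt N2496 F23545) (tt N3903 (iv F28948)) (tt N3954 (iv F29147)) (tt N3956 D6057) (tt N2414 (iv D4835)))
theorem Q3132 : ∀ i, i < 3132 → P i := stepQ 3131 Q3131 (allL N3131 (tt N3636 (iv F27505)) (tt N3556 (iv F27076)) (tt N2424 F23546) (tt N3592 (iv F27278)) (tt N3553 F27063) (tt N3131 F23547) (tt N2415 (iv D4836)) (tt N3904 (iv F28953)) (tt N3538 F26971) (tt N3957 D6058))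
theorem Q3133 : ∀ i, i < 3133 → P i := stepQ 3132 Q3132 (allL N3132 (tt N3637 (iv F27510)) (tt N3945 (iv F29112)) (tt N2425 F23548) (tt N3638 (iv F27517)) (tt N3954 (iv F29145)) (tt N2418 F23549) (tt N3957 (iv F29155)) (tt N2417 F23550) (tt N3958 D6059) (tt N2415 (iv D4837)))
theorem Q3134 : ∀ i, i < 3134 → P i := stepQ 3133 Q3133 (allL N3133 (tt N3638 (iv F27515)) (tt N3946 (iv F29116)) (tt N2426 F23551) (tt N3637 (iv F27512)) (tt N3955 (iv F29149)) (tt N2452 F23552) (tt N3906 (iv F28960)) (tt N3557 (iv F27086)) (tt N3959 D6060) (tt N2416 (iv D4838)))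
theorem Q3135 : ∀ i, i < 3135 → P i := stepQ 3134 Q3134 (allL N3134 (tt N3639 (iv F27520)) (tt N3947 (iv F29119)) (tt N2427 F23553) (tt N3857 (iv F28763)) (tt N3956 (iv F29152)) (tt N3960 D6061) (tt N3907 (iv F28962)) (tt N3958 (iv F29157)) (tt N2417 (iv D4839)) (tt N3959 (iv F29159)))
theorem Q3136 : ∀ i, i < 3136 → P i := stepQ 3135 Q3135 (allL N3135 (tt N3640 (iv F27522)) (tt N3948 (iv F29121)) (tt N2428 F23554) (tt N3681 (iv F27736)) (tt N2500 F23555) (tt N3961 D6062) (tt N3135 F23556) (tt N2419 F23557) (tt N2418 (iv D4840)) (tt N2454 F23558))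
theorem Q3137 : ∀ i, i < 3137 → P i := stepQ 3136 Q3136 (allL N3136 (tt N3641 (iv F27529)) (tt N3949 (iv F29127)) (tt N2429 F23559) (tt N3858 (iv F28765)) (tt N3962 D6063) (tt N2419 (iv D4841)) (tt N3963 D6064) (tt N3961 (iv F29163)) (tt N3960 (iv F29161)) (tt N2455 F23560))
theorem Q3138 : ∀ i, i < 3138 → P i := stepQ 3137 Q3137 (allL N3137 (tt N3642 (iv F27532)) (tt N3950 (iv F29130)) (tt N2430 F23561) (tt N3964 D6065) (tt N2420 (iv D4842)) (tt N2502 F23562) (tt N3965 D6066) (tt N3137 F23563) (tt N3910 (iv F28973)) (tt N2456 F23564))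
theorem Q3139 : ∀ i, i < 3139 → P i := stepQ 3138 Q3138 (allL N3138 (tt N3643 (iv F27537)) (tt N3951 (iv F29135)) (tt N2431 F23565) (tt N3860 (iv F28772)) (tt N3965 (iv F29176)) (tt N3963 (iv F29169)) (tt N2420 (iv D4843)) (tt N3966 D6067) (tt N3911 (iv F28976)) (tt N2457 F23566))
theorem Q3140 : ∀ i, i < 3140 → P i := stepQ 3139 Q3139 (allL N3139 (tt N3644 (iv F27540)) (tt N2606 F23567) (tt N3553 (iv F27058)) (tt N3139 F23568) (tt N2424 F23569) (tt N2648 F23570) (tt N2421 (iv D4844)) (tt N2598 F23571) (tt N2597 F23572) (tt N3967 D6068))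
theorem Q3141 : ∀ i, i < 3141 → P i := stepQ 3140 Q3140 (allL N3140 (tt N3645 (iv F27547)) (tt N2614 F23573) (tt N3954 (iv F29144)) (tt N3140 F23574) (tt N2425 F23575) (tt N2505 F23576) (tt N3967 (iv F29185)) (tt N2423 F23577) (tt N3968 D6069) (tt N2421 (iv D4845)))
theorem Q3142 : ∀ i, i < 3142 → P i := stepQ 3141 Q3141 (allL N3141 (tt N3646 (iv F27553)) (tt N2615 F23578) (tt N3955 (iv F29148)) (tt N3141 F23579) (tt N2426 F23580) (tt N3141 F23581) (tt N3913 (iv F28988)) (tt N3560 (iv F27105)) (tt N3969 D6070) (tt N2422 (iv D4846)))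
theorem Q3143 : ∀ i, i < 3143 → P i := stepQ 3142 Q3142 (allL N3142 (tt N3647 (iv F27559)) (tt N2616 F23582) (tt N3956 (iv F29151)) (tt N3142 F23583) (tt N2427 F23584) (tt N3970 D6071) (tt N3914 (iv F28993)) (tt N3968 (iv F29190)) (tt N2423 (iv D4847)) (tt N3969 (iv F29194)))
theorem Q3144 : ∀ i, i < 3144 → P i := stepQ 3143 Q3143 (allL N3143 (tt N3648 (iv F27563)) (tt N2617 F23585) (tt N3957 (iv F29153)) (tt N2432 F23586) (tt N3967 (iv F29183)) (tt N3143 F23587) (tt N2425 F23588) (tt N3915 (iv F28999)) (tt N3971 D6072) (tt N2424 (iv D4848)))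
theorem Q3145 : ∀ i, i < 3145 → P i := stepQ 3144 Q3144 (allL N3144 (tt N3649 (iv F27568)) (tt N2619 F23589) (tt N3958 (iv F29156)) (tt N2433 F23590) (tt N3968 (iv F29189)) (tt N3972 D6073) (tt N3971 (iv F29200)) (tt N2427 F23591) (tt N2425 (iv D4849)) (tt N3561 (iv F27110)))
theorem Q3146 : ∀ i, i < 3146 → P i := stepQ 3145 Q3145 (allL N3145 (tt N3650 (iv F27573)) (tt N2620 F23592) (tt N3959 (iv F29158)) (tt N2434 F23593) (tt N3969 (iv F29193)) (tt N3973 D6074) (tt N3918 (iv F29011)) (tt N3561 (iv F27109)) (tt N2426 (iv D4850)) (tt N2427 F23594))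
theorem Q3147 : ∀ i, i < 3147 → P i := stepQ 3146 Q3146 (allL N3146 (tt N3651 (iv F27578)) (tt N2621 F23595) (tt N3960 (iv F29160)) (tt N2435 F23596) (tt N3974 D6075) (tt N2427 (iv D4851)) (tt N3975 D6076) (tt N3972 (iv F29203)) (tt N2429 F23597) (tt N3973 (iv F29208)))
theorem Q3148 : ∀ i, i < 3148 → P i := stepQ 3147 Q3147 (allL N3147 (tt N3652 (iv F27582)) (tt N2622 F23598) (tt N3961 (iv F29162)) (tt N2436 F23599) (tt N3976 D6077) (tt N2428 (iv D4852)) (tt N3977 D6078) (tt N2429 F23600) (tt N3972 (iv F29204)) (tt N2460 F23601))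
theorem Q3149 : ∀ i, i < 3149 → P i := stepQ 3148 Q3148 (allL N3148 (tt N3653 (iv F27587)) (tt N2623 F23602) (tt N3962 (iv F29165)) (tt N3978 D6079) (tt N2429 (iv D4853)) (tt N2511 F23603) (tt N3979 D6080) (tt N3976 (iv F29216)) (tt N3974 (iv F29210)) (tt N2461 F23604))
theorem Q3150 : ∀ i, i < 3150 → P i := stepQ 3149 Q3149 (allL N3149 (tt N3654 (iv F27591)) (tt N2624 F23605) (tt N3963 (iv F29168)) (tt N2438 F23606) (tt N3979 (iv F29227)) (tt N2431 F23607) (tt N2429 (iv D4854)) (tt N3980 D6081) (tt N3975 (iv F29213)) (tt N2462 F23608))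
theorem Q3151 : ∀ i, i < 3151 → P i := stepQ 3150 Q3150 (allL N3150 (tt N3655 (iv F27596)) (tt N2625 F23609) (tt N3965 (iv F29175)) (tt N3150 F23610) (tt N2431 F23611) (tt N3981 D6082) (tt N2430 (iv D4855)) (tt N3982 D6083) (tt N3923 (iv F29030)) (tt N2463 F23612))
theorem Q3152 : ∀ i, i < 3152 → P i := stepQ 3151 Q3151 (allL N3151 (tt N3656 (iv F27601)) (tt N2626 F23613) (tt N3966 (iv F29178)) (tt N2439 F23614) (tt N3982 (iv F29239)) (tt N3980 (iv F29231)) (tt N3151 F23615) (tt N2431 (iv D4856)) (tt N3924 (iv F29035)) (tt N2464 F23616))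
theorem Q3153 : ∀ i, i < 3153 → P i := stepQ 3152 Q3152 (allL N3152 (tt N3657 (iv F27606)) (tt N2628 F23617) (tt N3612 (iv F27393)) (tt N3971 (iv F29199)) (tt N3152 F23618) (tt N3983 D6084) (tt N2433 F23619) (tt N3925 (iv F29040)) (tt N2432 (iv D4857)) (tt N3545 (iv F27016)))
theorem Q3154 : ∀ i, i < 3154 → P i := stepQ 3153 Q3153 (allL N3153 (tt N3658 (iv F27612)) (tt N2630 F23620) (tt N3659 (iv F27620)) (tt N3972 (iv F29202)) (tt N3984 D6085) (tt N2433 (iv D4858)) (tt N3985 D6086) (tt N2435 F23621) (tt N2436 F23622) (tt N3565 (iv F27129)))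
theorem Q3155 : ∀ i, i < 3155 → P i := stepQ 3154 Q3154 (allL N3154 (tt N3659 (iv F27618)) (tt N2631 F23623) (tt N3658 (iv F27614)) (tt N3973 (iv F29206)) (tt N3986 D6087) (tt N2434 (iv D4859)) (tt N3987 D6088) (tt N3565 (iv F27127)) (tt N2465 F23624) (tt N2435 F23625))
theorem Q3156 : ∀ i, i < 3156 → P i := stepQ 3155 Q3155 (allL N3155 (tt N3660 (iv F27624)) (tt N2632 F23626) (tt N3867 (iv F28796)) (tt N3988 D6089) (tt N2435 (iv D4860)) (tt N3155 F23627) (tt N3989 D6090) (tt N3984 (iv F29246)) (tt N2437 F23628) (tt N3986 (iv F29253)))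
theorem Q3157 : ∀ i, i < 3157 → P i := stepQ 3156 Q3156 (allL N3156 (tt N3661 (iv F27628)) (tt N2633 F23629) (tt N3868 (iv F28800)) (tt N3975 (iv F29212)) (tt N3989 (iv F29261)) (tt N3930 (iv F29055)) (tt N2435 (iv D4861)) (tt N3990 D6091) (tt N2438 F23630) (tt N3987 (iv F29256)))
theorem Q3158 : ∀ i, i < 3158 → P i := stepQ 3157 Q3157 (allL N3157 (tt N3662 (iv F27631)) (tt N2634 F23631) (tt N3699 (iv F27818)) (tt N3991 D6092) (tt N2436 (iv D4862)) (tt N2440 F23632) (tt N3992 D6093) (tt N2437 F23633) (tt N3984 (iv F29247)) (tt N2468 F23634))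
theorem Q3159 : ∀ i, i < 3159 → P i := stepQ 3158 Q3158 (allL N3158 (tt N3663 (iv F27637)) (tt N2635 F23635) (tt N3700 (iv F27824)) (tt N3977 (iv F29219)) (tt N3992 (iv F29270)) (tt N3158 F23636) (tt N2436 (iv D4863)) (tt N3993 D6094) (tt N3985 (iv F29249)) (tt N2469 F23637))
theorem Q3160 : ∀ i, i < 3160 → P i := stepQ 3159 Q3159 (allL N3159 (tt N3664 (iv F27642)) (tt N2636 F23638) (tt N3994 D6095) (tt N2437 (iv D4864)) (tt N3978 (iv F29223)) (tt N2442 F23639) (tt N3995 D6096) (tt N3991 (iv F29267)) (tt N3988 (iv F29259)) (tt N2470 F23640))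
theorem Q3161 : ∀ i, i < 3161 → P i := stepQ 3160 Q3160 (allL N3160 (tt N3665 (iv F27646)) (tt N2637 F23641) (tt N3870 (iv F28806)) (tt N3995 (iv F29279)) (tt N2438 F23642) (tt N3160 F23643) (tt N2437 (iv D4865)) (tt N3996 D6097) (tt N3989 (iv F29262)) (tt N2471 F23644))
theorem Q3162 : ∀ i, i < 3162 → P i := stepQ 3161 Q3161 (allL N3161 (tt N3666 (iv F27651)) (tt N2638 F23645) (tt N3871 (iv F28811)) (tt N3980 (iv F29230)) (tt N3996 (iv F29283)) (tt N2439 F23646) (tt N3993 (iv F29274)) (tt N2438 (iv D4866)) (tt N3990 (iv F29264)) (tt N2472 F23647))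
theorem Q3163 : ∀ i, i < 3163 → P i := stepQ 3162 Q3162 (allL N3162 (tt N3667 (iv F27655)) (tt N2639 F23648) (tt N3997 D6098) (tt N2440 (iv D4867)) (tt N2524 F23649) (tt N3991 (iv F29266)) (tt N2709 F131683) (tt N2442 F23650) (tt N3162 F23651) (tt N2473 F23652))
theorem Q3164 : ∀ i, i < 3164 → P i := stepQ 3163 Q3163 (allL N3163 (tt N3668 (iv F27661)) (tt N2640 F23653) (tt N3714 (iv F27898)) (tt N2709 F131686) (tt N2441 F23654) (tt N3998 D6100) (tt N2440 (iv D4868)) (tt N3163 F23655) (tt N3163 F23656) (tt N2474 F23657))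
theorem Q3165 : ∀ i, i < 3165 → P i := stepQ 3164 Q3164 (allL N3164 (tt N3669 (iv F27668)) (tt N3999 D6101) (tt N2442 (iv D4869)) (tt N3872 (iv F28814)) (tt N2525 F23658) (tt N3994 (iv F29276)) (tt N3164 F23659) (tt N3997 (iv F29287)) (tt N3164 F23660) (tt N2475 F23661))
theorem Q3166 : ∀ i, i < 3166 → P i := stepQ 3165 Q3165 (allL N3165 (tt N2447 F23662) (tt N3670 (iv F27674)) (tt N2643 F23663) (tt N3622 (iv F27442)) (tt N3165 F23664) (tt N3939 (iv F29090)) (tt N3165 F23665) (tt N3551 F27051) (tt N2443 (iv D4870)) (tt N4000 D6102))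
theorem Q3167 : ∀ i, i < 3167 → P i := stepQ 3166 Q3166 (allL N3166 (tt N2448 F23666) (tt N3671 (iv F27681)) (tt N2644 F23667) (tt N3672 (iv F27691)) (tt N3166 F23668) (tt N2445 F23669) (tt N3166 F23670) (tt N3570 (iv F27160)) (tt N4001 D6103) (tt N2443 (iv D4871)))
theorem Q3168 : ∀ i, i < 3168 → P i := stepQ 3167 Q3167 (allL N3167 (tt N2449 F23671) (tt N3672 (iv F27689)) (tt N2645 F23672) (tt N3671 (iv F27683)) (tt N2526 F23673) (tt N3570 (iv F27158)) (tt N3167 F23674) (tt N2445 F23675) (tt N4002 D6104) (tt N2444 (iv D4872)))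
theorem Q3169 : ∀ i, i < 3169 → P i := stepQ 3168 Q3168 (allL N3168 (tt N2450 F23676) (tt N3673 (iv F27697)) (tt N2646 F23677) (tt N3873 (iv F28821)) (tt N2527 F23678) (tt N4003 D6105) (tt N2446 F23679) (tt N4002 (iv F29317)) (tt N2445 (iv D4873)) (tt N3942 (iv F29103)))
theorem Q3170 : ∀ i, i < 3170 → P i := stepQ 3169 Q3169 (allL N3169 (tt N2451 F23680) (tt N3674 (iv F27702)) (tt N2647 F23681) (tt N3874 (iv F28826)) (tt N4004 D6106) (tt N2446 (iv D4874)) (tt N4005 D6107) (tt N3169 F23682) (tt N3169 F23683) (tt N3943 (iv F29107)))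
theorem Q3171 : ∀ i, i < 3171 → P i := stepQ 3170 Q3170 (allL N3170 (tt N4000 (iv F29305)) (tt N2452 F23684) (tt N2650 F23685) (tt N3629 (iv F27475)) (tt N3170 F23686) (tt N3946 (iv F29118)) (tt N3170 F23687) (tt N3554 (iv F27069)) (tt N4006 D6108) (tt N2447 (iv D4875)))
theorem Q3172 : ∀ i, i < 3172 → P i := stepQ 3171 Q3171 (allL N3171 (tt N4001 (iv F29309)) (tt N2453 F23688) (tt N2651 F23689) (tt N3677 (iv F27720)) (tt N3171 F23690) (tt N4007 D6109) (tt N3171 F23691) (tt N3572 (iv F27171)) (tt N2448 (iv D4876)) (tt N4006 (iv F29332)))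
theorem Q3173 : ∀ i, i < 3173 → P i := stepQ 3172 Q3172 (allL N3172 (tt N4002 (iv F29313)) (tt N2454 F23692) (tt N2652 F23693) (tt N3676 (iv F27714)) (tt N2529 F23694) (tt N4008 D6110) (tt N3172 F23695) (tt N2450 F23696) (tt N2449 (iv D4877)) (tt N3948 (iv F29126)))
theorem Q3174 : ∀ i, i < 3174 → P i := stepQ 3173 Q3173 (allL N3173 (tt N4003 (iv F29318)) (tt N2455 F23697) (tt N2653 F23698) (tt N3875 (iv F28831)) (tt N4009 D6111) (tt N2450 (iv D4878)) (tt N4010 D6112) (tt N4008 (iv F29338)) (tt N4007 (iv F29335)) (tt N3949 (iv F29129)))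
theorem Q3175 : ∀ i, i < 3175 → P i := stepQ 3174 Q3174 (allL N3174 (tt N4004 (iv F29320)) (tt N2456 F23699) (tt N2654 F23700) (tt N4011 D6113) (tt N2451 (iv D4879)) (tt N2531 F23701) (tt N4012 D6114) (tt N3174 F23702) (tt N3174 F23703) (tt N3950 (iv F29134)))
theorem Q3176 : ∀ i, i < 3176 → P i := stepQ 3175 Q3175 (allL N3175 (tt N4005 (iv F29325)) (tt N2457 F23704) (tt N2655 F23705) (tt N3877 (iv F28839)) (tt N4012 (iv F29351)) (tt N4010 (iv F29344)) (tt N2451 (iv D4880)) (tt N4013 D6115) (tt N3175 F23706) (tt N3951 (iv F29137)))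
theorem Q3177 : ∀ i, i < 3177 → P i := stepQ 3176 Q3176 (allL N3176 (tt N3681 (iv F27734)) (tt N4006 (iv F29328)) (tt N2458 F23707) (tt N3640 (iv F27524)) (tt N3176 F23708) (tt N4014 D6116) (tt N3176 F23709) (tt N3558 (iv F27092)) (tt N2452 (iv D4881)) (tt N2453 F23710))
theorem Q3178 : ∀ i, i < 3178 → P i := stepQ 3177 Q3177 (allL N3177 (tt N3682 (iv F27741)) (tt N4007 (iv F29333)) (tt N2459 F23711) (tt N3683 (iv F27748)) (tt N4015 D6117) (tt N2453 (iv D4882)) (tt N4016 D6118) (tt N3574 (iv F27179)) (tt N2455 F23712) (tt N4014 (iv F29358)))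
theorem Q3179 : ∀ i, i < 3179 → P i := stepQ 3178 Q3178 (allL N3178 (tt N3683 (iv F27746)) (tt N4008 (iv F29336)) (tt N2460 F23713) (tt N3682 (iv F27743)) (tt N4017 D6119) (tt N2454 (iv D4883)) (tt N4018 D6120) (tt N2455 F23714) (tt N3574 (iv F27180)) (tt N3961 (iv F29164)))
theorem Q3180 : ∀ i, i < 3180 → P i := stepQ 3179 Q3179 (allL N3179 (tt N3684 (iv F27751)) (tt N4009 (iv F29339)) (tt N2461 F23715) (tt N4019 D6121) (tt N2455 (iv D4884)) (tt N2534 F23716) (tt N4020 D6122) (tt N4017 (iv F29367)) (tt N4015 (iv F29361)) (tt N3962 (iv F29167)))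
theorem Q3181 : ∀ i, i < 3181 → P i := stepQ 3180 Q3180 (allL N3180 (tt N3685 (iv F27754)) (tt N4010 (iv F29342)) (tt N2462 F23717) (tt N3879 (iv F28844)) (tt N4020 (iv F29372)) (tt N2457 F23718) (tt N2455 (iv D4885)) (tt N4021 D6123) (tt N4016 (iv F29364)) (tt N3963 (iv F29170)))
theorem Q3182 : ∀ i, i < 3182 → P i := stepQ 3181 Q3181 (allL N3181 (tt N3686 (iv F27757)) (tt N4011 (iv F29345)) (tt N3181 F23719) (tt N2456 (iv D4886)) (tt N3880 (iv F28847)) (tt N2536 F23720) (tt N4022 D6124) (tt N3181 F23721) (tt N3181 F23722) (tt N3964 (iv F29174)))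
theorem Q3183 : ∀ i, i < 3183 → P i := stepQ 3182 Q3182 (allL N3182 (tt N3687 (iv F27762)) (tt N4012 (iv F29349)) (tt N2463 F23723) (tt N4022 (iv F29376)) (tt N2457 F23724) (tt N4023 D6125) (tt N2456 (iv D4887)) (tt N4024 D6126) (tt N3182 F23725) (tt N3965 (iv F29177)))
theorem Q3184 : ∀ i, i < 3184 → P i := stepQ 3183 Q3183 (allL N3183 (tt N3688 (iv F27766)) (tt N4013 (iv F29353)) (tt N2464 F23726) (tt N3882 (iv F28855)) (tt N4024 (iv F29381)) (tt N4021 (iv F29374)) (tt N3183 F23727) (tt N2457 (iv D4888)) (tt N3183 F23728) (tt N3966 (iv F29180)))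
theorem Q3185 : ∀ i, i < 3185 → P i := stepQ 3184 Q3184 (allL N3184 (tt N3689 (iv F27770)) (tt N2668 F23729) (tt N4014 (iv F29357)) (tt N2465 F23730) (tt N4025 D6127) (tt N2458 (iv D4889)) (tt N4026 D6128) (tt N3562 (iv F27114)) (tt N3973 (iv F29207)) (tt N2459 F23731))
theorem Q3186 : ∀ i, i < 3186 → P i := stepQ 3185 Q3185 (allL N3185 (tt N3690 (iv F27775)) (tt N2669 F23732) (tt N4015 (iv F29359)) (tt N4027 D6129) (tt N2459 (iv D4890)) (tt N3185 F23733) (tt N4028 D6130) (tt N3577 (iv F27193)) (tt N2461 F23734) (tt N4025 (iv F29386)))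
theorem Q3187 : ∀ i, i < 3187 → P i := stepQ 3186 Q3186 (allL N3186 (tt N3691 (iv F27780)) (tt N2670 F23735) (tt N4016 (iv F29362)) (tt N2467 F23736) (tt N4028 (iv F29396)) (tt N3186 F23737) (tt N2459 (iv D4891)) (tt N4029 D6131) (tt N2462 F23738) (tt N4026 (iv F29390)))
theorem Q3188 : ∀ i, i < 3188 → P i := stepQ 3187 Q3187 (allL N3187 (tt N3692 (iv F27785)) (tt N2671 F23739) (tt N4017 (iv F29365)) (tt N4030 D6132) (tt N2460 (iv D4892)) (tt N2539 F23740) (tt N4031 D6133) (tt N2461 F23741) (tt N3577 (iv F27194)) (tt N3976 (iv F29217)))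
theorem Q3189 : ∀ i, i < 3189 → P i := stepQ 3188 Q3188 (allL N3188 (tt N3693 (iv F27790)) (tt N2672 F23742) (tt N4018 (iv F29368)) (tt N2469 F23743) (tt N4031 (iv F29407)) (tt N3188 F23744) (tt N2460 (iv D4893)) (tt N4032 D6134) (tt N3578 (iv F27199)) (tt N3977 (iv F29221)))
theorem Q3190 : ∀ i, i < 3190 → P i := stepQ 3189 Q3189 (allL N3189 (tt N3694 (iv F27795)) (tt N2673 F23745) (tt N4033 D6135) (tt N2461 (iv D4894)) (tt N2470 F23746) (tt N2541 F23747) (tt N4034 D6136) (tt N4030 (iv F29405)) (tt N4027 (iv F29394)) (tt N3978 (iv F29225)))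
theorem Q3191 : ∀ i, i < 3191 → P i := stepQ 3190 Q3190 (allL N3190 (tt N3695 (iv F27799)) (tt N2674 F23748) (tt N4020 (iv F29371)) (tt N4034 (iv F29415)) (tt N2462 F23749) (tt N4035 D6137) (tt N2461 (iv D4895)) (tt N4036 D6138) (tt N4028 (iv F29397)) (tt N3979 (iv F29228)))
theorem Q3192 : ∀ i, i < 3192 → P i := stepQ 3191 Q3191 (allL N3191 (tt N3696 (iv F27802)) (tt N2675 F23750) (tt N4021 (iv F29373)) (tt N2472 F23751) (tt N4036 (iv F29421)) (tt N2464 F23752) (tt N4032 (iv F29411)) (tt N2462 (iv D4896)) (tt N4029 (iv F29401)) (tt N3980 (iv F29232)))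
theorem Q3193 : ∀ i, i < 3193 → P i := stepQ 3192 Q3192 (allL N3192 (tt N3697 (iv F27806)) (tt N2676 F23753) (tt N4023 (iv F29378)) (tt N3192 F23754) (tt N4035 (iv F29418)) (tt N2463 (iv D4897)) (tt N2544 F23755) (tt N4037 D6139) (tt N4038 D6140) (tt N3981 (iv F29236)))
theorem Q3194 : ∀ i, i < 3194 → P i := stepQ 3193 Q3193 (allL N3193 (tt N3698 (iv F27810)) (tt N2677 F23756) (tt N4024 (iv F29380)) (tt N3193 F23757) (tt N2464 F23758) (tt N4037 (iv F29424)) (tt N3193 F23759) (tt N2463 (iv D4898)) (tt N3193 F23760) (tt N3982 (iv F29241)))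
theorem Q3195 : ∀ i, i < 3195 → P i := stepQ 3194 Q3194 (allL N3194 (tt N3699 (iv F27816)) (tt N2681 F23761) (tt N3662 (iv F27633)) (tt N4039 D6141) (tt N2465 (iv D4899)) (tt N2476 F23762) (tt N4040 D6142) (tt N3566 (iv F27134)) (tt N3986 (iv F29252)) (tt N2466 F23763))
theorem Q3196 : ∀ i, i < 3196 → P i := stepQ 3195 Q3195 (allL N3195 (tt N3700 (iv F27822)) (tt N2682 F23764) (tt N3663 (iv F27639)) (tt N4026 (iv F29388)) (tt N4040 (iv F29433)) (tt N3195 F23765) (tt N2465 (iv D4900)) (tt N4041 D6143) (tt N3987 (iv F29255)) (tt N2467 F23766))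
theorem Q3197 : ∀ i, i < 3197 → P i := stepQ 3196 Q3196 (allL N3196 (tt N3701 (iv F27827)) (tt N2683 F23767) (tt N4042 D6144) (tt N2466 (iv D4901)) (tt N4027 (iv F29392)) (tt N2478 F23768) (tt N4043 D6145) (tt N3581 (iv F27211)) (tt N2470 F23769) (tt N4039 (iv F29431)))
theorem Q3198 : ∀ i, i < 3198 → P i := stepQ 3197 Q3197 (allL N3197 (tt N3702 (iv F27832)) (tt N2684 F23770) (tt N3705 (iv F27850)) (tt N4043 (iv F29441)) (tt N2467 F23771) (tt N4044 D6146) (tt N2466 (iv D4902)) (tt N4045 D6147) (tt N2471 F23772) (tt N4040 (iv F29434)))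
theorem Q3199 : ∀ i, i < 3199 → P i := stepQ 3198 Q3198 (allL N3198 (tt N3703 (iv F27837)) (tt N2685 F23773) (tt N3706 (iv F27855)) (tt N4029 (iv F29399)) (tt N4045 (iv F29448)) (tt N3198 F23774) (tt N3583 (iv F27223)) (tt N2467 (iv D4903)) (tt N2472 F23775) (tt N4041 (iv F29437)))
theorem Q3200 : ∀ i, i < 3200 → P i := stepQ 3199 Q3199 (allL N3199 (tt N3704 (iv F27843)) (tt N2686 F23776) (tt N4046 D6148) (tt N2468 (iv D4904)) (tt N4030 (iv F29403)) (tt N2473 F23777) (tt N4047 D6149) (tt N2470 F23778) (tt N3581 (iv F27212)) (tt N3991 (iv F29268)))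
theorem Q3201 : ∀ i, i < 3201 → P i := stepQ 3200 Q3200 (allL N3200 (tt N3705 (iv F27848)) (tt N2687 F23779) (tt N3702 (iv F27834)) (tt N4047 (iv F29453)) (tt N2469 F23780) (tt N4048 D6150) (tt N2468 (iv D4905)) (tt N4049 D6151) (tt N3582 (iv F27218)) (tt N3992 (iv F29271)))
theorem Q3202 : ∀ i, i < 3202 → P i := stepQ 3201 Q3201 (allL N3201 (tt N3706 (iv F27853)) (tt N2688 F23781) (tt N3703 (iv F27839)) (tt N4032 (iv F29409)) (tt N4049 (iv F29459)) (tt N3201 F23782) (tt N2472 F23783) (tt N2469 (iv D4906)) (tt N3583 (iv F27224)) (tt N3993 (iv F29275)))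
theorem Q3203 : ∀ i, i < 3203 → P i := stepQ 3202 Q3202 (allL N3202 (tt N3707 (iv F27859)) (tt N4050 D6152) (tt N2470 (iv D4907)) (tt N3888 (iv F28874)) (tt N4033 (iv F29412)) (tt N2475 F23784) (tt N4051 D6153) (tt N4046 (iv F29451)) (tt N4042 (iv F29439)) (tt N3994 (iv F29277)))
theorem Q3204 : ∀ i, i < 3204 → P i := stepQ 3203 Q3203 (allL N3203 (tt N3708 (iv F27861)) (tt N2690 F23785) (tt N4051 (iv F29463)) (tt N2471 F23786) (tt N4034 (iv F29416)) (tt N3203 F23787) (tt N2470 (iv D4908)) (tt N4052 D6154) (tt N4043 (iv F29442)) (tt N3995 (iv F29281)))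
theorem Q3205 : ∀ i, i < 3205 → P i := stepQ 3204 Q3204 (allL N3204 (tt N3709 (iv F27865)) (tt N2691 F23788) (tt N3890 (iv F28880)) (tt N4052 (iv F29466)) (tt N2472 F23789) (tt N3204 F23790) (tt N4049 (iv F29460)) (tt N2471 (iv D4909)) (tt N4045 (iv F29449)) (tt N3996 (iv F29285)))
theorem Q3206 : ∀ i, i < 3206 → P i := stepQ 3205 Q3205 (allL N3205 (tt N3710 (iv F27869)) (tt N2537 (iv F131428)) (tt N2473 (iv D4910)) (tt N3715 (iv F27904)) (tt N2532 F131072) (tt N4046 (iv F29450)) (tt N2531 (iv F131316)) (tt N2475 F23792) (tt N2482 F23793) (tt N3997 (iv F29289)))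
theorem Q3207 : ∀ i, i < 3207 → P i := stepQ 3206 Q3206 (allL N3206 (tt N3711 (iv F27880)) (tt N2663 F131702) (tt N3717 (iv F27916)) (tt N2654 F131703) (tt N3206 F23800) (tt N2474 (iv D4912)) (tt N4048 (iv F29456)) (tt N3206 F23801) (tt N3206 F23802) (tt N3998 (iv F29299)))
theorem Q3208 : ∀ i, i < 3208 → P i := stepQ 3207 Q3207 (allL N3207 (tt N3792 (iv F131432)) (tt N2475 (iv D4913)) (tt N2545 (iv F131294)) (tt N3891 (iv F28884)) (tt N2538 F131075) (tt N4050 (iv F29462)) (tt N3207 F23805) (tt N2537 (iv F131429)) (tt N2483 F23806) (tt N3999 (iv F29304)))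
theorem Q3209 : ∀ i, i < 3209 → P i := stepQ 3208 Q3208 (allL N3208 (tt N3713 (iv F27890)) (tt N2694 F23807) (tt N4053 D6159) (tt N2476 (iv D4914)) (tt N3208 F23808) (tt N4039 (iv F29430)) (tt N4054 D6160) (tt N3569 (iv F27150)) (tt N3208 F23809) (tt N2478 F23810))
theorem Q3210 : ∀ i, i < 3210 → P i := stepQ 3209 Q3209 (allL N3209 (tt N3714 (iv F27896)) (tt N2695 F23811) (tt N3668 (iv F27663)) (tt N4054 (iv F29488)) (tt N2477 F23812) (tt N4055 D6161) (tt N2476 (iv D4915)) (tt N3209 F23813) (tt N3209 F23814) (tt N2479 F23815))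
theorem Q3211 : ∀ i, i < 3211 → P i := stepQ 3210 Q3210 (allL N3210 (tt N3715 (iv F27903)) (tt N4056 D6162) (tt N2478 (iv D4916)) (tt N3710 (iv F27870)) (tt N3210 F23816) (tt N4042 (iv F29438)) (tt N4057 D6163) (tt N3584 (iv F27229)) (tt N2480 F23817) (tt N4053 (iv F29486)))
theorem Q3212 : ∀ i, i < 3212 → P i := stepQ 3211 Q3211 (allL N3211 (tt N3716 (iv F27908)) (tt N2697 F23818) (tt N4057 (iv F29500)) (tt N2479 F23819) (tt N3211 F23820) (tt N4058 D6164) (tt N2478 (iv D4917)) (tt N3211 F23821) (tt N2481 F23822) (tt N4054 (iv F29492)))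
theorem Q3213 : ∀ i, i < 3213 → P i := stepQ 3212 Q3212 (allL N3212 (tt N3717 (iv F27914)) (tt N2698 F23823) (tt N3711 (iv F27882)) (tt N4058 (iv F29505)) (tt N3212 F23824) (tt N2479 (iv D4918)) (tt N4044 (iv F29445)) (tt N3212 F23825) (tt N3212 F23826) (tt N4055 (iv F29496)))
theorem Q3214 : ∀ i, i < 3214 → P i := stepQ 3213 Q3213 (allL N3213 (tt N3808 F131071) (tt N2480 (iv D4919)) (tt N2555 (iv F131292)) (tt N3718 (iv F27934)) (tt N3213 F23828) (tt N2483 F23829) (tt N3806 (iv F131423)) (tt N2554 F131074) (tt N4056 (iv F29499)) (tt N3213 F23830))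
theorem Q3215 : ∀ i, i < 3215 → P i := stepQ 3214 Q3214 (allL N3214 (tt N2552 F131109) (tt N3806 (iv F131422)) (tt N2481 F23831) (tt N2551 F131110) (tt N3214 F23832) (tt N3214 F23833) (tt N2480 (iv D4920)) (tt N3214 F23834) (tt N4057 (iv F29503)) (tt N3214 F23835))
theorem Q3216 : ∀ i, i < 3216 → P i := stepQ 3215 Q3215 (allL N3215 (tt N2490 F23849) (tt N3722 (iv F27967)) (tt N2700 F23850) (tt N3215 F23851) (tt N3829 (iv F28637)) (tt N2486 F23852) (tt N3215 F23853) (tt N3814 (iv F28561)) (tt N4059 D6169) (tt N2484 (iv D4924)))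
theorem Q3217 : ∀ i, i < 3217 → P i := stepQ 3216 Q3216 (allL N3216 (tt N2491 F23854) (tt N3723 (iv F27973)) (tt N2701 F23855) (tt N3216 F23856) (tt N3941 (iv F29096)) (tt N3814 (iv F28559)) (tt N3216 F23857) (tt N2486 F23858) (tt N4060 D6170) (tt N2485 (iv D4925)))
theorem Q3218 : ∀ i, i < 3218 → P i := stepQ 3217 Q3217 (allL N3217 (tt N2492 F23859) (tt N3724 (iv F27979)) (tt N2702 F23860) (tt N3217 F23861) (tt N3942 (iv F29101)) (tt N4061 D6171) (tt N2487 F23862) (tt N4060 (iv F29537)) (tt N2486 (iv D4926)) (tt N2527 F23863))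
theorem Q3219 : ∀ i, i < 3219 → P i := stepQ 3218 Q3218 (allL N3218 (tt N2493 F23864) (tt N3725 (iv F27985)) (tt N2703 F23865) (tt N3218 F23866) (tt N4062 D6172) (tt N2487 (iv D4927)) (tt N3773 (iv F131453)) (tt N3218 F23867) (tt N3218 F23868) (tt N2528 F23869))
theorem Q3220 : ∀ i, i < 3220 → P i := stepQ 3219 Q3219 (allL N3219 (tt N3829 (iv F28634)) (tt N2496 F23870) (tt N2704 F23871) (tt N3594 (iv F27288)) (tt N2490 F23872) (tt N3944 (iv F29111)) (tt N3219 F23873) (tt N3539 (iv F26978)) (tt N4063 D6174) (tt N2488 (iv D4928)))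
theorem Q3221 : ∀ i, i < 3221 → P i := stepQ 3220 Q3220 (allL N3220 (tt N3814 (iv F28555)) (tt N2498 F23874) (tt N2705 F23875) (tt N3220 F23876) (tt N3539 (iv F26976)) (tt N2491 F23877) (tt N3532 (iv F26925)) (tt N2490 F23878) (tt N4064 D6175) (tt N2489 (iv D4929)))
theorem Q3222 : ∀ i, i < 3222 → P i := stepQ 3221 Q3221 (allL N3221 (tt N4059 (iv F29528)) (tt N2499 F23879) (tt N2706 F23880) (tt N3221 F23881) (tt N4063 (iv F29555)) (tt N4065 D6176) (tt N3221 F23882) (tt N4064 (iv F29561)) (tt N2490 (iv D4930)) (tt N3221 F23883))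
theorem Q3223 : ∀ i, i < 3223 → P i := stepQ 3222 Q3222 (allL N3222 (tt N4060 (iv F29533)) (tt N2500 F23884) (tt N2707 F23885) (tt N3222 F23886) (tt N3948 (iv F29123)) (tt N4066 D6177) (tt N3222 F23887) (tt N2492 F23888) (tt N2491 (iv D4931)) (tt N2529 F23889))
theorem Q3224 : ∀ i, i < 3224 → P i := stepQ 3223 Q3223 (allL N3223 (tt N4061 (iv F29539)) (tt N2501 F23890) (tt N2708 F23891) (tt N3223 F23892) (tt N4067 D6178) (tt N2492 (iv D4932)) (tt N4068 D6179) (tt N4066 (iv F29571)) (tt N4065 (iv F29566)) (tt N2530 F23893))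
theorem Q3225 : ∀ i, i < 3225 → P i := stepQ 3224 Q3224 (allL N3224 (tt N4062 (iv F29543)) (tt N2502 F23894) (tt N2709 F23895) (tt N4069 D6180) (tt N2493 (iv D4933)) (tt N3950 (iv F29132)) (tt N3997 F131710) (tt N3224 F23896) (tt N3224 F23897) (tt N2531 F23898))
theorem Q3226 : ∀ i, i < 3226 → P i := stepQ 3225 Q3225 (allL N3225 (tt N3773 (iv F131451)) (tt N2503 F23899) (tt N2524 (iv F131312)) (tt N3225 F23901) (tt N3997 (iv F131416)) (tt N4068 (iv F29579)) (tt N2493 (iv D4934)) (tt N2525 (iv F131455)) (tt N3225 F23902) (tt N2532 F23903))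
theorem Q3227 : ∀ i, i < 3227 → P i := stepQ 3226 Q3226 (allL N3226 (tt N3736 (iv F28047)) (tt N3594 (iv F27286)) (tt N3226 F23904) (tt N2496 F23905) (tt N3226 F23906) (tt N3953 (iv F29143)) (tt N3226 F23907) (tt N3588 (iv F27261)) (tt N4070 D6183) (tt N2494 (iv D4935)))
theorem Q3228 : ∀ i, i < 3228 → P i := stepQ 3227 Q3227 (allL N3227 (tt N3737 (iv F28052)) (tt N3539 (iv F26973)) (tt N2505 F23908) (tt N3588 (iv F27258)) (tt N2498 F23909) (tt N3954 (iv F29146)) (tt N3537 (iv F26962)) (tt N2496 F23910) (tt N4071 D6184) (tt N2495 (iv D4936)))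
theorem Q3229 : ∀ i, i < 3229 → P i := stepQ 3228 Q3228 (allL N3228 (tt N3738 (iv F28056)) (tt N4063 (iv F29553)) (tt N2506 F23911) (tt N4070 (iv F29598)) (tt N2499 F23912) (tt N4072 D6185) (tt N3228 F23913) (tt N4071 (iv F29604)) (tt N2496 (iv D4937)) (tt N3228 F23914))
theorem Q3230 : ∀ i, i < 3230 → P i := stepQ 3229 Q3229 (allL N3229 (tt N3739 (iv F28061)) (tt N3532 (iv F26920)) (tt N2507 F23915) (tt N3229 F23916) (tt N3537 (iv F26960)) (tt N3229 F23917) (tt N2498 F23918) (tt N3229 F23919) (tt N4073 D6186) (tt N2497 (iv D4938)))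
theorem Q3231 : ∀ i, i < 3231 → P i := stepQ 3230 Q3230 (allL N3230 (tt N3740 (iv F28067)) (tt N4064 (iv F29558)) (tt N2508 F23920) (tt N3230 F23921) (tt N4071 (iv F29603)) (tt N4074 D6187) (tt N4073 (iv F29610)) (tt N2499 F23922) (tt N2498 (iv D4939)) (tt N3230 F23923))
theorem Q3232 : ∀ i, i < 3232 → P i := stepQ 3231 Q3231 (allL N3231 (tt N3741 (iv F28072)) (tt N4065 (iv F29563)) (tt N2509 F23924) (tt N3231 F23925) (tt N4075 D6188) (tt N2499 (iv D4940)) (tt N4076 D6189) (tt N4074 (iv F29615)) (tt N2501 F23926) (tt N3231 F23927))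
theorem Q3233 : ∀ i, i < 3233 → P i := stepQ 3232 Q3232 (allL N3232 (tt N3742 (iv F28077)) (tt N4066 (iv F29568)) (tt N2510 F23928) (tt N3232 F23929) (tt N4077 D6190) (tt N2500 (iv D4941)) (tt N4078 D6191) (tt N2501 F23930) (tt N4074 (iv F29616)) (tt N2533 F23931))
theorem Q3234 : ∀ i, i < 3234 → P i := stepQ 3233 Q3233 (allL N3233 (tt N3743 (iv F28082)) (tt N4067 (iv F29573)) (tt N2511 F23932) (tt N4079 D6192) (tt N2501 (iv D4942)) (tt N3962 (iv F29166)) (tt N4080 D6193) (tt N4077 (iv F29627)) (tt N4075 (iv F29619)) (tt N2534 F23933))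
theorem Q3235 : ∀ i, i < 3235 → P i := stepQ 3234 Q3234 (allL N3234 (tt N3744 (iv F28085)) (tt N4068 (iv F29576)) (tt N2512 F23934) (tt N3234 F23935) (tt N4080 (iv F29636)) (tt N2503 F23936) (tt N2501 (iv D4943)) (tt N4081 D6194) (tt N4076 (iv F29624)) (tt N2535 F23937))
theorem Q3236 : ∀ i, i < 3236 → P i := stepQ 3235 Q3235 (allL N3235 (tt N3745 (iv F28090)) (tt N4069 (iv F29581)) (tt N3235 F23938) (tt N2502 (iv D4944)) (tt N3235 F23939) (tt N3964 (iv F29172)) (tt N4082 D6195) (tt N3235 F23940) (tt N3235 F23941) (tt N2536 F23942))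
theorem Q3237 : ∀ i, i < 3237 → P i := stepQ 3236 Q3236 (allL N3236 (tt N3746 (iv F28096)) (tt N3997 F131820) (tt N2513 F23943) (tt N4082 (iv F29643)) (tt N2503 F23944) (tt N4083 D6196) (tt N2502 (iv D4945)) (tt N3999 F131821) (tt N3236 F23945) (tt N2537 F23946))
theorem Q3238 : ∀ i, i < 3238 → P i := stepQ 3237 Q3237 (allL N3237 (tt N3747 (iv F28101)) (tt N2525 (iv F131454)) (tt N2514 F23947) (tt N3237 F23948) (tt N3999 (iv F131417)) (tt N4081 (iv F29640)) (tt N3237 F23949) (tt N2503 (iv D4946)) (tt N3237 F23950) (tt N2538 F23951))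
theorem Q3239 : ∀ i, i < 3239 → P i := stepQ 3238 Q3238 (allL N3238 (tt N3748 (iv F28107)) (tt N2719 F23952) (tt N3537 (iv F26958)) (tt N3238 F23953) (tt N2507 F23954) (tt N3522 (iv F26861)) (tt N2505 F23955) (tt N3238 F23956) (tt N4084 D6198) (tt N2504 (iv D4947)))
theorem Q3240 : ∀ i, i < 3240 → P i := stepQ 3239 Q3239 (allL N3239 (tt N3749 (iv F28113)) (tt N2720 F23957) (tt N4071 (iv F29602)) (tt N3239 F23958) (tt N2508 F23959) (tt N4085 D6199) (tt N4084 (iv F29657)) (tt N2506 F23960) (tt N2505 (iv D4948)) (tt N3239 F23961))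
theorem Q3241 : ∀ i, i < 3241 → P i := stepQ 3240 Q3240 (allL N3240 (tt N3750 (iv F28119)) (tt N2721 F23962) (tt N4072 (iv F29606)) (tt N3240 F23963) (tt N4086 D6200) (tt N2506 (iv D4949)) (tt N4087 D6201) (tt N4085 (iv F29662)) (tt N3970 (iv F29197)) (tt N3240 F23964))
theorem Q3242 : ∀ i, i < 3242 → P i := stepQ 3241 Q3241 (allL N3241 (tt N3751 (iv F28123)) (tt N2722 F23965) (tt N4073 (iv F29608)) (tt N2515 F23966) (tt N4084 (iv F29656)) (tt N4088 D6202) (tt N2508 F23967) (tt N3241 F23968) (tt N2507 (iv D4950)) (tt N3241 F23969))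
theorem Q3243 : ∀ i, i < 3243 → P i := stepQ 3242 Q3242 (allL N3242 (tt N3752 (iv F28129)) (tt N2723 F23970) (tt N4074 (iv F29613)) (tt N2516 F23971) (tt N4089 D6203) (tt N2508 (iv D4951)) (tt N4090 D6204) (tt N2509 F23972) (tt N2510 F23973) (tt N3242 F23974))
theorem Q3244 : ∀ i, i < 3244 → P i := stepQ 3243 Q3243 (allL N3243 (tt N3753 (iv F28135)) (tt N2724 F23975) (tt N4075 (iv F29618)) (tt N4091 D6205) (tt N2509 (iv D4952)) (tt N4086 (iv F29665)) (tt N4092 D6206) (tt N4089 (iv F29677)) (tt N2511 F23976) (tt N3243 F23977))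
theorem Q3245 : ∀ i, i < 3245 → P i := stepQ 3244 Q3244 (allL N3244 (tt N3754 (iv F28139)) (tt N2725 F23978) (tt N4076 (iv F29621)) (tt N2518 F23979) (tt N4092 (iv F29689)) (tt N3244 F23980) (tt N2509 (iv D4953)) (tt N4093 D6207) (tt N2512 F23981) (tt N3244 F23982))
theorem Q3246 : ∀ i, i < 3246 → P i := stepQ 3245 Q3245 (allL N3245 (tt N3755 (iv F28145)) (tt N2726 F23983) (tt N4077 (iv F29626)) (tt N4094 D6208) (tt N2510 (iv D4954)) (tt N3976 (iv F29215)) (tt N4095 D6209) (tt N2511 F23984) (tt N4089 (iv F29678)) (tt N2539 F23985))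
theorem Q3247 : ∀ i, i < 3247 → P i := stepQ 3246 Q3246 (allL N3246 (tt N3756 (iv F28149)) (tt N2727 F23986) (tt N4078 (iv F29629)) (tt N2520 F23987) (tt N4095 (iv F29702)) (tt N3246 F23988) (tt N2510 (iv D4955)) (tt N4096 D6210) (tt N4090 (iv F29682)) (tt N2540 F23989))
theorem Q3248 : ∀ i, i < 3248 → P i := stepQ 3247 Q3247 (allL N3247 (tt N3757 (iv F28154)) (tt N2728 F23990) (tt N4097 D6211) (tt N2511 (iv D4956)) (tt N2521 F23991) (tt N3978 (iv F29224)) (tt N4098 D6212) (tt N4094 (iv F29699)) (tt N4091 (iv F29686)) (tt N2541 F23992))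
theorem Q3249 : ∀ i, i < 3249 → P i := stepQ 3248 Q3248 (allL N3248 (tt N3758 (iv F28158)) (tt N2729 F23993) (tt N4080 (iv F29635)) (tt N4098 (iv F29712)) (tt N2512 F23994) (tt N4099 D6213) (tt N2511 (iv D4957)) (tt N4100 D6214) (tt N4092 (iv F29690)) (tt N2542 F23995))
theorem Q3250 : ∀ i, i < 3250 → P i := stepQ 3249 Q3249 (allL N3249 (tt N3759 (iv F28162)) (tt N2730 F23996) (tt N4081 (iv F29638)) (tt N2523 F23997) (tt N4100 (iv F29719)) (tt N2514 F23998) (tt N4096 (iv F29707)) (tt N2512 (iv D4958)) (tt N4093 (iv F29695)) (tt N2543 F23999))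
theorem Q3251 : ∀ i, i < 3251 → P i := stepQ 3250 Q3250 (allL N3250 (tt N3760 (iv F28167)) (tt N2731 F24000) (tt N4083 (iv F29647)) (tt N3250 F24001) (tt N4099 (iv F29716)) (tt N2513 (iv D4959)) (tt N3981 (iv F29235)) (tt N4101 D6215) (tt N4102 D6216) (tt N2544 F24002))
theorem Q3252 : ∀ i, i < 3252 → P i := stepQ 3251 Q3251 (allL N3251 (tt N3761 (iv F28171)) (tt N2641 F131690) (tt N3999 F131691) (tt N3251 F24004) (tt N2514 F24005) (tt N4101 (iv F29723)) (tt N3251 F24006) (tt N2513 (iv D4960)) (tt N3251 F24007) (tt N2545 F24008))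
theorem Q3253 : ∀ i, i < 3253 → P i := stepQ 3252 Q3252 (allL N3252 (tt N3762 (iv F28178)) (tt N2732 F24009) (tt N3252 F24010) (tt N4088 (iv F29672)) (tt N4103 D6217) (tt N2515 (iv D4961)) (tt N4104 D6218) (tt N3252 F24011) (tt N3252 F24012) (tt N3252 F24013))
theorem Q3254 : ∀ i, i < 3254 → P i := stepQ 3253 Q3253 (allL N3253 (tt N3763 (iv F28184)) (tt N2733 F24014) (tt N3253 F24015) (tt N4105 D6219) (tt N2516 (iv D4962)) (tt N3253 F24016) (tt N2761 F132544) (tt N2517 F24017) (tt N2519 F24018) (tt N3253 F24019))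
theorem Q3255 : ∀ i, i < 3255 → P i := stepQ 3254 Q3254 (allL N3254 (tt N3764 (iv F28191)) (tt N2734 F24020) (tt N3254 F24021) (tt N4090 (iv F29681)) (tt N2761 F132543) (tt N4104 (iv F29736)) (tt N2516 (iv D4963)) (tt N4106 D6221) (tt N2520 F24022) (tt N3254 F24023))
theorem Q3256 : ∀ i, i < 3256 → P i := stepQ 3255 Q3255 (allL N3255 (tt N3765 (iv F28196)) (tt N2735 F24024) (tt N4107 D6222) (tt N2517 (iv D4964)) (tt N4091 (iv F29685)) (tt N3255 F24025) (tt N4108 D6223) (tt N4105 (iv F29741)) (tt N2521 F24026) (tt N3255 F24027))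
theorem Q3257 : ∀ i, i < 3257 → P i := stepQ 3256 Q3256 (allL N3256 (tt N3766 (iv F28201)) (tt N2736 F24028) (tt N3256 F24029) (tt N4108 (iv F29759)) (tt N2518 F24030) (tt N4109 D6224) (tt N2517 (iv D4965)) (tt N4110 D6225) (tt N2522 F24031) (tt N3256 F24032))
theorem Q3258 : ∀ i, i < 3258 → P i := stepQ 3257 Q3257 (allL N3257 (tt N3767 (iv F28207)) (tt N2737 F24033) (tt N3257 F24034) (tt N4093 (iv F29693)) (tt N4110 (iv F29770)) (tt N3257 F24035) (tt N4106 (iv F29751)) (tt N2518 (iv D4966)) (tt N2523 F24036) (tt N3257 F24037))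
theorem Q3259 : ∀ i, i < 3259 → P i := stepQ 3258 Q3258 (allL N3258 (tt N3768 (iv F28213)) (tt N2718 F131711) (tt N4068 F131712) (tt N2519 (iv D4967)) (tt N4094 (iv F29698)) (tt N2524 F24039) (tt N2708 F131713) (tt N2521 F24040) (tt N4105 (iv F29742)) (tt N2546 F24041))
theorem Q3260 : ∀ i, i < 3260 → P i := stepQ 3259 Q3259 (allL N3259 (tt N3769 (iv F28223)) (tt N2738 F24046) (tt N3259 F24047) (tt N4096 (iv F29705)) (tt N2762 (iv F131972)) (tt N3259 F24048) (tt N2523 F24049) (tt N2520 (iv D4969)) (tt N4106 (iv F29752)) (tt N2547 F24050))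
theorem Q3261 : ∀ i, i < 3261 → P i := stepQ 3260 Q3260 (allL N3260 (tt N3770 (iv F28229)) (tt N4081 F131848) (tt N2521 (iv D4970)) (tt N3260 F24051) (tt N4097 (iv F29709)) (tt N2525 F24052) (tt N4111 D6231) (tt N4068 F131849) (tt N4107 (iv F29756)) (tt N2548 F24053))
theorem Q3262 : ∀ i, i < 3262 → P i := stepQ 3261 Q3261 (allL N3261 (tt N3771 (iv F28233)) (tt N2739 F24054) (tt N4111 (iv F29794)) (tt N2522 F24055) (tt N4098 (iv F29713)) (tt N3261 F24056) (tt N2521 (iv D4971)) (tt N4112 D6232) (tt N4108 (iv F29760)) (tt N2549 F24057))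
theorem Q3263 : ∀ i, i < 3263 → P i := stepQ 3262 Q3262 (allL N3262 (tt N3772 (iv F28238)) (tt N2740 F24058) (tt N3262 F24059) (tt N4112 (iv F29799)) (tt N2523 F24060) (tt N3262 F24061) (tt N2762 (iv F131973)) (tt N2522 (iv D4972)) (tt N4110 (iv F29771)) (tt N2550 F24062))
theorem Q3264 : ∀ i, i < 3264 → P i := stepQ 3263 Q3263 (allL N3263 (tt N2529 F24082) (tt N3775 (iv F28267)) (tt N2741 F24083) (tt N3263 F24084) (tt N4002 (iv F29315)) (tt N4113 D6238) (tt N3263 F24085) (tt N2527 F24086) (tt N2526 (iv D4977)) (tt N4060 (iv F29538)))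
theorem Q3265 : ∀ i, i < 3265 → P i := stepQ 3264 Q3264 (allL N3264 (tt N2530 F24087) (tt N3776 (iv F28273)) (tt N2742 F24088) (tt N3264 F24089) (tt N4114 D6239) (tt N2527 (iv D4978)) (tt N3802 (iv F131461)) (tt N4113 (iv F29829)) (tt N3264 F24090) (tt N4061 (iv F29542)))
theorem Q3266 : ∀ i, i < 3266 → P i := stepQ 3265 Q3265 (allL N3265 (tt N2531 F24091) (tt N3777 (iv F28278)) (tt N2743 F24092) (tt N4057 (iv F131426)) (tt N2528 (iv D4979)) (tt N4004 (iv F29322)) (tt N3710 (iv F131427)) (tt N3265 F24093) (tt N2551 F24094) (tt N4062 (iv F29547)))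
theorem Q3267 : ∀ i, i < 3267 → P i := stepQ 3266 Q3266 (allL N3266 (tt N4113 (iv F29826)) (tt N2533 F24099) (tt N2744 F24100) (tt N3266 F24101) (tt N4115 D6244) (tt N2529 (iv D4981)) (tt N4116 D6245) (tt N2530 F24102) (tt N3266 F24103) (tt N4066 (iv F29572)))
theorem Q3268 : ∀ i, i < 3268 → P i := stepQ 3267 Q3267 (allL N3267 (tt N4114 (iv F29831)) (tt N2534 F24104) (tt N2745 F24105) (tt N4117 D6246) (tt N2530 (iv D4982)) (tt N4009 (iv F29341)) (tt N4118 D6247) (tt N4115 (iv F29854)) (tt N3267 F24106) (tt N4067 (iv F29575)))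
theorem Q3269 : ∀ i, i < 3269 → P i := stepQ 3268 Q3268 (allL N3268 (tt N3802 (iv F131459)) (tt N2535 F24107) (tt N2546 (iv F131318)) (tt N3268 F24109) (tt N4118 (iv F29866)) (tt N2532 F24110) (tt N2530 (iv D4983)) (tt N2548 (iv F131463)) (tt N3268 F24111) (tt N4068 (iv F29580)))
theorem Q3270 : ∀ i, i < 3270 → P i := stepQ 3269 Q3269 (allL N3269 (tt N4057 (iv F131425)) (tt N2536 F24112) (tt N3716 (iv F131468)) (tt N2531 (iv D4984)) (tt N3269 F24113) (tt N4011 (iv F29346)) (tt N3715 (iv F131431)) (tt N3269 F24114) (tt N2552 F24115) (tt N4069 (iv F29585)))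
theorem Q3271 : ∀ i, i < 3271 → P i := stepQ 3270 Q3270 (allL N3270 (tt N3785 (iv F28313)) (tt N4115 (iv F29852)) (tt N2539 F24125) (tt N4119 D6253) (tt N2533 (iv D4987)) (tt N4017 (iv F29366)) (tt N4120 D6254) (tt N2534 F24126) (tt N3270 F24127) (tt N4077 (iv F29628)))
theorem Q3272 : ∀ i, i < 3272 → P i := stepQ 3271 Q3271 (allL N3271 (tt N3786 (iv F28317)) (tt N4116 (iv F29856)) (tt N2540 F24128) (tt N3271 F24129) (tt N4120 (iv F29893)) (tt N3271 F24130) (tt N2533 (iv D4988)) (tt N4121 D6255) (tt N3271 F24131) (tt N4078 (iv F29632)))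
theorem Q3273 : ∀ i, i < 3273 → P i := stepQ 3272 Q3272 (allL N3272 (tt N3787 (iv F28322)) (tt N4117 (iv F29861)) (tt N4122 D6256) (tt N2534 (iv D4989)) (tt N3272 F24132) (tt N4019 (iv F29370)) (tt N4123 D6257) (tt N4119 (iv F29890)) (tt N3272 F24133) (tt N4079 (iv F29634)))
theorem Q3274 : ∀ i, i < 3274 → P i := stepQ 3273 Q3273 (allL N3273 (tt N3788 (iv F28325)) (tt N4118 (iv F29864)) (tt N2542 F24134) (tt N4123 (iv F29903)) (tt N2535 F24135) (tt N4124 D6258) (tt N2534 (iv D4990)) (tt N4125 D6259) (tt N3273 F24136) (tt N4080 (iv F29637)))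
theorem Q3275 : ∀ i, i < 3275 → P i := stepQ 3274 Q3274 (allL N3274 (tt N3789 (iv F28329)) (tt N2548 (iv F131462)) (tt N2543 F24137) (tt N3274 F24138) (tt N4125 (iv F29909)) (tt N2538 F24139) (tt N4121 (iv F29898)) (tt N2535 (iv D4991)) (tt N3274 F24140) (tt N4081 (iv F29641)))
theorem Q3276 : ∀ i, i < 3276 → P i := stepQ 3275 Q3275 (allL N3275 (tt N3790 (iv F28334)) (tt N3715 (iv F131430)) (tt N3275 F24141) (tt N2537 F24142) (tt N3275 F24143) (tt N4126 D6260) (tt N2536 (iv D4992)) (tt N3891 (iv F131365)) (tt N2553 F24144) (tt N4082 (iv F29646)))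
theorem Q3277 : ∀ i, i < 3277 → P i := stepQ 3276 Q3276 (allL N3276 (tt N3791 (iv F28339)) (tt N4046 F131815) (tt N2544 F24145) (tt N4126 (iv F29912)) (tt N4124 (iv F29907)) (tt N2537 (iv D4993)) (tt N4023 (iv F29379)) (tt N4050 F131816) (tt N4127 D6263) (tt N4083 (iv F29648)))
theorem Q3278 : ∀ i, i < 3278 → P i := stepQ 3277 Q3277 (allL N3277 (tt N3793 (iv F28346)) (tt N2749 F131730) (tt N4118 F131731) (tt N2539 (iv D4995)) (tt N2546 F24151) (tt N4030 (iv F29404)) (tt N2745 F131732) (tt N2541 F24152) (tt N3277 F24153) (tt N4094 (iv F29700)))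
theorem Q3279 : ∀ i, i < 3279 → P i := stepQ 3278 Q3278 (allL N3278 (tt N3794 (iv F28351)) (tt N2748 F131728) (tt N4120 (iv F29892)) (tt N2745 F131729) (tt N2540 F24155) (tt N4128 D6266) (tt N2539 (iv D4996)) (tt N4129 D6267) (tt N3278 F24156) (tt N4095 (iv F29703)))
theorem Q3280 : ∀ i, i < 3280 → P i := stepQ 3279 Q3279 (allL N3279 (tt N3795 (iv F28355)) (tt N2750 F24157) (tt N4121 (iv F29895)) (tt N2547 F24158) (tt N4129 (iv F29932)) (tt N3279 F24159) (tt N2543 F24160) (tt N2540 (iv D4997)) (tt N3279 F24161) (tt N4096 (iv F29708)))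
theorem Q3281 : ∀ i, i < 3281 → P i := stepQ 3280 Q3280 (allL N3280 (tt N3796 (iv F28361)) (tt N4125 F131857) (tt N2541 (iv D4998)) (tt N4122 (iv F29900)) (tt N2548 F24162) (tt N4033 (iv F29413)) (tt N4130 D6269) (tt N4118 F131858) (tt N3280 F24163) (tt N4097 (iv F29710)))
theorem Q3282 : ∀ i, i < 3282 → P i := stepQ 3281 Q3281 (allL N3281 (tt N3797 (iv F28364)) (tt N2752 F24164) (tt N4130 (iv F29938)) (tt N2542 F24165) (tt N2549 F24166) (tt N4131 D6270) (tt N2541 (iv D4999)) (tt N4132 D6271) (tt N3281 F24167) (tt N4098 (iv F29714)))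
theorem Q3283 : ∀ i, i < 3283 → P i := stepQ 3282 Q3282 (allL N3282 (tt N3798 (iv F28369)) (tt N2753 F24168) (tt N4124 (iv F29906)) (tt N4131 (iv F29942)) (tt N2544 F24169) (tt N2542 (iv D5000)) (tt N4035 (iv F29419)) (tt N4133 D6272) (tt N4134 D6273) (tt N4099 (iv F29717)))
theorem Q3284 : ∀ i, i < 3284 → P i := stepQ 3283 Q3283 (allL N3283 (tt N3799 (iv F28372)) (tt N2751 F131741) (tt N4125 (iv F29908)) (tt N4132 (iv F29945)) (tt N2543 F24171) (tt N4133 (iv F29950)) (tt N4129 (iv F29933)) (tt N2542 (iv D5001)) (tt N3283 F24172) (tt N4100 (iv F29720)))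
theorem Q3285 : ∀ i, i < 3285 → P i := stepQ 3284 Q3284 (allL N3284 (tt N3800 (iv F28376)) (tt N2689 F131688) (tt N4050 F131689) (tt N3284 F24174) (tt N4133 (iv F29949)) (tt N2545 F24175) (tt N4135 D6274) (tt N2544 (iv D5002)) (tt N4136 D6275) (tt N4101 (iv F29724)))
theorem Q3286 : ∀ i, i < 3286 → P i := stepQ 3285 Q3285 (allL N3285 (tt N3801 (iv F28380)) (tt N2754 F24176) (tt N4127 (iv F29920)) (tt N3285 F24177) (tt N4134 (iv F29952)) (tt N2556 F24178) (tt N4038 (iv F29428)) (tt N4136 (iv F29960)) (tt N2544 (iv D5003)) (tt N4137 D6276))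
theorem Q3287 : ∀ i, i < 3287 → P i := stepQ 3286 Q3286 (allL N3286 (tt N3804 (iv F28408)) (tt N4121 F131861) (tt N2549 F24199) (tt N3286 F24200) (tt N4130 (iv F29939)) (tt N3286 F24201) (tt N2548 (iv D5009)) (tt N4116 F131862) (tt N3286 F24202) (tt N4111 (iv F29797)))
theorem Q3288 : ∀ i, i < 3288 → P i := stepQ 3287 Q3287 (allL N3287 (tt N3805 (iv F28413)) (tt N2747 F131720) (tt N4116 F131721) (tt N2550 F24204) (tt N4132 (iv F29946)) (tt N3287 F24205) (tt N2744 F131722) (tt N2549 (iv D5010)) (tt N3287 F24206) (tt N4112 (iv F29801)))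
theorem Q3289 : ∀ i, i < 3289 → P i := stepQ 3288 Q3288 (allL N3288 (tt N3810 (iv F28527)) (tt N3584 (iv F131466)) (tt N2556 F24302) (tt N3712 (iv F131472)) (tt N3288 F24303) (tt N4127 (iv F29921)) (tt N3288 F24304) (tt N4056 (iv F131424)) (tt N2554 (iv D5031)) (tt N4138 D6310))
theorem Q3290 : ∀ i, i < 3290 → P i := stepQ 3289 Q3289 (allL N3289 (tt N3807 F131111) (tt N2699 (iv F131285)) (tt N3806 F131112) (tt N3289 F24306) (tt N3289 F24307) (tt N3289 F24308) (tt N2555 (iv D5032)) (tt N3289 F24309) (tt N4139 D6311) (tt N3289 F24310))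
theorem Q3291 : ∀ i, i < 3291 → P i := stepQ 3290 Q3290 (allL N3290 (tt N3811 (iv F28538)) (tt N2696 F131698) (tt N4056 F131699) (tt N3290 F24312) (tt N3290 F24313) (tt N4136 (iv F29959)) (tt N4139 (iv F30119)) (tt N2556 F24314) (tt N2555 (iv D5033)) (tt N4140 D6312))
theorem Q3292 : ∀ i, i < 3292 → P i := stepQ 3291 Q3291 (allL N3291 (tt N3812 (iv F28543)) (tt N2755 F24315) (tt N4138 (iv F30112)) (tt N3291 F24316) (tt N3291 F24317) (tt N4137 (iv F29963)) (tt N3291 F24318) (tt N4140 (iv F30124)) (tt N3291 F24319) (tt N2556 (iv D5034)))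
theorem Q3293 : ∀ i, i < 3293 → P i := stepQ 3292 Q3292 (allL N3292 (tt N2559 F24320) (tt N3292 F24321) (tt N3892 (iv F28894)) (tt N3292 F24322) (tt N3601 (iv F27332)) (tt N2557 (iv D5035)) (tt N2592 F24323) (tt N3598 (iv F27314)) (tt N3597 F27308) (tt N4141 D6313))
theorem Q3294 : ∀ i, i < 3294 → P i := stepQ 3293 Q3293 (allL N3293 (tt N2560 F24324) (tt N3293 F24325) (tt N3726 (iv F27997)) (tt N3293 F24326) (tt N3293 F24327) (tt N3598 F27315) (tt N3293 F24328) (tt N2557 (iv D5036)) (tt N3293 F24329) (tt N4142 D6314))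
theorem Q3295 : ∀ i, i < 3295 → P i := stepQ 3294 Q3294 (allL N3294 (tt N2561 F24330) (tt N3294 F24331) (tt N3893 (iv F28897)) (tt N3294 F24332) (tt N3294 F24333) (tt N4141 (iv F30129)) (tt N2558 F24334) (tt N4142 (iv F30136)) (tt N4143 D6315) (tt N2557 (iv D5037)))
theorem Q3296 : ∀ i, i < 3296 → P i := stepQ 3295 Q3295 (allL N3295 (tt N2562 F24335) (tt N3295 F24336) (tt N3894 (iv F28901)) (tt N3295 F24337) (tt N3295 F24338) (tt N4144 D6316) (tt N4143 (iv F30141)) (tt N3295 F24339) (tt N2558 (iv D5038)) (tt N3295 F24340))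
theorem Q3297 : ∀ i, i < 3297 → P i := stepQ 3296 Q3296 (allL N3296 (tt N4141 (iv F30126)) (tt N2566 F24341) (tt N3898 (iv F28924)) (tt N3296 F24342) (tt N3916 (iv F29002)) (tt N2561 F24343) (tt N2599 F24344) (tt N3913 (iv F28989)) (tt N4145 D6317) (tt N2559 (iv D5039)))
theorem Q3298 : ∀ i, i < 3298 → P i := stepQ 3297 Q3297 (allL N3297 (tt N4142 (iv F30131)) (tt N2567 F24345) (tt N3899 (iv F28928)) (tt N3297 F24346) (tt N3297 F24347) (tt N3913 (iv F28987)) (tt N3297 F24348) (tt N2561 F24349) (tt N4146 D6318) (tt N2560 (iv D5040)))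
theorem Q3299 : ∀ i, i < 3299 → P i := stepQ 3298 Q3298 (allL N3298 (tt N4143 (iv F30137)) (tt N2568 F24350) (tt N3900 (iv F28933)) (tt N3298 F24351) (tt N3298 F24352) (tt N4147 D6319) (tt N2562 F24353) (tt N4146 (iv F30156)) (tt N2561 (iv D5041)) (tt N3298 F24354))
theorem Q3300 : ∀ i, i < 3300 → P i := stepQ 3299 Q3299 (allL N3299 (tt N4144 (iv F30143)) (tt N2569 F24355) (tt N3901 (iv F28938)) (tt N3299 F24356) (tt N4148 D6320) (tt N2562 (iv D5042)) (tt N4149 D6321) (tt N3299 F24357) (tt N2602 F24358) (tt N3299 F24359))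
theorem Q3301 : ∀ i, i < 3301 → P i := stepQ 3300 Q3300 (allL N3300 (tt N3300 F24360) (tt N3916 (iv F29000)) (tt N2570 F24361) (tt N2581 F24362) (tt N2566 F24363) (tt N3300 F24364) (tt N2604 F24365) (tt N2573 F24366) (tt N4150 D6322) (tt N2563 (iv D5043)))
theorem Q3302 : ∀ i, i < 3302 → P i := stepQ 3301 Q3301 (allL N3301 (tt N3301 F24367) (tt N3913 (iv F28984)) (tt N2572 F24368) (tt N3301 F24369) (tt N2573 F24370) (tt N2567 F24371) (tt N2615 F24372) (tt N2566 F24373) (tt N4151 D6323) (tt N2564 (iv D5044)))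
theorem Q3303 : ∀ i, i < 3303 → P i := stepQ 3302 Q3302 (allL N3302 (tt N3302 F24374) (tt N3912 (iv F28978)) (tt N2573 F24375) (tt N3302 F24376) (tt N2572 F24377) (tt N3302 F24378) (tt N2608 F24379) (tt N2570 F24380) (tt N4152 D6324) (tt N2565 (iv D5045)))
theorem Q3304 : ∀ i, i < 3304 → P i := stepQ 3303 Q3303 (allL N3303 (tt N3303 F24381) (tt N4145 (iv F30149)) (tt N2574 F24382) (tt N3303 F24383) (tt N4150 (iv F30173)) (tt N4153 D6325) (tt N2609 F24384) (tt N4151 (iv F30182)) (tt N2566 (iv D5046)) (tt N4152 (iv F30190)))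
theorem Q3305 : ∀ i, i < 3305 → P i := stepQ 3304 Q3304 (allL N3304 (tt N3304 F24385) (tt N4146 (iv F30152)) (tt N2575 F24386) (tt N3304 F24387) (tt N3304 F24388) (tt N4154 D6326) (tt N3304 F24389) (tt N2568 F24390) (tt N2567 (iv D5047)) (tt N3304 F24391))
theorem Q3306 : ∀ i, i < 3306 → P i := stepQ 3305 Q3305 (allL N3305 (tt N3305 F24392) (tt N4147 (iv F30158)) (tt N2576 F24393) (tt N3305 F24394) (tt N4155 D6327) (tt N2568 (iv D5048)) (tt N4156 D6328) (tt N4154 (iv F30198)) (tt N4153 (iv F30194)) (tt N3305 F24395))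
theorem Q3307 : ∀ i, i < 3307 → P i := stepQ 3306 Q3306 (allL N3306 (tt N3306 F24396) (tt N4148 (iv F30161)) (tt N2577 F24397) (tt N4157 D6329) (tt N2569 (iv D5049)) (tt N3306 F24398) (tt N4158 D6330) (tt N3306 F24399) (tt N2612 F24400) (tt N3306 F24401))
theorem Q3308 : ∀ i, i < 3308 → P i := stepQ 3307 Q3307 (allL N3307 (tt N3307 F24402) (tt N4149 (iv F30166)) (tt N2578 F24403) (tt N3307 F24404) (tt N4158 (iv F30218)) (tt N4156 (iv F30207)) (tt N2569 (iv D5050)) (tt N4159 D6331) (tt N2613 F24405) (tt N3307 F24406))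
theorem Q3309 : ∀ i, i < 3309 → P i := stepQ 3308 Q3308 (allL N3308 (tt N3308 F24407) (tt N3914 (iv F28990)) (tt N4150 (iv F30171)) (tt N3308 F24408) (tt N2574 F24409) (tt N4160 D6332) (tt N2616 F24410) (tt N4152 (iv F30189)) (tt N2570 (iv D5051)) (tt N4151 (iv F30183)))
theorem Q3310 : ∀ i, i < 3310 → P i := stepQ 3309 Q3309 (allL N3309 (tt N3309 F24411) (tt N3915 (iv F28994)) (tt N2615 F24412) (tt N2580 F24413) (tt N2608 F24414) (tt N3309 F24415) (tt N2572 F24416) (tt N2617 F24417) (tt N4161 D6333) (tt N2571 (iv D5052)))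
theorem Q3311 : ∀ i, i < 3311 → P i := stepQ 3310 Q3310 (allL N3310 (tt N3310 F24418) (tt N3917 (iv F29006)) (tt N4151 (iv F30178)) (tt N2582 F24419) (tt N4152 (iv F30187)) (tt N4162 D6334) (tt N4161 (iv F30234)) (tt N2574 F24420) (tt N2572 (iv D5053)) (tt N4150 (iv F30176)))
theorem Q3312 : ∀ i, i < 3312 → P i := stepQ 3311 Q3311 (allL N3311 (tt N3311 F24421) (tt N3918 (iv F29009)) (tt N4152 (iv F30185)) (tt N2583 F24422) (tt N4151 (iv F30180)) (tt N4163 D6335) (tt N2620 F24423) (tt N4150 (iv F30175)) (tt N2573 (iv D5054)) (tt N2574 F24424))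
theorem Q3313 : ∀ i, i < 3313 → P i := stepQ 3312 Q3312 (allL N3312 (tt N3312 F24425) (tt N3919 (iv F29013)) (tt N4153 (iv F30192)) (tt N2584 F24426) (tt N4164 D6336) (tt N2574 (iv D5055)) (tt N4165 D6337) (tt N4162 (iv F30239)) (tt N2576 F24427) (tt N4163 (iv F30244)))
theorem Q3314 : ∀ i, i < 3314 → P i := stepQ 3313 Q3313 (allL N3313 (tt N3313 F24428) (tt N3920 (iv F29016)) (tt N4154 (iv F30196)) (tt N2585 F24429) (tt N4166 D6338) (tt N2575 (iv D5056)) (tt N4167 D6339) (tt N2576 F24430) (tt N4162 (iv F30240)) (tt N3313 F24431))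
theorem Q3315 : ∀ i, i < 3315 → P i := stepQ 3314 Q3314 (allL N3314 (tt N3314 F24432) (tt N3921 (iv F29020)) (tt N4155 (iv F30201)) (tt N4168 D6340) (tt N2576 (iv D5057)) (tt N3314 F24433) (tt N4169 D6341) (tt N4166 (iv F30253)) (tt N4164 (iv F30246)) (tt N3314 F24434))
theorem Q3316 : ∀ i, i < 3316 → P i := stepQ 3315 Q3315 (allL N3315 (tt N3315 F24435) (tt N3922 (iv F29023)) (tt N4156 (iv F30205)) (tt N2587 F24436) (tt N4169 (iv F30264)) (tt N2578 F24437) (tt N2576 (iv D5058)) (tt N4170 D6342) (tt N4165 (iv F30250)) (tt N3315 F24438))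
theorem Q3317 : ∀ i, i < 3317 → P i := stepQ 3316 Q3316 (allL N3316 (tt N3316 F24439) (tt N3923 (iv F29027)) (tt N4158 (iv F30217)) (tt N3316 F24440) (tt N2578 F24441) (tt N4171 D6343) (tt N2577 (iv D5059)) (tt N4172 D6344) (tt N2625 F24442) (tt N3316 F24443))
theorem Q3318 : ∀ i, i < 3318 → P i := stepQ 3317 Q3317 (allL N3317 (tt N3317 F24444) (tt N3924 (iv F29032)) (tt N4159 (iv F30222)) (tt N2588 F24445) (tt N4172 (iv F30276)) (tt N4170 (iv F30268)) (tt N3317 F24446) (tt N2578 (iv D5060)) (tt N2626 F24447) (tt N3317 F24448))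
theorem Q3319 : ∀ i, i < 3319 → P i := stepQ 3318 Q3318 (allL N3318 (tt N3318 F24449) (tt N3544 (iv F27004)) (tt N3318 F24450) (tt N2604 F24451) (tt N3318 F24452) (tt N2710 F24453) (tt N2581 F24454) (tt N2627 F24455) (tt N4173 D6345) (tt N2579 (iv D5061)))
theorem Q3320 : ∀ i, i < 3320 → P i := stepQ 3319 Q3319 (allL N3319 (tt N3319 F24456) (tt N3925 (iv F29037)) (tt N3319 F24457) (tt N4161 (iv F30232)) (tt N3319 F24458) (tt N4174 D6346) (tt N2582 F24459) (tt N2628 F24460) (tt N2580 (iv D5062)) (tt N4173 (iv F30286)))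
theorem Q3321 : ∀ i, i < 3321 → P i := stepQ 3320 Q3320 (allL N3320 (tt N3320 F24461) (tt N3926 (iv F29041)) (tt N3320 F24462) (tt N4150 (iv F30172)) (tt N3320 F24463) (tt N4175 D6347) (tt N4173 (iv F30284)) (tt N2583 F24464) (tt N2581 (iv D5063)) (tt N2582 F24465))
theorem Q3322 : ∀ i, i < 3322 → P i := stepQ 3321 Q3321 (allL N3321 (tt N3321 F24466) (tt N3927 (iv F29045)) (tt N3321 F24467) (tt N4162 (iv F30238)) (tt N4176 D6348) (tt N2582 (iv D5064)) (tt N4177 D6349) (tt N2584 F24468) (tt N2585 F24469) (tt N4175 (iv F30295)))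
theorem Q3323 : ∀ i, i < 3323 → P i := stepQ 3322 Q3322 (allL N3322 (tt N3322 F24470) (tt N3928 (iv F29048)) (tt N3322 F24471) (tt N4163 (iv F30242)) (tt N4178 D6350) (tt N2583 (iv D5065)) (tt N4179 D6351) (tt N4175 (iv F30293)) (tt N3322 F24472) (tt N2584 F24473))
theorem Q3324 : ∀ i, i < 3324 → P i := stepQ 3323 Q3323 (allL N3323 (tt N3323 F24474) (tt N3929 (iv F29051)) (tt N3323 F24475) (tt N4180 D6352) (tt N2584 (iv D5066)) (tt N3323 F24476) (tt N4181 D6353) (tt N4176 (iv F30299)) (tt N2586 F24477) (tt N4178 (iv F30308)))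
theorem Q3325 : ∀ i, i < 3325 → P i := stepQ 3324 Q3324 (allL N3324 (tt N3324 F24478) (tt N3930 (iv F29054)) (tt N3324 F24479) (tt N4165 (iv F30248)) (tt N4181 (iv F30319)) (tt N2633 F24480) (tt N2584 (iv D5067)) (tt N4182 D6354) (tt N2587 F24481) (tt N4179 (iv F30313)))
theorem Q3326 : ∀ i, i < 3326 → P i := stepQ 3325 Q3325 (allL N3325 (tt N3325 F24482) (tt N3931 (iv F29057)) (tt N3325 F24483) (tt N4183 D6355) (tt N2585 (iv D5068)) (tt N2589 F24484) (tt N4184 D6356) (tt N2586 F24485) (tt N4176 (iv F30300)) (tt N3325 F24486))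
theorem Q3327 : ∀ i, i < 3327 → P i := stepQ 3326 Q3326 (allL N3326 (tt N3326 F24487) (tt N3932 (iv F29061)) (tt N3326 F24488) (tt N4167 (iv F30256)) (tt N4184 (iv F30331)) (tt N3326 F24489) (tt N2585 (iv D5069)) (tt N4185 D6357) (tt N4177 (iv F30303)) (tt N3326 F24490))
theorem Q3328 : ∀ i, i < 3328 → P i := stepQ 3327 Q3327 (allL N3327 (tt N3327 F24491) (tt N3933 (iv F29064)) (tt N4186 D6358) (tt N2586 (iv D5070)) (tt N4168 (iv F30260)) (tt N2591 F24492) (tt N4187 D6359) (tt N4183 (iv F30327)) (tt N4180 (iv F30316)) (tt N3327 F24493))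
theorem Q3329 : ∀ i, i < 3329 → P i := stepQ 3328 Q3328 (allL N3328 (tt N3328 F24494) (tt N3934 (iv F29067)) (tt N3328 F24495) (tt N4187 (iv F30343)) (tt N2587 F24496) (tt N3328 F24497) (tt N2586 (iv D5071)) (tt N4188 D6360) (tt N4181 (iv F30320)) (tt N3328 F24498))
theorem Q3330 : ∀ i, i < 3330 → P i := stepQ 3329 Q3329 (allL N3329 (tt N3329 F24499) (tt N3935 (iv F29071)) (tt N3329 F24500) (tt N4170 (iv F30267)) (tt N4188 (iv F30348)) (tt N2588 F24501) (tt N4185 (iv F30336)) (tt N2587 (iv D5072)) (tt N4182 (iv F30324)) (tt N3329 F24502))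
theorem Q3331 : ∀ i, i < 3331 → P i := stepQ 3330 Q3330 (allL N3330 (tt N3330 F24503) (tt N3936 (iv F29074)) (tt N4189 D6361) (tt N2589 (iv D5073)) (tt N3330 F24504) (tt N4183 (iv F30326)) (tt N4190 D6362) (tt N2591 F24505) (tt N3330 F24506) (tt N3330 F24507))
theorem Q3332 : ∀ i, i < 3332 → P i := stepQ 3331 Q3331 (allL N3331 (tt N3331 F24508) (tt N3937 (iv F29079)) (tt N3331 F24509) (tt N4190 (iv F30358)) (tt N2590 F24510) (tt N4191 D6363) (tt N2589 (iv D5074)) (tt N3331 F24511) (tt N3331 F24512) (tt N3331 F24513))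
theorem Q3333 : ∀ i, i < 3333 → P i := stepQ 3332 Q3332 (allL N3332 (tt N3332 F24514) (tt N4192 D6364) (tt N2591 (iv D5075)) (tt N3332 F24515) (tt N3332 F24516) (tt N4186 (iv F30340)) (tt N3332 F24517) (tt N4189 (iv F30354)) (tt N3332 F24518) (tt N3332 F24519))
theorem Q3334 : ∀ i, i < 3334 → P i := stepQ 3333 Q3333 (allL N3333 (tt N2598 F24520) (tt N3333 F24521) (tt N3939 (iv F29089)) (tt N3333 F24522) (tt N3600 (iv F27325)) (tt N2643 F24523) (tt N3597 F27307) (tt N3644 (iv F27545)) (tt N2592 (iv D5076)) (tt N4193 D6365))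
theorem Q3335 : ∀ i, i < 3335 → P i := stepQ 3334 Q3334 (allL N3334 (tt N2599 F24524) (tt N3334 F24525) (tt N3940 (iv F29092)) (tt N3334 F24526) (tt N3833 (iv F28659)) (tt N2594 F24527) (tt N4141 (iv F30130)) (tt N3832 (iv F28655)) (tt N4194 D6366) (tt N2592 (iv D5077)))
theorem Q3336 : ∀ i, i < 3336 → P i := stepQ 3335 Q3335 (allL N3335 (tt N2600 F24528) (tt N3335 F24529) (tt N3941 (iv F29095)) (tt N3335 F24530) (tt N2701 F24531) (tt N3832 (iv F28653)) (tt N3335 F24532) (tt N2594 F24533) (tt N4195 D6367) (tt N2593 (iv D5078)))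
theorem Q3337 : ∀ i, i < 3337 → P i := stepQ 3336 Q3336 (allL N3336 (tt N2601 F24534) (tt N3336 F24535) (tt N3942 (iv F29100)) (tt N3336 F24536) (tt N2702 F24537) (tt N4196 D6368) (tt N2595 F24538) (tt N4195 (iv F30385)) (tt N2594 (iv D5079)) (tt N2646 F24539))
theorem Q3338 : ∀ i, i < 3338 → P i := stepQ 3337 Q3337 (allL N3337 (tt N2602 F24540) (tt N3337 F24541) (tt N3943 (iv F29105)) (tt N3337 F24542) (tt N4197 D6369) (tt N2595 (iv D5080)) (tt N4198 D6370) (tt N3337 F24543) (tt N4144 (iv F30147)) (tt N2647 F24544))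
theorem Q3339 : ∀ i, i < 3339 → P i := stepQ 3338 Q3338 (allL N3338 (tt N3833 (iv F28656)) (tt N2604 F24545) (tt N3944 (iv F29109)) (tt N3544 (iv F27006)) (tt N2599 F24546) (tt N2704 F24547) (tt N3916 (iv F29004)) (tt N3541 (iv F26990)) (tt N4199 D6371) (tt N2596 (iv D5081)))
theorem Q3340 : ∀ i, i < 3340 → P i := stepQ 3339 Q3339 (allL N3339 (tt N3832 (iv F28649)) (tt N2607 F24548) (tt N3945 (iv F29113)) (tt N3339 F24549) (tt N3541 (iv F26987)) (tt N2600 F24550) (tt N3560 (iv F27104)) (tt N2599 F24551) (tt N4200 D6372) (tt N2597 (iv D5082)))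
theorem Q3341 : ∀ i, i < 3341 → P i := stepQ 3340 Q3340 (allL N3340 (tt N4193 (iv F30373)) (tt N2608 F24552) (tt N3946 (iv F29117)) (tt N3340 F24553) (tt N3915 (iv F28996)) (tt N2650 F24554) (tt N3912 (iv F28982)) (tt N3967 (iv F29186)) (tt N4201 D6373) (tt N2598 (iv D5083)))
theorem Q3342 : ∀ i, i < 3342 → P i := stepQ 3341 Q3341 (allL N3341 (tt N4194 (iv F30377)) (tt N2609 F24555) (tt N3947 (iv F29120)) (tt N3341 F24556) (tt N4199 (iv F30401)) (tt N4202 D6374) (tt N4145 (iv F30151)) (tt N4200 (iv F30404)) (tt N2599 (iv D5084)) (tt N4201 (iv F30407)))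
theorem Q3343 : ∀ i, i < 3343 → P i := stepQ 3342 Q3342 (allL N3342 (tt N4195 (iv F30380)) (tt N2610 F24557) (tt N3948 (iv F29122)) (tt N3342 F24558) (tt N2707 F24559) (tt N4203 D6375) (tt N3342 F24560) (tt N2601 F24561) (tt N2600 (iv D5085)) (tt N2652 F24562))
theorem Q3344 : ∀ i, i < 3344 → P i := stepQ 3343 Q3343 (allL N3343 (tt N4196 (iv F30387)) (tt N2611 F24563) (tt N3949 (iv F29128)) (tt N3343 F24564) (tt N4204 D6376) (tt N2601 (iv D5086)) (tt N4205 D6377) (tt N4203 (iv F30413)) (tt N4202 (iv F30410)) (tt N2653 F24565))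
theorem Q3345 : ∀ i, i < 3345 → P i := stepQ 3344 Q3344 (allL N3344 (tt N4197 (iv F30391)) (tt N2612 F24566) (tt N3950 (iv F29131)) (tt N3998 (iv F132095)) (tt N2602 (iv D5087)) (tt N2709 F24567) (tt N4206 D6379) (tt N3344 F24568) (tt N4148 (iv F30164)) (tt N2654 F24569))
theorem Q3346 : ∀ i, i < 3346 → P i := stepQ 3345 Q3345 (allL N3345 (tt N4198 (iv F30396)) (tt N2613 F24570) (tt N3951 (iv F29136)) (tt N3345 F24571) (tt N4206 (iv F30428)) (tt N4205 (iv F30420)) (tt N2602 (iv D5088)) (tt N4207 D6380) (tt N4149 (iv F30168)) (tt N2655 F24572))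
theorem Q3347 : ∀ i, i < 3347 → P i := stepQ 3346 Q3346 (allL N3346 (tt N3346 F24573) (tt N3541 (iv F26985)) (tt N2614 F24574) (tt N2627 F24575) (tt N2607 F24576) (tt N2711 F24577) (tt N2618 F24578) (tt N2604 F24579) (tt N4208 D6381) (tt N2603 (iv D5089)))
theorem Q3348 : ∀ i, i < 3348 → P i := stepQ 3347 Q3347 (allL N3347 (tt N3347 F24580) (tt N4199 (iv F30400)) (tt N2616 F24581) (tt N4173 (iv F30282)) (tt N2609 F24582) (tt N4209 D6382) (tt N4150 (iv F30174)) (tt N4208 (iv F30439)) (tt N2604 (iv D5090)) (tt N4161 (iv F30236)))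
theorem Q3349 : ∀ i, i < 3349 → P i := stepQ 3348 Q3348 (allL N3348 (tt N3348 F24583) (tt N3560 (iv F27100)) (tt N2617 F24584) (tt N3348 F24585) (tt N2618 F24586) (tt N3348 F24587) (tt N2607 F24588) (tt N2615 F24589) (tt N4210 D6383) (tt N2605 (iv D5091)))
theorem Q3350 : ∀ i, i < 3350 → P i := stepQ 3349 Q3349 (allL N3349 (tt N3349 F24590) (tt N3967 (iv F29181)) (tt N2618 F24591) (tt N3349 F24592) (tt N2617 F24593) (tt N2656 F24594) (tt N2614 F24595) (tt N2608 F24596) (tt N4211 D6384) (tt N2606 (iv D5092)))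
theorem Q3351 : ∀ i, i < 3351 → P i := stepQ 3350 Q3350 (allL N3350 (tt N3350 F24597) (tt N4200 (iv F30402)) (tt N2619 F24598) (tt N3350 F24599) (tt N4208 (iv F30437)) (tt N4212 D6385) (tt N4210 (iv F30448)) (tt N2609 F24600) (tt N2607 (iv D5093)) (tt N4211 (iv F30457)))
theorem Q3352 : ∀ i, i < 3352 → P i := stepQ 3351 Q3351 (allL N3351 (tt N3351 F24601) (tt N4201 (iv F30405)) (tt N2620 F24602) (tt N3351 F24603) (tt N4161 (iv F30233)) (tt N4213 D6386) (tt N4152 (iv F30188)) (tt N4211 (iv F30456)) (tt N2608 (iv D5094)) (tt N2609 F24604))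
theorem Q3353 : ∀ i, i < 3353 → P i := stepQ 3352 Q3352 (allL N3352 (tt N3352 F24605) (tt N4202 (iv F30408)) (tt N2621 F24606) (tt N3352 F24607) (tt N4214 D6387) (tt N2609 (iv D5095)) (tt N4215 D6388) (tt N4212 (iv F30461)) (tt N2611 F24608) (tt N4213 (iv F30467)))
theorem Q3354 : ∀ i, i < 3354 → P i := stepQ 3353 Q3353 (allL N3353 (tt N3353 F24609) (tt N4203 (iv F30411)) (tt N2622 F24610) (tt N3353 F24611) (tt N4216 D6389) (tt N2610 (iv D5096)) (tt N4217 D6390) (tt N2611 F24612) (tt N4212 (iv F30462)) (tt N2660 F24613))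
theorem Q3355 : ∀ i, i < 3355 → P i := stepQ 3354 Q3354 (allL N3354 (tt N3354 F24614) (tt N4204 (iv F30415)) (tt N2623 F24615) (tt N4218 D6391) (tt N2611 (iv D5097)) (tt N2717 F24616) (tt N4219 D6392) (tt N4216 (iv F30478)) (tt N4214 (iv F30470)) (tt N2661 F24617))
theorem Q3356 : ∀ i, i < 3356 → P i := stepQ 3355 Q3355 (allL N3355 (tt N3355 F24618) (tt N4205 (iv F30418)) (tt N2624 F24619) (tt N3355 F24620) (tt N4219 (iv F30491)) (tt N2613 F24621) (tt N2611 (iv D5098)) (tt N4220 D6393) (tt N4215 (iv F30474)) (tt N2662 F24622))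
theorem Q3357 : ∀ i, i < 3357 → P i := stepQ 3356 Q3356 (allL N3356 (tt N3356 F24623) (tt N3998 (iv F132094)) (tt N3356 F24624) (tt N2612 (iv D5099)) (tt N3356 F24625) (tt N2640 F131687) (tt N4221 D6394) (tt N3356 F24627) (tt N4157 (iv F30214)) (tt N2663 F24628))
theorem Q3358 : ∀ i, i < 3358 → P i := stepQ 3357 Q3357 (allL N3357 (tt N3357 F24629) (tt N4206 (iv F30427)) (tt N2625 F24630) (tt N4221 (iv F30500)) (tt N2613 F24631) (tt N4222 D6395) (tt N2612 (iv D5100)) (tt N4223 D6396) (tt N4158 (iv F30219)) (tt N2664 F24632))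
theorem Q3359 : ∀ i, i < 3359 → P i := stepQ 3358 Q3358 (allL N3358 (tt N3358 F24633) (tt N4207 (iv F30430)) (tt N2626 F24634) (tt N3358 F24635) (tt N4223 (iv F30509)) (tt N4220 (iv F30496)) (tt N3358 F24636) (tt N2613 (iv D5101)) (tt N4159 (iv F30225)) (tt N2665 F24637))
theorem Q3360 : ∀ i, i < 3360 → P i := stepQ 3359 Q3359 (allL N3359 (tt N3359 F24638) (tt N3968 (iv F29187)) (tt N4208 (iv F30435)) (tt N3359 F24639) (tt N2619 F24640) (tt N4224 D6397) (tt N4211 (iv F30455)) (tt N2616 F24641) (tt N2614 (iv D5102)) (tt N4210 (iv F30450)))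
theorem Q3361 : ∀ i, i < 3361 → P i := stepQ 3360 Q3360 (allL N3360 (tt N3360 F24642) (tt N3969 (iv F29191)) (tt N4161 (iv F30231)) (tt N3360 F24643) (tt N2620 F24644) (tt N4225 D6398) (tt N4151 (iv F30181)) (tt N4210 (iv F30449)) (tt N2615 (iv D5103)) (tt N2616 F24645))
theorem Q3362 : ∀ i, i < 3362 → P i := stepQ 3361 Q3361 (allL N3361 (tt N3361 F24646) (tt N3970 (iv F29195)) (tt N4209 (iv F30442)) (tt N3361 F24647) (tt N4226 D6399) (tt N2616 (iv D5104)) (tt N4227 D6400) (tt N4224 (iv F30514)) (tt N2721 F24648) (tt N4225 (iv F30519)))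
theorem Q3363 : ∀ i, i < 3363 → P i := stepQ 3362 Q3362 (allL N3362 (tt N3362 F24649) (tt N3971 (iv F29198)) (tt N4210 (iv F30445)) (tt N2628 F24650) (tt N4211 (iv F30454)) (tt N4228 D6401) (tt N2619 F24651) (tt N4161 (iv F30235)) (tt N2617 (iv D5105)) (tt N4208 (iv F30440)))
theorem Q3364 : ∀ i, i < 3364 → P i := stepQ 3363 Q3363 (allL N3363 (tt N3363 F24652) (tt N3561 (iv F27107)) (tt N4211 (iv F30452)) (tt N2629 F24653) (tt N4210 (iv F30447)) (tt N4229 D6402) (tt N4208 (iv F30438)) (tt N2620 F24654) (tt N2618 (iv D5106)) (tt N2619 F24655))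
theorem Q3365 : ∀ i, i < 3365 → P i := stepQ 3364 Q3364 (allL N3364 (tt N3364 F24656) (tt N3972 (iv F29201)) (tt N4212 (iv F30459)) (tt N2630 F24657) (tt N4230 D6403) (tt N2619 (iv D5107)) (tt N4231 D6404) (tt N2621 F24658) (tt N2622 F24659) (tt N4229 (iv F30533)))
theorem Q3366 : ∀ i, i < 3366 → P i := stepQ 3365 Q3365 (allL N3365 (tt N3365 F24660) (tt N3973 (iv F29205)) (tt N4213 (iv F30464)) (tt N2631 F24661) (tt N4232 D6405) (tt N2620 (iv D5108)) (tt N4233 D6406) (tt N4229 (iv F30531)) (tt N2668 F24662) (tt N2621 F24663))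
theorem Q3367 : ∀ i, i < 3367 → P i := stepQ 3366 Q3366 (allL N3366 (tt N3366 F24664) (tt N3974 (iv F29209)) (tt N4214 (iv F30469)) (tt N4234 D6407) (tt N2621 (iv D5109)) (tt N4226 (iv F30521)) (tt N4235 D6408) (tt N4230 (iv F30535)) (tt N2623 F24665) (tt N4232 (iv F30542)))
theorem Q3368 : ∀ i, i < 3368 → P i := stepQ 3367 Q3367 (allL N3367 (tt N3367 F24666) (tt N3975 (iv F29211)) (tt N4215 (iv F30472)) (tt N2633 F24667) (tt N4235 (iv F30551)) (tt N4165 (iv F30249)) (tt N2621 (iv D5110)) (tt N4236 D6409) (tt N2624 F24668) (tt N4233 (iv F30546)))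
theorem Q3369 : ∀ i, i < 3369 → P i := stepQ 3368 Q3368 (allL N3368 (tt N3368 F24669) (tt N3976 (iv F29214)) (tt N4216 (iv F30476)) (tt N4237 D6410) (tt N2622 (iv D5111)) (tt N2726 F24670) (tt N4238 D6411) (tt N2623 F24671) (tt N4230 (iv F30536)) (tt N2671 F24672))
theorem Q3370 : ∀ i, i < 3370 → P i := stepQ 3369 Q3369 (allL N3369 (tt N3369 F24673) (tt N3977 (iv F29218)) (tt N4217 (iv F30481)) (tt N2635 F24674) (tt N4238 (iv F30562)) (tt N3369 F24675) (tt N2622 (iv D5112)) (tt N4239 D6412) (tt N4231 (iv F30539)) (tt N2672 F24676))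
theorem Q3371 : ∀ i, i < 3371 → P i := stepQ 3370 Q3370 (allL N3370 (tt N3370 F24677) (tt N3978 (iv F29222)) (tt N4240 D6413) (tt N2623 (iv D5113)) (tt N2636 F24678) (tt N2728 F24679) (tt N4241 D6414) (tt N4237 (iv F30559)) (tt N4234 (iv F30549)) (tt N2673 F24680))
theorem Q3372 : ∀ i, i < 3372 → P i := stepQ 3371 Q3371 (allL N3371 (tt N3371 F24681) (tt N3979 (iv F29226)) (tt N4219 (iv F30490)) (tt N4241 (iv F30574)) (tt N2624 F24682) (tt N4242 D6415) (tt N2623 (iv D5114)) (tt N4243 D6416) (tt N4235 (iv F30552)) (tt N2674 F24683))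
theorem Q3373 : ∀ i, i < 3373 → P i := stepQ 3372 Q3372 (allL N3372 (tt N3372 F24684) (tt N3980 (iv F29229)) (tt N4220 (iv F30494)) (tt N2638 F24685) (tt N4243 (iv F30582)) (tt N2626 F24686) (tt N4239 (iv F30567)) (tt N2624 (iv D5115)) (tt N4236 (iv F30555)) (tt N2675 F24687))
theorem Q3374 : ∀ i, i < 3374 → P i := stepQ 3373 Q3373 (allL N3373 (tt N3373 F24688) (tt N3981 (iv F29233)) (tt N4222 (iv F30504)) (tt N3373 F24689) (tt N4242 (iv F30578)) (tt N2625 (iv D5116)) (tt N2731 F24690) (tt N4244 D6417) (tt N4245 D6418) (tt N2676 F24691))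
theorem Q3375 : ∀ i, i < 3375 → P i := stepQ 3374 Q3374 (allL N3374 (tt N3374 F24692) (tt N3982 (iv F29237)) (tt N4223 (iv F30508)) (tt N3374 F24693) (tt N2626 F24694) (tt N4244 (iv F30586)) (tt N3374 F24695) (tt N2625 (iv D5117)) (tt N4172 (iv F30278)) (tt N2677 F24696))
theorem Q3376 : ∀ i, i < 3376 → P i := stepQ 3375 Q3375 (allL N3375 (tt N3375 F24697) (tt N3545 (iv F27012)) (tt N3375 F24698) (tt N4208 (iv F30436)) (tt N3375 F24699) (tt N4246 D6419) (tt N2629 F24700) (tt N4173 (iv F30285)) (tt N2627 (iv D5118)) (tt N2628 F24701))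
theorem Q3377 : ∀ i, i < 3377 → P i := stepQ 3376 Q3376 (allL N3376 (tt N3376 F24702) (tt N3983 (iv F29242)) (tt N3376 F24703) (tt N4228 (iv F30527)) (tt N4247 D6420) (tt N2628 (iv D5119)) (tt N4248 D6421) (tt N4174 (iv F30289)) (tt N3376 F24704) (tt N4246 (iv F30593)))
theorem Q3378 : ∀ i, i < 3378 → P i := stepQ 3377 Q3377 (allL N3377 (tt N3377 F24705) (tt N3565 (iv F27125)) (tt N3377 F24706) (tt N4229 (iv F30530)) (tt N4249 D6422) (tt N2629 (iv D5120)) (tt N4250 D6423) (tt N2631 F24707) (tt N2678 F24708) (tt N2630 F24709))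
theorem Q3379 : ∀ i, i < 3379 → P i := stepQ 3378 Q3378 (allL N3378 (tt N3378 F24710) (tt N3984 (iv F29244)) (tt N3378 F24711) (tt N4251 D6424) (tt N2630 (iv D5121)) (tt N3378 F24712) (tt N4252 D6425) (tt N2632 F24713) (tt N2634 F24714) (tt N4249 (iv F30607)))
theorem Q3380 : ∀ i, i < 3380 → P i := stepQ 3379 Q3379 (allL N3379 (tt N3379 F24715) (tt N3985 (iv F29248)) (tt N3379 F24716) (tt N4231 (iv F30538)) (tt N4252 (iv F30618)) (tt N4248 (iv F30600)) (tt N2630 (iv D5122)) (tt N4253 D6426) (tt N2635 F24717) (tt N4250 (iv F30611)))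
theorem Q3381 : ∀ i, i < 3381 → P i := stepQ 3380 Q3380 (allL N3380 (tt N3380 F24718) (tt N3986 (iv F29250)) (tt N3380 F24719) (tt N4254 D6427) (tt N2631 (iv D5123)) (tt N3380 F24720) (tt N4255 D6428) (tt N4249 (iv F30605)) (tt N2681 F24721) (tt N2632 F24722))
theorem Q3382 : ∀ i, i < 3382 → P i := stepQ 3381 Q3381 (allL N3381 (tt N3381 F24723) (tt N3987 (iv F29254)) (tt N3381 F24724) (tt N4233 (iv F30544)) (tt N4255 (iv F30630)) (tt N4179 (iv F30311)) (tt N2631 (iv D5124)) (tt N4256 D6429) (tt N2682 F24725) (tt N2633 F24726))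
theorem Q3383 : ∀ i, i < 3383 → P i := stepQ 3382 Q3382 (allL N3382 (tt N3382 F24727) (tt N3988 (iv F29257)) (tt N4257 D6430) (tt N2632 (iv D5125)) (tt N4234 (iv F30548)) (tt N3382 F24728) (tt N4258 D6431) (tt N4251 (iv F30614)) (tt N2636 F24729) (tt N4254 (iv F30627)))
theorem Q3384 : ∀ i, i < 3384 → P i := stepQ 3383 Q3383 (allL N3383 (tt N3383 F24730) (tt N3989 (iv F29260)) (tt N3383 F24731) (tt N4258 (iv F30642)) (tt N2633 F24732) (tt N4259 D6432) (tt N2632 (iv D5126)) (tt N4260 D6433) (tt N2637 F24733) (tt N4255 (iv F30632)))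
theorem Q3385 : ∀ i, i < 3385 → P i := stepQ 3384 Q3384 (allL N3384 (tt N3384 F24734) (tt N3990 (iv F29263)) (tt N3384 F24735) (tt N4236 (iv F30554)) (tt N4260 (iv F30650)) (tt N4182 (iv F30323)) (tt N4253 (iv F30622)) (tt N2633 (iv D5127)) (tt N2638 F24736) (tt N4256 (iv F30636)))
theorem Q3386 : ∀ i, i < 3386 → P i := stepQ 3385 Q3385 (allL N3385 (tt N3385 F24737) (tt N3991 (iv F29265)) (tt N2731 (iv F132042)) (tt N2634 (iv D5128)) (tt N4237 (iv F30557)) (tt N2639 F24738) (tt N4222 (iv F132044)) (tt N2636 F24739) (tt N4251 (iv F30615)) (tt N2686 F24740))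
theorem Q3387 : ∀ i, i < 3387 → P i := stepQ 3386 Q3386 (allL N3386 (tt N3386 F24741) (tt N3992 (iv F29269)) (tt N3386 F24742) (tt N4222 F132598) (tt N2635 F24743) (tt N4221 F132599) (tt N2634 (iv D5129)) (tt N4261 D6437) (tt N4252 (iv F30619)) (tt N2687 F24744))
theorem Q3388 : ∀ i, i < 3388 → P i := stepQ 3387 Q3387 (allL N3387 (tt N3387 F24745) (tt N3993 (iv F29272)) (tt N3387 F24746) (tt N4239 (iv F30565)) (tt N4261 (iv F30667)) (tt N3387 F24747) (tt N2638 F24748) (tt N2635 (iv D5130)) (tt N4253 (iv F30623)) (tt N2688 F24749))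
theorem Q3389 : ∀ i, i < 3389 → P i := stepQ 3388 Q3388 (allL N3388 (tt N3388 F24750) (tt N4101 (iv F132045)) (tt N2636 (iv D5131)) (tt N3388 F24751) (tt N4240 (iv F30570)) (tt N2641 F24752) (tt N4262 D6439) (tt N2731 (iv F132043)) (tt N4257 (iv F30640)) (tt N2689 F24753))
theorem Q3390 : ∀ i, i < 3390 → P i := stepQ 3389 Q3389 (allL N3389 (tt N3389 F24754) (tt N3995 (iv F29278)) (tt N4262 (iv F30674)) (tt N2637 F24755) (tt N4241 (iv F30575)) (tt N3389 F24756) (tt N2636 (iv D5132)) (tt N4263 D6440) (tt N4258 (iv F30643)) (tt N2690 F24757))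
theorem Q3391 : ∀ i, i < 3391 → P i := stepQ 3390 Q3390 (allL N3390 (tt N3390 F24758) (tt N3996 (iv F29282)) (tt N3390 F24759) (tt N4263 (iv F30679)) (tt N2638 F24760) (tt N3390 F24761) (tt N4261 (iv F30668)) (tt N2637 (iv D5133)) (tt N4260 (iv F30651)) (tt N2691 F24762))
theorem Q3392 : ∀ i, i < 3392 → P i := stepQ 3391 Q3391 (allL N3391 (tt N2648 F24785) (tt N3391 F24786) (tt N3551 (iv F27047)) (tt N3391 F24787) (tt N3391 F24788) (tt N3644 (iv F27544)) (tt N3521 (iv F26854)) (tt N2643 F24789) (tt N2642 (iv D5138)) (tt N4264 D6446))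
theorem Q3393 : ∀ i, i < 3393 → P i := stepQ 3392 Q3392 (allL N3392 (tt N2649 F24790) (tt N3392 F24791) (tt N3570 (iv F27155)) (tt N3392 F24792) (tt N3392 F24793) (tt N2645 F24794) (tt N3526 (iv F26888)) (tt N2644 F24795) (tt N4265 D6447) (tt N2642 (iv D5139)))
theorem Q3394 : ∀ i, i < 3394 → P i := stepQ 3393 Q3393 (allL N3393 (tt N2650 F24796) (tt N3393 F24797) (tt N4000 (iv F29306)) (tt N3393 F24798) (tt N3393 F24799) (tt N4193 (iv F30376)) (tt N3393 F24800) (tt N4264 (iv F30714)) (tt N4266 D6448) (tt N2643 (iv D5140)))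
theorem Q3395 : ∀ i, i < 3395 → P i := stepQ 3394 Q3394 (allL N3394 (tt N2651 F24801) (tt N3394 F24802) (tt N4001 (iv F29310)) (tt N3394 F24803) (tt N3394 F24804) (tt N4267 D6449) (tt N3394 F24805) (tt N4265 (iv F30719)) (tt N2644 (iv D5141)) (tt N4266 (iv F30725)))
theorem Q3396 : ∀ i, i < 3396 → P i := stepQ 3395 Q3395 (allL N3395 (tt N2652 F24806) (tt N3395 F24807) (tt N4002 (iv F29314)) (tt N3395 F24808) (tt N2741 F24809) (tt N4268 D6450) (tt N3395 F24810) (tt N2646 F24811) (tt N2645 (iv D5142)) (tt N4195 (iv F30386)))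
theorem Q3397 : ∀ i, i < 3397 → P i := stepQ 3396 Q3396 (allL N3396 (tt N2653 F24812) (tt N3396 F24813) (tt N4003 (iv F29319)) (tt N3396 F24814) (tt N4269 D6451) (tt N2646 (iv D5143)) (tt N4270 D6452) (tt N4268 (iv F30733)) (tt N4267 (iv F30729)) (tt N4196 (iv F30390)))
theorem Q3398 : ∀ i, i < 3398 → P i := stepQ 3397 Q3397 (allL N3397 (tt N2654 F24815) (tt N3397 F24816) (tt N4004 (iv F29321)) (tt N3711 (iv F132059)) (tt N2647 (iv D5144)) (tt N2743 F24817) (tt N4271 D6454) (tt N3397 F24818) (tt N3397 F24819) (tt N4197 (iv F30395)))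
theorem Q3399 : ∀ i, i < 3399 → P i := stepQ 3398 Q3398 (allL N3398 (tt N2655 F24820) (tt N3398 F24821) (tt N4005 (iv F29326)) (tt N3398 F24822) (tt N4271 (iv F30749)) (tt N4270 (iv F30740)) (tt N2647 (iv D5145)) (tt N4272 D6455) (tt N3398 F24823) (tt N4198 (iv F30399)))
theorem Q3400 : ∀ i, i < 3400 → P i := stepQ 3399 Q3399 (allL N3399 (tt N4264 (iv F30710)) (tt N2656 F24824) (tt N3554 (iv F27065)) (tt N3399 F24825) (tt N3399 F24826) (tt N3967 (iv F29184)) (tt N3522 (iv F26862)) (tt N2650 F24827) (tt N4273 D6456) (tt N2648 (iv D5146)))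
theorem Q3401 : ∀ i, i < 3401 → P i := stepQ 3400 Q3400 (allL N3400 (tt N4265 (iv F30715)) (tt N2657 F24828) (tt N3572 (iv F27167)) (tt N3400 F24829) (tt N3400 F24830) (tt N4274 D6457) (tt N3527 (iv F26894)) (tt N2651 F24831) (tt N2649 (iv D5147)) (tt N4273 (iv F30760)))
theorem Q3402 : ∀ i, i < 3402 → P i := stepQ 3401 Q3401 (allL N3401 (tt N4266 (iv F30720)) (tt N2658 F24832) (tt N4006 (iv F29329)) (tt N3401 F24833) (tt N3401 F24834) (tt N4275 D6458) (tt N3401 F24835) (tt N4273 (iv F30759)) (tt N2650 (iv D5148)) (tt N2651 F24836))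
theorem Q3403 : ∀ i, i < 3403 → P i := stepQ 3402 Q3402 (allL N3402 (tt N4267 (iv F30726)) (tt N2659 F24837) (tt N4007 (iv F29334)) (tt N3402 F24838) (tt N4276 D6459) (tt N2651 (iv D5149)) (tt N4277 D6460) (tt N4274 (iv F30763)) (tt N2653 F24839) (tt N4275 (iv F30767)))
theorem Q3404 : ∀ i, i < 3404 → P i := stepQ 3403 Q3403 (allL N3403 (tt N4268 (iv F30730)) (tt N2660 F24840) (tt N4008 (iv F29337)) (tt N3403 F24841) (tt N4278 D6461) (tt N2652 (iv D5150)) (tt N4279 D6462) (tt N2653 F24842) (tt N4274 (iv F30764)) (tt N4203 (iv F30414)))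
theorem Q3405 : ∀ i, i < 3405 → P i := stepQ 3404 Q3404 (allL N3404 (tt N4269 (iv F30734)) (tt N2661 F24843) (tt N4009 (iv F29340)) (tt N4128 (iv F132152)) (tt N2653 (iv D5151)) (tt N2745 F24844) (tt N4280 D6464) (tt N4278 (iv F30777)) (tt N4276 (iv F30770)) (tt N4204 (iv F30417)))
theorem Q3406 : ∀ i, i < 3406 → P i := stepQ 3405 Q3405 (allL N3405 (tt N4270 (iv F30737)) (tt N2662 F24845) (tt N4010 (iv F29343)) (tt N3405 F24846) (tt N4280 (iv F30785)) (tt N2655 F24847) (tt N2653 (iv D5152)) (tt N4281 D6465) (tt N4277 (iv F30774)) (tt N4205 (iv F30421)))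
theorem Q3407 : ∀ i, i < 3407 → P i := stepQ 3406 Q3406 (allL N3406 (tt N4271 (iv F30747)) (tt N2664 F24853) (tt N4012 (iv F29350)) (tt N4048 (iv F132104)) (tt N2655 F24854) (tt N4047 (iv F132080)) (tt N2654 (iv D5154)) (tt N4282 D6469) (tt N3406 F24855) (tt N4206 (iv F30429)))
theorem Q3408 : ∀ i, i < 3408 → P i := stepQ 3407 Q3407 (allL N3407 (tt N4272 (iv F30751)) (tt N2665 F24856) (tt N4013 (iv F29354)) (tt N3407 F24857) (tt N4282 (iv F30801)) (tt N4281 (iv F30788)) (tt N3407 F24858) (tt N2655 (iv D5155)) (tt N3407 F24859) (tt N4207 (iv F30433)))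
theorem Q3409 : ∀ i, i < 3409 → P i := stepQ 3408 Q3408 (allL N3408 (tt N3408 F24860) (tt N4273 (iv F30756)) (tt N2666 F24861) (tt N3408 F24862) (tt N3408 F24863) (tt N4283 D6470) (tt N3523 (iv F26868)) (tt N2658 F24864) (tt N2656 (iv D5156)) (tt N2657 F24865))
theorem Q3410 : ∀ i, i < 3410 → P i := stepQ 3409 Q3409 (allL N3409 (tt N3409 F24866) (tt N4274 (iv F30761)) (tt N2667 F24867) (tt N3409 F24868) (tt N4284 D6471) (tt N2657 (iv D5157)) (tt N4285 D6472) (tt N2659 F24869) (tt N2660 F24870) (tt N4283 (iv F30808)))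
theorem Q3411 : ∀ i, i < 3411 → P i := stepQ 3410 Q3410 (allL N3410 (tt N3410 F24871) (tt N4275 (iv F30765)) (tt N2668 F24872) (tt N3410 F24873) (tt N4286 D6473) (tt N2658 (iv D5158)) (tt N4287 D6474) (tt N4283 (iv F30807)) (tt N4213 (iv F30466)) (tt N2659 F24874))
theorem Q3412 : ∀ i, i < 3412 → P i := stepQ 3411 Q3411 (allL N3411 (tt N3411 F24875) (tt N4276 (iv F30768)) (tt N2669 F24876) (tt N4288 D6475) (tt N2659 (iv D5159)) (tt N3411 F24877) (tt N4289 D6476) (tt N4284 (iv F30812)) (tt N2661 F24878) (tt N4286 (iv F30821)))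
theorem Q3413 : ∀ i, i < 3413 → P i := stepQ 3412 Q3412 (allL N3412 (tt N3412 F24879) (tt N4277 (iv F30771)) (tt N2670 F24880) (tt N3412 F24881) (tt N4289 (iv F30833)) (tt N3412 F24882) (tt N2659 (iv D5160)) (tt N4290 D6477) (tt N2662 F24883) (tt N4287 (iv F30826)))
theorem Q3414 : ∀ i, i < 3414 → P i := stepQ 3413 Q3413 (allL N3413 (tt N3413 F24884) (tt N4278 (iv F30775)) (tt N2671 F24885) (tt N4291 D6478) (tt N2660 (iv D5161)) (tt N2746 F24886) (tt N4292 D6479) (tt N2661 F24887) (tt N4284 (iv F30813)) (tt N4216 (iv F30479)))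
theorem Q3415 : ∀ i, i < 3415 → P i := stepQ 3414 Q3414 (allL N3414 (tt N3414 F24888) (tt N4279 (iv F30778)) (tt N2672 F24889) (tt N3414 F24890) (tt N4292 (iv F30846)) (tt N3414 F24891) (tt N2660 (iv D5162)) (tt N4293 D6480) (tt N4285 (iv F30817)) (tt N4217 (iv F30484)))
theorem Q3416 : ∀ i, i < 3416 → P i := stepQ 3415 Q3415 (allL N3415 (tt N3415 F24892) (tt N4128 (iv F132151)) (tt N4294 D6481) (tt N2661 (iv D5163)) (tt N3415 F24893) (tt N2748 F24894) (tt N4295 D6482) (tt N4291 (iv F30843)) (tt N4288 (iv F30830)) (tt N4218 (iv F30488)))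
theorem Q3417 : ∀ i, i < 3417 → P i := stepQ 3416 Q3416 (allL N3416 (tt N3416 F24895) (tt N4280 (iv F30784)) (tt N2674 F24896) (tt N4295 (iv F30857)) (tt N2662 F24897) (tt N4296 D6483) (tt N2661 (iv D5164)) (tt N4297 D6484) (tt N4289 (iv F30834)) (tt N4219 (iv F30492)))
theorem Q3418 : ∀ i, i < 3418 → P i := stepQ 3417 Q3417 (allL N3417 (tt N3417 F24898) (tt N4281 (iv F30786)) (tt N2675 F24899) (tt N3417 F24900) (tt N4297 (iv F30865)) (tt N2665 F24901) (tt N4293 (iv F30851)) (tt N2662 (iv D5165)) (tt N4290 (iv F30839)) (tt N4220 (iv F30497)))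
theorem Q3419 : ∀ i, i < 3419 → P i := stepQ 3418 Q3418 (allL N3418 (tt N3418 F24902) (tt N4048 (iv F132103)) (tt N3418 F24903) (tt N2664 F24904) (tt N3418 F24905) (tt N2687 (iv F132082)) (tt N2663 (iv D5166)) (tt N4298 D6486) (tt N3418 F24906) (tt N4221 (iv F30502)))
theorem Q3420 : ∀ i, i < 3420 → P i := stepQ 3419 Q3419 (allL N3419 (tt N3419 F24907) (tt N4047 (iv F132078)) (tt N2676 F24908) (tt N2687 (iv F132081)) (tt N4296 (iv F30861)) (tt N2664 (iv D5167)) (tt N2686 F131678) (tt N4299 D6487) (tt N4300 D6488) (tt N4222 (iv F30506)))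
theorem Q3421 : ∀ i, i < 3421 → P i := stepQ 3420 Q3420 (allL N3420 (tt N3420 F24910) (tt N4282 (iv F30800)) (tt N2677 F24911) (tt N4298 (iv F30872)) (tt N2665 F24912) (tt N4299 (iv F30878)) (tt N3420 F24913) (tt N2664 (iv D5168)) (tt N3420 F24914) (tt N4223 (iv F30511)))
theorem Q3422 : ∀ i, i < 3422 → P i := stepQ 3421 Q3421 (allL N3421 (tt N3421 F24915) (tt N3562 (iv F27112)) (tt N4283 (iv F30805)) (tt N2678 F24916) (tt N4301 D6489) (tt N2666 (iv D5169)) (tt N4302 D6490) (tt N2668 F24917) (tt N4229 (iv F30532)) (tt N2667 F24918))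
theorem Q3423 : ∀ i, i < 3423 → P i := stepQ 3422 Q3422 (allL N3422 (tt N3422 F24919) (tt N3577 (iv F27191)) (tt N4284 (iv F30810)) (tt N4303 D6491) (tt N2667 (iv D5170)) (tt N3422 F24920) (tt N4304 D6492) (tt N2669 F24921) (tt N2671 F24922) (tt N4301 (iv F30886)))
theorem Q3424 : ∀ i, i < 3424 → P i := stepQ 3423 Q3423 (allL N3423 (tt N3423 F24923) (tt N3578 (iv F27196)) (tt N4285 (iv F30815)) (tt N2680 F24924) (tt N4304 (iv F30896)) (tt N3530 (iv F26910)) (tt N2667 (iv D5171)) (tt N4305 D6493) (tt N2672 F24925) (tt N4302 (iv F30889)))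
theorem Q3425 : ∀ i, i < 3425 → P i := stepQ 3424 Q3424 (allL N3424 (tt N3424 F24926) (tt N4025 (iv F29384)) (tt N4286 (iv F30819)) (tt N4306 D6494) (tt N2668 (iv D5172)) (tt N3424 F24927) (tt N4307 D6495) (tt N4301 (iv F30885)) (tt N4232 (iv F30541)) (tt N2669 F24928))
theorem Q3426 : ∀ i, i < 3426 → P i := stepQ 3425 Q3425 (allL N3425 (tt N3425 F24929) (tt N4026 (iv F29387)) (tt N4287 (iv F30823)) (tt N2682 F24930) (tt N4307 (iv F30907)) (tt N3425 F24931) (tt N2668 (iv D5173)) (tt N4308 D6496) (tt N4233 (iv F30545)) (tt N2670 F24932))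
theorem Q3427 : ∀ i, i < 3427 → P i := stepQ 3426 Q3426 (allL N3426 (tt N3426 F24933) (tt N4027 (iv F29391)) (tt N4309 D6497) (tt N2669 (iv D5174)) (tt N2683 F24934) (tt N3426 F24935) (tt N4310 D6498) (tt N4303 (iv F30893)) (tt N2673 F24936) (tt N4306 (iv F30905)))
theorem Q3428 : ∀ i, i < 3428 → P i := stepQ 3427 Q3427 (allL N3427 (tt N3427 F24937) (tt N4028 (iv F29395)) (tt N4289 (iv F30832)) (tt N4310 (iv F30918)) (tt N2670 F24938) (tt N4311 D6499) (tt N2669 (iv D5175)) (tt N4312 D6500) (tt N2674 F24939) (tt N4307 (iv F30908)))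
theorem Q3429 : ∀ i, i < 3429 → P i := stepQ 3428 Q3428 (allL N3428 (tt N3428 F24940) (tt N4029 (iv F29398)) (tt N4290 (iv F30836)) (tt N2685 F24941) (tt N4312 (iv F30925)) (tt N3428 F24942) (tt N4305 (iv F30900)) (tt N2670 (iv D5176)) (tt N2675 F24943) (tt N4308 (iv F30912)))
theorem Q3430 : ∀ i, i < 3430 → P i := stepQ 3429 Q3429 (allL N3429 (tt N3429 F24944) (tt N4030 (iv F29402)) (tt N2753 (iv F132075)) (tt N2671 (iv D5177)) (tt N2686 F24945) (tt N2749 F131677) (tt N4296 (iv F132060)) (tt N2673 F24947) (tt N4303 (iv F30894)) (tt N4237 (iv F30560)))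
theorem Q3431 : ∀ i, i < 3431 → P i := stepQ 3430 Q3430 (allL N3430 (tt N3430 F24948) (tt N4031 (iv F29406)) (tt N4292 (iv F30845)) (tt N4296 F132620) (tt N2672 F24949) (tt N4295 F132621) (tt N2671 (iv D5178)) (tt N4313 D6504) (tt N4304 (iv F30897)) (tt N4238 (iv F30563)))
theorem Q3432 : ∀ i, i < 3432 → P i := stepQ 3431 Q3431 (allL N3431 (tt N3431 F24950) (tt N4032 (iv F29408)) (tt N4293 (iv F30848)) (tt N2688 F24951) (tt N4313 (iv F30938)) (tt N3431 F24952) (tt N2675 F24953) (tt N2672 (iv D5179)) (tt N4305 (iv F30901)) (tt N4239 (iv F30568)))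
theorem Q3433 : ∀ i, i < 3433 → P i := stepQ 3432 Q3432 (allL N3432 (tt N3432 F24954) (tt N4133 (iv F132084)) (tt N2673 (iv D5180)) (tt N4294 (iv F30853)) (tt N2689 F24955) (tt N2751 F24956) (tt N4314 D6506) (tt N2753 (iv F132076)) (tt N4309 (iv F30916)) (tt N4240 (iv F30572)))
theorem Q3434 : ∀ i, i < 3434 → P i := stepQ 3433 Q3433 (allL N3433 (tt N3433 F24957) (tt N4034 (iv F29414)) (tt N4314 (iv F30943)) (tt N2674 F24958) (tt N2690 F24959) (tt N4315 D6507) (tt N2673 (iv D5181)) (tt N4316 D6508) (tt N4310 (iv F30920)) (tt N4241 (iv F30576)))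
theorem Q3435 : ∀ i, i < 3435 → P i := stepQ 3434 Q3434 (allL N3434 (tt N3434 F24960) (tt N4035 (iv F29417)) (tt N4296 (iv F30860)) (tt N4315 (iv F30946)) (tt N2676 F24961) (tt N2674 (iv D5182)) (tt N2753 F24962) (tt N4317 D6509) (tt N4318 D6510) (tt N4242 (iv F30580)))
theorem Q3436 : ∀ i, i < 3436 → P i := stepQ 3435 Q3435 (allL N3435 (tt N3435 F24963) (tt N4036 (iv F29420)) (tt N4297 (iv F30864)) (tt N4316 (iv F30950)) (tt N2675 F24964) (tt N4317 (iv F30954)) (tt N4313 (iv F30939)) (tt N2674 (iv D5183)) (tt N4312 (iv F30926)) (tt N4243 (iv F30583)))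
theorem Q3437 : ∀ i, i < 3437 → P i := stepQ 3436 Q3436 (allL N3436 (tt N3436 F24965) (tt N4037 (iv F29422)) (tt N4299 (iv F30877)) (tt N3436 F24966) (tt N4317 (iv F30953)) (tt N2677 F24967) (tt N4319 D6511) (tt N2676 (iv D5184)) (tt N4320 D6512) (tt N4244 (iv F30587)))
theorem Q3438 : ∀ i, i < 3438 → P i := stepQ 3437 Q3437 (allL N3437 (tt N3437 F24968) (tt N4038 (iv F29425)) (tt N4300 (iv F30880)) (tt N3437 F24969) (tt N4318 (iv F30956)) (tt N3437 F24970) (tt N2754 F24971) (tt N4320 (iv F30965)) (tt N2676 (iv D5185)) (tt N4321 D6513))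
theorem Q3439 : ∀ i, i < 3439 → P i := stepQ 3438 Q3438 (allL N3438 (tt N3438 F24972) (tt N3566 (iv F27131)) (tt N3438 F24973) (tt N4322 D6514) (tt N2678 (iv D5186)) (tt N2692 F24974) (tt N4323 D6515) (tt N2681 F24975) (tt N4249 (iv F30606)) (tt N2679 F24976))
theorem Q3440 : ∀ i, i < 3440 → P i := stepQ 3439 Q3439 (allL N3439 (tt N3439 F24977) (tt N3567 (iv F27137)) (tt N3439 F24978) (tt N4302 (iv F30888)) (tt N4323 (iv F30976)) (tt N3525 (iv F26880)) (tt N2678 (iv D5187)) (tt N4324 D6516) (tt N4250 (iv F30610)) (tt N2680 F24979))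
theorem Q3441 : ∀ i, i < 3441 → P i := stepQ 3440 Q3440 (allL N3440 (tt N3440 F24980) (tt N3581 (iv F27209)) (tt N2754 F131682) (tt N2679 (iv D5188)) (tt N4303 (iv F30891)) (tt N2693 F24981) (tt N4300 (iv F132083)) (tt N2683 F24982) (tt N2686 F24983) (tt N4322 (iv F30973)))
theorem Q3442 : ∀ i, i < 3442 → P i := stepQ 3441 Q3441 (allL N3441 (tt N3441 F24984) (tt N3582 (iv F27214)) (tt N3441 F24985) (tt N4300 F132663) (tt N2680 F24986) (tt N3441 F24987) (tt N2679 (iv D5189)) (tt N4325 D6519) (tt N2687 F24988) (tt N4323 (iv F30978)))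
theorem Q3443 : ∀ i, i < 3443 → P i := stepQ 3442 Q3442 (allL N3442 (tt N3442 F24989) (tt N3583 (iv F27220)) (tt N3442 F24990) (tt N4305 (iv F30899)) (tt N4325 (iv F30994)) (tt N3531 (iv F26916)) (tt N2685 F24991) (tt N2680 (iv D5190)) (tt N2688 F24992) (tt N4324 (iv F30982)))
theorem Q3444 : ∀ i, i < 3444 → P i := stepQ 3443 Q3443 (allL N3443 (tt N3443 F24993) (tt N4039 (iv F29429)) (tt N4326 D6520) (tt N2681 (iv D5191)) (tt N4306 (iv F30903)) (tt N2694 F24994) (tt N4327 D6521) (tt N4322 (iv F30972)) (tt N4254 (iv F30626)) (tt N2683 F24995))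
theorem Q3445 : ∀ i, i < 3445 → P i := stepQ 3444 Q3444 (allL N3444 (tt N3444 F24996) (tt N4040 (iv F29432)) (tt N3444 F24997) (tt N4327 (iv F31003)) (tt N2682 F24998) (tt N4328 D6522) (tt N2681 (iv D5192)) (tt N4329 D6523) (tt N4255 (iv F30631)) (tt N2684 F24999))
theorem Q3446 : ∀ i, i < 3446 → P i := stepQ 3445 Q3445 (allL N3445 (tt N3445 F25000) (tt N4041 (iv F29435)) (tt N3445 F25001) (tt N4308 (iv F30910)) (tt N4329 (iv F31012)) (tt N3445 F25002) (tt N4324 (iv F30981)) (tt N2682 (iv D5193)) (tt N4256 (iv F30635)) (tt N2685 F25003))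
theorem Q3447 : ∀ i, i < 3447 → P i := stepQ 3446 Q3446 (allL N3446 (tt N3446 F25004) (tt N4136 (iv F132086)) (tt N2683 (iv D5194)) (tt N3446 F25005) (tt N4309 (iv F30914)) (tt N2696 F25006) (tt N4330 D6525) (tt N2754 F131679) (tt N2689 F25007) (tt N4326 (iv F31001)))
theorem Q3448 : ∀ i, i < 3448 → P i := stepQ 3447 Q3447 (allL N3447 (tt N3447 F25008) (tt N4043 (iv F29440)) (tt N4330 (iv F31018)) (tt N2684 F25009) (tt N4310 (iv F30919)) (tt N4331 D6526) (tt N2683 (iv D5195)) (tt N4332 D6527) (tt N2690 F25010) (tt N4327 (iv F31004)))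
theorem Q3449 : ∀ i, i < 3449 → P i := stepQ 3448 Q3448 (allL N3448 (tt N3448 F25011) (tt N4044 (iv F29443)) (tt N3448 F25012) (tt N4331 (iv F31022)) (tt N3448 F25013) (tt N2684 (iv D5196)) (tt N2698 F25014) (tt N4333 D6528) (tt N3448 F25015) (tt N4328 (iv F31009)))
theorem Q3450 : ∀ i, i < 3450 → P i := stepQ 3449 Q3449 (allL N3449 (tt N3449 F25016) (tt N4045 (iv F29447)) (tt N3449 F25017) (tt N4332 (iv F31026)) (tt N2685 F25018) (tt N4333 (iv F31031)) (tt N4325 (iv F30996)) (tt N2684 (iv D5197)) (tt N2691 F25019) (tt N4329 (iv F31013)))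
theorem Q3451 : ∀ i, i < 3451 → P i := stepQ 3450 Q3450 (allL N3450 (tt N3450 F25031) (tt N4049 (iv F29458)) (tt N3450 F25032) (tt N4299 F132644) (tt N2688 F25033) (tt N4298 F132645) (tt N2691 F25034) (tt N2687 (iv D5201)) (tt N4325 (iv F30997)) (tt N4261 (iv F30669)))
theorem Q3452 : ∀ i, i < 3452 → P i := stepQ 3451 Q3451 (allL N3451 (tt N3451 F25037) (tt N4135 (iv F132088)) (tt N2690 F25038) (tt N3451 F25039) (tt N4314 (iv F30944)) (tt N3451 F25040) (tt N2689 (iv D5203)) (tt N4319 (iv F132090)) (tt N4330 (iv F31020)) (tt N4262 (iv F30677)))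
theorem Q3453 : ∀ i, i < 3453 → P i := stepQ 3452 Q3452 (allL N3452 (tt N3452 F25041) (tt N4052 (iv F29465)) (tt N4319 F132646) (tt N2691 F25042) (tt N4316 (iv F30951)) (tt N3452 F25043) (tt N4299 F132647) (tt N2690 (iv D5204)) (tt N4332 (iv F31027)) (tt N4263 (iv F30681)))
theorem Q3454 : ∀ i, i < 3454 → P i := stepQ 3453 Q3453 (allL N3453 (tt N3453 F25063) (tt N3569 (iv F27147)) (tt N2755 F131744) (tt N2692 (iv D5209)) (tt N3453 F25064) (tt N4322 (iv F30971)) (tt N3453 F25065) (tt N2694 F25066) (tt N3453 F25067) (tt N2693 F25068))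
theorem Q3455 : ∀ i, i < 3455 → P i := stepQ 3454 Q3454 (allL N3454 (tt N3454 F25075) (tt N4140 (iv F132099)) (tt N2694 (iv D5211)) (tt N3454 F25076) (tt N3454 F25077) (tt N4326 (iv F31000)) (tt N4334 D6544) (tt N2755 F131694) (tt N3454 F25078) (tt N2696 F25079))
theorem Q3456 : ∀ i, i < 3456 → P i := stepQ 3455 Q3455 (allL N3455 (tt N3455 F25080) (tt N4054 (iv F29487)) (tt N4334 (iv F31100)) (tt N2695 F25081) (tt N3455 F25082) (tt N4335 D6545) (tt N2694 (iv D5212)) (tt N3455 F25083) (tt N3455 F25084) (tt N2697 F25085))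
theorem Q3457 : ∀ i, i < 3457 → P i := stepQ 3456 Q3456 (allL N3456 (tt N3456 F25086) (tt N4055 (iv F29493)) (tt N3456 F25087) (tt N4335 (iv F31107)) (tt N3456 F25088) (tt N2695 (iv D5213)) (tt N4328 (iv F31008)) (tt N3456 F25089) (tt N4336 D6546) (tt N2698 F25090))
theorem Q3458 : ∀ i, i < 3458 → P i := stepQ 3457 Q3457 (allL N3457 (tt N3457 F25094) (tt N4139 F131695) (tt N2697 F25095) (tt N3457 F25096) (tt N3457 F25097) (tt N4337 D6549) (tt N2696 (iv D5215)) (tt N3457 F25098) (tt N2699 F25099) (tt N4334 (iv F31105)))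
theorem Q3459 : ∀ i, i < 3459 → P i := stepQ 3458 Q3458 (allL N3458 (tt N3458 F25100) (tt N4058 (iv F29504)) (tt N4337 (iv F31126)) (tt N2698 F25101) (tt N4338 D6550) (tt N2697 (iv D5216)) (tt N4331 (iv F31023)) (tt N3458 F25102) (tt N3458 F25103) (tt N4335 (iv F31109)))
theorem Q3460 : ∀ i, i < 3460 → P i := stepQ 3459 Q3459 (allL N3459 (tt N2706 F25132) (tt N3459 F25133) (tt N4059 (iv F29529)) (tt N2756 F25134) (tt N3835 (iv F28668)) (tt N4339 D6554) (tt N3459 F25135) (tt N3816 (iv F28572)) (tt N2700 (iv D5222)) (tt N3459 F25136))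
theorem Q3461 : ∀ i, i < 3461 → P i := stepQ 3460 Q3460 (allL N3460 (tt N2707 F25137) (tt N3460 F25138) (tt N4060 (iv F29534)) (tt N2757 F25139) (tt N4195 (iv F30383)) (tt N4340 D6555) (tt N3460 F25140) (tt N2702 F25141) (tt N2701 (iv D5223)) (tt N2741 F25142))
theorem Q3462 : ∀ i, i < 3462 → P i := stepQ 3461 Q3461 (allL N3461 (tt N2708 F25143) (tt N3461 F25144) (tt N4061 (iv F29540)) (tt N2758 F25145) (tt N4341 D6556) (tt N2702 (iv D5224)) (tt N3768 (iv F132113)) (tt N4340 (iv F31164)) (tt N4339 (iv F31159)) (tt N2742 F25146))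
theorem Q3463 : ∀ i, i < 3463 → P i := stepQ 3462 Q3462 (allL N3462 (tt N2709 F25147) (tt N3462 F25148) (tt N4062 (iv F29544)) (tt N3668 (iv F132093)) (tt N2703 (iv D5225)) (tt N4197 (iv F30393)) (tt N3667 (iv F132092)) (tt N3462 F25149) (tt N3462 F25150) (tt N2743 F25151))
theorem Q3464 : ∀ i, i < 3464 → P i := stepQ 3463 Q3463 (allL N3463 (tt N3835 (iv F28665)) (tt N2712 F25157) (tt N4063 (iv F29554)) (tt N3546 (iv F27020)) (tt N2706 F25158) (tt N4342 D6561) (tt N3463 F25159) (tt N3542 (iv F26996)) (tt N2704 (iv D5227)) (tt N3463 F25160))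
theorem Q3465 : ∀ i, i < 3465 → P i := stepQ 3464 Q3464 (allL N3464 (tt N3816 (iv F28567)) (tt N2714 F25161) (tt N4064 (iv F29559)) (tt N2760 F25162) (tt N3542 (iv F26994)) (tt N4343 D6562) (tt N3533 (iv F26931)) (tt N2706 F25163) (tt N2705 (iv D5228)) (tt N3464 F25164))
theorem Q3466 : ∀ i, i < 3466 → P i := stepQ 3465 Q3465 (allL N3465 (tt N4339 (iv F31156)) (tt N2715 F25165) (tt N4065 (iv F29564)) (tt N2761 F25166) (tt N4344 D6563) (tt N2706 (iv D5229)) (tt N4105 (iv F132112)) (tt N4343 (iv F31195)) (tt N2708 F25167) (tt N3465 F25168))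
theorem Q3467 : ∀ i, i < 3467 → P i := stepQ 3466 Q3466 (allL N3466 (tt N4340 (iv F31161)) (tt N2716 F25169) (tt N4066 (iv F29569)) (tt N2762 F25170) (tt N4345 D6565) (tt N2707 (iv D5230)) (tt N4112 (iv F132109)) (tt N2708 F25171) (tt N4343 (iv F31196)) (tt N2744 F25172))
theorem Q3468 : ∀ i, i < 3468 → P i := stepQ 3467 Q3467 (allL N3467 (tt N4341 (iv F31166)) (tt N2717 F25173) (tt N4067 (iv F29574)) (tt N4095 (iv F132135)) (tt N2708 (iv D5231)) (tt N4204 (iv F30416)) (tt N4094 (iv F132138)) (tt N4345 (iv F31207)) (tt N4344 (iv F31199)) (tt N2745 F25174))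
theorem Q3469 : ∀ i, i < 3469 → P i := stepQ 3468 Q3468 (allL N3468 (tt N3468 F25193) (tt N3546 (iv F27018)) (tt N3468 F25194) (tt N2712 F25195) (tt N2763 F25196) (tt N4346 D6574) (tt N3468 F25197) (tt N3518 (iv F26832)) (tt N2710 (iv D5236)) (tt N3468 F25198))
theorem Q3470 : ∀ i, i < 3470 → P i := stepQ 3469 Q3469 (allL N3469 (tt N3469 F25199) (tt N3542 (iv F26992)) (tt N2720 F25200) (tt N3518 (iv F26829)) (tt N2714 F25201) (tt N4347 D6575) (tt N3517 (iv F26823)) (tt N2712 F25202) (tt N2711 (iv D5237)) (tt N3469 F25203))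
theorem Q3471 : ∀ i, i < 3471 → P i := stepQ 3470 Q3470 (allL N3470 (tt N3470 F25204) (tt N4342 (iv F31191)) (tt N2721 F25205) (tt N4346 (iv F31242)) (tt N4348 D6576) (tt N2712 (iv D5238)) (tt N4349 D6577) (tt N4347 (iv F31246)) (tt N4209 (iv F30443)) (tt N3470 F25206))
theorem Q3472 : ∀ i, i < 3472 → P i := stepQ 3471 Q3471 (allL N3471 (tt N3471 F25207) (tt N3533 (iv F26928)) (tt N2722 F25208) (tt N2766 F25209) (tt N3517 (iv F26822)) (tt N4350 D6578) (tt N2714 F25210) (tt N3471 F25211) (tt N2713 (iv D5239)) (tt N3471 F25212))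
theorem Q3473 : ∀ i, i < 3473 → P i := stepQ 3472 Q3472 (allL N3472 (tt N3472 F25213) (tt N4343 (iv F31193)) (tt N2723 F25214) (tt N2767 F25215) (tt N4351 D6579) (tt N2714 (iv D5240)) (tt N4352 D6580) (tt N2715 F25216) (tt N2716 F25217) (tt N3472 F25218))
theorem Q3474 : ∀ i, i < 3474 → P i := stepQ 3473 Q3473 (allL N3473 (tt N3473 F25219) (tt N4344 (iv F31198)) (tt N2724 F25220) (tt N4353 D6581) (tt N2715 (iv D5241)) (tt N4348 (iv F31250)) (tt N4354 D6582) (tt N4351 (iv F31264)) (tt N2717 F25221) (tt N3473 F25222))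
theorem Q3475 : ∀ i, i < 3475 → P i := stepQ 3474 Q3474 (allL N3474 (tt N3474 F25223) (tt N4105 (iv F132110)) (tt N2725 F25224) (tt N2733 (iv F131989)) (tt N4354 (iv F31278)) (tt N3474 F25226) (tt N2715 (iv D5242)) (tt N2735 (iv F132146)) (tt N2718 F25227) (tt N3474 F25228))
theorem Q3476 : ∀ i, i < 3476 → P i := stepQ 3475 Q3475 (allL N3475 (tt N3475 F25229) (tt N4345 (iv F31206)) (tt N2726 F25230) (tt N4355 D6584) (tt N2716 (iv D5243)) (tt N4216 (iv F30477)) (tt N4356 D6585) (tt N2717 F25231) (tt N4351 (iv F31265)) (tt N2746 F25232))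
theorem Q3477 : ∀ i, i < 3477 → P i := stepQ 3476 Q3476 (allL N3476 (tt N3476 F25233) (tt N4112 (iv F132107)) (tt N2727 F25234) (tt N2740 F131718) (tt N4356 (iv F31293)) (tt N3476 F25236) (tt N2716 (iv D5244)) (tt N2739 (iv F132006)) (tt N4352 (iv F31270)) (tt N2747 F25237))
theorem Q3478 : ∀ i, i < 3478 → P i := stepQ 3477 Q3477 (allL N3477 (tt N3477 F25238) (tt N4095 (iv F132134)) (tt N4356 (iv F132131)) (tt N2717 (iv D5245)) (tt N2727 (iv F132004)) (tt N4218 (iv F30487)) (tt N2726 (iv F132143)) (tt N4355 (iv F31289)) (tt N4353 (iv F31274)) (tt N2748 F25240))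
theorem Q3479 : ∀ i, i < 3479 → P i := stepQ 3478 Q3478 (allL N3478 (tt N3478 F25241) (tt N4094 (iv F132136)) (tt N2729 F25242) (tt N2726 (iv F132142)) (tt N2718 F25243) (tt N4237 (iv F132041)) (tt N2717 (iv D5246)) (tt N2728 (iv F132144)) (tt N4354 (iv F31279)) (tt N2749 F25244))
theorem Q3480 : ∀ i, i < 3480 → P i := stepQ 3479 Q3479 (allL N3479 (tt N3479 F25265) (tt N4084 (iv F29654)) (tt N3517 (iv F26820)) (tt N3479 F25266) (tt N2722 F25267) (tt N4357 D6595) (tt N2720 F25268) (tt N3479 F25269) (tt N2719 (iv D5251)) (tt N3479 F25270))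
theorem Q3481 : ∀ i, i < 3481 → P i := stepQ 3480 Q3480 (allL N3480 (tt N3480 F25271) (tt N4085 (iv F29660)) (tt N4347 (iv F31245)) (tt N3480 F25272) (tt N4358 D6596) (tt N2720 (iv D5252)) (tt N4359 D6597) (tt N2721 F25273) (tt N4224 (iv F30515)) (tt N3480 F25274))
theorem Q3482 : ∀ i, i < 3482 → P i := stepQ 3481 Q3481 (allL N3481 (tt N3481 F25275) (tt N4086 (iv F29664)) (tt N4348 (iv F31249)) (tt N4360 D6598) (tt N2721 (iv D5253)) (tt N2724 F25276) (tt N4361 D6599) (tt N4358 (iv F31341)) (tt N4226 (iv F30522)) (tt N3481 F25277))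
theorem Q3483 : ∀ i, i < 3483 → P i := stepQ 3482 Q3482 (allL N3482 (tt N3482 F25278) (tt N4087 (iv F29667)) (tt N4349 (iv F31253)) (tt N3482 F25279) (tt N4361 (iv F31351)) (tt N3482 F25280) (tt N2721 (iv D5254)) (tt N4362 D6600) (tt N4227 (iv F30525)) (tt N3482 F25281))
theorem Q3484 : ∀ i, i < 3484 → P i := stepQ 3483 Q3483 (allL N3483 (tt N3483 F25282) (tt N4088 (iv F29671)) (tt N4350 (iv F31257)) (tt N2732 F25283) (tt N4363 D6601) (tt N2722 (iv D5255)) (tt N4364 D6602) (tt N3483 F25284) (tt N3483 F25285) (tt N3483 F25286))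
theorem Q3485 : ∀ i, i < 3485 → P i := stepQ 3484 Q3484 (allL N3484 (tt N3484 F25287) (tt N4089 (iv F29676)) (tt N4351 (iv F31263)) (tt N4354 F132708) (tt N2723 (iv D5256)) (tt N4358 (iv F31340)) (tt N4353 F132709) (tt N2724 F25288) (tt N2726 F25289) (tt N3484 F25290))
theorem Q3486 : ∀ i, i < 3486 → P i := stepQ 3485 Q3485 (allL N3485 (tt N3485 F25291) (tt N4090 (iv F29680)) (tt N4352 (iv F31268)) (tt N2734 F25292) (tt N4353 F132548) (tt N4364 (iv F31363)) (tt N2723 (iv D5257)) (tt N4365 D6605) (tt N2727 F25293) (tt N3485 F25294))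
theorem Q3487 : ∀ i, i < 3487 → P i := stepQ 3486 Q3486 (allL N3486 (tt N3486 F25295) (tt N4091 (iv F29684)) (tt N4366 D6606) (tt N2724 (iv D5258)) (tt N2735 F25296) (tt N4360 (iv F31348)) (tt N4367 D6607) (tt N4354 F132710) (tt N2728 F25297) (tt N3486 F25298))
theorem Q3488 : ∀ i, i < 3488 → P i := stepQ 3487 Q3487 (allL N3487 (tt N3487 F25299) (tt N4092 (iv F29688)) (tt N4354 (iv F31277)) (tt N4367 (iv F31385)) (tt N2725 F25300) (tt N4368 D6608) (tt N2724 (iv D5259)) (tt N4366 F132707) (tt N2729 F25301) (tt N3487 F25302))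
theorem Q3489 : ∀ i, i < 3489 → P i := stepQ 3488 Q3488 (allL N3488 (tt N3488 F25303) (tt N4093 (iv F29692)) (tt N2735 (iv F132145)) (tt N2737 F25304) (tt N4366 (iv F132148)) (tt N3488 F25305) (tt N4365 (iv F31377)) (tt N2725 (iv D5260)) (tt N2730 F25306) (tt N3488 F25307))
theorem Q3490 : ∀ i, i < 3490 → P i := stepQ 3489 Q3489 (allL N3489 (tt N3489 F25315) (tt N4096 (iv F29704)) (tt N2739 (iv F132005)) (tt N2738 F25316) (tt N4355 (iv F132128)) (tt N3489 F25317) (tt N2730 F25318) (tt N2727 (iv D5263)) (tt N4365 (iv F31378)) (tt N2750 F25319))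
theorem Q3491 : ∀ i, i < 3491 → P i := stepQ 3490 Q3490 (allL N3490 (tt N3490 F25320) (tt N4100 (iv F132149)) (tt N2728 (iv D5264)) (tt N4356 (iv F132132)) (tt N2730 F131717) (tt N4240 (iv F30571)) (tt N4355 (iv F132140)) (tt N2729 (iv F132141)) (tt N4366 (iv F31382)) (tt N2751 F25322))
theorem Q3492 : ∀ i, i < 3492 → P i := stepQ 3491 Q3491 (allL N3491 (tt N3491 F25323) (tt N4098 (iv F29711)) (tt N4355 (iv F132139)) (tt N2729 F25324) (tt N2739 F25325) (tt N4369 D6616) (tt N2728 (iv D5265)) (tt N4356 (iv F132130)) (tt N4367 (iv F31387)) (tt N2752 F25326))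
theorem Q3493 : ∀ i, i < 3493 → P i := stepQ 3492 Q3492 (allL N3492 (tt N3492 F25327) (tt N4099 (iv F29715)) (tt N4237 F132582) (tt N4369 (iv F31418)) (tt N2731 F25328) (tt N2729 (iv D5266)) (tt N4242 (iv F30579)) (tt N4240 F132583) (tt N4370 D6619) (tt N2753 F25329))
theorem Q3494 : ∀ i, i < 3494 → P i := stepQ 3493 Q3493 (allL N3493 (tt N3493 F25337) (tt N4102 (iv F29725)) (tt N4251 F132584) (tt N3493 F25338) (tt N4370 (iv F31430)) (tt N3493 F25339) (tt N4245 (iv F30590)) (tt N4257 F132585) (tt N2731 (iv D5269)) (tt N4371 D6622))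
theorem Q3495 : ∀ i, i < 3495 → P i := stepQ 3494 Q3494 (allL N3494 (tt N3494 F25340) (tt N4103 (iv F29728)) (tt N2771 F132558) (tt N4372 D6623) (tt N2732 (iv D5270)) (tt N3494 F25342) (tt N2765 F132559) (tt N3494 F25343) (tt N3494 F25344) (tt N3494 F25345))
theorem Q3496 : ∀ i, i < 3496 → P i := stepQ 3495 Q3495 (allL N3495 (tt N3495 F25346) (tt N4104 (iv F29734)) (tt N2770 F132549) (tt N4364 (iv F31362)) (tt N2765 F132550) (tt N2734 F25348) (tt N2732 (iv D5271)) (tt N4373 D6625) (tt N3495 F25349) (tt N3495 F25350))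
theorem Q3497 : ∀ i, i < 3497 → P i := stepQ 3496 Q3496 (allL N3496 (tt N3496 F25361) (tt N4106 (iv F29749)) (tt N2773 (iv F131996)) (tt N4365 (iv F31376)) (tt N2767 (iv F131984)) (tt N4373 (iv F31456)) (tt N2737 F25363) (tt N2734 (iv D5274)) (tt N2738 F25364) (tt N3496 F25365))
theorem Q3498 : ∀ i, i < 3498 → P i := stepQ 3497 Q3497 (allL N3497 (tt N3497 F25371) (tt N4108 (iv F29758)) (tt N4365 F132560) (tt N2736 F25372) (tt N4367 (iv F31386)) (tt N4374 D6632) (tt N2735 (iv D5276)) (tt N4352 F132561) (tt N2739 F25373) (tt N3497 F25374))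
theorem Q3499 : ∀ i, i < 3499 → P i := stepQ 3498 Q3498 (allL N3498 (tt N3498 F25375) (tt N4109 (iv F29762)) (tt N2775 F25376) (tt N4374 (iv F31490)) (tt N3498 F25377) (tt N2736 (iv D5277)) (tt N3498 F25378) (tt N4375 D6634) (tt N3498 F25379) (tt N3498 F25380))
theorem Q3500 : ∀ i, i < 3500 → P i := stepQ 3499 Q3499 (allL N3499 (tt N3499 F25381) (tt N4110 (iv F29768)) (tt N2774 (iv F131994)) (tt N4352 (iv F132133)) (tt N2737 F25383) (tt N4375 (iv F31501)) (tt N2767 (iv F131985)) (tt N2736 (iv D5278)) (tt N2740 F25384) (tt N3499 F25385))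
theorem Q3501 : ∀ i, i < 3501 → P i := stepQ 3500 Q3500 (allL N3500 (tt N2744 F25440) (tt N3500 F25441) (tt N4113 (iv F29827)) (tt N2776 F25442) (tt N4376 D6650) (tt N2741 (iv D5291)) (tt N3805 (iv F132150)) (tt N2742 F25443) (tt N3500 F25444) (tt N4340 (iv F31165)))
theorem Q3502 : ∀ i, i < 3502 → P i := stepQ 3501 Q3501 (allL N3501 (tt N2745 F25445) (tt N3501 F25446) (tt N4114 (iv F29832)) (tt N3794 (iv F132153)) (tt N2742 (iv D5292)) (tt N4269 (iv F30736)) (tt N3793 (iv F132154)) (tt N4376 (iv F31574)) (tt N3501 F25447) (tt N4341 (iv F31168)))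
theorem Q3503 : ∀ i, i < 3503 → P i := stepQ 3502 Q3502 (allL N3502 (tt N4376 (iv F31572)) (tt N2746 F25467) (tt N4115 (iv F29853)) (tt N4129 (iv F131869)) (tt N2744 (iv D5297)) (tt N4278 (iv F30776)) (tt N4132 (iv F131872)) (tt N2745 F25468) (tt N3502 F25469) (tt N4345 (iv F31208)))
theorem Q3504 : ∀ i, i < 3504 → P i := stepQ 3503 Q3503 (allL N3503 (tt N3503 F25497) (tt N4129 (iv F131868)) (tt N2752 (iv F131740)) (tt N2746 (iv D5306)) (tt N2750 F131733) (tt N4291 (iv F30842)) (tt N2751 F131724) (tt N2748 F25499) (tt N3503 F25500) (tt N4355 (iv F31290)))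
theorem Q3505 : ∀ i, i < 3505 → P i := stepQ 3504 Q3504 (allL N3504 (tt N3504 F25501) (tt N4132 (iv F131870)) (tt N2748 F131726) (tt N2751 F131727) (tt N2747 F25503) (tt N4294 (iv F132066)) (tt N2746 (iv D5307)) (tt N2752 F131725) (tt N3504 F25504) (tt N4356 (iv F31294)))
theorem Q3506 : ∀ i, i < 3506 → P i := stepQ 3505 Q3505 (allL N3505 (tt N3505 F25561) (tt N4131 (iv F29941)) (tt N4291 (iv F132057)) (tt N2753 F25562) (tt N3505 F25563) (tt N2752 (iv D5323)) (tt N4315 (iv F30948)) (tt N4294 (iv F132056)) (tt N4377 D6698) (tt N4369 (iv F31420)))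
theorem Q3507 : ∀ i, i < 3507 → P i := stepQ 3506 Q3506 (allL N3506 (tt N3506 F25571) (tt N4134 (iv F29951)) (tt N4303 (iv F132077)) (tt N4377 (iv F31746)) (tt N2754 F25572) (tt N3506 F25573) (tt N4318 (iv F30957)) (tt N4309 (iv F132067)) (tt N2753 (iv D5326)) (tt N4378 D6701))
theorem Q3508 : ∀ i, i < 3508 → P i := stepQ 3507 Q3507 (allL N3507 (tt N3507 F25581) (tt N4137 (iv F29961)) (tt N4322 (iv F132091)) (tt N3507 F25582) (tt N4378 (iv F31756)) (tt N2755 F25583) (tt N4321 (iv F30969)) (tt N4326 (iv F132071)) (tt N4371 (iv F31442)) (tt N2754 (iv D5329)))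
theorem Q3509 : ∀ i, i < 3509 → P i := stepQ 3508 Q3508 (allL N3508 (tt N2761 F25749) (tt N3508 F25750) (tt N3508 F25751) (tt N4339 (iv F31158)) (tt N3764 (iv F133058)) (tt N2756 (iv D5366)) (tt N3763 (iv F133059)) (tt N3818 (iv F28582)) (tt N2758 F25752) (tt N3508 F25753))
theorem Q3510 : ∀ i, i < 3510 → P i := stepQ 3509 Q3509 (allL N3509 (tt N2762 F25754) (tt N3509 F25755) (tt N3509 F25756) (tt N4340 (iv F31163)) (tt N3769 F132537) (tt N2757 (iv D5367)) (tt N3772 F132538) (tt N2758 F25757) (tt N3818 (iv F28583)) (tt N2776 F25758))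
theorem Q3511 : ∀ i, i < 3511 → P i := stepQ 3510 Q3510 (allL N3510 (tt N3820 (iv F28590)) (tt N2765 F25787) (tt N3510 F25788) (tt N3549 (iv F27036)) (tt N4104 (iv F133060)) (tt N2759 (iv D5373)) (tt N4103 (iv F133062)) (tt N3535 (iv F26946)) (tt N3510 F25789) (tt N3510 F25790))
theorem Q3512 : ∀ i, i < 3512 → P i := stepQ 3511 Q3511 (allL N3511 (tt N3818 (iv F28579)) (tt N2767 F25791) (tt N3511 F25792) (tt N4343 (iv F31194)) (tt N4106 F132541) (tt N2760 (iv D5374)) (tt N4110 F132542) (tt N2761 F25793) (tt N2762 F25794) (tt N3511 F25795))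
theorem Q3513 : ∀ i, i < 3513 → P i := stepQ 3512 Q3512 (allL N3512 (tt N3512 F25845) (tt N3549 (iv F27034)) (tt N3512 F25846) (tt N2765 F25847) (tt N4379 D6777) (tt N2763 (iv D5386)) (tt N4372 (iv F133065)) (tt N3520 (iv F26846)) (tt N3512 F25848) (tt N3512 F25849))
theorem Q3514 : ∀ i, i < 3514 → P i := stepQ 3513 Q3513 (allL N3513 (tt N3513 F25850) (tt N3535 (iv F26942)) (tt N2769 F25851) (tt N3520 (iv F26844)) (tt N4373 F132547) (tt N2764 (iv D5387)) (tt N3513 F25852) (tt N2765 F25853) (tt N3513 F25854) (tt N3513 F25855))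
theorem Q3515 : ∀ i, i < 3515 → P i := stepQ 3514 Q3514 (allL N3514 (tt N3514 F25867) (tt N3534 (iv F26935)) (tt N2772 F25868) (tt N4350 (iv F31258)) (tt N3514 F25869) (tt N2766 (iv D5390)) (tt N4375 F132721) (tt N3514 F25870) (tt N3514 F25871) (tt N3514 F25872))
theorem Q3516 : ∀ i, i < 3516 → P i := stepQ 3515 Q3515 (allL N3515 (tt N3515 F25943) (tt N3515 F25944) (tt N4373 F132554) (tt N2775 F132551) (tt N2769 (iv D5407)) (tt N2773 F25945) (tt N3515 F25946) (tt N2770 F25947) (tt N3515 F25948) (tt N3515 F25949))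
theorem Q3517 : ∀ i, i < 3517 → P i := stepQ 3516 Q3516 (allL N3516 (tt N3516 F25950) (tt N3516 F25951) (tt N4375 F132552) (tt N2770 (iv D5408)) (tt N3516 F25952) (tt N2774 F132555) (tt N2772 (iv F133066)) (tt N2775 F132553) (tt N3516 F25954) (tt N3516 F25955))
theorem Q3518 : ∀ i, i < 3518 → P i := stepQ 3517 Q3517 (allL N3517 (tt N3517 F26818) (tt N2800 F26819) (tt N3479 F26820) (tt N2780 F26821) (tt N3471 F26822) (tt N4380 D7042) (tt N3469 F26823) (tt N3517 F26824) (tt N2778 (iv D5589)) (tt N3517 F26825))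
theorem Q3519 : ∀ i, i < 3519 → P i := stepQ 3518 Q3518 (allL N3518 (tt N3518 F26826) (tt N2804 F26827) (tt N3518 F26828) (tt N3469 F26829) (tt N2781 F26830) (tt N4381 D7043) (tt N2780 F26831) (tt N3468 F26832) (tt N2779 (iv D5590)) (tt N3518 F26833))
theorem Q3520 : ∀ i, i < 3520 → P i := stepQ 3519 Q3519 (allL N3519 (tt N3519 F26834) (tt N2805 F26835) (tt N3519 F26836) (tt N4380 (iv F33392)) (tt N3519 F26837) (tt N2780 (iv D5591)) (tt N4382 D7044) (tt N3519 F26838) (tt N2785 F26839) (tt N3519 F26840))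
theorem Q3521 : ∀ i, i < 3521 → P i := stepQ 3520 Q3520 (allL N3520 (tt N3520 F26841) (tt N2807 F26842) (tt N3520 F26843) (tt N3513 F26844) (tt N4383 D7045) (tt N2781 (iv D5592)) (tt N3520 F26845) (tt N3512 F26846) (tt N3520 F26847) (tt N3520 F26848))
theorem Q3522 : ∀ i, i < 3522 → P i := stepQ 3521 Q3521 (allL N3521 (tt N2782 (iv D5593)) (tt N3521 F26849) (tt N2808 F26850) (tt N3521 F26851) (tt N3521 F26852) (tt N2956 F26853) (tt N3391 F26854) (tt N3521 F26855) (tt N2786 F26856) (tt N4384 D7046))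
theorem Q3523 : ∀ i, i < 3523 → P i := stepQ 3522 Q3522 (allL N3522 (tt N4384 (iv F33416)) (tt N2783 F26857) (tt N2810 F26858) (tt N3522 F26859) (tt N3522 F26860) (tt N3238 F26861) (tt N3399 F26862) (tt N3522 F26863) (tt N4385 D7047) (tt N2782 (iv D5594)))
theorem Q3524 : ∀ i, i < 3524 → P i := stepQ 3523 Q3523 (allL N3523 (tt N3523 F26864) (tt N4385 (iv F33424)) (tt N2784 F26865) (tt N3523 F26866) (tt N3523 F26867) (tt N4386 D7048) (tt N3408 F26868) (tt N3523 F26869) (tt N2783 (iv D5595)) (tt N2788 F26870))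
theorem Q3525 : ∀ i, i < 3525 → P i := stepQ 3524 Q3524 (allL N3524 (tt N3524 F26871) (tt N2817 F26872) (tt N4386 (iv F33432)) (tt N2785 F26873) (tt N4387 D7049) (tt N2784 (iv D5596)) (tt N4388 D7050) (tt N3524 F26874) (tt N4380 (iv F33394)) (tt N2789 F26875))
theorem Q3526 : ∀ i, i < 3526 → P i := stepQ 3525 Q3525 (allL N3525 (tt N3525 F26876) (tt N2820 F26877) (tt N3525 F26878) (tt N4388 (iv F33445)) (tt N3525 F26879) (tt N3439 F26880) (tt N2785 (iv D5597)) (tt N4389 D7051) (tt N4382 (iv F33407)) (tt N2790 F26881))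
theorem Q3527 : ∀ i, i < 3527 → P i := stepQ 3526 Q3526 (allL N3526 (tt N2787 F26882) (tt N3526 F26883) (tt N2823 F26884) (tt N3526 F26885) (tt N3526 F26886) (tt N3526 F26887) (tt N3392 F26888) (tt N3526 F26889) (tt N4390 D7052) (tt N2786 (iv D5598)))
theorem Q3528 : ∀ i, i < 3528 → P i := stepQ 3527 Q3527 (allL N3527 (tt N4390 (iv F33455)) (tt N2788 F26890) (tt N2825 F26891) (tt N3527 F26892) (tt N3527 F26893) (tt N4391 D7053) (tt N3400 F26894) (tt N3527 F26895) (tt N2787 (iv D5599)) (tt N4385 (iv F33430)))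
theorem Q3529 : ∀ i, i < 3529 → P i := stepQ 3528 Q3528 (allL N3528 (tt N3528 F26896) (tt N4391 (iv F33462)) (tt N2789 F26897) (tt N3528 F26898) (tt N4392 D7054) (tt N2788 (iv D5600)) (tt N4393 D7055) (tt N3528 F26899) (tt N3528 F26900) (tt N4386 (iv F33436)))
theorem Q3530 : ∀ i, i < 3530 → P i := stepQ 3529 Q3529 (allL N3529 (tt N3529 F26901) (tt N2829 F26902) (tt N4392 (iv F33468)) (tt N3529 F26903) (tt N2789 (iv D5601)) (tt N3529 F26904) (tt N4394 D7056) (tt N3529 F26905) (tt N3529 F26906) (tt N4387 (iv F33442)))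
theorem Q3531 : ∀ i, i < 3531 → P i := stepQ 3530 Q3530 (allL N3530 (tt N3530 F26907) (tt N2830 F26908) (tt N4393 (iv F33473)) (tt N2790 F26909) (tt N4394 (iv F33480)) (tt N3423 F26910) (tt N2789 (iv D5602)) (tt N4395 D7057) (tt N3530 F26911) (tt N4388 (iv F33447)))
theorem Q3532 : ∀ i, i < 3532 → P i := stepQ 3531 Q3531 (allL N3531 (tt N3531 F26912) (tt N2833 F26913) (tt N3531 F26914) (tt N4395 (iv F33484)) (tt N3531 F26915) (tt N3442 F26916) (tt N3531 F26917) (tt N2790 (iv D5603)) (tt N3531 F26918) (tt N4389 (iv F33454)))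
theorem Q3533 : ∀ i, i < 3533 → P i := stepQ 3532 Q3532 (allL N3532 (tt N3017 F26919) (tt N3229 F26920) (tt N2792 F26921) (tt N3532 F26922) (tt N2797 F26923) (tt N3532 F26924) (tt N3220 F26925) (tt N3532 F26926) (tt N4396 D7058) (tt N2791 (iv D5604)))
theorem Q3534 : ∀ i, i < 3534 → P i := stepQ 3533 Q3533 (allL N3533 (tt N3019 F26927) (tt N3471 F26928) (tt N4396 (iv F33490)) (tt N2793 F26929) (tt N2800 F26930) (tt N4397 D7059) (tt N3464 F26931) (tt N3533 F26932) (tt N2792 (iv D5605)) (tt N3533 F26933))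
theorem Q3535 : ∀ i, i < 3535 → P i := stepQ 3534 Q3534 (allL N3534 (tt N3021 F26934) (tt N3514 F26935) (tt N3534 F26936) (tt N4397 (iv F33498)) (tt N3534 F26937) (tt N2793 (iv D5606)) (tt N4398 D7060) (tt N3534 F26938) (tt N3534 F26939) (tt N3534 F26940))
theorem Q3536 : ∀ i, i < 3536 → P i := stepQ 3535 Q3535 (allL N3535 (tt N3023 F26941) (tt N3513 F26942) (tt N3535 F26943) (tt N2807 F26944) (tt N4399 D7061) (tt N2794 (iv D5607)) (tt N3535 F26945) (tt N3510 F26946) (tt N3535 F26947) (tt N3535 F26948))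
theorem Q3537 : ∀ i, i < 3537 → P i := stepQ 3536 Q3536 (allL N3536 (tt N2795 (iv D5608)) (tt N3024 F26949) (tt N2956 F26950) (tt N2836 F26951) (tt N2949 F26952) (tt N2808 F26953) (tt N2947 F26954) (tt N3536 F26955) (tt N3536 F26956) (tt N4400 D7062))
theorem Q3538 : ∀ i, i < 3538 → P i := stepQ 3537 Q3537 (allL N3537 (tt N4400 (iv F33517)) (tt N2797 F26957) (tt N3238 F26958) (tt N2838 F26959) (tt N3229 F26960) (tt N2810 F26961) (tt N3227 F26962) (tt N3537 F26963) (tt N4401 D7063) (tt N2795 (iv D5609)))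
theorem Q3539 : ∀ i, i < 3539 → P i := stepQ 3538 Q3538 (allL N3538 (tt N3027 F26964) (tt N3128 F26965) (tt N2798 F26966) (tt N2839 F26967) (tt N3121 F26968) (tt N2796 (iv D5610)) (tt N2811 F26969) (tt N3120 F26970) (tt N3131 (iv F26971)) (tt N4402 D7064))
theorem Q3540 : ∀ i, i < 3540 → P i := stepQ 3539 Q3539 (allL N3539 (tt N3029 F26972) (tt N3227 F26973) (tt N2799 F26974) (tt N2841 F26975) (tt N3220 F26976) (tt N4402 (iv F33537)) (tt N2797 F26977) (tt N3219 F26978) (tt N4403 D7065) (tt N2796 (iv D5611)))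
theorem Q3541 : ∀ i, i < 3541 → P i := stepQ 3540 Q3540 (allL N3540 (tt N3030 F26979) (tt N4401 (iv F33525)) (tt N2800 F26980) (tt N2842 F26981) (tt N4396 (iv F33492)) (tt N4404 D7066) (tt N4403 (iv F33545)) (tt N3540 F26982) (tt N2797 (iv D5612)) (tt N3540 F26983))
theorem Q3542 : ∀ i, i < 3542 → P i := stepQ 3541 Q3541 (allL N3541 (tt N3033 F26984) (tt N3346 F26985) (tt N4402 (iv F33534)) (tt N2802 F26986) (tt N3339 F26987) (tt N2799 F26988) (tt N2815 F26989) (tt N3338 F26990) (tt N4405 D7067) (tt N2798 (iv D5613)))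
theorem Q3543 : ∀ i, i < 3543 → P i := stepQ 3542 Q3542 (allL N3542 (tt N3035 F26991) (tt N3469 F26992) (tt N4403 (iv F33542)) (tt N2804 F26993) (tt N3464 F26994) (tt N4406 D7068) (tt N2800 F26995) (tt N3463 F26996) (tt N2799 (iv D5614)) (tt N3542 F26997))
theorem Q3544 : ∀ i, i < 3544 → P i := stepQ 3543 Q3543 (allL N3543 (tt N3036 F26998) (tt N4380 (iv F33390)) (tt N4404 (iv F33549)) (tt N2805 F26999) (tt N4407 D7069) (tt N2800 (iv D5615)) (tt N4408 D7070) (tt N3543 F27000) (tt N2817 F27001) (tt N3543 F27002))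
theorem Q3545 : ∀ i, i < 3545 → P i := stepQ 3544 Q3544 (allL N3544 (tt N3037 F27003) (tt N3318 F27004) (tt N2852 F27005) (tt N3338 F27006) (tt N3544 F27007) (tt N2803 F27008) (tt N3105 F27009) (tt N2802 F27010) (tt N4409 D7071) (tt N2801 (iv D5616)))
theorem Q3546 : ∀ i, i < 3546 → P i := stepQ 3545 Q3545 (allL N3545 (tt N3038 F27011) (tt N3375 F27012) (tt N2854 F27013) (tt N4405 (iv F33556)) (tt N3545 F27014) (tt N4410 D7072) (tt N2818 F27015) (tt N4409 (iv F33581)) (tt N2802 (iv D5617)) (tt N3152 F27016))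
theorem Q3547 : ∀ i, i < 3547 → P i := stepQ 3546 Q3546 (allL N3546 (tt N3039 F27017) (tt N3468 F27018) (tt N2855 F27019) (tt N3463 F27020) (tt N2806 F27021) (tt N4411 D7073) (tt N3546 F27022) (tt N2804 F27023) (tt N2803 (iv D5618)) (tt N3546 F27024))
theorem Q3548 : ∀ i, i < 3548 → P i := stepQ 3547 Q3547 (allL N3547 (tt N3040 F27025) (tt N4381 (iv F33397)) (tt N2856 F27026) (tt N4406 (iv F33563)) (tt N4412 D7074) (tt N2804 (iv D5619)) (tt N4413 D7075) (tt N4411 (iv F33592)) (tt N4410 (iv F33586)) (tt N3547 F27027))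
theorem Q3549 : ∀ i, i < 3549 → P i := stepQ 3548 Q3548 (allL N3548 (tt N3041 F27028) (tt N4382 (iv F33404)) (tt N2857 F27029) (tt N4408 (iv F33572)) (tt N3548 F27030) (tt N4413 (iv F33600)) (tt N2805 (iv D5620)) (tt N4414 D7076) (tt N2820 F27031) (tt N3548 F27032))
theorem Q3550 : ∀ i, i < 3550 → P i := stepQ 3549 Q3549 (allL N3549 (tt N3042 F27033) (tt N3512 F27034) (tt N2858 F27035) (tt N3510 F27036) (tt N4415 D7077) (tt N2806 (iv D5621)) (tt N4416 D7078) (tt N2807 F27037) (tt N3549 F27038) (tt N3549 F27039))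
theorem Q3551 : ∀ i, i < 3551 → P i := stepQ 3550 Q3550 (allL N3550 (tt N3043 F27040) (tt N4383 (iv F33410)) (tt N2859 F27041) (tt N4417 D7079) (tt N2807 (iv D5622)) (tt N4412 (iv F33596)) (tt N3550 F27042) (tt N4415 (iv F33611)) (tt N3550 F27043) (tt N3550 F27044))
theorem Q3552 : ∀ i, i < 3552 → P i := stepQ 3551 Q3551 (allL N3551 (tt N2809 F27045) (tt N3044 F27046) (tt N3391 F27047) (tt N2860 F27048) (tt N3551 F27049) (tt N4418 D7080) (tt N2808 (iv D5623)) (tt N3165 (iv F27051)) (tt N2822 F27050) (tt N4419 D7081))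
theorem Q3553 : ∀ i, i < 3553 → P i := stepQ 3552 Q3552 (allL N3552 (tt N2810 F27052) (tt N3045 F27053) (tt N4384 (iv F33418)) (tt N2861 F27054) (tt N3552 F27055) (tt N4400 (iv F33522)) (tt N4419 (iv F33639)) (tt N3552 F27056) (tt N4420 D7082) (tt N2808 (iv D5624)))
theorem Q3554 : ∀ i, i < 3554 → P i := stepQ 3553 Q3553 (allL N3553 (tt N4418 (iv F33626)) (tt N2811 F27057) (tt N3139 F27058) (tt N2862 F27059) (tt N3131 (iv F27063)) (tt N2809 (iv D5625)) (tt N3128 F27060) (tt N3122 F27061) (tt N3121 F27062) (tt N4421 D7083))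
theorem Q3555 : ∀ i, i < 3555 → P i := stepQ 3554 Q3554 (allL N3554 (tt N4419 (iv F33634)) (tt N2812 F27064) (tt N3399 F27065) (tt N2864 F27066) (tt N3554 F27067) (tt N4421 (iv F33651)) (tt N2810 F27068) (tt N3170 F27069) (tt N4422 D7084) (tt N2809 (iv D5626)))
theorem Q3556 : ∀ i, i < 3556 → P i := stepQ 3555 Q3555 (allL N3555 (tt N4420 (iv F33641)) (tt N2813 F27070) (tt N4385 (iv F33425)) (tt N2865 F27071) (tt N3555 F27072) (tt N4423 D7085) (tt N4422 (iv F33658)) (tt N3555 F27073) (tt N2810 (iv D5627)) (tt N2825 F27074))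
theorem Q3557 : ∀ i, i < 3557 → P i := stepQ 3556 Q3556 (allL N3556 (tt N3049 F27075) (tt N3131 F27076) (tt N2814 F27077) (tt N4424 D7086) (tt N2811 (iv D5628)) (tt N3556 F27078) (tt N3121 F27079) (tt N3129 F27080) (tt N3128 F27081) (tt N4425 D7087))
theorem Q3558 : ∀ i, i < 3558 → P i := stepQ 3557 Q3557 (allL N3557 (tt N3050 F27082) (tt N4421 (iv F33647)) (tt N2815 F27083) (tt N2869 F27084) (tt N4425 (iv F33676)) (tt N2812 F27085) (tt N4402 (iv F33538)) (tt N3133 F27086) (tt N4426 D7088) (tt N2811 (iv D5629)))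
theorem Q3559 : ∀ i, i < 3559 → P i := stepQ 3558 Q3558 (allL N3558 (tt N3051 F27087) (tt N4422 (iv F33654)) (tt N2816 F27088) (tt N2871 F27089) (tt N3558 F27090) (tt N4427 D7089) (tt N2813 F27091) (tt N3176 F27092) (tt N2812 (iv D5630)) (tt N2826 F27093))
theorem Q3560 : ∀ i, i < 3560 → P i := stepQ 3559 Q3559 (allL N3559 (tt N3052 F27094) (tt N4423 (iv F33661)) (tt N2817 F27095) (tt N2872 F27096) (tt N4428 D7090) (tt N2813 (iv D5631)) (tt N4429 D7091) (tt N3559 F27097) (tt N4404 (iv F33552)) (tt N2827 F27098))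
theorem Q3561 : ∀ i, i < 3561 → P i := stepQ 3560 Q3560 (allL N3560 (tt N3053 F27099) (tt N3348 F27100) (tt N4425 (iv F33675)) (tt N3560 F27101) (tt N2815 F27102) (tt N3560 F27103) (tt N3339 F27104) (tt N3141 F27105) (tt N4430 D7092) (tt N2814 (iv D5632)))
theorem Q3562 : ∀ i, i < 3562 → P i := stepQ 3561 Q3561 (allL N3561 (tt N3054 F27106) (tt N3363 F27107) (tt N4426 (iv F33681)) (tt N2818 F27108) (tt N4430 (iv F33702)) (tt N4431 D7093) (tt N4405 (iv F33558)) (tt N3145 F27109) (tt N2815 (iv D5633)) (tt N3144 F27110))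
theorem Q3563 : ∀ i, i < 3563 → P i := stepQ 3562 Q3562 (allL N3562 (tt N3055 F27111) (tt N3421 F27112) (tt N4427 (iv F33686)) (tt N2819 F27113) (tt N4432 D7094) (tt N2816 (iv D5634)) (tt N4433 D7095) (tt N3184 F27114) (tt N4431 (iv F33710)) (tt N2828 F27115))
theorem Q3564 : ∀ i, i < 3564 → P i := stepQ 3563 Q3563 (allL N3563 (tt N3056 F27116) (tt N4387 (iv F33438)) (tt N4428 (iv F33691)) (tt N3563 F27117) (tt N2817 (iv D5635)) (tt N3563 F27118) (tt N4434 D7096) (tt N3563 F27119) (tt N4407 (iv F33569)) (tt N2829 F27120))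
theorem Q3565 : ∀ i, i < 3565 → P i := stepQ 3564 Q3564 (allL N3564 (tt N3057 F27121) (tt N4388 (iv F33444)) (tt N4429 (iv F33696)) (tt N2820 F27122) (tt N4434 (iv F33724)) (tt N4433 (iv F33720)) (tt N2817 (iv D5636)) (tt N4435 D7097) (tt N4408 (iv F33573)) (tt N2830 F27123))
theorem Q3566 : ∀ i, i < 3566 → P i := stepQ 3565 Q3565 (allL N3565 (tt N3058 F27124) (tt N3377 F27125) (tt N2887 F27126) (tt N4431 (iv F33708)) (tt N4436 D7098) (tt N2818 (iv D5637)) (tt N4437 D7099) (tt N3154 F27127) (tt N2819 F27128) (tt N3153 F27129))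
theorem Q3567 : ∀ i, i < 3567 → P i := stepQ 3566 Q3566 (allL N3566 (tt N3059 F27130) (tt N3438 F27131) (tt N2889 F27132) (tt N4438 D7100) (tt N2819 (iv D5638)) (tt N2821 F27133) (tt N4439 D7101) (tt N3194 F27134) (tt N4436 (iv F33735)) (tt N2831 F27135))
theorem Q3568 : ∀ i, i < 3568 → P i := stepQ 3567 Q3567 (allL N3567 (tt N3060 F27136) (tt N3439 F27137) (tt N2890 F27138) (tt N4433 (iv F33719)) (tt N4439 (iv F33750)) (tt N2820 F27139) (tt N2819 (iv D5639)) (tt N4440 D7102) (tt N4437 (iv F33740)) (tt N2832 F27140))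
theorem Q3569 : ∀ i, i < 3569 → P i := stepQ 3568 Q3568 (allL N3568 (tt N3061 F27141) (tt N4389 (iv F33449)) (tt N2891 F27142) (tt N4435 (iv F33727)) (tt N3568 F27143) (tt N4440 (iv F33756)) (tt N3568 F27144) (tt N2820 (iv D5640)) (tt N4414 (iv F33606)) (tt N2833 F27145))
theorem Q3570 : ∀ i, i < 3570 → P i := stepQ 3569 Q3569 (allL N3569 (tt N3062 F27146) (tt N3453 F27147) (tt N4441 D7103) (tt N2821 (iv D5641)) (tt N3569 F27148) (tt N4438 (iv F33744)) (tt N3569 F27149) (tt N3208 F27150) (tt N3569 F27151) (tt N2834 F27152))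
theorem Q3571 : ∀ i, i < 3571 → P i := stepQ 3570 Q3570 (allL N3570 (tt N2824 F27153) (tt N3063 F27154) (tt N3392 F27155) (tt N2897 F27156) (tt N3570 F27157) (tt N3167 F27158) (tt N2823 F27159) (tt N3166 F27160) (tt N4442 D7104) (tt N2822 (iv D5642)))
theorem Q3572 : ∀ i, i < 3572 → P i := stepQ 3571 Q3571 (allL N3571 (tt N2825 F27161) (tt N3064 F27162) (tt N4390 (iv F33457)) (tt N2898 F27163) (tt N3571 F27164) (tt N4443 D7105) (tt N4442 (iv F33771)) (tt N3571 F27165) (tt N2823 (iv D5643)) (tt N4420 (iv F33646)))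
theorem Q3573 : ∀ i, i < 3573 → P i := stepQ 3572 Q3572 (allL N3572 (tt N4442 (iv F33766)) (tt N2826 F27166) (tt N3400 F27167) (tt N2902 F27168) (tt N3572 F27169) (tt N4444 D7106) (tt N2825 F27170) (tt N3171 F27171) (tt N2824 (iv D5644)) (tt N4422 (iv F33660)))
theorem Q3574 : ∀ i, i < 3574 → P i := stepQ 3573 Q3573 (allL N3573 (tt N4443 (iv F33773)) (tt N2827 F27172) (tt N4391 (iv F33463)) (tt N2903 F27173) (tt N4445 D7107) (tt N2825 (iv D5645)) (tt N4446 D7108) (tt N3573 F27174) (tt N3573 F27175) (tt N4423 (iv F33664)))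
theorem Q3575 : ∀ i, i < 3575 → P i := stepQ 3574 Q3574 (allL N3574 (tt N3067 F27176) (tt N4444 (iv F33778)) (tt N2828 F27177) (tt N2907 F27178) (tt N4447 D7109) (tt N2826 (iv D5646)) (tt N4448 D7110) (tt N3177 F27179) (tt N3178 F27180) (tt N4427 (iv F33689)))
theorem Q3576 : ∀ i, i < 3576 → P i := stepQ 3575 Q3575 (allL N3575 (tt N3068 F27181) (tt N4445 (iv F33783)) (tt N2829 F27182) (tt N4449 D7111) (tt N2827 (iv D5647)) (tt N3575 F27183) (tt N4450 D7112) (tt N3575 F27184) (tt N3575 F27185) (tt N4428 (iv F33694)))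
theorem Q3577 : ∀ i, i < 3577 → P i := stepQ 3576 Q3576 (allL N3576 (tt N3069 F27186) (tt N4446 (iv F33787)) (tt N2830 F27187) (tt N2909 F27188) (tt N4450 (iv F33808)) (tt N4448 (iv F33798)) (tt N2827 (iv D5648)) (tt N4451 D7113) (tt N3576 F27189) (tt N4429 (iv F33698)))
theorem Q3578 : ∀ i, i < 3578 → P i := stepQ 3577 Q3577 (allL N3577 (tt N3070 F27190) (tt N3422 F27191) (tt N4447 (iv F33791)) (tt N4452 D7114) (tt N2828 (iv D5649)) (tt N3577 F27192) (tt N4453 D7115) (tt N3185 F27193) (tt N3187 F27194) (tt N4432 (iv F33716)))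
theorem Q3579 : ∀ i, i < 3579 → P i := stepQ 3578 Q3578 (allL N3578 (tt N3071 F27195) (tt N3423 F27196) (tt N4448 (iv F33796)) (tt N2832 F27197) (tt N4453 (iv F33823)) (tt N2830 F27198) (tt N2828 (iv D5650)) (tt N4454 D7116) (tt N3188 F27199) (tt N4433 (iv F33721)))
theorem Q3580 : ∀ i, i < 3580 → P i := stepQ 3579 Q3579 (allL N3579 (tt N3072 F27200) (tt N4394 (iv F33478)) (tt N4450 (iv F33807)) (tt N3579 F27201) (tt N2830 F27202) (tt N4455 D7117) (tt N2829 (iv D5651)) (tt N4456 D7118) (tt N3579 F27203) (tt N4434 (iv F33725)))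
theorem Q3581 : ∀ i, i < 3581 → P i := stepQ 3580 Q3580 (allL N3580 (tt N3073 F27204) (tt N4395 (iv F33483)) (tt N4451 (iv F33811)) (tt N2833 F27205) (tt N4456 (iv F33836)) (tt N4454 (iv F33828)) (tt N3580 F27206) (tt N2830 (iv D5652)) (tt N3580 F27207) (tt N4435 (iv F33729)))
theorem Q3582 : ∀ i, i < 3582 → P i := stepQ 3581 Q3581 (allL N3581 (tt N3074 F27208) (tt N3440 F27209) (tt N4457 D7119) (tt N2831 (iv D5653)) (tt N4452 (iv F33817)) (tt N2834 F27210) (tt N4458 D7120) (tt N3196 F27211) (tt N3199 F27212) (tt N4438 (iv F33746)))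
theorem Q3583 : ∀ i, i < 3583 → P i := stepQ 3582 Q3582 (allL N3582 (tt N3075 F27213) (tt N3441 F27214) (tt N2923 F27215) (tt N4458 (iv F33846)) (tt N2832 F27216) (tt N3582 F27217) (tt N2831 (iv D5654)) (tt N4459 D7121) (tt N3200 F27218) (tt N4439 (iv F33752)))
theorem Q3584 : ∀ i, i < 3584 → P i := stepQ 3583 Q3583 (allL N3583 (tt N3076 F27219) (tt N3442 F27220) (tt N2924 F27221) (tt N4454 (iv F33827)) (tt N4459 (iv F33852)) (tt N2833 F27222) (tt N3198 F27223) (tt N2832 (iv D5655)) (tt N3201 F27224) (tt N4440 (iv F33758)))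
theorem Q3585 : ∀ i, i < 3585 → P i := stepQ 3584 Q3584 (allL N3584 (tt N3077 F27225) (tt N3288 F131466) (tt N2834 (iv D5656)) (tt N2927 F27226) (tt N3584 F27227) (tt N4457 (iv F33841)) (tt N3584 F27228) (tt N3210 F27229) (tt N2835 F27230) (tt N4441 (iv F33765)))
theorem Q3586 : ∀ i, i < 3586 → P i := stepQ 3585 Q3585 (allL N3585 (tt N2837 F27238) (tt N3079 F27239) (tt N3585 F27240) (tt N2947 F27241) (tt N3585 F27242) (tt N4460 D7124) (tt N2836 (iv D5658)) (tt N2946 F27244) (tt N3585 F27243) (tt N4461 D7125))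
theorem Q3587 : ∀ i, i < 3587 → P i := stepQ 3586 Q3586 (allL N3586 (tt N2838 F27245) (tt N3080 F27246) (tt N3586 F27247) (tt N4400 (iv F33520)) (tt N3586 F27248) (tt N2861 F27249) (tt N4461 (iv F33883)) (tt N3586 F27250) (tt N4462 D7126) (tt N2836 (iv D5659)))
theorem Q3588 : ∀ i, i < 3588 → P i := stepQ 3587 Q3587 (allL N3587 (tt N4460 (iv F33870)) (tt N2839 F27251) (tt N3587 F27252) (tt N3128 F27253) (tt N4463 D7127) (tt N2837 (iv D5660)) (tt N2862 F27254) (tt N3127 F27255) (tt N4424 (iv F33672)) (tt N4464 D7128))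
theorem Q3589 : ∀ i, i < 3589 → P i := stepQ 3588 Q3588 (allL N3588 (tt N4461 (iv F33878)) (tt N2841 F27256) (tt N3588 F27257) (tt N3227 F27258) (tt N3588 F27259) (tt N4464 (iv F33902)) (tt N2838 F27260) (tt N3226 F27261) (tt N4465 D7129) (tt N2837 (iv D5661)))
theorem Q3590 : ∀ i, i < 3590 → P i := stepQ 3589 Q3589 (allL N3589 (tt N4462 (iv F33885)) (tt N2842 F27262) (tt N3589 F27263) (tt N4401 (iv F33527)) (tt N3589 F27264) (tt N4466 D7130) (tt N4465 (iv F33909)) (tt N3589 F27265) (tt N2838 (iv D5662)) (tt N3589 F27266))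
theorem Q3591 : ∀ i, i < 3591 → P i := stepQ 3590 Q3590 (allL N3590 (tt N3085 F27267) (tt N4463 (iv F33892)) (tt N2843 F27268) (tt N4467 D7131) (tt N2839 (iv D5663)) (tt N3590 F27269) (tt N2866 F27270) (tt N4468 D7132) (tt N4469 D7133) (tt N4470 D7134))
theorem Q3592 : ∀ i, i < 3592 → P i := stepQ 3591 Q3591 (allL N3591 (tt N3086 F27271) (tt N3127 F27272) (tt N2844 F27273) (tt N3120 F27274) (tt N4468 (iv F33929)) (tt N2840 F27275) (tt N4471 D7135) (tt N2839 (iv D5664)) (tt N4472 D7136) (tt N4473 D7137))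
theorem Q3593 : ∀ i, i < 3593 → P i := stepQ 3592 Q3592 (allL N3592 (tt N3087 F27276) (tt N4424 (iv F33666)) (tt N2845 F27277) (tt N3131 F27278) (tt N4469 (iv F33937)) (tt N3592 F27279) (tt N2868 F27280) (tt N4472 (iv F33961)) (tt N2839 (iv D5665)) (tt N4474 D7138))
theorem Q3594 : ∀ i, i < 3594 → P i := stepQ 3593 Q3593 (allL N3593 (tt N3088 F27281) (tt N4464 (iv F33899)) (tt N2846 F27282) (tt N4402 (iv F33535)) (tt N4470 (iv F33943)) (tt N2841 F27283) (tt N2869 F27284) (tt N4473 (iv F33967)) (tt N4475 D7139) (tt N2839 (iv D5666)))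
theorem Q3595 : ∀ i, i < 3595 → P i := stepQ 3594 Q3594 (allL N3594 (tt N3089 F27285) (tt N3226 F27286) (tt N2847 F27287) (tt N3219 F27288) (tt N3594 F27289) (tt N4473 (iv F33966)) (tt N3594 F27290) (tt N2841 F27291) (tt N4476 D7140) (tt N2840 (iv D5667)))
theorem Q3596 : ∀ i, i < 3596 → P i := stepQ 3595 Q3595 (allL N3595 (tt N3090 F27292) (tt N4465 (iv F33905)) (tt N2848 F27293) (tt N4403 (iv F33543)) (tt N3595 F27294) (tt N4477 D7141) (tt N2842 F27295) (tt N4476 (iv F33982)) (tt N2841 (iv D5668)) (tt N3595 F27296))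
theorem Q3597 : ∀ i, i < 3597 → P i := stepQ 3596 Q3596 (allL N3596 (tt N3091 F27297) (tt N4466 (iv F33912)) (tt N2849 F27298) (tt N4404 (iv F33550)) (tt N4478 D7142) (tt N2842 (iv D5669)) (tt N4479 D7143) (tt N3596 F27299) (tt N2872 F27300) (tt N3596 F27301))
theorem Q3598 : ∀ i, i < 3598 → P i := stepQ 3597 Q3597 (allL N3597 (tt N3092 F27302) (tt N3597 F27303) (tt N4468 (iv F33927)) (tt N3597 F27304) (tt N2844 F27305) (tt N3597 F27306) (tt N3333 (iv F27307)) (tt N2843 (iv D5670)) (tt N3292 (iv F27308)) (tt N4480 D7144))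
theorem Q3599 : ∀ i, i < 3599 → P i := stepQ 3598 Q3598 (allL N3598 (tt N3093 F27309) (tt N3598 F27310) (tt N4469 (iv F33935)) (tt N3598 F27311) (tt N2845 F27312) (tt N3293 (iv F27315)) (tt N2874 F27313) (tt N3292 F27314) (tt N2843 (iv D5671)) (tt N4481 D7145))
theorem Q3600 : ∀ i, i < 3600 → P i := stepQ 3599 Q3599 (allL N3599 (tt N3094 F27316) (tt N3599 F27317) (tt N4470 (iv F33942)) (tt N3599 F27318) (tt N2846 F27319) (tt N3599 F27320) (tt N2875 F27321) (tt N4480 (iv F34003)) (tt N4482 D7146) (tt N2843 (iv D5672)))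
theorem Q3601 : ∀ i, i < 3601 → P i := stepQ 3600 Q3600 (allL N3600 (tt N3095 F27322) (tt N3600 F27323) (tt N4471 (iv F33948)) (tt N2850 F27324) (tt N3333 F27325) (tt N3600 F27326) (tt N2844 (iv D5673)) (tt N2876 F27327) (tt N3032 (iv F27328)) (tt N4483 D7147))
theorem Q3602 : ∀ i, i < 3602 → P i := stepQ 3601 Q3601 (allL N3601 (tt N3096 F27329) (tt N3601 F27330) (tt N4472 (iv F33956)) (tt N2851 F27331) (tt N3292 F27332) (tt N3601 F27333) (tt N3032 F27334) (tt N2845 F27335) (tt N2844 (iv D5674)) (tt N4484 D7148))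
theorem Q3603 : ∀ i, i < 3603 → P i := stepQ 3602 Q3602 (allL N3602 (tt N3097 F27336) (tt N3602 F27337) (tt N4473 (iv F33964)) (tt N2852 F27338) (tt N4480 (iv F34000)) (tt N2847 F27339) (tt N4483 (iv F34021)) (tt N2846 F27340) (tt N4485 D7149) (tt N2844 (iv D5675)))
theorem Q3604 : ∀ i, i < 3604 → P i := stepQ 3603 Q3603 (allL N3603 (tt N3098 F27341) (tt N3603 F27342) (tt N4474 (iv F33969)) (tt N2853 F27343) (tt N4481 (iv F34007)) (tt N3603 F27344) (tt N2878 F27345) (tt N4484 (iv F34029)) (tt N4486 D7150) (tt N2845 (iv D5676)))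
theorem Q3605 : ∀ i, i < 3605 → P i := stepQ 3604 Q3604 (allL N3604 (tt N3099 F27346) (tt N3604 F27347) (tt N4475 (iv F33974)) (tt N2854 F27348) (tt N4482 (iv F34014)) (tt N4487 D7151) (tt N2879 F27349) (tt N4485 (iv F34033)) (tt N2846 (iv D5677)) (tt N4486 (iv F34038)))
theorem Q3606 : ∀ i, i < 3606 → P i := stepQ 3605 Q3605 (allL N3605 (tt N3100 F27350) (tt N3605 F27351) (tt N4476 (iv F33978)) (tt N2855 F27352) (tt N3605 F27353) (tt N4488 D7152) (tt N3605 F27354) (tt N2848 F27355) (tt N2847 (iv D5678)) (tt N3605 F27356))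
theorem Q3607 : ∀ i, i < 3607 → P i := stepQ 3606 Q3606 (allL N3606 (tt N3101 F27357) (tt N3606 F27358) (tt N4477 (iv F33985)) (tt N2856 F27359) (tt N4489 D7153) (tt N2848 (iv D5679)) (tt N4490 D7154) (tt N4488 (iv F34046)) (tt N4487 (iv F34042)) (tt N3606 F27360))
theorem Q3608 : ∀ i, i < 3608 → P i := stepQ 3607 Q3607 (allL N3607 (tt N3102 F27361) (tt N3607 F27362) (tt N4478 (iv F33988)) (tt N3607 F27363) (tt N2849 (iv D5680)) (tt N3607 F27364) (tt N4491 D7155) (tt N3607 F27365) (tt N2882 F27366) (tt N3607 F27367))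
theorem Q3609 : ∀ i, i < 3609 → P i := stepQ 3608 Q3608 (allL N3608 (tt N3103 F27368) (tt N3608 F27369) (tt N4479 (iv F33994)) (tt N2857 F27370) (tt N4491 (iv F34060)) (tt N4490 (iv F34055)) (tt N2849 (iv D5681)) (tt N4492 D7156) (tt N2883 F27371) (tt N3608 F27372))
theorem Q3610 : ∀ i, i < 3610 → P i := stepQ 3609 Q3609 (allL N3609 (tt N3104 F27373) (tt N3609 F27374) (tt N3105 F27375) (tt N4483 (iv F34018)) (tt N3609 F27376) (tt N3609 F27377) (tt N2852 F27378) (tt N2884 F27379) (tt N4493 D7157) (tt N2850 (iv D5682)))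
theorem Q3611 : ∀ i, i < 3611 → P i := stepQ 3610 Q3610 (allL N3610 (tt N3105 F27380) (tt N3610 F27381) (tt N3104 F27382) (tt N4484 (iv F34025)) (tt N3610 F27383) (tt N3610 F27384) (tt N3037 F27385) (tt N2853 F27386) (tt N4494 D7158) (tt N2851 (iv D5683)))
theorem Q3612 : ∀ i, i < 3612 → P i := stepQ 3611 Q3611 (allL N3611 (tt N3106 F27387) (tt N3611 F27388) (tt N4409 (iv F33577)) (tt N4485 (iv F34032)) (tt N3611 F27389) (tt N4495 D7159) (tt N4493 (iv F34073)) (tt N2854 F27390) (tt N2852 (iv D5684)) (tt N4494 (iv F34082)))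
theorem Q3613 : ∀ i, i < 3613 → P i := stepQ 3612 Q3612 (allL N3612 (tt N3107 F27391) (tt N3612 F27392) (tt N3152 F27393) (tt N4486 (iv F34036)) (tt N3612 F27394) (tt N4496 D7160) (tt N2886 F27395) (tt N4494 (iv F34081)) (tt N2853 (iv D5685)) (tt N2854 F27396))
theorem Q3614 : ∀ i, i < 3614 → P i := stepQ 3613 Q3613 (allL N3613 (tt N3108 F27397) (tt N3613 F27398) (tt N4410 (iv F33585)) (tt N4487 (iv F34041)) (tt N4497 D7161) (tt N2854 (iv D5686)) (tt N4498 D7162) (tt N4495 (iv F34085)) (tt N2856 F27399) (tt N4496 (iv F34091)))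
theorem Q3615 : ∀ i, i < 3615 → P i := stepQ 3614 Q3614 (allL N3614 (tt N3109 F27400) (tt N3614 F27401) (tt N4411 (iv F33590)) (tt N4488 (iv F34045)) (tt N4499 D7163) (tt N2855 (iv D5687)) (tt N4500 D7164) (tt N2856 F27402) (tt N4495 (iv F34086)) (tt N3614 F27403))
theorem Q3616 : ∀ i, i < 3616 → P i := stepQ 3615 Q3615 (allL N3615 (tt N3110 F27404) (tt N3615 F27405) (tt N4412 (iv F33595)) (tt N4501 D7165) (tt N2856 (iv D5688)) (tt N2859 F27406) (tt N4502 D7166) (tt N4499 (iv F34103)) (tt N4497 (iv F34095)) (tt N3615 F27407))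
theorem Q3617 : ∀ i, i < 3617 → P i := stepQ 3616 Q3616 (allL N3616 (tt N3111 F27408) (tt N3616 F27409) (tt N4413 (iv F33599)) (tt N4490 (iv F34054)) (tt N4502 (iv F34115)) (tt N2857 F27410) (tt N2856 (iv D5689)) (tt N4503 D7167) (tt N4498 (iv F34099)) (tt N3616 F27411))
theorem Q3618 : ∀ i, i < 3618 → P i := stepQ 3617 Q3617 (allL N3617 (tt N3112 F27412) (tt N3617 F27413) (tt N4414 (iv F33603)) (tt N4492 (iv F34065)) (tt N3617 F27414) (tt N4503 (iv F34120)) (tt N3617 F27415) (tt N2857 (iv D5690)) (tt N2891 F27416) (tt N3617 F27417))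
theorem Q3619 : ∀ i, i < 3619 → P i := stepQ 3618 Q3618 (allL N3618 (tt N3113 F27418) (tt N3618 F27419) (tt N4415 (iv F33610)) (tt N4504 D7168) (tt N2858 (iv D5691)) (tt N4499 (iv F34102)) (tt N4505 D7169) (tt N2859 F27420) (tt N3618 F27421) (tt N3618 F27422))
theorem Q3620 : ∀ i, i < 3620 → P i := stepQ 3619 Q3619 (allL N3619 (tt N3114 F27423) (tt N3619 F27424) (tt N4416 (iv F33616)) (tt N3619 F27425) (tt N4505 (iv F34130)) (tt N3619 F27426) (tt N2858 (iv D5692)) (tt N3619 F27427) (tt N3619 F27428) (tt N3619 F27429))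
theorem Q3621 : ∀ i, i < 3621 → P i := stepQ 3620 Q3620 (allL N3620 (tt N3115 F27430) (tt N3620 F27431) (tt N4506 D7170) (tt N2859 (iv D5693)) (tt N3620 F27432) (tt N4501 (iv F34111)) (tt N3620 F27433) (tt N4504 (iv F34125)) (tt N3620 F27434) (tt N3620 F27435))
theorem Q3622 : ∀ i, i < 3622 → P i := stepQ 3621 Q3621 (allL N3621 (tt N2862 F27436) (tt N3116 F27437) (tt N3621 F27438) (tt N4418 (iv F33629)) (tt N4507 D7171) (tt N2860 (iv D5694)) (tt N4460 (iv F33874)) (tt N4508 D7172) (tt N4509 D7173) (tt N4510 D7174))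
theorem Q3623 : ∀ i, i < 3623 → P i := stepQ 3622 Q3622 (allL N3622 (tt N2863 F27439) (tt N3117 F27440) (tt N3622 F27441) (tt N3165 F27442) (tt N2937 F27443) (tt N4508 (iv F34152)) (tt N3622 F27444) (tt N2860 (iv D5695)) (tt N2896 F27445) (tt N4511 D7175))
theorem Q3624 : ∀ i, i < 3624 → P i := stepQ 3623 Q3623 (allL N3623 (tt N2864 F27446) (tt N3118 F27447) (tt N3623 F27448) (tt N4419 (iv F33637)) (tt N2938 F27449) (tt N4510 (iv F34166)) (tt N2861 F27450) (tt N4511 (iv F34173)) (tt N4512 D7176) (tt N2860 (iv D5696)))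
theorem Q3625 : ∀ i, i < 3625 → P i := stepQ 3624 Q3624 (allL N3624 (tt N2865 F27451) (tt N3119 F27452) (tt N3624 F27453) (tt N4420 (iv F33643)) (tt N2939 F27454) (tt N4513 D7177) (tt N4512 (iv F34178)) (tt N3624 F27455) (tt N2861 (iv D5697)) (tt N2898 F27456))
theorem Q3626 : ∀ i, i < 3626 → P i := stepQ 3625 Q3625 (allL N3625 (tt N4507 (iv F34139)) (tt N2866 F27457) (tt N3625 F27458) (tt N4469 (iv F33936)) (tt N2862 (iv D5698)) (tt N2940 F27459) (tt N4463 (iv F33896)) (tt N4514 D7178) (tt N4467 F33923) (tt N4515 D7179))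
theorem Q3627 : ∀ i, i < 3627 → P i := stepQ 3626 Q3626 (allL N3626 (tt N4508 (iv F34147)) (tt N2867 F27460) (tt N3626 F27461) (tt N3122 F27462) (tt N4514 (iv F34189)) (tt N2863 F27463) (tt N4516 D7180) (tt N2862 (iv D5699)) (tt N3046 F27464) (tt N4517 D7181))
theorem Q3628 : ∀ i, i < 3628 → P i := stepQ 3627 Q3627 (allL N3627 (tt N4509 (iv F34155)) (tt N2868 F27465) (tt N3627 F27466) (tt N3121 F27467) (tt N4467 (iv F33920)) (tt N2899 F27468) (tt N4424 (iv F33670)) (tt N3046 F27469) (tt N2862 (iv D5700)) (tt N4518 D7182))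
theorem Q3629 : ∀ i, i < 3629 → P i := stepQ 3628 Q3628 (allL N3628 (tt N4510 (iv F34163)) (tt N2869 F27470) (tt N3628 F27471) (tt N4421 (iv F33649)) (tt N4515 (iv F34195)) (tt N2864 F27472) (tt N4464 (iv F33903)) (tt N4517 (iv F34209)) (tt N4519 D7183) (tt N2862 (iv D5701)))
theorem Q3630 : ∀ i, i < 3630 → P i := stepQ 3629 Q3629 (allL N3629 (tt N4511 (iv F34167)) (tt N2870 F27473) (tt N3629 F27474) (tt N3170 F27475) (tt N2943 F27476) (tt N4517 (iv F34208)) (tt N3629 F27477) (tt N2864 F27478) (tt N4520 D7184) (tt N2863 (iv D5702)))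
theorem Q3631 : ∀ i, i < 3631 → P i := stepQ 3630 Q3630 (allL N3630 (tt N4512 (iv F34174)) (tt N2871 F27479) (tt N3630 F27480) (tt N4422 (iv F33656)) (tt N2944 F27481) (tt N4521 D7185) (tt N2865 F27482) (tt N4520 (iv F34222)) (tt N2864 (iv D5703)) (tt N2902 F27483))
theorem Q3632 : ∀ i, i < 3632 → P i := stepQ 3631 Q3631 (allL N3631 (tt N4513 (iv F34180)) (tt N2872 F27484) (tt N3631 F27485) (tt N4423 (iv F33662)) (tt N4522 D7186) (tt N2865 (iv D5704)) (tt N4523 D7187) (tt N3631 F27486) (tt N4466 (iv F33915)) (tt N2903 F27487))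
theorem Q3633 : ∀ i, i < 3633 → P i := stepQ 3632 Q3632 (allL N3632 (tt N3127 F27488) (tt N4469 (iv F33934)) (tt N3632 F27489) (tt N2866 (iv D5705)) (tt N4424 (iv F33668)) (tt N2946 F27490) (tt N4467 (iv F33922)) (tt N4460 (iv F33875)) (tt N4463 (iv F33898)) (tt N4524 D7188))
theorem Q3634 : ∀ i, i < 3634 → P i := stepQ 3633 Q3633 (allL N3633 (tt N3128 F27491) (tt N4514 (iv F34186)) (tt N2873 F27492) (tt N4460 (iv F33873)) (tt N2867 F27493) (tt N2947 F27494) (tt N4418 (iv F33630)) (tt N2866 (iv D5706)) (tt N3049 F27495) (tt N4525 D7189))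
theorem Q3635 : ∀ i, i < 3635 → P i := stepQ 3634 Q3634 (allL N3634 (tt N3129 F27496) (tt N4467 (iv F33918)) (tt N2874 F27497) (tt N4463 (iv F33894)) (tt N2868 F27498) (tt N3634 F27499) (tt N4469 (iv F33938)) (tt N3049 F27500) (tt N2866 (iv D5707)) (tt N4526 D7190))
theorem Q3636 : ∀ i, i < 3636 → P i := stepQ 3635 Q3635 (allL N3635 (tt N3130 F27501) (tt N4515 (iv F34193)) (tt N2875 F27502) (tt N4524 (iv F34237)) (tt N2869 F27503) (tt N2948 F27504) (tt N4470 (iv F33945)) (tt N4525 (iv F34243)) (tt N4527 D7191) (tt N2866 (iv D5708)))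
theorem Q3637 : ∀ i, i < 3637 → P i := stepQ 3636 Q3636 (allL N3636 (tt N3131 F27505) (tt N4516 (iv F34198)) (tt N2876 F27506) (tt N3087 F27507) (tt N4418 F33633) (tt N3636 F27508) (tt N2867 (iv D5709)) (tt N4471 (iv F33952)) (tt N3027 F27509) (tt N4528 D7192))
theorem Q3638 : ∀ i, i < 3638 → P i := stepQ 3637 Q3637 (allL N3637 (tt N3132 F27510) (tt N4517 (iv F34205)) (tt N2877 F27511) (tt N3133 F27512) (tt N4525 (iv F34241)) (tt N2870 F27513) (tt N4528 (iv F34256)) (tt N2869 F27514) (tt N4529 D7193) (tt N2867 (iv D5710)))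
theorem Q3639 : ∀ i, i < 3639 → P i := stepQ 3638 Q3638 (allL N3638 (tt N3133 F27515) (tt N4518 (iv F34210)) (tt N2878 F27516) (tt N3132 F27517) (tt N4526 (iv F34246)) (tt N2904 F27518) (tt N4474 (iv F33972)) (tt N3050 F27519) (tt N4530 D7194) (tt N2868 (iv D5711)))
theorem Q3640 : ∀ i, i < 3640 → P i := stepQ 3639 Q3639 (allL N3639 (tt N3134 F27520) (tt N4519 (iv F34215)) (tt N2879 F27521) (tt N4426 (iv F33682)) (tt N4527 (iv F34251)) (tt N4531 D7195) (tt N4475 (iv F33975)) (tt N4529 (iv F34260)) (tt N2869 (iv D5712)) (tt N4530 (iv F34266)))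
theorem Q3641 : ∀ i, i < 3641 → P i := stepQ 3640 Q3640 (allL N3640 (tt N3135 F27522) (tt N4520 (iv F34217)) (tt N2880 F27523) (tt N3176 F27524) (tt N2952 F27525) (tt N4532 D7196) (tt N3640 F27526) (tt N2871 F27527) (tt N2870 (iv D5713)) (tt N2906 F27528))
theorem Q3642 : ∀ i, i < 3642 → P i := stepQ 3641 Q3641 (allL N3641 (tt N3136 F27529) (tt N4521 (iv F34224)) (tt N2881 F27530) (tt N4427 (iv F33687)) (tt N4533 D7197) (tt N2871 (iv D5714)) (tt N4534 D7198) (tt N4532 (iv F34273)) (tt N4531 (iv F34269)) (tt N2907 F27531))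
theorem Q3643 : ∀ i, i < 3643 → P i := stepQ 3642 Q3642 (allL N3642 (tt N3137 F27532) (tt N4522 (iv F34227)) (tt N2882 F27533) (tt N4535 D7199) (tt N2872 (iv D5715)) (tt N2954 F27534) (tt N4536 D7200) (tt N3642 F27535) (tt N4478 (iv F33991)) (tt N2908 F27536))
theorem Q3644 : ∀ i, i < 3644 → P i := stepQ 3643 Q3643 (allL N3643 (tt N3138 F27537) (tt N4523 (iv F34232)) (tt N2883 F27538) (tt N4429 (iv F33697)) (tt N4536 (iv F34290)) (tt N4534 (iv F34281)) (tt N2872 (iv D5716)) (tt N4537 D7201) (tt N4479 (iv F33995)) (tt N2909 F27539))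
theorem Q3645 : ∀ i, i < 3645 → P i := stepQ 3644 Q3644 (allL N3644 (tt N3139 F27540) (tt N3644 F27541) (tt N4418 (iv F33628)) (tt N3644 F27542) (tt N2876 F27543) (tt N3391 F27544) (tt N2873 (iv D5717)) (tt N3333 F27545) (tt N3031 F27546) (tt N4538 D7202))
theorem Q3646 : ∀ i, i < 3646 → P i := stepQ 3645 Q3645 (allL N3645 (tt N3140 F27547) (tt N3645 F27548) (tt N4525 (iv F34240)) (tt N3645 F27549) (tt N2877 F27550) (tt N2957 F27551) (tt N4538 (iv F34301)) (tt N2875 F27552) (tt N4539 D7203) (tt N2873 (iv D5718)))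
theorem Q3647 : ∀ i, i < 3647 → P i := stepQ 3646 Q3646 (allL N3646 (tt N3141 F27553) (tt N3646 F27554) (tt N4526 (iv F34245)) (tt N3646 F27555) (tt N2878 F27556) (tt N3646 F27557) (tt N4481 (iv F34009)) (tt N3053 F27558) (tt N4540 D7204) (tt N2874 (iv D5719)))
theorem Q3648 : ∀ i, i < 3648 → P i := stepQ 3647 Q3647 (allL N3647 (tt N3142 F27559) (tt N3647 F27560) (tt N4527 (iv F34250)) (tt N3647 F27561) (tt N2879 F27562) (tt N4541 D7205) (tt N4482 (iv F34015)) (tt N4539 (iv F34307)) (tt N2875 (iv D5720)) (tt N4540 (iv F34314)))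
theorem Q3649 : ∀ i, i < 3649 → P i := stepQ 3648 Q3648 (allL N3648 (tt N3143 F27563) (tt N3648 F27564) (tt N4528 (iv F34253)) (tt N2884 F27565) (tt N4538 (iv F34299)) (tt N3648 F27566) (tt N2877 F27567) (tt N4483 (iv F34022)) (tt N4542 D7206) (tt N2876 (iv D5721)))
theorem Q3650 : ∀ i, i < 3650 → P i := stepQ 3649 Q3649 (allL N3649 (tt N3144 F27568) (tt N3649 F27569) (tt N4529 (iv F34258)) (tt N2885 F27570) (tt N4539 (iv F34306)) (tt N4543 D7207) (tt N4542 (iv F34322)) (tt N2879 F27571) (tt N2877 (iv D5722)) (tt N3054 F27572))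
theorem Q3651 : ∀ i, i < 3651 → P i := stepQ 3650 Q3650 (allL N3650 (tt N3145 F27573) (tt N3650 F27574) (tt N4530 (iv F34263)) (tt N2886 F27575) (tt N4540 (iv F34312)) (tt N4544 D7208) (tt N4486 (iv F34037)) (tt N3054 F27576) (tt N2878 (iv D5723)) (tt N2879 F27577))
theorem Q3652 : ∀ i, i < 3652 → P i := stepQ 3651 Q3651 (allL N3651 (tt N3146 F27578) (tt N3651 F27579) (tt N4531 (iv F34268)) (tt N2887 F27580) (tt N4545 D7209) (tt N2879 (iv D5724)) (tt N4546 D7210) (tt N4543 (iv F34327)) (tt N2881 F27581) (tt N4544 (iv F34335)))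
theorem Q3653 : ∀ i, i < 3653 → P i := stepQ 3652 Q3652 (allL N3652 (tt N3147 F27582) (tt N3652 F27583) (tt N4532 (iv F34271)) (tt N2888 F27584) (tt N4547 D7211) (tt N2880 (iv D5725)) (tt N4548 D7212) (tt N2881 F27585) (tt N4543 (iv F34328)) (tt N2912 F27586))
theorem Q3654 : ∀ i, i < 3654 → P i := stepQ 3653 Q3653 (allL N3653 (tt N3148 F27587) (tt N3653 F27588) (tt N4533 (iv F34276)) (tt N4549 D7213) (tt N2881 (iv D5726)) (tt N2963 F27589) (tt N4550 D7214) (tt N4547 (iv F34346)) (tt N4545 (iv F34338)) (tt N2913 F27590))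
theorem Q3655 : ∀ i, i < 3655 → P i := stepQ 3654 Q3654 (allL N3654 (tt N3149 F27591) (tt N3654 F27592) (tt N4534 (iv F34280)) (tt N2890 F27593) (tt N4550 (iv F34360)) (tt N2883 F27594) (tt N2881 (iv D5727)) (tt N4551 D7215) (tt N4546 (iv F34342)) (tt N2914 F27595))
theorem Q3656 : ∀ i, i < 3656 → P i := stepQ 3655 Q3655 (allL N3655 (tt N3150 F27596) (tt N3655 F27597) (tt N4536 (iv F34289)) (tt N3655 F27598) (tt N2883 F27599) (tt N4552 D7216) (tt N2882 (iv D5728)) (tt N4553 D7217) (tt N4491 (iv F34061)) (tt N2915 F27600))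
theorem Q3657 : ∀ i, i < 3657 → P i := stepQ 3656 Q3656 (allL N3656 (tt N3151 F27601) (tt N3656 F27602) (tt N4537 (iv F34293)) (tt N2891 F27603) (tt N4553 (iv F34375)) (tt N4551 (iv F34365)) (tt N3656 F27604) (tt N2883 (iv D5729)) (tt N4492 (iv F34067)) (tt N2916 F27605))
theorem Q3658 : ∀ i, i < 3658 → P i := stepQ 3657 Q3657 (allL N3657 (tt N3152 F27606) (tt N3657 F27607) (tt N3107 F27608) (tt N4542 (iv F34321)) (tt N3657 F27609) (tt N4554 D7218) (tt N2885 F27610) (tt N4493 (iv F34074)) (tt N2884 (iv D5730)) (tt N3038 F27611))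
theorem Q3659 : ∀ i, i < 3659 → P i := stepQ 3658 Q3658 (allL N3658 (tt N3153 F27612) (tt N3658 F27613) (tt N3154 F27614) (tt N4543 (iv F34326)) (tt N4555 D7219) (tt N2885 (iv D5731)) (tt N4556 D7220) (tt N2887 F27615) (tt N2888 F27616) (tt N3058 F27617))
theorem Q3660 : ∀ i, i < 3660 → P i := stepQ 3659 Q3659 (allL N3659 (tt N3154 F27618) (tt N3659 F27619) (tt N3153 F27620) (tt N4544 (iv F34332)) (tt N4557 D7221) (tt N2886 (iv D5732)) (tt N4558 D7222) (tt N3058 F27621) (tt N2917 F27622) (tt N2887 F27623))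
theorem Q3661 : ∀ i, i < 3661 → P i := stepQ 3660 Q3660 (allL N3660 (tt N3155 F27624) (tt N3660 F27625) (tt N4436 (iv F33732)) (tt N4559 D7223) (tt N2887 (iv D5733)) (tt N3660 F27626) (tt N4560 D7224) (tt N4555 (iv F34387)) (tt N2889 F27627) (tt N4557 (iv F34401)))
theorem Q3662 : ∀ i, i < 3662 → P i := stepQ 3661 Q3661 (allL N3661 (tt N3156 F27628) (tt N3661 F27629) (tt N4437 (iv F33739)) (tt N4546 (iv F34341)) (tt N4560 (iv F34413)) (tt N4498 (iv F34098)) (tt N2887 (iv D5734)) (tt N4561 D7225) (tt N2890 F27630) (tt N4558 (iv F34406)))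
theorem Q3663 : ∀ i, i < 3663 → P i := stepQ 3662 Q3662 (allL N3662 (tt N3157 F27631) (tt N3662 F27632) (tt N3194 F27633) (tt N4562 D7226) (tt N2888 (iv D5735)) (tt N2892 F27634) (tt N4563 D7227) (tt N2889 F27635) (tt N4555 (iv F34388)) (tt N2920 F27636))
theorem Q3664 : ∀ i, i < 3664 → P i := stepQ 3663 Q3663 (allL N3663 (tt N3158 F27637) (tt N3663 F27638) (tt N3195 F27639) (tt N4548 (iv F34350)) (tt N4563 (iv F34426)) (tt N3663 F27640) (tt N2888 (iv D5736)) (tt N4564 D7228) (tt N4556 (iv F34393)) (tt N2921 F27641))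
theorem Q3665 : ∀ i, i < 3665 → P i := stepQ 3664 Q3664 (allL N3664 (tt N3159 F27642) (tt N3664 F27643) (tt N4565 D7229) (tt N2889 (iv D5737)) (tt N4549 (iv F34355)) (tt N2894 F27644) (tt N4566 D7230) (tt N4562 (iv F34421)) (tt N4559 (iv F34410)) (tt N2922 F27645))
theorem Q3666 : ∀ i, i < 3666 → P i := stepQ 3665 Q3665 (allL N3665 (tt N3160 F27646) (tt N3665 F27647) (tt N4439 (iv F33749)) (tt N4566 (iv F34439)) (tt N2890 F27648) (tt N3665 F27649) (tt N2889 (iv D5738)) (tt N4567 D7231) (tt N4560 (iv F34414)) (tt N2923 F27650))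
theorem Q3667 : ∀ i, i < 3667 → P i := stepQ 3666 Q3666 (allL N3666 (tt N3161 F27651) (tt N3666 F27652) (tt N4440 (iv F33755)) (tt N4551 (iv F34364)) (tt N4567 (iv F34444)) (tt N2891 F27653) (tt N4564 (iv F34432)) (tt N2890 (iv D5739)) (tt N4561 (iv F34417)) (tt N2924 F27654))
theorem Q3668 : ∀ i, i < 3668 → P i := stepQ 3667 Q3667 (allL N3667 (tt N3162 F27655) (tt N3667 F27656) (tt N4568 D7232) (tt N2892 (iv D5740)) (tt N2976 F27657) (tt N4562 (iv F34420)) (tt N3462 F132092) (tt N2894 F27658) (tt N3667 F27659) (tt N2925 F27660))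
theorem Q3669 : ∀ i, i < 3669 → P i := stepQ 3668 Q3668 (allL N3668 (tt N3163 F27661) (tt N3668 F27662) (tt N3209 F27663) (tt N3462 F132093) (tt N2893 F27664) (tt N4569 D7234) (tt N2892 (iv D5741)) (tt N3668 F27665) (tt N3668 F27666) (tt N2926 F27667))
theorem Q3670 : ∀ i, i < 3670 → P i := stepQ 3669 Q3669 (allL N3669 (tt N3164 F27668) (tt N4570 D7235) (tt N2894 (iv D5742)) (tt N4441 (iv F33760)) (tt N2977 F27669) (tt N4565 (iv F34435)) (tt N3669 F27670) (tt N4568 (iv F34450)) (tt N3669 F27671) (tt N2927 F27672))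
theorem Q3671 : ∀ i, i < 3671 → P i := stepQ 3670 Q3670 (allL N3670 (tt N2899 F27673) (tt N3165 F27674) (tt N3670 F27675) (tt N3117 F27676) (tt N3670 F27677) (tt N4509 (iv F34160)) (tt N3670 F27678) (tt N3044 F27679) (tt N2895 (iv D5743)) (tt N4571 D7236))
theorem Q3672 : ∀ i, i < 3672 → P i := stepQ 3671 Q3671 (allL N3671 (tt N2900 F27680) (tt N3166 F27681) (tt N3671 F27682) (tt N3167 F27683) (tt N3671 F27684) (tt N2897 F27685) (tt N3671 F27686) (tt N3063 F27687) (tt N4572 D7237) (tt N2895 (iv D5744)))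
theorem Q3673 : ∀ i, i < 3673 → P i := stepQ 3672 Q3672 (allL N3672 (tt N2901 F27688) (tt N3167 F27689) (tt N3672 F27690) (tt N3166 F27691) (tt N2978 F27692) (tt N3063 F27693) (tt N3672 F27694) (tt N2897 F27695) (tt N4573 D7238) (tt N2896 (iv D5745)))
theorem Q3674 : ∀ i, i < 3674 → P i := stepQ 3673 Q3673 (allL N3673 (tt N2902 F27696) (tt N3168 F27697) (tt N3673 F27698) (tt N4442 (iv F33769)) (tt N2979 F27699) (tt N4574 D7239) (tt N2898 F27700) (tt N4573 (iv F34491)) (tt N2897 (iv D5746)) (tt N4512 (iv F34179)))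
theorem Q3675 : ∀ i, i < 3675 → P i := stepQ 3674 Q3674 (allL N3674 (tt N2903 F27701) (tt N3169 F27702) (tt N3674 F27703) (tt N4443 (iv F33775)) (tt N4575 D7240) (tt N2898 (iv D5747)) (tt N4576 D7241) (tt N3674 F27704) (tt N3674 F27705) (tt N4513 (iv F34184)))
theorem Q3676 : ∀ i, i < 3676 → P i := stepQ 3675 Q3675 (allL N3675 (tt N4571 (iv F34471)) (tt N2904 F27706) (tt N3675 F27707) (tt N3124 F27708) (tt N3675 F27709) (tt N4518 (iv F34213)) (tt N3675 F27710) (tt N3047 F27711) (tt N4577 D7242) (tt N2899 (iv D5748)))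
theorem Q3677 : ∀ i, i < 3677 → P i := stepQ 3676 Q3676 (allL N3676 (tt N4572 (iv F34478)) (tt N2905 F27712) (tt N3676 F27713) (tt N3172 F27714) (tt N3676 F27715) (tt N4578 D7243) (tt N3676 F27716) (tt N3065 F27717) (tt N2900 (iv D5749)) (tt N4577 (iv F34511)))
theorem Q3678 : ∀ i, i < 3678 → P i := stepQ 3677 Q3677 (allL N3677 (tt N4573 (iv F34485)) (tt N2906 F27718) (tt N3677 F27719) (tt N3171 F27720) (tt N2981 F27721) (tt N4579 D7244) (tt N3677 F27722) (tt N2902 F27723) (tt N2901 (iv D5750)) (tt N4520 (iv F34223)))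
theorem Q3679 : ∀ i, i < 3679 → P i := stepQ 3678 Q3678 (allL N3678 (tt N4574 (iv F34492)) (tt N2907 F27724) (tt N3678 F27725) (tt N4444 (iv F33780)) (tt N4580 D7245) (tt N2902 (iv D5751)) (tt N4581 D7246) (tt N4579 (iv F34520)) (tt N4578 (iv F34516)) (tt N4521 (iv F34226)))
theorem Q3680 : ∀ i, i < 3680 → P i := stepQ 3679 Q3679 (allL N3679 (tt N4575 (iv F34495)) (tt N2908 F27726) (tt N3679 F27727) (tt N4582 D7247) (tt N2903 (iv D5752)) (tt N2983 F27728) (tt N4583 D7248) (tt N3679 F27729) (tt N3679 F27730) (tt N4522 (iv F34231)))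
theorem Q3681 : ∀ i, i < 3681 → P i := stepQ 3680 Q3680 (allL N3680 (tt N4576 (iv F34501)) (tt N2909 F27731) (tt N3680 F27732) (tt N4446 (iv F33788)) (tt N4583 (iv F34534)) (tt N4581 (iv F34527)) (tt N2903 (iv D5753)) (tt N4584 D7249) (tt N3680 F27733) (tt N4523 (iv F34234)))
theorem Q3682 : ∀ i, i < 3682 → P i := stepQ 3681 Q3681 (allL N3681 (tt N3176 F27734) (tt N4577 (iv F34505)) (tt N2910 F27735) (tt N3135 F27736) (tt N3681 F27737) (tt N4585 D7250) (tt N3681 F27738) (tt N3051 F27739) (tt N2904 (iv D5754)) (tt N2905 F27740))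
theorem Q3683 : ∀ i, i < 3683 → P i := stepQ 3682 Q3682 (allL N3682 (tt N3177 F27741) (tt N4578 (iv F34512)) (tt N2911 F27742) (tt N3178 F27743) (tt N4586 D7251) (tt N2905 (iv D5755)) (tt N4587 D7252) (tt N3067 F27744) (tt N2907 F27745) (tt N4585 (iv F34544)))
theorem Q3684 : ∀ i, i < 3684 → P i := stepQ 3683 Q3683 (allL N3683 (tt N3178 F27746) (tt N4579 (iv F34517)) (tt N2912 F27747) (tt N3177 F27748) (tt N4588 D7253) (tt N2906 (iv D5756)) (tt N4589 D7254) (tt N2907 F27749) (tt N3067 F27750) (tt N4532 (iv F34274)))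
theorem Q3685 : ∀ i, i < 3685 → P i := stepQ 3684 Q3684 (allL N3684 (tt N3179 F27751) (tt N4580 (iv F34522)) (tt N2913 F27752) (tt N4590 D7255) (tt N2907 (iv D5757)) (tt N2986 F27753) (tt N4591 D7256) (tt N4588 (iv F34558)) (tt N4586 (iv F34549)) (tt N4533 (iv F34278)))
theorem Q3686 : ∀ i, i < 3686 → P i := stepQ 3685 Q3685 (allL N3685 (tt N3180 F27754) (tt N4581 (iv F34525)) (tt N2914 F27755) (tt N4448 (iv F33797)) (tt N4591 (iv F34569)) (tt N2909 F27756) (tt N2907 (iv D5758)) (tt N4592 D7257) (tt N4587 (iv F34554)) (tt N4534 (iv F34282)))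
theorem Q3687 : ∀ i, i < 3687 → P i := stepQ 3686 Q3686 (allL N3686 (tt N3181 F27757) (tt N4582 (iv F34528)) (tt N3686 F27758) (tt N2908 (iv D5759)) (tt N4449 (iv F33802)) (tt N2988 F27759) (tt N4593 D7258) (tt N3686 F27760) (tt N3686 F27761) (tt N4535 (iv F34287)))
theorem Q3688 : ∀ i, i < 3688 → P i := stepQ 3687 Q3687 (allL N3687 (tt N3182 F27762) (tt N4583 (iv F34532)) (tt N2915 F27763) (tt N4593 (iv F34575)) (tt N2909 F27764) (tt N4594 D7259) (tt N2908 (iv D5760)) (tt N4595 D7260) (tt N3687 F27765) (tt N4536 (iv F34291)))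
theorem Q3689 : ∀ i, i < 3689 → P i := stepQ 3688 Q3688 (allL N3688 (tt N3183 F27766) (tt N4584 (iv F34536)) (tt N2916 F27767) (tt N4451 (iv F33812)) (tt N4595 (iv F34582)) (tt N4592 (iv F34572)) (tt N3688 F27768) (tt N2909 (iv D5761)) (tt N3688 F27769) (tt N4537 (iv F34295)))
theorem Q3690 : ∀ i, i < 3690 → P i := stepQ 3689 Q3689 (allL N3689 (tt N3184 F27770) (tt N3689 F27771) (tt N4585 (iv F34541)) (tt N2917 F27772) (tt N4596 D7261) (tt N2910 (iv D5762)) (tt N4597 D7262) (tt N3055 F27773) (tt N4544 (iv F34334)) (tt N2911 F27774))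
theorem Q3691 : ∀ i, i < 3691 → P i := stepQ 3690 Q3690 (allL N3690 (tt N3185 F27775) (tt N3690 F27776) (tt N4586 (iv F34546)) (tt N4598 D7263) (tt N2911 (iv D5763)) (tt N3690 F27777) (tt N4599 D7264) (tt N3070 F27778) (tt N2913 F27779) (tt N4596 (iv F34589)))
theorem Q3692 : ∀ i, i < 3692 → P i := stepQ 3691 Q3691 (allL N3691 (tt N3186 F27780) (tt N3691 F27781) (tt N4587 (iv F34551)) (tt N2919 F27782) (tt N4599 (iv F34603)) (tt N3691 F27783) (tt N2911 (iv D5764)) (tt N4600 D7265) (tt N2914 F27784) (tt N4597 (iv F34594)))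
theorem Q3693 : ∀ i, i < 3693 → P i := stepQ 3692 Q3692 (allL N3692 (tt N3187 F27785) (tt N3692 F27786) (tt N4588 (iv F34556)) (tt N4601 D7266) (tt N2912 (iv D5765)) (tt N2991 F27787) (tt N4602 D7267) (tt N2913 F27788) (tt N3070 F27789) (tt N4547 (iv F34347)))
theorem Q3694 : ∀ i, i < 3694 → P i := stepQ 3693 Q3693 (allL N3693 (tt N3188 F27790) (tt N3693 F27791) (tt N4589 (iv F34561)) (tt N2921 F27792) (tt N4602 (iv F34619)) (tt N3693 F27793) (tt N2912 (iv D5766)) (tt N4603 D7268) (tt N3071 F27794) (tt N4548 (iv F34352)))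
theorem Q3695 : ∀ i, i < 3695 → P i := stepQ 3694 Q3694 (allL N3694 (tt N3189 F27795) (tt N3694 F27796) (tt N4604 D7269) (tt N2913 (iv D5767)) (tt N2922 F27797) (tt N2993 F27798) (tt N4605 D7270) (tt N4601 (iv F34615)) (tt N4598 (iv F34600)) (tt N4549 (iv F34357)))
theorem Q3696 : ∀ i, i < 3696 → P i := stepQ 3695 Q3695 (allL N3695 (tt N3190 F27799) (tt N3695 F27800) (tt N4591 (iv F34568)) (tt N4605 (iv F34632)) (tt N2914 F27801) (tt N4606 D7271) (tt N2913 (iv D5768)) (tt N4607 D7272) (tt N4599 (iv F34604)) (tt N4550 (iv F34361)))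
theorem Q3697 : ∀ i, i < 3697 → P i := stepQ 3696 Q3696 (allL N3696 (tt N3191 F27802) (tt N3696 F27803) (tt N4592 (iv F34571)) (tt N2924 F27804) (tt N4607 (iv F34640)) (tt N2916 F27805) (tt N4603 (iv F34625)) (tt N2914 (iv D5769)) (tt N4600 (iv F34610)) (tt N4551 (iv F34366)))
theorem Q3698 : ∀ i, i < 3698 → P i := stepQ 3697 Q3697 (allL N3697 (tt N3192 F27806) (tt N3697 F27807) (tt N4594 (iv F34578)) (tt N3697 F27808) (tt N4606 (iv F34636)) (tt N2915 (iv D5770)) (tt N2996 F27809) (tt N4608 D7273) (tt N4609 D7274) (tt N4552 (iv F34371)))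
theorem Q3699 : ∀ i, i < 3699 → P i := stepQ 3698 Q3698 (allL N3698 (tt N3193 F27810) (tt N3698 F27811) (tt N4595 (iv F34581)) (tt N3698 F27812) (tt N2916 F27813) (tt N4608 (iv F34644)) (tt N3698 F27814) (tt N2915 (iv D5771)) (tt N3698 F27815) (tt N4553 (iv F34377)))
theorem Q3700 : ∀ i, i < 3700 → P i := stepQ 3699 Q3699 (allL N3699 (tt N3194 F27816) (tt N3699 F27817) (tt N3157 F27818) (tt N4610 D7275) (tt N2917 (iv D5772)) (tt N2928 F27819) (tt N4611 D7276) (tt N3059 F27820) (tt N4557 (iv F34400)) (tt N2918 F27821))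
theorem Q3701 : ∀ i, i < 3701 → P i := stepQ 3700 Q3700 (allL N3700 (tt N3195 F27822) (tt N3700 F27823) (tt N3158 F27824) (tt N4597 (iv F34592)) (tt N4611 (iv F34658)) (tt N3700 F27825) (tt N2917 (iv D5773)) (tt N4612 D7277) (tt N4558 (iv F34405)) (tt N2919 F27826))
theorem Q3702 : ∀ i, i < 3702 → P i := stepQ 3701 Q3701 (allL N3701 (tt N3196 F27827) (tt N3701 F27828) (tt N4613 D7278) (tt N2918 (iv D5774)) (tt N4598 (iv F34597)) (tt N2930 F27829) (tt N4614 D7279) (tt N3074 F27830) (tt N2922 F27831) (tt N4610 (iv F34654)))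
theorem Q3703 : ∀ i, i < 3703 → P i := stepQ 3702 Q3702 (allL N3702 (tt N3197 F27832) (tt N3702 F27833) (tt N3200 F27834) (tt N4614 (iv F34673)) (tt N2919 F27835) (tt N4615 D7280) (tt N2918 (iv D5775)) (tt N4616 D7281) (tt N2923 F27836) (tt N4611 (iv F34659)))
theorem Q3704 : ∀ i, i < 3704 → P i := stepQ 3703 Q3703 (allL N3703 (tt N3198 F27837) (tt N3703 F27838) (tt N3201 F27839) (tt N4600 (iv F34607)) (tt N4616 (iv F34684)) (tt N3703 F27840) (tt N3076 F27841) (tt N2919 (iv D5776)) (tt N2924 F27842) (tt N4612 (iv F34665)))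
theorem Q3705 : ∀ i, i < 3705 → P i := stepQ 3704 Q3704 (allL N3704 (tt N3199 F27843) (tt N3704 F27844) (tt N4617 D7282) (tt N2920 (iv D5777)) (tt N4601 (iv F34613)) (tt N2925 F27845) (tt N4618 D7283) (tt N2922 F27846) (tt N3074 F27847) (tt N4562 (iv F34422)))
theorem Q3706 : ∀ i, i < 3706 → P i := stepQ 3705 Q3705 (allL N3705 (tt N3200 F27848) (tt N3705 F27849) (tt N3197 F27850) (tt N4618 (iv F34694)) (tt N2921 F27851) (tt N4619 D7284) (tt N2920 (iv D5778)) (tt N4620 D7285) (tt N3075 F27852) (tt N4563 (iv F34427)))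
theorem Q3707 : ∀ i, i < 3707 → P i := stepQ 3706 Q3706 (allL N3706 (tt N3201 F27853) (tt N3706 F27854) (tt N3198 F27855) (tt N4603 (iv F34623)) (tt N4620 (iv F34705)) (tt N3706 F27856) (tt N2924 F27857) (tt N2921 (iv D5779)) (tt N3076 F27858) (tt N4564 (iv F34433)))
theorem Q3708 : ∀ i, i < 3708 → P i := stepQ 3707 Q3707 (allL N3707 (tt N3202 F27859) (tt N4621 D7286) (tt N2922 (iv D5780)) (tt N4457 (iv F33840)) (tt N4604 (iv F34628)) (tt N2927 F27860) (tt N4622 D7287) (tt N4617 (iv F34690)) (tt N4613 (iv F34670)) (tt N4565 (iv F34436)))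
theorem Q3709 : ∀ i, i < 3709 → P i := stepQ 3708 Q3708 (allL N3708 (tt N3203 F27861) (tt N3708 F27862) (tt N4622 (iv F34711)) (tt N2923 F27863) (tt N4605 (iv F34633)) (tt N3708 F27864) (tt N2922 (iv D5781)) (tt N4623 D7288) (tt N4614 (iv F34674)) (tt N4566 (iv F34441)))
theorem Q3710 : ∀ i, i < 3710 → P i := stepQ 3709 Q3709 (allL N3709 (tt N3204 F27865) (tt N3709 F27866) (tt N4459 (iv F33851)) (tt N4623 (iv F34715)) (tt N2924 F27867) (tt N3709 F27868) (tt N4620 (iv F34706)) (tt N2923 (iv D5782)) (tt N4616 (iv F34686)) (tt N4567 (iv F34446)))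
theorem Q3711 : ∀ i, i < 3711 → P i := stepQ 3710 Q3710 (allL N3710 (tt N3205 F27869) (tt N4624 D7289) (tt N2925 (iv D5783)) (tt N3210 F27870) (tt N3003 F27871) (tt N4617 (iv F34689)) (tt N3265 F131427) (tt N2927 F27872) (tt N2934 F27873) (tt N4568 (iv F34452)))
theorem Q3712 : ∀ i, i < 3712 → P i := stepQ 3711 Q3711 (allL N3711 (tt N3206 F27880) (tt N3711 F27881) (tt N3212 F27882) (tt N3397 F132059) (tt N3711 F27883) (tt N2926 (iv D5785)) (tt N4619 (iv F34700)) (tt N3711 F27884) (tt N3711 F27885) (tt N4569 (iv F34465)))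
theorem Q3713 : ∀ i, i < 3713 → P i := stepQ 3712 Q3712 (allL N3712 (tt N4625 D7292) (tt N2927 (iv D5786)) (tt N3712 F27886) (tt N3288 F131472) (tt N3004 F27887) (tt N4621 (iv F34709)) (tt N3712 F27888) (tt N4624 (iv F34720)) (tt N2935 F27889) (tt N4570 (iv F34470)))
theorem Q3714 : ∀ i, i < 3714 → P i := stepQ 3713 Q3713 (allL N3713 (tt N3208 F27890) (tt N3713 F27891) (tt N4626 D7293) (tt N2928 (iv D5787)) (tt N3713 F27892) (tt N4610 (iv F34652)) (tt N4627 D7294) (tt N3062 F27893) (tt N3713 F27894) (tt N2930 F27895))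
theorem Q3715 : ∀ i, i < 3715 → P i := stepQ 3714 Q3714 (allL N3714 (tt N3209 F27896) (tt N3714 F27897) (tt N3163 F27898) (tt N4627 (iv F34746)) (tt N2929 F27899) (tt N4628 D7295) (tt N2928 (iv D5788)) (tt N3714 F27900) (tt N3714 F27901) (tt N2931 F27902))
theorem Q3716 : ∀ i, i < 3716 → P i := stepQ 3715 Q3715 (allL N3715 (tt N3210 F27903) (tt N3275 F131430) (tt N2930 (iv D5789)) (tt N3205 F27904) (tt N3715 F27905) (tt N4613 (iv F34668)) (tt N3269 F131431) (tt N3077 F27906) (tt N2932 F27907) (tt N4626 (iv F34743)))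
theorem Q3717 : ∀ i, i < 3717 → P i := stepQ 3716 Q3716 (allL N3716 (tt N3211 F27908) (tt N3716 F27909) (tt N3269 F131468) (tt N2931 F27910) (tt N3716 F27911) (tt N4629 D7298) (tt N2930 (iv D5790)) (tt N3716 F27912) (tt N2933 F27913) (tt N4627 (iv F34750)))
theorem Q3718 : ∀ i, i < 3718 → P i := stepQ 3717 Q3717 (allL N3717 (tt N3212 F27914) (tt N3717 F27915) (tt N3206 F27916) (tt N4629 (iv F34770)) (tt N3717 F27917) (tt N2931 (iv D5791)) (tt N4615 (iv F34679)) (tt N3717 F27918) (tt N3717 F27919) (tt N4628 (iv F34756)))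
theorem Q3719 : ∀ i, i < 3719 → P i := stepQ 3718 Q3718 (allL N3718 (tt N3009 (iv F131186)) (tt N2934 (iv D5794)) (tt N3718 F27933) (tt N3213 F27934) (tt N3005 F27935) (tt N3078 F27936) (tt N3007 (iv F131108)) (tt N2935 F27937) (tt N4624 (iv F34721)) (tt N3718 F27938))
theorem Q3720 : ∀ i, i < 3720 → P i := stepQ 3719 Q3719 (allL N3719 (tt N2935 (iv D5796)) (tt N3012 (iv F131107)) (tt N3719 F27947) (tt N3011 (iv F131151)) (tt N3006 F27948) (tt N3010 (iv F131154)) (tt N3719 F27949) (tt N3009 (iv F131187)) (tt N4625 (iv F34737)) (tt N3719 F27950))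
theorem Q3721 : ∀ i, i < 3721 → P i := stepQ 3720 Q3720 (allL N3720 (tt N2940 F27951) (tt N3028 F27952) (tt N3720 F27953) (tt N3082 (iv F27956)) (tt N2936 (iv D5797)) (tt N4507 (iv F34143)) (tt N3720 F27954) (tt N3025 (iv F27957)) (tt N3720 F27955) (tt N4630 D7303))
theorem Q3722 : ∀ i, i < 3722 → P i := stepQ 3721 Q3721 (allL N3721 (tt N2941 F27958) (tt N3016 F27959) (tt N3721 F27960) (tt N3721 F27961) (tt N3025 F27962) (tt N2937 F27963) (tt N3015 (iv F27965)) (tt N2936 (iv D5798)) (tt N3721 F27964) (tt N4631 D7304))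
theorem Q3723 : ∀ i, i < 3723 → P i := stepQ 3722 Q3722 (allL N3722 (tt N2942 F27966) (tt N3215 F27967) (tt N3722 F27968) (tt N3722 F27969) (tt N4630 (iv F34805)) (tt N2938 F27970) (tt N3722 F27971) (tt N4631 (iv F34815)) (tt N4632 D7305) (tt N2936 (iv D5799)))
theorem Q3724 : ∀ i, i < 3724 → P i := stepQ 3723 Q3723 (allL N3723 (tt N2943 F27972) (tt N3216 F27973) (tt N3723 F27974) (tt N3723 F27975) (tt N4511 (iv F34171)) (tt N4631 (iv F34813)) (tt N3723 F27976) (tt N2938 F27977) (tt N4633 D7306) (tt N2937 (iv D5800)))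
theorem Q3725 : ∀ i, i < 3725 → P i := stepQ 3724 Q3724 (allL N3724 (tt N2944 F27978) (tt N3217 F27979) (tt N3724 F27980) (tt N3724 F27981) (tt N4512 (iv F34177)) (tt N4634 D7307) (tt N2939 F27982) (tt N4633 (iv F34827)) (tt N2938 (iv D5801)) (tt N2979 F27983))
theorem Q3726 : ∀ i, i < 3726 → P i := stepQ 3725 Q3725 (allL N3725 (tt N2945 F27984) (tt N3218 F27985) (tt N3725 F27986) (tt N3725 F27987) (tt N4635 D7308) (tt N2939 (iv D5802)) (tt N4636 D7309) (tt N3725 F27988) (tt N3725 F27989) (tt N2980 F27990))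
theorem Q3727 : ∀ i, i < 3727 → P i := stepQ 3726 Q3726 (allL N3726 (tt N3082 F27991) (tt N2946 F27992) (tt N3293 F27997) (tt N2940 (iv D5803)) (tt N3726 F27993) (tt N4469 F33940) (tt N3726 F27994) (tt N3079 (iv F27996)) (tt N3726 F27995) (tt N4637 D7310))
theorem Q3728 : ∀ i, i < 3728 → P i := stepQ 3727 Q3727 (allL N3727 (tt N3025 F27998) (tt N2947 F27999) (tt N3727 F28000) (tt N3079 F28001) (tt N2941 F28002) (tt N4514 (iv F34190)) (tt N3024 (iv F28004)) (tt N2940 (iv D5804)) (tt N3727 F28003) (tt N4638 D7311))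
theorem Q3729 : ∀ i, i < 3729 → P i := stepQ 3728 Q3728 (allL N3728 (tt N4630 (iv F34801)) (tt N2948 F28005) (tt N3728 F28006) (tt N4637 (iv F34849)) (tt N2942 F28007) (tt N4515 (iv F34196)) (tt N3728 F28008) (tt N4638 (iv F34859)) (tt N4639 D7312) (tt N2940 (iv D5805)))
theorem Q3730 : ∀ i, i < 3730 → P i := stepQ 3729 Q3729 (allL N3729 (tt N3015 F28009) (tt N2949 F28010) (tt N3729 F28011) (tt N3729 F28012) (tt N3024 F28013) (tt N3729 F28014) (tt N2941 (iv D5806)) (tt N3729 F28015) (tt N3729 F28016) (tt N4640 D7313))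
theorem Q3731 : ∀ i, i < 3731 → P i := stepQ 3730 Q3730 (allL N3730 (tt N4631 (iv F34808)) (tt N2950 F28017) (tt N3730 F28018) (tt N3730 F28019) (tt N4638 (iv F34857)) (tt N2943 F28020) (tt N4640 (iv F34871)) (tt N2942 F28021) (tt N4641 D7314) (tt N2941 (iv D5807)))
theorem Q3732 : ∀ i, i < 3732 → P i := stepQ 3731 Q3731 (allL N3731 (tt N4632 (iv F34816)) (tt N2951 F28022) (tt N3731 F28023) (tt N3731 F28024) (tt N4639 (iv F34862)) (tt N4642 D7315) (tt N3731 F28025) (tt N4641 (iv F34876)) (tt N2942 (iv D5808)) (tt N3731 F28026))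
theorem Q3733 : ∀ i, i < 3733 → P i := stepQ 3732 Q3732 (allL N3732 (tt N4633 (iv F34822)) (tt N2952 F28027) (tt N3732 F28028) (tt N3732 F28029) (tt N4520 (iv F34220)) (tt N4643 D7316) (tt N3732 F28030) (tt N2944 F28031) (tt N2943 (iv D5809)) (tt N2981 F28032))
theorem Q3734 : ∀ i, i < 3734 → P i := stepQ 3733 Q3733 (allL N3733 (tt N4634 (iv F34829)) (tt N2953 F28033) (tt N3733 F28034) (tt N3733 F28035) (tt N4644 D7317) (tt N2944 (iv D5810)) (tt N4645 D7318) (tt N4643 (iv F34886)) (tt N4642 (iv F34881)) (tt N2982 F28036))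
theorem Q3735 : ∀ i, i < 3735 → P i := stepQ 3734 Q3734 (allL N3734 (tt N4635 (iv F34834)) (tt N2954 F28037) (tt N3734 F28038) (tt N4646 D7319) (tt N2945 (iv D5811)) (tt N4522 (iv F34229)) (tt N4647 D7320) (tt N3734 F28039) (tt N3734 F28040) (tt N2983 F28041))
theorem Q3736 : ∀ i, i < 3736 → P i := stepQ 3735 Q3735 (allL N3735 (tt N4636 (iv F34840)) (tt N2955 F28042) (tt N3735 F28043) (tt N3735 F28044) (tt N4647 (iv F34903)) (tt N4645 (iv F34894)) (tt N2945 (iv D5812)) (tt N4648 D7321) (tt N3735 F28045) (tt N2984 F28046))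
theorem Q3737 : ∀ i, i < 3737 → P i := stepQ 3736 Q3736 (allL N3736 (tt N3226 F28047) (tt N4637 (iv F34847)) (tt N3736 F28048) (tt N2948 F28049) (tt N3736 F28050) (tt N4524 (iv F34238)) (tt N3736 F28051) (tt N4461 (iv F33884)) (tt N4649 D7322) (tt N2946 (iv D5813)))
theorem Q3738 : ∀ i, i < 3738 → P i := stepQ 3737 Q3737 (allL N3737 (tt N3227 F28052) (tt N4638 (iv F34854)) (tt N2957 F28053) (tt N4461 (iv F33881)) (tt N2950 F28054) (tt N4525 (iv F34242)) (tt N4400 (iv F33523)) (tt N2948 F28055) (tt N4650 D7323) (tt N2947 (iv D5814)))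
theorem Q3739 : ∀ i, i < 3739 → P i := stepQ 3738 Q3738 (allL N3738 (tt N3228 F28056) (tt N4639 (iv F34860)) (tt N2958 F28057) (tt N4649 (iv F34914)) (tt N2951 F28058) (tt N4651 D7324) (tt N3738 F28059) (tt N4650 (iv F34921)) (tt N2948 (iv D5815)) (tt N3738 F28060))
theorem Q3740 : ∀ i, i < 3740 → P i := stepQ 3739 Q3739 (allL N3739 (tt N3229 F28061) (tt N4640 (iv F34866)) (tt N2959 F28062) (tt N3739 F28063) (tt N4400 (iv F33521)) (tt N3739 F28064) (tt N2950 F28065) (tt N3739 F28066) (tt N4652 D7325) (tt N2949 (iv D5816)))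
theorem Q3741 : ∀ i, i < 3741 → P i := stepQ 3740 Q3740 (allL N3740 (tt N3230 F28067) (tt N4641 (iv F34873)) (tt N2960 F28068) (tt N3740 F28069) (tt N4650 (iv F34920)) (tt N4653 D7326) (tt N4652 (iv F34929)) (tt N2951 F28070) (tt N2950 (iv D5817)) (tt N3740 F28071))
theorem Q3742 : ∀ i, i < 3742 → P i := stepQ 3741 Q3741 (allL N3741 (tt N3231 F28072) (tt N4642 (iv F34878)) (tt N2961 F28073) (tt N3741 F28074) (tt N4654 D7327) (tt N2951 (iv D5818)) (tt N4655 D7328) (tt N4653 (iv F34935)) (tt N2953 F28075) (tt N3741 F28076))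
theorem Q3743 : ∀ i, i < 3743 → P i := stepQ 3742 Q3742 (allL N3742 (tt N3232 F28077) (tt N4643 (iv F34883)) (tt N2962 F28078) (tt N3742 F28079) (tt N4656 D7329) (tt N2952 (iv D5819)) (tt N4657 D7330) (tt N2953 F28080) (tt N4653 (iv F34936)) (tt N2985 F28081))
theorem Q3744 : ∀ i, i < 3744 → P i := stepQ 3743 Q3743 (allL N3743 (tt N3233 F28082) (tt N4644 (iv F34888)) (tt N2963 F28083) (tt N4658 D7331) (tt N2953 (iv D5820)) (tt N4533 (iv F34277)) (tt N4659 D7332) (tt N4656 (iv F34950)) (tt N4654 (iv F34940)) (tt N2986 F28084))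
theorem Q3745 : ∀ i, i < 3745 → P i := stepQ 3744 Q3744 (allL N3744 (tt N3234 F28085) (tt N4645 (iv F34891)) (tt N2964 F28086) (tt N3744 F28087) (tt N4659 (iv F34962)) (tt N2955 F28088) (tt N2953 (iv D5821)) (tt N4660 D7333) (tt N4655 (iv F34946)) (tt N2987 F28089))
theorem Q3746 : ∀ i, i < 3746 → P i := stepQ 3745 Q3745 (allL N3745 (tt N3235 F28090) (tt N4646 (iv F34896)) (tt N3745 F28091) (tt N2954 (iv D5822)) (tt N3745 F28092) (tt N4535 (iv F34285)) (tt N4661 D7334) (tt N3745 F28093) (tt N3745 F28094) (tt N2988 F28095))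
theorem Q3747 : ∀ i, i < 3747 → P i := stepQ 3746 Q3746 (allL N3746 (tt N3236 F28096) (tt N4647 (iv F34901)) (tt N2965 F28097) (tt N4661 (iv F34971)) (tt N2955 F28098) (tt N4662 D7335) (tt N2954 (iv D5823)) (tt N4663 D7336) (tt N3746 F28099) (tt N2989 F28100))
theorem Q3748 : ∀ i, i < 3748 → P i := stepQ 3747 Q3747 (allL N3747 (tt N3237 F28101) (tt N4648 (iv F34906)) (tt N2966 F28102) (tt N3747 F28103) (tt N4663 (iv F34980)) (tt N4660 (iv F34967)) (tt N3747 F28104) (tt N2955 (iv D5824)) (tt N3747 F28105) (tt N2990 F28106))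
theorem Q3749 : ∀ i, i < 3749 → P i := stepQ 3748 Q3748 (allL N3748 (tt N3238 F28107) (tt N3748 F28108) (tt N4400 (iv F33519)) (tt N3748 F28109) (tt N2959 F28110) (tt N4384 (iv F33421)) (tt N2957 F28111) (tt N3748 F28112) (tt N4664 D7337) (tt N2956 (iv D5825)))
theorem Q3750 : ∀ i, i < 3750 → P i := stepQ 3749 Q3749 (allL N3749 (tt N3239 F28113) (tt N3749 F28114) (tt N4650 (iv F34919)) (tt N3749 F28115) (tt N2960 F28116) (tt N4665 D7338) (tt N4664 (iv F34988)) (tt N2958 F28117) (tt N2957 (iv D5826)) (tt N3749 F28118))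
theorem Q3751 : ∀ i, i < 3751 → P i := stepQ 3750 Q3750 (allL N3750 (tt N3240 F28119) (tt N3750 F28120) (tt N4651 (iv F34924)) (tt N3750 F28121) (tt N4666 D7339) (tt N2958 (iv D5827)) (tt N4667 D7340) (tt N4665 (iv F34994)) (tt N4541 (iv F34318)) (tt N3750 F28122))
theorem Q3752 : ∀ i, i < 3752 → P i := stepQ 3751 Q3751 (allL N3751 (tt N3241 F28123) (tt N3751 F28124) (tt N4652 (iv F34927)) (tt N2967 F28125) (tt N4664 (iv F34987)) (tt N4668 D7341) (tt N2960 F28126) (tt N3751 F28127) (tt N2959 (iv D5828)) (tt N3751 F28128))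
theorem Q3753 : ∀ i, i < 3753 → P i := stepQ 3752 Q3752 (allL N3752 (tt N3242 F28129) (tt N3752 F28130) (tt N4653 (iv F34933)) (tt N2968 F28131) (tt N4669 D7342) (tt N2960 (iv D5829)) (tt N4670 D7343) (tt N2961 F28132) (tt N2962 F28133) (tt N3752 F28134))
theorem Q3754 : ∀ i, i < 3754 → P i := stepQ 3753 Q3753 (allL N3753 (tt N3243 F28135) (tt N3753 F28136) (tt N4654 (iv F34939)) (tt N4671 D7344) (tt N2961 (iv D5830)) (tt N4666 (iv F34998)) (tt N4672 D7345) (tt N4669 (iv F35013)) (tt N2963 F28137) (tt N3753 F28138))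
theorem Q3755 : ∀ i, i < 3755 → P i := stepQ 3754 Q3754 (allL N3754 (tt N3244 F28139) (tt N3754 F28140) (tt N4655 (iv F34943)) (tt N2970 F28141) (tt N4672 (iv F35028)) (tt N3754 F28142) (tt N2961 (iv D5831)) (tt N4673 D7346) (tt N2964 F28143) (tt N3754 F28144))
theorem Q3756 : ∀ i, i < 3756 → P i := stepQ 3755 Q3755 (allL N3755 (tt N3245 F28145) (tt N3755 F28146) (tt N4656 (iv F34949)) (tt N4674 D7347) (tt N2962 (iv D5832)) (tt N4547 (iv F34345)) (tt N4675 D7348) (tt N2963 F28147) (tt N4669 (iv F35014)) (tt N2991 F28148))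
theorem Q3757 : ∀ i, i < 3757 → P i := stepQ 3756 Q3756 (allL N3756 (tt N3246 F28149) (tt N3756 F28150) (tt N4657 (iv F34953)) (tt N2972 F28151) (tt N4675 (iv F35044)) (tt N3756 F28152) (tt N2962 (iv D5833)) (tt N4676 D7349) (tt N4670 (iv F35019)) (tt N2992 F28153))
theorem Q3758 : ∀ i, i < 3758 → P i := stepQ 3757 Q3757 (allL N3757 (tt N3247 F28154) (tt N3757 F28155) (tt N4677 D7350) (tt N2963 (iv D5834)) (tt N2973 F28156) (tt N4549 (iv F34356)) (tt N4678 D7351) (tt N4674 (iv F35040)) (tt N4671 (iv F35024)) (tt N2993 F28157))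
theorem Q3759 : ∀ i, i < 3759 → P i := stepQ 3758 Q3758 (allL N3758 (tt N3248 F28158) (tt N3758 F28159) (tt N4659 (iv F34961)) (tt N4678 (iv F35057)) (tt N2964 F28160) (tt N4679 D7352) (tt N2963 (iv D5835)) (tt N4680 D7353) (tt N4672 (iv F35029)) (tt N2994 F28161))
theorem Q3760 : ∀ i, i < 3760 → P i := stepQ 3759 Q3759 (allL N3759 (tt N3249 F28162) (tt N3759 F28163) (tt N4660 (iv F34965)) (tt N2975 F28164) (tt N4680 (iv F35066)) (tt N2966 F28165) (tt N4676 (iv F35050)) (tt N2964 (iv D5836)) (tt N4673 (iv F35035)) (tt N2995 F28166))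
theorem Q3761 : ∀ i, i < 3761 → P i := stepQ 3760 Q3760 (allL N3760 (tt N3250 F28167) (tt N3760 F28168) (tt N4662 (iv F34976)) (tt N3760 F28169) (tt N4679 (iv F35062)) (tt N2965 (iv D5837)) (tt N4552 (iv F34370)) (tt N4681 D7354) (tt N4682 D7355) (tt N2996 F28170))
theorem Q3762 : ∀ i, i < 3762 → P i := stepQ 3761 Q3761 (allL N3761 (tt N3251 F28171) (tt N3761 F28172) (tt N4663 (iv F34979)) (tt N3761 F28173) (tt N2966 F28174) (tt N4681 (iv F35071)) (tt N3761 F28175) (tt N2965 (iv D5838)) (tt N3761 F28176) (tt N2997 F28177))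
theorem Q3763 : ∀ i, i < 3763 → P i := stepQ 3762 Q3762 (allL N3762 (tt N3252 F28178) (tt N3762 F28179) (tt N3762 F28180) (tt N4668 (iv F35007)) (tt N4683 D7356) (tt N2967 (iv D5839)) (tt N4684 D7357) (tt N3762 F28181) (tt N3762 F28182) (tt N3762 F28183))
theorem Q3764 : ∀ i, i < 3764 → P i := stepQ 3763 Q3763 (allL N3763 (tt N3253 F28184) (tt N3763 F28185) (tt N3763 F28186) (tt N4685 D7358) (tt N2968 (iv D5840)) (tt N3763 F28187) (tt N3508 F133059) (tt N2969 F28188) (tt N2971 F28189) (tt N3763 F28190))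
theorem Q3765 : ∀ i, i < 3765 → P i := stepQ 3764 Q3764 (allL N3764 (tt N3254 F28191) (tt N3764 F28192) (tt N3764 F28193) (tt N4670 (iv F35018)) (tt N3508 F133058) (tt N4684 (iv F35087)) (tt N2968 (iv D5841)) (tt N4686 D7360) (tt N2972 F28194) (tt N3764 F28195))
theorem Q3766 : ∀ i, i < 3766 → P i := stepQ 3765 Q3765 (allL N3765 (tt N3255 F28196) (tt N3765 F28197) (tt N4687 D7361) (tt N2969 (iv D5842)) (tt N4671 (iv F35023)) (tt N3765 F28198) (tt N4688 D7362) (tt N4685 (iv F35093)) (tt N2973 F28199) (tt N3765 F28200))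
theorem Q3767 : ∀ i, i < 3767 → P i := stepQ 3766 Q3766 (allL N3766 (tt N3256 F28201) (tt N3766 F28202) (tt N3766 F28203) (tt N4688 (iv F35115)) (tt N2970 F28204) (tt N4689 D7363) (tt N2969 (iv D5843)) (tt N4690 D7364) (tt N2974 F28205) (tt N3766 F28206))
theorem Q3768 : ∀ i, i < 3768 → P i := stepQ 3767 Q3767 (allL N3767 (tt N3257 F28207) (tt N3767 F28208) (tt N3767 F28209) (tt N4673 (iv F35033)) (tt N4690 (iv F35128)) (tt N3767 F28210) (tt N4686 (iv F35105)) (tt N2970 (iv D5844)) (tt N2975 F28211) (tt N3767 F28212))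
theorem Q3769 : ∀ i, i < 3769 → P i := stepQ 3768 Q3768 (allL N3768 (tt N3258 F28213) (tt N3768 F28214) (tt N4691 D7365) (tt N2971 (iv D5845)) (tt N4674 (iv F35039)) (tt N2976 F28215) (tt N3461 F132113) (tt N2973 F28216) (tt N4685 (iv F35094)) (tt N2998 F28217))
theorem Q3770 : ∀ i, i < 3770 → P i := stepQ 3769 Q3769 (allL N3769 (tt N3259 F28223) (tt N3769 F28224) (tt N3769 F28225) (tt N4676 (iv F35048)) (tt N3509 (iv F132537)) (tt N3769 F28226) (tt N2975 F28227) (tt N2972 (iv D5847)) (tt N4686 (iv F35106)) (tt N2999 F28228))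
theorem Q3771 : ∀ i, i < 3771 → P i := stepQ 3770 Q3770 (allL N3770 (tt N3260 F28229) (tt N4692 D7369) (tt N2973 (iv D5848)) (tt N3770 F28230) (tt N4677 (iv F35053)) (tt N2977 F28231) (tt N4693 D7370) (tt N4691 (iv F35134)) (tt N4687 (iv F35111)) (tt N3000 F28232))
theorem Q3772 : ∀ i, i < 3772 → P i := stepQ 3771 Q3771 (allL N3771 (tt N3261 F28233) (tt N3771 F28234) (tt N4693 (iv F35157)) (tt N2974 F28235) (tt N4678 (iv F35058)) (tt N3771 F28236) (tt N2973 (iv D5849)) (tt N4694 D7371) (tt N4688 (iv F35116)) (tt N3001 F28237))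
theorem Q3773 : ∀ i, i < 3773 → P i := stepQ 3772 Q3772 (allL N3772 (tt N3262 F28238) (tt N3772 F28239) (tt N3772 F28240) (tt N4694 (iv F35163)) (tt N2975 F28241) (tt N3772 F28242) (tt N3509 (iv F132538)) (tt N2974 (iv D5850)) (tt N4690 (iv F35129)) (tt N3002 F28243))
theorem Q3774 : ∀ i, i < 3774 → P i := stepQ 3773 Q3773 (allL N3773 (tt N3225 F131451) (tt N4636 F131452) (tt N2976 (iv D5851)) (tt N3773 F28245) (tt N4568 (iv F34449)) (tt N4691 (iv F35133)) (tt N3218 F131453) (tt N2977 F28246) (tt N3773 F28247) (tt N3003 F28248))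
theorem Q3775 : ∀ i, i < 3775 → P i := stepQ 3774 Q3774 (allL N3774 (tt N4648 F131586) (tt N2977 (iv D5854)) (tt N3774 F28261) (tt N3774 F28262) (tt N4570 (iv F34467)) (tt N4692 (iv F35154)) (tt N3774 F28263) (tt N4636 F131587) (tt N3774 F28264) (tt N3004 F28265))
theorem Q3776 : ∀ i, i < 3776 → P i := stepQ 3775 Q3775 (allL N3775 (tt N2981 F28266) (tt N3263 F28267) (tt N3775 F28268) (tt N3775 F28269) (tt N4573 (iv F34489)) (tt N4695 D7377) (tt N3775 F28270) (tt N2979 F28271) (tt N2978 (iv D5855)) (tt N4633 (iv F34828)))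
theorem Q3777 : ∀ i, i < 3777 → P i := stepQ 3776 Q3776 (allL N3776 (tt N2982 F28272) (tt N3264 F28273) (tt N3776 F28274) (tt N3776 F28275) (tt N4696 D7378) (tt N2979 (iv D5856)) (tt N4697 D7379) (tt N4695 (iv F35198)) (tt N3776 F28276) (tt N4634 (iv F34833)))
theorem Q3778 : ∀ i, i < 3778 → P i := stepQ 3777 Q3777 (allL N3777 (tt N2983 F28277) (tt N3265 F28278) (tt N3777 F28279) (tt N4698 D7380) (tt N2980 (iv D5857)) (tt N4575 (iv F34498)) (tt N4624 F131458) (tt N3777 F28280) (tt N3007 F28281) (tt N4635 (iv F34839)))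
theorem Q3779 : ∀ i, i < 3779 → P i := stepQ 3778 Q3778 (allL N3778 (tt N2984 F28282) (tt N3003 (iv F131096)) (tt N3778 F28284) (tt N3778 F28285) (tt N4624 (iv F131156)) (tt N4697 (iv F35208)) (tt N2980 (iv D5858)) (tt N3004 (iv F131185)) (tt N3005 F130922) (tt N4636 (iv F34845)))
theorem Q3780 : ∀ i, i < 3780 → P i := stepQ 3779 Q3779 (allL N3779 (tt N4695 (iv F35194)) (tt N2985 F28287) (tt N3779 F28288) (tt N3779 F28289) (tt N4699 D7383) (tt N2981 (iv D5859)) (tt N4700 D7384) (tt N2982 F28290) (tt N3779 F28291) (tt N4643 (iv F34887)))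
theorem Q3781 : ∀ i, i < 3781 → P i := stepQ 3780 Q3780 (allL N3780 (tt N4696 (iv F35200)) (tt N2986 F28292) (tt N3780 F28293) (tt N4701 D7385) (tt N2982 (iv D5860)) (tt N4580 (iv F34524)) (tt N4702 D7386) (tt N4699 (iv F35228)) (tt N3780 F28294) (tt N4644 (iv F34890)))
theorem Q3782 : ∀ i, i < 3782 → P i := stepQ 3781 Q3781 (allL N3781 (tt N4697 (iv F35204)) (tt N2987 F28295) (tt N3781 F28296) (tt N3781 F28297) (tt N4702 (iv F35240)) (tt N2984 F28298) (tt N2982 (iv D5861)) (tt N4703 D7387) (tt N3781 F28299) (tt N4645 (iv F34895)))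
theorem Q3783 : ∀ i, i < 3783 → P i := stepQ 3782 Q3782 (allL N3782 (tt N4698 (iv F35210)) (tt N2988 F28300) (tt N4704 D7388) (tt N2983 (iv D5862)) (tt N3782 F28301) (tt N4582 (iv F34529)) (tt N4705 D7389) (tt N3782 F28302) (tt N3008 F28303) (tt N4646 (iv F34900)))
theorem Q3784 : ∀ i, i < 3784 → P i := stepQ 3783 Q3783 (allL N3783 (tt N4624 F131560) (tt N2989 F28304) (tt N3783 F28305) (tt N4705 (iv F35253)) (tt N2984 F28306) (tt N4706 D7390) (tt N2983 (iv D5863)) (tt N4625 F131561) (tt N3009 F28307) (tt N4647 (iv F34905)))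
theorem Q3785 : ∀ i, i < 3785 → P i := stepQ 3784 Q3784 (allL N3784 (tt N3004 (iv F131184)) (tt N2990 F28308) (tt N3784 F28309) (tt N3784 F28310) (tt N4625 (iv F131157)) (tt N4703 (iv F35245)) (tt N3784 F28311) (tt N2984 (iv D5864)) (tt N3006 F130923) (tt N4648 (iv F34911)))
theorem Q3786 : ∀ i, i < 3786 → P i := stepQ 3785 Q3785 (allL N3785 (tt N3270 F28313) (tt N4699 (iv F35226)) (tt N2991 F28314) (tt N4707 D7392) (tt N2985 (iv D5865)) (tt N4588 (iv F34557)) (tt N4708 D7393) (tt N2986 F28315) (tt N3785 F28316) (tt N4656 (iv F34951)))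
theorem Q3787 : ∀ i, i < 3787 → P i := stepQ 3786 Q3786 (allL N3786 (tt N3271 F28317) (tt N4700 (iv F35230)) (tt N2992 F28318) (tt N3786 F28319) (tt N4708 (iv F35269)) (tt N3786 F28320) (tt N2985 (iv D5866)) (tt N4709 D7394) (tt N3786 F28321) (tt N4657 (iv F34956)))
theorem Q3788 : ∀ i, i < 3788 → P i := stepQ 3787 Q3787 (allL N3787 (tt N3272 F28322) (tt N4701 (iv F35235)) (tt N4710 D7395) (tt N2986 (iv D5867)) (tt N3787 F28323) (tt N4590 (iv F34566)) (tt N4711 D7396) (tt N4707 (iv F35265)) (tt N3787 F28324) (tt N4658 (iv F34959)))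
theorem Q3789 : ∀ i, i < 3789 → P i := stepQ 3788 Q3788 (allL N3788 (tt N3273 F28325) (tt N4702 (iv F35238)) (tt N2994 F28326) (tt N4711 (iv F35282)) (tt N2987 F28327) (tt N4712 D7397) (tt N2986 (iv D5868)) (tt N4713 D7398) (tt N3788 F28328) (tt N4659 (iv F34963)))
theorem Q3790 : ∀ i, i < 3790 → P i := stepQ 3789 Q3789 (allL N3789 (tt N3274 F28329) (tt N4703 (iv F35242)) (tt N2995 F28330) (tt N3789 F28331) (tt N4713 (iv F35290)) (tt N2990 F28332) (tt N4709 (iv F35275)) (tt N2987 (iv D5869)) (tt N3789 F28333) (tt N4660 (iv F34968)))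
theorem Q3791 : ∀ i, i < 3791 → P i := stepQ 3790 Q3790 (allL N3790 (tt N3275 F28334) (tt N4705 (iv F35252)) (tt N3790 F28335) (tt N2989 F28336) (tt N3790 F28337) (tt N4714 D7399) (tt N2988 (iv D5870)) (tt N4715 D7400) (tt N3010 F28338) (tt N4661 (iv F34974)))
theorem Q3792 : ∀ i, i < 3792 → P i := stepQ 3791 Q3791 (allL N3791 (tt N3276 F28339) (tt N4706 (iv F35256)) (tt N2996 F28340) (tt N4714 (iv F35294)) (tt N4712 (iv F35287)) (tt N2989 (iv D5871)) (tt N4594 (iv F34579)) (tt N4716 D7401) (tt N4717 D7402) (tt N4662 (iv F34977)))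
theorem Q3793 : ∀ i, i < 3793 → P i := stepQ 3792 Q3792 (allL N3792 (tt N3207 F131432) (tt N4625 F131433) (tt N2997 F28342) (tt N4715 (iv F35297)) (tt N2990 F28343) (tt N4716 (iv F35303)) (tt N3792 F28344) (tt N2989 (iv D5872)) (tt N3012 F28345) (tt N4663 (iv F34983)))
theorem Q3794 : ∀ i, i < 3794 → P i := stepQ 3793 Q3793 (allL N3793 (tt N3277 F28346) (tt N3793 F28347) (tt N4718 D7403) (tt N2991 (iv D5873)) (tt N2998 F28348) (tt N4601 (iv F34614)) (tt N3501 F132154) (tt N2993 F28349) (tt N3793 F28350) (tt N4674 (iv F35041)))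
theorem Q3795 : ∀ i, i < 3795 → P i := stepQ 3794 Q3794 (allL N3794 (tt N3278 F28351) (tt N3794 F28352) (tt N4708 (iv F35268)) (tt N3501 F132153) (tt N2992 F28353) (tt N4719 D7405) (tt N2991 (iv D5874)) (tt N4720 D7406) (tt N3794 F28354) (tt N4675 (iv F35045)))
theorem Q3796 : ∀ i, i < 3796 → P i := stepQ 3795 Q3795 (allL N3795 (tt N3279 F28355) (tt N3795 F28356) (tt N4709 (iv F35272)) (tt N2999 F28357) (tt N4720 (iv F35321)) (tt N3795 F28358) (tt N2995 F28359) (tt N2992 (iv D5875)) (tt N3795 F28360) (tt N4676 (iv F35051)))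
theorem Q3797 : ∀ i, i < 3797 → P i := stepQ 3796 Q3796 (allL N3796 (tt N3280 F28361) (tt N4721 D7407) (tt N2993 (iv D5876)) (tt N4710 (iv F35278)) (tt N3000 F28362) (tt N4604 (iv F34629)) (tt N4722 D7408) (tt N4718 (iv F35309)) (tt N3796 F28363) (tt N4677 (iv F35054)))
theorem Q3798 : ∀ i, i < 3798 → P i := stepQ 3797 Q3797 (allL N3797 (tt N3281 F28364) (tt N3797 F28365) (tt N4722 (iv F35328)) (tt N2994 F28366) (tt N3001 F28367) (tt N4723 D7409) (tt N2993 (iv D5877)) (tt N4724 D7410) (tt N3797 F28368) (tt N4678 (iv F35059)))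
theorem Q3799 : ∀ i, i < 3799 → P i := stepQ 3798 Q3798 (allL N3798 (tt N3282 F28369) (tt N3798 F28370) (tt N4712 (iv F35286)) (tt N4723 (iv F35333)) (tt N2996 F28371) (tt N2994 (iv D5878)) (tt N4606 (iv F34637)) (tt N4725 D7411) (tt N4726 D7412) (tt N4679 (iv F35063)))
theorem Q3800 : ∀ i, i < 3800 → P i := stepQ 3799 Q3799 (allL N3799 (tt N3283 F28372) (tt N3799 F28373) (tt N4713 (iv F35289)) (tt N4724 (iv F35337)) (tt N2995 F28374) (tt N4725 (iv F35343)) (tt N4720 (iv F35322)) (tt N2994 (iv D5879)) (tt N3799 F28375) (tt N4680 (iv F35067)))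
theorem Q3801 : ∀ i, i < 3801 → P i := stepQ 3800 Q3800 (allL N3800 (tt N3284 F28376) (tt N3800 F28377) (tt N4716 (iv F35302)) (tt N3800 F28378) (tt N4725 (iv F35342)) (tt N2997 F28379) (tt N4727 D7413) (tt N2996 (iv D5880)) (tt N4728 D7414) (tt N4681 (iv F35072)))
theorem Q3802 : ∀ i, i < 3802 → P i := stepQ 3801 Q3801 (allL N3801 (tt N3285 F28380) (tt N3801 F28381) (tt N4717 (iv F35305)) (tt N3801 F28382) (tt N4726 (iv F35346)) (tt N3014 F28383) (tt N4609 (iv F34649)) (tt N4728 (iv F35356)) (tt N2996 (iv D5881)) (tt N4729 D7415))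
theorem Q3803 : ∀ i, i < 3803 → P i := stepQ 3802 Q3802 (allL N3802 (tt N3268 F131459) (tt N4697 F131460) (tt N2998 (iv D5882)) (tt N3802 F28385) (tt N4718 (iv F35308)) (tt N3003 F28386) (tt N3264 F131461) (tt N3000 F28387) (tt N3802 F28388) (tt N4691 (iv F35135)))
theorem Q3804 : ∀ i, i < 3804 → P i := stepQ 3803 Q3803 (allL N3803 (tt N4703 F131596) (tt N3000 (iv D5886)) (tt N3803 F28404) (tt N3803 F28405) (tt N4721 (iv F35325)) (tt N3004 F28406) (tt N4730 D7423) (tt N4697 F131597) (tt N3803 F28407) (tt N4692 (iv F35155)))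
theorem Q3805 : ∀ i, i < 3805 → P i := stepQ 3804 Q3804 (allL N3804 (tt N3286 F28408) (tt N4730 (iv F35396)) (tt N3001 F28409) (tt N3804 F28410) (tt N4722 (iv F35329)) (tt N3804 F28411) (tt N3000 (iv D5887)) (tt N4731 D7424) (tt N3804 F28412) (tt N4693 (iv F35160)))
theorem Q3806 : ∀ i, i < 3806 → P i := stepQ 3805 Q3805 (allL N3805 (tt N3287 F28413) (tt N3805 F28414) (tt N4731 (iv F35402)) (tt N3002 F28415) (tt N4724 (iv F35338)) (tt N3805 F28416) (tt N3500 F132150) (tt N3001 (iv D5888)) (tt N3805 F28417) (tt N4694 (iv F35165)))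
theorem Q3807 : ∀ i, i < 3807 → P i := stepQ 3806 Q3806 (allL N3806 (tt N3008 F28473) (tt N3214 F131422) (tt N3289 (iv F131112)) (tt N3007 (iv D5899)) (tt N3806 F28475) (tt N3806 F28476) (tt N3213 F131423) (tt N3806 F28477) (tt N4698 (iv F35214)) (tt N3806 F28478))
theorem Q3808 : ∀ i, i < 3808 → P i := stepQ 3807 Q3807 (allL N3807 (tt N3289 (iv F131111)) (tt N3807 F28491) (tt N3008 (iv D5902)) (tt N3807 F28492) (tt N3807 F28493) (tt N3807 F28494) (tt N3013 (iv F131192)) (tt N3807 F28495) (tt N4704 (iv F35251)) (tt N3807 F28496))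
theorem Q3809 : ∀ i, i < 3809 → P i := stepQ 3808 Q3808 (allL N3808 (tt N3213 (iv F131071)) (tt N3010 F28497) (tt N3013 (iv F131191)) (tt N3009 F28498) (tt N3808 F28499) (tt N3012 F130932) (tt N3008 (iv D5903)) (tt N3011 F130933) (tt N4705 (iv F35255)) (tt N3808 F28500))
theorem Q3810 : ∀ i, i < 3810 → P i := stepQ 3809 Q3809 (allL N3809 (tt N3078 (iv F131039)) (tt N3011 F28501) (tt N3809 F28502) (tt N3012 F130930) (tt N3809 F28503) (tt N3009 (iv D5904)) (tt N3809 F28504) (tt N3010 F130931) (tt N4715 (iv F131190)) (tt N3809 F28505))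
theorem Q3811 : ∀ i, i < 3811 → P i := stepQ 3810 Q3810 (allL N3810 (tt N3288 F28527) (tt N4715 (iv F131189)) (tt N3014 F28528) (tt N4625 F131471) (tt N3810 F28529) (tt N4717 (iv F35306)) (tt N3810 F28530) (tt N4705 (iv F131188)) (tt N3011 (iv D5909)) (tt N4732 D7449))
theorem Q3812 : ∀ i, i < 3812 → P i := stepQ 3811 Q3811 (allL N3811 (tt N3290 F28538) (tt N3811 F28539) (tt N4705 F131608) (tt N3811 F28540) (tt N3811 F28541) (tt N4728 (iv F35355)) (tt N4704 F131609) (tt N3014 F28542) (tt N3013 (iv D5911)) (tt N4733 D7451))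
theorem Q3813 : ∀ i, i < 3813 → P i := stepQ 3812 Q3812 (allL N3812 (tt N3291 F28543) (tt N3812 F28544) (tt N4732 (iv F35533)) (tt N3812 F28545) (tt N3812 F28546) (tt N4729 (iv F35360)) (tt N3812 F28547) (tt N4733 (iv F35547)) (tt N3812 F28548) (tt N3014 (iv D5912)))
theorem Q3814 : ∀ i, i < 3814 → P i := stepQ 3813 Q3813 (allL N3813 (tt N4640 (iv F34865)) (tt N3017 F28549) (tt N3813 F28550) (tt N3813 F28551) (tt N3026 F28552) (tt N3813 F28553) (tt N4631 (iv F34814)) (tt N3813 F28554) (tt N4734 D7452) (tt N3015 (iv D5913)))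
theorem Q3815 : ∀ i, i < 3815 → P i := stepQ 3814 Q3814 (allL N3814 (tt N3220 F28555) (tt N4631 (iv F34809)) (tt N3018 F28556) (tt N3814 F28557) (tt N3029 F28558) (tt N3216 F28559) (tt N3017 F28560) (tt N3215 F28561) (tt N4735 D7453) (tt N3016 (iv D5914)))
theorem Q3816 : ∀ i, i < 3816 → P i := stepQ 3815 Q3815 (allL N3815 (tt N4396 (iv F33488)) (tt N4734 (iv F35549)) (tt N3019 F28562) (tt N3815 F28563) (tt N3030 F28564) (tt N4736 D7454) (tt N4735 (iv F35559)) (tt N3815 F28565) (tt N3017 (iv D5915)) (tt N3815 F28566))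
theorem Q3817 : ∀ i, i < 3817 → P i := stepQ 3816 Q3816 (allL N3816 (tt N3464 F28567) (tt N3816 F28568) (tt N4735 (iv F35556)) (tt N3020 F28569) (tt N3035 F28570) (tt N4737 D7455) (tt N3019 F28571) (tt N3459 F28572) (tt N3018 (iv D5916)) (tt N3816 F28573))
theorem Q3818 : ∀ i, i < 3818 → P i := stepQ 3817 Q3817 (allL N3817 (tt N4397 (iv F33496)) (tt N3817 F28574) (tt N4736 (iv F35562)) (tt N3021 F28575) (tt N4738 D7456) (tt N3019 (iv D5917)) (tt N4739 D7457) (tt N3817 F28576) (tt N3817 F28577) (tt N3817 F28578))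
theorem Q3819 : ∀ i, i < 3819 → P i := stepQ 3818 Q3818 (allL N3818 (tt N3511 F28579) (tt N3818 F28580) (tt N3818 F28581) (tt N4737 (iv F35569)) (tt N4686 F133056) (tt N3020 (iv D5918)) (tt N4690 F133057) (tt N3508 F28582) (tt N3509 F28583) (tt N3818 F28584))
theorem Q3820 : ∀ i, i < 3820 → P i := stepQ 3819 Q3819 (allL N3819 (tt N4398 (iv F33502)) (tt N3819 F28585) (tt N3819 F28586) (tt N4739 (iv F35580)) (tt N3819 F28587) (tt N4690 F133262) (tt N3021 (iv D5919)) (tt N4689 (iv F133876)) (tt N3819 F28588) (tt N3819 F28589))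
theorem Q3821 : ∀ i, i < 3821 → P i := stepQ 3820 Q3820 (allL N3820 (tt N3510 F28590) (tt N3820 F28591) (tt N3820 F28592) (tt N3042 F28593) (tt N4684 (iv F133866)) (tt N3022 (iv D5920)) (tt N4683 (iv F133868)) (tt N3023 F28594) (tt N3820 F28595) (tt N3820 F28596))
theorem Q3822 : ∀ i, i < 3822 → P i := stepQ 3821 Q3821 (allL N3821 (tt N4399 (iv F33509)) (tt N3821 F28597) (tt N3821 F28598) (tt N4740 D7463) (tt N3023 (iv D5921)) (tt N4686 F133260) (tt N3821 F28599) (tt N4684 (iv F133867)) (tt N3821 F28600) (tt N3821 F28601))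
theorem Q3823 : ∀ i, i < 3823 → P i := stepQ 3822 Q3822 (allL N3822 (tt N3026 F28602) (tt N4400 (iv F33518)) (tt N3822 F28603) (tt N3080 F28604) (tt N4640 (iv F34869)) (tt N3045 F28605) (tt N4638 (iv F34858)) (tt N3822 F28606) (tt N4741 D7464) (tt N3024 (iv D5922)))
theorem Q3824 : ∀ i, i < 3824 → P i := stepQ 3823 Q3823 (allL N3823 (tt N4514 (iv F34185)) (tt N3027 F28607) (tt N3823 F28608) (tt N3081 F28609) (tt N4508 (iv F34151)) (tt N3025 (iv D5923)) (tt N3046 F28610) (tt N4507 F34145) (tt N4516 (iv F34204)) (tt N4742 D7465))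
theorem Q3825 : ∀ i, i < 3825 → P i := stepQ 3824 Q3824 (allL N3824 (tt N4638 (iv F34853)) (tt N3029 F28611) (tt N3824 F28612) (tt N3083 F28613) (tt N4631 (iv F34812)) (tt N4742 (iv F35630)) (tt N3026 F28614) (tt N4630 (iv F34807)) (tt N4743 D7466) (tt N3025 (iv D5924)))
theorem Q3826 : ∀ i, i < 3826 → P i := stepQ 3825 Q3825 (allL N3825 (tt N4741 (iv F35622)) (tt N3030 F28615) (tt N3825 F28616) (tt N3084 F28617) (tt N4734 (iv F35552)) (tt N4744 D7467) (tt N4743 (iv F35635)) (tt N3825 F28618) (tt N3026 (iv D5925)) (tt N3825 F28619))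
theorem Q3827 : ∀ i, i < 3827 → P i := stepQ 3826 Q3826 (allL N3826 (tt N3121 F28620) (tt N4508 (iv F34148)) (tt N3031 F28621) (tt N4509 (iv F34158)) (tt N3027 (iv D5926)) (tt N3117 F28622) (tt N3049 F28623) (tt N3116 (iv F28624)) (tt N4418 (iv F33632)) (tt N4745 D7468))
theorem Q3828 : ∀ i, i < 3828 → P i := stepQ 3827 Q3827 (allL N3827 (tt N3120 F28625) (tt N4507 (iv F34140)) (tt N3032 F28626) (tt N3086 F28627) (tt N3116 F28628) (tt N3028 F28629) (tt N4472 (iv F33960)) (tt N3027 (iv D5927)) (tt N4471 F33953) (tt N4746 D7469))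
theorem Q3829 : ∀ i, i < 3829 → P i := stepQ 3828 Q3828 (allL N3828 (tt N4402 (iv F33532)) (tt N4742 (iv F35627)) (tt N3033 F28630) (tt N3088 F28631) (tt N4745 (iv F35645)) (tt N3029 F28632) (tt N3050 F28633) (tt N4746 (iv F35654)) (tt N4747 D7470) (tt N3027 (iv D5928)))
theorem Q3830 : ∀ i, i < 3830 → P i := stepQ 3829 Q3829 (allL N3829 (tt N3219 F28634) (tt N4630 (iv F34802)) (tt N3034 F28635) (tt N3089 F28636) (tt N3215 F28637) (tt N4746 (iv F35653)) (tt N3829 F28638) (tt N3029 F28639) (tt N4748 D7471) (tt N3028 (iv D5929)))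
theorem Q3831 : ∀ i, i < 3831 → P i := stepQ 3830 Q3830 (allL N3830 (tt N4403 (iv F33540)) (tt N4743 (iv F35632)) (tt N3035 F28640) (tt N3090 F28641) (tt N4735 (iv F35558)) (tt N4749 D7472) (tt N3030 F28642) (tt N4748 (iv F35663)) (tt N3029 (iv D5930)) (tt N3830 F28643))
theorem Q3832 : ∀ i, i < 3832 → P i := stepQ 3831 Q3831 (allL N3831 (tt N4404 (iv F33548)) (tt N4744 (iv F35637)) (tt N3036 F28644) (tt N3091 F28645) (tt N4750 D7473) (tt N3030 (iv D5931)) (tt N4751 D7474) (tt N3831 F28646) (tt N3052 F28647) (tt N3831 F28648))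
theorem Q3833 : ∀ i, i < 3833 → P i := stepQ 3832 Q3832 (allL N3832 (tt N3339 F28649) (tt N3832 F28650) (tt N4745 (iv F35644)) (tt N3832 F28651) (tt N3033 F28652) (tt N3335 F28653) (tt N3053 F28654) (tt N3334 F28655) (tt N4752 D7475) (tt N3031 (iv D5932)))
theorem Q3834 : ∀ i, i < 3834 → P i := stepQ 3833 Q3833 (allL N3833 (tt N3338 F28656) (tt N3833 F28657) (tt N4746 (iv F35650)) (tt N3037 F28658) (tt N3334 F28659) (tt N3034 F28660) (tt N4484 (iv F34028)) (tt N3033 F28661) (tt N4753 D7476) (tt N3032 (iv D5933)))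
theorem Q3835 : ∀ i, i < 3835 → P i := stepQ 3834 Q3834 (allL N3834 (tt N4405 (iv F33554)) (tt N3834 F28662) (tt N4747 (iv F35655)) (tt N3038 F28663) (tt N4752 (iv F35679)) (tt N4754 D7477) (tt N3054 F28664) (tt N4753 (iv F35686)) (tt N3033 (iv D5934)) (tt N4542 (iv F34323)))
theorem Q3836 : ∀ i, i < 3836 → P i := stepQ 3835 Q3835 (allL N3835 (tt N3463 F28665) (tt N3835 F28666) (tt N4748 (iv F35659)) (tt N3039 F28667) (tt N3459 F28668) (tt N4755 D7478) (tt N3835 F28669) (tt N3035 F28670) (tt N3034 (iv D5935)) (tt N3835 F28671))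
theorem Q3837 : ∀ i, i < 3837 → P i := stepQ 3836 Q3836 (allL N3836 (tt N4406 (iv F33561)) (tt N3836 F28672) (tt N4749 (iv F35665)) (tt N3040 F28673) (tt N4756 D7479) (tt N3035 (iv D5936)) (tt N4757 D7480) (tt N4755 (iv F35693)) (tt N4754 (iv F35689)) (tt N3836 F28674))
theorem Q3838 : ∀ i, i < 3838 → P i := stepQ 3837 Q3837 (allL N3837 (tt N4407 (iv F33566)) (tt N3837 F28675) (tt N4750 (iv F35668)) (tt N3837 F28676) (tt N3036 (iv D5937)) (tt N4738 (iv F35575)) (tt N4758 D7481) (tt N3837 F28677) (tt N3056 F28678) (tt N3837 F28679))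
theorem Q3839 : ∀ i, i < 3839 → P i := stepQ 3838 Q3838 (allL N3838 (tt N4408 (iv F33571)) (tt N3838 F28680) (tt N4751 (iv F35672)) (tt N3041 F28681) (tt N4758 (iv F35703)) (tt N4757 (iv F35699)) (tt N3036 (iv D5938)) (tt N4759 D7482) (tt N3057 F28682) (tt N3838 F28683))
theorem Q3840 : ∀ i, i < 3840 → P i := stepQ 3839 Q3839 (allL N3839 (tt N4409 (iv F33575)) (tt N3839 F28684) (tt N3106 F28685) (tt N4753 (iv F35684)) (tt N3839 F28686) (tt N4760 D7483) (tt N4494 (iv F34080)) (tt N3038 F28687) (tt N3037 (iv D5939)) (tt N4493 (iv F34075)))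
theorem Q3841 : ∀ i, i < 3841 → P i := stepQ 3840 Q3840 (allL N3840 (tt N4410 (iv F33583)) (tt N3840 F28688) (tt N3108 F28689) (tt N4754 (iv F35688)) (tt N4761 D7484) (tt N3038 (iv D5940)) (tt N4762 D7485) (tt N4760 (iv F35713)) (tt N3040 F28690) (tt N4554 (iv F34382)))
theorem Q3842 : ∀ i, i < 3842 → P i := stepQ 3841 Q3841 (allL N3841 (tt N4411 (iv F33588)) (tt N3841 F28691) (tt N3109 F28692) (tt N4755 (iv F35692)) (tt N4763 D7486) (tt N3039 (iv D5941)) (tt N4764 D7487) (tt N3040 F28693) (tt N4760 (iv F35714)) (tt N3841 F28694))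
theorem Q3843 : ∀ i, i < 3843 → P i := stepQ 3842 Q3842 (allL N3842 (tt N4412 (iv F33594)) (tt N3842 F28695) (tt N3110 F28696) (tt N4765 D7488) (tt N3040 (iv D5942)) (tt N3043 F28697) (tt N4766 D7489) (tt N4763 (iv F35726)) (tt N4761 (iv F35718)) (tt N3842 F28698))
theorem Q3844 : ∀ i, i < 3844 → P i := stepQ 3843 Q3843 (allL N3843 (tt N4413 (iv F33598)) (tt N3843 F28699) (tt N3111 F28700) (tt N4757 (iv F35698)) (tt N4766 (iv F35737)) (tt N3041 F28701) (tt N3040 (iv D5943)) (tt N4767 D7490) (tt N4762 (iv F35722)) (tt N3843 F28702))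
theorem Q3845 : ∀ i, i < 3845 → P i := stepQ 3844 Q3844 (allL N3844 (tt N4414 (iv F33602)) (tt N3844 F28703) (tt N3112 F28704) (tt N4759 (iv F35707)) (tt N3844 F28705) (tt N4767 (iv F35742)) (tt N3844 F28706) (tt N3041 (iv D5944)) (tt N3061 F28707) (tt N3844 F28708))
theorem Q3846 : ∀ i, i < 3846 → P i := stepQ 3845 Q3845 (allL N3845 (tt N4415 (iv F33608)) (tt N3845 F28709) (tt N3113 F28710) (tt N4768 D7491) (tt N3042 (iv D5945)) (tt N4763 (iv F35725)) (tt N4769 D7492) (tt N3043 F28711) (tt N3845 F28712) (tt N3845 F28713))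
theorem Q3847 : ∀ i, i < 3847 → P i := stepQ 3846 Q3846 (allL N3846 (tt N4416 (iv F33614)) (tt N3846 F28714) (tt N3114 F28715) (tt N4683 F134465) (tt N4769 (iv F35750)) (tt N3846 F28716) (tt N3042 (iv D5946)) (tt N3846 F28717) (tt N3846 F28718) (tt N3846 F28719))
theorem Q3848 : ∀ i, i < 3848 → P i := stepQ 3847 Q3847 (allL N3847 (tt N4417 (iv F33622)) (tt N3847 F28720) (tt N4770 D7493) (tt N3043 (iv D5947)) (tt N4740 (iv F35618)) (tt N4765 (iv F35733)) (tt N3847 F28721) (tt N4768 (iv F35745)) (tt N3847 F28722) (tt N3847 F28723))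
theorem Q3849 : ∀ i, i < 3849 → P i := stepQ 3848 Q3848 (allL N3848 (tt N3046 F28724) (tt N4418 (iv F33627)) (tt N3848 F28725) (tt N3116 F28726) (tt N4516 (iv F34201)) (tt N3044 (iv D5948)) (tt N4514 (iv F34191)) (tt N4509 (iv F34162)) (tt N4508 (iv F34154)) (tt N4771 D7494))
theorem Q3850 : ∀ i, i < 3850 → P i := stepQ 3849 Q3849 (allL N3849 (tt N3047 F28727) (tt N4419 (iv F33635)) (tt N3849 F28728) (tt N3118 F28729) (tt N3849 F28730) (tt N4771 (iv F35761)) (tt N3045 F28731) (tt N4571 (iv F34477)) (tt N4772 D7495) (tt N3044 (iv D5949)))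
theorem Q3851 : ∀ i, i < 3851 → P i := stepQ 3850 Q3850 (allL N3850 (tt N3048 F28732) (tt N4420 (iv F33642)) (tt N3850 F28733) (tt N3119 F28734) (tt N3850 F28735) (tt N4773 D7496) (tt N4772 (iv F35766)) (tt N3850 F28736) (tt N3045 (iv D5950)) (tt N3064 F28737))
theorem Q3852 : ∀ i, i < 3852 → P i := stepQ 3851 Q3851 (allL N3851 (tt N4516 (iv F34197)) (tt N3049 F28738) (tt N3851 F28739) (tt N4468 (iv F33928)) (tt N3046 (iv D5951)) (tt N3851 F28740) (tt N4508 (iv F34153)) (tt N4467 F33924) (tt N4514 (iv F34192)) (tt N4774 D7497))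
theorem Q3853 : ∀ i, i < 3853 → P i := stepQ 3852 Q3852 (allL N3852 (tt N4771 (iv F35758)) (tt N3050 F28741) (tt N3852 F28742) (tt N3123 F28743) (tt N4774 (iv F35775)) (tt N3047 F28744) (tt N4742 (iv F35631)) (tt N4518 (iv F34214)) (tt N4775 D7498) (tt N3046 (iv D5952)))
theorem Q3854 : ∀ i, i < 3854 → P i := stepQ 3853 Q3853 (allL N3853 (tt N4772 (iv F35762)) (tt N3051 F28745) (tt N3853 F28746) (tt N3125 F28747) (tt N3853 F28748) (tt N4776 D7499) (tt N3048 F28749) (tt N4577 (iv F34510)) (tt N3047 (iv D5953)) (tt N3065 F28750))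
theorem Q3855 : ∀ i, i < 3855 → P i := stepQ 3854 Q3854 (allL N3854 (tt N4773 (iv F35768)) (tt N3052 F28751) (tt N3854 F28752) (tt N3126 F28753) (tt N4777 D7500) (tt N3048 (iv D5954)) (tt N4778 D7501) (tt N3854 F28754) (tt N4744 (iv F35641)) (tt N3066 F28755))
theorem Q3856 : ∀ i, i < 3856 → P i := stepQ 3855 Q3855 (allL N3855 (tt N4424 (iv F33665)) (tt N4468 (iv F33926)) (tt N3855 F28756) (tt N3049 (iv D5955)) (tt N3127 F28757) (tt N3855 F28758) (tt N4509 (iv F34161)) (tt N4463 (iv F33897)) (tt N4460 (iv F33877)) (tt N4779 D7502))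
theorem Q3857 : ∀ i, i < 3857 → P i := stepQ 3856 Q3856 (allL N3856 (tt N4425 (iv F33673)) (tt N4774 (iv F35773)) (tt N3053 F28759) (tt N4779 (iv F35794)) (tt N3050 F28760) (tt N3856 F28761) (tt N4745 (iv F35647)) (tt N4526 (iv F34248)) (tt N4780 D7503) (tt N3049 (iv D5956)))
theorem Q3858 : ∀ i, i < 3858 → P i := stepQ 3857 Q3857 (allL N3857 (tt N4426 (iv F33680)) (tt N4775 (iv F35777)) (tt N3054 F28762) (tt N3134 F28763) (tt N4780 (iv F35798)) (tt N4781 D7504) (tt N4747 (iv F35657)) (tt N4530 (iv F34265)) (tt N3050 (iv D5957)) (tt N4529 (iv F34261)))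
theorem Q3859 : ∀ i, i < 3859 → P i := stepQ 3858 Q3858 (allL N3858 (tt N4427 (iv F33685)) (tt N4776 (iv F35780)) (tt N3055 F28764) (tt N3136 F28765) (tt N4782 D7505) (tt N3051 (iv D5958)) (tt N4783 D7506) (tt N4585 (iv F34543)) (tt N4781 (iv F35801)) (tt N3067 F28766))
theorem Q3860 : ∀ i, i < 3860 → P i := stepQ 3859 Q3859 (allL N3859 (tt N4428 (iv F33690)) (tt N4777 (iv F35784)) (tt N3056 F28767) (tt N4784 D7507) (tt N3052 (iv D5959)) (tt N3859 F28768) (tt N4785 D7508) (tt N3859 F28769) (tt N4750 (iv F35670)) (tt N3068 F28770))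
theorem Q3861 : ∀ i, i < 3861 → P i := stepQ 3860 Q3860 (allL N3860 (tt N4429 (iv F33695)) (tt N4778 (iv F35789)) (tt N3057 F28771) (tt N3138 F28772) (tt N4785 (iv F35815)) (tt N4783 (iv F35807)) (tt N3052 (iv D5960)) (tt N4786 D7509) (tt N4751 (iv F35674)) (tt N3069 F28773))
theorem Q3862 : ∀ i, i < 3862 → P i := stepQ 3861 Q3861 (allL N3861 (tt N4430 (iv F33699)) (tt N3861 F28774) (tt N4780 (iv F35797)) (tt N3861 F28775) (tt N3054 F28776) (tt N4787 D7510) (tt N4752 (iv F35680)) (tt N4540 (iv F34313)) (tt N3053 (iv D5961)) (tt N4539 (iv F34308)))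
theorem Q3863 : ∀ i, i < 3863 → P i := stepQ 3862 Q3862 (allL N3862 (tt N4431 (iv F33706)) (tt N3862 F28777) (tt N4781 (iv F35799)) (tt N3058 F28778) (tt N4788 D7511) (tt N3054 (iv D5962)) (tt N4789 D7512) (tt N4544 (iv F34333)) (tt N3055 F28779) (tt N4543 (iv F34329)))
theorem Q3864 : ∀ i, i < 3864 → P i := stepQ 3863 Q3863 (allL N3863 (tt N4432 (iv F33712)) (tt N3863 F28780) (tt N4782 (iv F35802)) (tt N4790 D7513) (tt N3055 (iv D5963)) (tt N3863 F28781) (tt N4791 D7514) (tt N4596 (iv F34588)) (tt N4788 (iv F35825)) (tt N3070 F28782))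
theorem Q3865 : ∀ i, i < 3865 → P i := stepQ 3864 Q3864 (allL N3864 (tt N4433 (iv F33717)) (tt N3864 F28783) (tt N4783 (iv F35805)) (tt N3060 F28784) (tt N4791 (iv F35834)) (tt N3057 F28785) (tt N3055 (iv D5964)) (tt N4792 D7515) (tt N4789 (iv F35828)) (tt N3071 F28786))
theorem Q3866 : ∀ i, i < 3866 → P i := stepQ 3865 Q3865 (allL N3865 (tt N4434 (iv F33722)) (tt N3865 F28787) (tt N4785 (iv F35814)) (tt N3865 F28788) (tt N3057 F28789) (tt N4793 D7516) (tt N3056 (iv D5965)) (tt N4794 D7517) (tt N4758 (iv F35704)) (tt N3072 F28790))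
theorem Q3867 : ∀ i, i < 3867 → P i := stepQ 3866 Q3866 (allL N3866 (tt N4435 (iv F33726)) (tt N3866 F28791) (tt N4786 (iv F35817)) (tt N3061 F28792) (tt N4794 (iv F35846)) (tt N4792 (iv F35838)) (tt N3866 F28793) (tt N3057 (iv D5966)) (tt N4759 (iv F35709)) (tt N3073 F28794))
theorem Q3868 : ∀ i, i < 3868 → P i := stepQ 3867 Q3867 (allL N3867 (tt N4436 (iv F33730)) (tt N3867 F28795) (tt N3155 F28796) (tt N4795 D7518) (tt N3058 (iv D5967)) (tt N3867 F28797) (tt N4796 D7519) (tt N4557 (iv F34399)) (tt N3059 F28798) (tt N4555 (iv F34389)))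
theorem Q3869 : ∀ i, i < 3869 → P i := stepQ 3868 Q3868 (allL N3868 (tt N4437 (iv F33737)) (tt N3868 F28799) (tt N3156 F28800) (tt N4789 (iv F35827)) (tt N4796 (iv F35854)) (tt N4762 (iv F35721)) (tt N3058 (iv D5968)) (tt N4797 D7520) (tt N3060 F28801) (tt N4556 (iv F34394)))
theorem Q3870 : ∀ i, i < 3870 → P i := stepQ 3869 Q3869 (allL N3869 (tt N4438 (iv F33742)) (tt N3869 F28802) (tt N4798 D7521) (tt N3059 (iv D5969)) (tt N4790 (iv F35830)) (tt N3062 F28803) (tt N4799 D7522) (tt N4610 (iv F34653)) (tt N4795 (iv F35851)) (tt N3074 F28804))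
theorem Q3871 : ∀ i, i < 3871 → P i := stepQ 3870 Q3870 (allL N3870 (tt N4439 (iv F33747)) (tt N3870 F28805) (tt N3160 F28806) (tt N4799 (iv F35863)) (tt N3060 F28807) (tt N3870 F28808) (tt N3059 (iv D5970)) (tt N4800 D7523) (tt N4796 (iv F35855)) (tt N3075 F28809))
theorem Q3872 : ∀ i, i < 3872 → P i := stepQ 3871 Q3871 (allL N3871 (tt N4440 (iv F33753)) (tt N3871 F28810) (tt N3161 F28811) (tt N4792 (iv F35837)) (tt N4800 (iv F35868)) (tt N3061 F28812) (tt N4612 (iv F34664)) (tt N3060 (iv D5971)) (tt N4797 (iv F35858)) (tt N3076 F28813))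
theorem Q3873 : ∀ i, i < 3873 → P i := stepQ 3872 Q3872 (allL N3872 (tt N4441 (iv F33759)) (tt N4801 D7524) (tt N3062 (iv D5972)) (tt N3164 F28814) (tt N3872 F28815) (tt N4798 (iv F35860)) (tt N3872 F28816) (tt N4626 (iv F34741)) (tt N3872 F28817) (tt N3077 F28818))
theorem Q3874 : ∀ i, i < 3874 → P i := stepQ 3873 Q3873 (allL N3873 (tt N3065 F28819) (tt N4442 (iv F33767)) (tt N3873 F28820) (tt N3168 F28821) (tt N3873 F28822) (tt N4802 D7525) (tt N3064 F28823) (tt N4572 (iv F34484)) (tt N3063 (iv D5973)) (tt N4772 (iv F35767)))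
theorem Q3875 : ∀ i, i < 3875 → P i := stepQ 3874 Q3874 (allL N3874 (tt N3066 F28824) (tt N4443 (iv F33774)) (tt N3874 F28825) (tt N3169 F28826) (tt N4803 D7526) (tt N3064 (iv D5974)) (tt N4804 D7527) (tt N3874 F28827) (tt N3874 F28828) (tt N4773 (iv F35772)))
theorem Q3876 : ∀ i, i < 3876 → P i := stepQ 3875 Q3875 (allL N3875 (tt N4802 (iv F35877)) (tt N3067 F28829) (tt N3875 F28830) (tt N3173 F28831) (tt N4805 D7528) (tt N3065 (iv D5975)) (tt N4806 D7529) (tt N4578 (iv F34515)) (tt N4579 (iv F34521)) (tt N4776 (iv F35783)))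
theorem Q3877 : ∀ i, i < 3877 → P i := stepQ 3876 Q3876 (allL N3876 (tt N4803 (iv F35880)) (tt N3068 F28832) (tt N3876 F28833) (tt N4807 D7530) (tt N3066 (iv D5976)) (tt N3876 F28834) (tt N4808 D7531) (tt N3876 F28835) (tt N3876 F28836) (tt N4777 (iv F35788)))
theorem Q3878 : ∀ i, i < 3878 → P i := stepQ 3877 Q3877 (allL N3877 (tt N4804 (iv F35885)) (tt N3069 F28837) (tt N3877 F28838) (tt N3175 F28839) (tt N4808 (iv F35903)) (tt N4806 (iv F35895)) (tt N3066 (iv D5977)) (tt N4809 D7532) (tt N3877 F28840) (tt N4778 (iv F35792)))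
theorem Q3879 : ∀ i, i < 3879 → P i := stepQ 3878 Q3878 (allL N3878 (tt N4447 (iv F33790)) (tt N4805 (iv F35889)) (tt N3070 F28841) (tt N4810 D7533) (tt N3067 (iv D5978)) (tt N3878 F28842) (tt N4811 D7534) (tt N4586 (iv F34548)) (tt N4588 (iv F34559)) (tt N4782 (iv F35804)))
theorem Q3880 : ∀ i, i < 3880 → P i := stepQ 3879 Q3879 (allL N3879 (tt N4448 (iv F33795)) (tt N4806 (iv F35892)) (tt N3071 F28843) (tt N3180 F28844) (tt N4811 (iv F35913)) (tt N3069 F28845) (tt N3067 (iv D5979)) (tt N4812 D7535) (tt N4589 (iv F34564)) (tt N4783 (iv F35808)))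
theorem Q3881 : ∀ i, i < 3881 → P i := stepQ 3880 Q3880 (allL N3880 (tt N4449 (iv F33800)) (tt N4807 (iv F35896)) (tt N3880 F28846) (tt N3068 (iv D5980)) (tt N3181 F28847) (tt N3880 F28848) (tt N4813 D7536) (tt N3880 F28849) (tt N3880 F28850) (tt N4784 (iv F35813)))
theorem Q3882 : ∀ i, i < 3882 → P i := stepQ 3881 Q3881 (allL N3881 (tt N4450 (iv F33806)) (tt N4808 (iv F35901)) (tt N3072 F28851) (tt N4813 (iv F35918)) (tt N3069 F28852) (tt N4814 D7537) (tt N3068 (iv D5981)) (tt N4815 D7538) (tt N3881 F28853) (tt N4785 (iv F35816)))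
theorem Q3883 : ∀ i, i < 3883 → P i := stepQ 3882 Q3882 (allL N3882 (tt N4451 (iv F33810)) (tt N4809 (iv F35905)) (tt N3073 F28854) (tt N3183 F28855) (tt N4815 (iv F35924)) (tt N4812 (iv F35916)) (tt N3882 F28856) (tt N3069 (iv D5982)) (tt N3882 F28857) (tt N4786 (iv F35820)))
theorem Q3884 : ∀ i, i < 3884 → P i := stepQ 3883 Q3883 (allL N3883 (tt N4452 (iv F33815)) (tt N3883 F28858) (tt N4816 D7539) (tt N3070 (iv D5983)) (tt N3074 F28859) (tt N3883 F28860) (tt N4817 D7540) (tt N4598 (iv F34599)) (tt N4601 (iv F34616)) (tt N4790 (iv F35832)))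
theorem Q3885 : ∀ i, i < 3885 → P i := stepQ 3884 Q3884 (allL N3884 (tt N4453 (iv F33821)) (tt N3884 F28861) (tt N4811 (iv F35912)) (tt N4817 (iv F35930)) (tt N3071 F28862) (tt N4818 D7541) (tt N3070 (iv D5984)) (tt N4819 D7542) (tt N4602 (iv F34620)) (tt N4791 (iv F35835)))
theorem Q3886 : ∀ i, i < 3886 → P i := stepQ 3885 Q3885 (allL N3885 (tt N4454 (iv F33825)) (tt N3885 F28863) (tt N4812 (iv F35914)) (tt N3076 F28864) (tt N4819 (iv F35936)) (tt N3073 F28865) (tt N4600 (iv F34609)) (tt N3071 (iv D5985)) (tt N4603 (iv F34626)) (tt N4792 (iv F35839)))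
theorem Q3887 : ∀ i, i < 3887 → P i := stepQ 3886 Q3886 (allL N3886 (tt N4455 (iv F33831)) (tt N3886 F28866) (tt N4814 (iv F35921)) (tt N3886 F28867) (tt N4818 (iv F35933)) (tt N3072 (iv D5986)) (tt N3886 F28868) (tt N4820 D7543) (tt N4821 D7544) (tt N4793 (iv F35843)))
theorem Q3888 : ∀ i, i < 3888 → P i := stepQ 3887 Q3887 (allL N3887 (tt N4456 (iv F33834)) (tt N3887 F28869) (tt N4815 (iv F35923)) (tt N3887 F28870) (tt N3073 F28871) (tt N4820 (iv F35939)) (tt N3887 F28872) (tt N3072 (iv D5987)) (tt N3887 F28873) (tt N4794 (iv F35848)))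
theorem Q3889 : ∀ i, i < 3889 → P i := stepQ 3888 Q3888 (allL N3888 (tt N4457 (iv F33839)) (tt N4822 D7545) (tt N3074 (iv D5988)) (tt N3202 F28874) (tt N4816 (iv F35927)) (tt N3077 F28875) (tt N4823 D7546) (tt N4613 (iv F34669)) (tt N4617 (iv F34691)) (tt N4798 (iv F35861)))
theorem Q3890 : ∀ i, i < 3890 → P i := stepQ 3889 Q3889 (allL N3889 (tt N4458 (iv F33844)) (tt N3889 F28876) (tt N4823 (iv F35947)) (tt N3075 F28877) (tt N4817 (iv F35931)) (tt N3889 F28878) (tt N3074 (iv D5989)) (tt N4824 D7547) (tt N4618 (iv F34695)) (tt N4799 (iv F35865)))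
theorem Q3891 : ∀ i, i < 3891 → P i := stepQ 3890 Q3890 (allL N3890 (tt N4459 (iv F33849)) (tt N3890 F28879) (tt N3204 F28880) (tt N4824 (iv F35951)) (tt N3076 F28881) (tt N3890 F28882) (tt N4616 (iv F34685)) (tt N3075 (iv D5990)) (tt N4620 (iv F34707)) (tt N4800 (iv F35870)))
theorem Q3892 : ∀ i, i < 3892 → P i := stepQ 3891 Q3891 (allL N3891 (tt N4715 F131364) (tt N3077 (iv D5991)) (tt N3891 F28883) (tt N3207 F28884) (tt N3891 F28885) (tt N4822 (iv F35946)) (tt N3891 F28886) (tt N3275 F131365) (tt N3078 F28887) (tt N4801 (iv F35876)))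
theorem Q3893 : ∀ i, i < 3893 → P i := stepQ 3892 Q3892 (allL N3892 (tt N3081 F28893) (tt N4460 (iv F33871)) (tt N3292 F28894) (tt N4514 (iv F34188)) (tt N4472 (iv F33958)) (tt N3079 (iv D5993)) (tt N3116 F28895) (tt N4469 (iv F33939)) (tt N4468 (iv F33932)) (tt N4825 D7549))
theorem Q3894 : ∀ i, i < 3894 → P i := stepQ 3893 Q3893 (allL N3893 (tt N3083 F28896) (tt N4461 (iv F33879)) (tt N3294 F28897) (tt N4638 (iv F34856)) (tt N3893 F28898) (tt N4825 (iv F35960)) (tt N3080 F28899) (tt N4637 (iv F34852)) (tt N4826 D7550) (tt N3079 (iv D5994)))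
theorem Q3895 : ∀ i, i < 3895 → P i := stepQ 3894 Q3894 (allL N3894 (tt N3084 F28900) (tt N4462 (iv F33886)) (tt N3295 F28901) (tt N4741 (iv F35624)) (tt N3894 F28902) (tt N4827 D7551) (tt N4826 (iv F35965)) (tt N3894 F28903) (tt N3080 (iv D5995)) (tt N3894 F28904))
theorem Q3896 : ∀ i, i < 3896 → P i := stepQ 3895 Q3895 (allL N3895 (tt N4472 (iv F33954)) (tt N3085 F28905) (tt N3096 F28906) (tt N4471 (iv F33949)) (tt N3081 (iv D5996)) (tt N3895 F28907) (tt N3120 F28908) (tt N3087 (iv F28909)) (tt N3086 F28910) (tt N4828 D7552))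
theorem Q3897 : ∀ i, i < 3897 → P i := stepQ 3896 Q3896 (allL N3896 (tt N4469 (iv F33933)) (tt N3086 F28911) (tt N3093 F28912) (tt N4507 (iv F34142)) (tt N3087 F28913) (tt N3082 F28914) (tt N3129 F28915) (tt N3081 (iv D5997)) (tt N3085 (iv F28916)) (tt N4829 D7553))
theorem Q3898 : ∀ i, i < 3898 → P i := stepQ 3897 Q3897 (allL N3897 (tt N4468 (iv F33925)) (tt N3087 F28917) (tt N3092 F28918) (tt N4516 (iv F34200)) (tt N3086 F28919) (tt N3897 F28920) (tt N3122 F28921) (tt N3085 F28922) (tt N3081 (iv D5998)) (tt N4830 D7554))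
theorem Q3899 : ∀ i, i < 3899 → P i := stepQ 3898 Q3898 (allL N3898 (tt N4825 (iv F35958)) (tt N3088 F28923) (tt N3296 F28924) (tt N4742 (iv F35629)) (tt N4828 (iv F35974)) (tt N3083 F28925) (tt N3123 F28926) (tt N4829 (iv F35983)) (tt N4831 D7555) (tt N3081 (iv D5999)))
theorem Q3900 : ∀ i, i < 3900 → P i := stepQ 3899 Q3899 (allL N3899 (tt N4637 (iv F34846)) (tt N3089 F28927) (tt N3297 F28928) (tt N4630 (iv F34804)) (tt N3899 F28929) (tt N4829 (iv F35981)) (tt N3899 F28930) (tt N3083 F28931) (tt N4832 D7556) (tt N3082 (iv D6000)))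
theorem Q3901 : ∀ i, i < 3901 → P i := stepQ 3900 Q3900 (allL N3900 (tt N4826 (iv F35962)) (tt N3090 F28932) (tt N3298 F28933) (tt N4743 (iv F35634)) (tt N3900 F28934) (tt N4833 D7557) (tt N3084 F28935) (tt N4832 (iv F35997)) (tt N3083 (iv D6001)) (tt N3900 F28936))
theorem Q3902 : ∀ i, i < 3902 → P i := stepQ 3901 Q3901 (allL N3901 (tt N4827 (iv F35967)) (tt N3091 F28937) (tt N3299 F28938) (tt N4744 (iv F35639)) (tt N4834 D7558) (tt N3084 (iv D6002)) (tt N4835 D7559) (tt N3901 F28939) (tt N3126 F28940) (tt N3901 F28941))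
theorem Q3903 : ∀ i, i < 3903 → P i := stepQ 3902 Q3902 (allL N3902 (tt N4467 (iv F33917)) (tt N4471 (iv F33947)) (tt N3902 F28942) (tt N3085 (iv D6003)) (tt N4509 (iv F34159)) (tt N3902 F28943) (tt N3127 F28944) (tt N4516 (iv F34203)) (tt N4507 F34146) (tt N4836 D7560))
theorem Q3904 : ∀ i, i < 3904 → P i := stepQ 3903 Q3903 (allL N3903 (tt N4470 (iv F33941)) (tt N4828 (iv F35972)) (tt N3094 F28945) (tt N4836 (iv F36013)) (tt N3088 F28946) (tt N3903 F28947) (tt N3130 F28948) (tt N4830 (iv F35989)) (tt N4837 D7561) (tt N3085 (iv D6004)))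
theorem Q3905 : ∀ i, i < 3905 → P i := stepQ 3904 Q3904 (allL N3904 (tt N4471 (iv F33946)) (tt N3129 F28949) (tt N3095 F28950) (tt N4472 (iv F33957)) (tt N3122 F28951) (tt N3904 F28952) (tt N3086 (iv D6005)) (tt N3131 F28953) (tt N3120 F28954) (tt N4838 D7562))
theorem Q3906 : ∀ i, i < 3906 → P i := stepQ 3905 Q3905 (allL N3905 (tt N4473 (iv F33962)) (tt N4829 (iv F35978)) (tt N3097 F28955) (tt N4746 (iv F35651)) (tt N4830 (iv F35986)) (tt N3089 F28956) (tt N4838 (iv F36023)) (tt N3088 F28957) (tt N4839 D7563) (tt N3086 (iv D6006)))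
theorem Q3907 : ∀ i, i < 3907 → P i := stepQ 3906 Q3906 (allL N3906 (tt N4474 (iv F33968)) (tt N4830 (iv F35984)) (tt N3098 F28958) (tt N4528 (iv F34254)) (tt N4829 (iv F35980)) (tt N3906 F28959) (tt N3133 F28960) (tt N4828 (iv F35977)) (tt N4840 D7564) (tt N3087 (iv D6007)))
theorem Q3908 : ∀ i, i < 3908 → P i := stepQ 3907 Q3907 (allL N3907 (tt N4475 (iv F33973)) (tt N4831 (iv F35990)) (tt N3099 F28961) (tt N4747 (iv F35656)) (tt N4837 (iv F36017)) (tt N4841 D7565) (tt N3134 F28962) (tt N4839 (iv F36026)) (tt N3088 (iv D6008)) (tt N4840 (iv F36029)))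
theorem Q3909 : ∀ i, i < 3909 → P i := stepQ 3908 Q3908 (allL N3908 (tt N4476 (iv F33976)) (tt N4832 (iv F35993)) (tt N3100 F28963) (tt N4748 (iv F35660)) (tt N3908 F28964) (tt N4842 D7566) (tt N3908 F28965) (tt N3090 F28966) (tt N3089 (iv D6009)) (tt N3908 F28967))
theorem Q3910 : ∀ i, i < 3910 → P i := stepQ 3909 Q3909 (allL N3909 (tt N4477 (iv F33984)) (tt N4833 (iv F35999)) (tt N3101 F28968) (tt N4749 (iv F35666)) (tt N4843 D7567) (tt N3090 (iv D6010)) (tt N4844 D7568) (tt N4842 (iv F36033)) (tt N4841 (iv F36031)) (tt N3909 F28969))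
theorem Q3911 : ∀ i, i < 3911 → P i := stepQ 3910 Q3910 (allL N3910 (tt N4478 (iv F33987)) (tt N4834 (iv F36002)) (tt N3102 F28970) (tt N4845 D7569) (tt N3091 (iv D6011)) (tt N3910 F28971) (tt N4846 D7570) (tt N3910 F28972) (tt N3137 F28973) (tt N3910 F28974))
theorem Q3912 : ∀ i, i < 3912 → P i := stepQ 3911 Q3911 (allL N3911 (tt N4479 (iv F33993)) (tt N4835 (iv F36008)) (tt N3103 F28975) (tt N4751 (iv F35673)) (tt N4846 (iv F36047)) (tt N4844 (iv F36039)) (tt N3091 (iv D6012)) (tt N4847 D7571) (tt N3138 F28976) (tt N3911 F28977))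
theorem Q3913 : ∀ i, i < 3913 → P i := stepQ 3912 Q3912 (allL N3912 (tt N4480 (iv F33997)) (tt N3302 F28978) (tt N4830 (iv F35985)) (tt N3912 F28979) (tt N3097 F28980) (tt N3912 F28981) (tt N3340 F28982) (tt N3094 F28983) (tt N4848 D7572) (tt N3092 (iv D6013)))
theorem Q3914 : ∀ i, i < 3914 → P i := stepQ 3913 Q3913 (allL N3913 (tt N4481 (iv F34004)) (tt N3301 F28984) (tt N4829 (iv F35979)) (tt N3913 F28985) (tt N3098 F28986) (tt N3297 F28987) (tt N3141 F28988) (tt N3296 F28989) (tt N4849 D7573) (tt N3093 (iv D6014)))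
theorem Q3915 : ∀ i, i < 3915 → P i := stepQ 3914 Q3914 (allL N3914 (tt N4482 (iv F34011)) (tt N3308 F28990) (tt N4837 (iv F36016)) (tt N3914 F28991) (tt N3099 F28992) (tt N4850 D7574) (tt N3142 F28993) (tt N4848 (iv F36058)) (tt N3094 (iv D6015)) (tt N4849 (iv F36065)))
theorem Q3916 : ∀ i, i < 3916 → P i := stepQ 3915 Q3915 (allL N3915 (tt N4483 (iv F34016)) (tt N3309 F28994) (tt N4838 (iv F36020)) (tt N3104 F28995) (tt N3340 F28996) (tt N3915 F28997) (tt N3097 F28998) (tt N3143 F28999) (tt N4851 D7575) (tt N3095 (iv D6016)))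
theorem Q3917 : ∀ i, i < 3917 → P i := stepQ 3916 Q3916 (allL N3916 (tt N4484 (iv F34023)) (tt N3300 F29000) (tt N4828 (iv F35973)) (tt N3105 F29001) (tt N3296 F29002) (tt N3916 F29003) (tt N3338 F29004) (tt N3098 F29005) (tt N4852 D7576) (tt N3096 (iv D6017)))
theorem Q3918 : ∀ i, i < 3918 → P i := stepQ 3917 Q3917 (allL N3917 (tt N4485 (iv F34030)) (tt N3310 F29006) (tt N4839 (iv F36025)) (tt N3106 F29007) (tt N4848 (iv F36056)) (tt N4853 D7577) (tt N4851 (iv F36072)) (tt N3099 F29008) (tt N3097 (iv D6018)) (tt N4852 (iv F36080)))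
theorem Q3919 : ∀ i, i < 3919 → P i := stepQ 3918 Q3918 (allL N3918 (tt N4486 (iv F34034)) (tt N3311 F29009) (tt N4840 (iv F36027)) (tt N3107 F29010) (tt N4849 (iv F36062)) (tt N4854 D7578) (tt N3145 F29011) (tt N4852 (iv F36079)) (tt N3098 (iv D6019)) (tt N3099 F29012))
theorem Q3920 : ∀ i, i < 3920 → P i := stepQ 3919 Q3919 (allL N3919 (tt N4487 (iv F34039)) (tt N3312 F29013) (tt N4841 (iv F36030)) (tt N3108 F29014) (tt N4855 D7579) (tt N3099 (iv D6020)) (tt N4856 D7580) (tt N4853 (iv F36083)) (tt N3101 F29015) (tt N4854 (iv F36088)))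
theorem Q3921 : ∀ i, i < 3921 → P i := stepQ 3920 Q3920 (allL N3920 (tt N4488 (iv F34043)) (tt N3313 F29016) (tt N4842 (iv F36032)) (tt N3109 F29017) (tt N4857 D7581) (tt N3100 (iv D6021)) (tt N4858 D7582) (tt N3101 F29018) (tt N4853 (iv F36084)) (tt N3920 F29019))
theorem Q3922 : ∀ i, i < 3922 → P i := stepQ 3921 Q3921 (allL N3921 (tt N4489 (iv F34048)) (tt N3314 F29020) (tt N4843 (iv F36035)) (tt N4859 D7583) (tt N3101 (iv D6022)) (tt N3921 F29021) (tt N4860 D7584) (tt N4857 (iv F36097)) (tt N4855 (iv F36090)) (tt N3921 F29022))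
theorem Q3923 : ∀ i, i < 3923 → P i := stepQ 3922 Q3922 (allL N3922 (tt N4490 (iv F34052)) (tt N3315 F29023) (tt N4844 (iv F36038)) (tt N3111 F29024) (tt N4860 (iv F36108)) (tt N3103 F29025) (tt N3101 (iv D6023)) (tt N4861 D7585) (tt N4856 (iv F36094)) (tt N3922 F29026))
theorem Q3924 : ∀ i, i < 3924 → P i := stepQ 3923 Q3923 (allL N3923 (tt N4491 (iv F34057)) (tt N3316 F29027) (tt N4846 (iv F36046)) (tt N3923 F29028) (tt N3103 F29029) (tt N4862 D7586) (tt N3102 (iv D6024)) (tt N4863 D7587) (tt N3150 F29030) (tt N3923 F29031))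
theorem Q3925 : ∀ i, i < 3925 → P i := stepQ 3924 Q3924 (allL N3924 (tt N4492 (iv F34063)) (tt N3317 F29032) (tt N4847 (iv F36050)) (tt N3112 F29033) (tt N4863 (iv F36120)) (tt N4861 (iv F36112)) (tt N3924 F29034) (tt N3103 (iv D6025)) (tt N3151 F29035) (tt N3924 F29036))
theorem Q3926 : ∀ i, i < 3926 → P i := stepQ 3925 Q3925 (allL N3925 (tt N4493 (iv F34069)) (tt N3319 F29037) (tt N4494 (iv F34078)) (tt N4851 (iv F36070)) (tt N3925 F29038) (tt N4864 D7588) (tt N3106 F29039) (tt N3152 F29040) (tt N3104 (iv D6026)) (tt N4409 (iv F33582)))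
theorem Q3927 : ∀ i, i < 3927 → P i := stepQ 3926 Q3926 (allL N3926 (tt N4494 (iv F34076)) (tt N3320 F29041) (tt N4493 (iv F34071)) (tt N4852 (iv F36076)) (tt N3926 F29042) (tt N4865 D7589) (tt N4409 (iv F33580)) (tt N3107 F29043) (tt N3105 (iv D6027)) (tt N3106 F29044))
theorem Q3928 : ∀ i, i < 3928 → P i := stepQ 3927 Q3927 (allL N3927 (tt N4495 (iv F34083)) (tt N3321 F29045) (tt N4760 (iv F35712)) (tt N4853 (iv F36082)) (tt N4866 D7590) (tt N3106 (iv D6028)) (tt N4867 D7591) (tt N3108 F29046) (tt N3109 F29047) (tt N4865 (iv F36130)))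
theorem Q3929 : ∀ i, i < 3929 → P i := stepQ 3928 Q3928 (allL N3928 (tt N4496 (iv F34087)) (tt N3322 F29048) (tt N4554 (iv F34380)) (tt N4854 (iv F36086)) (tt N4868 D7592) (tt N3107 (iv D6029)) (tt N4869 D7593) (tt N4865 (iv F36128)) (tt N3928 F29049) (tt N3108 F29050))
theorem Q3930 : ∀ i, i < 3930 → P i := stepQ 3929 Q3929 (allL N3929 (tt N4497 (iv F34092)) (tt N3323 F29051) (tt N4761 (iv F35716)) (tt N4870 D7594) (tt N3108 (iv D6030)) (tt N3929 F29052) (tt N4871 D7595) (tt N4866 (iv F36133)) (tt N3110 F29053) (tt N4868 (iv F36140)))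
theorem Q3931 : ∀ i, i < 3931 → P i := stepQ 3930 Q3930 (allL N3930 (tt N4498 (iv F34096)) (tt N3324 F29054) (tt N4762 (iv F35720)) (tt N4856 (iv F36092)) (tt N4871 (iv F36149)) (tt N3156 F29055) (tt N3108 (iv D6031)) (tt N4872 D7596) (tt N3111 F29056) (tt N4869 (iv F36144)))
theorem Q3932 : ∀ i, i < 3932 → P i := stepQ 3931 Q3931 (allL N3931 (tt N4499 (iv F34100)) (tt N3325 F29057) (tt N4763 (iv F35724)) (tt N4873 D7597) (tt N3109 (iv D6032)) (tt N3113 F29058) (tt N4874 D7598) (tt N3110 F29059) (tt N4866 (iv F36134)) (tt N3931 F29060))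
theorem Q3933 : ∀ i, i < 3933 → P i := stepQ 3932 Q3932 (allL N3932 (tt N4500 (iv F34105)) (tt N3326 F29061) (tt N4764 (iv F35729)) (tt N4858 (iv F36100)) (tt N4874 (iv F36159)) (tt N3932 F29062) (tt N3109 (iv D6033)) (tt N4875 D7599) (tt N4867 (iv F36136)) (tt N3932 F29063))
theorem Q3934 : ∀ i, i < 3934 → P i := stepQ 3933 Q3933 (allL N3933 (tt N4501 (iv F34109)) (tt N3327 F29064) (tt N4876 D7600) (tt N3110 (iv D6034)) (tt N4859 (iv F36104)) (tt N3115 F29065) (tt N4877 D7601) (tt N4873 (iv F36156)) (tt N4870 (iv F36147)) (tt N3933 F29066))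
theorem Q3935 : ∀ i, i < 3935 → P i := stepQ 3934 Q3934 (allL N3934 (tt N4502 (iv F34113)) (tt N3328 F29067) (tt N4766 (iv F35736)) (tt N4877 (iv F36168)) (tt N3111 F29068) (tt N3934 F29069) (tt N3110 (iv D6035)) (tt N4878 D7602) (tt N4871 (iv F36150)) (tt N3934 F29070))
theorem Q3936 : ∀ i, i < 3936 → P i := stepQ 3935 Q3935 (allL N3935 (tt N4503 (iv F34118)) (tt N3329 F29071) (tt N4767 (iv F35741)) (tt N4861 (iv F36111)) (tt N4878 (iv F36172)) (tt N3112 F29072) (tt N4875 (iv F36163)) (tt N3111 (iv D6036)) (tt N4872 (iv F36153)) (tt N3935 F29073))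
theorem Q3937 : ∀ i, i < 3937 → P i := stepQ 3936 Q3936 (allL N3936 (tt N4504 (iv F34122)) (tt N3330 F29074) (tt N4879 D7603) (tt N3113 (iv D6037)) (tt N3936 F29075) (tt N4873 (iv F36155)) (tt N4880 D7604) (tt N3115 F29076) (tt N3936 F29077) (tt N3936 F29078))
theorem Q3938 : ∀ i, i < 3938 → P i := stepQ 3937 Q3937 (allL N3937 (tt N4505 (iv F34128)) (tt N3331 F29079) (tt N4769 (iv F35749)) (tt N4880 (iv F36180)) (tt N3114 F29080) (tt N4881 D7605) (tt N3113 (iv D6038)) (tt N3937 F29081) (tt N3937 F29082) (tt N3937 F29083))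
theorem Q3939 : ∀ i, i < 3939 → P i := stepQ 3938 Q3938 (allL N3938 (tt N4506 (iv F34134)) (tt N4882 D7606) (tt N3115 (iv D6039)) (tt N4770 (iv F35754)) (tt N3938 F29084) (tt N4876 (iv F36165)) (tt N3938 F29085) (tt N4879 (iv F36176)) (tt N3938 F29086) (tt N3938 F29087))
theorem Q3940 : ∀ i, i < 3940 → P i := stepQ 3939 Q3939 (allL N3939 (tt N3122 F29088) (tt N4509 (iv F34156)) (tt N3333 F29089) (tt N4508 (iv F34150)) (tt N4471 (iv F33950)) (tt N3165 F29090) (tt N4468 (iv F33931)) (tt N4418 (iv F33631)) (tt N3116 (iv D6040)) (tt N4883 D7607))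
theorem Q3941 : ∀ i, i < 3941 → P i := stepQ 3940 Q3940 (allL N3940 (tt N3123 F29091) (tt N4510 (iv F34164)) (tt N3334 F29092) (tt N4771 (iv F35760)) (tt N4746 (iv F35652)) (tt N3118 F29093) (tt N4825 (iv F35961)) (tt N4745 (iv F35648)) (tt N4884 D7608) (tt N3116 (iv D6041)))
theorem Q3942 : ∀ i, i < 3942 → P i := stepQ 3941 Q3941 (allL N3941 (tt N3124 F29094) (tt N4511 (iv F34168)) (tt N3335 F29095) (tt N4571 (iv F34474)) (tt N3216 F29096) (tt N4745 (iv F35646)) (tt N3941 F29097) (tt N3118 F29098) (tt N4885 D7609) (tt N3117 (iv D6042)))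
theorem Q3943 : ∀ i, i < 3943 → P i := stepQ 3942 Q3942 (allL N3942 (tt N3125 F29099) (tt N4512 (iv F34175)) (tt N3336 F29100) (tt N4772 (iv F35764)) (tt N3217 F29101) (tt N4886 D7610) (tt N3119 F29102) (tt N4885 (iv F36203)) (tt N3118 (iv D6043)) (tt N3168 F29103))
theorem Q3944 : ∀ i, i < 3944 → P i := stepQ 3943 Q3943 (allL N3943 (tt N3126 F29104) (tt N4513 (iv F34181)) (tt N3337 F29105) (tt N4773 (iv F35770)) (tt N4887 D7611) (tt N3119 (iv D6044)) (tt N4888 D7612) (tt N3943 F29106) (tt N4827 (iv F35970)) (tt N3169 F29107))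
theorem Q3945 : ∀ i, i < 3945 → P i := stepQ 3944 Q3944 (allL N3944 (tt N4746 (iv F35649)) (tt N3130 F29108) (tt N3338 F29109) (tt N4473 (iv F33965)) (tt N3123 F29110) (tt N3219 F29111) (tt N4828 (iv F35976)) (tt N4402 (iv F33539)) (tt N4889 D7613) (tt N3120 (iv D6045)))
theorem Q3946 : ∀ i, i < 3946 → P i := stepQ 3945 Q3945 (allL N3945 (tt N4745 (iv F35643)) (tt N3132 F29112) (tt N3339 F29113) (tt N4518 (iv F34212)) (tt N4402 (iv F33536)) (tt N3124 F29114) (tt N4425 (iv F33678)) (tt N3123 F29115) (tt N4890 D7614) (tt N3121 (iv D6046)))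
theorem Q3947 : ∀ i, i < 3947 → P i := stepQ 3946 Q3946 (allL N3946 (tt N4883 (iv F36194)) (tt N3133 F29116) (tt N3340 F29117) (tt N4517 (iv F34207)) (tt N4838 (iv F36021)) (tt N3170 F29118) (tt N4830 (iv F35988)) (tt N4421 (iv F33653)) (tt N4891 D7615) (tt N3122 (iv D6047)))
theorem Q3948 : ∀ i, i < 3948 → P i := stepQ 3947 Q3947 (allL N3947 (tt N4884 (iv F36197)) (tt N3134 F29119) (tt N3341 F29120) (tt N4775 (iv F35779)) (tt N4889 (iv F36218)) (tt N4892 D7616) (tt N4831 (iv F35992)) (tt N4890 (iv F36221)) (tt N3123 (iv D6048)) (tt N4891 (iv F36224)))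
theorem Q3949 : ∀ i, i < 3949 → P i := stepQ 3948 Q3948 (allL N3948 (tt N4885 (iv F36199)) (tt N3135 F29121) (tt N3342 F29122) (tt N4577 (iv F34507)) (tt N3222 F29123) (tt N4893 D7617) (tt N3948 F29124) (tt N3125 F29125) (tt N3124 (iv D6049)) (tt N3172 F29126))
theorem Q3950 : ∀ i, i < 3950 → P i := stepQ 3949 Q3949 (allL N3949 (tt N4886 (iv F36205)) (tt N3136 F29127) (tt N3343 F29128) (tt N4776 (iv F35782)) (tt N4894 D7618) (tt N3125 (iv D6050)) (tt N4895 D7619) (tt N4893 (iv F36230)) (tt N4892 (iv F36227)) (tt N3173 F29129))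
theorem Q3951 : ∀ i, i < 3951 → P i := stepQ 3950 Q3950 (allL N3950 (tt N4887 (iv F36208)) (tt N3137 F29130) (tt N3344 F29131) (tt N4896 D7620) (tt N3126 (iv D6051)) (tt N3224 F29132) (tt N4897 D7621) (tt N3950 F29133) (tt N4834 (iv F36006)) (tt N3174 F29134))
theorem Q3952 : ∀ i, i < 3952 → P i := stepQ 3951 Q3951 (allL N3951 (tt N4888 (iv F36213)) (tt N3138 F29135) (tt N3345 F29136) (tt N4778 (iv F35791)) (tt N4897 (iv F36246)) (tt N4895 (iv F36238)) (tt N3126 (iv D6052)) (tt N4898 D7622) (tt N4835 (iv F36010)) (tt N3175 F29137))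
theorem Q3953 : ∀ i, i < 3953 → P i := stepQ 3952 Q3952 (allL N3952 (tt N4463 (iv F33891)) (tt N4472 (iv F33955)) (tt N3952 F29138) (tt N3129 F29139) (tt N4460 F33876) (tt N3952 F29140) (tt N4507 (iv F34144)) (tt N4424 (iv F33671)) (tt N3127 (iv D6053)) (tt N4899 D7623))
theorem Q3954 : ∀ i, i < 3954 → P i := stepQ 3953 Q3953 (allL N3953 (tt N4524 (iv F34235)) (tt N4473 (iv F33963)) (tt N3953 F29141) (tt N3130 F29142) (tt N4779 (iv F35795)) (tt N3226 F29143) (tt N4836 (iv F36015)) (tt N4464 (iv F33904)) (tt N4900 D7624) (tt N3127 (iv D6054)))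
theorem Q3955 : ∀ i, i < 3955 → P i := stepQ 3954 Q3954 (allL N3954 (tt N4525 (iv F34239)) (tt N4402 (iv F33533)) (tt N3140 F29144) (tt N4464 (iv F33901)) (tt N3132 F29145) (tt N3227 F29146) (tt N4421 (iv F33652)) (tt N3130 F29147) (tt N4901 D7625) (tt N3128 (iv D6055)))
theorem Q3956 : ∀ i, i < 3956 → P i := stepQ 3955 Q3955 (allL N3955 (tt N4526 (iv F34244)) (tt N4838 (iv F36019)) (tt N3141 F29148) (tt N4899 (iv F36253)) (tt N3133 F29149) (tt N3955 F29150) (tt N4829 (iv F35982)) (tt N4425 (iv F33679)) (tt N4902 D7626) (tt N3129 (iv D6056)))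
theorem Q3957 : ∀ i, i < 3957 → P i := stepQ 3956 Q3956 (allL N3956 (tt N4527 (iv F34249)) (tt N4889 (iv F36216)) (tt N3142 F29151) (tt N4900 (iv F36256)) (tt N3134 F29152) (tt N4903 D7627) (tt N4837 (iv F36018)) (tt N4901 (iv F36259)) (tt N3130 (iv D6057)) (tt N4902 (iv F36262)))
theorem Q3958 : ∀ i, i < 3958 → P i := stepQ 3957 Q3957 (allL N3957 (tt N4528 (iv F34252)) (tt N4425 (iv F33674)) (tt N3143 F29153) (tt N4474 (iv F33970)) (tt N4421 (iv F33650)) (tt N3957 F29154) (tt N3132 F29155) (tt N4838 (iv F36024)) (tt N4904 D7628) (tt N3131 (iv D6058)))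
theorem Q3959 : ∀ i, i < 3959 → P i := stepQ 3958 Q3958 (allL N3958 (tt N4529 (iv F34257)) (tt N4890 (iv F36219)) (tt N3144 F29156) (tt N4530 (iv F34264)) (tt N4901 (iv F36258)) (tt N4905 D7629) (tt N4904 (iv F36266)) (tt N3134 F29157) (tt N3132 (iv D6059)) (tt N4426 (iv F33684)))
theorem Q3960 : ∀ i, i < 3960 → P i := stepQ 3959 Q3959 (allL N3959 (tt N4530 (iv F34262)) (tt N4891 (iv F36222)) (tt N3145 F29158) (tt N4529 (iv F34259)) (tt N4902 (iv F36261)) (tt N4906 D7630) (tt N4840 (iv F36028)) (tt N4426 (iv F33683)) (tt N3133 (iv D6060)) (tt N3134 F29159))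
theorem Q3961 : ∀ i, i < 3961 → P i := stepQ 3960 Q3960 (allL N3960 (tt N4531 (iv F34267)) (tt N4892 (iv F36225)) (tt N3146 F29160) (tt N4781 (iv F35800)) (tt N4907 D7631) (tt N3134 (iv D6061)) (tt N4908 D7632) (tt N4905 (iv F36268)) (tt N3136 F29161) (tt N4906 (iv F36272)))
theorem Q3962 : ∀ i, i < 3962 → P i := stepQ 3961 Q3961 (allL N3961 (tt N4532 (iv F34270)) (tt N4893 (iv F36228)) (tt N3147 F29162) (tt N4585 (iv F34542)) (tt N4909 D7633) (tt N3135 (iv D6062)) (tt N4910 D7634) (tt N3136 F29163) (tt N4905 (iv F36269)) (tt N3178 F29164))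
theorem Q3963 : ∀ i, i < 3963 → P i := stepQ 3962 Q3962 (allL N3962 (tt N4533 (iv F34275)) (tt N4894 (iv F36232)) (tt N3148 F29165) (tt N4911 D7635) (tt N3136 (iv D6063)) (tt N3233 F29166) (tt N4912 D7636) (tt N4909 (iv F36279)) (tt N4907 (iv F36274)) (tt N3179 F29167))
theorem Q3964 : ∀ i, i < 3964 → P i := stepQ 3963 Q3963 (allL N3963 (tt N4534 (iv F34279)) (tt N4895 (iv F36236)) (tt N3149 F29168) (tt N4783 (iv F35806)) (tt N4912 (iv F36287)) (tt N3138 F29169) (tt N3136 (iv D6064)) (tt N4913 D7637) (tt N4908 (iv F36276)) (tt N3180 F29170))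
theorem Q3965 : ∀ i, i < 3965 → P i := stepQ 3964 Q3964 (allL N3964 (tt N4535 (iv F34283)) (tt N4896 (iv F36240)) (tt N3964 F29171) (tt N3137 (iv D6065)) (tt N4784 (iv F35810)) (tt N3235 F29172) (tt N4914 D7638) (tt N3964 F29173) (tt N4845 (iv F36044)) (tt N3181 F29174))
theorem Q3966 : ∀ i, i < 3966 → P i := stepQ 3965 Q3965 (allL N3965 (tt N4536 (iv F34288)) (tt N4897 (iv F36244)) (tt N3150 F29175) (tt N4914 (iv F36293)) (tt N3138 F29176) (tt N4915 D7639) (tt N3137 (iv D6066)) (tt N4916 D7640) (tt N4846 (iv F36048)) (tt N3182 F29177))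
theorem Q3967 : ∀ i, i < 3967 → P i := stepQ 3966 Q3966 (allL N3966 (tt N4537 (iv F34292)) (tt N4898 (iv F36248)) (tt N3151 F29178) (tt N4786 (iv F35818)) (tt N4916 (iv F36299)) (tt N4913 (iv F36290)) (tt N3966 F29179) (tt N3138 (iv D6067)) (tt N4847 (iv F36052)) (tt N3183 F29180))
theorem Q3968 : ∀ i, i < 3968 → P i := stepQ 3967 Q3967 (allL N3967 (tt N4538 (iv F34296)) (tt N3349 F29181) (tt N4421 (iv F33648)) (tt N3967 F29182) (tt N3143 F29183) (tt N3399 F29184) (tt N3140 F29185) (tt N3340 F29186) (tt N4917 D7641) (tt N3139 (iv D6068)))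
theorem Q3969 : ∀ i, i < 3969 → P i := stepQ 3968 Q3968 (allL N3968 (tt N4539 (iv F34303)) (tt N3359 F29187) (tt N4901 (iv F36257)) (tt N3968 F29188) (tt N3144 F29189) (tt N4918 D7642) (tt N4917 (iv F36305)) (tt N3142 F29190) (tt N3140 (iv D6069)) (tt N4430 (iv F33705)))
theorem Q3970 : ∀ i, i < 3970 → P i := stepQ 3969 Q3969 (allL N3969 (tt N4540 (iv F34309)) (tt N3360 F29191) (tt N4902 (iv F36260)) (tt N3969 F29192) (tt N3145 F29193) (tt N4919 D7643) (tt N4849 (iv F36063)) (tt N4430 (iv F33704)) (tt N3141 (iv D6070)) (tt N3142 F29194))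
theorem Q3971 : ∀ i, i < 3971 → P i := stepQ 3970 Q3970 (allL N3970 (tt N4541 (iv F34315)) (tt N3361 F29195) (tt N4903 (iv F36263)) (tt N3970 F29196) (tt N4920 D7644) (tt N3142 (iv D6071)) (tt N4921 D7645) (tt N4918 (iv F36310)) (tt N3240 F29197) (tt N4919 (iv F36315)))
theorem Q3972 : ∀ i, i < 3972 → P i := stepQ 3971 Q3971 (allL N3971 (tt N4542 (iv F34319)) (tt N3362 F29198) (tt N4904 (iv F36265)) (tt N3152 F29199) (tt N4917 (iv F36304)) (tt N4922 D7646) (tt N3144 F29200) (tt N4851 (iv F36073)) (tt N3143 (iv D6072)) (tt N4405 (iv F33560)))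
theorem Q3973 : ∀ i, i < 3973 → P i := stepQ 3972 Q3972 (allL N3972 (tt N4543 (iv F34324)) (tt N3364 F29201) (tt N4905 (iv F36267)) (tt N3153 F29202) (tt N4923 D7647) (tt N3144 (iv D6073)) (tt N4924 D7648) (tt N3146 F29203) (tt N3147 F29204) (tt N4431 (iv F33711)))
theorem Q3974 : ∀ i, i < 3974 → P i := stepQ 3973 Q3973 (allL N3973 (tt N4544 (iv F34330)) (tt N3365 F29205) (tt N4906 (iv F36270)) (tt N3154 F29206) (tt N4925 D7649) (tt N3145 (iv D6074)) (tt N4926 D7650) (tt N4431 (iv F33709)) (tt N3184 F29207) (tt N3146 F29208))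
theorem Q3975 : ∀ i, i < 3975 → P i := stepQ 3974 Q3974 (allL N3974 (tt N4545 (iv F34336)) (tt N3366 F29209) (tt N4907 (iv F36273)) (tt N4927 D7651) (tt N3146 (iv D6075)) (tt N4920 (iv F36317)) (tt N4928 D7652) (tt N4923 (iv F36326)) (tt N3148 F29210) (tt N4925 (iv F36333)))
theorem Q3976 : ∀ i, i < 3976 → P i := stepQ 3975 Q3975 (allL N3975 (tt N4546 (iv F34339)) (tt N3367 F29211) (tt N4908 (iv F36275)) (tt N3156 F29212) (tt N4928 (iv F36342)) (tt N4856 (iv F36093)) (tt N3146 (iv D6076)) (tt N4929 D7653) (tt N3149 F29213) (tt N4926 (iv F36337)))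
theorem Q3977 : ∀ i, i < 3977 → P i := stepQ 3976 Q3976 (allL N3976 (tt N4547 (iv F34343)) (tt N3368 F29214) (tt N4909 (iv F36277)) (tt N4930 D7654) (tt N3147 (iv D6077)) (tt N3245 F29215) (tt N4931 D7655) (tt N3148 F29216) (tt N4923 (iv F36327)) (tt N3187 F29217))
theorem Q3978 : ∀ i, i < 3978 → P i := stepQ 3977 Q3977 (allL N3977 (tt N4548 (iv F34348)) (tt N3369 F29218) (tt N4910 (iv F36281)) (tt N3158 F29219) (tt N4931 (iv F36353)) (tt N3977 F29220) (tt N3147 (iv D6078)) (tt N4932 D7656) (tt N4924 (iv F36330)) (tt N3188 F29221))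
theorem Q3979 : ∀ i, i < 3979 → P i := stepQ 3978 Q3978 (allL N3978 (tt N4549 (iv F34353)) (tt N3370 F29222) (tt N4933 D7657) (tt N3148 (iv D6079)) (tt N3159 F29223) (tt N3247 F29224) (tt N4934 D7658) (tt N4930 (iv F36350)) (tt N4927 (iv F36340)) (tt N3189 F29225))
theorem Q3980 : ∀ i, i < 3980 → P i := stepQ 3979 Q3979 (allL N3979 (tt N4550 (iv F34358)) (tt N3371 F29226) (tt N4912 (iv F36286)) (tt N4934 (iv F36364)) (tt N3149 F29227) (tt N4935 D7659) (tt N3148 (iv D6080)) (tt N4936 D7660) (tt N4928 (iv F36343)) (tt N3190 F29228))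
theorem Q3981 : ∀ i, i < 3981 → P i := stepQ 3980 Q3980 (allL N3980 (tt N4551 (iv F34362)) (tt N3372 F29229) (tt N4913 (iv F36289)) (tt N3161 F29230) (tt N4936 (iv F36372)) (tt N3151 F29231) (tt N4932 (iv F36358)) (tt N3149 (iv D6081)) (tt N4929 (iv F36346)) (tt N3191 F29232))
theorem Q3982 : ∀ i, i < 3982 → P i := stepQ 3981 Q3981 (allL N3981 (tt N4552 (iv F34367)) (tt N3373 F29233) (tt N4915 (iv F36295)) (tt N3981 F29234) (tt N4935 (iv F36368)) (tt N3150 (iv D6082)) (tt N3250 F29235) (tt N4937 D7661) (tt N4938 D7662) (tt N3192 F29236))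
theorem Q3983 : ∀ i, i < 3983 → P i := stepQ 3982 Q3982 (allL N3982 (tt N4553 (iv F34372)) (tt N3374 F29237) (tt N4916 (iv F36298)) (tt N3982 F29238) (tt N3151 F29239) (tt N4937 (iv F36376)) (tt N3982 F29240) (tt N3150 (iv D6083)) (tt N4863 (iv F36122)) (tt N3193 F29241))
theorem Q3984 : ∀ i, i < 3984 → P i := stepQ 3983 Q3983 (allL N3983 (tt N4554 (iv F34378)) (tt N3376 F29242) (tt N4496 (iv F34089)) (tt N4922 (iv F36323)) (tt N4939 D7663) (tt N3152 (iv D6084)) (tt N4940 D7664) (tt N4864 (iv F36125)) (tt N3983 F29243) (tt N4410 (iv F33587)))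
theorem Q3985 : ∀ i, i < 3985 → P i := stepQ 3984 Q3984 (allL N3984 (tt N4555 (iv F34383)) (tt N3378 F29244) (tt N4557 (iv F34397)) (tt N4941 D7665) (tt N3153 (iv D6085)) (tt N3984 F29245) (tt N4942 D7666) (tt N3155 F29246) (tt N3157 F29247) (tt N4436 (iv F33736)))
theorem Q3986 : ∀ i, i < 3986 → P i := stepQ 3985 Q3985 (allL N3985 (tt N4556 (iv F34390)) (tt N3379 F29248) (tt N4558 (iv F34404)) (tt N4924 (iv F36329)) (tt N4942 (iv F36392)) (tt N4940 (iv F36385)) (tt N3153 (iv D6086)) (tt N4943 D7667) (tt N3158 F29249) (tt N4437 (iv F33741)))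
theorem Q3987 : ∀ i, i < 3987 → P i := stepQ 3986 Q3986 (allL N3986 (tt N4557 (iv F34395)) (tt N3380 F29250) (tt N4555 (iv F34385)) (tt N4944 D7668) (tt N3154 (iv D6087)) (tt N3986 F29251) (tt N4945 D7669) (tt N4436 (iv F33734)) (tt N3194 F29252) (tt N3155 F29253))
theorem Q3988 : ∀ i, i < 3988 → P i := stepQ 3987 Q3987 (allL N3987 (tt N4558 (iv F34402)) (tt N3381 F29254) (tt N4556 (iv F34392)) (tt N4926 (iv F36335)) (tt N4945 (iv F36402)) (tt N4869 (iv F36142)) (tt N3154 (iv D6088)) (tt N4946 D7670) (tt N3195 F29255) (tt N3156 F29256))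
theorem Q3989 : ∀ i, i < 3989 → P i := stepQ 3988 Q3988 (allL N3988 (tt N4559 (iv F34407)) (tt N3382 F29257) (tt N4947 D7671) (tt N3155 (iv D6089)) (tt N4927 (iv F36339)) (tt N3988 F29258) (tt N4948 D7672) (tt N4941 (iv F36389)) (tt N3159 F29259) (tt N4944 (iv F36400)))
theorem Q3990 : ∀ i, i < 3990 → P i := stepQ 3989 Q3989 (allL N3989 (tt N4560 (iv F34411)) (tt N3383 F29260) (tt N4796 (iv F35853)) (tt N4948 (iv F36411)) (tt N3156 F29261) (tt N4949 D7673) (tt N3155 (iv D6090)) (tt N4950 D7674) (tt N3160 F29262) (tt N4945 (iv F36404)))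
theorem Q3991 : ∀ i, i < 3991 → P i := stepQ 3990 Q3990 (allL N3990 (tt N4561 (iv F34415)) (tt N3384 F29263) (tt N4797 (iv F35857)) (tt N4929 (iv F36345)) (tt N4950 (iv F36417)) (tt N4872 (iv F36152)) (tt N4943 (iv F36395)) (tt N3156 (iv D6091)) (tt N3161 F29264) (tt N4946 (iv F36407)))
theorem Q3992 : ∀ i, i < 3992 → P i := stepQ 3991 Q3991 (allL N3991 (tt N4562 (iv F34418)) (tt N3385 F29265) (tt N4951 D7675) (tt N3157 (iv D6092)) (tt N4930 (iv F36348)) (tt N3162 F29266) (tt N4952 D7676) (tt N3159 F29267) (tt N4941 (iv F36390)) (tt N3199 F29268))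
theorem Q3993 : ∀ i, i < 3993 → P i := stepQ 3992 Q3992 (allL N3992 (tt N4563 (iv F34423)) (tt N3386 F29269) (tt N4611 (iv F34657)) (tt N4952 (iv F36423)) (tt N3158 F29270) (tt N4953 D7677) (tt N3157 (iv D6093)) (tt N4954 D7678) (tt N4942 (iv F36393)) (tt N3200 F29271))
theorem Q3994 : ∀ i, i < 3994 → P i := stepQ 3993 Q3993 (allL N3993 (tt N4564 (iv F34428)) (tt N3387 F29272) (tt N4612 (iv F34662)) (tt N4932 (iv F36356)) (tt N4954 (iv F36430)) (tt N3993 F29273) (tt N3161 F29274) (tt N3158 (iv D6094)) (tt N4943 (iv F36396)) (tt N3201 F29275))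
theorem Q3995 : ∀ i, i < 3995 → P i := stepQ 3994 Q3994 (allL N3994 (tt N4565 (iv F34434)) (tt N4955 D7679) (tt N3159 (iv D6095)) (tt N4798 (iv F35859)) (tt N4933 (iv F36360)) (tt N3164 F29276) (tt N4956 D7680) (tt N4951 (iv F36420)) (tt N4947 (iv F36409)) (tt N3202 F29277))
theorem Q3996 : ∀ i, i < 3996 → P i := stepQ 3995 Q3995 (allL N3995 (tt N4566 (iv F34437)) (tt N3389 F29278) (tt N4956 (iv F36436)) (tt N3160 F29279) (tt N4934 (iv F36365)) (tt N3995 F29280) (tt N3159 (iv D6096)) (tt N4957 D7681) (tt N4948 (iv F36412)) (tt N3203 F29281))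
theorem Q3997 : ∀ i, i < 3997 → P i := stepQ 3996 Q3996 (allL N3996 (tt N4567 (iv F34442)) (tt N3390 F29282) (tt N4800 (iv F35867)) (tt N4957 (iv F36440)) (tt N3161 F29283) (tt N3996 F29284) (tt N4954 (iv F36431)) (tt N3160 (iv D6097)) (tt N4950 (iv F36418)) (tt N3204 F29285))
theorem Q3998 : ∀ i, i < 3998 → P i := stepQ 3997 Q3997 (allL N3997 (tt N4568 (iv F34447)) (tt N3236 (iv F131820)) (tt N3162 (iv D6098)) (tt N4626 (iv F34739)) (tt N3225 F131416) (tt N4951 (iv F36419)) (tt N3224 (iv F131710)) (tt N3164 F29287) (tt N3997 F29288) (tt N3205 F29289))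
theorem Q3999 : ∀ i, i < 3999 → P i := stepQ 3998 Q3998 (allL N3998 (tt N4569 (iv F34460)) (tt N3356 F132094) (tt N4628 (iv F34753)) (tt N3344 F132095) (tt N3998 F29297) (tt N3163 (iv D6100)) (tt N4953 (iv F36427)) (tt N3998 F29298) (tt N4958 D7685) (tt N3206 F29299))
theorem Q4000 : ∀ i, i < 4000 → P i := stepQ 3999 Q3999 (allL N3999 (tt N4663 (iv F131826)) (tt N3164 (iv D6101)) (tt N3251 (iv F131691)) (tt N4801 (iv F35872)) (tt N3237 F131417) (tt N4955 (iv F36434)) (tt N3999 F29302) (tt N3236 (iv F131821)) (tt N3999 F29303) (tt N3207 F29304))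
theorem Q4001 : ∀ i, i < 4001 → P i := stepQ 4000 Q4000 (allL N4000 (tt N3170 F29305) (tt N4571 (iv F34472)) (tt N3393 F29306) (tt N4511 (iv F34170)) (tt N4000 F29307) (tt N4883 (iv F36196)) (tt N4000 F29308) (tt N4419 (iv F33640)) (tt N4959 D7687) (tt N3165 (iv D6102)))
theorem Q4002 : ∀ i, i < 4002 → P i := stepQ 4001 Q4001 (allL N4001 (tt N3171 F29309) (tt N4572 (iv F34479)) (tt N3394 F29310) (tt N4573 (iv F34488)) (tt N4001 F29311) (tt N4960 D7688) (tt N4001 F29312) (tt N4442 (iv F33772)) (tt N3166 (iv D6103)) (tt N4959 (iv F36471)))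
theorem Q4003 : ∀ i, i < 4003 → P i := stepQ 4002 Q4002 (allL N4002 (tt N3172 F29313) (tt N4573 (iv F34486)) (tt N3395 F29314) (tt N4572 (iv F34481)) (tt N3263 F29315) (tt N4961 D7689) (tt N4002 F29316) (tt N3168 F29317) (tt N3167 (iv D6104)) (tt N4885 (iv F36204)))
theorem Q4004 : ∀ i, i < 4004 → P i := stepQ 4003 Q4003 (allL N4003 (tt N3173 F29318) (tt N4574 (iv F34493)) (tt N3396 F29319) (tt N4802 (iv F35879)) (tt N4962 D7690) (tt N3168 (iv D6105)) (tt N4963 D7691) (tt N4961 (iv F36477)) (tt N4960 (iv F36474)) (tt N4886 (iv F36207)))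
theorem Q4005 : ∀ i, i < 4005 → P i := stepQ 4004 Q4004 (allL N4004 (tt N3174 F29320) (tt N4575 (iv F34496)) (tt N3397 F29321) (tt N4964 D7692) (tt N3169 (iv D6106)) (tt N3265 F29322) (tt N4965 D7693) (tt N4004 F29323) (tt N4004 F29324) (tt N4887 (iv F36212)))
theorem Q4006 : ∀ i, i < 4006 → P i := stepQ 4005 Q4005 (allL N4005 (tt N3175 F29325) (tt N4576 (iv F34502)) (tt N3398 F29326) (tt N4804 (iv F35887)) (tt N4965 (iv F36490)) (tt N4963 (iv F36483)) (tt N3169 (iv D6107)) (tt N4966 D7694) (tt N4005 F29327) (tt N4888 (iv F36215)))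
theorem Q4007 : ∀ i, i < 4007 → P i := stepQ 4006 Q4006 (allL N4006 (tt N4959 (iv F36467)) (tt N3176 F29328) (tt N3401 F29329) (tt N4520 (iv F34219)) (tt N4006 F29330) (tt N4967 D7695) (tt N4006 F29331) (tt N4422 (iv F33659)) (tt N3170 (iv D6108)) (tt N3171 F29332))
theorem Q4008 : ∀ i, i < 4008 → P i := stepQ 4007 Q4007 (allL N4007 (tt N4960 (iv F36472)) (tt N3177 F29333) (tt N3402 F29334) (tt N4579 (iv F34519)) (tt N4968 D7696) (tt N3171 (iv D6109)) (tt N4969 D7697) (tt N4444 (iv F33781)) (tt N3173 F29335) (tt N4967 (iv F36498)))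
theorem Q4009 : ∀ i, i < 4009 → P i := stepQ 4008 Q4008 (allL N4008 (tt N4961 (iv F36475)) (tt N3178 F29336) (tt N3403 F29337) (tt N4578 (iv F34514)) (tt N4970 D7698) (tt N3172 (iv D6110)) (tt N4971 D7699) (tt N3173 F29338) (tt N4444 (iv F33782)) (tt N4893 (iv F36231)))
theorem Q4010 : ∀ i, i < 4010 → P i := stepQ 4009 Q4009 (allL N4009 (tt N4962 (iv F36478)) (tt N3179 F29339) (tt N3404 F29340) (tt N4972 D7700) (tt N3173 (iv D6111)) (tt N3267 F29341) (tt N4973 D7701) (tt N4970 (iv F36510)) (tt N4968 (iv F36502)) (tt N4894 (iv F36235)))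
theorem Q4011 : ∀ i, i < 4011 → P i := stepQ 4010 Q4010 (allL N4010 (tt N4963 (iv F36481)) (tt N3180 F29342) (tt N3405 F29343) (tt N4806 (iv F35894)) (tt N4973 (iv F36518)) (tt N3175 F29344) (tt N3173 (iv D6112)) (tt N4974 D7702) (tt N4969 (iv F36506)) (tt N4895 (iv F36239)))
theorem Q4012 : ∀ i, i < 4012 → P i := stepQ 4011 Q4011 (allL N4011 (tt N4964 (iv F36484)) (tt N3181 F29345) (tt N4629 (iv F131859)) (tt N3174 (iv D6113)) (tt N4807 (iv F35897)) (tt N3269 F29346) (tt N4975 D7704) (tt N4011 F29347) (tt N4011 F29348) (tt N4896 (iv F36243)))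
theorem Q4013 : ∀ i, i < 4013 → P i := stepQ 4012 Q4012 (allL N4012 (tt N4965 (iv F36488)) (tt N3182 F29349) (tt N3406 F29350) (tt N4975 (iv F36528)) (tt N3175 F29351) (tt N4976 D7705) (tt N3174 (iv D6114)) (tt N4977 D7706) (tt N4012 F29352) (tt N4897 (iv F36247)))
theorem Q4014 : ∀ i, i < 4014 → P i := stepQ 4013 Q4013 (allL N4013 (tt N4966 (iv F36492)) (tt N3183 F29353) (tt N3407 F29354) (tt N4809 (iv F35907)) (tt N4977 (iv F36535)) (tt N4974 (iv F36521)) (tt N4013 F29355) (tt N3175 (iv D6115)) (tt N4013 F29356) (tt N4898 (iv F36251)))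
theorem Q4015 : ∀ i, i < 4015 → P i := stepQ 4014 Q4014 (allL N4014 (tt N4585 (iv F34540)) (tt N4967 (iv F36496)) (tt N3184 F29357) (tt N4532 (iv F34272)) (tt N4978 D7707) (tt N3176 (iv D6116)) (tt N4979 D7708) (tt N4427 (iv F33688)) (tt N4906 (iv F36271)) (tt N3177 F29358))
theorem Q4016 : ∀ i, i < 4016 → P i := stepQ 4015 Q4015 (allL N4015 (tt N4586 (iv F34545)) (tt N4968 (iv F36499)) (tt N3185 F29359) (tt N4980 D7709) (tt N3177 (iv D6117)) (tt N4015 F29360) (tt N4981 D7710) (tt N4447 (iv F33793)) (tt N3179 F29361) (tt N4978 (iv F36540)))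
theorem Q4017 : ∀ i, i < 4017 → P i := stepQ 4016 Q4016 (allL N4016 (tt N4587 (iv F34550)) (tt N4969 (iv F36503)) (tt N3186 F29362) (tt N4589 (iv F34562)) (tt N4981 (iv F36547)) (tt N4016 F29363) (tt N3177 (iv D6118)) (tt N4982 D7711) (tt N3180 F29364) (tt N4979 (iv F36543)))
theorem Q4018 : ∀ i, i < 4018 → P i := stepQ 4017 Q4017 (allL N4017 (tt N4588 (iv F34555)) (tt N4970 (iv F36507)) (tt N3187 F29365) (tt N4983 D7712) (tt N3178 (iv D6119)) (tt N3270 F29366) (tt N4984 D7713) (tt N3179 F29367) (tt N4447 (iv F33794)) (tt N4909 (iv F36280)))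
theorem Q4019 : ∀ i, i < 4019 → P i := stepQ 4018 Q4018 (allL N4018 (tt N4589 (iv F34560)) (tt N4971 (iv F36511)) (tt N3188 F29368) (tt N4587 (iv F34552)) (tt N4984 (iv F36555)) (tt N4018 F29369) (tt N3178 (iv D6120)) (tt N4985 D7714) (tt N4448 (iv F33799)) (tt N4910 (iv F36283)))
theorem Q4020 : ∀ i, i < 4020 → P i := stepQ 4019 Q4019 (allL N4019 (tt N4590 (iv F34565)) (tt N4972 (iv F36514)) (tt N4986 D7715) (tt N3179 (iv D6121)) (tt N4810 (iv F35910)) (tt N3272 F29370) (tt N4987 D7716) (tt N4983 (iv F36553)) (tt N4980 (iv F36545)) (tt N4911 (iv F36285)))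
theorem Q4021 : ∀ i, i < 4021 → P i := stepQ 4020 Q4020 (allL N4020 (tt N4591 (iv F34567)) (tt N4973 (iv F36516)) (tt N3190 F29371) (tt N4987 (iv F36561)) (tt N3180 F29372) (tt N4988 D7717) (tt N3179 (iv D6122)) (tt N4989 D7718) (tt N4981 (iv F36548)) (tt N4912 (iv F36288)))
theorem Q4022 : ∀ i, i < 4022 → P i := stepQ 4021 Q4021 (allL N4021 (tt N4592 (iv F34570)) (tt N4974 (iv F36519)) (tt N3191 F29373) (tt N4812 (iv F35915)) (tt N4989 (iv F36566)) (tt N3183 F29374) (tt N4985 (iv F36558)) (tt N3180 (iv D6123)) (tt N4982 (iv F36551)) (tt N4913 (iv F36291)))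
theorem Q4023 : ∀ i, i < 4023 → P i := stepQ 4022 Q4022 (allL N4022 (tt N4593 (iv F34573)) (tt N4975 (iv F36527)) (tt N4022 F29375) (tt N3182 F29376) (tt N4813 (iv F35919)) (tt N4990 D7719) (tt N3181 (iv D6124)) (tt N4991 D7720) (tt N4022 F29377) (tt N4914 (iv F36294)))
theorem Q4024 : ∀ i, i < 4024 → P i := stepQ 4023 Q4023 (allL N4023 (tt N4594 (iv F34577)) (tt N4976 (iv F36530)) (tt N3192 F29378) (tt N4990 (iv F36568)) (tt N4988 (iv F36563)) (tt N3182 (iv D6125)) (tt N3276 F29379) (tt N4992 D7721) (tt N4993 D7722) (tt N4915 (iv F36297)))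
theorem Q4025 : ∀ i, i < 4025 → P i := stepQ 4024 Q4024 (allL N4024 (tt N4595 (iv F34580)) (tt N4977 (iv F36533)) (tt N3193 F29380) (tt N4991 (iv F36571)) (tt N3183 F29381) (tt N4992 (iv F36575)) (tt N4024 F29382) (tt N3182 (iv D6126)) (tt N4024 F29383) (tt N4916 (iv F36301)))
theorem Q4026 : ∀ i, i < 4026 → P i := stepQ 4025 Q4025 (allL N4025 (tt N4596 (iv F34585)) (tt N3424 F29384) (tt N4978 (iv F36538)) (tt N4994 D7723) (tt N3184 (iv D6127)) (tt N4025 F29385) (tt N4995 D7724) (tt N4432 (iv F33715)) (tt N4925 (iv F36332)) (tt N3185 F29386))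
theorem Q4027 : ∀ i, i < 4027 → P i := stepQ 4026 Q4026 (allL N4026 (tt N4597 (iv F34590)) (tt N3425 F29387) (tt N4979 (iv F36541)) (tt N3195 F29388) (tt N4995 (iv F36584)) (tt N4026 F29389) (tt N3184 (iv D6128)) (tt N4996 D7725) (tt N4926 (iv F36336)) (tt N3186 F29390))
theorem Q4028 : ∀ i, i < 4028 → P i := stepQ 4027 Q4027 (allL N4027 (tt N4598 (iv F34595)) (tt N3426 F29391) (tt N4997 D7726) (tt N3185 (iv D6129)) (tt N3196 F29392) (tt N4027 F29393) (tt N4998 D7727) (tt N4452 (iv F33819)) (tt N3189 F29394) (tt N4994 (iv F36582)))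
theorem Q4029 : ∀ i, i < 4029 → P i := stepQ 4028 Q4028 (allL N4028 (tt N4599 (iv F34601)) (tt N3427 F29395) (tt N4981 (iv F36546)) (tt N4998 (iv F36594)) (tt N3186 F29396) (tt N4999 D7728) (tt N3185 (iv D6130)) (tt N5000 D7729) (tt N3190 F29397) (tt N4995 (iv F36585)))
theorem Q4030 : ∀ i, i < 4030 → P i := stepQ 4029 Q4029 (allL N4029 (tt N4600 (iv F34605)) (tt N3428 F29398) (tt N4982 (iv F36549)) (tt N3198 F29399) (tt N5000 (iv F36601)) (tt N4029 F29400) (tt N4454 (iv F33829)) (tt N3186 (iv D6131)) (tt N3191 F29401) (tt N4996 (iv F36589)))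
theorem Q4031 : ∀ i, i < 4031 → P i := stepQ 4030 Q4030 (allL N4030 (tt N4601 (iv F34611)) (tt N3429 F29402) (tt N5001 D7730) (tt N3187 (iv D6132)) (tt N3199 F29403) (tt N3277 F29404) (tt N5002 D7731) (tt N3189 F29405) (tt N4452 (iv F33820)) (tt N4930 (iv F36351)))
theorem Q4032 : ∀ i, i < 4032 → P i := stepQ 4031 Q4031 (allL N4031 (tt N4602 (iv F34617)) (tt N3430 F29406) (tt N4984 (iv F36554)) (tt N5002 (iv F36607)) (tt N3188 F29407) (tt N5003 D7732) (tt N3187 (iv D6133)) (tt N5004 D7733) (tt N4453 (iv F33824)) (tt N4931 (iv F36354)))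
theorem Q4033 : ∀ i, i < 4033 → P i := stepQ 4032 Q4032 (allL N4032 (tt N4603 (iv F34621)) (tt N3431 F29408) (tt N4985 (iv F36556)) (tt N3201 F29409) (tt N5004 (iv F36613)) (tt N4032 F29410) (tt N3191 F29411) (tt N3188 (iv D6134)) (tt N4454 (iv F33830)) (tt N4932 (iv F36359)))
theorem Q4034 : ∀ i, i < 4034 → P i := stepQ 4033 Q4033 (allL N4033 (tt N4604 (iv F34627)) (tt N5005 D7734) (tt N3189 (iv D6135)) (tt N4986 (iv F36559)) (tt N3202 F29412) (tt N3280 F29413) (tt N5006 D7735) (tt N5001 (iv F36605)) (tt N4997 (iv F36592)) (tt N4933 (iv F36362)))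
theorem Q4035 : ∀ i, i < 4035 → P i := stepQ 4034 Q4034 (allL N4034 (tt N4605 (iv F34630)) (tt N3433 F29414) (tt N5006 (iv F36618)) (tt N3190 F29415) (tt N3203 F29416) (tt N5007 D7736) (tt N3189 (iv D6136)) (tt N5008 D7737) (tt N4998 (iv F36596)) (tt N4934 (iv F36366)))
theorem Q4036 : ∀ i, i < 4036 → P i := stepQ 4035 Q4035 (allL N4035 (tt N4606 (iv F34634)) (tt N3434 F29417) (tt N4988 (iv F36562)) (tt N5007 (iv F36621)) (tt N3192 F29418) (tt N3190 (iv D6137)) (tt N3282 F29419) (tt N5009 D7738) (tt N5010 D7739) (tt N4935 (iv F36370)))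
theorem Q4037 : ∀ i, i < 4037 → P i := stepQ 4036 Q4036 (allL N4036 (tt N4607 (iv F34638)) (tt N3435 F29420) (tt N4989 (iv F36565)) (tt N5008 (iv F36625)) (tt N3191 F29421) (tt N5009 (iv F36629)) (tt N5004 (iv F36614)) (tt N3190 (iv D6138)) (tt N5000 (iv F36602)) (tt N4936 (iv F36373)))
theorem Q4038 : ∀ i, i < 4038 → P i := stepQ 4037 Q4037 (allL N4037 (tt N4608 (iv F34641)) (tt N3436 F29422) (tt N4992 (iv F36574)) (tt N4037 F29423) (tt N5009 (iv F36628)) (tt N3193 F29424) (tt N5011 D7740) (tt N3192 (iv D6139)) (tt N5012 D7741) (tt N4937 (iv F36377)))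
theorem Q4039 : ∀ i, i < 4039 → P i := stepQ 4038 Q4038 (allL N4038 (tt N4609 (iv F34645)) (tt N3437 F29425) (tt N4993 (iv F36576)) (tt N4038 F29426) (tt N5010 (iv F36631)) (tt N4038 F29427) (tt N3285 F29428) (tt N5012 (iv F36640)) (tt N3192 (iv D6140)) (tt N5013 D7742))
theorem Q4040 : ∀ i, i < 4040 → P i := stepQ 4039 Q4039 (allL N4039 (tt N4610 (iv F34650)) (tt N3443 F29429) (tt N5014 D7743) (tt N3194 (iv D6141)) (tt N4994 (iv F36580)) (tt N3208 F29430) (tt N5015 D7744) (tt N4438 (iv F33745)) (tt N4944 (iv F36399)) (tt N3196 F29431))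
theorem Q4041 : ∀ i, i < 4041 → P i := stepQ 4040 Q4040 (allL N4040 (tt N4611 (iv F34655)) (tt N3444 F29432) (tt N4563 (iv F34425)) (tt N5015 (iv F36648)) (tt N3195 F29433) (tt N5016 D7745) (tt N3194 (iv D6142)) (tt N5017 D7746) (tt N4945 (iv F36403)) (tt N3197 F29434))
theorem Q4042 : ∀ i, i < 4042 → P i := stepQ 4041 Q4041 (allL N4041 (tt N4612 (iv F34660)) (tt N3445 F29435) (tt N4564 (iv F34430)) (tt N4996 (iv F36587)) (tt N5017 (iv F36655)) (tt N4041 F29436) (tt N4440 (iv F33757)) (tt N3195 (iv D6143)) (tt N4946 (iv F36406)) (tt N3198 F29437))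
theorem Q4043 : ∀ i, i < 4043 → P i := stepQ 4042 Q4042 (allL N4042 (tt N4613 (iv F34666)) (tt N5018 D7747) (tt N3196 (iv D6144)) (tt N4617 (iv F34688)) (tt N4997 (iv F36590)) (tt N3210 F29438) (tt N5019 D7748) (tt N4457 (iv F33842)) (tt N3202 F29439) (tt N5014 (iv F36646)))
theorem Q4044 : ∀ i, i < 4044 → P i := stepQ 4043 Q4043 (allL N4043 (tt N4614 (iv F34671)) (tt N3447 F29440) (tt N5019 (iv F36660)) (tt N3197 F29441) (tt N4998 (iv F36595)) (tt N5020 D7749) (tt N3196 (iv D6145)) (tt N5021 D7750) (tt N3203 F29442) (tt N5015 (iv F36649)))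
theorem Q4045 : ∀ i, i < 4045 → P i := stepQ 4044 Q4044 (allL N4044 (tt N4615 (iv F34675)) (tt N3448 F29443) (tt N4619 (iv F34698)) (tt N5020 (iv F36663)) (tt N4044 F29444) (tt N3197 (iv D6146)) (tt N3212 F29445) (tt N5022 D7751) (tt N4044 F29446) (tt N5016 (iv F36653)))
theorem Q4046 : ∀ i, i < 4046 → P i := stepQ 4045 Q4045 (allL N4045 (tt N4616 (iv F34681)) (tt N3449 F29447) (tt N4620 (iv F34704)) (tt N5021 (iv F36667)) (tt N3198 F29448) (tt N5022 (iv F36671)) (tt N4459 (iv F33854)) (tt N3197 (iv D6147)) (tt N3204 F29449) (tt N5017 (iv F36656)))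
theorem Q4047 : ∀ i, i < 4047 → P i := stepQ 4046 Q4046 (allL N4046 (tt N4617 (iv F34687)) (tt N3276 (iv F131815)) (tt N3199 (iv D6148)) (tt N4613 (iv F34667)) (tt N5001 (iv F36603)) (tt N3205 F29450) (tt N4976 (iv F131812)) (tt N3202 F29451) (tt N4457 (iv F33843)) (tt N4951 (iv F36421)))
theorem Q4048 : ∀ i, i < 4048 → P i := stepQ 4047 Q4047 (allL N4047 (tt N4618 (iv F34692)) (tt N3419 F132078) (tt N4976 F132079) (tt N3200 F29453) (tt N5002 (iv F36608)) (tt N3406 F132080) (tt N3199 (iv D6149)) (tt N5023 D7755) (tt N4458 (iv F33848)) (tt N4952 (iv F36424)))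
theorem Q4049 : ∀ i, i < 4049 → P i := stepQ 4048 Q4048 (allL N4048 (tt N4619 (iv F34696)) (tt N3418 F132103) (tt N4615 (iv F34677)) (tt N3406 F132104) (tt N4048 F29455) (tt N3200 (iv D6150)) (tt N3206 F29456) (tt N5024 D7756) (tt N4048 F29457) (tt N4953 (iv F36428)))
theorem Q4050 : ∀ i, i < 4050 → P i := stepQ 4049 Q4049 (allL N4049 (tt N4620 (iv F34702)) (tt N3450 F29458) (tt N4616 (iv F34683)) (tt N5023 (iv F36683)) (tt N3201 F29459) (tt N5024 (iv F36687)) (tt N3204 F29460) (tt N3200 (iv D6151)) (tt N4459 (iv F33855)) (tt N4954 (iv F36432)))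
theorem Q4051 : ∀ i, i < 4051 → P i := stepQ 4050 Q4050 (allL N4050 (tt N4716 (iv F131824)) (tt N3202 (iv D6152)) (tt N3284 (iv F131689)) (tt N4822 (iv F35945)) (tt N5005 (iv F36616)) (tt N3207 F29462) (tt N5025 D7758) (tt N3276 (iv F131816)) (tt N5018 (iv F36659)) (tt N4955 (iv F36435)))
theorem Q4052 : ∀ i, i < 4052 → P i := stepQ 4051 Q4051 (allL N4051 (tt N4622 (iv F34710)) (tt N5025 (iv F36692)) (tt N3203 F29463) (tt N4823 (iv F35948)) (tt N5006 (iv F36619)) (tt N4051 F29464) (tt N3202 (iv D6153)) (tt N5026 D7759) (tt N5019 (iv F36661)) (tt N4956 (iv F36438)))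
theorem Q4053 : ∀ i, i < 4053 → P i := stepQ 4052 Q4052 (allL N4052 (tt N4623 (iv F34713)) (tt N3452 F29465) (tt N5026 (iv F36695)) (tt N3204 F29466) (tt N5008 (iv F36626)) (tt N4052 F29467) (tt N5023 (iv F36684)) (tt N3203 (iv D6154)) (tt N5021 (iv F36668)) (tt N4957 (iv F36442)))
theorem Q4054 : ∀ i, i < 4054 → P i := stepQ 4053 Q4053 (allL N4053 (tt N4626 (iv F34738)) (tt N5027 D7764) (tt N3208 (iv D6159)) (tt N4568 (iv F34448)) (tt N4053 F29484) (tt N5014 (iv F36645)) (tt N5028 D7765) (tt N4441 (iv F33763)) (tt N4053 F29485) (tt N3210 F29486))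
theorem Q4055 : ∀ i, i < 4055 → P i := stepQ 4054 Q4054 (allL N4054 (tt N4627 (iv F34744)) (tt N3455 F29487) (tt N5028 (iv F36718)) (tt N3209 F29488) (tt N4054 F29489) (tt N5029 D7766) (tt N3208 (iv D6160)) (tt N4054 F29490) (tt N4054 F29491) (tt N3211 F29492))
theorem Q4056 : ∀ i, i < 4056 → P i := stepQ 4055 Q4055 (allL N4055 (tt N4628 (iv F34751)) (tt N3456 F29493) (tt N4569 (iv F34462)) (tt N5029 (iv F36724)) (tt N4055 F29494) (tt N3209 (iv D6161)) (tt N5016 (iv F36652)) (tt N4055 F29495) (tt N5030 D7767) (tt N3212 F29496))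
theorem Q4057 : ∀ i, i < 4057 → P i := stepQ 4056 Q4056 (allL N4056 (tt N4705 F131421) (tt N3210 (iv D6162)) (tt N3290 (iv F131699)) (tt N4624 (iv F34718)) (tt N4056 F29498) (tt N5018 (iv F36658)) (tt N4698 (iv F131830)) (tt N3288 F131424) (tt N3213 F29499) (tt N5027 (iv F36717)))
theorem Q4058 : ∀ i, i < 4058 → P i := stepQ 4057 Q4057 (allL N4057 (tt N3269 F131425) (tt N4698 (iv F131829)) (tt N3211 F29500) (tt N3265 F131426) (tt N4057 F29501) (tt N4964 (iv F131832)) (tt N3210 (iv D6163)) (tt N4057 F29502) (tt N3214 F29503) (tt N5028 (iv F36722)))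
theorem Q4059 : ∀ i, i < 4059 → P i := stepQ 4058 Q4058 (allL N4058 (tt N4629 (iv F34768)) (tt N3458 F29504) (tt N4964 F132299) (tt N3212 F29505) (tt N5031 D7771) (tt N3211 (iv D6164)) (tt N5020 (iv F36664)) (tt N4058 F29506) (tt N4058 F29507) (tt N5029 (iv F36726)))
theorem Q4060 : ∀ i, i < 4060 → P i := stepQ 4059 Q4059 (allL N4059 (tt N3221 F29528) (tt N4632 (iv F34817)) (tt N3459 F29529) (tt N4059 F29530) (tt N4748 (iv F35661)) (tt N5032 D7774) (tt N4059 F29531) (tt N4735 (iv F35560)) (tt N3215 (iv D6169)) (tt N4059 F29532))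
theorem Q4061 : ∀ i, i < 4061 → P i := stepQ 4060 Q4060 (allL N4060 (tt N3222 F29533) (tt N4633 (iv F34823)) (tt N3460 F29534) (tt N4060 F29535) (tt N4885 (iv F36201)) (tt N5033 D7775) (tt N4060 F29536) (tt N3217 F29537) (tt N3216 (iv D6170)) (tt N3263 F29538))
theorem Q4062 : ∀ i, i < 4062 → P i := stepQ 4061 Q4061 (allL N4061 (tt N3223 F29539) (tt N4634 (iv F34830)) (tt N3461 F29540) (tt N4061 F29541) (tt N5034 D7776) (tt N3217 (iv D6171)) (tt N4691 (iv F131847)) (tt N5033 (iv F36768)) (tt N5032 (iv F36763)) (tt N3264 F29542))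
theorem Q4063 : ∀ i, i < 4063 → P i := stepQ 4062 Q4062 (allL N4062 (tt N3224 F29543) (tt N4635 (iv F34835)) (tt N3462 F29544) (tt N5028 (iv F131834)) (tt N3218 (iv D6172)) (tt N4887 (iv F36210)) (tt N4568 (iv F131819)) (tt N4062 F29545) (tt N4062 F29546) (tt N3265 F29547))
theorem Q4064 : ∀ i, i < 4064 → P i := stepQ 4063 Q4063 (allL N4063 (tt N4748 (iv F35658)) (tt N3228 F29553) (tt N3463 F29554) (tt N4476 (iv F33979)) (tt N3221 F29555) (tt N5035 D7781) (tt N4063 F29556) (tt N4403 (iv F33546)) (tt N3219 (iv D6174)) (tt N4063 F29557))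
theorem Q4065 : ∀ i, i < 4065 → P i := stepQ 4064 Q4064 (allL N4064 (tt N4735 (iv F35555)) (tt N3230 F29558) (tt N3464 F29559) (tt N4064 F29560) (tt N4403 (iv F33544)) (tt N5036 D7782) (tt N4396 (iv F33493)) (tt N3221 F29561) (tt N3220 (iv D6175)) (tt N4064 F29562))
theorem Q4066 : ∀ i, i < 4066 → P i := stepQ 4065 Q4065 (allL N4065 (tt N5032 (iv F36760)) (tt N3231 F29563) (tt N3465 F29564) (tt N4065 F29565) (tt N5037 D7783) (tt N3221 (iv D6176)) (tt N5038 D7784) (tt N5036 (iv F36800)) (tt N3223 F29566) (tt N4065 F29567))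
theorem Q4067 : ∀ i, i < 4067 → P i := stepQ 4066 Q4066 (allL N4066 (tt N5033 (iv F36765)) (tt N3232 F29568) (tt N3466 F29569) (tt N4066 F29570) (tt N5039 D7785) (tt N3222 (iv D6177)) (tt N5040 D7786) (tt N3223 F29571) (tt N5036 (iv F36801)) (tt N3266 F29572))
theorem Q4068 : ∀ i, i < 4068 → P i := stepQ 4067 Q4067 (allL N4067 (tt N5034 (iv F36770)) (tt N3233 F29573) (tt N3467 F29574) (tt N5041 D7787) (tt N3223 (iv D6178)) (tt N4894 (iv F36234)) (tt N5042 D7788) (tt N5039 (iv F36815)) (tt N5037 (iv F36805)) (tt N3267 F29575))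
theorem Q4069 : ∀ i, i < 4069 → P i := stepQ 4068 Q4068 (allL N4068 (tt N4691 (iv F131845)) (tt N3234 F29576) (tt N3258 (iv F131712)) (tt N4068 F29578) (tt N5042 (iv F36827)) (tt N3225 F29579) (tt N3223 (iv D6179)) (tt N3260 (iv F131849)) (tt N5038 (iv F36811)) (tt N3268 F29580))
theorem Q4070 : ∀ i, i < 4070 → P i := stepQ 4069 Q4069 (allL N4069 (tt N5028 (iv F131833)) (tt N3235 F29581) (tt N4627 (iv F131860)) (tt N3224 (iv D6180)) (tt N4069 F29582) (tt N4896 (iv F36241)) (tt N4626 (iv F131823)) (tt N4069 F29583) (tt N4069 F29584) (tt N3269 F29585))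
theorem Q4071 : ∀ i, i < 4071 → P i := stepQ 4070 Q4070 (allL N4070 (tt N4649 (iv F34912)) (tt N4476 (iv F33977)) (tt N4070 F29597) (tt N3228 F29598) (tt N4070 F29599) (tt N5043 D7794) (tt N4070 F29600) (tt N4465 (iv F33910)) (tt N3226 (iv D6183)) (tt N4070 F29601))
theorem Q4072 : ∀ i, i < 4072 → P i := stepQ 4071 Q4071 (allL N4071 (tt N4650 (iv F34918)) (tt N4403 (iv F33541)) (tt N3239 F29602) (tt N4465 (iv F33907)) (tt N3230 F29603) (tt N5044 D7795) (tt N4401 (iv F33529)) (tt N3228 F29604) (tt N3227 (iv D6184)) (tt N4071 F29605))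
theorem Q4073 : ∀ i, i < 4073 → P i := stepQ 4072 Q4072 (allL N4072 (tt N4651 (iv F34923)) (tt N5035 (iv F36794)) (tt N3240 F29606) (tt N5043 (iv F36855)) (tt N5045 D7796) (tt N3228 (iv D6185)) (tt N5046 D7797) (tt N5044 (iv F36858)) (tt N4903 (iv F36264)) (tt N4072 F29607))
theorem Q4074 : ∀ i, i < 4074 → P i := stepQ 4073 Q4073 (allL N4073 (tt N4652 (iv F34926)) (tt N4396 (iv F33489)) (tt N3241 F29608) (tt N4073 F29609) (tt N4401 (iv F33528)) (tt N5047 D7798) (tt N3230 F29610) (tt N4073 F29611) (tt N3229 (iv D6186)) (tt N4073 F29612))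
theorem Q4075 : ∀ i, i < 4075 → P i := stepQ 4074 Q4074 (allL N4074 (tt N4653 (iv F34932)) (tt N5036 (iv F36797)) (tt N3242 F29613) (tt N4074 F29614) (tt N5048 D7799) (tt N3230 (iv D6187)) (tt N5049 D7800) (tt N3231 F29615) (tt N3232 F29616) (tt N4074 F29617))
theorem Q4076 : ∀ i, i < 4076 → P i := stepQ 4075 Q4075 (allL N4075 (tt N4654 (iv F34938)) (tt N5037 (iv F36803)) (tt N3243 F29618) (tt N5050 D7801) (tt N3231 (iv D6188)) (tt N5045 (iv F36861)) (tt N5051 D7802) (tt N5048 (iv F36872)) (tt N3233 F29619) (tt N4075 F29620))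
theorem Q4077 : ∀ i, i < 4077 → P i := stepQ 4076 Q4076 (allL N4076 (tt N4655 (iv F34942)) (tt N5038 (iv F36807)) (tt N3244 F29621) (tt N4076 F29622) (tt N5051 (iv F36883)) (tt N4076 F29623) (tt N3231 (iv D6189)) (tt N5052 D7803) (tt N3234 F29624) (tt N4076 F29625))
theorem Q4078 : ∀ i, i < 4078 → P i := stepQ 4077 Q4077 (allL N4077 (tt N4656 (iv F34948)) (tt N5039 (iv F36813)) (tt N3245 F29626) (tt N5053 D7804) (tt N3232 (iv D6190)) (tt N4909 (iv F36278)) (tt N5054 D7805) (tt N3233 F29627) (tt N5048 (iv F36873)) (tt N3270 F29628))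
theorem Q4079 : ∀ i, i < 4079 → P i := stepQ 4078 Q4078 (allL N4078 (tt N4657 (iv F34952)) (tt N5040 (iv F36817)) (tt N3246 F29629) (tt N4078 F29630) (tt N5054 (iv F36895)) (tt N4078 F29631) (tt N3232 (iv D6191)) (tt N5055 D7806) (tt N5049 (iv F36877)) (tt N3271 F29632))
theorem Q4080 : ∀ i, i < 4080 → P i := stepQ 4079 Q4079 (allL N4079 (tt N4658 (iv F34957)) (tt N5041 (iv F36822)) (tt N5056 D7807) (tt N3233 (iv D6192)) (tt N4079 F29633) (tt N4911 (iv F36284)) (tt N5057 D7808) (tt N5053 (iv F36892)) (tt N5050 (iv F36880)) (tt N3272 F29634))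
theorem Q4081 : ∀ i, i < 4081 → P i := stepQ 4080 Q4080 (allL N4080 (tt N4659 (iv F34960)) (tt N5042 (iv F36825)) (tt N3248 F29635) (tt N5057 (iv F36905)) (tt N3234 F29636) (tt N5058 D7809) (tt N3233 (iv D6193)) (tt N5059 D7810) (tt N5051 (iv F36884)) (tt N3273 F29637))
theorem Q4082 : ∀ i, i < 4082 → P i := stepQ 4081 Q4081 (allL N4081 (tt N4660 (iv F34964)) (tt N3260 (iv F131848)) (tt N3249 F29638) (tt N4081 F29639) (tt N5059 (iv F36912)) (tt N3237 F29640) (tt N5055 (iv F36900)) (tt N3234 (iv D6194)) (tt N5052 (iv F36889)) (tt N3274 F29641))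
theorem Q4083 : ∀ i, i < 4083 → P i := stepQ 4082 Q4082 (allL N4082 (tt N4661 (iv F34969)) (tt N4626 (iv F131822)) (tt N4082 F29642) (tt N3236 F29643) (tt N4082 F29644) (tt N5060 D7811) (tt N3235 (iv D6195)) (tt N4801 (iv F131762)) (tt N4082 F29645) (tt N3275 F29646))
theorem Q4084 : ∀ i, i < 4084 → P i := stepQ 4083 Q4083 (allL N4083 (tt N4662 (iv F34975)) (tt N4951 F132225) (tt N3250 F29647) (tt N5060 (iv F36915)) (tt N5058 (iv F36909)) (tt N3236 (iv D6196)) (tt N4915 (iv F36296)) (tt N4955 F132226) (tt N5061 D7814) (tt N3276 F29648))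
theorem Q4085 : ∀ i, i < 4085 → P i := stepQ 4084 Q4084 (allL N4084 (tt N4664 (iv F34984)) (tt N3479 F29654) (tt N4401 (iv F33526)) (tt N4084 F29655) (tt N3241 F29656) (tt N5062 D7815) (tt N3239 F29657) (tt N4084 F29658) (tt N3238 (iv D6198)) (tt N4084 F29659))
theorem Q4086 : ∀ i, i < 4086 → P i := stepQ 4085 Q4085 (allL N4085 (tt N4665 (iv F34991)) (tt N3480 F29660) (tt N5044 (iv F36857)) (tt N4085 F29661) (tt N5063 D7816) (tt N3239 (iv D6199)) (tt N5064 D7817) (tt N3240 F29662) (tt N4918 (iv F36311)) (tt N4085 F29663))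
theorem Q4087 : ∀ i, i < 4087 → P i := stepQ 4086 Q4086 (allL N4086 (tt N4666 (iv F34996)) (tt N3481 F29664) (tt N5045 (iv F36860)) (tt N5065 D7818) (tt N3240 (iv D6200)) (tt N3243 F29665) (tt N5066 D7819) (tt N5063 (iv F36934)) (tt N4920 (iv F36318)) (tt N4086 F29666))
theorem Q4088 : ∀ i, i < 4088 → P i := stepQ 4087 Q4087 (allL N4087 (tt N4667 (iv F35000)) (tt N3482 F29667) (tt N5046 (iv F36863)) (tt N4087 F29668) (tt N5066 (iv F36944)) (tt N4087 F29669) (tt N3240 (iv D6201)) (tt N5067 D7820) (tt N4921 (iv F36321)) (tt N4087 F29670))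
theorem Q4089 : ∀ i, i < 4089 → P i := stepQ 4088 Q4088 (allL N4088 (tt N4668 (iv F35005)) (tt N3483 F29671) (tt N5047 (iv F36866)) (tt N3252 F29672) (tt N5068 D7821) (tt N3241 (iv D6202)) (tt N5069 D7822) (tt N4088 F29673) (tt N4088 F29674) (tt N4088 F29675))
theorem Q4090 : ∀ i, i < 4090 → P i := stepQ 4089 Q4089 (allL N4089 (tt N4669 (iv F35011)) (tt N3484 F29676) (tt N5048 (iv F36871)) (tt N5070 D7823) (tt N3242 (iv D6203)) (tt N5063 (iv F36933)) (tt N5071 D7824) (tt N3243 F29677) (tt N3245 F29678) (tt N4089 F29679))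
theorem Q4091 : ∀ i, i < 4091 → P i := stepQ 4090 Q4090 (allL N4090 (tt N4670 (iv F35016)) (tt N3485 F29680) (tt N5049 (iv F36875)) (tt N3254 F29681) (tt N5071 (iv F36965)) (tt N5069 (iv F36956)) (tt N3242 (iv D6204)) (tt N5072 D7825) (tt N3246 F29682) (tt N4090 F29683))
theorem Q4092 : ∀ i, i < 4092 → P i := stepQ 4091 Q4091 (allL N4091 (tt N4671 (iv F35021)) (tt N3486 F29684) (tt N5073 D7826) (tt N3243 (iv D6205)) (tt N3255 F29685) (tt N5065 (iv F36941)) (tt N5074 D7827) (tt N5070 (iv F36961)) (tt N3247 F29686) (tt N4091 F29687))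
theorem Q4093 : ∀ i, i < 4093 → P i := stepQ 4092 Q4092 (allL N4092 (tt N4672 (iv F35026)) (tt N3487 F29688) (tt N5051 (iv F36882)) (tt N5074 (iv F36977)) (tt N3244 F29689) (tt N5075 D7828) (tt N3243 (iv D6206)) (tt N5076 D7829) (tt N3248 F29690) (tt N4092 F29691))
theorem Q4094 : ∀ i, i < 4094 → P i := stepQ 4093 Q4093 (allL N4093 (tt N4673 (iv F35031)) (tt N3488 F29692) (tt N5052 (iv F36886)) (tt N3257 F29693) (tt N5076 (iv F36985)) (tt N4093 F29694) (tt N5072 (iv F36970)) (tt N3244 (iv D6207)) (tt N3249 F29695) (tt N4093 F29696))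
theorem Q4095 : ∀ i, i < 4095 → P i := stepQ 4094 Q4094 (allL N4094 (tt N4674 (iv F35037)) (tt N3478 F132136) (tt N5042 F132137) (tt N3245 (iv D6208)) (tt N3258 F29698) (tt N4930 (iv F36349)) (tt N3467 F132138) (tt N3247 F29699) (tt N5070 (iv F36962)) (tt N3277 F29700))
theorem Q4096 : ∀ i, i < 4096 → P i := stepQ 4095 Q4095 (allL N4095 (tt N4675 (iv F35042)) (tt N3477 F132134) (tt N5054 (iv F36894)) (tt N3467 F132135) (tt N3246 F29702) (tt N5077 D7832) (tt N3245 (iv D6209)) (tt N5078 D7833) (tt N5071 (iv F36966)) (tt N3278 F29703))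
theorem Q4097 : ∀ i, i < 4097 → P i := stepQ 4096 Q4096 (allL N4096 (tt N4676 (iv F35046)) (tt N3489 F29704) (tt N5055 (iv F36897)) (tt N3259 F29705) (tt N5078 (iv F36999)) (tt N4096 F29706) (tt N3249 F29707) (tt N3246 (iv D6210)) (tt N5072 (iv F36971)) (tt N3279 F29708))
theorem Q4098 : ∀ i, i < 4098 → P i := stepQ 4097 Q4097 (allL N4097 (tt N4677 (iv F35052)) (tt N5059 F132317) (tt N3247 (iv D6211)) (tt N5056 (iv F36902)) (tt N3260 F29709) (tt N4933 (iv F36361)) (tt N5079 D7835) (tt N5042 F132318) (tt N5073 (iv F36974)) (tt N3280 F29710))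
theorem Q4099 : ∀ i, i < 4099 → P i := stepQ 4098 Q4098 (allL N4098 (tt N4678 (iv F35055)) (tt N3491 F29711) (tt N5079 (iv F37005)) (tt N3248 F29712) (tt N3261 F29713) (tt N5080 D7836) (tt N3247 (iv D6212)) (tt N5081 D7837) (tt N5074 (iv F36979)) (tt N3281 F29714))
theorem Q4100 : ∀ i, i < 4100 → P i := stepQ 4099 Q4099 (allL N4099 (tt N4679 (iv F35060)) (tt N3492 F29715) (tt N5058 (iv F36908)) (tt N5080 (iv F37009)) (tt N3250 F29716) (tt N3248 (iv D6213)) (tt N4935 (iv F36369)) (tt N5082 D7838) (tt N5083 D7839) (tt N3282 F29717))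
theorem Q4101 : ∀ i, i < 4101 → P i := stepQ 4100 Q4100 (allL N4100 (tt N4680 (iv F35064)) (tt N3490 F132149) (tt N5059 (iv F36911)) (tt N5081 (iv F37013)) (tt N3249 F29719) (tt N5082 (iv F37018)) (tt N5078 (iv F37000)) (tt N3248 (iv D6214)) (tt N5076 (iv F36986)) (tt N3283 F29720))
theorem Q4102 : ∀ i, i < 4102 → P i := stepQ 4101 Q4101 (allL N4101 (tt N4681 (iv F35068)) (tt N3388 F132045) (tt N4955 F132046) (tt N4101 F29722) (tt N5082 (iv F37017)) (tt N3251 F29723) (tt N5084 D7840) (tt N3250 (iv D6215)) (tt N5085 D7841) (tt N3284 F29724))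
theorem Q4103 : ∀ i, i < 4103 → P i := stepQ 4102 Q4102 (allL N4102 (tt N4682 (iv F35073)) (tt N3493 F29725) (tt N5061 (iv F36926)) (tt N4102 F29726) (tt N5083 (iv F37021)) (tt N4102 F29727) (tt N4938 (iv F36380)) (tt N5085 (iv F37029)) (tt N3250 (iv D6216)) (tt N5086 D7842))
theorem Q4104 : ∀ i, i < 4104 → P i := stepQ 4103 Q4103 (allL N4103 (tt N4683 (iv F35077)) (tt N3494 F29728) (tt N4103 F29729) (tt N4416 (iv F133870)) (tt N3252 (iv D6217)) (tt N4103 F29730) (tt N3510 F133062) (tt N4103 F29731) (tt N4103 F29732) (tt N4103 F29733))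
theorem Q4105 : ∀ i, i < 4105 → P i := stepQ 4104 Q4104 (allL N4104 (tt N4684 (iv F35084)) (tt N3495 F29734) (tt N4104 F29735) (tt N5069 (iv F36955)) (tt N3510 F133060) (tt N3254 F29736) (tt N3252 (iv D6218)) (tt N4399 F133061) (tt N4104 F29737) (tt N4104 F29738))
theorem Q4106 : ∀ i, i < 4106 → P i := stepQ 4105 Q4105 (allL N4105 (tt N4685 (iv F35090)) (tt N3474 F132110) (tt N5038 F132111) (tt N3253 (iv D6219)) (tt N5070 (iv F36960)) (tt N4105 F29740) (tt N3465 F132112) (tt N3255 F29741) (tt N3258 F29742) (tt N4105 F29743))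
theorem Q4107 : ∀ i, i < 4107 → P i := stepQ 4106 Q4106 (allL N4106 (tt N4686 (iv F35102)) (tt N3496 F29749) (tt N4106 F29750) (tt N5072 (iv F36969)) (tt N3511 (iv F132541)) (tt N4399 (iv F132718)) (tt N3257 F29751) (tt N3254 (iv D6221)) (tt N3259 F29752) (tt N4106 F29753))
theorem Q4108 : ∀ i, i < 4108 → P i := stepQ 4107 Q4107 (allL N4107 (tt N4687 (iv F35108)) (tt N5052 F132319) (tt N3255 (iv D6222)) (tt N4107 F29754) (tt N5073 (iv F36973)) (tt N4107 F29755) (tt N5087 D7851) (tt N5038 F132320) (tt N3260 F29756) (tt N4107 F29757))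
theorem Q4109 : ∀ i, i < 4109 → P i := stepQ 4108 Q4108 (allL N4108 (tt N4688 (iv F35113)) (tt N3497 F29758) (tt N5087 (iv F37074)) (tt N3256 F29759) (tt N5074 (iv F36978)) (tt N5088 D7852) (tt N3255 (iv D6223)) (tt N5089 D7853) (tt N3261 F29760) (tt N4108 F29761))
theorem Q4110 : ∀ i, i < 4110 → P i := stepQ 4109 Q4109 (allL N4109 (tt N4689 (iv F35118)) (tt N3498 F29762) (tt N4109 F29763) (tt N5088 (iv F37079)) (tt N4109 F29764) (tt N3256 (iv D6224)) (tt N4109 F29765) (tt N4398 F133067) (tt N4109 F29766) (tt N4109 F29767))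
theorem Q4111 : ∀ i, i < 4111 → P i := stepQ 4110 Q4110 (allL N4110 (tt N4690 (iv F35125)) (tt N3499 F29768) (tt N4110 F29769) (tt N5089 (iv F37084)) (tt N3257 F29770) (tt N4398 (iv F132720)) (tt N3511 (iv F132542)) (tt N3256 (iv D6225)) (tt N3262 F29771) (tt N4110 F29772))
theorem Q4112 : ∀ i, i < 4112 → P i := stepQ 4111 Q4111 (allL N4111 (tt N4693 (iv F35156)) (tt N5055 F132327) (tt N3261 F29794) (tt N4111 F29795) (tt N5079 (iv F37006)) (tt N4111 F29796) (tt N3260 (iv D6231)) (tt N5040 F132328) (tt N5087 (iv F37076)) (tt N3286 F29797))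
theorem Q4113 : ∀ i, i < 4113 → P i := stepQ 4112 Q4112 (allL N4112 (tt N4694 (iv F35161)) (tt N3476 F132107) (tt N5040 F132108) (tt N3262 F29799) (tt N5081 (iv F37014)) (tt N4112 F29800) (tt N3466 F132109) (tt N3261 (iv D6232)) (tt N5089 (iv F37085)) (tt N3287 F29801))
theorem Q4114 : ∀ i, i < 4114 → P i := stepQ 4113 Q4113 (allL N4113 (tt N3266 F29826) (tt N4695 (iv F35195)) (tt N3500 F29827) (tt N4113 F29828) (tt N5090 D7870) (tt N3263 (iv D6238)) (tt N4731 (iv F131853)) (tt N3264 F29829) (tt N4113 F29830) (tt N5033 (iv F36769)))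
theorem Q4115 : ∀ i, i < 4115 → P i := stepQ 4114 Q4114 (allL N4114 (tt N3267 F29831) (tt N4696 (iv F35201)) (tt N3501 F29832) (tt N5091 D7872) (tt N3264 (iv D6239)) (tt N4962 (iv F36480)) (tt N4718 (iv F131856)) (tt N5090 (iv F37163)) (tt N4114 F29833) (tt N5034 (iv F36772)))
theorem Q4116 : ∀ i, i < 4116 → P i := stepQ 4115 Q4115 (allL N4115 (tt N5090 (iv F37161)) (tt N3270 F29852) (tt N3502 F29853) (tt N5092 D7879) (tt N3266 (iv D6244)) (tt N4970 (iv F36509)) (tt N5093 D7880) (tt N3267 F29854) (tt N4115 F29855) (tt N5039 (iv F36816)))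
theorem Q4117 : ∀ i, i < 4117 → P i := stepQ 4116 Q4116 (allL N4116 (tt N4731 (iv F131851)) (tt N3271 F29856) (tt N3287 (iv F131721)) (tt N4116 F29858) (tt N5093 (iv F37204)) (tt N4116 F29859) (tt N3266 (iv D6245)) (tt N3286 (iv F131862)) (tt N4116 F29860) (tt N5040 (iv F36821)))
theorem Q4118 : ∀ i, i < 4118 → P i := stepQ 4117 Q4117 (allL N4117 (tt N5091 (iv F37170)) (tt N3272 F29861) (tt N5094 D7882) (tt N3267 (iv D6246)) (tt N4117 F29862) (tt N4972 (iv F36515)) (tt N5095 D7883) (tt N5092 (iv F37200)) (tt N4117 F29863) (tt N5041 (iv F36824)))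
theorem Q4119 : ∀ i, i < 4119 → P i := stepQ 4118 Q4118 (allL N4118 (tt N4718 (iv F131854)) (tt N3273 F29864) (tt N3277 (iv F131731)) (tt N5095 (iv F37216)) (tt N3268 F29866) (tt N5001 (iv F131811)) (tt N3267 (iv D6247)) (tt N3280 (iv F131858)) (tt N4118 F29867) (tt N5042 (iv F36828)))
theorem Q4120 : ∀ i, i < 4120 → P i := stepQ 4119 Q4119 (allL N4119 (tt N4707 (iv F35263)) (tt N5092 (iv F37198)) (tt N5095 F132352) (tt N3270 (iv D6253)) (tt N4119 F29889) (tt N4983 (iv F36552)) (tt N5094 F132353) (tt N3272 F29890) (tt N4119 F29891) (tt N5053 (iv F36893)))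
theorem Q4121 : ∀ i, i < 4121 → P i := stepQ 4120 Q4120 (allL N4120 (tt N4708 (iv F35267)) (tt N5093 (iv F37202)) (tt N3278 F29892) (tt N5094 F132155) (tt N3271 F29893) (tt N5096 D7893) (tt N3270 (iv D6254)) (tt N5097 D7894) (tt N4120 F29894) (tt N5054 (iv F36896)))
theorem Q4122 : ∀ i, i < 4122 → P i := stepQ 4121 Q4121 (allL N4121 (tt N4709 (iv F35271)) (tt N3286 (iv F131861)) (tt N3279 F29895) (tt N4121 F29896) (tt N5097 (iv F37254)) (tt N4121 F29897) (tt N3274 F29898) (tt N3271 (iv D6255)) (tt N4121 F29899) (tt N5055 (iv F36901)))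
theorem Q4123 : ∀ i, i < 4123 → P i := stepQ 4122 Q4122 (allL N4122 (tt N4710 (iv F35277)) (tt N5098 D7895) (tt N3272 (iv D6256)) (tt N3280 F29900) (tt N4122 F29901) (tt N4986 (iv F36560)) (tt N5099 D7896) (tt N5095 F132354) (tt N4122 F29902) (tt N5056 (iv F36904)))
theorem Q4124 : ∀ i, i < 4124 → P i := stepQ 4123 Q4123 (allL N4123 (tt N4711 (iv F35281)) (tt N5095 (iv F37215)) (tt N5099 (iv F37260)) (tt N3273 F29903) (tt N4123 F29904) (tt N5100 D7897) (tt N3272 (iv D6257)) (tt N5098 F132351) (tt N4123 F29905) (tt N5057 (iv F36907)))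
theorem Q4125 : ∀ i, i < 4125 → P i := stepQ 4124 Q4124 (allL N4124 (tt N4712 (iv F35285)) (tt N5001 F132286) (tt N3282 F29906) (tt N5100 (iv F37264)) (tt N3276 F29907) (tt N3273 (iv D6258)) (tt N4988 (iv F36564)) (tt N5005 F132287) (tt N5101 D7900) (tt N5058 (iv F36910)))
theorem Q4126 : ∀ i, i < 4126 → P i := stepQ 4125 Q4125 (allL N4125 (tt N4713 (iv F35288)) (tt N3280 (iv F131857)) (tt N3283 F29908) (tt N5098 (iv F131864)) (tt N3274 F29909) (tt N5005 (iv F131813)) (tt N5097 (iv F37255)) (tt N3273 (iv D6259)) (tt N4125 F29910) (tt N5059 (iv F36913)))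
theorem Q4127 : ∀ i, i < 4127 → P i := stepQ 4126 Q4126 (allL N4126 (tt N4714 (iv F35292)) (tt N4613 (iv F131817)) (tt N4126 F29911) (tt N3276 F29912) (tt N5102 D7901) (tt N3275 (iv D6260)) (tt N4990 (iv F36569)) (tt N4822 (iv F131760)) (tt N4621 (iv F131867)) (tt N5060 (iv F36916)))
theorem Q4128 : ∀ i, i < 4128 → P i := stepQ 4127 Q4127 (allL N4127 (tt N4717 (iv F35304)) (tt N4457 (iv F131818)) (tt N3285 F29920) (tt N4621 (iv F131866)) (tt N5101 (iv F37272)) (tt N3288 F29921) (tt N4993 (iv F36578)) (tt N5018 (iv F131814)) (tt N3276 (iv D6263)) (tt N5103 D7906))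
theorem Q4129 : ∀ i, i < 4129 → P i := stepQ 4128 Q4128 (allL N4128 (tt N4719 (iv F35316)) (tt N3415 F132151) (tt N5096 (iv F37251)) (tt N3404 F132152) (tt N4128 F29930) (tt N3278 (iv D6266)) (tt N5003 (iv F36611)) (tt N5104 D7911) (tt N5105 D7912) (tt N5077 (iv F36997)))
theorem Q4130 : ∀ i, i < 4130 → P i := stepQ 4129 Q4129 (allL N4129 (tt N4720 (iv F35319)) (tt N3503 F131868) (tt N5097 (iv F37253)) (tt N3502 F131869) (tt N3279 F29932) (tt N5104 (iv F37305)) (tt N3283 F29933) (tt N3278 (iv D6267)) (tt N4129 F29934) (tt N5078 (iv F37001)))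
theorem Q4131 : ∀ i, i < 4131 → P i := stepQ 4130 Q4130 (allL N4130 (tt N4722 (iv F35327)) (tt N5097 F132343) (tt N3281 F29938) (tt N5099 (iv F37261)) (tt N3286 F29939) (tt N5106 D7915) (tt N3280 (iv D6269)) (tt N5093 F132344) (tt N4130 F29940) (tt N5079 (iv F37007)))
theorem Q4132 : ∀ i, i < 4132 → P i := stepQ 4131 Q4131 (allL N4131 (tt N4723 (iv F35331)) (tt N3505 F29941) (tt N5106 (iv F37316)) (tt N3282 F29942) (tt N4131 F29943) (tt N3281 (iv D6270)) (tt N5007 (iv F36623)) (tt N5107 D7917) (tt N5108 D7918) (tt N5080 (iv F37011)))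
theorem Q4133 : ∀ i, i < 4133 → P i := stepQ 4132 Q4132 (allL N4132 (tt N4724 (iv F35335)) (tt N3504 F131870) (tt N5093 F131871) (tt N3283 F29945) (tt N3287 F29946) (tt N5107 (iv F37324)) (tt N3502 F131872) (tt N3281 (iv D6271)) (tt N4132 F29947) (tt N5081 (iv F37015)))
theorem Q4134 : ∀ i, i < 4134 → P i := stepQ 4133 Q4133 (allL N4133 (tt N4725 (iv F35340)) (tt N3432 F132084) (tt N5005 F132085) (tt N5107 (iv F37322)) (tt N3284 F29949) (tt N3283 F29950) (tt N5109 D7919) (tt N3282 (iv D6272)) (tt N5110 D7920) (tt N5082 (iv F37019)))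
theorem Q4135 : ∀ i, i < 4135 → P i := stepQ 4134 Q4134 (allL N4134 (tt N4726 (iv F35344)) (tt N3506 F29951) (tt N5101 (iv F37271)) (tt N5108 (iv F37326)) (tt N3285 F29952) (tt N4134 F29953) (tt N5010 (iv F36632)) (tt N5110 (iv F37334)) (tt N3282 (iv D6273)) (tt N5111 D7921))
theorem Q4136 : ∀ i, i < 4136 → P i := stepQ 4135 Q4135 (allL N4135 (tt N4727 (iv F35348)) (tt N3451 F132088) (tt N5025 F132089) (tt N4135 F29955) (tt N5109 (iv F37330)) (tt N4135 F29956) (tt N3284 (iv D6274)) (tt N5011 (iv F36636)) (tt N5112 D7922) (tt N5084 (iv F37025)))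
theorem Q4137 : ∀ i, i < 4137 → P i := stepQ 4136 Q4136 (allL N4136 (tt N4728 (iv F35352)) (tt N3446 F132086) (tt N5018 F132087) (tt N4136 F29958) (tt N5110 (iv F37332)) (tt N3290 F29959) (tt N5112 (iv F37340)) (tt N3285 F29960) (tt N3284 (iv D6275)) (tt N5113 D7923))
theorem Q4138 : ∀ i, i < 4138 → P i := stepQ 4137 Q4137 (allL N4137 (tt N4729 (iv F35357)) (tt N3507 F29961) (tt N5103 (iv F37287)) (tt N4137 F29962) (tt N5111 (iv F37336)) (tt N3291 F29963) (tt N5013 (iv F36644)) (tt N5113 (iv F37344)) (tt N5086 (iv F37033)) (tt N3285 (iv D6276)))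
theorem Q4139 : ∀ i, i < 4139 → P i := stepQ 4138 Q4138 (allL N4138 (tt N4732 (iv F35532)) (tt N4441 (iv F131873)) (tt N3291 F30112) (tt N4570 (iv F131881)) (tt N4138 F30113) (tt N5103 (iv F37288)) (tt N4138 F30114) (tt N5027 (iv F131831)) (tt N4138 F30115) (tt N3288 (iv D6310)))
theorem Q4140 : ∀ i, i < 4140 → P i := stepQ 4139 Q4139 (allL N4139 (tt N4704 F131469) (tt N3457 (iv F131695)) (tt N4698 F131470) (tt N4139 F30117) (tt N4139 F30118) (tt N5114 D7965) (tt N3290 F30119) (tt N4139 F30120) (tt N3289 (iv D6311)) (tt N5115 D7966))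
theorem Q4141 : ∀ i, i < 4141 → P i := stepQ 4140 Q4140 (allL N4140 (tt N4733 (iv F35543)) (tt N3454 F132099) (tt N5027 F132100) (tt N4140 F30122) (tt N4140 F30123) (tt N5113 (iv F37343)) (tt N5115 (iv F37539)) (tt N3291 F30124) (tt N4140 F30125) (tt N3290 (iv D6312)))
theorem Q4142 : ∀ i, i < 4142 → P i := stepQ 4141 Q4141 (allL N4141 (tt N3296 F30126) (tt N4141 F30127) (tt N4825 (iv F35959)) (tt N4141 F30128) (tt N4484 (iv F34026)) (tt N3294 F30129) (tt N3334 F30130) (tt N4481 (iv F34010)) (tt N5116 D7967) (tt N3292 (iv D6313)))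
theorem Q4143 : ∀ i, i < 4143 → P i := stepQ 4142 Q4142 (allL N4142 (tt N3297 F30131) (tt N4142 F30132) (tt N4637 (iv F34848)) (tt N4142 F30133) (tt N4142 F30134) (tt N4481 (iv F34008)) (tt N4142 F30135) (tt N3294 F30136) (tt N5117 D7968) (tt N3293 (iv D6314)))
theorem Q4144 : ∀ i, i < 4144 → P i := stepQ 4143 Q4143 (allL N4143 (tt N3298 F30137) (tt N4143 F30138) (tt N4826 (iv F35963)) (tt N4143 F30139) (tt N4143 F30140) (tt N5118 D7969) (tt N3295 F30141) (tt N5117 (iv F37551)) (tt N3294 (iv D6315)) (tt N4143 F30142))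
theorem Q4145 : ∀ i, i < 4145 → P i := stepQ 4144 Q4144 (allL N4144 (tt N3299 F30143) (tt N4144 F30144) (tt N4827 (iv F35968)) (tt N4144 F30145) (tt N5119 D7970) (tt N3295 (iv D6316)) (tt N5120 D7971) (tt N4144 F30146) (tt N3337 F30147) (tt N4144 F30148))
theorem Q4146 : ∀ i, i < 4146 → P i := stepQ 4145 Q4145 (allL N4145 (tt N5116 (iv F37542)) (tt N3303 F30149) (tt N4831 (iv F35991)) (tt N4145 F30150) (tt N4852 (iv F36077)) (tt N5121 D7972) (tt N3341 F30151) (tt N4849 (iv F36064)) (tt N3296 (iv D6317)) (tt N4848 (iv F36059)))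
theorem Q4147 : ∀ i, i < 4147 → P i := stepQ 4146 Q4146 (allL N4146 (tt N5117 (iv F37546)) (tt N3304 F30152) (tt N4832 (iv F35994)) (tt N4146 F30153) (tt N4146 F30154) (tt N5122 D7973) (tt N4146 F30155) (tt N3298 F30156) (tt N3297 (iv D6318)) (tt N4146 F30157))
theorem Q4148 : ∀ i, i < 4148 → P i := stepQ 4147 Q4147 (allL N4147 (tt N5118 (iv F37553)) (tt N3305 F30158) (tt N4833 (iv F36000)) (tt N4147 F30159) (tt N5123 D7974) (tt N3298 (iv D6319)) (tt N5124 D7975) (tt N5122 (iv F37573)) (tt N5121 (iv F37570)) (tt N4147 F30160))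
theorem Q4149 : ∀ i, i < 4149 → P i := stepQ 4148 Q4148 (allL N4148 (tt N5119 (iv F37557)) (tt N3306 F30161) (tt N4834 (iv F36003)) (tt N4958 (iv F132668)) (tt N3299 (iv D6320)) (tt N4148 F30162) (tt N5125 D7977) (tt N4148 F30163) (tt N3344 F30164) (tt N4148 F30165))
theorem Q4150 : ∀ i, i < 4150 → P i := stepQ 4149 Q4149 (allL N4149 (tt N5120 (iv F37563)) (tt N3307 F30166) (tt N4835 (iv F36009)) (tt N4149 F30167) (tt N5125 (iv F37589)) (tt N5124 (iv F37580)) (tt N3299 (iv D6321)) (tt N5126 D7978) (tt N3345 F30168) (tt N4149 F30169))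
theorem Q4151 : ∀ i, i < 4151 → P i := stepQ 4150 Q4150 (allL N4150 (tt N4150 F30170) (tt N4852 (iv F36075)) (tt N3308 F30171) (tt N3320 F30172) (tt N3303 F30173) (tt N5127 D7979) (tt N3347 F30174) (tt N3311 F30175) (tt N3300 (iv D6322)) (tt N3310 F30176))
theorem Q4152 : ∀ i, i < 4152 → P i := stepQ 4151 Q4151 (allL N4151 (tt N4151 F30177) (tt N4849 (iv F36060)) (tt N3310 F30178) (tt N4151 F30179) (tt N3311 F30180) (tt N5128 D7980) (tt N3360 F30181) (tt N3303 F30182) (tt N3301 (iv D6323)) (tt N3308 F30183))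
theorem Q4153 : ∀ i, i < 4153 → P i := stepQ 4152 Q4152 (allL N4152 (tt N4152 F30184) (tt N4848 (iv F36054)) (tt N3311 F30185) (tt N4152 F30186) (tt N3310 F30187) (tt N5129 D7981) (tt N3351 F30188) (tt N3308 F30189) (tt N3302 (iv D6324)) (tt N3303 F30190))
theorem Q4154 : ∀ i, i < 4154 → P i := stepQ 4153 Q4153 (allL N4153 (tt N4153 F30191) (tt N5121 (iv F37568)) (tt N3312 F30192) (tt N4153 F30193) (tt N5130 D7982) (tt N3303 (iv D6325)) (tt N5131 D7983) (tt N5128 (iv F37606)) (tt N3305 F30194) (tt N5129 (iv F37614)))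
theorem Q4155 : ∀ i, i < 4155 → P i := stepQ 4154 Q4154 (allL N4154 (tt N4154 F30195) (tt N5122 (iv F37571)) (tt N3313 F30196) (tt N4154 F30197) (tt N5132 D7984) (tt N3304 (iv D6326)) (tt N5133 D7985) (tt N3305 F30198) (tt N5128 (iv F37607)) (tt N4154 F30199))
theorem Q4156 : ∀ i, i < 4156 → P i := stepQ 4155 Q4155 (allL N4155 (tt N4155 F30200) (tt N5123 (iv F37575)) (tt N3314 F30201) (tt N5134 D7986) (tt N3305 (iv D6327)) (tt N4155 F30202) (tt N5135 D7987) (tt N5132 (iv F37626)) (tt N5130 (iv F37617)) (tt N4155 F30203))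
theorem Q4157 : ∀ i, i < 4157 → P i := stepQ 4156 Q4156 (allL N4156 (tt N4156 F30204) (tt N5124 (iv F37578)) (tt N3315 F30205) (tt N4156 F30206) (tt N5135 (iv F37639)) (tt N3307 F30207) (tt N3305 (iv D6328)) (tt N5136 D7988) (tt N5131 (iv F37622)) (tt N4156 F30208))
theorem Q4158 : ∀ i, i < 4158 → P i := stepQ 4157 Q4157 (allL N4157 (tt N4157 F30209) (tt N4958 (iv F132667)) (tt N4157 F30210) (tt N3306 (iv D6329)) (tt N4157 F30211) (tt N4157 F30212) (tt N5137 D7989) (tt N4157 F30213) (tt N3356 F30214) (tt N4157 F30215))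
theorem Q4159 : ∀ i, i < 4159 → P i := stepQ 4158 Q4158 (allL N4158 (tt N4158 F30216) (tt N5125 (iv F37588)) (tt N3316 F30217) (tt N5137 (iv F37648)) (tt N3307 F30218) (tt N5138 D7990) (tt N3306 (iv D6330)) (tt N5139 D7991) (tt N3357 F30219) (tt N4158 F30220))
theorem Q4160 : ∀ i, i < 4160 → P i := stepQ 4159 Q4159 (allL N4159 (tt N4159 F30221) (tt N5126 (iv F37592)) (tt N3317 F30222) (tt N4159 F30223) (tt N5139 (iv F37658)) (tt N5136 (iv F37644)) (tt N4159 F30224) (tt N3307 (iv D6331)) (tt N3358 F30225) (tt N4159 F30226))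
theorem Q4161 : ∀ i, i < 4161 → P i := stepQ 4160 Q4160 (allL N4160 (tt N4160 F30227) (tt N4850 (iv F36066)) (tt N5127 (iv F37598)) (tt N4160 F30228) (tt N5140 D7992) (tt N3308 (iv D6332)) (tt N5141 D7993) (tt N5129 (iv F37612)) (tt N4160 F30229) (tt N5128 (iv F37608)))
theorem Q4162 : ∀ i, i < 4162 → P i := stepQ 4161 Q4161 (allL N4161 (tt N4161 F30230) (tt N4851 (iv F36069)) (tt N3360 F30231) (tt N3319 F30232) (tt N3351 F30233) (tt N5142 D7994) (tt N3310 F30234) (tt N3362 F30235) (tt N3309 (iv D6333)) (tt N3347 F30236))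
theorem Q4163 : ∀ i, i < 4163 → P i := stepQ 4162 Q4162 (allL N4162 (tt N4162 F30237) (tt N4853 (iv F36081)) (tt N5128 (iv F37604)) (tt N3321 F30238) (tt N5143 D7995) (tt N3310 (iv D6334)) (tt N5144 D7996) (tt N3312 F30239) (tt N3313 F30240) (tt N5127 (iv F37602)))
theorem Q4164 : ∀ i, i < 4164 → P i := stepQ 4163 Q4163 (allL N4163 (tt N4163 F30241) (tt N4854 (iv F36085)) (tt N5129 (iv F37610)) (tt N3322 F30242) (tt N5145 D7997) (tt N3311 (iv D6335)) (tt N5146 D7998) (tt N5127 (iv F37600)) (tt N4163 F30243) (tt N3312 F30244))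
theorem Q4165 : ∀ i, i < 4165 → P i := stepQ 4164 Q4164 (allL N4164 (tt N4164 F30245) (tt N4855 (iv F36089)) (tt N5130 (iv F37616)) (tt N5147 D7999) (tt N3312 (iv D6336)) (tt N5140 (iv F37663)) (tt N5148 D8000) (tt N5143 (iv F37676)) (tt N3314 F30246) (tt N5145 (iv F37683)))
theorem Q4166 : ∀ i, i < 4166 → P i := stepQ 4165 Q4165 (allL N4165 (tt N4165 F30247) (tt N4856 (iv F36091)) (tt N5131 (iv F37619)) (tt N3324 F30248) (tt N5148 (iv F37693)) (tt N3367 F30249) (tt N3312 (iv D6337)) (tt N5149 D8001) (tt N3315 F30250) (tt N5146 (iv F37688)))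
theorem Q4167 : ∀ i, i < 4167 → P i := stepQ 4166 Q4166 (allL N4166 (tt N4166 F30251) (tt N4857 (iv F36095)) (tt N5132 (iv F37624)) (tt N5150 D8002) (tt N3313 (iv D6338)) (tt N4166 F30252) (tt N5151 D8003) (tt N3314 F30253) (tt N5143 (iv F37677)) (tt N4166 F30254))
theorem Q4168 : ∀ i, i < 4168 → P i := stepQ 4167 Q4167 (allL N4167 (tt N4167 F30255) (tt N4858 (iv F36099)) (tt N5133 (iv F37629)) (tt N3326 F30256) (tt N5151 (iv F37705)) (tt N4167 F30257) (tt N3313 (iv D6339)) (tt N5152 D8004) (tt N5144 (iv F37680)) (tt N4167 F30258))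
theorem Q4169 : ∀ i, i < 4169 → P i := stepQ 4168 Q4168 (allL N4168 (tt N4168 F30259) (tt N4859 (iv F36103)) (tt N5153 D8005) (tt N3314 (iv D6340)) (tt N3327 F30260) (tt N4168 F30261) (tt N5154 D8006) (tt N5150 (iv F37702)) (tt N5147 (iv F37691)) (tt N4168 F30262))
theorem Q4170 : ∀ i, i < 4170 → P i := stepQ 4169 Q4169 (allL N4169 (tt N4169 F30263) (tt N4860 (iv F36107)) (tt N5135 (iv F37638)) (tt N5154 (iv F37717)) (tt N3315 F30264) (tt N5155 D8007) (tt N3314 (iv D6341)) (tt N5156 D8008) (tt N5148 (iv F37694)) (tt N4169 F30265))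
theorem Q4171 : ∀ i, i < 4171 → P i := stepQ 4170 Q4170 (allL N4170 (tt N4170 F30266) (tt N4861 (iv F36110)) (tt N5136 (iv F37642)) (tt N3329 F30267) (tt N5156 (iv F37725)) (tt N3317 F30268) (tt N5152 (iv F37710)) (tt N3315 (iv D6342)) (tt N5149 (iv F37698)) (tt N4170 F30269))
theorem Q4172 : ∀ i, i < 4172 → P i := stepQ 4171 Q4171 (allL N4171 (tt N4171 F30270) (tt N4862 (iv F36114)) (tt N5138 (iv F37653)) (tt N4171 F30271) (tt N5155 (iv F37721)) (tt N3316 (iv D6343)) (tt N4171 F30272) (tt N5157 D8009) (tt N5158 D8010) (tt N4171 F30273))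
theorem Q4173 : ∀ i, i < 4173 → P i := stepQ 4172 Q4172 (allL N4172 (tt N4172 F30274) (tt N4863 (iv F36118)) (tt N5139 (iv F37657)) (tt N4172 F30275) (tt N3317 F30276) (tt N5157 (iv F37729)) (tt N4172 F30277) (tt N3316 (iv D6344)) (tt N3374 F30278) (tt N4172 F30279))
theorem Q4174 : ∀ i, i < 4174 → P i := stepQ 4173 Q4173 (allL N4173 (tt N4173 F30280) (tt N4409 (iv F33576)) (tt N4173 F30281) (tt N3347 F30282) (tt N4173 F30283) (tt N5159 D8011) (tt N3320 F30284) (tt N3375 F30285) (tt N3318 (iv D6345)) (tt N3319 F30286))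
theorem Q4175 : ∀ i, i < 4175 → P i := stepQ 4174 Q4174 (allL N4174 (tt N4174 F30287) (tt N4864 (iv F36124)) (tt N4174 F30288) (tt N5142 (iv F37671)) (tt N5160 D8012) (tt N3319 (iv D6346)) (tt N5161 D8013) (tt N3376 F30289) (tt N4174 F30290) (tt N5159 (iv F37740)))
theorem Q4176 : ∀ i, i < 4176 → P i := stepQ 4175 Q4175 (allL N4175 (tt N4175 F30291) (tt N4865 (iv F36127)) (tt N4175 F30292) (tt N5127 (iv F37599)) (tt N5162 D8014) (tt N3320 (iv D6347)) (tt N5163 D8015) (tt N3322 F30293) (tt N4175 F30294) (tt N3321 F30295))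
theorem Q4177 : ∀ i, i < 4177 → P i := stepQ 4176 Q4176 (allL N4176 (tt N4176 F30296) (tt N4866 (iv F36131)) (tt N4176 F30297) (tt N5164 D8016) (tt N3321 (iv D6348)) (tt N4176 F30298) (tt N5165 D8017) (tt N3323 F30299) (tt N3325 F30300) (tt N5162 (iv F37755)))
theorem Q4178 : ∀ i, i < 4178 → P i := stepQ 4177 Q4177 (allL N4177 (tt N4177 F30301) (tt N4867 (iv F36135)) (tt N4177 F30302) (tt N5144 (iv F37679)) (tt N5165 (iv F37766)) (tt N5161 (iv F37748)) (tt N3321 (iv D6349)) (tt N5166 D8018) (tt N3326 F30303) (tt N5163 (iv F37759)))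
theorem Q4179 : ∀ i, i < 4179 → P i := stepQ 4178 Q4178 (allL N4178 (tt N4178 F30304) (tt N4868 (iv F36137)) (tt N4178 F30305) (tt N5167 D8019) (tt N3322 (iv D6350)) (tt N4178 F30306) (tt N5168 D8020) (tt N5162 (iv F37753)) (tt N4178 F30307) (tt N3323 F30308))
theorem Q4180 : ∀ i, i < 4180 → P i := stepQ 4179 Q4179 (allL N4179 (tt N4179 F30309) (tt N4869 (iv F36141)) (tt N4179 F30310) (tt N5146 (iv F37685)) (tt N5168 (iv F37778)) (tt N3381 F30311) (tt N3322 (iv D6351)) (tt N5169 D8021) (tt N4179 F30312) (tt N3324 F30313))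
theorem Q4181 : ∀ i, i < 4181 → P i := stepQ 4180 Q4180 (allL N4180 (tt N4180 F30314) (tt N4870 (iv F36145)) (tt N5170 D8022) (tt N3323 (iv D6352)) (tt N5147 (iv F37690)) (tt N4180 F30315) (tt N5171 D8023) (tt N5164 (iv F37762)) (tt N3327 F30316) (tt N5167 (iv F37775)))
theorem Q4182 : ∀ i, i < 4182 → P i := stepQ 4181 Q4181 (allL N4181 (tt N4181 F30317) (tt N4871 (iv F36148)) (tt N4181 F30318) (tt N5171 (iv F37791)) (tt N3324 F30319) (tt N5172 D8024) (tt N3323 (iv D6353)) (tt N5173 D8025) (tt N3328 F30320) (tt N5168 (iv F37780)))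
theorem Q4183 : ∀ i, i < 4183 → P i := stepQ 4182 Q4182 (allL N4182 (tt N4182 F30321) (tt N4872 (iv F36151)) (tt N4182 F30322) (tt N5149 (iv F37696)) (tt N5173 (iv F37800)) (tt N3384 F30323) (tt N5166 (iv F37770)) (tt N3324 (iv D6354)) (tt N3329 F30324) (tt N5169 (iv F37785)))
theorem Q4184 : ∀ i, i < 4184 → P i := stepQ 4183 Q4183 (allL N4183 (tt N4183 F30325) (tt N4873 (iv F36154)) (tt N5174 D8026) (tt N3325 (iv D6355)) (tt N5150 (iv F37700)) (tt N3330 F30326) (tt N5175 D8027) (tt N3327 F30327) (tt N5164 (iv F37763)) (tt N4183 F30328))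
theorem Q4185 : ∀ i, i < 4185 → P i := stepQ 4184 Q4184 (allL N4184 (tt N4184 F30329) (tt N4874 (iv F36158)) (tt N4184 F30330) (tt N5175 (iv F37808)) (tt N3326 F30331) (tt N5176 D8028) (tt N3325 (iv D6356)) (tt N5177 D8029) (tt N5165 (iv F37767)) (tt N4184 F30332))
theorem Q4186 : ∀ i, i < 4186 → P i := stepQ 4185 Q4185 (allL N4185 (tt N4185 F30333) (tt N4875 (iv F36161)) (tt N4185 F30334) (tt N5152 (iv F37708)) (tt N5177 (iv F37817)) (tt N4185 F30335) (tt N3329 F30336) (tt N3326 (iv D6357)) (tt N5166 (iv F37771)) (tt N4185 F30337))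
theorem Q4187 : ∀ i, i < 4187 → P i := stepQ 4186 Q4186 (allL N4186 (tt N4186 F30338) (tt N5178 D8030) (tt N3327 (iv D6358)) (tt N4186 F30339) (tt N5153 (iv F37713)) (tt N3332 F30340) (tt N5179 D8031) (tt N5174 (iv F37805)) (tt N5170 (iv F37789)) (tt N4186 F30341))
theorem Q4188 : ∀ i, i < 4188 → P i := stepQ 4187 Q4187 (allL N4187 (tt N4187 F30342) (tt N4877 (iv F36167)) (tt N5179 (iv F37824)) (tt N3328 F30343) (tt N5154 (iv F37718)) (tt N4187 F30344) (tt N3327 (iv D6359)) (tt N5180 D8032) (tt N5171 (iv F37792)) (tt N4187 F30345))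
theorem Q4189 : ∀ i, i < 4189 → P i := stepQ 4188 Q4188 (allL N4188 (tt N4188 F30346) (tt N4878 (iv F36171)) (tt N4188 F30347) (tt N5180 (iv F37829)) (tt N3329 F30348) (tt N4188 F30349) (tt N5177 (iv F37818)) (tt N3328 (iv D6360)) (tt N5173 (iv F37801)) (tt N4188 F30350))
theorem Q4190 : ∀ i, i < 4190 → P i := stepQ 4189 Q4189 (allL N4189 (tt N4189 F30351) (tt N5181 D8033) (tt N3330 (iv D6361)) (tt N4189 F30352) (tt N4189 F30353) (tt N5174 (iv F37804)) (tt N5182 D8034) (tt N3332 F30354) (tt N4189 F30355) (tt N4189 F30356))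
theorem Q4191 : ∀ i, i < 4191 → P i := stepQ 4190 Q4190 (allL N4190 (tt N4190 F30357) (tt N4880 (iv F36179)) (tt N5182 (iv F37838)) (tt N3331 F30358) (tt N4190 F30359) (tt N5183 D8035) (tt N3330 (iv D6362)) (tt N4190 F30360) (tt N4190 F30361) (tt N4190 F30362))
theorem Q4192 : ∀ i, i < 4192 → P i := stepQ 4191 Q4191 (allL N4191 (tt N4191 F30363) (tt N4881 (iv F36185)) (tt N4191 F30364) (tt N5183 (iv F37845)) (tt N4191 F30365) (tt N3331 (iv D6363)) (tt N5176 (iv F37813)) (tt N4191 F30366) (tt N5184 D8036) (tt N4191 F30367))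
theorem Q4193 : ∀ i, i < 4193 → P i := stepQ 4192 Q4192 (allL N4192 (tt N5185 D8037) (tt N3332 (iv D6364)) (tt N4882 (iv F36189)) (tt N4192 F30368) (tt N4192 F30369) (tt N5178 (iv F37821)) (tt N4192 F30370) (tt N5181 (iv F37834)) (tt N4192 F30371) (tt N4192 F30372))
theorem Q4194 : ∀ i, i < 4194 → P i := stepQ 4193 Q4193 (allL N4193 (tt N3340 F30373) (tt N4193 F30374) (tt N4883 (iv F36195)) (tt N4193 F30375) (tt N4483 (iv F34019)) (tt N3393 F30376) (tt N4480 (iv F34002)) (tt N4538 (iv F34302)) (tt N5186 D8038) (tt N3333 (iv D6365)))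
theorem Q4195 : ∀ i, i < 4195 → P i := stepQ 4194 Q4194 (allL N4194 (tt N3341 F30377) (tt N4194 F30378) (tt N4884 (iv F36198)) (tt N4194 F30379) (tt N4753 (iv F35685)) (tt N5187 D8039) (tt N5116 (iv F37545)) (tt N4752 (iv F35681)) (tt N3334 (iv D6366)) (tt N5186 (iv F37862)))
theorem Q4196 : ∀ i, i < 4196 → P i := stepQ 4195 Q4195 (allL N4195 (tt N3342 F30380) (tt N4195 F30381) (tt N4885 (iv F36200)) (tt N4195 F30382) (tt N3460 F30383) (tt N5188 D8040) (tt N4195 F30384) (tt N3336 F30385) (tt N3335 (iv D6367)) (tt N3395 F30386))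
theorem Q4197 : ∀ i, i < 4197 → P i := stepQ 4196 Q4196 (allL N4196 (tt N3343 F30387) (tt N4196 F30388) (tt N4886 (iv F36206)) (tt N4196 F30389) (tt N5189 D8041) (tt N3336 (iv D6368)) (tt N5190 D8042) (tt N5188 (iv F37870)) (tt N5187 (iv F37866)) (tt N3396 F30390))
theorem Q4198 : ∀ i, i < 4198 → P i := stepQ 4197 Q4197 (allL N4197 (tt N3344 F30391) (tt N4197 F30392) (tt N4887 (iv F36209)) (tt N4569 (iv F132627)) (tt N3337 (iv D6369)) (tt N3462 F30393) (tt N5191 D8044) (tt N4197 F30394) (tt N5119 (iv F37561)) (tt N3397 F30395))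
theorem Q4199 : ∀ i, i < 4199 → P i := stepQ 4198 Q4198 (allL N4198 (tt N3345 F30396) (tt N4198 F30397) (tt N4888 (iv F36214)) (tt N4198 F30398) (tt N5191 (iv F37889)) (tt N5190 (iv F37879)) (tt N3337 (iv D6370)) (tt N5192 D8045) (tt N5120 (iv F37566)) (tt N3398 F30399))
theorem Q4200 : ∀ i, i < 4200 → P i := stepQ 4199 Q4199 (allL N4199 (tt N4753 (iv F35682)) (tt N3347 F30400) (tt N4889 (iv F36217)) (tt N4409 (iv F33578)) (tt N3341 F30401) (tt N5193 D8046) (tt N4852 (iv F36078)) (tt N4405 (iv F33559)) (tt N3338 (iv D6371)) (tt N4851 (iv F36074)))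
theorem Q4201 : ∀ i, i < 4201 → P i := stepQ 4200 Q4200 (allL N4200 (tt N4752 (iv F35676)) (tt N3350 F30402) (tt N4890 (iv F36220)) (tt N4200 F30403) (tt N4405 (iv F33557)) (tt N5194 D8047) (tt N4430 (iv F33703)) (tt N3341 F30404) (tt N3339 (iv D6372)) (tt N4917 (iv F36307)))
theorem Q4202 : ∀ i, i < 4202 → P i := stepQ 4201 Q4201 (allL N4201 (tt N5186 (iv F37859)) (tt N3351 F30405) (tt N4891 (iv F36223)) (tt N4201 F30406) (tt N4851 (iv F36071)) (tt N5195 D8048) (tt N4848 (iv F36057)) (tt N4917 (iv F36306)) (tt N3340 (iv D6373)) (tt N3341 F30407))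
theorem Q4203 : ∀ i, i < 4203 → P i := stepQ 4202 Q4202 (allL N4202 (tt N5187 (iv F37863)) (tt N3352 F30408) (tt N4892 (iv F36226)) (tt N4202 F30409) (tt N5196 D8049) (tt N3341 (iv D6374)) (tt N5197 D8050) (tt N5194 (iv F37900)) (tt N3343 F30410) (tt N5195 (iv F37905)))
theorem Q4204 : ∀ i, i < 4204 → P i := stepQ 4203 Q4203 (allL N4203 (tt N5188 (iv F37867)) (tt N3353 F30411) (tt N4893 (iv F36229)) (tt N4203 F30412) (tt N5198 D8051) (tt N3342 (iv D6375)) (tt N5199 D8052) (tt N3343 F30413) (tt N5194 (iv F37901)) (tt N3403 F30414))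
theorem Q4205 : ∀ i, i < 4205 → P i := stepQ 4204 Q4204 (allL N4204 (tt N5189 (iv F37872)) (tt N3354 F30415) (tt N4894 (iv F36233)) (tt N5077 (iv F132608)) (tt N3343 (iv D6376)) (tt N3467 F30416) (tt N5200 D8054) (tt N5198 (iv F37913)) (tt N5196 (iv F37907)) (tt N3404 F30417))
theorem Q4206 : ∀ i, i < 4206 → P i := stepQ 4205 Q4205 (allL N4205 (tt N5190 (iv F37876)) (tt N3355 F30418) (tt N4895 (iv F36237)) (tt N4205 F30419) (tt N5200 (iv F37924)) (tt N3345 F30420) (tt N3343 (iv D6377)) (tt N5201 D8055) (tt N5197 (iv F37910)) (tt N3405 F30421))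
theorem Q4207 : ∀ i, i < 4207 → P i := stepQ 4206 Q4206 (allL N4206 (tt N5191 (iv F37887)) (tt N3357 F30427) (tt N4897 (iv F36245)) (tt N4953 (iv F132666)) (tt N3345 F30428) (tt N4952 (iv F132597)) (tt N3344 (iv D6379)) (tt N5202 D8059) (tt N5125 (iv F37590)) (tt N3406 F30429))
theorem Q4208 : ∀ i, i < 4208 → P i := stepQ 4207 Q4207 (allL N4207 (tt N5192 (iv F37891)) (tt N3358 F30430) (tt N4898 (iv F36249)) (tt N4207 F30431) (tt N5202 (iv F37943)) (tt N5201 (iv F37928)) (tt N4207 F30432) (tt N3345 (iv D6380)) (tt N5126 (iv F37595)) (tt N3407 F30433))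
theorem Q4209 : ∀ i, i < 4209 → P i := stepQ 4208 Q4208 (allL N4208 (tt N4208 F30434) (tt N4405 (iv F33555)) (tt N3359 F30435) (tt N3375 F30436) (tt N3350 F30437) (tt N5203 D8060) (tt N3363 F30438) (tt N3347 F30439) (tt N3346 (iv D6381)) (tt N3362 F30440))
theorem Q4210 : ∀ i, i < 4210 → P i := stepQ 4209 Q4209 (allL N4209 (tt N4209 F30441) (tt N5193 (iv F37896)) (tt N3361 F30442) (tt N5159 (iv F37737)) (tt N5204 D8061) (tt N3347 (iv D6382)) (tt N5205 D8062) (tt N5203 (iv F37949)) (tt N3470 F30443) (tt N5142 (iv F37674)))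
theorem Q4211 : ∀ i, i < 4211 → P i := stepQ 4210 Q4210 (allL N4210 (tt N4210 F30444) (tt N4430 (iv F33700)) (tt N3362 F30445) (tt N4210 F30446) (tt N3363 F30447) (tt N5206 D8063) (tt N3350 F30448) (tt N3360 F30449) (tt N3348 (iv D6383)) (tt N3359 F30450))
theorem Q4212 : ∀ i, i < 4212 → P i := stepQ 4211 Q4211 (allL N4211 (tt N4211 F30451) (tt N4917 (iv F36302)) (tt N3363 F30452) (tt N4211 F30453) (tt N3362 F30454) (tt N5207 D8064) (tt N3359 F30455) (tt N3351 F30456) (tt N3349 (iv D6384)) (tt N3350 F30457))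
theorem Q4213 : ∀ i, i < 4213 → P i := stepQ 4212 Q4212 (allL N4212 (tt N4212 F30458) (tt N5194 (iv F37898)) (tt N3364 F30459) (tt N4212 F30460) (tt N5208 D8065) (tt N3350 (iv D6385)) (tt N5209 D8066) (tt N3352 F30461) (tt N3353 F30462) (tt N5207 (iv F37970)))
theorem Q4214 : ∀ i, i < 4214 → P i := stepQ 4213 Q4213 (allL N4213 (tt N4213 F30463) (tt N5195 (iv F37902)) (tt N3365 F30464) (tt N4213 F30465) (tt N5210 D8067) (tt N3351 (iv D6386)) (tt N5211 D8068) (tt N5207 (iv F37968)) (tt N3410 F30466) (tt N3352 F30467))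
theorem Q4215 : ∀ i, i < 4215 → P i := stepQ 4214 Q4214 (allL N4214 (tt N4214 F30468) (tt N5196 (iv F37906)) (tt N3366 F30469) (tt N5212 D8069) (tt N3352 (iv D6387)) (tt N5204 (iv F37954)) (tt N5213 D8070) (tt N5208 (iv F37973)) (tt N3354 F30470) (tt N5210 (iv F37982)))
theorem Q4216 : ∀ i, i < 4216 → P i := stepQ 4215 Q4215 (allL N4215 (tt N4215 F30471) (tt N5197 (iv F37908)) (tt N3367 F30472) (tt N4215 F30473) (tt N5213 (iv F37993)) (tt N5131 (iv F37621)) (tt N3352 (iv D6388)) (tt N5214 D8071) (tt N3355 F30474) (tt N5211 (iv F37987)))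
theorem Q4217 : ∀ i, i < 4217 → P i := stepQ 4216 Q4216 (allL N4216 (tt N4216 F30475) (tt N5198 (iv F37911)) (tt N3368 F30476) (tt N5215 D8072) (tt N3353 (iv D6389)) (tt N3475 F30477) (tt N5216 D8073) (tt N3354 F30478) (tt N5208 (iv F37974)) (tt N3413 F30479))
theorem Q4218 : ∀ i, i < 4218 → P i := stepQ 4217 Q4217 (allL N4217 (tt N4217 F30480) (tt N5199 (iv F37915)) (tt N3369 F30481) (tt N4217 F30482) (tt N5216 (iv F38006)) (tt N4217 F30483) (tt N3353 (iv D6390)) (tt N5217 D8074) (tt N5209 (iv F37978)) (tt N3414 F30484))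
theorem Q4219 : ∀ i, i < 4219 → P i := stepQ 4218 Q4218 (allL N4218 (tt N4218 F30485) (tt N5077 (iv F132607)) (tt N5218 D8075) (tt N3354 (iv D6391)) (tt N4218 F30486) (tt N3477 F30487) (tt N5219 D8076) (tt N5215 (iv F38002)) (tt N5212 (iv F37990)) (tt N3415 F30488))
theorem Q4220 : ∀ i, i < 4220 → P i := stepQ 4219 Q4219 (allL N4219 (tt N4219 F30489) (tt N5200 (iv F37923)) (tt N3371 F30490) (tt N5219 (iv F38020)) (tt N3355 F30491) (tt N5220 D8077) (tt N3354 (iv D6392)) (tt N5221 D8078) (tt N5213 (iv F37994)) (tt N3416 F30492))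
theorem Q4221 : ∀ i, i < 4221 → P i := stepQ 4220 Q4220 (allL N4220 (tt N4220 F30493) (tt N5201 (iv F37926)) (tt N3372 F30494) (tt N4220 F30495) (tt N5221 (iv F38030)) (tt N3358 F30496) (tt N5217 (iv F38012)) (tt N3355 (iv D6393)) (tt N5214 (iv F37998)) (tt N3417 F30497))
theorem Q4222 : ∀ i, i < 4222 → P i := stepQ 4221 Q4221 (allL N4221 (tt N4221 F30498) (tt N4953 (iv F132665)) (tt N4221 F30499) (tt N3357 F30500) (tt N4221 F30501) (tt N3386 (iv F132599)) (tt N3356 (iv D6394)) (tt N5222 D8080) (tt N5137 (iv F37650)) (tt N3418 F30502))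
theorem Q4223 : ∀ i, i < 4223 → P i := stepQ 4222 Q4222 (allL N4222 (tt N4222 F30503) (tt N4952 (iv F132595)) (tt N3373 F30504) (tt N3386 (iv F132598)) (tt N5220 (iv F38025)) (tt N3357 (iv D6395)) (tt N3385 F132044) (tt N5223 D8081) (tt N5224 D8082) (tt N3419 F30506))
theorem Q4224 : ∀ i, i < 4224 → P i := stepQ 4223 Q4223 (allL N4223 (tt N4223 F30507) (tt N5202 (iv F37942)) (tt N3374 F30508) (tt N5222 (iv F38039)) (tt N3358 F30509) (tt N5223 (iv F38045)) (tt N4223 F30510) (tt N3357 (iv D6396)) (tt N5139 (iv F37660)) (tt N3420 F30511))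
theorem Q4225 : ∀ i, i < 4225 → P i := stepQ 4224 Q4224 (allL N4224 (tt N4224 F30512) (tt N4918 (iv F36308)) (tt N5203 (iv F37947)) (tt N4224 F30513) (tt N5225 D8083) (tt N3359 (iv D6397)) (tt N5226 D8084) (tt N3361 F30514) (tt N3480 F30515) (tt N5206 (iv F37964)))
theorem Q4226 : ∀ i, i < 4226 → P i := stepQ 4225 Q4225 (allL N4225 (tt N4225 F30516) (tt N4919 (iv F36312)) (tt N5142 (iv F37670)) (tt N4225 F30517) (tt N5227 D8085) (tt N3360 (iv D6398)) (tt N5228 D8086) (tt N5206 (iv F37962)) (tt N4225 F30518) (tt N3361 F30519))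
theorem Q4227 : ∀ i, i < 4227 → P i := stepQ 4226 Q4226 (allL N4226 (tt N4226 F30520) (tt N4920 (iv F36316)) (tt N5204 (iv F37953)) (tt N5229 D8087) (tt N3361 (iv D6399)) (tt N3366 F30521) (tt N5230 D8088) (tt N5225 (iv F38052)) (tt N3481 F30522) (tt N5227 (iv F38060)))
theorem Q4228 : ∀ i, i < 4228 → P i := stepQ 4227 Q4227 (allL N4227 (tt N4227 F30523) (tt N4921 (iv F36319)) (tt N5205 (iv F37957)) (tt N4227 F30524) (tt N5230 (iv F38070)) (tt N5141 (iv F37667)) (tt N3361 (iv D6400)) (tt N5231 D8089) (tt N3482 F30525) (tt N5228 (iv F38064)))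
theorem Q4229 : ∀ i, i < 4229 → P i := stepQ 4228 Q4228 (allL N4228 (tt N4228 F30526) (tt N4922 (iv F36322)) (tt N5206 (iv F37960)) (tt N3376 F30527) (tt N5232 D8090) (tt N3362 (iv D6401)) (tt N5233 D8091) (tt N5142 (iv F37672)) (tt N4228 F30528) (tt N5203 (iv F37951)))
theorem Q4230 : ∀ i, i < 4230 → P i := stepQ 4229 Q4229 (allL N4229 (tt N4229 F30529) (tt N4431 (iv F33707)) (tt N5207 (iv F37966)) (tt N3377 F30530) (tt N5234 D8092) (tt N3363 (iv D6402)) (tt N5235 D8093) (tt N3365 F30531) (tt N3421 F30532) (tt N3364 F30533))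
theorem Q4231 : ∀ i, i < 4231 → P i := stepQ 4230 Q4230 (allL N4230 (tt N4230 F30534) (tt N4923 (iv F36325)) (tt N5208 (iv F37972)) (tt N5236 D8094) (tt N3364 (iv D6403)) (tt N5225 (iv F38051)) (tt N5237 D8095) (tt N3366 F30535) (tt N3368 F30536) (tt N5234 (iv F38084)))
theorem Q4232 : ∀ i, i < 4232 → P i := stepQ 4231 Q4231 (allL N4231 (tt N4231 F30537) (tt N4924 (iv F36328)) (tt N5209 (iv F37976)) (tt N3379 F30538) (tt N5237 (iv F38094)) (tt N5233 (iv F38079)) (tt N3364 (iv D6404)) (tt N5238 D8096) (tt N3369 F30539) (tt N5235 (iv F38088)))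
theorem Q4233 : ∀ i, i < 4233 → P i := stepQ 4232 Q4232 (allL N4232 (tt N4232 F30540) (tt N4925 (iv F36331)) (tt N5210 (iv F37980)) (tt N5239 D8097) (tt N3365 (iv D6405)) (tt N5227 (iv F38058)) (tt N5240 D8098) (tt N5234 (iv F38082)) (tt N3424 F30541) (tt N3366 F30542))
theorem Q4234 : ∀ i, i < 4234 → P i := stepQ 4233 Q4233 (allL N4233 (tt N4233 F30543) (tt N4926 (iv F36334)) (tt N5211 (iv F37984)) (tt N3381 F30544) (tt N5240 (iv F38105)) (tt N5146 (iv F37686)) (tt N3365 (iv D6406)) (tt N5241 D8099) (tt N3425 F30545) (tt N3367 F30546))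
theorem Q4235 : ∀ i, i < 4235 → P i := stepQ 4234 Q4234 (allL N4234 (tt N4234 F30547) (tt N4927 (iv F36338)) (tt N5242 D8100) (tt N3366 (iv D6407)) (tt N3382 F30548) (tt N5229 (iv F38067)) (tt N5243 D8101) (tt N5236 (iv F38091)) (tt N3370 F30549) (tt N5239 (iv F38103)))
theorem Q4236 : ∀ i, i < 4236 → P i := stepQ 4235 Q4235 (allL N4235 (tt N4235 F30550) (tt N4928 (iv F36341)) (tt N5213 (iv F37992)) (tt N5243 (iv F38116)) (tt N3367 F30551) (tt N5244 D8102) (tt N3366 (iv D6408)) (tt N5245 D8103) (tt N3371 F30552) (tt N5240 (iv F38107)))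
theorem Q4237 : ∀ i, i < 4237 → P i := stepQ 4236 Q4236 (allL N4236 (tt N4236 F30553) (tt N4929 (iv F36344)) (tt N5214 (iv F37996)) (tt N3384 F30554) (tt N5245 (iv F38121)) (tt N5149 (iv F37697)) (tt N5238 (iv F38098)) (tt N3367 (iv D6409)) (tt N3372 F30555) (tt N5241 (iv F38111)))
theorem Q4238 : ∀ i, i < 4238 → P i := stepQ 4237 Q4237 (allL N4237 (tt N4237 F30556) (tt N4930 (iv F36347)) (tt N3492 (iv F132582)) (tt N3368 (iv D6410)) (tt N3385 F30557) (tt N3478 F132041) (tt N5220 (iv F132578)) (tt N3370 F30559) (tt N5236 (iv F38092)) (tt N3429 F30560))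
theorem Q4239 : ∀ i, i < 4239 → P i := stepQ 4238 Q4238 (allL N4238 (tt N4238 F30561) (tt N4931 (iv F36352)) (tt N5216 (iv F38005)) (tt N5220 F133097) (tt N3369 F30562) (tt N5219 F133098) (tt N3368 (iv D6411)) (tt N5246 D8107) (tt N5237 (iv F38095)) (tt N3430 F30563))
theorem Q4240 : ∀ i, i < 4240 → P i := stepQ 4239 Q4239 (allL N4239 (tt N4239 F30564) (tt N4932 (iv F36355)) (tt N5217 (iv F38009)) (tt N3387 F30565) (tt N5246 (iv F38137)) (tt N4239 F30566) (tt N3372 F30567) (tt N3369 (iv D6412)) (tt N5238 (iv F38099)) (tt N3431 F30568))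
theorem Q4241 : ∀ i, i < 4241 → P i := stepQ 4240 Q4240 (allL N4240 (tt N4240 F30569) (tt N5082 (iv F132588)) (tt N3370 (iv D6413)) (tt N5218 (iv F38015)) (tt N3388 F30570) (tt N3490 F30571) (tt N5247 D8109) (tt N3492 (iv F132583)) (tt N5242 (iv F38114)) (tt N3432 F30572))
theorem Q4242 : ∀ i, i < 4242 → P i := stepQ 4241 Q4241 (allL N4241 (tt N4241 F30573) (tt N4934 (iv F36363)) (tt N5247 (iv F38144)) (tt N3371 F30574) (tt N3389 F30575) (tt N5248 D8110) (tt N3370 (iv D6414)) (tt N5249 D8111) (tt N5243 (iv F38118)) (tt N3433 F30576))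
theorem Q4243 : ∀ i, i < 4243 → P i := stepQ 4242 Q4242 (allL N4242 (tt N4242 F30577) (tt N4935 (iv F36367)) (tt N5220 (iv F38024)) (tt N5248 (iv F38148)) (tt N3373 F30578) (tt N3371 (iv D6415)) (tt N3492 F30579) (tt N5250 D8112) (tt N5251 D8113) (tt N3434 F30580))
theorem Q4244 : ∀ i, i < 4244 → P i := stepQ 4243 Q4243 (allL N4243 (tt N4243 F30581) (tt N4936 (iv F36371)) (tt N5221 (iv F38029)) (tt N5249 (iv F38153)) (tt N3372 F30582) (tt N5250 (iv F38158)) (tt N5246 (iv F38138)) (tt N3371 (iv D6416)) (tt N5245 (iv F38122)) (tt N3435 F30583))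
theorem Q4245 : ∀ i, i < 4245 → P i := stepQ 4244 Q4244 (allL N4244 (tt N4244 F30584) (tt N4937 (iv F36374)) (tt N5223 (iv F38044)) (tt N4244 F30585) (tt N5250 (iv F38157)) (tt N3374 F30586) (tt N5252 D8114) (tt N3373 (iv D6417)) (tt N5253 D8115) (tt N3436 F30587))
theorem Q4246 : ∀ i, i < 4246 → P i := stepQ 4245 Q4245 (allL N4245 (tt N4245 F30588) (tt N4938 (iv F36378)) (tt N5224 (iv F38048)) (tt N4245 F30589) (tt N5251 (iv F38161)) (tt N5158 (iv F37733)) (tt N3493 F30590) (tt N5253 (iv F38170)) (tt N3373 (iv D6418)) (tt N5254 D8116))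
theorem Q4247 : ∀ i, i < 4247 → P i := stepQ 4246 Q4246 (allL N4246 (tt N4246 F30591) (tt N4410 (iv F33584)) (tt N4246 F30592) (tt N5203 (iv F37948)) (tt N5255 D8117) (tt N3375 (iv D6419)) (tt N5256 D8118) (tt N5159 (iv F37738)) (tt N4381 (iv F33401)) (tt N3376 F30593))
theorem Q4248 : ∀ i, i < 4248 → P i := stepQ 4247 Q4247 (allL N4247 (tt N4247 F30594) (tt N4939 (iv F36381)) (tt N4247 F30595) (tt N5257 D8119) (tt N3376 (iv D6420)) (tt N4247 F30596) (tt N5258 D8120) (tt N5160 (iv F37744)) (tt N4247 F30597) (tt N5255 (iv F38178)))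
theorem Q4249 : ∀ i, i < 4249 → P i := stepQ 4248 Q4248 (allL N4248 (tt N4248 F30598) (tt N4940 (iv F36384)) (tt N4248 F30599) (tt N5233 (iv F38078)) (tt N5258 (iv F38188)) (tt N3379 F30600) (tt N3376 (iv D6421)) (tt N5259 D8121) (tt N4248 F30601) (tt N5256 (iv F38182)))
theorem Q4250 : ∀ i, i < 4250 → P i := stepQ 4249 Q4249 (allL N4249 (tt N4249 F30602) (tt N4436 (iv F33731)) (tt N4249 F30603) (tt N5260 D8122) (tt N3377 (iv D6422)) (tt N4249 F30604) (tt N5261 D8123) (tt N3380 F30605) (tt N3438 F30606) (tt N3378 F30607))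
theorem Q4251 : ∀ i, i < 4251 → P i := stepQ 4250 Q4250 (allL N4250 (tt N4250 F30608) (tt N4437 (iv F33738)) (tt N4250 F30609) (tt N5235 (iv F38086)) (tt N5261 (iv F38201)) (tt N5256 (iv F38181)) (tt N3377 (iv D6423)) (tt N5262 D8124) (tt N3439 F30610) (tt N3379 F30611))
theorem Q4252 : ∀ i, i < 4252 → P i := stepQ 4251 Q4251 (allL N4251 (tt N4251 F30612) (tt N4941 (iv F36387)) (tt N3493 (iv F132584)) (tt N3378 (iv D6424)) (tt N5236 (iv F38090)) (tt N4251 F30613) (tt N5224 (iv F132586)) (tt N3382 F30614) (tt N3385 F30615) (tt N5260 (iv F38198)))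
theorem Q4253 : ∀ i, i < 4253 → P i := stepQ 4252 Q4252 (allL N4252 (tt N4252 F30616) (tt N4942 (iv F36391)) (tt N4252 F30617) (tt N5224 F133134) (tt N3379 F30618) (tt N5263 D8127) (tt N3378 (iv D6425)) (tt N5264 D8128) (tt N3386 F30619) (tt N5261 (iv F38203)))
theorem Q4254 : ∀ i, i < 4254 → P i := stepQ 4253 Q4253 (allL N4253 (tt N4253 F30620) (tt N4943 (iv F36394)) (tt N4253 F30621) (tt N5238 (iv F38097)) (tt N5264 (iv F38222)) (tt N5259 (iv F38192)) (tt N3384 F30622) (tt N3379 (iv D6426)) (tt N3387 F30623) (tt N5262 (iv F38208)))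
theorem Q4255 : ∀ i, i < 4255 → P i := stepQ 4254 Q4254 (allL N4254 (tt N4254 F30624) (tt N4944 (iv F36397)) (tt N5265 D8129) (tt N3380 (iv D6427)) (tt N5239 (iv F38101)) (tt N4254 F30625) (tt N5266 D8130) (tt N5260 (iv F38196)) (tt N3443 F30626) (tt N3382 F30627))
theorem Q4256 : ∀ i, i < 4256 → P i := stepQ 4255 Q4255 (allL N4255 (tt N4255 F30628) (tt N4945 (iv F36401)) (tt N4255 F30629) (tt N5266 (iv F38231)) (tt N3381 F30630) (tt N5267 D8131) (tt N3380 (iv D6428)) (tt N5268 D8132) (tt N3444 F30631) (tt N3383 F30632))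
theorem Q4257 : ∀ i, i < 4257 → P i := stepQ 4256 Q4256 (allL N4256 (tt N4256 F30633) (tt N4946 (iv F36405)) (tt N4256 F30634) (tt N5241 (iv F38109)) (tt N5268 (iv F38240)) (tt N5169 (iv F37783)) (tt N5262 (iv F38206)) (tt N3381 (iv D6429)) (tt N3445 F30635) (tt N3384 F30636))
theorem Q4258 : ∀ i, i < 4258 → P i := stepQ 4257 Q4257 (allL N4257 (tt N4257 F30637) (tt N5085 (iv F132590)) (tt N3382 (iv D6430)) (tt N4257 F30638) (tt N5242 (iv F38113)) (tt N4257 F30639) (tt N5269 D8134) (tt N3493 (iv F132585)) (tt N3388 F30640) (tt N5265 (iv F38229)))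
theorem Q4259 : ∀ i, i < 4259 → P i := stepQ 4258 Q4258 (allL N4258 (tt N4258 F30641) (tt N4948 (iv F36410)) (tt N5269 (iv F38247)) (tt N3383 F30642) (tt N5243 (iv F38117)) (tt N5270 D8135) (tt N3382 (iv D6431)) (tt N5271 D8136) (tt N3389 F30643) (tt N5266 (iv F38233)))
theorem Q4260 : ∀ i, i < 4260 → P i := stepQ 4259 Q4259 (allL N4259 (tt N4259 F30644) (tt N4949 (iv F36413)) (tt N4259 F30645) (tt N5270 (iv F38251)) (tt N5172 (iv F37795)) (tt N3383 (iv D6432)) (tt N4259 F30646) (tt N5272 D8137) (tt N4259 F30647) (tt N5267 (iv F38237)))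
theorem Q4261 : ∀ i, i < 4261 → P i := stepQ 4260 Q4260 (allL N4260 (tt N4260 F30648) (tt N4950 (iv F36416)) (tt N4260 F30649) (tt N5271 (iv F38255)) (tt N3384 F30650) (tt N5272 (iv F38259)) (tt N5264 (iv F38223)) (tt N3383 (iv D6433)) (tt N3390 F30651) (tt N5268 (iv F38242)))
theorem Q4262 : ∀ i, i < 4262 → P i := stepQ 4261 Q4261 (allL N4261 (tt N4261 F30665) (tt N4954 (iv F36429)) (tt N4261 F30666) (tt N5223 F133142) (tt N3387 F30667) (tt N5222 F133143) (tt N3390 F30668) (tt N3386 (iv D6437)) (tt N5264 (iv F38224)) (tt N3450 F30669))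
theorem Q4263 : ∀ i, i < 4263 → P i := stepQ 4262 Q4262 (allL N4262 (tt N4262 F30673) (tt N5084 (iv F132592)) (tt N3389 F30674) (tt N4262 F30675) (tt N5247 (iv F38145)) (tt N4262 F30676) (tt N3388 (iv D6439)) (tt N5252 (iv F132594)) (tt N5269 (iv F38249)) (tt N3451 F30677))
theorem Q4264 : ∀ i, i < 4264 → P i := stepQ 4263 Q4263 (allL N4263 (tt N4263 F30678) (tt N4957 (iv F36439)) (tt N5252 F133136) (tt N3390 F30679) (tt N5249 (iv F38154)) (tt N4263 F30680) (tt N5223 F133137) (tt N3389 (iv D6440)) (tt N5271 (iv F38256)) (tt N3452 F30681))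
theorem Q4265 : ∀ i, i < 4265 → P i := stepQ 4264 Q4264 (allL N4264 (tt N3399 F30710) (tt N4264 F30711) (tt N4419 (iv F33636)) (tt N4264 F30712) (tt N4264 F30713) (tt N4538 (iv F34300)) (tt N4384 (iv F33422)) (tt N3393 F30714) (tt N5273 D8152) (tt N3391 (iv D6446)))
theorem Q4266 : ∀ i, i < 4266 → P i := stepQ 4265 Q4265 (allL N4265 (tt N3400 F30715) (tt N4265 F30716) (tt N4442 (iv F33768)) (tt N4265 F30717) (tt N4265 F30718) (tt N5274 D8153) (tt N4390 (iv F33460)) (tt N3394 F30719) (tt N3392 (iv D6447)) (tt N5273 (iv F38333)))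
theorem Q4267 : ∀ i, i < 4267 → P i := stepQ 4266 Q4266 (allL N4266 (tt N3401 F30720) (tt N4266 F30721) (tt N4959 (iv F36468)) (tt N4266 F30722) (tt N4266 F30723) (tt N5275 D8154) (tt N4266 F30724) (tt N5273 (iv F38332)) (tt N3393 (iv D6448)) (tt N3394 F30725))
theorem Q4268 : ∀ i, i < 4268 → P i := stepQ 4267 Q4267 (allL N4267 (tt N3402 F30726) (tt N4267 F30727) (tt N4960 (iv F36473)) (tt N4267 F30728) (tt N5276 D8155) (tt N3394 (iv D6449)) (tt N5277 D8156) (tt N5274 (iv F38337)) (tt N3396 F30729) (tt N5275 (iv F38342)))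
theorem Q4269 : ∀ i, i < 4269 → P i := stepQ 4268 Q4268 (allL N4268 (tt N3403 F30730) (tt N4268 F30731) (tt N4961 (iv F36476)) (tt N4268 F30732) (tt N5278 D8157) (tt N3395 (iv D6450)) (tt N5279 D8158) (tt N3396 F30733) (tt N5274 (iv F38338)) (tt N5188 (iv F37871)))
theorem Q4270 : ∀ i, i < 4270 → P i := stepQ 4269 Q4269 (allL N4269 (tt N3404 F30734) (tt N4269 F30735) (tt N4962 (iv F36479)) (tt N4719 (iv F132604)) (tt N3396 (iv D6451)) (tt N3501 F30736) (tt N5280 D8160) (tt N5278 (iv F38355)) (tt N5276 (iv F38346)) (tt N5189 (iv F37875)))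
theorem Q4271 : ∀ i, i < 4271 → P i := stepQ 4270 Q4270 (allL N4270 (tt N3405 F30737) (tt N4270 F30738) (tt N4963 (iv F36482)) (tt N4270 F30739) (tt N5280 (iv F38366)) (tt N3398 F30740) (tt N3396 (iv D6452)) (tt N5281 D8161) (tt N5277 (iv F38351)) (tt N5190 (iv F37880)))
theorem Q4272 : ∀ i, i < 4272 → P i := stepQ 4271 Q4271 (allL N4271 (tt N3406 F30747) (tt N4271 F30748) (tt N4965 (iv F36489)) (tt N4619 (iv F132628)) (tt N3398 F30749) (tt N4618 (iv F132629)) (tt N3397 (iv D6454)) (tt N5282 D8165) (tt N4271 F30750) (tt N5191 (iv F37890)))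
theorem Q4273 : ∀ i, i < 4273 → P i := stepQ 4272 Q4272 (allL N4272 (tt N3407 F30751) (tt N4272 F30752) (tt N4966 (iv F36493)) (tt N4272 F30753) (tt N5282 (iv F38386)) (tt N5281 (iv F38370)) (tt N4272 F30754) (tt N3398 (iv D6455)) (tt N4272 F30755) (tt N5192 (iv F37895)))
theorem Q4274 : ∀ i, i < 4274 → P i := stepQ 4273 Q4273 (allL N4273 (tt N5273 (iv F38328)) (tt N3408 F30756) (tt N4422 (iv F33655)) (tt N4273 F30757) (tt N4273 F30758) (tt N5283 D8166) (tt N4385 (iv F33428)) (tt N3401 F30759) (tt N3399 (iv D6456)) (tt N3400 F30760))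
theorem Q4275 : ∀ i, i < 4275 → P i := stepQ 4274 Q4274 (allL N4274 (tt N5274 (iv F38334)) (tt N3409 F30761) (tt N4444 (iv F33779)) (tt N4274 F30762) (tt N5284 D8167) (tt N3400 (iv D6457)) (tt N5285 D8168) (tt N3402 F30763) (tt N3403 F30764) (tt N5283 (iv F38392)))
theorem Q4276 : ∀ i, i < 4276 → P i := stepQ 4275 Q4275 (allL N4275 (tt N5275 (iv F38339)) (tt N3410 F30765) (tt N4967 (iv F36497)) (tt N4275 F30766) (tt N5286 D8169) (tt N3401 (iv D6458)) (tt N5287 D8170) (tt N5283 (iv F38391)) (tt N5195 (iv F37904)) (tt N3402 F30767))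
theorem Q4277 : ∀ i, i < 4277 → P i := stepQ 4276 Q4276 (allL N4276 (tt N5276 (iv F38343)) (tt N3411 F30768) (tt N4968 (iv F36500)) (tt N5105 (iv F132606)) (tt N3402 (iv D6459)) (tt N4276 F30769) (tt N5288 D8172) (tt N5284 (iv F38395)) (tt N3404 F30770) (tt N5286 (iv F38402)))
theorem Q4278 : ∀ i, i < 4278 → P i := stepQ 4277 Q4277 (allL N4277 (tt N5277 (iv F38347)) (tt N3412 F30771) (tt N4969 (iv F36504)) (tt N4277 F30772) (tt N5288 (iv F38412)) (tt N4277 F30773) (tt N3402 (iv D6460)) (tt N5289 D8173) (tt N3405 F30774) (tt N5287 (iv F38406)))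
theorem Q4279 : ∀ i, i < 4279 → P i := stepQ 4278 Q4278 (allL N4278 (tt N5278 (iv F38352)) (tt N3413 F30775) (tt N4970 (iv F36508)) (tt N5104 F132048) (tt N3403 (iv D6461)) (tt N3502 F30776) (tt N5290 D8175) (tt N3404 F30777) (tt N5284 (iv F38396)) (tt N5198 (iv F37914)))
theorem Q4280 : ∀ i, i < 4280 → P i := stepQ 4279 Q4279 (allL N4279 (tt N5279 (iv F38356)) (tt N3414 F30778) (tt N4971 (iv F36512)) (tt N4279 F30779) (tt N5290 (iv F38423)) (tt N4279 F30780) (tt N3403 (iv D6462)) (tt N5291 D8176) (tt N5285 (iv F38399)) (tt N5199 (iv F37918)))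
theorem Q4281 : ∀ i, i < 4281 → P i := stepQ 4280 Q4280 (allL N4280 (tt N5280 (iv F38364)) (tt N3416 F30784) (tt N4973 (iv F36517)) (tt N5003 (iv F132610)) (tt N3405 F30785) (tt N5002 (iv F132613)) (tt N3404 (iv D6464)) (tt N5292 D8180) (tt N5288 (iv F38413)) (tt N5200 (iv F37925)))
theorem Q4282 : ∀ i, i < 4282 → P i := stepQ 4281 Q4281 (allL N4281 (tt N5281 (iv F38367)) (tt N3417 F30786) (tt N4974 (iv F36520)) (tt N4281 F30787) (tt N5292 (iv F38437)) (tt N3407 F30788) (tt N5291 (iv F38427)) (tt N3405 (iv D6465)) (tt N5289 (iv F38417)) (tt N5201 (iv F37929)))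
theorem Q4283 : ∀ i, i < 4283 → P i := stepQ 4282 Q4282 (allL N4282 (tt N5282 (iv F38384)) (tt N3420 F30800) (tt N4977 (iv F36534)) (tt N5024 (iv F132675)) (tt N3407 F30801) (tt N5023 (iv F132643)) (tt N4282 F30802) (tt N3406 (iv D6469)) (tt N4282 F30803) (tt N5202 (iv F37945)))
theorem Q4284 : ∀ i, i < 4284 → P i := stepQ 4283 Q4283 (allL N4283 (tt N4283 F30804) (tt N5283 (iv F38389)) (tt N3421 F30805) (tt N4283 F30806) (tt N5293 D8186) (tt N3408 (iv D6470)) (tt N5294 D8187) (tt N3410 F30807) (tt N5207 (iv F37969)) (tt N3409 F30808))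
theorem Q4285 : ∀ i, i < 4285 → P i := stepQ 4284 Q4284 (allL N4284 (tt N4284 F30809) (tt N5284 (iv F38393)) (tt N3422 F30810) (tt N5295 D8188) (tt N3409 (iv D6471)) (tt N4284 F30811) (tt N5296 D8189) (tt N3411 F30812) (tt N3413 F30813) (tt N5293 (iv F38459)))
theorem Q4286 : ∀ i, i < 4286 → P i := stepQ 4285 Q4285 (allL N4285 (tt N4285 F30814) (tt N5285 (iv F38397)) (tt N3423 F30815) (tt N4285 F30816) (tt N5296 (iv F38471)) (tt N4393 (iv F33475)) (tt N3409 (iv D6472)) (tt N5297 D8190) (tt N3414 F30817) (tt N5294 (iv F38463)))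
theorem Q4287 : ∀ i, i < 4287 → P i := stepQ 4286 Q4286 (allL N4286 (tt N4286 F30818) (tt N5286 (iv F38400)) (tt N3424 F30819) (tt N5298 D8191) (tt N3410 (iv D6473)) (tt N4286 F30820) (tt N5299 D8192) (tt N5293 (iv F38458)) (tt N5210 (iv F37981)) (tt N3411 F30821))
theorem Q4288 : ∀ i, i < 4288 → P i := stepQ 4287 Q4287 (allL N4287 (tt N4287 F30822) (tt N5287 (iv F38403)) (tt N3425 F30823) (tt N4287 F30824) (tt N5299 (iv F38484)) (tt N4287 F30825) (tt N3410 (iv D6474)) (tt N5300 D8193) (tt N5211 (iv F37986)) (tt N3412 F30826))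
theorem Q4289 : ∀ i, i < 4289 → P i := stepQ 4288 Q4288 (allL N4288 (tt N4288 F30827) (tt N5105 (iv F132605)) (tt N5301 D8194) (tt N3411 (iv D6475)) (tt N4288 F30828) (tt N4288 F30829) (tt N5302 D8195) (tt N5295 (iv F38467)) (tt N3415 F30830) (tt N5298 (iv F38481)))
theorem Q4290 : ∀ i, i < 4290 → P i := stepQ 4289 Q4289 (allL N4289 (tt N4289 F30831) (tt N5288 (iv F38411)) (tt N3427 F30832) (tt N5302 (iv F38497)) (tt N3412 F30833) (tt N5303 D8196) (tt N3411 (iv D6476)) (tt N5304 D8197) (tt N3416 F30834) (tt N5299 (iv F38485)))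
theorem Q4291 : ∀ i, i < 4291 → P i := stepQ 4290 Q4290 (allL N4290 (tt N4290 F30835) (tt N5289 (iv F38414)) (tt N3428 F30836) (tt N4290 F30837) (tt N5304 (iv F38506)) (tt N4290 F30838) (tt N5297 (iv F38476)) (tt N3412 (iv D6477)) (tt N3417 F30839) (tt N5300 (iv F38490)))
theorem Q4292 : ∀ i, i < 4292 → P i := stepQ 4291 Q4291 (allL N4291 (tt N4291 F30840) (tt N5104 F132053) (tt N3505 F132057) (tt N3413 (iv D6478)) (tt N4291 F30841) (tt N3503 F30842) (tt N5305 D8199) (tt N3415 F30843) (tt N5295 (iv F38468)) (tt N5215 (iv F38003)))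
theorem Q4293 : ∀ i, i < 4293 → P i := stepQ 4292 Q4292 (allL N4292 (tt N4292 F30844) (tt N5290 (iv F38422)) (tt N3430 F30845) (tt N5305 (iv F38514)) (tt N3414 F30846) (tt N5306 D8200) (tt N3413 (iv D6479)) (tt N5307 D8201) (tt N5296 (iv F38472)) (tt N5216 (iv F38007)))
theorem Q4294 : ∀ i, i < 4294 → P i := stepQ 4293 Q4293 (allL N4293 (tt N4293 F30847) (tt N5291 (iv F38424)) (tt N3431 F30848) (tt N4293 F30849) (tt N5307 (iv F38522)) (tt N4293 F30850) (tt N3417 F30851) (tt N3414 (iv D6480)) (tt N5297 (iv F38477)) (tt N5217 (iv F38013)))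
theorem Q4295 : ∀ i, i < 4295 → P i := stepQ 4294 Q4294 (allL N4294 (tt N4294 F30852) (tt N5107 F132055) (tt N3415 (iv D6481)) (tt N3432 F30853) (tt N4294 F30854) (tt N3504 F132066) (tt N5306 (iv F132626)) (tt N3505 F132056) (tt N5301 (iv F38495)) (tt N5218 (iv F38018)))
theorem Q4296 : ∀ i, i < 4296 → P i := stepQ 4295 Q4295 (allL N4295 (tt N4295 F30856) (tt N5003 (iv F132609)) (tt N5306 (iv F132624)) (tt N3416 F30857) (tt N4295 F30858) (tt N3430 (iv F132621)) (tt N3415 (iv D6482)) (tt N5308 D8205) (tt N5302 (iv F38499)) (tt N5219 (iv F38022)))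
theorem Q4297 : ∀ i, i < 4297 → P i := stepQ 4296 Q4296 (allL N4296 (tt N4296 F30859) (tt N5002 (iv F132611)) (tt N3434 F30860) (tt N3430 (iv F132620)) (tt N3419 F30861) (tt N3416 (iv D6483)) (tt N3429 F132060) (tt N5309 D8206) (tt N5310 D8207) (tt N5220 (iv F38027)))
theorem Q4298 : ∀ i, i < 4298 → P i := stepQ 4297 Q4297 (allL N4297 (tt N4297 F30863) (tt N5292 (iv F38436)) (tt N3435 F30864) (tt N5308 (iv F38535)) (tt N3417 F30865) (tt N5309 (iv F38540)) (tt N5307 (iv F38523)) (tt N3416 (iv D6484)) (tt N5304 (iv F38507)) (tt N5221 (iv F38031)))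
theorem Q4299 : ∀ i, i < 4299 → P i := stepQ 4298 Q4298 (allL N4298 (tt N4298 F30870) (tt N5024 (iv F132674)) (tt N4298 F30871) (tt N3420 F30872) (tt N4298 F30873) (tt N3450 (iv F132645)) (tt N4298 F30874) (tt N3418 (iv D6486)) (tt N4298 F30875) (tt N5222 (iv F38042)))
theorem Q4300 : ∀ i, i < 4300 → P i := stepQ 4299 Q4299 (allL N4299 (tt N4299 F30876) (tt N5023 (iv F132641)) (tt N3436 F30877) (tt N3450 (iv F132644)) (tt N5309 (iv F38539)) (tt N3420 F30878) (tt N3452 (iv F132647)) (tt N3419 (iv D6487)) (tt N5311 D8212) (tt N5223 (iv F38046)))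
theorem Q4301 : ∀ i, i < 4301 → P i := stepQ 4300 Q4300 (allL N4300 (tt N4300 F30879) (tt N4458 (iv F132662)) (tt N3437 F30880) (tt N3441 (iv F132663)) (tt N5310 (iv F38543)) (tt N4300 F30881) (tt N3440 F132083) (tt N5311 (iv F38565)) (tt N3419 (iv D6488)) (tt N5312 D8213))
theorem Q4302 : ∀ i, i < 4302 → P i := stepQ 4301 Q4301 (allL N4301 (tt N4301 F30883) (tt N4432 (iv F33713)) (tt N5293 (iv F38456)) (tt N5313 D8214) (tt N3421 (iv D6489)) (tt N4301 F30884) (tt N5314 D8215) (tt N3424 F30885) (tt N5234 (iv F38083)) (tt N3422 F30886))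
theorem Q4303 : ∀ i, i < 4303 → P i := stepQ 4302 Q4302 (allL N4302 (tt N4302 F30887) (tt N4433 (iv F33718)) (tt N5294 (iv F38461)) (tt N3439 F30888) (tt N5314 (iv F38576)) (tt N4388 (iv F33446)) (tt N3421 (iv D6490)) (tt N5315 D8216) (tt N5235 (iv F38087)) (tt N3423 F30889))
theorem Q4304 : ∀ i, i < 4304 → P i := stepQ 4303 Q4303 (allL N4303 (tt N4303 F30890) (tt N4452 (iv F33816)) (tt N3506 F132077) (tt N3422 (iv D6491)) (tt N3440 F30891) (tt N4303 F30892) (tt N5310 (iv F132630)) (tt N3426 F30893) (tt N3429 F30894) (tt N5313 (iv F38574)))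
theorem Q4305 : ∀ i, i < 4305 → P i := stepQ 4304 Q4304 (allL N4304 (tt N4304 F30895) (tt N4453 (iv F33822)) (tt N5296 (iv F38470)) (tt N5310 F133173) (tt N3423 F30896) (tt N5316 D8219) (tt N3422 (iv D6492)) (tt N5317 D8220) (tt N3430 F30897) (tt N5314 (iv F38577)))
theorem Q4306 : ∀ i, i < 4306 → P i := stepQ 4305 Q4305 (allL N4305 (tt N4305 F30898) (tt N4454 (iv F33826)) (tt N5297 (iv F38474)) (tt N3442 F30899) (tt N5317 (iv F38594)) (tt N4395 (iv F33485)) (tt N3428 F30900) (tt N3423 (iv D6493)) (tt N3431 F30901) (tt N5315 (iv F38581)))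
theorem Q4307 : ∀ i, i < 4307 → P i := stepQ 4306 Q4306 (allL N4306 (tt N4306 F30902) (tt N4994 (iv F36579)) (tt N5318 D8221) (tt N3424 (iv D6494)) (tt N3443 F30903) (tt N4306 F30904) (tt N5319 D8222) (tt N5313 (iv F38573)) (tt N5239 (iv F38102)) (tt N3426 F30905))
theorem Q4308 : ∀ i, i < 4308 → P i := stepQ 4307 Q4307 (allL N4307 (tt N4307 F30906) (tt N4995 (iv F36583)) (tt N5299 (iv F38483)) (tt N5319 (iv F38602)) (tt N3425 F30907) (tt N5320 D8223) (tt N3424 (iv D6495)) (tt N5321 D8224) (tt N5240 (iv F38106)) (tt N3427 F30908))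
theorem Q4309 : ∀ i, i < 4309 → P i := stepQ 4308 Q4308 (allL N4308 (tt N4308 F30909) (tt N4996 (iv F36586)) (tt N5300 (iv F38487)) (tt N3445 F30910) (tt N5321 (iv F38610)) (tt N4308 F30911) (tt N5315 (iv F38580)) (tt N3425 (iv D6496)) (tt N5241 (iv F38110)) (tt N3428 F30912))
theorem Q4310 : ∀ i, i < 4310 → P i := stepQ 4309 Q4309 (allL N4309 (tt N4309 F30913) (tt N5110 (iv F132636)) (tt N3426 (iv D6497)) (tt N5301 (iv F38492)) (tt N3446 F30914) (tt N4309 F30915) (tt N5322 D8226) (tt N3506 F132067) (tt N3432 F30916) (tt N5318 (iv F38600)))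
theorem Q4311 : ∀ i, i < 4311 → P i := stepQ 4310 Q4310 (allL N4310 (tt N4310 F30917) (tt N4998 (iv F36593)) (tt N5322 (iv F38616)) (tt N3427 F30918) (tt N3447 F30919) (tt N5323 D8227) (tt N3426 (iv D6498)) (tt N5324 D8228) (tt N3433 F30920) (tt N5319 (iv F38604)))
theorem Q4312 : ∀ i, i < 4312 → P i := stepQ 4311 Q4311 (allL N4311 (tt N4311 F30921) (tt N4999 (iv F36597)) (tt N5303 (iv F38501)) (tt N5323 (iv F38620)) (tt N4311 F30922) (tt N3427 (iv D6499)) (tt N4311 F30923) (tt N5325 D8229) (tt N5326 D8230) (tt N5320 (iv F38608)))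
theorem Q4313 : ∀ i, i < 4313 → P i := stepQ 4312 Q4312 (allL N4312 (tt N4312 F30924) (tt N5000 (iv F36600)) (tt N5304 (iv F38505)) (tt N5324 (iv F38623)) (tt N3428 F30925) (tt N5325 (iv F38628)) (tt N5317 (iv F38595)) (tt N3427 (iv D6500)) (tt N3435 F30926) (tt N5321 (iv F38611)))
theorem Q4314 : ∀ i, i < 4314 → P i := stepQ 4313 Q4313 (allL N4313 (tt N4313 F30937) (tt N5004 (iv F36612)) (tt N5307 (iv F38521)) (tt N5309 F133171) (tt N3431 F30938) (tt N5308 F133172) (tt N3435 F30939) (tt N3430 (iv D6504)) (tt N5317 (iv F38596)) (tt N5246 (iv F38139)))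
theorem Q4315 : ∀ i, i < 4315 → P i := stepQ 4314 Q4314 (allL N4314 (tt N4314 F30942) (tt N5109 (iv F132638)) (tt N3433 F30943) (tt N5306 (iv F132625)) (tt N3451 F30944) (tt N5305 (iv F132623)) (tt N3432 (iv D6506)) (tt N5327 D8240) (tt N5322 (iv F38618)) (tt N5247 (iv F38146)))
theorem Q4316 : ∀ i, i < 4316 → P i := stepQ 4315 Q4315 (allL N4315 (tt N4315 F30945) (tt N5007 (iv F36620)) (tt N5305 (iv F132622)) (tt N3434 F30946) (tt N4315 F30947) (tt N3433 (iv D6507)) (tt N3505 F30948) (tt N5328 D8241) (tt N5329 D8242) (tt N5248 (iv F38151)))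
theorem Q4317 : ∀ i, i < 4317 → P i := stepQ 4316 Q4316 (allL N4316 (tt N4316 F30949) (tt N5008 (iv F36624)) (tt N5327 (iv F38662)) (tt N3435 F30950) (tt N3452 F30951) (tt N5328 (iv F38667)) (tt N5309 F133179) (tt N3433 (iv D6508)) (tt N5324 (iv F38625)) (tt N5249 (iv F38155)))
theorem Q4318 : ∀ i, i < 4318 → P i := stepQ 4317 Q4317 (allL N4317 (tt N4317 F30952) (tt N5009 (iv F36627)) (tt N5309 (iv F38538)) (tt N5328 (iv F38665)) (tt N3436 F30953) (tt N3435 F30954) (tt N5327 F133178) (tt N3434 (iv D6509)) (tt N5330 D8244) (tt N5250 (iv F38159)))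
theorem Q4319 : ∀ i, i < 4319 → P i := stepQ 4318 Q4318 (allL N4318 (tt N4318 F30955) (tt N5010 (iv F36630)) (tt N5310 (iv F38542)) (tt N5329 (iv F38669)) (tt N3437 F30956) (tt N5326 (iv F38631)) (tt N3506 F30957) (tt N5330 (iv F38677)) (tt N3434 (iv D6510)) (tt N5331 D8245))
theorem Q4320 : ∀ i, i < 4320 → P i := stepQ 4319 Q4319 (allL N4319 (tt N4319 F30958) (tt N5011 (iv F36633)) (tt N3452 (iv F132646)) (tt N4319 F30959) (tt N5327 (iv F132640)) (tt N4319 F30960) (tt N3436 (iv D6511)) (tt N3451 F132090) (tt N5332 D8246) (tt N5252 (iv F38167)))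
theorem Q4321 : ∀ i, i < 4321 → P i := stepQ 4320 Q4320 (allL N4320 (tt N4320 F30962) (tt N5012 (iv F36637)) (tt N5311 (iv F38563)) (tt N4320 F30963) (tt N5330 (iv F38676)) (tt N4320 F30964) (tt N5332 (iv F38683)) (tt N3437 F30965) (tt N3436 (iv D6512)) (tt N5333 D8247))
theorem Q4322 : ∀ i, i < 4322 → P i := stepQ 4321 Q4321 (allL N4321 (tt N4321 F30966) (tt N5013 (iv F36641)) (tt N5312 (iv F38567)) (tt N4321 F30967) (tt N5331 (iv F38679)) (tt N4321 F30968) (tt N3507 F30969) (tt N5333 (iv F38688)) (tt N5254 (iv F38174)) (tt N3437 (iv D6513)))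
theorem Q4323 : ∀ i, i < 4323 → P i := stepQ 4322 Q4322 (allL N4322 (tt N4322 F30970) (tt N4438 (iv F33743)) (tt N3507 F132091) (tt N3438 (iv D6514)) (tt N5313 (iv F38571)) (tt N3453 F30971) (tt N5312 (iv F132664)) (tt N3443 F30972) (tt N5260 (iv F38197)) (tt N3440 F30973))
theorem Q4324 : ∀ i, i < 4324 → P i := stepQ 4323 Q4323 (allL N4323 (tt N4323 F30974) (tt N4439 (iv F33748)) (tt N4323 F30975) (tt N5312 F133218) (tt N3439 F30976) (tt N4323 F30977) (tt N3438 (iv D6515)) (tt N5334 D8250) (tt N5261 (iv F38202)) (tt N3441 F30978))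
theorem Q4325 : ∀ i, i < 4325 → P i := stepQ 4324 Q4324 (allL N4324 (tt N4324 F30979) (tt N4440 (iv F33754)) (tt N4324 F30980) (tt N5315 (iv F38579)) (tt N5334 (iv F38700)) (tt N4389 (iv F33452)) (tt N3445 F30981) (tt N3439 (iv D6516)) (tt N5262 (iv F38207)) (tt N3442 F30982))
theorem Q4326 : ∀ i, i < 4326 → P i := stepQ 4325 Q4325 (allL N4325 (tt N4325 F30992) (tt N4459 (iv F33850)) (tt N4325 F30993) (tt N5311 F133198) (tt N3442 F30994) (tt N4325 F30995) (tt N3449 F30996) (tt N3441 (iv D6519)) (tt N3450 F30997) (tt N5334 (iv F38703)))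
theorem Q4327 : ∀ i, i < 4327 → P i := stepQ 4326 Q4326 (allL N4326 (tt N4326 F30998) (tt N5113 (iv F132653)) (tt N3443 (iv D6520)) (tt N4326 F30999) (tt N5318 (iv F38598)) (tt N3454 F31000) (tt N5335 D8255) (tt N3507 F132071) (tt N5265 (iv F38228)) (tt N3446 F31001))
theorem Q4328 : ∀ i, i < 4328 → P i := stepQ 4327 Q4327 (allL N4327 (tt N4327 F31002) (tt N5015 (iv F36647)) (tt N5335 (iv F38722)) (tt N3444 F31003) (tt N5319 (iv F38603)) (tt N5336 D8256) (tt N3443 (iv D6521)) (tt N5337 D8257) (tt N5266 (iv F38232)) (tt N3447 F31004))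
theorem Q4329 : ∀ i, i < 4329 → P i := stepQ 4328 Q4328 (allL N4328 (tt N4328 F31005) (tt N5016 (iv F36650)) (tt N4328 F31006) (tt N5336 (iv F38726)) (tt N4328 F31007) (tt N3444 (iv D6522)) (tt N3456 F31008) (tt N5338 D8258) (tt N5339 D8259) (tt N3448 F31009))
theorem Q4330 : ∀ i, i < 4330 → P i := stepQ 4329 Q4329 (allL N4329 (tt N4329 F31010) (tt N5017 (iv F36654)) (tt N4329 F31011) (tt N5337 (iv F38730)) (tt N3445 F31012) (tt N5338 (iv F38735)) (tt N5334 (iv F38702)) (tt N3444 (iv D6523)) (tt N5268 (iv F38241)) (tt N3449 F31013))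
theorem Q4331 : ∀ i, i < 4331 → P i := stepQ 4330 Q4330 (allL N4330 (tt N4330 F31017) (tt N5112 (iv F132655)) (tt N3447 F31018) (tt N4330 F31019) (tt N5322 (iv F38617)) (tt N5340 D8262) (tt N3446 (iv D6525)) (tt N5332 (iv F132649)) (tt N3451 F31020) (tt N5335 (iv F38724)))
theorem Q4332 : ∀ i, i < 4332 → P i := stepQ 4331 Q4331 (allL N4331 (tt N4331 F31021) (tt N5020 (iv F36662)) (tt N5340 (iv F38751)) (tt N3448 F31022) (tt N5341 D8264) (tt N3447 (iv D6526)) (tt N3458 F31023) (tt N5342 D8265) (tt N4331 F31024) (tt N5336 (iv F38728)))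
theorem Q4333 : ∀ i, i < 4333 → P i := stepQ 4332 Q4332 (allL N4332 (tt N4332 F31025) (tt N5021 (iv F36666)) (tt N5332 F133199) (tt N3449 F31026) (tt N5324 (iv F38624)) (tt N5342 (iv F38765)) (tt N5311 F133200) (tt N3447 (iv D6527)) (tt N3452 F31027) (tt N5337 (iv F38731)))
theorem Q4334 : ∀ i, i < 4334 → P i := stepQ 4333 Q4333 (allL N4333 (tt N4333 F31028) (tt N5022 (iv F36669)) (tt N4333 F31029) (tt N5342 (iv F38764)) (tt N4333 F31030) (tt N3449 F31031) (tt N4333 F31032) (tt N3448 (iv D6528)) (tt N4333 F31033) (tt N5338 (iv F38737)))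
theorem Q4335 : ∀ i, i < 4335 → P i := stepQ 4334 Q4334 (allL N4334 (tt N4334 F31099) (tt N5115 F132096) (tt N3455 F31100) (tt N4334 F31101) (tt N4334 F31102) (tt N5343 D8281) (tt N3454 (iv D6544)) (tt N4334 F31103) (tt N4334 F31104) (tt N3457 F31105))
theorem Q4336 : ∀ i, i < 4336 → P i := stepQ 4335 Q4335 (allL N4335 (tt N4335 F31106) (tt N5029 (iv F36723)) (tt N5343 (iv F38838)) (tt N3456 F31107) (tt N5344 D8282) (tt N3455 (iv D6545)) (tt N5336 (iv F38727)) (tt N4335 F31108) (tt N5345 D8283) (tt N3458 F31109))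
theorem Q4337 : ∀ i, i < 4337 → P i := stepQ 4336 Q4336 (allL N4336 (tt N4336 F31110) (tt N5030 (iv F36727)) (tt N4336 F31111) (tt N5345 (iv F38848)) (tt N4336 F31112) (tt N4336 F31113) (tt N5339 (iv F38741)) (tt N4336 F31114) (tt N3456 (iv D6546)) (tt N4336 F31115))
theorem Q4338 : ∀ i, i < 4338 → P i := stepQ 4337 Q4337 (allL N4337 (tt N4337 F31125) (tt N5114 F132101) (tt N3458 F31126) (tt N4337 F31127) (tt N5346 D8286) (tt N3457 (iv D6549)) (tt N5340 (iv F38753)) (tt N4337 F31128) (tt N4337 F31129) (tt N5343 (iv F38841)))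
theorem Q4339 : ∀ i, i < 4339 → P i := stepQ 4338 Q4338 (allL N4338 (tt N4338 F31130) (tt N5031 (iv F36743)) (tt N5346 (iv F38863)) (tt N4338 F31131) (tt N3458 (iv D6550)) (tt N4338 F31132) (tt N5341 (iv F38761)) (tt N4338 F31133) (tt N4338 F31134) (tt N5344 (iv F38846)))
theorem Q4340 : ∀ i, i < 4340 → P i := stepQ 4339 Q4339 (allL N4339 (tt N3465 F31156) (tt N4339 F31157) (tt N5032 (iv F36761)) (tt N3508 F31158) (tt N5347 D8287) (tt N3459 (iv D6554)) (tt N4685 (iv F132685)) (tt N4737 (iv F35570)) (tt N3461 F31159) (tt N4339 F31160))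
theorem Q4341 : ∀ i, i < 4341 → P i := stepQ 4340 Q4340 (allL N4340 (tt N3466 F31161) (tt N4340 F31162) (tt N5033 (iv F36766)) (tt N3509 F31163) (tt N5348 D8289) (tt N3460 (iv D6555)) (tt N4694 (iv F132678)) (tt N3461 F31164) (tt N4737 (iv F35571)) (tt N3500 F31165))
theorem Q4342 : ∀ i, i < 4342 → P i := stepQ 4341 Q4341 (allL N4341 (tt N3467 F31166) (tt N4341 F31167) (tt N5034 (iv F36771)) (tt N4675 (iv F132691)) (tt N3461 (iv D6556)) (tt N5189 (iv F37874)) (tt N4674 (iv F132692)) (tt N5348 (iv F38879)) (tt N5347 (iv F38869)) (tt N3501 F31168))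
theorem Q4343 : ∀ i, i < 4343 → P i := stepQ 4342 Q4342 (allL N4342 (tt N4755 (iv F35690)) (tt N3470 F31191) (tt N5035 (iv F36795)) (tt N4411 (iv F33591)) (tt N5349 D8298) (tt N3463 (iv D6561)) (tt N5350 D8299) (tt N4406 (iv F33564)) (tt N5193 (iv F37897)) (tt N4342 F31192))
theorem Q4344 : ∀ i, i < 4344 → P i := stepQ 4343 Q4343 (allL N4343 (tt N4737 (iv F35567)) (tt N3472 F31193) (tt N5036 (iv F36798)) (tt N3511 F31194) (tt N5351 D8300) (tt N3464 (iv D6562)) (tt N5089 (iv F132684)) (tt N3465 F31195) (tt N3466 F31196) (tt N4343 F31197))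
theorem Q4345 : ∀ i, i < 4345 → P i := stepQ 4344 Q4344 (allL N4344 (tt N5347 (iv F38867)) (tt N3473 F31198) (tt N5037 (iv F36804)) (tt N5071 (iv F132687)) (tt N3465 (iv D6563)) (tt N5349 (iv F38920)) (tt N5070 (iv F132690)) (tt N5351 (iv F38926)) (tt N3467 F31199) (tt N4344 F31200))
theorem Q4346 : ∀ i, i < 4346 → P i := stepQ 4345 Q4345 (allL N4345 (tt N5348 (iv F38877)) (tt N3475 F31206) (tt N5039 (iv F36814)) (tt N5078 F132105) (tt N3466 (iv D6565)) (tt N5198 (iv F37912)) (tt N5081 F132106) (tt N3467 F31207) (tt N5351 (iv F38927)) (tt N3502 F31208))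
theorem Q4347 : ∀ i, i < 4347 → P i := stepQ 4346 Q4346 (allL N4346 (tt N4346 F31240) (tt N4411 (iv F33589)) (tt N4346 F31241) (tt N3470 F31242) (tt N5352 D8317) (tt N3468 (iv D6574)) (tt N5353 D8318) (tt N4381 (iv F33400)) (tt N5159 (iv F37739)) (tt N4346 F31243))
theorem Q4348 : ∀ i, i < 4348 → P i := stepQ 4347 Q4347 (allL N4347 (tt N4347 F31244) (tt N4406 (iv F33562)) (tt N3480 F31245) (tt N4381 (iv F33399)) (tt N5354 D8319) (tt N3469 (iv D6575)) (tt N5355 D8320) (tt N3470 F31246) (tt N5203 (iv F37950)) (tt N4347 F31247))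
theorem Q4349 : ∀ i, i < 4349 → P i := stepQ 4348 Q4348 (allL N4348 (tt N4348 F31248) (tt N5349 (iv F38919)) (tt N3481 F31249) (tt N5356 D8321) (tt N3470 (iv D6576)) (tt N3473 F31250) (tt N5357 D8322) (tt N5354 (iv F39001)) (tt N5204 (iv F37955)) (tt N4348 F31251))
theorem Q4350 : ∀ i, i < 4350 → P i := stepQ 4349 Q4349 (allL N4349 (tt N4349 F31252) (tt N5350 (iv F38922)) (tt N3482 F31253) (tt N5353 (iv F38995)) (tt N5357 (iv F39011)) (tt N4349 F31254) (tt N3470 (iv D6577)) (tt N5358 D8323) (tt N5205 (iv F37958)) (tt N4349 F31255))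
theorem Q4351 : ∀ i, i < 4351 → P i := stepQ 4350 Q4350 (allL N4350 (tt N4350 F31256) (tt N4397 (iv F33497)) (tt N3483 F31257) (tt N3514 F31258) (tt N5359 D8324) (tt N3471 (iv D6578)) (tt N5360 D8325) (tt N4350 F31259) (tt N4350 F31260) (tt N4350 F31261))
theorem Q4352 : ∀ i, i < 4352 → P i := stepQ 4351 Q4351 (allL N4351 (tt N4351 F31262) (tt N5351 (iv F38925)) (tt N3484 F31263) (tt N5361 D8326) (tt N3472 (iv D6579)) (tt N5354 (iv F39000)) (tt N5362 D8327) (tt N3473 F31264) (tt N3475 F31265) (tt N4351 F31266))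
theorem Q4353 : ∀ i, i < 4353 → P i := stepQ 4352 Q4352 (allL N4352 (tt N4352 F31267) (tt N5089 (iv F132682)) (tt N3485 F31268) (tt N3499 F132133) (tt N5362 (iv F39036)) (tt N5360 (iv F39026)) (tt N3472 (iv D6580)) (tt N3497 (iv F132561)) (tt N3476 F31270) (tt N4352 F31271))
theorem Q4354 : ∀ i, i < 4354 → P i := stepQ 4353 Q4353 (allL N4353 (tt N4353 F31272) (tt N5071 (iv F132686)) (tt N5362 (iv F132702)) (tt N3473 (iv D6581)) (tt N3485 (iv F132548)) (tt N5356 (iv F39007)) (tt N3484 (iv F132709)) (tt N5361 (iv F39031)) (tt N3477 F31274) (tt N4353 F31275))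
theorem Q4355 : ∀ i, i < 4355 → P i := stepQ 4354 Q4354 (allL N4354 (tt N4354 F31276) (tt N5070 (iv F132688)) (tt N3487 F31277) (tt N3484 (iv F132708)) (tt N3474 F31278) (tt N5363 D8331) (tt N3473 (iv D6582)) (tt N3486 (iv F132710)) (tt N3478 F31279) (tt N4354 F31280))
theorem Q4356 : ∀ i, i < 4356 → P i := stepQ 4355 Q4355 (allL N4355 (tt N4355 F31287) (tt N5078 F132127) (tt N3491 F132139) (tt N3475 (iv D6584)) (tt N3489 F132128) (tt N5215 (iv F38001)) (tt N3490 F132140) (tt N3477 F31289) (tt N5361 (iv F39032)) (tt N3503 F31290))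
theorem Q4357 : ∀ i, i < 4357 → P i := stepQ 4356 Q4356 (allL N4356 (tt N4356 F31291) (tt N5081 F132129) (tt N3477 F132131) (tt N3490 F132132) (tt N3476 F31293) (tt N5218 (iv F132579)) (tt N3475 (iv D6585)) (tt N3491 F132130) (tt N5362 (iv F39037)) (tt N3504 F31294))
theorem Q4358 : ∀ i, i < 4358 → P i := stepQ 4357 Q4357 (allL N4357 (tt N4357 F31335) (tt N5062 (iv F36928)) (tt N4380 (iv F33391)) (tt N4357 F31336) (tt N5364 D8349) (tt N3479 (iv D6595)) (tt N5365 D8350) (tt N4357 F31337) (tt N4386 (iv F33435)) (tt N4357 F31338))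
theorem Q4359 : ∀ i, i < 4359 → P i := stepQ 4358 Q4358 (allL N4358 (tt N4358 F31339) (tt N5063 (iv F36932)) (tt N5354 (iv F38999)) (tt N5363 F133250) (tt N3480 (iv D6596)) (tt N3484 F31340) (tt N5366 D8352) (tt N3481 F31341) (tt N5225 (iv F38053)) (tt N4358 F31342))
theorem Q4360 : ∀ i, i < 4360 → P i := stepQ 4359 Q4359 (allL N4359 (tt N4359 F31343) (tt N5064 (iv F36936)) (tt N5355 (iv F39004)) (tt N4359 F31344) (tt N5366 (iv F39144)) (tt N5365 (iv F39136)) (tt N3480 (iv D6597)) (tt N5367 D8353) (tt N5226 (iv F38056)) (tt N4359 F31345))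
theorem Q4361 : ∀ i, i < 4361 → P i := stepQ 4360 Q4360 (allL N4360 (tt N4360 F31346) (tt N5065 (iv F36939)) (tt N5368 D8354) (tt N3481 (iv D6598)) (tt N4360 F31347) (tt N3486 F31348) (tt N5369 D8355) (tt N5363 F133253) (tt N5229 (iv F38068)) (tt N4360 F31349))
theorem Q4362 : ∀ i, i < 4362 → P i := stepQ 4361 Q4361 (allL N4361 (tt N4361 F31350) (tt N5066 (iv F36943)) (tt N5357 (iv F39010)) (tt N5369 (iv F39155)) (tt N3482 F31351) (tt N5370 D8356) (tt N3481 (iv D6599)) (tt N5371 D8357) (tt N5230 (iv F38071)) (tt N4361 F31352))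
theorem Q4363 : ∀ i, i < 4363 → P i := stepQ 4362 Q4362 (allL N4362 (tt N4362 F31353) (tt N5067 (iv F36946)) (tt N5358 (iv F39014)) (tt N4362 F31354) (tt N5371 (iv F39163)) (tt N4362 F31355) (tt N5367 (iv F39148)) (tt N3482 (iv D6600)) (tt N5231 (iv F38074)) (tt N4362 F31356))
theorem Q4364 : ∀ i, i < 4364 → P i := stepQ 4363 Q4363 (allL N4363 (tt N4363 F31357) (tt N5068 (iv F36950)) (tt N5359 (iv F39018)) (tt N5372 D8358) (tt N3483 (iv D6601)) (tt N5364 (iv F39131)) (tt N5373 D8359) (tt N4363 F31358) (tt N4363 F31359) (tt N4363 F31360))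
theorem Q4365 : ∀ i, i < 4365 → P i := stepQ 4364 Q4364 (allL N4364 (tt N4364 F31361) (tt N5069 (iv F36954)) (tt N5360 (iv F39024)) (tt N3495 F31362) (tt N5373 (iv F39172)) (tt N3485 F31363) (tt N3483 (iv D6602)) (tt N5374 D8360) (tt N4364 F31364) (tt N4364 F31365))
theorem Q4366 : ∀ i, i < 4366 → P i := stepQ 4365 Q4365 (allL N4365 (tt N4365 F31375) (tt N5072 (iv F36968)) (tt N3497 (iv F132560)) (tt N3496 F31376) (tt N5361 (iv F132699)) (tt N5374 (iv F39177)) (tt N3488 F31377) (tt N3485 (iv D6605)) (tt N3489 F31378) (tt N4365 F31379))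
theorem Q4367 : ∀ i, i < 4367 → P i := stepQ 4366 Q4366 (allL N4366 (tt N4366 F31380) (tt N5076 (iv F132714)) (tt N3486 (iv D6606)) (tt N5362 (iv F132703)) (tt N3488 F132148) (tt N5368 (iv F39152)) (tt N5361 (iv F132706)) (tt N3487 (iv F132707)) (tt N3490 F31382) (tt N4366 F31383))
theorem Q4368 : ∀ i, i < 4368 → P i := stepQ 4367 Q4367 (allL N4367 (tt N4367 F31384) (tt N5074 (iv F36976)) (tt N5361 (iv F132705)) (tt N3487 F31385) (tt N3497 F31386) (tt N5375 D8367) (tt N3486 (iv D6607)) (tt N5362 (iv F132701)) (tt N3491 F31387) (tt N4367 F31388))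
theorem Q4369 : ∀ i, i < 4369 → P i := stepQ 4368 Q4368 (allL N4368 (tt N4368 F31389) (tt N5075 (iv F36981)) (tt N5363 (iv F39056)) (tt N5375 (iv F39207)) (tt N4368 F31390) (tt N3487 (iv D6608)) (tt N5370 (iv F39160)) (tt N5368 F133252) (tt N5376 D8370) (tt N4368 F31391))
theorem Q4370 : ∀ i, i < 4370 → P i := stepQ 4369 Q4369 (allL N4369 (tt N4369 F31417) (tt N5080 (iv F37008)) (tt N5215 (iv F132573)) (tt N3492 F31418) (tt N4369 F31419) (tt N3491 (iv D6616)) (tt N5248 (iv F38150)) (tt N5218 (iv F132572)) (tt N5377 D8382) (tt N3505 F31420))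
theorem Q4371 : ∀ i, i < 4371 → P i := stepQ 4370 Q4370 (allL N4370 (tt N4370 F31429) (tt N5083 (iv F37020)) (tt N5236 F133119) (tt N5377 (iv F39262)) (tt N3493 F31430) (tt N5376 (iv F39220)) (tt N5251 (iv F38162)) (tt N5242 F133120) (tt N3492 (iv D6619)) (tt N5378 D8385))
theorem Q4372 : ∀ i, i < 4372 → P i := stepQ 4371 Q4371 (allL N4371 (tt N4371 F31439) (tt N5086 (iv F37030)) (tt N5260 (iv F132587)) (tt N4371 F31440) (tt N5378 (iv F39271)) (tt N4371 F31441) (tt N5254 (iv F38173)) (tt N5265 (iv F132581)) (tt N3507 F31442) (tt N3493 (iv D6622)))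
theorem Q4373 : ∀ i, i < 4373 → P i := stepQ 4372 Q4372 (allL N4372 (tt N4372 F31443) (tt N4416 (iv F133869)) (tt N4372 F31444) (tt N3494 (iv D6623)) (tt N5372 (iv F39167)) (tt N4372 F31445) (tt N3512 F133065) (tt N4372 F31446) (tt N4372 F31447) (tt N4372 F31448))
theorem Q4374 : ∀ i, i < 4374 → P i := stepQ 4373 Q4373 (allL N4373 (tt N4373 F31454) (tt N4399 (iv F132717)) (tt N3515 (iv F132554)) (tt N5374 (iv F39176)) (tt N3513 (iv F132547)) (tt N3496 F31456) (tt N4373 F31457) (tt N3495 (iv D6625)) (tt N4373 F31458) (tt N4373 F31459))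
theorem Q4375 : ∀ i, i < 4375 → P i := stepQ 4374 Q4374 (allL N4374 (tt N4374 F31489) (tt N5088 (iv F37078)) (tt N5374 F133068) (tt N3498 F31490) (tt N5379 D8401) (tt N3497 (iv D6632)) (tt N4374 F31491) (tt N5360 F133069) (tt N4374 F31492) (tt N4374 F31493))
theorem Q4376 : ∀ i, i < 4376 → P i := stepQ 4375 Q4375 (allL N4375 (tt N4375 F31498) (tt N4398 (iv F132719)) (tt N3516 (iv F132552)) (tt N5360 (iv F132704)) (tt N4375 F31500) (tt N3499 F31501) (tt N3514 (iv F132721)) (tt N3498 (iv D6634)) (tt N4375 F31502) (tt N4375 F31503))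
theorem Q4377 : ∀ i, i < 4377 → P i := stepQ 4376 Q4376 (allL N4376 (tt N3502 F31572) (tt N4376 F31573) (tt N5090 (iv F37162)) (tt N4720 (iv F132363)) (tt N3500 (iv D6650)) (tt N5278 (iv F38354)) (tt N4724 (iv F132366)) (tt N3501 F31574) (tt N4376 F31575) (tt N5348 (iv F38880)))
theorem Q4378 : ∀ i, i < 4378 → P i := stepQ 4377 Q4377 (allL N4377 (tt N4377 F31745) (tt N5108 (iv F37325)) (tt N5295 F132156) (tt N3506 F31746) (tt N4377 F31747) (tt N4377 F31748) (tt N5329 (iv F38671)) (tt N5301 (iv F132615)) (tt N3505 (iv D6698)) (tt N5380 D8492))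
theorem Q4379 : ∀ i, i < 4379 → P i := stepQ 4378 Q4378 (allL N4378 (tt N4378 F31755) (tt N5111 (iv F37335)) (tt N5313 (iv F132661)) (tt N5380 (iv F39691)) (tt N3507 F31756) (tt N4378 F31757) (tt N5331 (iv F38680)) (tt N5318 (iv F132633)) (tt N5378 (iv F39272)) (tt N3506 (iv D6701)))
theorem Q4380 : ∀ i, i < 4380 → P i := stepQ 4379 Q4379 (allL N4379 (tt N4379 F32108) (tt N4415 (iv F33609)) (tt N4379 F32109) (tt N5373 (iv F133872)) (tt N3512 (iv D6777)) (tt N5352 (iv F38991)) (tt N5372 (iv F133875)) (tt N4383 (iv F33413)) (tt N4379 F32110) (tt N4379 F32111))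
theorem Q4381 : ∀ i, i < 4381 → P i := stepQ 4380 Q4380 (allL N4380 (tt N4380 F33389) (tt N3543 F33390) (tt N4357 F33391) (tt N3519 F33392) (tt N5381 D8919) (tt N3517 (iv D7042)) (tt N5382 D8920) (tt N4380 F33393) (tt N3524 F33394) (tt N4380 F33395))
theorem Q4382 : ∀ i, i < 4382 → P i := stepQ 4381 Q4381 (allL N4381 (tt N4381 F33396) (tt N3547 F33397) (tt N4381 F33398) (tt N4347 F33399) (tt N5383 D8921) (tt N3518 (iv D7043)) (tt N5384 D8922) (tt N4346 F33400) (tt N4246 F33401) (tt N4381 F33402))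
theorem Q4383 : ∀ i, i < 4383 → P i := stepQ 4382 Q4382 (allL N4382 (tt N4382 F33403) (tt N3548 F33404) (tt N4382 F33405) (tt N5382 (iv F41741)) (tt N4382 F33406) (tt N5384 (iv F41756)) (tt N3519 (iv D7044)) (tt N5385 D8923) (tt N3525 F33407) (tt N4382 F33408))
theorem Q4384 : ∀ i, i < 4384 → P i := stepQ 4383 Q4383 (allL N4383 (tt N4383 F33409) (tt N3550 F33410) (tt N4383 F33411) (tt N5386 D8924) (tt N3520 (iv D7045)) (tt N5383 (iv F41748)) (tt N4383 F33412) (tt N4379 F33413) (tt N4383 F33414) (tt N4383 F33415))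
theorem Q4385 : ∀ i, i < 4385 → P i := stepQ 4384 Q4384 (allL N4384 (tt N3522 F33416) (tt N4384 F33417) (tt N3552 F33418) (tt N4384 F33419) (tt N4384 F33420) (tt N3748 F33421) (tt N4264 F33422) (tt N4384 F33423) (tt N5387 D8925) (tt N3521 (iv D7046)))
theorem Q4386 : ∀ i, i < 4386 → P i := stepQ 4385 Q4385 (allL N4385 (tt N5387 (iv F41773)) (tt N3523 F33424) (tt N3555 F33425) (tt N4385 F33426) (tt N4385 F33427) (tt N5388 D8926) (tt N4273 F33428) (tt N4385 F33429) (tt N3522 (iv D7047)) (tt N3527 F33430))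
theorem Q4387 : ∀ i, i < 4387 → P i := stepQ 4386 Q4386 (allL N4386 (tt N4386 F33431) (tt N5388 (iv F41781)) (tt N3524 F33432) (tt N4386 F33433) (tt N5389 D8927) (tt N3523 (iv D7048)) (tt N5390 D8928) (tt N4386 F33434) (tt N4357 F33435) (tt N3528 F33436))
theorem Q4388 : ∀ i, i < 4388 → P i := stepQ 4387 Q4387 (allL N4387 (tt N4387 F33437) (tt N3563 F33438) (tt N5389 (iv F41788)) (tt N4387 F33439) (tt N3524 (iv D7049)) (tt N4387 F33440) (tt N5391 D8929) (tt N4387 F33441) (tt N5381 (iv F41736)) (tt N3529 F33442))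
theorem Q4389 : ∀ i, i < 4389 → P i := stepQ 4388 Q4388 (allL N4388 (tt N4388 F33443) (tt N3564 F33444) (tt N5390 (iv F41794)) (tt N3525 F33445) (tt N5391 (iv F41802)) (tt N4302 F33446) (tt N3524 (iv D7050)) (tt N5392 D8930) (tt N5382 (iv F41743)) (tt N3530 F33447))
theorem Q4390 : ∀ i, i < 4390 → P i := stepQ 4389 Q4389 (allL N4389 (tt N4389 F33448) (tt N3568 F33449) (tt N4389 F33450) (tt N5392 (iv F41806)) (tt N4389 F33451) (tt N4324 F33452) (tt N4389 F33453) (tt N3525 (iv D7051)) (tt N5385 (iv F41764)) (tt N3531 F33454))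
theorem Q4391 : ∀ i, i < 4391 → P i := stepQ 4390 Q4390 (allL N4390 (tt N3527 F33455) (tt N4390 F33456) (tt N3571 F33457) (tt N4390 F33458) (tt N4390 F33459) (tt N5393 D8931) (tt N4265 F33460) (tt N4390 F33461) (tt N3526 (iv D7052)) (tt N5387 (iv F41780)))
theorem Q4392 : ∀ i, i < 4392 → P i := stepQ 4391 Q4391 (allL N4391 (tt N5393 (iv F41810)) (tt N3528 F33462) (tt N3573 F33463) (tt N4391 F33464) (tt N5394 D8932) (tt N3527 (iv D7053)) (tt N5395 D8933) (tt N4391 F33465) (tt N4391 F33466) (tt N5388 (iv F41786)))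
theorem Q4393 : ∀ i, i < 4393 → P i := stepQ 4392 Q4392 (allL N4392 (tt N4392 F33467) (tt N5394 (iv F41816)) (tt N3529 F33468) (tt N5396 D8934) (tt N3528 (iv D7054)) (tt N4392 F33469) (tt N5397 D8935) (tt N4392 F33470) (tt N4392 F33471) (tt N5389 (iv F41792)))
theorem Q4394 : ∀ i, i < 4394 → P i := stepQ 4393 Q4393 (allL N4393 (tt N4393 F33472) (tt N5395 (iv F41821)) (tt N3530 F33473) (tt N4393 F33474) (tt N5397 (iv F41834)) (tt N4285 F33475) (tt N3528 (iv D7055)) (tt N5398 D8936) (tt N4393 F33476) (tt N5390 (iv F41798)))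
theorem Q4395 : ∀ i, i < 4395 → P i := stepQ 4394 Q4394 (allL N4394 (tt N4394 F33477) (tt N3579 F33478) (tt N5397 (iv F41833)) (tt N4394 F33479) (tt N3530 F33480) (tt N5399 D8937) (tt N3529 (iv D7056)) (tt N5400 D8938) (tt N4394 F33481) (tt N5391 (iv F41803)))
theorem Q4396 : ∀ i, i < 4396 → P i := stepQ 4395 Q4395 (allL N4395 (tt N4395 F33482) (tt N3580 F33483) (tt N5398 (iv F41837)) (tt N3531 F33484) (tt N5400 (iv F41850)) (tt N4305 F33485) (tt N4395 F33486) (tt N3530 (iv D7057)) (tt N4395 F33487) (tt N5392 (iv F41809)))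
theorem Q4397 : ∀ i, i < 4397 → P i := stepQ 4396 Q4396 (allL N4396 (tt N3815 F33488) (tt N4073 F33489) (tt N3533 F33490) (tt N4396 F33491) (tt N3540 F33492) (tt N5401 D8939) (tt N4064 F33493) (tt N4396 F33494) (tt N3532 (iv D7058)) (tt N4396 F33495))
theorem Q4398 : ∀ i, i < 4398 → P i := stepQ 4397 Q4397 (allL N4397 (tt N3817 F33496) (tt N4350 F33497) (tt N5401 (iv F41855)) (tt N3534 F33498) (tt N5402 D8940) (tt N3533 (iv D7059)) (tt N5403 D8941) (tt N4397 F33499) (tt N4397 F33500) (tt N4397 F33501))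
theorem Q4399 : ∀ i, i < 4399 → P i := stepQ 4398 Q4398 (allL N4398 (tt N3819 F33502) (tt N4375 F132719) (tt N4398 F33504) (tt N5403 (iv F41869)) (tt N4398 F33505) (tt N4110 F132720) (tt N3534 (iv D7060)) (tt N4109 (iv F133067)) (tt N4398 F33507) (tt N4398 F33508))
theorem Q4400 : ∀ i, i < 4400 → P i := stepQ 4399 Q4399 (allL N4399 (tt N3821 F33509) (tt N4373 F132717) (tt N4399 F33511) (tt N5404 D8943) (tt N3535 (iv D7061)) (tt N4106 F132718) (tt N4399 F33513) (tt N4104 (iv F133061)) (tt N4399 F33515) (tt N4399 F33516))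
theorem Q4401 : ∀ i, i < 4401 → P i := stepQ 4400 Q4400 (allL N4400 (tt N3537 F33517) (tt N3822 F33518) (tt N3748 F33519) (tt N3586 F33520) (tt N3739 F33521) (tt N3552 F33522) (tt N3737 F33523) (tt N4400 F33524) (tt N5405 D8944) (tt N3536 (iv D7062)))
theorem Q4402 : ∀ i, i < 4402 → P i := stepQ 4401 Q4401 (allL N4401 (tt N5405 (iv F41889)) (tt N3540 F33525) (tt N4084 F33526) (tt N3589 F33527) (tt N4073 F33528) (tt N5406 D8945) (tt N4071 F33529) (tt N4401 F33530) (tt N3537 (iv D7063)) (tt N4401 F33531))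
theorem Q4403 : ∀ i, i < 4403 → P i := stepQ 4402 Q4402 (allL N4402 (tt N3828 F33532) (tt N3954 F33533) (tt N3541 F33534) (tt N3593 F33535) (tt N3945 F33536) (tt N3539 F33537) (tt N3557 F33538) (tt N3944 F33539) (tt N5407 D8946) (tt N3538 (iv D7064)))
theorem Q4404 : ∀ i, i < 4404 → P i := stepQ 4403 Q4403 (allL N4403 (tt N3830 F33540) (tt N4071 F33541) (tt N3542 F33542) (tt N3595 F33543) (tt N4064 F33544) (tt N5408 D8947) (tt N3540 F33545) (tt N4063 F33546) (tt N3539 (iv D7065)) (tt N4403 F33547))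
theorem Q4405 : ∀ i, i < 4405 → P i := stepQ 4404 Q4404 (allL N4404 (tt N3831 F33548) (tt N5406 (iv F41897)) (tt N3543 F33549) (tt N3596 F33550) (tt N5409 D8948) (tt N3540 (iv D7066)) (tt N5410 D8949) (tt N4404 F33551) (tt N3559 F33552) (tt N4404 F33553))
theorem Q4406 : ∀ i, i < 4406 → P i := stepQ 4405 Q4405 (allL N4405 (tt N3834 F33554) (tt N4208 F33555) (tt N5407 (iv F41905)) (tt N3545 F33556) (tt N4200 F33557) (tt N5411 D8950) (tt N3561 F33558) (tt N4199 F33559) (tt N3541 (iv D7067)) (tt N3971 F33560))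
theorem Q4407 : ∀ i, i < 4407 → P i := stepQ 4406 Q4406 (allL N4406 (tt N3836 F33561) (tt N4347 F33562) (tt N5408 (iv F41913)) (tt N3547 F33563) (tt N5412 D8951) (tt N3542 (iv D7068)) (tt N5413 D8952) (tt N4342 F33564) (tt N5411 (iv F41931)) (tt N4406 F33565))
theorem Q4408 : ∀ i, i < 4408 → P i := stepQ 4407 Q4407 (allL N4407 (tt N3837 F33566) (tt N5381 (iv F41731)) (tt N5409 (iv F41918)) (tt N4407 F33567) (tt N3543 (iv D7069)) (tt N5402 (iv F41863)) (tt N5414 D8953) (tt N4407 F33568) (tt N3563 F33569) (tt N4407 F33570))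
theorem Q4409 : ∀ i, i < 4409 → P i := stepQ 4408 Q4408 (allL N4408 (tt N3838 F33571) (tt N5382 (iv F41739)) (tt N5410 (iv F41923)) (tt N3548 F33572) (tt N5414 (iv F41945)) (tt N5413 (iv F41941)) (tt N3543 (iv D7070)) (tt N5415 D8954) (tt N3564 F33573) (tt N4408 F33574))
theorem Q4410 : ∀ i, i < 4410 → P i := stepQ 4409 Q4409 (allL N4409 (tt N3839 F33575) (tt N4173 F33576) (tt N3611 F33577) (tt N4199 F33578) (tt N4409 F33579) (tt N5416 D8955) (tt N3926 F33580) (tt N3545 F33581) (tt N3544 (iv D7071)) (tt N3925 F33582))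
theorem Q4411 : ∀ i, i < 4411 → P i := stepQ 4410 Q4410 (allL N4410 (tt N3840 F33583) (tt N4246 F33584) (tt N3613 F33585) (tt N5411 (iv F41929)) (tt N5417 D8956) (tt N3545 (iv D7072)) (tt N5418 D8957) (tt N5416 (iv F41957)) (tt N3547 F33586) (tt N3983 F33587))
theorem Q4412 : ∀ i, i < 4412 → P i := stepQ 4411 Q4411 (allL N4411 (tt N3841 F33588) (tt N4346 F33589) (tt N3614 F33590) (tt N4342 F33591) (tt N5419 D8958) (tt N3546 (iv D7073)) (tt N5420 D8959) (tt N3547 F33592) (tt N5416 (iv F41958)) (tt N4411 F33593))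
theorem Q4413 : ∀ i, i < 4413 → P i := stepQ 4412 Q4412 (allL N4412 (tt N3842 F33594) (tt N5383 (iv F41746)) (tt N3615 F33595) (tt N5421 D8960) (tt N3547 (iv D7074)) (tt N3550 F33596) (tt N5422 D8961) (tt N5419 (iv F41976)) (tt N5417 (iv F41964)) (tt N4412 F33597))
theorem Q4414 : ∀ i, i < 4414 → P i := stepQ 4413 Q4413 (allL N4413 (tt N3843 F33598) (tt N5384 (iv F41753)) (tt N3616 F33599) (tt N5413 (iv F41940)) (tt N5422 (iv F41989)) (tt N3548 F33600) (tt N3547 (iv D7075)) (tt N5423 D8962) (tt N5418 (iv F41970)) (tt N4413 F33601))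
theorem Q4415 : ∀ i, i < 4415 → P i := stepQ 4414 Q4414 (allL N4414 (tt N3844 F33602) (tt N5385 (iv F41760)) (tt N3617 F33603) (tt N5415 (iv F41949)) (tt N4414 F33604) (tt N5423 (iv F41994)) (tt N4414 F33605) (tt N3548 (iv D7076)) (tt N3568 F33606) (tt N4414 F33607))
theorem Q4416 : ∀ i, i < 4416 → P i := stepQ 4415 Q4415 (allL N4415 (tt N3845 F33608) (tt N4379 F33609) (tt N3618 F33610) (tt N5424 D8963) (tt N3549 (iv D7077)) (tt N5419 (iv F41975)) (tt N5425 D8964) (tt N3550 F33611) (tt N4415 F33612) (tt N4415 F33613))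
theorem Q4417 : ∀ i, i < 4417 → P i := stepQ 4416 Q4416 (allL N4416 (tt N3846 F33614) (tt N4372 F133869) (tt N3619 F33616) (tt N4103 F133870) (tt N5425 (iv F42005)) (tt N4416 F33618) (tt N3549 (iv D7078)) (tt N4416 F33619) (tt N4416 F33620) (tt N4416 F33621))
theorem Q4418 : ∀ i, i < 4418 → P i := stepQ 4417 Q4417 (allL N4417 (tt N3847 F33622) (tt N5386 (iv F41767)) (tt N5426 D8965) (tt N3550 (iv D7079)) (tt N5404 (iv F41883)) (tt N5421 (iv F41985)) (tt N4417 F33623) (tt N5424 (iv F41999)) (tt N4417 F33624) (tt N4417 F33625))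
theorem Q4419 : ∀ i, i < 4419 → P i := stepQ 4418 Q4418 (allL N4418 (tt N3553 F33626) (tt N3848 F33627) (tt N3644 F33628) (tt N3621 F33629) (tt N3636 (iv F33633)) (tt N3551 (iv D7080)) (tt N3633 F33630) (tt N3939 F33631) (tt N3826 F33632) (tt N5427 D8966))
theorem Q4420 : ∀ i, i < 4420 → P i := stepQ 4419 Q4419 (allL N4419 (tt N3554 F33634) (tt N3849 F33635) (tt N4264 F33636) (tt N3623 F33637) (tt N4419 F33638) (tt N5427 (iv F42019)) (tt N3552 F33639) (tt N4000 F33640) (tt N5428 D8967) (tt N3551 (iv D7081)))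
theorem Q4421 : ∀ i, i < 4421 → P i := stepQ 4420 Q4420 (allL N4420 (tt N3555 F33641) (tt N3850 F33642) (tt N5387 (iv F41775)) (tt N3624 F33643) (tt N4420 F33644) (tt N5429 D8968) (tt N5428 (iv F42027)) (tt N4420 F33645) (tt N3552 (iv D7082)) (tt N3571 F33646))
theorem Q4422 : ∀ i, i < 4422 → P i := stepQ 4421 Q4421 (allL N4421 (tt N5427 (iv F42014)) (tt N3557 F33647) (tt N3967 F33648) (tt N3628 F33649) (tt N3957 F33650) (tt N3554 F33651) (tt N3954 F33652) (tt N3946 F33653) (tt N5430 D8969) (tt N3553 (iv D7083)))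
theorem Q4423 : ∀ i, i < 4423 → P i := stepQ 4422 Q4422 (allL N4422 (tt N5428 (iv F42022)) (tt N3558 F33654) (tt N4273 F33655) (tt N3630 F33656) (tt N4422 F33657) (tt N5431 D8970) (tt N3555 F33658) (tt N4006 F33659) (tt N3554 (iv D7084)) (tt N3572 F33660))
theorem Q4424 : ∀ i, i < 4424 → P i := stepQ 4423 Q4423 (allL N4423 (tt N5429 (iv F42030)) (tt N3559 F33661) (tt N5388 (iv F41782)) (tt N3631 F33662) (tt N5432 D8971) (tt N3555 (iv D7085)) (tt N5433 D8972) (tt N4423 F33663) (tt N5406 (iv F41901)) (tt N3573 F33664))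
theorem Q4425 : ∀ i, i < 4425 → P i := stepQ 4424 Q4424 (allL N4424 (tt N3855 F33665) (tt N3592 F33666) (tt N4424 F33667) (tt N3556 (iv D7086)) (tt N3632 F33668) (tt N4424 F33669) (tt N3627 F33670) (tt N3952 F33671) (tt N3587 F33672) (tt N5434 D8973))
theorem Q4426 : ∀ i, i < 4426 → P i := stepQ 4425 Q4425 (allL N4425 (tt N3856 F33673) (tt N3957 F33674) (tt N3560 F33675) (tt N5434 (iv F42057)) (tt N3557 F33676) (tt N4425 F33677) (tt N3945 F33678) (tt N3955 F33679) (tt N5435 D8974) (tt N3556 (iv D7087)))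
theorem Q4427 : ∀ i, i < 4427 → P i := stepQ 4426 Q4426 (allL N4426 (tt N3857 F33680) (tt N5430 (iv F42035)) (tt N3561 F33681) (tt N3639 F33682) (tt N5435 (iv F42065)) (tt N5436 D8975) (tt N5407 (iv F41908)) (tt N3959 F33683) (tt N3557 (iv D7088)) (tt N3958 F33684))
theorem Q4428 : ∀ i, i < 4428 → P i := stepQ 4427 Q4427 (allL N4427 (tt N3858 F33685) (tt N5431 (iv F42042)) (tt N3562 F33686) (tt N3641 F33687) (tt N5437 D8976) (tt N3558 (iv D7089)) (tt N5438 D8977) (tt N4014 F33688) (tt N5436 (iv F42073)) (tt N3574 F33689))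
theorem Q4429 : ∀ i, i < 4429 → P i := stepQ 4428 Q4428 (allL N4428 (tt N3859 F33690) (tt N5432 (iv F42047)) (tt N3563 F33691) (tt N5439 D8978) (tt N3559 (iv D7090)) (tt N4428 F33692) (tt N5440 D8979) (tt N4428 F33693) (tt N5409 (iv F41920)) (tt N3575 F33694))
theorem Q4430 : ∀ i, i < 4430 → P i := stepQ 4429 Q4429 (allL N4429 (tt N3860 F33695) (tt N5433 (iv F42051)) (tt N3564 F33696) (tt N3643 F33697) (tt N5440 (iv F42093)) (tt N5438 (iv F42083)) (tt N3559 (iv D7091)) (tt N5441 D8980) (tt N5410 (iv F41925)) (tt N3576 F33698))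
theorem Q4431 : ∀ i, i < 4431 → P i := stepQ 4430 Q4430 (allL N4430 (tt N3861 F33699) (tt N4210 F33700) (tt N5435 (iv F42064)) (tt N4430 F33701) (tt N3561 F33702) (tt N5442 D8981) (tt N4200 F33703) (tt N3969 F33704) (tt N3560 (iv D7092)) (tt N3968 F33705))
theorem Q4432 : ∀ i, i < 4432 → P i := stepQ 4431 Q4431 (allL N4431 (tt N3862 F33706) (tt N4229 F33707) (tt N5436 (iv F42070)) (tt N3565 F33708) (tt N5443 D8982) (tt N3561 (iv D7093)) (tt N5444 D8983) (tt N3973 F33709) (tt N3562 F33710) (tt N3972 F33711))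
theorem Q4433 : ∀ i, i < 4433 → P i := stepQ 4432 Q4432 (allL N4432 (tt N3863 F33712) (tt N4301 F33713) (tt N5437 (iv F42076)) (tt N5445 D8984) (tt N3562 (iv D7094)) (tt N4432 F33714) (tt N5446 D8985) (tt N4025 F33715) (tt N5443 (iv F42109)) (tt N3577 F33716))
theorem Q4434 : ∀ i, i < 4434 → P i := stepQ 4433 Q4433 (allL N4433 (tt N3864 F33717) (tt N4302 F33718) (tt N5438 (iv F42081)) (tt N3567 F33719) (tt N5446 (iv F42124)) (tt N3564 F33720) (tt N3562 (iv D7095)) (tt N5447 D8986) (tt N5444 (iv F42114)) (tt N3578 F33721))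
theorem Q4435 : ∀ i, i < 4435 → P i := stepQ 4434 Q4434 (allL N4434 (tt N3865 F33722) (tt N5391 (iv F41800)) (tt N5440 (iv F42092)) (tt N4434 F33723) (tt N3564 F33724) (tt N5448 D8987) (tt N3563 (iv D7096)) (tt N5449 D8988) (tt N5414 (iv F41946)) (tt N3579 F33725))
theorem Q4436 : ∀ i, i < 4436 → P i := stepQ 4435 Q4435 (allL N4435 (tt N3866 F33726) (tt N5392 (iv F41805)) (tt N5441 (iv F42096)) (tt N3568 F33727) (tt N5449 (iv F42138)) (tt N5447 (iv F42129)) (tt N4435 F33728) (tt N3564 (iv D7097)) (tt N5415 (iv F41951)) (tt N3580 F33729))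
theorem Q4437 : ∀ i, i < 4437 → P i := stepQ 4436 Q4436 (allL N4436 (tt N3867 F33730) (tt N4249 F33731) (tt N3660 F33732) (tt N5450 D8989) (tt N3565 (iv D7098)) (tt N4436 F33733) (tt N5451 D8990) (tt N3986 F33734) (tt N3566 F33735) (tt N3984 F33736))
theorem Q4438 : ∀ i, i < 4438 → P i := stepQ 4437 Q4437 (allL N4437 (tt N3868 F33737) (tt N4250 F33738) (tt N3661 F33739) (tt N5444 (iv F42113)) (tt N5451 (iv F42150)) (tt N5418 (iv F41969)) (tt N3565 (iv D7099)) (tt N5452 D8991) (tt N3567 F33740) (tt N3985 F33741))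
theorem Q4439 : ∀ i, i < 4439 → P i := stepQ 4438 Q4438 (allL N4438 (tt N3869 F33742) (tt N4322 F33743) (tt N5453 D8992) (tt N3566 (iv D7100)) (tt N5445 (iv F42118)) (tt N3569 F33744) (tt N5454 D8993) (tt N4039 F33745) (tt N5450 (iv F42145)) (tt N3581 F33746))
theorem Q4440 : ∀ i, i < 4440 → P i := stepQ 4439 Q4439 (allL N4439 (tt N3870 F33747) (tt N4323 F33748) (tt N3665 F33749) (tt N5454 (iv F42166)) (tt N3567 F33750) (tt N4439 F33751) (tt N3566 (iv D7101)) (tt N5455 D8994) (tt N5451 (iv F42151)) (tt N3582 F33752))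
theorem Q4441 : ∀ i, i < 4441 → P i := stepQ 4440 Q4440 (allL N4440 (tt N3871 F33753) (tt N4324 F33754) (tt N3666 F33755) (tt N5447 (iv F42128)) (tt N5455 (iv F42172)) (tt N3568 F33756) (tt N4041 F33757) (tt N3567 (iv D7102)) (tt N5452 (iv F42157)) (tt N3583 F33758))
theorem Q4442 : ∀ i, i < 4442 → P i := stepQ 4441 Q4441 (allL N4441 (tt N3872 F33759) (tt N4138 F131873) (tt N3569 (iv D7103)) (tt N3669 F33760) (tt N4441 F33761) (tt N5453 (iv F42161)) (tt N4441 F33762) (tt N4053 F33763) (tt N4441 F33764) (tt N3584 F33765))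
theorem Q4443 : ∀ i, i < 4443 → P i := stepQ 4442 Q4442 (allL N4442 (tt N3572 F33766) (tt N3873 F33767) (tt N4265 F33768) (tt N3673 F33769) (tt N4442 F33770) (tt N5456 D8996) (tt N3571 F33771) (tt N4001 F33772) (tt N3570 (iv D7104)) (tt N5428 (iv F42029)))
theorem Q4444 : ∀ i, i < 4444 → P i := stepQ 4443 Q4443 (allL N4443 (tt N3573 F33773) (tt N3874 F33774) (tt N5393 (iv F41812)) (tt N3674 F33775) (tt N5457 D8997) (tt N3571 (iv D7105)) (tt N5458 D8998) (tt N4443 F33776) (tt N4443 F33777) (tt N5429 (iv F42034)))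
theorem Q4445 : ∀ i, i < 4445 → P i := stepQ 4444 Q4444 (allL N4444 (tt N5456 (iv F42183)) (tt N3574 F33778) (tt N4274 F33779) (tt N3678 F33780) (tt N5459 D8999) (tt N3572 (iv D7106)) (tt N5460 D9000) (tt N4007 F33781) (tt N4008 F33782) (tt N5431 (iv F42046)))
theorem Q4446 : ∀ i, i < 4446 → P i := stepQ 4445 Q4445 (allL N4445 (tt N5457 (iv F42189)) (tt N3575 F33783) (tt N5394 (iv F41817)) (tt N5461 D9001) (tt N3573 (iv D7107)) (tt N4445 F33784) (tt N5462 D9002) (tt N4445 F33785) (tt N4445 F33786) (tt N5432 (iv F42050)))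
theorem Q4447 : ∀ i, i < 4447 → P i := stepQ 4446 Q4446 (allL N4446 (tt N5458 (iv F42194)) (tt N3576 F33787) (tt N5395 (iv F41822)) (tt N3680 F33788) (tt N5462 (iv F42214)) (tt N5460 (iv F42206)) (tt N3573 (iv D7108)) (tt N5463 D9003) (tt N4446 F33789) (tt N5433 (iv F42053)))
theorem Q4448 : ∀ i, i < 4448 → P i := stepQ 4447 Q4447 (allL N4447 (tt N3878 F33790) (tt N5459 (iv F42198)) (tt N3577 F33791) (tt N5464 D9004) (tt N3574 (iv D7109)) (tt N4447 F33792) (tt N5465 D9005) (tt N4015 F33793) (tt N4017 F33794) (tt N5437 (iv F42079)))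
theorem Q4449 : ∀ i, i < 4449 → P i := stepQ 4448 Q4448 (allL N4448 (tt N3879 F33795) (tt N5460 (iv F42203)) (tt N3578 F33796) (tt N3685 F33797) (tt N5465 (iv F42227)) (tt N3576 F33798) (tt N3574 (iv D7110)) (tt N5466 D9006) (tt N4018 F33799) (tt N5438 (iv F42084)))
theorem Q4450 : ∀ i, i < 4450 → P i := stepQ 4449 Q4449 (allL N4449 (tt N3880 F33800) (tt N5461 (iv F42208)) (tt N4449 F33801) (tt N3575 (iv D7111)) (tt N3686 F33802) (tt N4449 F33803) (tt N5467 D9007) (tt N4449 F33804) (tt N4449 F33805) (tt N5439 (iv F42090)))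
theorem Q4451 : ∀ i, i < 4451 → P i := stepQ 4450 Q4450 (allL N4450 (tt N3881 F33806) (tt N5462 (iv F42213)) (tt N3579 F33807) (tt N5467 (iv F42237)) (tt N3576 F33808) (tt N5468 D9008) (tt N3575 (iv D7112)) (tt N5469 D9009) (tt N4450 F33809) (tt N5440 (iv F42094)))
theorem Q4452 : ∀ i, i < 4452 → P i := stepQ 4451 Q4451 (allL N4451 (tt N3882 F33810) (tt N5463 (iv F42216)) (tt N3580 F33811) (tt N3688 F33812) (tt N5469 (iv F42245)) (tt N5466 (iv F42232)) (tt N4451 F33813) (tt N3576 (iv D7113)) (tt N4451 F33814) (tt N5441 (iv F42099)))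
theorem Q4453 : ∀ i, i < 4453 → P i := stepQ 4452 Q4452 (allL N4452 (tt N3883 F33815) (tt N4303 F33816) (tt N5470 D9010) (tt N3577 (iv D7114)) (tt N3581 F33817) (tt N4452 F33818) (tt N5471 D9011) (tt N4027 F33819) (tt N4030 F33820) (tt N5445 (iv F42121)))
theorem Q4454 : ∀ i, i < 4454 → P i := stepQ 4453 Q4453 (allL N4453 (tt N3884 F33821) (tt N4304 F33822) (tt N5465 (iv F42226)) (tt N5471 (iv F42255)) (tt N3578 F33823) (tt N5472 D9012) (tt N3577 (iv D7115)) (tt N5473 D9013) (tt N4031 F33824) (tt N5446 (iv F42125)))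
theorem Q4455 : ∀ i, i < 4455 → P i := stepQ 4454 Q4454 (allL N4454 (tt N3885 F33825) (tt N4305 F33826) (tt N5466 (iv F42230)) (tt N3583 F33827) (tt N5473 (iv F42264)) (tt N3580 F33828) (tt N4029 F33829) (tt N3578 (iv D7116)) (tt N4032 F33830) (tt N5447 (iv F42131)))
theorem Q4456 : ∀ i, i < 4456 → P i := stepQ 4455 Q4455 (allL N4455 (tt N3886 F33831) (tt N5399 (iv F41843)) (tt N5468 (iv F42241)) (tt N4455 F33832) (tt N5472 (iv F42260)) (tt N3579 (iv D7117)) (tt N4455 F33833) (tt N5474 D9014) (tt N5475 D9015) (tt N5448 (iv F42135)))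
theorem Q4457 : ∀ i, i < 4457 → P i := stepQ 4456 Q4456 (allL N4456 (tt N3887 F33834) (tt N5400 (iv F41848)) (tt N5469 (iv F42244)) (tt N4456 F33835) (tt N3580 F33836) (tt N5474 (iv F42269)) (tt N4456 F33837) (tt N3579 (iv D7118)) (tt N4456 F33838) (tt N5449 (iv F42140)))
theorem Q4458 : ∀ i, i < 4458 → P i := stepQ 4457 Q4457 (allL N4457 (tt N3888 F33839) (tt N4127 F131818) (tt N3581 (iv D7119)) (tt N3707 F33840) (tt N5470 (iv F42249)) (tt N3584 F33841) (tt N5476 D9017) (tt N4042 F33842) (tt N4046 F33843) (tt N5453 (iv F42163)))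
theorem Q4459 : ∀ i, i < 4459 → P i := stepQ 4458 Q4458 (allL N4458 (tt N3889 F33844) (tt N4300 F132662) (tt N5476 (iv F42280)) (tt N3582 F33846) (tt N5471 (iv F42256)) (tt N4458 F33847) (tt N3581 (iv D7120)) (tt N5477 D9018) (tt N4047 F33848) (tt N5454 (iv F42168)))
theorem Q4460 : ∀ i, i < 4460 → P i := stepQ 4459 Q4459 (allL N4459 (tt N3890 F33849) (tt N4325 F33850) (tt N3709 F33851) (tt N5477 (iv F42286)) (tt N3583 F33852) (tt N4459 F33853) (tt N4045 F33854) (tt N3582 (iv D7121)) (tt N4049 F33855) (tt N5455 (iv F42175)))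
theorem Q4461 : ∀ i, i < 4461 → P i := stepQ 4460 Q4460 (allL N4460 (tt N3587 F33870) (tt N3892 F33871) (tt N4460 F33872) (tt N3633 F33873) (tt N3952 (iv F33876)) (tt N3585 (iv D7124)) (tt N3621 F33874) (tt N3632 F33875) (tt N3855 F33877) (tt N5478 D9020))
theorem Q4462 : ∀ i, i < 4462 → P i := stepQ 4461 Q4461 (allL N4461 (tt N3588 F33878) (tt N3893 F33879) (tt N4461 F33880) (tt N3737 F33881) (tt N4461 F33882) (tt N5478 (iv F42302)) (tt N3586 F33883) (tt N3736 F33884) (tt N5479 D9021) (tt N3585 (iv D7125)))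
theorem Q4463 : ∀ i, i < 4463 → P i := stepQ 4462 Q4462 (allL N4462 (tt N3589 F33885) (tt N3894 F33886) (tt N4462 F33887) (tt N5405 (iv F41892)) (tt N4462 F33888) (tt N5480 D9022) (tt N5479 (iv F42310)) (tt N4462 F33889) (tt N3586 (iv D7126)) (tt N4462 F33890))
theorem Q4464 : ∀ i, i < 4464 → P i := stepQ 4463 Q4463 (allL N4463 (tt N3952 F33891) (tt N3590 F33892) (tt N4463 F33893) (tt N3634 F33894) (tt N3587 (iv D7127)) (tt N4463 F33895) (tt N3625 F33896) (tt N3855 F33897) (tt N3632 F33898) (tt N5481 D9023))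
theorem Q4465 : ∀ i, i < 4465 → P i := stepQ 4464 Q4464 (allL N4464 (tt N5478 (iv F42297)) (tt N3593 F33899) (tt N4464 F33900) (tt N3954 F33901) (tt N5481 (iv F42323)) (tt N3588 F33902) (tt N3628 F33903) (tt N3953 F33904) (tt N5482 D9024) (tt N3587 (iv D7128)))
theorem Q4466 : ∀ i, i < 4466 → P i := stepQ 4465 Q4465 (allL N4465 (tt N5479 (iv F42305)) (tt N3595 F33905) (tt N4465 F33906) (tt N4071 F33907) (tt N4465 F33908) (tt N5483 D9025) (tt N3589 F33909) (tt N4070 F33910) (tt N3588 (iv D7129)) (tt N4465 F33911))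
theorem Q4467 : ∀ i, i < 4467 → P i := stepQ 4466 Q4466 (allL N4466 (tt N5480 (iv F42313)) (tt N3596 F33912) (tt N4466 F33913) (tt N5406 (iv F41899)) (tt N5484 D9026) (tt N3589 (iv D7130)) (tt N5485 D9027) (tt N4466 F33914) (tt N3631 F33915) (tt N4466 F33916))
theorem Q4468 : ∀ i, i < 4468 → P i := stepQ 4467 Q4467 (allL N4467 (tt N3902 F33917) (tt N3634 F33918) (tt N4467 F33919) (tt N3590 (iv D7131)) (tt N3627 F33920) (tt N4467 F33921) (tt N3632 F33922) (tt N3851 (iv F33924)) (tt N3625 (iv F33923)) (tt N5486 D9028))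
theorem Q4469 : ∀ i, i < 4469 → P i := stepQ 4468 Q4468 (allL N4468 (tt N3897 F33925) (tt N3855 F33926) (tt N3597 F33927) (tt N3851 F33928) (tt N3591 F33929) (tt N4468 F33930) (tt N3939 F33931) (tt N3590 (iv D7132)) (tt N3892 F33932) (tt N5487 D9029))
theorem Q4470 : ∀ i, i < 4470 → P i := stepQ 4469 Q4469 (allL N4469 (tt N3896 F33933) (tt N3632 F33934) (tt N3598 F33935) (tt N3625 F33936) (tt N3592 F33937) (tt N3726 (iv F33940)) (tt N3634 F33938) (tt N3892 F33939) (tt N3590 (iv D7133)) (tt N5488 D9030))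
theorem Q4471 : ∀ i, i < 4471 → P i := stepQ 4470 Q4470 (allL N4470 (tt N3903 F33941) (tt N5481 (iv F42320)) (tt N3599 F33942) (tt N5486 (iv F42350)) (tt N3593 F33943) (tt N4470 F33944) (tt N3635 F33945) (tt N5487 (iv F42362)) (tt N5489 D9031) (tt N3590 (iv D7134)))
theorem Q4472 : ∀ i, i < 4472 → P i := stepQ 4471 Q4471 (allL N4471 (tt N3904 F33946) (tt N3902 F33947) (tt N3600 F33948) (tt N3895 F33949) (tt N3939 F33950) (tt N4471 F33951) (tt N3591 (iv D7135)) (tt N3636 F33952) (tt N3827 (iv F33953)) (tt N5490 D9032))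
theorem Q4473 : ∀ i, i < 4473 → P i := stepQ 4472 Q4472 (allL N4472 (tt N3895 F33954) (tt N3952 F33955) (tt N3601 F33956) (tt N3904 F33957) (tt N3892 F33958) (tt N4472 F33959) (tt N3827 F33960) (tt N3592 F33961) (tt N3591 (iv D7136)) (tt N5491 D9033))
theorem Q4474 : ∀ i, i < 4474 → P i := stepQ 4473 Q4473 (allL N4473 (tt N3905 F33962) (tt N3953 F33963) (tt N3602 F33964) (tt N3944 F33965) (tt N5487 (iv F42359)) (tt N3594 F33966) (tt N5490 (iv F42381)) (tt N3593 F33967) (tt N5492 D9034) (tt N3591 (iv D7137)))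
theorem Q4475 : ∀ i, i < 4475 → P i := stepQ 4474 Q4474 (allL N4474 (tt N3906 F33968) (tt N5434 (iv F42055)) (tt N3603 F33969) (tt N3957 F33970) (tt N5488 (iv F42367)) (tt N4474 F33971) (tt N3638 F33972) (tt N5491 (iv F42390)) (tt N5493 D9035) (tt N3592 (iv D7138)))
theorem Q4476 : ∀ i, i < 4476 → P i := stepQ 4475 Q4475 (allL N4475 (tt N3907 F33973) (tt N5482 (iv F42327)) (tt N3604 F33974) (tt N5407 (iv F41906)) (tt N5489 (iv F42373)) (tt N5494 D9036) (tt N3639 F33975) (tt N5492 (iv F42395)) (tt N3593 (iv D7139)) (tt N5493 (iv F42400)))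
theorem Q4477 : ∀ i, i < 4477 → P i := stepQ 4476 Q4476 (allL N4476 (tt N3908 F33976) (tt N4070 F33977) (tt N3605 F33978) (tt N4063 F33979) (tt N4476 F33980) (tt N5495 D9037) (tt N4476 F33981) (tt N3595 F33982) (tt N3594 (iv D7140)) (tt N4476 F33983))
theorem Q4478 : ∀ i, i < 4478 → P i := stepQ 4477 Q4477 (allL N4477 (tt N3909 F33984) (tt N5483 (iv F42332)) (tt N3606 F33985) (tt N5408 (iv F41914)) (tt N5496 D9038) (tt N3595 (iv D7141)) (tt N5497 D9039) (tt N5495 (iv F42408)) (tt N5494 (iv F42403)) (tt N4477 F33986))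
theorem Q4479 : ∀ i, i < 4479 → P i := stepQ 4478 Q4478 (allL N4478 (tt N3910 F33987) (tt N5484 (iv F42337)) (tt N3607 F33988) (tt N5498 D9040) (tt N3596 (iv D7142)) (tt N4478 F33989) (tt N5499 D9041) (tt N4478 F33990) (tt N3642 F33991) (tt N4478 F33992))
theorem Q4480 : ∀ i, i < 4480 → P i := stepQ 4479 Q4479 (allL N4479 (tt N3911 F33993) (tt N5485 (iv F42343)) (tt N3608 F33994) (tt N5410 (iv F41924)) (tt N5499 (iv F42426)) (tt N5497 (iv F42416)) (tt N3596 (iv D7143)) (tt N5500 D9042) (tt N3643 F33995) (tt N4479 F33996))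
theorem Q4481 : ∀ i, i < 4481 → P i := stepQ 4480 Q4480 (allL N4480 (tt N3912 F33997) (tt N4480 F33998) (tt N5487 (iv F42357)) (tt N4480 F33999) (tt N3602 F34000) (tt N4480 F34001) (tt N4193 F34002) (tt N3599 F34003) (tt N5501 D9043) (tt N3597 (iv D7144)))
theorem Q4482 : ∀ i, i < 4482 → P i := stepQ 4481 Q4481 (allL N4481 (tt N3913 F34004) (tt N4481 F34005) (tt N5488 (iv F42365)) (tt N4481 F34006) (tt N3603 F34007) (tt N4142 F34008) (tt N3646 F34009) (tt N4141 F34010) (tt N5502 D9044) (tt N3598 (iv D7145)))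
theorem Q4483 : ∀ i, i < 4483 → P i := stepQ 4482 Q4482 (allL N4482 (tt N3914 F34011) (tt N4482 F34012) (tt N5489 (iv F42372)) (tt N4482 F34013) (tt N3604 F34014) (tt N5503 D9045) (tt N3647 F34015) (tt N5501 (iv F42439)) (tt N3599 (iv D7146)) (tt N5502 (iv F42447)))
theorem Q4484 : ∀ i, i < 4484 → P i := stepQ 4483 Q4483 (allL N4483 (tt N3915 F34016) (tt N4483 F34017) (tt N5490 (iv F42377)) (tt N3609 F34018) (tt N4193 F34019) (tt N4483 F34020) (tt N3602 F34021) (tt N3648 F34022) (tt N5504 D9046) (tt N3600 (iv D7147)))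
theorem Q4485 : ∀ i, i < 4485 → P i := stepQ 4484 Q4484 (allL N4484 (tt N3916 F34023) (tt N4484 F34024) (tt N5491 (iv F42385)) (tt N3610 F34025) (tt N4141 F34026) (tt N4484 F34027) (tt N3833 F34028) (tt N3603 F34029) (tt N5505 D9047) (tt N3601 (iv D7148)))
theorem Q4486 : ∀ i, i < 4486 → P i := stepQ 4485 Q4485 (allL N4485 (tt N3917 F34030) (tt N4485 F34031) (tt N5492 (iv F42393)) (tt N3611 F34032) (tt N5501 (iv F42437)) (tt N5506 D9048) (tt N5504 (iv F42456)) (tt N3604 F34033) (tt N3602 (iv D7149)) (tt N5505 (iv F42465)))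
theorem Q4487 : ∀ i, i < 4487 → P i := stepQ 4486 Q4486 (allL N4486 (tt N3918 F34034) (tt N4486 F34035) (tt N5493 (iv F42397)) (tt N3612 F34036) (tt N5502 (iv F42444)) (tt N5507 D9049) (tt N3650 F34037) (tt N5505 (iv F42464)) (tt N3603 (iv D7150)) (tt N3604 F34038))
theorem Q4488 : ∀ i, i < 4488 → P i := stepQ 4487 Q4487 (allL N4487 (tt N3919 F34039) (tt N4487 F34040) (tt N5494 (iv F42402)) (tt N3613 F34041) (tt N5508 D9050) (tt N3604 (iv D7151)) (tt N5509 D9051) (tt N5506 (iv F42469)) (tt N3606 F34042) (tt N5507 (iv F42475)))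
theorem Q4489 : ∀ i, i < 4489 → P i := stepQ 4488 Q4488 (allL N4488 (tt N3920 F34043) (tt N4488 F34044) (tt N5495 (iv F42406)) (tt N3614 F34045) (tt N5510 D9052) (tt N3605 (iv D7152)) (tt N5511 D9053) (tt N3606 F34046) (tt N5506 (iv F42470)) (tt N4488 F34047))
theorem Q4490 : ∀ i, i < 4490 → P i := stepQ 4489 Q4489 (allL N4489 (tt N3921 F34048) (tt N4489 F34049) (tt N5496 (iv F42411)) (tt N5512 D9054) (tt N3606 (iv D7153)) (tt N4489 F34050) (tt N5513 D9055) (tt N5510 (iv F42487)) (tt N5508 (iv F42478)) (tt N4489 F34051))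
theorem Q4491 : ∀ i, i < 4491 → P i := stepQ 4490 Q4490 (allL N4490 (tt N3922 F34052) (tt N4490 F34053) (tt N5497 (iv F42415)) (tt N3616 F34054) (tt N5513 (iv F42501)) (tt N3608 F34055) (tt N3606 (iv D7154)) (tt N5514 D9056) (tt N5509 (iv F42483)) (tt N4490 F34056))
theorem Q4492 : ∀ i, i < 4492 → P i := stepQ 4491 Q4491 (allL N4491 (tt N3923 F34057) (tt N4491 F34058) (tt N5499 (iv F42425)) (tt N4491 F34059) (tt N3608 F34060) (tt N5515 D9057) (tt N3607 (iv D7155)) (tt N5516 D9058) (tt N3655 F34061) (tt N4491 F34062))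
theorem Q4493 : ∀ i, i < 4493 → P i := stepQ 4492 Q4492 (allL N4492 (tt N3924 F34063) (tt N4492 F34064) (tt N5500 (iv F42430)) (tt N3617 F34065) (tt N5516 (iv F42516)) (tt N5514 (iv F42506)) (tt N4492 F34066) (tt N3608 (iv D7156)) (tt N3656 F34067) (tt N4492 F34068))
theorem Q4494 : ∀ i, i < 4494 → P i := stepQ 4493 Q4493 (allL N4493 (tt N3925 F34069) (tt N4493 F34070) (tt N3926 F34071) (tt N5504 (iv F42454)) (tt N4493 F34072) (tt N5517 D9059) (tt N3611 F34073) (tt N3657 F34074) (tt N3609 (iv D7157)) (tt N3839 F34075))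
theorem Q4495 : ∀ i, i < 4495 → P i := stepQ 4494 Q4494 (allL N4494 (tt N3926 F34076) (tt N4494 F34077) (tt N3925 F34078) (tt N5505 (iv F42461)) (tt N4494 F34079) (tt N5518 D9060) (tt N3839 F34080) (tt N3612 F34081) (tt N3610 (iv D7158)) (tt N3611 F34082))
theorem Q4496 : ∀ i, i < 4496 → P i := stepQ 4495 Q4495 (allL N4495 (tt N3927 F34083) (tt N4495 F34084) (tt N5416 (iv F41955)) (tt N5506 (iv F42468)) (tt N5519 D9061) (tt N3611 (iv D7159)) (tt N5520 D9062) (tt N3613 F34085) (tt N3614 F34086) (tt N5518 (iv F42531)))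
theorem Q4497 : ∀ i, i < 4497 → P i := stepQ 4496 Q4496 (allL N4496 (tt N3928 F34087) (tt N4496 F34088) (tt N3983 F34089) (tt N5507 (iv F42473)) (tt N5521 D9063) (tt N3612 (iv D7160)) (tt N5522 D9064) (tt N5518 (iv F42529)) (tt N4496 F34090) (tt N3613 F34091))
theorem Q4498 : ∀ i, i < 4498 → P i := stepQ 4497 Q4497 (allL N4497 (tt N3929 F34092) (tt N4497 F34093) (tt N5417 (iv F41962)) (tt N5523 D9065) (tt N3613 (iv D7161)) (tt N4497 F34094) (tt N5524 D9066) (tt N5519 (iv F42535)) (tt N3615 F34095) (tt N5521 (iv F42545)))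
theorem Q4499 : ∀ i, i < 4499 → P i := stepQ 4498 Q4498 (allL N4498 (tt N3930 F34096) (tt N4498 F34097) (tt N5418 (iv F41968)) (tt N5509 (iv F42481)) (tt N5524 (iv F42558)) (tt N3661 F34098) (tt N3613 (iv D7162)) (tt N5525 D9067) (tt N3616 F34099) (tt N5522 (iv F42551)))
theorem Q4500 : ∀ i, i < 4500 → P i := stepQ 4499 Q4499 (allL N4499 (tt N3931 F34100) (tt N4499 F34101) (tt N5419 (iv F41974)) (tt N5526 D9068) (tt N3614 (iv D7163)) (tt N3618 F34102) (tt N5527 D9069) (tt N3615 F34103) (tt N5519 (iv F42536)) (tt N4499 F34104))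
theorem Q4501 : ∀ i, i < 4501 → P i := stepQ 4500 Q4500 (allL N4500 (tt N3932 F34105) (tt N4500 F34106) (tt N5420 (iv F41980)) (tt N5511 (iv F42491)) (tt N5527 (iv F42571)) (tt N4500 F34107) (tt N3614 (iv D7164)) (tt N5528 D9070) (tt N5520 (iv F42539)) (tt N4500 F34108))
theorem Q4502 : ∀ i, i < 4502 → P i := stepQ 4501 Q4501 (allL N4501 (tt N3933 F34109) (tt N4501 F34110) (tt N5529 D9071) (tt N3615 (iv D7165)) (tt N5512 (iv F42496)) (tt N3620 F34111) (tt N5530 D9072) (tt N5526 (iv F42567)) (tt N5523 (iv F42555)) (tt N4501 F34112))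
theorem Q4503 : ∀ i, i < 4503 → P i := stepQ 4502 Q4502 (allL N4502 (tt N3934 F34113) (tt N4502 F34114) (tt N5422 (iv F41988)) (tt N5530 (iv F42583)) (tt N3616 F34115) (tt N4502 F34116) (tt N3615 (iv D7166)) (tt N5531 D9073) (tt N5524 (iv F42559)) (tt N4502 F34117))
theorem Q4504 : ∀ i, i < 4504 → P i := stepQ 4503 Q4503 (allL N4503 (tt N3935 F34118) (tt N4503 F34119) (tt N5423 (iv F41993)) (tt N5514 (iv F42505)) (tt N5531 (iv F42588)) (tt N3617 F34120) (tt N5528 (iv F42576)) (tt N3616 (iv D7167)) (tt N5525 (iv F42563)) (tt N4503 F34121))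
theorem Q4505 : ∀ i, i < 4505 → P i := stepQ 4504 Q4504 (allL N4504 (tt N3936 F34122) (tt N4504 F34123) (tt N5532 D9074) (tt N3618 (iv D7168)) (tt N4504 F34124) (tt N5526 (iv F42566)) (tt N5533 D9075) (tt N3620 F34125) (tt N4504 F34126) (tt N4504 F34127))
theorem Q4506 : ∀ i, i < 4506 → P i := stepQ 4505 Q4505 (allL N4505 (tt N3937 F34128) (tt N4505 F34129) (tt N5425 (iv F42004)) (tt N5533 (iv F42598)) (tt N3619 F34130) (tt N5534 D9076) (tt N3618 (iv D7169)) (tt N4505 F34131) (tt N4505 F34132) (tt N4505 F34133))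
theorem Q4507 : ∀ i, i < 4507 → P i := stepQ 4506 Q4506 (allL N4506 (tt N3938 F34134) (tt N5535 D9077) (tt N3620 (iv D7170)) (tt N5426 (iv F42010)) (tt N4506 F34135) (tt N5529 (iv F42579)) (tt N4506 F34136) (tt N5532 (iv F42593)) (tt N4506 F34137) (tt N4506 F34138))
theorem Q4508 : ∀ i, i < 4508 → P i := stepQ 4507 Q4507 (allL N4507 (tt N3625 F34139) (tt N3827 F34140) (tt N4507 F34141) (tt N3896 F34142) (tt N3621 (iv D7171)) (tt N3720 F34143) (tt N3952 F34144) (tt N3823 (iv F34145)) (tt N3902 (iv F34146)) (tt N5536 D9078))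
theorem Q4509 : ∀ i, i < 4509 → P i := stepQ 4508 Q4508 (allL N4508 (tt N3626 F34147) (tt N3826 F34148) (tt N4508 F34149) (tt N3939 F34150) (tt N3823 F34151) (tt N3622 F34152) (tt N3851 F34153) (tt N3621 (iv D7172)) (tt N3848 F34154) (tt N5537 D9079))
theorem Q4510 : ∀ i, i < 4510 → P i := stepQ 4509 Q4509 (allL N4509 (tt N3627 F34155) (tt N3939 F34156) (tt N4509 F34157) (tt N3826 F34158) (tt N3902 F34159) (tt N3670 F34160) (tt N3855 F34161) (tt N3848 F34162) (tt N3621 (iv D7173)) (tt N5538 D9080))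
theorem Q4511 : ∀ i, i < 4511 → P i := stepQ 4510 Q4510 (allL N4510 (tt N3628 F34163) (tt N3940 F34164) (tt N4510 F34165) (tt N5427 (iv F42017)) (tt N5536 (iv F42617)) (tt N3623 F34166) (tt N5478 (iv F42303)) (tt N5537 (iv F42628)) (tt N5539 D9081) (tt N3621 (iv D7174)))
theorem Q4512 : ∀ i, i < 4512 → P i := stepQ 4511 Q4511 (allL N4511 (tt N3629 F34167) (tt N3941 F34168) (tt N4511 F34169) (tt N4000 F34170) (tt N3723 F34171) (tt N5537 (iv F42626)) (tt N4511 F34172) (tt N3623 F34173) (tt N5540 D9082) (tt N3622 (iv D7175)))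
theorem Q4513 : ∀ i, i < 4513 → P i := stepQ 4512 Q4512 (allL N4512 (tt N3630 F34174) (tt N3942 F34175) (tt N4512 F34176) (tt N5428 (iv F42025)) (tt N3724 F34177) (tt N5541 D9083) (tt N3624 F34178) (tt N5540 (iv F42646)) (tt N3623 (iv D7176)) (tt N3673 F34179))
theorem Q4514 : ∀ i, i < 4514 → P i := stepQ 4513 Q4513 (allL N4513 (tt N3631 F34180) (tt N3943 F34181) (tt N4513 F34182) (tt N5429 (iv F42032)) (tt N5542 D9084) (tt N3624 (iv D7177)) (tt N5543 D9085) (tt N4513 F34183) (tt N5480 (iv F42317)) (tt N3674 F34184))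
theorem Q4515 : ∀ i, i < 4515 → P i := stepQ 4514 Q4514 (allL N4514 (tt N3823 F34185) (tt N3633 F34186) (tt N4514 F34187) (tt N3892 F34188) (tt N3626 F34189) (tt N3727 F34190) (tt N3848 F34191) (tt N3625 (iv D7178)) (tt N3851 F34192) (tt N5544 D9086))
theorem Q4516 : ∀ i, i < 4516 → P i := stepQ 4515 Q4515 (allL N4515 (tt N5536 (iv F42613)) (tt N3635 F34193) (tt N4515 F34194) (tt N5488 (iv F42366)) (tt N3628 F34195) (tt N3728 F34196) (tt N5481 (iv F42325)) (tt N5544 (iv F42669)) (tt N5545 D9087) (tt N3625 (iv D7179)))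
theorem Q4517 : ∀ i, i < 4517 → P i := stepQ 4516 Q4516 (allL N4516 (tt N3851 F34197) (tt N3636 F34198) (tt N4516 F34199) (tt N3897 F34200) (tt N3848 F34201) (tt N4516 F34202) (tt N3626 (iv D7180)) (tt N3902 F34203) (tt N3823 F34204) (tt N5546 D9088))
theorem Q4518 : ∀ i, i < 4518 → P i := stepQ 4517 Q4517 (allL N4517 (tt N5537 (iv F42621)) (tt N3637 F34205) (tt N4517 F34206) (tt N3946 F34207) (tt N5544 (iv F42666)) (tt N3629 F34208) (tt N5546 (iv F42679)) (tt N3628 F34209) (tt N5547 D9089) (tt N3626 (iv D7181)))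
theorem Q4519 : ∀ i, i < 4519 → P i := stepQ 4518 Q4518 (allL N4518 (tt N5538 (iv F42629)) (tt N3638 F34210) (tt N4518 F34211) (tt N3945 F34212) (tt N5486 (iv F42351)) (tt N3675 F34213) (tt N5434 (iv F42060)) (tt N3852 F34214) (tt N5548 D9090) (tt N3627 (iv D7182)))
theorem Q4520 : ∀ i, i < 4520 → P i := stepQ 4519 Q4519 (allL N4519 (tt N5539 (iv F42637)) (tt N3639 F34215) (tt N4519 F34216) (tt N5430 (iv F42037)) (tt N5545 (iv F42672)) (tt N5549 D9091) (tt N5482 (iv F42330)) (tt N5547 (iv F42684)) (tt N3628 (iv D7183)) (tt N5548 (iv F42690)))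
theorem Q4521 : ∀ i, i < 4521 → P i := stepQ 4520 Q4520 (allL N4520 (tt N5540 (iv F42640)) (tt N3640 F34217) (tt N4520 F34218) (tt N4006 F34219) (tt N3732 F34220) (tt N5550 D9092) (tt N4520 F34221) (tt N3630 F34222) (tt N3629 (iv D7184)) (tt N3677 F34223))
theorem Q4522 : ∀ i, i < 4522 → P i := stepQ 4521 Q4521 (allL N4521 (tt N5541 (iv F42648)) (tt N3641 F34224) (tt N4521 F34225) (tt N5431 (iv F42044)) (tt N5551 D9093) (tt N3630 (iv D7185)) (tt N5552 D9094) (tt N5550 (iv F42697)) (tt N5549 (iv F42693)) (tt N3678 F34226))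
theorem Q4523 : ∀ i, i < 4523 → P i := stepQ 4522 Q4522 (allL N4522 (tt N5542 (iv F42652)) (tt N3642 F34227) (tt N4522 F34228) (tt N5553 D9095) (tt N3631 (iv D7186)) (tt N3734 F34229) (tt N5554 D9096) (tt N4522 F34230) (tt N5484 (iv F42341)) (tt N3679 F34231))
theorem Q4524 : ∀ i, i < 4524 → P i := stepQ 4523 Q4523 (allL N4523 (tt N5543 (iv F42658)) (tt N3643 F34232) (tt N4523 F34233) (tt N5433 (iv F42052)) (tt N5554 (iv F42713)) (tt N5552 (iv F42705)) (tt N3631 (iv D7187)) (tt N5555 D9097) (tt N5485 (iv F42345)) (tt N3680 F34234))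
theorem Q4525 : ∀ i, i < 4525 → P i := stepQ 4524 Q4524 (allL N4524 (tt N3953 F34235) (tt N5488 (iv F42364)) (tt N4524 F34236) (tt N3635 F34237) (tt N5434 (iv F42058)) (tt N3736 F34238) (tt N5486 (iv F42353)) (tt N5478 (iv F42304)) (tt N5556 D9098) (tt N3632 (iv D7188)))
theorem Q4526 : ∀ i, i < 4526 → P i := stepQ 4525 Q4525 (allL N4525 (tt N3954 F34239) (tt N5544 (iv F42663)) (tt N3645 F34240) (tt N5478 (iv F42300)) (tt N3637 F34241) (tt N3737 F34242) (tt N5427 (iv F42020)) (tt N3635 F34243) (tt N5557 D9099) (tt N3633 (iv D7189)))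
theorem Q4527 : ∀ i, i < 4527 → P i := stepQ 4526 Q4526 (allL N4526 (tt N3955 F34244) (tt N5486 (iv F42348)) (tt N3646 F34245) (tt N5481 (iv F42322)) (tt N3638 F34246) (tt N4526 F34247) (tt N5488 (iv F42369)) (tt N3856 F34248) (tt N5558 D9100) (tt N3634 (iv D7190)))
theorem Q4528 : ∀ i, i < 4528 → P i := stepQ 4527 Q4527 (allL N4527 (tt N3956 F34249) (tt N5545 (iv F42670)) (tt N3647 F34250) (tt N5556 (iv F42721)) (tt N3639 F34251) (tt N5559 D9101) (tt N5489 (iv F42374)) (tt N5557 (iv F42725)) (tt N3635 (iv D7191)) (tt N5558 (iv F42731)))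
theorem Q4529 : ∀ i, i < 4529 → P i := stepQ 4528 Q4528 (allL N4528 (tt N3957 F34252) (tt N5546 (iv F42674)) (tt N3648 F34253) (tt N3906 F34254) (tt N5427 (iv F42018)) (tt N4528 F34255) (tt N3637 F34256) (tt N5490 (iv F42382)) (tt N5560 D9102) (tt N3636 (iv D7192)))
theorem Q4530 : ∀ i, i < 4530 → P i := stepQ 4529 Q4529 (allL N4529 (tt N3958 F34257) (tt N5547 (iv F42681)) (tt N3649 F34258) (tt N3959 F34259) (tt N5557 (iv F42724)) (tt N5561 D9103) (tt N5560 (iv F42738)) (tt N3639 F34260) (tt N3637 (iv D7193)) (tt N3857 F34261))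
theorem Q4531 : ∀ i, i < 4531 → P i := stepQ 4530 Q4530 (allL N4530 (tt N3959 F34262) (tt N5548 (iv F42686)) (tt N3650 F34263) (tt N3958 F34264) (tt N5558 (iv F42729)) (tt N5562 D9104) (tt N5493 (iv F42399)) (tt N3857 F34265) (tt N3638 (iv D7194)) (tt N3639 F34266))
theorem Q4532 : ∀ i, i < 4532 → P i := stepQ 4531 Q4531 (allL N4531 (tt N3960 F34267) (tt N5549 (iv F42691)) (tt N3651 F34268) (tt N5436 (iv F42071)) (tt N5563 D9105) (tt N3639 (iv D7195)) (tt N5564 D9106) (tt N5561 (iv F42743)) (tt N3641 F34269) (tt N5562 (iv F42751)))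
theorem Q4533 : ∀ i, i < 4533 → P i := stepQ 4532 Q4532 (allL N4532 (tt N3961 F34270) (tt N5550 (iv F42694)) (tt N3652 F34271) (tt N4014 F34272) (tt N5565 D9107) (tt N3640 (iv D7196)) (tt N5566 D9108) (tt N3641 F34273) (tt N5561 (iv F42744)) (tt N3683 F34274))
theorem Q4534 : ∀ i, i < 4534 → P i := stepQ 4533 Q4533 (allL N4533 (tt N3962 F34275) (tt N5551 (iv F42699)) (tt N3653 F34276) (tt N5567 D9109) (tt N3641 (iv D7197)) (tt N3743 F34277) (tt N5568 D9110) (tt N5565 (iv F42761)) (tt N5563 (iv F42754)) (tt N3684 F34278))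
theorem Q4535 : ∀ i, i < 4535 → P i := stepQ 4534 Q4534 (allL N4534 (tt N3963 F34279) (tt N5552 (iv F42703)) (tt N3654 F34280) (tt N5438 (iv F42082)) (tt N5568 (iv F42773)) (tt N3643 F34281) (tt N3641 (iv D7198)) (tt N5569 D9111) (tt N5564 (iv F42757)) (tt N3685 F34282))
theorem Q4536 : ∀ i, i < 4536 → P i := stepQ 4535 Q4535 (allL N4535 (tt N3964 F34283) (tt N5553 (iv F42707)) (tt N4535 F34284) (tt N3642 (iv D7199)) (tt N5439 (iv F42087)) (tt N3745 F34285) (tt N5570 D9112) (tt N4535 F34286) (tt N5498 (iv F42422)) (tt N3686 F34287))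
theorem Q4537 : ∀ i, i < 4537 → P i := stepQ 4536 Q4536 (allL N4536 (tt N3965 F34288) (tt N5554 (iv F42711)) (tt N3655 F34289) (tt N5570 (iv F42781)) (tt N3643 F34290) (tt N5571 D9113) (tt N3642 (iv D7200)) (tt N5572 D9114) (tt N5499 (iv F42427)) (tt N3687 F34291))
theorem Q4538 : ∀ i, i < 4538 → P i := stepQ 4537 Q4537 (allL N4537 (tt N3966 F34292) (tt N5555 (iv F42715)) (tt N3656 F34293) (tt N5441 (iv F42097)) (tt N5572 (iv F42789)) (tt N5569 (iv F42777)) (tt N4537 F34294) (tt N3643 (iv D7201)) (tt N5500 (iv F42432)) (tt N3688 F34295))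
theorem Q4539 : ∀ i, i < 4539 → P i := stepQ 4538 Q4538 (allL N4538 (tt N3967 F34296) (tt N4538 F34297) (tt N5427 (iv F42016)) (tt N4538 F34298) (tt N3648 F34299) (tt N4264 F34300) (tt N3645 F34301) (tt N4193 F34302) (tt N5573 D9115) (tt N3644 (iv D7202)))
theorem Q4540 : ∀ i, i < 4540 → P i := stepQ 4539 Q4539 (allL N4539 (tt N3968 F34303) (tt N4539 F34304) (tt N5557 (iv F42723)) (tt N4539 F34305) (tt N3649 F34306) (tt N5574 D9116) (tt N5573 (iv F42796)) (tt N3647 F34307) (tt N3645 (iv D7203)) (tt N3861 F34308))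
theorem Q4541 : ∀ i, i < 4541 → P i := stepQ 4540 Q4540 (allL N4540 (tt N3969 F34309) (tt N4540 F34310) (tt N5558 (iv F42728)) (tt N4540 F34311) (tt N3650 F34312) (tt N5575 D9117) (tt N5502 (iv F42445)) (tt N3861 F34313) (tt N3646 (iv D7204)) (tt N3647 F34314))
theorem Q4542 : ∀ i, i < 4542 → P i := stepQ 4541 Q4541 (allL N4541 (tt N3970 F34315) (tt N4541 F34316) (tt N5559 (iv F42733)) (tt N4541 F34317) (tt N5576 D9118) (tt N3647 (iv D7205)) (tt N5577 D9119) (tt N5574 (iv F42802)) (tt N3750 F34318) (tt N5575 (iv F42810)))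
theorem Q4543 : ∀ i, i < 4543 → P i := stepQ 4542 Q4542 (allL N4542 (tt N3971 F34319) (tt N4542 F34320) (tt N5560 (iv F42736)) (tt N3657 F34321) (tt N5573 (iv F42795)) (tt N5578 D9120) (tt N3649 F34322) (tt N5504 (iv F42457)) (tt N3648 (iv D7206)) (tt N3834 F34323))
theorem Q4544 : ∀ i, i < 4544 → P i := stepQ 4543 Q4543 (allL N4543 (tt N3972 F34324) (tt N4543 F34325) (tt N5561 (iv F42741)) (tt N3658 F34326) (tt N5579 D9121) (tt N3649 (iv D7207)) (tt N5580 D9122) (tt N3651 F34327) (tt N3652 F34328) (tt N3862 F34329))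
theorem Q4545 : ∀ i, i < 4545 → P i := stepQ 4544 Q4544 (allL N4544 (tt N3973 F34330) (tt N4544 F34331) (tt N5562 (iv F42747)) (tt N3659 F34332) (tt N5581 D9123) (tt N3650 (iv D7208)) (tt N5582 D9124) (tt N3862 F34333) (tt N3689 F34334) (tt N3651 F34335))
theorem Q4546 : ∀ i, i < 4546 → P i := stepQ 4545 Q4545 (allL N4545 (tt N3974 F34336) (tt N4545 F34337) (tt N5563 (iv F42753)) (tt N5583 D9125) (tt N3651 (iv D7209)) (tt N5576 (iv F42813)) (tt N5584 D9126) (tt N5579 (iv F42826)) (tt N3653 F34338) (tt N5581 (iv F42838)))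
theorem Q4547 : ∀ i, i < 4547 → P i := stepQ 4546 Q4546 (allL N4546 (tt N3975 F34339) (tt N4546 F34340) (tt N5564 (iv F42756)) (tt N3661 F34341) (tt N5584 (iv F42850)) (tt N5509 (iv F42482)) (tt N3651 (iv D7210)) (tt N5585 D9127) (tt N3654 F34342) (tt N5582 (iv F42843)))
theorem Q4548 : ∀ i, i < 4548 → P i := stepQ 4547 Q4547 (allL N4547 (tt N3976 F34343) (tt N4547 F34344) (tt N5565 (iv F42759)) (tt N5586 D9128) (tt N3652 (iv D7211)) (tt N3755 F34345) (tt N5587 D9129) (tt N3653 F34346) (tt N5579 (iv F42827)) (tt N3692 F34347))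
theorem Q4549 : ∀ i, i < 4549 → P i := stepQ 4548 Q4548 (allL N4548 (tt N3977 F34348) (tt N4548 F34349) (tt N5566 (iv F42764)) (tt N3663 F34350) (tt N5587 (iv F42864)) (tt N4548 F34351) (tt N3652 (iv D7212)) (tt N5588 D9130) (tt N5580 (iv F42832)) (tt N3693 F34352))
theorem Q4550 : ∀ i, i < 4550 → P i := stepQ 4549 Q4549 (allL N4549 (tt N3978 F34353) (tt N4549 F34354) (tt N5589 D9131) (tt N3653 (iv D7213)) (tt N3664 F34355) (tt N3757 F34356) (tt N5590 D9132) (tt N5586 (iv F42860)) (tt N5583 (iv F42847)) (tt N3694 F34357))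
theorem Q4551 : ∀ i, i < 4551 → P i := stepQ 4550 Q4550 (allL N4550 (tt N3979 F34358) (tt N4550 F34359) (tt N5568 (iv F42772)) (tt N5590 (iv F42878)) (tt N3654 F34360) (tt N5591 D9133) (tt N3653 (iv D7214)) (tt N5592 D9134) (tt N5584 (iv F42851)) (tt N3695 F34361))
theorem Q4552 : ∀ i, i < 4552 → P i := stepQ 4551 Q4551 (allL N4551 (tt N3980 F34362) (tt N4551 F34363) (tt N5569 (iv F42776)) (tt N3666 F34364) (tt N5592 (iv F42888)) (tt N3656 F34365) (tt N5588 (iv F42870)) (tt N3654 (iv D7215)) (tt N5585 (iv F42855)) (tt N3696 F34366))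
theorem Q4553 : ∀ i, i < 4553 → P i := stepQ 4552 Q4552 (allL N4552 (tt N3981 F34367) (tt N4552 F34368) (tt N5571 (iv F42784)) (tt N4552 F34369) (tt N5591 (iv F42883)) (tt N3655 (iv D7216)) (tt N3760 F34370) (tt N5593 D9135) (tt N5594 D9136) (tt N3697 F34371))
theorem Q4554 : ∀ i, i < 4554 → P i := stepQ 4553 Q4553 (allL N4553 (tt N3982 F34372) (tt N4553 F34373) (tt N5572 (iv F42788)) (tt N4553 F34374) (tt N3656 F34375) (tt N5593 (iv F42893)) (tt N4553 F34376) (tt N3655 (iv D7217)) (tt N5516 (iv F42518)) (tt N3698 F34377))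
theorem Q4555 : ∀ i, i < 4555 → P i := stepQ 4554 Q4554 (allL N4554 (tt N3983 F34378) (tt N4554 F34379) (tt N3928 F34380) (tt N5578 (iv F42821)) (tt N5595 D9137) (tt N3657 (iv D7218)) (tt N5596 D9138) (tt N5517 (iv F42523)) (tt N4554 F34381) (tt N3840 F34382))
theorem Q4556 : ∀ i, i < 4556 → P i := stepQ 4555 Q4555 (allL N4555 (tt N3984 F34383) (tt N4555 F34384) (tt N3986 F34385) (tt N5597 D9139) (tt N3658 (iv D7219)) (tt N4555 F34386) (tt N5598 D9140) (tt N3660 F34387) (tt N3662 F34388) (tt N3867 F34389))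
theorem Q4557 : ∀ i, i < 4557 → P i := stepQ 4556 Q4556 (allL N4556 (tt N3985 F34390) (tt N4556 F34391) (tt N3987 F34392) (tt N5580 (iv F42831)) (tt N5598 (iv F42920)) (tt N5596 (iv F42908)) (tt N3658 (iv D7220)) (tt N5599 D9141) (tt N3663 F34393) (tt N3868 F34394))
theorem Q4558 : ∀ i, i < 4558 → P i := stepQ 4557 Q4557 (allL N4557 (tt N3986 F34395) (tt N4557 F34396) (tt N3984 F34397) (tt N5600 D9142) (tt N3659 (iv D7221)) (tt N4557 F34398) (tt N5601 D9143) (tt N3867 F34399) (tt N3699 F34400) (tt N3660 F34401))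
theorem Q4559 : ∀ i, i < 4559 → P i := stepQ 4558 Q4558 (allL N4558 (tt N3987 F34402) (tt N4558 F34403) (tt N3985 F34404) (tt N5582 (iv F42841)) (tt N5601 (iv F42938)) (tt N5522 (iv F42549)) (tt N3659 (iv D7222)) (tt N5602 D9144) (tt N3700 F34405) (tt N3661 F34406))
theorem Q4560 : ∀ i, i < 4560 → P i := stepQ 4559 Q4559 (allL N4559 (tt N3988 F34407) (tt N4559 F34408) (tt N5603 D9145) (tt N3660 (iv D7223)) (tt N5583 (iv F42846)) (tt N4559 F34409) (tt N5604 D9146) (tt N5597 (iv F42914)) (tt N3664 F34410) (tt N5600 (iv F42934)))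
theorem Q4561 : ∀ i, i < 4561 → P i := stepQ 4560 Q4560 (allL N4560 (tt N3989 F34411) (tt N4560 F34412) (tt N5451 (iv F42149)) (tt N5604 (iv F42952)) (tt N3661 F34413) (tt N5605 D9147) (tt N3660 (iv D7224)) (tt N5606 D9148) (tt N3665 F34414) (tt N5601 (iv F42940)))
theorem Q4562 : ∀ i, i < 4562 → P i := stepQ 4561 Q4561 (allL N4561 (tt N3990 F34415) (tt N4561 F34416) (tt N5452 (iv F42155)) (tt N5585 (iv F42854)) (tt N5606 (iv F42960)) (tt N5525 (iv F42562)) (tt N5599 (iv F42926)) (tt N3661 (iv D7225)) (tt N3666 F34417) (tt N5602 (iv F42946)))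
theorem Q4563 : ∀ i, i < 4563 → P i := stepQ 4562 Q4562 (allL N4562 (tt N3991 F34418) (tt N4562 F34419) (tt N5607 D9149) (tt N3662 (iv D7226)) (tt N5586 (iv F42858)) (tt N3667 F34420) (tt N5608 D9150) (tt N3664 F34421) (tt N5597 (iv F42915)) (tt N3704 F34422))
theorem Q4564 : ∀ i, i < 4564 → P i := stepQ 4563 Q4563 (allL N4563 (tt N3992 F34423) (tt N4563 F34424) (tt N4040 F34425) (tt N5608 (iv F42969)) (tt N3663 F34426) (tt N5609 D9151) (tt N3662 (iv D7227)) (tt N5610 D9152) (tt N5598 (iv F42921)) (tt N3705 F34427))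
theorem Q4565 : ∀ i, i < 4565 → P i := stepQ 4564 Q4564 (allL N4564 (tt N3993 F34428) (tt N4564 F34429) (tt N4041 F34430) (tt N5588 (iv F42868)) (tt N5610 (iv F42980)) (tt N4564 F34431) (tt N3666 F34432) (tt N3663 (iv D7228)) (tt N5599 (iv F42927)) (tt N3706 F34433))
theorem Q4566 : ∀ i, i < 4566 → P i := stepQ 4565 Q4565 (allL N4565 (tt N3994 F34434) (tt N5611 D9153) (tt N3664 (iv D7229)) (tt N5453 (iv F42160)) (tt N5589 (iv F42873)) (tt N3669 F34435) (tt N5612 D9154) (tt N5607 (iv F42965)) (tt N5603 (iv F42949)) (tt N3707 F34436))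
theorem Q4567 : ∀ i, i < 4567 → P i := stepQ 4566 Q4566 (allL N4566 (tt N3995 F34437) (tt N4566 F34438) (tt N5612 (iv F42987)) (tt N3665 F34439) (tt N5590 (iv F42879)) (tt N4566 F34440) (tt N3664 (iv D7230)) (tt N5613 D9155) (tt N5604 (iv F42953)) (tt N3708 F34441))
theorem Q4568 : ∀ i, i < 4568 → P i := stepQ 4567 Q4567 (allL N4567 (tt N3996 F34442) (tt N4567 F34443) (tt N5455 (iv F42171)) (tt N5613 (iv F42992)) (tt N3666 F34444) (tt N4567 F34445) (tt N5610 (iv F42981)) (tt N3665 (iv D7231)) (tt N5606 (iv F42961)) (tt N3709 F34446))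
theorem Q4569 : ∀ i, i < 4569 → P i := stepQ 4568 Q4568 (allL N4568 (tt N3997 F34447) (tt N5614 D9156) (tt N3667 (iv D7232)) (tt N4053 F34448) (tt N3773 F34449) (tt N5607 (iv F42964)) (tt N4062 F131819) (tt N3669 F34450) (tt N4568 F34451) (tt N3710 F34452))
theorem Q4570 : ∀ i, i < 4570 → P i := stepQ 4569 Q4569 (allL N4569 (tt N3998 F34460) (tt N4569 F34461) (tt N4055 F34462) (tt N4197 F132627) (tt N4569 F34463) (tt N3668 (iv D7234)) (tt N5609 (iv F42975)) (tt N4569 F34464) (tt N5615 D9159) (tt N3711 F34465))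
theorem Q4571 : ∀ i, i < 4571 → P i := stepQ 4570 Q4570 (allL N4570 (tt N5616 D9160) (tt N3669 (iv D7235)) (tt N4570 F34466) (tt N4138 F131881) (tt N3774 F34467) (tt N5611 (iv F42984)) (tt N4570 F34468) (tt N5614 (iv F42998)) (tt N4570 F34469) (tt N3712 F34470))
theorem Q4572 : ∀ i, i < 4572 → P i := stepQ 4571 Q4571 (allL N4571 (tt N3675 F34471) (tt N4000 F34472) (tt N4571 F34473) (tt N3941 F34474) (tt N4571 F34475) (tt N5538 (iv F42634)) (tt N4571 F34476) (tt N3849 F34477) (tt N5617 D9161) (tt N3670 (iv D7236)))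
theorem Q4573 : ∀ i, i < 4573 → P i := stepQ 4572 Q4572 (allL N4572 (tt N3676 F34478) (tt N4001 F34479) (tt N4572 F34480) (tt N4002 F34481) (tt N4572 F34482) (tt N5618 D9162) (tt N4572 F34483) (tt N3873 F34484) (tt N3671 (iv D7237)) (tt N5617 (iv F43033)))
theorem Q4574 : ∀ i, i < 4574 → P i := stepQ 4573 Q4573 (allL N4573 (tt N3677 F34485) (tt N4002 F34486) (tt N4573 F34487) (tt N4001 F34488) (tt N3775 F34489) (tt N5619 D9163) (tt N4573 F34490) (tt N3673 F34491) (tt N3672 (iv D7238)) (tt N5540 (iv F42647)))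
theorem Q4575 : ∀ i, i < 4575 → P i := stepQ 4574 Q4574 (allL N4574 (tt N3678 F34492) (tt N4003 F34493) (tt N4574 F34494) (tt N5456 (iv F42186)) (tt N5620 D9164) (tt N3673 (iv D7239)) (tt N5621 D9165) (tt N5619 (iv F43044)) (tt N5618 (iv F43039)) (tt N5541 (iv F42651)))
theorem Q4576 : ∀ i, i < 4576 → P i := stepQ 4575 Q4575 (allL N4575 (tt N3679 F34495) (tt N4004 F34496) (tt N4575 F34497) (tt N5622 D9166) (tt N3674 (iv D7240)) (tt N3777 F34498) (tt N5623 D9167) (tt N4575 F34499) (tt N4575 F34500) (tt N5542 (iv F42657)))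
theorem Q4577 : ∀ i, i < 4577 → P i := stepQ 4576 Q4576 (allL N4576 (tt N3680 F34501) (tt N4005 F34502) (tt N4576 F34503) (tt N5458 (iv F42196)) (tt N5623 (iv F43062)) (tt N5621 (iv F43053)) (tt N3674 (iv D7241)) (tt N5624 D9168) (tt N4576 F34504) (tt N5543 (iv F42661)))
theorem Q4578 : ∀ i, i < 4578 → P i := stepQ 4577 Q4577 (allL N4577 (tt N5617 (iv F43026)) (tt N3681 F34505) (tt N4577 F34506) (tt N3948 F34507) (tt N4577 F34508) (tt N5625 D9169) (tt N4577 F34509) (tt N3853 F34510) (tt N3675 (iv D7242)) (tt N3676 F34511))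
theorem Q4579 : ∀ i, i < 4579 → P i := stepQ 4578 Q4578 (allL N4578 (tt N5618 (iv F43034)) (tt N3682 F34512) (tt N4578 F34513) (tt N4008 F34514) (tt N5626 D9170) (tt N3676 (iv D7243)) (tt N5627 D9171) (tt N3875 F34515) (tt N3678 F34516) (tt N5625 (iv F43073)))
theorem Q4580 : ∀ i, i < 4580 → P i := stepQ 4579 Q4579 (allL N4579 (tt N5619 (iv F43040)) (tt N3683 F34517) (tt N4579 F34518) (tt N4007 F34519) (tt N5628 D9172) (tt N3677 (iv D7244)) (tt N5629 D9173) (tt N3678 F34520) (tt N3875 F34521) (tt N5550 (iv F42698)))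
theorem Q4581 : ∀ i, i < 4581 → P i := stepQ 4580 Q4580 (allL N4580 (tt N5620 (iv F43046)) (tt N3684 F34522) (tt N4580 F34523) (tt N5630 D9174) (tt N3678 (iv D7245)) (tt N3780 F34524) (tt N5631 D9175) (tt N5628 (iv F43087)) (tt N5626 (iv F43078)) (tt N5551 (iv F42702)))
theorem Q4582 : ∀ i, i < 4582 → P i := stepQ 4581 Q4581 (allL N4581 (tt N5621 (iv F43050)) (tt N3685 F34525) (tt N4581 F34526) (tt N5460 (iv F42205)) (tt N5631 (iv F43098)) (tt N3680 F34527) (tt N3678 (iv D7246)) (tt N5632 D9176) (tt N5627 (iv F43083)) (tt N5552 (iv F42706)))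
theorem Q4583 : ∀ i, i < 4583 → P i := stepQ 4582 Q4582 (allL N4582 (tt N5622 (iv F43054)) (tt N3686 F34528) (tt N5633 D9177) (tt N3679 (iv D7247)) (tt N5461 (iv F42209)) (tt N3782 F34529) (tt N5634 D9178) (tt N4582 F34530) (tt N4582 F34531) (tt N5553 (iv F42710)))
theorem Q4584 : ∀ i, i < 4584 → P i := stepQ 4583 Q4583 (allL N4583 (tt N5623 (iv F43059)) (tt N3687 F34532) (tt N4583 F34533) (tt N5634 (iv F43108)) (tt N3680 F34534) (tt N5635 D9179) (tt N3679 (iv D7248)) (tt N5636 D9180) (tt N4583 F34535) (tt N5554 (iv F42714)))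
theorem Q4585 : ∀ i, i < 4585 → P i := stepQ 4584 Q4584 (allL N4584 (tt N5624 (iv F43064)) (tt N3688 F34536) (tt N4584 F34537) (tt N5463 (iv F42217)) (tt N5636 (iv F43115)) (tt N5632 (iv F43101)) (tt N4584 F34538) (tt N3680 (iv D7249)) (tt N4584 F34539) (tt N5555 (iv F42718)))
theorem Q4586 : ∀ i, i < 4586 → P i := stepQ 4585 Q4585 (allL N4585 (tt N4014 F34540) (tt N5625 (iv F43069)) (tt N3689 F34541) (tt N3961 F34542) (tt N5637 D9181) (tt N3681 (iv D7250)) (tt N5638 D9182) (tt N3858 F34543) (tt N5562 (iv F42750)) (tt N3682 F34544))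
theorem Q4587 : ∀ i, i < 4587 → P i := stepQ 4586 Q4586 (allL N4586 (tt N4015 F34545) (tt N5626 (iv F43074)) (tt N3690 F34546) (tt N5639 D9183) (tt N3682 (iv D7251)) (tt N4586 F34547) (tt N5640 D9184) (tt N3878 F34548) (tt N3684 F34549) (tt N5637 (iv F43122)))
theorem Q4588 : ∀ i, i < 4588 → P i := stepQ 4587 Q4587 (allL N4587 (tt N4016 F34550) (tt N5627 (iv F43079)) (tt N3691 F34551) (tt N4018 F34552) (tt N5640 (iv F43135)) (tt N4587 F34553) (tt N3682 (iv D7252)) (tt N5641 D9185) (tt N3685 F34554) (tt N5638 (iv F43127)))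
theorem Q4589 : ∀ i, i < 4589 → P i := stepQ 4588 Q4588 (allL N4588 (tt N4017 F34555) (tt N5628 (iv F43084)) (tt N3692 F34556) (tt N5642 D9186) (tt N3683 (iv D7253)) (tt N3785 F34557) (tt N5643 D9187) (tt N3684 F34558) (tt N3878 F34559) (tt N5565 (iv F42762)))
theorem Q4590 : ∀ i, i < 4590 → P i := stepQ 4589 Q4589 (allL N4589 (tt N4018 F34560) (tt N5629 (iv F43089)) (tt N3693 F34561) (tt N4016 F34562) (tt N5643 (iv F43150)) (tt N4589 F34563) (tt N3683 (iv D7254)) (tt N5644 D9188) (tt N3879 F34564) (tt N5566 (iv F42767)))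
theorem Q4591 : ∀ i, i < 4591 → P i := stepQ 4590 Q4590 (allL N4590 (tt N4019 F34565) (tt N5630 (iv F43094)) (tt N5645 D9189) (tt N3684 (iv D7255)) (tt N5464 (iv F42221)) (tt N3787 F34566) (tt N5646 D9190) (tt N5642 (iv F43146)) (tt N5639 (iv F43132)) (tt N5567 (iv F42770)))
theorem Q4592 : ∀ i, i < 4592 → P i := stepQ 4591 Q4591 (allL N4591 (tt N4020 F34567) (tt N5631 (iv F43096)) (tt N3695 F34568) (tt N5646 (iv F43162)) (tt N3685 F34569) (tt N5647 D9191) (tt N3684 (iv D7256)) (tt N5648 D9192) (tt N5640 (iv F43136)) (tt N5568 (iv F42774)))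
theorem Q4593 : ∀ i, i < 4593 → P i := stepQ 4592 Q4592 (allL N4592 (tt N4021 F34570) (tt N5632 (iv F43099)) (tt N3696 F34571) (tt N5466 (iv F42231)) (tt N5648 (iv F43169)) (tt N3688 F34572) (tt N5644 (iv F43156)) (tt N3685 (iv D7257)) (tt N5641 (iv F43142)) (tt N5569 (iv F42778)))
theorem Q4594 : ∀ i, i < 4594 → P i := stepQ 4593 Q4593 (allL N4593 (tt N4022 F34573) (tt N5634 (iv F43107)) (tt N4593 F34574) (tt N3687 F34575) (tt N5467 (iv F42238)) (tt N5649 D9193) (tt N3686 (iv D7258)) (tt N5650 D9194) (tt N4593 F34576) (tt N5570 (iv F42782)))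
theorem Q4595 : ∀ i, i < 4595 → P i := stepQ 4594 Q4594 (allL N4594 (tt N4023 F34577) (tt N5635 (iv F43110)) (tt N3697 F34578) (tt N5649 (iv F43172)) (tt N5647 (iv F43165)) (tt N3687 (iv D7259)) (tt N3791 F34579) (tt N5651 D9195) (tt N5652 D9196) (tt N5571 (iv F42786)))
theorem Q4596 : ∀ i, i < 4596 → P i := stepQ 4595 Q4595 (allL N4595 (tt N4024 F34580) (tt N5636 (iv F43113)) (tt N3698 F34581) (tt N5650 (iv F43176)) (tt N3688 F34582) (tt N5651 (iv F43181)) (tt N4595 F34583) (tt N3687 (iv D7260)) (tt N4595 F34584) (tt N5572 (iv F42791)))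
theorem Q4597 : ∀ i, i < 4597 → P i := stepQ 4596 Q4596 (allL N4596 (tt N4025 F34585) (tt N4596 F34586) (tt N5637 (iv F43119)) (tt N5653 D9197) (tt N3689 (iv D7261)) (tt N4596 F34587) (tt N5654 D9198) (tt N3863 F34588) (tt N5581 (iv F42837)) (tt N3690 F34589))
theorem Q4598 : ∀ i, i < 4598 → P i := stepQ 4597 Q4597 (allL N4597 (tt N4026 F34590) (tt N4597 F34591) (tt N5638 (iv F43124)) (tt N3700 F34592) (tt N5654 (iv F43194)) (tt N4597 F34593) (tt N3689 (iv D7262)) (tt N5655 D9199) (tt N5582 (iv F42842)) (tt N3691 F34594))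
theorem Q4599 : ∀ i, i < 4599 → P i := stepQ 4598 Q4598 (allL N4598 (tt N4027 F34595) (tt N4598 F34596) (tt N5656 D9200) (tt N3690 (iv D7263)) (tt N3701 F34597) (tt N4598 F34598) (tt N5657 D9201) (tt N3883 F34599) (tt N3694 F34600) (tt N5653 (iv F43191)))
theorem Q4600 : ∀ i, i < 4600 → P i := stepQ 4599 Q4599 (allL N4599 (tt N4028 F34601) (tt N4599 F34602) (tt N5640 (iv F43134)) (tt N5657 (iv F43209)) (tt N3691 F34603) (tt N5658 D9202) (tt N3690 (iv D7264)) (tt N5659 D9203) (tt N3695 F34604) (tt N5654 (iv F43195)))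
theorem Q4601 : ∀ i, i < 4601 → P i := stepQ 4600 Q4600 (allL N4600 (tt N4029 F34605) (tt N4600 F34606) (tt N5641 (iv F43138)) (tt N3703 F34607) (tt N5659 (iv F43218)) (tt N4600 F34608) (tt N3885 F34609) (tt N3691 (iv D7265)) (tt N3696 F34610) (tt N5655 (iv F43201)))
theorem Q4602 : ∀ i, i < 4602 → P i := stepQ 4601 Q4601 (allL N4601 (tt N4030 F34611) (tt N4601 F34612) (tt N5660 D9204) (tt N3692 (iv D7266)) (tt N3704 F34613) (tt N3793 F34614) (tt N5661 D9205) (tt N3694 F34615) (tt N3883 F34616) (tt N5586 (iv F42861)))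
theorem Q4603 : ∀ i, i < 4603 → P i := stepQ 4602 Q4602 (allL N4602 (tt N4031 F34617) (tt N4602 F34618) (tt N5643 (iv F43149)) (tt N5661 (iv F43228)) (tt N3693 F34619) (tt N5662 D9206) (tt N3692 (iv D7267)) (tt N5663 D9207) (tt N3884 F34620) (tt N5587 (iv F42865)))
theorem Q4604 : ∀ i, i < 4604 → P i := stepQ 4603 Q4603 (allL N4603 (tt N4032 F34621) (tt N4603 F34622) (tt N5644 (iv F43153)) (tt N3706 F34623) (tt N5663 (iv F43237)) (tt N4603 F34624) (tt N3696 F34625) (tt N3693 (iv D7268)) (tt N3885 F34626) (tt N5588 (iv F42871)))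
theorem Q4605 : ∀ i, i < 4605 → P i := stepQ 4604 Q4604 (allL N4604 (tt N4033 F34627) (tt N5664 D9208) (tt N3694 (iv D7269)) (tt N5645 (iv F43159)) (tt N3707 F34628) (tt N3796 F34629) (tt N5665 D9209) (tt N5660 (iv F43224)) (tt N5656 (iv F43206)) (tt N5589 (iv F42875)))
theorem Q4606 : ∀ i, i < 4606 → P i := stepQ 4605 Q4605 (allL N4605 (tt N4034 F34630) (tt N4605 F34631) (tt N5665 (iv F43244)) (tt N3695 F34632) (tt N3708 F34633) (tt N5666 D9210) (tt N3694 (iv D7270)) (tt N5667 D9211) (tt N5657 (iv F43211)) (tt N5590 (iv F42880)))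
theorem Q4607 : ∀ i, i < 4607 → P i := stepQ 4606 Q4606 (allL N4606 (tt N4035 F34634) (tt N4606 F34635) (tt N5647 (iv F43164)) (tt N5666 (iv F43248)) (tt N3697 F34636) (tt N3695 (iv D7271)) (tt N3798 F34637) (tt N5668 D9212) (tt N5669 D9213) (tt N5591 (iv F42885)))
theorem Q4608 : ∀ i, i < 4608 → P i := stepQ 4607 Q4607 (allL N4607 (tt N4036 F34638) (tt N4607 F34639) (tt N5648 (iv F43168)) (tt N5667 (iv F43253)) (tt N3696 F34640) (tt N5668 (iv F43258)) (tt N5663 (iv F43238)) (tt N3695 (iv D7272)) (tt N5659 (iv F43220)) (tt N5592 (iv F42889)))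
theorem Q4609 : ∀ i, i < 4609 → P i := stepQ 4608 Q4608 (allL N4608 (tt N4037 F34641) (tt N4608 F34642) (tt N5651 (iv F43180)) (tt N4608 F34643) (tt N5668 (iv F43257)) (tt N3698 F34644) (tt N5670 D9214) (tt N3697 (iv D7273)) (tt N5671 D9215) (tt N5593 (iv F42894)))
theorem Q4610 : ∀ i, i < 4610 → P i := stepQ 4609 Q4609 (allL N4609 (tt N4038 F34645) (tt N4609 F34646) (tt N5652 (iv F43183)) (tt N4609 F34647) (tt N5669 (iv F43261)) (tt N4609 F34648) (tt N3801 F34649) (tt N5671 (iv F43272)) (tt N3697 (iv D7274)) (tt N5672 D9216))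
theorem Q4611 : ∀ i, i < 4611 → P i := stepQ 4610 Q4610 (allL N4610 (tt N4039 F34650) (tt N4610 F34651) (tt N5673 D9217) (tt N3699 (iv D7275)) (tt N5653 (iv F43188)) (tt N3713 F34652) (tt N5674 D9218) (tt N3869 F34653) (tt N5600 (iv F42933)) (tt N3701 F34654))
theorem Q4612 : ∀ i, i < 4612 → P i := stepQ 4611 Q4611 (allL N4611 (tt N4040 F34655) (tt N4611 F34656) (tt N3992 F34657) (tt N5674 (iv F43285)) (tt N3700 F34658) (tt N5675 D9219) (tt N3699 (iv D7276)) (tt N5676 D9220) (tt N5601 (iv F42939)) (tt N3702 F34659))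
theorem Q4613 : ∀ i, i < 4613 → P i := stepQ 4612 Q4612 (allL N4612 (tt N4041 F34660) (tt N4612 F34661) (tt N3993 F34662) (tt N5655 (iv F43198)) (tt N5676 (iv F43296)) (tt N4612 F34663) (tt N3871 F34664) (tt N3700 (iv D7277)) (tt N5602 (iv F42945)) (tt N3703 F34665))
theorem Q4614 : ∀ i, i < 4614 → P i := stepQ 4613 Q4613 (allL N4613 (tt N4042 F34666) (tt N4126 F131817) (tt N3701 (iv D7278)) (tt N4046 F34667) (tt N5656 (iv F43203)) (tt N3715 F34668) (tt N5677 D9222) (tt N3888 F34669) (tt N3707 F34670) (tt N5673 (iv F43282)))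
theorem Q4615 : ∀ i, i < 4615 → P i := stepQ 4614 Q4614 (allL N4614 (tt N4043 F34671) (tt N4614 F34672) (tt N5677 (iv F43305)) (tt N3702 F34673) (tt N5657 (iv F43210)) (tt N5678 D9223) (tt N3701 (iv D7279)) (tt N5679 D9224) (tt N3708 F34674) (tt N5674 (iv F43286)))
theorem Q4616 : ∀ i, i < 4616 → P i := stepQ 4615 Q4615 (allL N4615 (tt N4044 F34675) (tt N4615 F34676) (tt N4048 F34677) (tt N5678 (iv F43310)) (tt N4615 F34678) (tt N3702 (iv D7280)) (tt N3717 F34679) (tt N5680 D9225) (tt N4615 F34680) (tt N5675 (iv F43292)))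
theorem Q4617 : ∀ i, i < 4617 → P i := stepQ 4616 Q4616 (allL N4616 (tt N4045 F34681) (tt N4616 F34682) (tt N4049 F34683) (tt N5679 (iv F43315)) (tt N3703 F34684) (tt N5680 (iv F43322)) (tt N3890 F34685) (tt N3702 (iv D7281)) (tt N3709 F34686) (tt N5676 (iv F43298)))
theorem Q4618 : ∀ i, i < 4618 → P i := stepQ 4617 Q4617 (allL N4617 (tt N4046 F34687) (tt N5681 D9226) (tt N3704 (iv D7282)) (tt N4042 F34688) (tt N5660 (iv F43222)) (tt N3710 F34689) (tt N5682 D9227) (tt N3707 F34690) (tt N3888 F34691) (tt N5607 (iv F42966)))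
theorem Q4619 : ∀ i, i < 4619 → P i := stepQ 4618 Q4618 (allL N4618 (tt N4047 F34692) (tt N4618 F34693) (tt N5682 (iv F43331)) (tt N3705 F34694) (tt N5661 (iv F43229)) (tt N4271 F132629) (tt N3704 (iv D7283)) (tt N5683 D9229) (tt N3889 F34695) (tt N5608 (iv F42970)))
theorem Q4620 : ∀ i, i < 4620 → P i := stepQ 4619 Q4619 (allL N4619 (tt N4048 F34696) (tt N4619 F34697) (tt N4044 F34698) (tt N4271 F132628) (tt N4619 F34699) (tt N3705 (iv D7284)) (tt N3711 F34700) (tt N5684 D9230) (tt N4619 F34701) (tt N5609 (iv F42976)))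
theorem Q4621 : ∀ i, i < 4621 → P i := stepQ 4620 Q4620 (allL N4620 (tt N4049 F34702) (tt N4620 F34703) (tt N4045 F34704) (tt N5683 (iv F43341)) (tt N3706 F34705) (tt N5684 (iv F43348)) (tt N3709 F34706) (tt N3705 (iv D7285)) (tt N3890 F34707) (tt N5610 (iv F42982)))
theorem Q4622 : ∀ i, i < 4622 → P i := stepQ 4621 Q4621 (allL N4621 (tt N5685 D9231) (tt N3707 (iv D7286)) (tt N4621 F34708) (tt N4127 F131866) (tt N5664 (iv F43241)) (tt N3712 F34709) (tt N5686 D9232) (tt N5681 (iv F43328)) (tt N4126 F131867) (tt N5611 (iv F42985)))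
theorem Q4623 : ∀ i, i < 4623 → P i := stepQ 4622 Q4622 (allL N4622 (tt N4051 F34710) (tt N5686 (iv F43354)) (tt N3708 F34711) (tt N5476 (iv F42281)) (tt N5665 (iv F43245)) (tt N4622 F34712) (tt N3707 (iv D7287)) (tt N5687 D9233) (tt N5677 (iv F43307)) (tt N5612 (iv F42989)))
theorem Q4624 : ∀ i, i < 4624 → P i := stepQ 4623 Q4623 (allL N4623 (tt N4052 F34713) (tt N4623 F34714) (tt N5687 (iv F43358)) (tt N3709 F34715) (tt N5667 (iv F43254)) (tt N4623 F34716) (tt N5683 (iv F43342)) (tt N3708 (iv D7288)) (tt N5679 (iv F43317)) (tt N5613 (iv F42994)))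
theorem Q4625 : ∀ i, i < 4625 → P i := stepQ 4624 Q4624 (allL N4624 (tt N3783 (iv F131560)) (tt N3710 (iv D7289)) (tt N4624 F34717) (tt N4056 F34718) (tt N3778 F131156) (tt N5681 (iv F43327)) (tt N3777 (iv F131458)) (tt N3712 F34720) (tt N3718 F34721) (tt N5614 (iv F43000)))
theorem Q4626 : ∀ i, i < 4626 → P i := stepQ 4625 Q4625 (allL N4625 (tt N3712 (iv D7292)) (tt N3792 (iv F131433)) (tt N4625 F34734) (tt N3810 (iv F131471)) (tt N3784 F131157) (tt N5685 (iv F43353)) (tt N4625 F34736) (tt N3783 (iv F131561)) (tt N3719 F34737) (tt N5616 (iv F43025)))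
theorem Q4627 : ∀ i, i < 4627 → P i := stepQ 4626 Q4626 (allL N4626 (tt N4053 F34738) (tt N4082 F131822) (tt N3713 (iv D7293)) (tt N3997 F34739) (tt N4626 F34740) (tt N5673 (iv F43280)) (tt N4069 F131823) (tt N3872 F34741) (tt N4626 F34742) (tt N3715 F34743))
theorem Q4628 : ∀ i, i < 4628 → P i := stepQ 4627 Q4627 (allL N4627 (tt N4054 F34744) (tt N4627 F34745) (tt N4069 F131860) (tt N3714 F34746) (tt N4627 F34747) (tt N5688 D9240) (tt N3713 (iv D7294)) (tt N4627 F34748) (tt N4627 F34749) (tt N3716 F34750))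
theorem Q4629 : ∀ i, i < 4629 → P i := stepQ 4628 Q4628 (allL N4628 (tt N4055 F34751) (tt N4628 F34752) (tt N3998 F34753) (tt N5688 (iv F43398)) (tt N4628 F34754) (tt N3714 (iv D7295)) (tt N5675 (iv F43291)) (tt N4628 F34755) (tt N5689 D9241) (tt N3717 F34756))
theorem Q4630 : ∀ i, i < 4630 → P i := stepQ 4629 Q4629 (allL N4629 (tt N4058 F34768) (tt N4629 F34769) (tt N4011 F131859) (tt N3717 F34770) (tt N5690 D9245) (tt N3716 (iv D7298)) (tt N5678 (iv F43311)) (tt N4629 F34771) (tt N4629 F34772) (tt N5688 (iv F43400)))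
theorem Q4631 : ∀ i, i < 4631 → P i := stepQ 4630 Q4630 (allL N4630 (tt N3728 F34801) (tt N3829 F34802) (tt N4630 F34803) (tt N3899 F34804) (tt N3722 F34805) (tt N5536 (iv F42618)) (tt N4630 F34806) (tt N3824 F34807) (tt N5691 D9248) (tt N3720 (iv D7303)))
theorem Q4632 : ∀ i, i < 4632 → P i := stepQ 4631 Q4631 (allL N4631 (tt N3730 F34808) (tt N3814 F34809) (tt N4631 F34810) (tt N4631 F34811) (tt N3824 F34812) (tt N3723 F34813) (tt N3813 F34814) (tt N3722 F34815) (tt N5692 D9249) (tt N3721 (iv D7304)))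
theorem Q4633 : ∀ i, i < 4633 → P i := stepQ 4632 Q4632 (allL N4632 (tt N3731 F34816) (tt N4059 F34817) (tt N4632 F34818) (tt N4632 F34819) (tt N5691 (iv F43451)) (tt N5693 D9250) (tt N4632 F34820) (tt N5692 (iv F43461)) (tt N3722 (iv D7305)) (tt N4632 F34821))
theorem Q4634 : ∀ i, i < 4634 → P i := stepQ 4633 Q4633 (allL N4633 (tt N3732 F34822) (tt N4060 F34823) (tt N4633 F34824) (tt N4633 F34825) (tt N5540 (iv F42644)) (tt N5694 D9251) (tt N4633 F34826) (tt N3724 F34827) (tt N3723 (iv D7306)) (tt N3775 F34828))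
theorem Q4635 : ∀ i, i < 4635 → P i := stepQ 4634 Q4634 (allL N4634 (tt N3733 F34829) (tt N4061 F34830) (tt N4634 F34831) (tt N4634 F34832) (tt N5695 D9252) (tt N3724 (iv D7307)) (tt N5696 D9253) (tt N5694 (iv F43473)) (tt N5693 (iv F43467)) (tt N3776 F34833))
theorem Q4636 : ∀ i, i < 4636 → P i := stepQ 4635 Q4635 (allL N4635 (tt N3734 F34834) (tt N4062 F34835) (tt N4635 F34836) (tt N5697 D9254) (tt N3725 (iv D7308)) (tt N5542 (iv F42655)) (tt N5614 F131844) (tt N4635 F34837) (tt N4635 F34838) (tt N3777 F34839))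
theorem Q4637 : ∀ i, i < 4637 → P i := stepQ 4636 Q4636 (allL N4636 (tt N3735 F34840) (tt N3773 (iv F131452)) (tt N4636 F34842) (tt N4636 F34843) (tt N5614 (iv F131558)) (tt N5696 (iv F43483)) (tt N3725 (iv D7309)) (tt N3774 (iv F131587)) (tt N4636 F34844) (tt N3778 F34845))
theorem Q4638 : ∀ i, i < 4638 → P i := stepQ 4637 Q4637 (allL N4637 (tt N3899 F34846) (tt N3736 F34847) (tt N4142 F34848) (tt N3728 F34849) (tt N4637 F34850) (tt N5488 (iv F42368)) (tt N4637 F34851) (tt N3893 F34852) (tt N5698 D9257) (tt N3726 (iv D7310)))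
theorem Q4639 : ∀ i, i < 4639 → P i := stepQ 4638 Q4638 (allL N4638 (tt N3824 F34853) (tt N3737 F34854) (tt N4638 F34855) (tt N3893 F34856) (tt N3730 F34857) (tt N5544 (iv F42667)) (tt N3822 F34858) (tt N3728 F34859) (tt N5699 D9258) (tt N3727 (iv D7311)))
theorem Q4640 : ∀ i, i < 4640 → P i := stepQ 4639 Q4639 (allL N4639 (tt N5691 (iv F43447)) (tt N3738 F34860) (tt N4639 F34861) (tt N5698 (iv F43507)) (tt N3731 F34862) (tt N5700 D9259) (tt N4639 F34863) (tt N5699 (iv F43518)) (tt N3728 (iv D7312)) (tt N4639 F34864))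
theorem Q4641 : ∀ i, i < 4641 → P i := stepQ 4640 Q4640 (allL N4640 (tt N3813 F34865) (tt N3739 F34866) (tt N4640 F34867) (tt N4640 F34868) (tt N3822 F34869) (tt N4640 F34870) (tt N3730 F34871) (tt N4640 F34872) (tt N5701 D9260) (tt N3729 (iv D7313)))
theorem Q4642 : ∀ i, i < 4642 → P i := stepQ 4641 Q4641 (allL N4641 (tt N5692 (iv F43455)) (tt N3740 F34873) (tt N4641 F34874) (tt N4641 F34875) (tt N5699 (iv F43516)) (tt N5702 D9261) (tt N5701 (iv F43528)) (tt N3731 F34876) (tt N3730 (iv D7314)) (tt N4641 F34877))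
theorem Q4643 : ∀ i, i < 4643 → P i := stepQ 4642 Q4642 (allL N4642 (tt N5693 (iv F43463)) (tt N3741 F34878) (tt N4642 F34879) (tt N4642 F34880) (tt N5703 D9262) (tt N3731 (iv D7315)) (tt N5704 D9263) (tt N5702 (iv F43534)) (tt N3733 F34881) (tt N4642 F34882))
theorem Q4644 : ∀ i, i < 4644 → P i := stepQ 4643 Q4643 (allL N4643 (tt N5694 (iv F43469)) (tt N3742 F34883) (tt N4643 F34884) (tt N4643 F34885) (tt N5705 D9264) (tt N3732 (iv D7316)) (tt N5706 D9265) (tt N3733 F34886) (tt N5702 (iv F43535)) (tt N3779 F34887))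
theorem Q4645 : ∀ i, i < 4645 → P i := stepQ 4644 Q4644 (allL N4644 (tt N5695 (iv F43475)) (tt N3743 F34888) (tt N4644 F34889) (tt N5707 D9266) (tt N3733 (iv D7317)) (tt N5551 (iv F42701)) (tt N5708 D9267) (tt N5705 (iv F43549)) (tt N5703 (iv F43539)) (tt N3780 F34890))
theorem Q4646 : ∀ i, i < 4646 → P i := stepQ 4645 Q4645 (allL N4645 (tt N5696 (iv F43479)) (tt N3744 F34891) (tt N4645 F34892) (tt N4645 F34893) (tt N5708 (iv F43561)) (tt N3735 F34894) (tt N3733 (iv D7318)) (tt N5709 D9268) (tt N5704 (iv F43545)) (tt N3781 F34895))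
theorem Q4647 : ∀ i, i < 4647 → P i := stepQ 4646 Q4646 (allL N4646 (tt N5697 (iv F43485)) (tt N3745 F34896) (tt N5710 D9269) (tt N3734 (iv D7319)) (tt N4646 F34897) (tt N5553 (iv F42708)) (tt N5711 D9270) (tt N4646 F34898) (tt N4646 F34899) (tt N3782 F34900))
theorem Q4648 : ∀ i, i < 4648 → P i := stepQ 4647 Q4647 (allL N4647 (tt N5614 F131937) (tt N3746 F34901) (tt N4647 F34902) (tt N5711 (iv F43575)) (tt N3735 F34903) (tt N5712 D9271) (tt N3734 (iv D7320)) (tt N5616 F131938) (tt N4647 F34904) (tt N3783 F34905))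
theorem Q4649 : ∀ i, i < 4649 → P i := stepQ 4648 Q4648 (allL N4648 (tt N3774 (iv F131586)) (tt N3747 F34906) (tt N4648 F34907) (tt N4648 F34908) (tt N5616 (iv F131559)) (tt N5709 (iv F43566)) (tt N4648 F34909) (tt N3735 (iv D7321)) (tt N4648 F34910) (tt N3784 F34911))
theorem Q4650 : ∀ i, i < 4650 → P i := stepQ 4649 Q4649 (allL N4649 (tt N4070 F34912) (tt N5698 (iv F43505)) (tt N4649 F34913) (tt N3738 F34914) (tt N4649 F34915) (tt N5713 D9273) (tt N4649 F34916) (tt N5479 (iv F42311)) (tt N3736 (iv D7322)) (tt N4649 F34917))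
theorem Q4651 : ∀ i, i < 4651 → P i := stepQ 4650 Q4650 (allL N4650 (tt N4071 F34918) (tt N5699 (iv F43513)) (tt N3749 F34919) (tt N5479 (iv F42308)) (tt N3740 F34920) (tt N5714 D9274) (tt N5405 (iv F41894)) (tt N3738 F34921) (tt N3737 (iv D7323)) (tt N4650 F34922))
theorem Q4652 : ∀ i, i < 4652 → P i := stepQ 4651 Q4651 (allL N4651 (tt N4072 F34923) (tt N5700 (iv F43520)) (tt N3750 F34924) (tt N5713 (iv F43590)) (tt N5715 D9275) (tt N3738 (iv D7324)) (tt N5716 D9276) (tt N5714 (iv F43594)) (tt N5559 (iv F42734)) (tt N4651 F34925))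
theorem Q4653 : ∀ i, i < 4653 → P i := stepQ 4652 Q4652 (allL N4652 (tt N4073 F34926) (tt N5701 (iv F43524)) (tt N3751 F34927) (tt N4652 F34928) (tt N5405 (iv F41893)) (tt N5717 D9277) (tt N3740 F34929) (tt N4652 F34930) (tt N3739 (iv D7325)) (tt N4652 F34931))
theorem Q4654 : ∀ i, i < 4654 → P i := stepQ 4653 Q4653 (allL N4653 (tt N4074 F34932) (tt N5702 (iv F43531)) (tt N3752 F34933) (tt N4653 F34934) (tt N5718 D9278) (tt N3740 (iv D7326)) (tt N5719 D9279) (tt N3741 F34935) (tt N3742 F34936) (tt N4653 F34937))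
theorem Q4655 : ∀ i, i < 4655 → P i := stepQ 4654 Q4654 (allL N4654 (tt N4075 F34938) (tt N5703 (iv F43537)) (tt N3753 F34939) (tt N5720 D9280) (tt N3741 (iv D7327)) (tt N5715 (iv F43598)) (tt N5721 D9281) (tt N5718 (iv F43612)) (tt N3743 F34940) (tt N4654 F34941))
theorem Q4656 : ∀ i, i < 4656 → P i := stepQ 4655 Q4655 (allL N4655 (tt N4076 F34942) (tt N5704 (iv F43541)) (tt N3754 F34943) (tt N4655 F34944) (tt N5721 (iv F43626)) (tt N4655 F34945) (tt N3741 (iv D7328)) (tt N5722 D9282) (tt N3744 F34946) (tt N4655 F34947))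
theorem Q4657 : ∀ i, i < 4657 → P i := stepQ 4656 Q4656 (allL N4656 (tt N4077 F34948) (tt N5705 (iv F43547)) (tt N3755 F34949) (tt N5723 D9283) (tt N3742 (iv D7329)) (tt N5565 (iv F42760)) (tt N5724 D9284) (tt N3743 F34950) (tt N5718 (iv F43613)) (tt N3785 F34951))
theorem Q4658 : ∀ i, i < 4658 → P i := stepQ 4657 Q4657 (allL N4657 (tt N4078 F34952) (tt N5706 (iv F43551)) (tt N3756 F34953) (tt N4657 F34954) (tt N5724 (iv F43641)) (tt N4657 F34955) (tt N3742 (iv D7330)) (tt N5725 D9285) (tt N5719 (iv F43618)) (tt N3786 F34956))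
theorem Q4659 : ∀ i, i < 4659 → P i := stepQ 4658 Q4658 (allL N4658 (tt N4079 F34957) (tt N5707 (iv F43556)) (tt N5726 D9286) (tt N3743 (iv D7331)) (tt N4658 F34958) (tt N5567 (iv F42769)) (tt N5727 D9287) (tt N5723 (iv F43637)) (tt N5720 (iv F43622)) (tt N3787 F34959))
theorem Q4660 : ∀ i, i < 4660 → P i := stepQ 4659 Q4659 (allL N4659 (tt N4080 F34960) (tt N5708 (iv F43559)) (tt N3758 F34961) (tt N5727 (iv F43654)) (tt N3744 F34962) (tt N5728 D9288) (tt N3743 (iv D7332)) (tt N5729 D9289) (tt N5721 (iv F43627)) (tt N3788 F34963))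
theorem Q4661 : ∀ i, i < 4661 → P i := stepQ 4660 Q4660 (allL N4660 (tt N4081 F34964) (tt N5709 (iv F43563)) (tt N3759 F34965) (tt N4660 F34966) (tt N5729 (iv F43663)) (tt N3747 F34967) (tt N5725 (iv F43647)) (tt N3744 (iv D7333)) (tt N5722 (iv F43633)) (tt N3789 F34968))
theorem Q4662 : ∀ i, i < 4662 → P i := stepQ 4661 Q4661 (allL N4661 (tt N4082 F34969) (tt N5711 (iv F43574)) (tt N4661 F34970) (tt N3746 F34971) (tt N4661 F34972) (tt N5730 D9290) (tt N3745 (iv D7334)) (tt N5731 D9291) (tt N4661 F34973) (tt N3790 F34974))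
theorem Q4663 : ∀ i, i < 4663 → P i := stepQ 4662 Q4662 (allL N4662 (tt N4083 F34975) (tt N5712 (iv F43579)) (tt N3760 F34976) (tt N5730 (iv F43667)) (tt N5728 (iv F43659)) (tt N3746 (iv D7335)) (tt N5571 (iv F42785)) (tt N5732 D9292) (tt N5733 D9293) (tt N3791 F34977))
theorem Q4664 : ∀ i, i < 4664 → P i := stepQ 4663 Q4663 (allL N4663 (tt N3999 F131826) (tt N5616 F131827) (tt N3761 F34979) (tt N5731 (iv F43671)) (tt N3747 F34980) (tt N5732 (iv F43678)) (tt N4663 F34981) (tt N3746 (iv D7336)) (tt N4663 F34982) (tt N3792 F34983))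
theorem Q4665 : ∀ i, i < 4665 → P i := stepQ 4664 Q4664 (allL N4664 (tt N4084 F34984) (tt N4664 F34985) (tt N5405 (iv F41891)) (tt N4664 F34986) (tt N3751 F34987) (tt N5734 D9294) (tt N3749 F34988) (tt N4664 F34989) (tt N3748 (iv D7337)) (tt N4664 F34990))
theorem Q4666 : ∀ i, i < 4666 → P i := stepQ 4665 Q4665 (allL N4665 (tt N4085 F34991) (tt N4665 F34992) (tt N5714 (iv F43593)) (tt N4665 F34993) (tt N5735 D9295) (tt N3749 (iv D7338)) (tt N5736 D9296) (tt N3750 F34994) (tt N5574 (iv F42803)) (tt N4665 F34995))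
theorem Q4667 : ∀ i, i < 4667 → P i := stepQ 4666 Q4666 (allL N4666 (tt N4086 F34996) (tt N4666 F34997) (tt N5715 (iv F43597)) (tt N5737 D9297) (tt N3750 (iv D7339)) (tt N3753 F34998) (tt N5738 D9298) (tt N5735 (iv F43691)) (tt N5576 (iv F42814)) (tt N4666 F34999))
theorem Q4668 : ∀ i, i < 4668 → P i := stepQ 4667 Q4667 (allL N4667 (tt N4087 F35000) (tt N4667 F35001) (tt N5716 (iv F43601)) (tt N4667 F35002) (tt N5738 (iv F43704)) (tt N4667 F35003) (tt N3750 (iv D7340)) (tt N5739 D9299) (tt N5577 (iv F42818)) (tt N4667 F35004))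
theorem Q4669 : ∀ i, i < 4669 → P i := stepQ 4668 Q4668 (allL N4668 (tt N4088 F35005) (tt N4668 F35006) (tt N5717 (iv F43605)) (tt N3762 F35007) (tt N5740 D9300) (tt N3751 (iv D7341)) (tt N5741 D9301) (tt N4668 F35008) (tt N4668 F35009) (tt N4668 F35010))
theorem Q4670 : ∀ i, i < 4670 → P i := stepQ 4669 Q4669 (allL N4669 (tt N4089 F35011) (tt N4669 F35012) (tt N5718 (iv F43611)) (tt N5742 D9302) (tt N3752 (iv D7342)) (tt N5735 (iv F43690)) (tt N5743 D9303) (tt N3753 F35013) (tt N3755 F35014) (tt N4669 F35015))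
theorem Q4671 : ∀ i, i < 4671 → P i := stepQ 4670 Q4670 (allL N4670 (tt N4090 F35016) (tt N4670 F35017) (tt N5719 (iv F43616)) (tt N3764 F35018) (tt N5743 (iv F43730)) (tt N5741 (iv F43719)) (tt N3752 (iv D7343)) (tt N5744 D9304) (tt N3756 F35019) (tt N4670 F35020))
theorem Q4672 : ∀ i, i < 4672 → P i := stepQ 4671 Q4671 (allL N4671 (tt N4091 F35021) (tt N4671 F35022) (tt N5745 D9305) (tt N3753 (iv D7344)) (tt N3765 F35023) (tt N5737 (iv F43700)) (tt N5746 D9306) (tt N5742 (iv F43725)) (tt N3757 F35024) (tt N4671 F35025))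
theorem Q4673 : ∀ i, i < 4673 → P i := stepQ 4672 Q4672 (allL N4672 (tt N4092 F35026) (tt N4672 F35027) (tt N5721 (iv F43625)) (tt N5746 (iv F43745)) (tt N3754 F35028) (tt N5747 D9307) (tt N3753 (iv D7345)) (tt N5748 D9308) (tt N3758 F35029) (tt N4672 F35030))
theorem Q4674 : ∀ i, i < 4674 → P i := stepQ 4673 Q4673 (allL N4673 (tt N4093 F35031) (tt N4673 F35032) (tt N5722 (iv F43630)) (tt N3767 F35033) (tt N5748 (iv F43755)) (tt N4673 F35034) (tt N5744 (iv F43736)) (tt N3754 (iv D7346)) (tt N3759 F35035) (tt N4673 F35036))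
theorem Q4675 : ∀ i, i < 4675 → P i := stepQ 4674 Q4674 (allL N4674 (tt N4094 F35037) (tt N4674 F35038) (tt N5749 D9309) (tt N3755 (iv D7347)) (tt N3768 F35039) (tt N5586 (iv F42859)) (tt N4341 F132692) (tt N3757 F35040) (tt N5742 (iv F43726)) (tt N3793 F35041))
theorem Q4676 : ∀ i, i < 4676 → P i := stepQ 4675 Q4675 (allL N4675 (tt N4095 F35042) (tt N4675 F35043) (tt N5724 (iv F43640)) (tt N4341 F132691) (tt N3756 F35044) (tt N5750 D9311) (tt N3755 (iv D7348)) (tt N5751 D9312) (tt N5743 (iv F43731)) (tt N3794 F35045))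
theorem Q4677 : ∀ i, i < 4677 → P i := stepQ 4676 Q4676 (allL N4676 (tt N4096 F35046) (tt N4676 F35047) (tt N5725 (iv F43644)) (tt N3769 F35048) (tt N5751 (iv F43773)) (tt N4676 F35049) (tt N3759 F35050) (tt N3756 (iv D7349)) (tt N5744 (iv F43737)) (tt N3795 F35051))
theorem Q4678 : ∀ i, i < 4678 → P i := stepQ 4677 Q4677 (allL N4677 (tt N4097 F35052) (tt N5752 D9313) (tt N3757 (iv D7350)) (tt N5726 (iv F43650)) (tt N3770 F35053) (tt N5589 (iv F42874)) (tt N5753 D9314) (tt N5749 (iv F43760)) (tt N5745 (iv F43741)) (tt N3796 F35054))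
theorem Q4679 : ∀ i, i < 4679 → P i := stepQ 4678 Q4678 (allL N4678 (tt N4098 F35055) (tt N4678 F35056) (tt N5753 (iv F43780)) (tt N3758 F35057) (tt N3771 F35058) (tt N5754 D9315) (tt N3757 (iv D7351)) (tt N5755 D9316) (tt N5746 (iv F43747)) (tt N3797 F35059))
theorem Q4680 : ∀ i, i < 4680 → P i := stepQ 4679 Q4679 (allL N4679 (tt N4099 F35060) (tt N4679 F35061) (tt N5728 (iv F43658)) (tt N5754 (iv F43785)) (tt N3760 F35062) (tt N3758 (iv D7352)) (tt N5591 (iv F42884)) (tt N5756 D9317) (tt N5757 D9318) (tt N3798 F35063))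
theorem Q4681 : ∀ i, i < 4681 → P i := stepQ 4680 Q4680 (allL N4680 (tt N4100 F35064) (tt N4680 F35065) (tt N5729 (iv F43662)) (tt N5755 (iv F43790)) (tt N3759 F35066) (tt N5756 (iv F43796)) (tt N5751 (iv F43774)) (tt N3758 (iv D7353)) (tt N5748 (iv F43756)) (tt N3799 F35067))
theorem Q4682 : ∀ i, i < 4682 → P i := stepQ 4681 Q4681 (allL N4681 (tt N4101 F35068) (tt N4681 F35069) (tt N5732 (iv F43677)) (tt N4681 F35070) (tt N5756 (iv F43795)) (tt N3761 F35071) (tt N5758 D9319) (tt N3760 (iv D7354)) (tt N5759 D9320) (tt N3800 F35072))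
theorem Q4683 : ∀ i, i < 4683 → P i := stepQ 4682 Q4682 (allL N4682 (tt N4102 F35073) (tt N4682 F35074) (tt N5733 (iv F43681)) (tt N4682 F35075) (tt N5757 (iv F43800)) (tt N4682 F35076) (tt N5594 (iv F42898)) (tt N5759 (iv F43810)) (tt N3760 (iv D7355)) (tt N5760 D9321))
theorem Q4684 : ∀ i, i < 4684 → P i := stepQ 4683 Q4683 (allL N4683 (tt N4103 F35077) (tt N4683 F35078) (tt N4683 F35079) (tt N3846 (iv F134465)) (tt N3762 (iv D7356)) (tt N4683 F35080) (tt N3820 F133868) (tt N4683 F35081) (tt N4683 F35082) (tt N4683 F35083))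
theorem Q4685 : ∀ i, i < 4685 → P i := stepQ 4684 Q4684 (allL N4684 (tt N4104 F35084) (tt N4684 F35085) (tt N4684 F35086) (tt N5741 (iv F43718)) (tt N3820 F133866) (tt N3764 F35087) (tt N3762 (iv D7357)) (tt N3821 F133867) (tt N4684 F35088) (tt N4684 F35089))
theorem Q4686 : ∀ i, i < 4686 → P i := stepQ 4685 Q4685 (allL N4685 (tt N4105 F35090) (tt N4685 F35091) (tt N5761 D9325) (tt N3763 (iv D7358)) (tt N5742 (iv F43724)) (tt N4685 F35092) (tt N4339 F132685) (tt N3765 F35093) (tt N3768 F35094) (tt N4685 F35095))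
theorem Q4687 : ∀ i, i < 4687 → P i := stepQ 4686 Q4686 (allL N4686 (tt N4106 F35102) (tt N4686 F35103) (tt N4686 F35104) (tt N5744 (iv F43735)) (tt N3818 (iv F133056)) (tt N3821 (iv F133260)) (tt N3767 F35105) (tt N3764 (iv D7360)) (tt N3769 F35106) (tt N4686 F35107))
theorem Q4688 : ∀ i, i < 4688 → P i := stepQ 4687 Q4687 (allL N4687 (tt N4107 F35108) (tt N5762 D9329) (tt N3765 (iv D7361)) (tt N4687 F35109) (tt N5745 (iv F43740)) (tt N4687 F35110) (tt N5763 D9330) (tt N5761 (iv F43838)) (tt N3770 F35111) (tt N4687 F35112))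
theorem Q4689 : ∀ i, i < 4689 → P i := stepQ 4688 Q4688 (allL N4688 (tt N4108 F35113) (tt N4688 F35114) (tt N5763 (iv F43864)) (tt N3766 F35115) (tt N5746 (iv F43746)) (tt N5764 D9331) (tt N3765 (iv D7362)) (tt N5765 D9332) (tt N3771 F35116) (tt N4688 F35117))
theorem Q4690 : ∀ i, i < 4690 → P i := stepQ 4689 Q4689 (allL N4689 (tt N4109 F35118) (tt N4689 F35119) (tt N4689 F35120) (tt N5764 (iv F43870)) (tt N4689 F35121) (tt N3766 (iv D7363)) (tt N4689 F35122) (tt N3819 F133876) (tt N4689 F35123) (tt N4689 F35124))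
theorem Q4691 : ∀ i, i < 4691 → P i := stepQ 4690 Q4690 (allL N4690 (tt N4110 F35125) (tt N4690 F35126) (tt N4690 F35127) (tt N5765 (iv F43876)) (tt N3767 F35128) (tt N3819 (iv F133262)) (tt N3818 (iv F133057)) (tt N3766 (iv D7364)) (tt N3772 F35129) (tt N4690 F35130))
theorem Q4692 : ∀ i, i < 4692 → P i := stepQ 4691 Q4691 (allL N4691 (tt N4068 F131845) (tt N5696 F131846) (tt N3768 (iv D7365)) (tt N4691 F35132) (tt N5749 (iv F43759)) (tt N3773 F35133) (tt N4061 F131847) (tt N3770 F35134) (tt N5761 (iv F43839)) (tt N3802 F35135))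
theorem Q4693 : ∀ i, i < 4693 → P i := stepQ 4692 Q4692 (allL N4692 (tt N5709 F131946) (tt N3770 (iv D7369)) (tt N4692 F35152) (tt N4692 F35153) (tt N5752 (iv F43777)) (tt N3774 F35154) (tt N5766 D9341) (tt N5696 F131947) (tt N5762 (iv F43861)) (tt N3803 F35155))
theorem Q4694 : ∀ i, i < 4694 → P i := stepQ 4693 Q4693 (allL N4693 (tt N4111 F35156) (tt N5766 (iv F43922)) (tt N3771 F35157) (tt N4693 F35158) (tt N5753 (iv F43781)) (tt N4693 F35159) (tt N3770 (iv D7370)) (tt N5767 D9342) (tt N5763 (iv F43866)) (tt N3804 F35160))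
theorem Q4695 : ∀ i, i < 4695 → P i := stepQ 4694 Q4694 (allL N4694 (tt N4112 F35161) (tt N4694 F35162) (tt N5767 (iv F43928)) (tt N3772 F35163) (tt N5755 (iv F43791)) (tt N4694 F35164) (tt N4340 F132678) (tt N3771 (iv D7371)) (tt N5765 (iv F43877)) (tt N3805 F35165))
theorem Q4696 : ∀ i, i < 4696 → P i := stepQ 4695 Q4695 (allL N4695 (tt N3779 F35194) (tt N4113 F35195) (tt N4695 F35196) (tt N4695 F35197) (tt N5768 D9349) (tt N3775 (iv D7377)) (tt N5769 D9350) (tt N3776 F35198) (tt N4695 F35199) (tt N5694 (iv F43474)))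
theorem Q4697 : ∀ i, i < 4697 → P i := stepQ 4696 Q4696 (allL N4696 (tt N3780 F35200) (tt N4114 F35201) (tt N4696 F35202) (tt N5770 D9351) (tt N3776 (iv D7378)) (tt N5620 (iv F43049)) (tt N5771 D9352) (tt N5768 (iv F43969)) (tt N4696 F35203) (tt N5695 (iv F43478)))
theorem Q4698 : ∀ i, i < 4698 → P i := stepQ 4697 Q4697 (allL N4697 (tt N3781 F35204) (tt N3802 (iv F131460)) (tt N4697 F35206) (tt N4697 F35207) (tt N5771 (iv F43984)) (tt N3778 F35208) (tt N3776 (iv D7379)) (tt N3803 (iv F131597)) (tt N4697 F35209) (tt N5696 (iv F43484)))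
theorem Q4699 : ∀ i, i < 4699 → P i := stepQ 4698 Q4698 (allL N4698 (tt N3782 F35210) (tt N4057 F131829) (tt N4139 (iv F131470)) (tt N3777 (iv D7380)) (tt N4698 F35212) (tt N5622 (iv F43056)) (tt N4056 F131830) (tt N4698 F35213) (tt N3806 F35214) (tt N5697 (iv F43490)))
theorem Q4700 : ∀ i, i < 4700 → P i := stepQ 4699 Q4699 (allL N4699 (tt N5768 (iv F43966)) (tt N3785 F35226) (tt N4699 F35227) (tt N5772 D9358) (tt N3779 (iv D7383)) (tt N5628 (iv F43086)) (tt N5773 D9359) (tt N3780 F35228) (tt N4699 F35229) (tt N5705 (iv F43550)))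
theorem Q4701 : ∀ i, i < 4701 → P i := stepQ 4700 Q4700 (allL N4700 (tt N5769 (iv F43971)) (tt N3786 F35230) (tt N4700 F35231) (tt N4700 F35232) (tt N5773 (iv F44017)) (tt N4700 F35233) (tt N3779 (iv D7384)) (tt N5774 D9360) (tt N4700 F35234) (tt N5706 (iv F43555)))
theorem Q4702 : ∀ i, i < 4702 → P i := stepQ 4701 Q4701 (allL N4701 (tt N5770 (iv F43977)) (tt N3787 F35235) (tt N5775 D9361) (tt N3780 (iv D7385)) (tt N4701 F35236) (tt N5630 (iv F43095)) (tt N5776 D9362) (tt N5772 (iv F44013)) (tt N4701 F35237) (tt N5707 (iv F43558)))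
theorem Q4703 : ∀ i, i < 4703 → P i := stepQ 4702 Q4702 (allL N4702 (tt N5771 (iv F43981)) (tt N3788 F35238) (tt N4702 F35239) (tt N5776 (iv F44029)) (tt N3781 F35240) (tt N5777 D9363) (tt N3780 (iv D7386)) (tt N5778 D9364) (tt N4702 F35241) (tt N5708 (iv F43562)))
theorem Q4704 : ∀ i, i < 4704 → P i := stepQ 4703 Q4703 (allL N4703 (tt N3803 (iv F131596)) (tt N3789 F35242) (tt N4703 F35243) (tt N4703 F35244) (tt N5778 (iv F44037)) (tt N3784 F35245) (tt N5774 (iv F44023)) (tt N3781 (iv D7387)) (tt N4703 F35246) (tt N5709 (iv F43567)))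
theorem Q4705 : ∀ i, i < 4705 → P i := stepQ 4704 Q4704 (allL N4704 (tt N4139 (iv F131469)) (tt N4704 F35247) (tt N3782 (iv D7388)) (tt N4704 F35248) (tt N4704 F35249) (tt N5633 (iv F43104)) (tt N3811 (iv F131609)) (tt N4704 F35250) (tt N3807 F35251) (tt N5710 (iv F43573)))
theorem Q4706 : ∀ i, i < 4706 → P i := stepQ 4705 Q4705 (allL N4705 (tt N4056 (iv F131421)) (tt N3790 F35252) (tt N3811 (iv F131608)) (tt N3783 F35253) (tt N4705 F35254) (tt N5779 D9366) (tt N3782 (iv D7389)) (tt N3810 F131188) (tt N3808 F35255) (tt N5711 (iv F43578)))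
theorem Q4707 : ∀ i, i < 4707 → P i := stepQ 4706 Q4706 (allL N4706 (tt N5681 F131935) (tt N3791 F35256) (tt N4706 F35257) (tt N5779 (iv F44045)) (tt N5777 (iv F44034)) (tt N3783 (iv D7390)) (tt N5635 (iv F43112)) (tt N5685 F131936) (tt N5780 D9369) (tt N5712 (iv F43581)))
theorem Q4708 : ∀ i, i < 4708 → P i := stepQ 4707 Q4707 (allL N4707 (tt N4119 F35263) (tt N5772 (iv F44011)) (tt N5781 D9370) (tt N3785 (iv D7392)) (tt N4707 F35264) (tt N5642 (iv F43145)) (tt N5782 D9371) (tt N3787 F35265) (tt N4707 F35266) (tt N5723 (iv F43638)))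
theorem Q4709 : ∀ i, i < 4709 → P i := stepQ 4708 Q4708 (allL N4708 (tt N4120 F35267) (tt N5773 (iv F44015)) (tt N3794 F35268) (tt N5782 (iv F44063)) (tt N3786 F35269) (tt N5783 D9372) (tt N3785 (iv D7393)) (tt N5784 D9373) (tt N4708 F35270) (tt N5724 (iv F43642)))
theorem Q4710 : ∀ i, i < 4710 → P i := stepQ 4709 Q4709 (allL N4709 (tt N4121 F35271) (tt N5774 (iv F44019)) (tt N3795 F35272) (tt N4709 F35273) (tt N5784 (iv F44071)) (tt N4709 F35274) (tt N3789 F35275) (tt N3786 (iv D7394)) (tt N4709 F35276) (tt N5725 (iv F43648)))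
theorem Q4711 : ∀ i, i < 4711 → P i := stepQ 4710 Q4710 (allL N4710 (tt N4122 F35277) (tt N5785 D9374) (tt N3787 (iv D7395)) (tt N3796 F35278) (tt N4710 F35279) (tt N5645 (iv F43160)) (tt N5786 D9375) (tt N5781 (iv F44060)) (tt N4710 F35280) (tt N5726 (iv F43652)))
theorem Q4712 : ∀ i, i < 4712 → P i := stepQ 4711 Q4711 (allL N4711 (tt N4123 F35281) (tt N5776 (iv F44028)) (tt N5786 (iv F44078)) (tt N3788 F35282) (tt N4711 F35283) (tt N5787 D9376) (tt N3787 (iv D7396)) (tt N5788 D9377) (tt N4711 F35284) (tt N5727 (iv F43656)))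
theorem Q4713 : ∀ i, i < 4713 → P i := stepQ 4712 Q4712 (allL N4712 (tt N4124 F35285) (tt N5777 (iv F44032)) (tt N3798 F35286) (tt N5787 (iv F44083)) (tt N3791 F35287) (tt N3788 (iv D7397)) (tt N5647 (iv F43166)) (tt N5789 D9378) (tt N5790 D9379) (tt N5728 (iv F43660)))
theorem Q4714 : ∀ i, i < 4714 → P i := stepQ 4713 Q4713 (allL N4713 (tt N4125 F35288) (tt N5778 (iv F44035)) (tt N3799 F35289) (tt N5788 (iv F44085)) (tt N3789 F35290) (tt N5789 (iv F44091)) (tt N5784 (iv F44072)) (tt N3788 (iv D7398)) (tt N4713 F35291) (tt N5729 (iv F43664)))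
theorem Q4715 : ∀ i, i < 4715 → P i := stepQ 4714 Q4714 (allL N4714 (tt N4126 F35292) (tt N5779 (iv F44044)) (tt N4714 F35293) (tt N3791 F35294) (tt N5791 D9380) (tt N3790 (iv D7399)) (tt N5649 (iv F43173)) (tt N5780 (iv F131604)) (tt N5685 F131865) (tt N5730 (iv F43668)))
theorem Q4716 : ∀ i, i < 4716 → P i := stepQ 4715 Q4715 (allL N4715 (tt N3891 (iv F131364)) (tt N3810 F131189) (tt N4715 F35296) (tt N3792 F35297) (tt N4715 F35298) (tt N5780 (iv F131603)) (tt N4715 F35299) (tt N3790 (iv D7400)) (tt N3809 F131190) (tt N5731 (iv F43675)))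
theorem Q4717 : ∀ i, i < 4717 → P i := stepQ 4716 Q4716 (allL N4716 (tt N4050 F131824) (tt N5685 F131825) (tt N3800 F35302) (tt N5780 (iv F131602)) (tt N5789 (iv F44090)) (tt N3792 F35303) (tt N5792 D9383) (tt N3791 (iv D7401)) (tt N5779 (iv F131601)) (tt N5732 (iv F43679)))
theorem Q4718 : ∀ i, i < 4718 → P i := stepQ 4717 Q4717 (allL N4717 (tt N4127 F35304) (tt N5780 (iv F44054)) (tt N3801 F35305) (tt N5685 F131875) (tt N5790 (iv F44094)) (tt N3810 F35306) (tt N5652 (iv F43185)) (tt N5779 (iv F131600)) (tt N3791 (iv D7402)) (tt N5793 D9385))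
theorem Q4719 : ∀ i, i < 4719 → P i := stepQ 4718 Q4718 (allL N4718 (tt N4118 F131854) (tt N5771 F131855) (tt N3793 (iv D7403)) (tt N5781 (iv F44058)) (tt N3802 F35308) (tt N5660 (iv F43223)) (tt N4114 F131856) (tt N3796 F35309) (tt N4718 F35310) (tt N5749 (iv F43761)))
theorem Q4720 : ∀ i, i < 4720 → P i := stepQ 4719 Q4719 (allL N4719 (tt N4128 F35316) (tt N4719 F35317) (tt N5783 (iv F44067)) (tt N4269 F132604) (tt N4719 F35318) (tt N3794 (iv D7405)) (tt N5662 (iv F43234)) (tt N5794 D9390) (tt N5795 D9391) (tt N5750 (iv F43770)))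
theorem Q4721 : ∀ i, i < 4721 → P i := stepQ 4720 Q4720 (allL N4720 (tt N4129 F35319) (tt N4720 F35320) (tt N5784 (iv F44070)) (tt N4376 F132363) (tt N3795 F35321) (tt N5794 (iv F44137)) (tt N3799 F35322) (tt N3794 (iv D7406)) (tt N4720 F35323) (tt N5751 (iv F43775)))
theorem Q4722 : ∀ i, i < 4722 → P i := stepQ 4721 Q4721 (allL N4721 (tt N5778 F131953) (tt N3796 (iv D7407)) (tt N4721 F35324) (tt N5785 (iv F44074)) (tt N3803 F35325) (tt N5664 (iv F43242)) (tt N5796 D9393) (tt N5771 F131954) (tt N4721 F35326) (tt N5752 (iv F43778)))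
theorem Q4723 : ∀ i, i < 4723 → P i := stepQ 4722 Q4722 (allL N4722 (tt N4130 F35327) (tt N5796 (iv F44146)) (tt N3797 F35328) (tt N5786 (iv F44079)) (tt N3804 F35329) (tt N5797 D9394) (tt N3796 (iv D7408)) (tt N5798 D9395) (tt N4722 F35330) (tt N5753 (iv F43782)))
theorem Q4724 : ∀ i, i < 4724 → P i := stepQ 4723 Q4723 (allL N4723 (tt N4131 F35331) (tt N4723 F35332) (tt N5797 (iv F44151)) (tt N3798 F35333) (tt N4723 F35334) (tt N3797 (iv D7409)) (tt N5666 (iv F43250)) (tt N5799 D9396) (tt N5800 D9397) (tt N5754 (iv F43787)))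
theorem Q4725 : ∀ i, i < 4725 → P i := stepQ 4724 Q4724 (allL N4724 (tt N4132 F35335) (tt N4724 F35336) (tt N5798 (iv F44154)) (tt N3799 F35337) (tt N3805 F35338) (tt N5799 (iv F44161)) (tt N4376 F132366) (tt N3797 (iv D7410)) (tt N4724 F35339) (tt N5755 (iv F43792)))
theorem Q4726 : ∀ i, i < 4726 → P i := stepQ 4725 Q4725 (allL N4725 (tt N4133 F35340) (tt N4725 F35341) (tt N5789 (iv F44089)) (tt N5799 (iv F44159)) (tt N3800 F35342) (tt N3799 F35343) (tt N5801 D9398) (tt N3798 (iv D7411)) (tt N5802 D9399) (tt N5756 (iv F43797)))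
theorem Q4727 : ∀ i, i < 4727 → P i := stepQ 4726 Q4726 (allL N4726 (tt N4134 F35344) (tt N4726 F35345) (tt N5790 (iv F44093)) (tt N5800 (iv F44164)) (tt N3801 F35346) (tt N4726 F35347) (tt N5669 (iv F43262)) (tt N5802 (iv F44174)) (tt N3798 (iv D7412)) (tt N5803 D9400))
theorem Q4728 : ∀ i, i < 4728 → P i := stepQ 4727 Q4727 (allL N4727 (tt N4135 F35348) (tt N4727 F35349) (tt N5792 (iv F44108)) (tt N4727 F35350) (tt N5801 (iv F44169)) (tt N4727 F35351) (tt N3800 (iv D7413)) (tt N5670 (iv F43267)) (tt N5804 D9401) (tt N5758 (iv F43805)))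
theorem Q4729 : ∀ i, i < 4729 → P i := stepQ 4728 Q4728 (allL N4728 (tt N4136 F35352) (tt N4728 F35353) (tt N5779 F131964) (tt N4728 F35354) (tt N5802 (iv F44172)) (tt N3811 F35355) (tt N5804 (iv F44182)) (tt N3801 F35356) (tt N3800 (iv D7414)) (tt N5805 D9402))
theorem Q4730 : ∀ i, i < 4730 → P i := stepQ 4729 Q4729 (allL N4729 (tt N4137 F35357) (tt N4729 F35358) (tt N5793 (iv F44115)) (tt N4729 F35359) (tt N5803 (iv F44177)) (tt N3812 F35360) (tt N5672 (iv F43277)) (tt N5805 (iv F44187)) (tt N5760 (iv F43815)) (tt N3801 (iv D7415)))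
theorem Q4731 : ∀ i, i < 4731 → P i := stepQ 4730 Q4730 (allL N4730 (tt N5774 F131955) (tt N3804 F35396) (tt N4730 F35397) (tt N4730 F35398) (tt N5796 (iv F44148)) (tt N4730 F35399) (tt N3803 (iv D7423)) (tt N5769 F131956) (tt N4730 F35400) (tt N5766 (iv F43926)))
theorem Q4732 : ∀ i, i < 4732 → P i := stepQ 4731 Q4731 (allL N4731 (tt N4116 F131851) (tt N5769 F131852) (tt N3805 F35402) (tt N4731 F35403) (tt N5798 (iv F44155)) (tt N4731 F35404) (tt N4113 F131853) (tt N3804 (iv D7424)) (tt N4731 F35405) (tt N5767 (iv F43931)))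
theorem Q4733 : ∀ i, i < 4733 → P i := stepQ 4732 Q4732 (allL N4732 (tt N4138 F35532) (tt N5731 (iv F131605)) (tt N3812 F35533) (tt N5616 F131880) (tt N4732 F35534) (tt N5793 (iv F44116)) (tt N4732 F35535) (tt N5711 (iv F131599)) (tt N4732 F35536) (tt N3810 (iv D7449)))
theorem Q4734 : ∀ i, i < 4734 → P i := stepQ 4733 Q4733 (allL N4733 (tt N4140 F35543) (tt N4733 F35544) (tt N5711 F131960) (tt N4733 F35545) (tt N4733 F35546) (tt N5805 (iv F44186)) (tt N5710 F131961) (tt N3812 F35547) (tt N4733 F35548) (tt N3811 (iv D7451)))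
theorem Q4735 : ∀ i, i < 4735 → P i := stepQ 4734 Q4734 (allL N4734 (tt N5701 (iv F43523)) (tt N3815 F35549) (tt N4734 F35550) (tt N4734 F35551) (tt N3825 F35552) (tt N5806 D9446) (tt N5692 (iv F43460)) (tt N4734 F35553) (tt N3813 (iv D7452)) (tt N4734 F35554))
theorem Q4736 : ∀ i, i < 4736 → P i := stepQ 4735 Q4735 (allL N4735 (tt N4064 F35555) (tt N5692 (iv F43456)) (tt N3816 F35556) (tt N4735 F35557) (tt N3830 F35558) (tt N5807 D9447) (tt N3815 F35559) (tt N4059 F35560) (tt N3814 (iv D7453)) (tt N4735 F35561))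
theorem Q4737 : ∀ i, i < 4737 → P i := stepQ 4736 Q4736 (allL N4736 (tt N5401 (iv F41853)) (tt N5806 (iv F44415)) (tt N3817 F35562) (tt N4736 F35563) (tt N5808 D9448) (tt N3815 (iv D7454)) (tt N5809 D9449) (tt N4736 F35564) (tt N4736 F35565) (tt N4736 F35566))
theorem Q4738 : ∀ i, i < 4738 → P i := stepQ 4737 Q4737 (allL N4737 (tt N4343 F35567) (tt N4737 F35568) (tt N5807 (iv F44422)) (tt N3818 F35569) (tt N5810 D9450) (tt N3816 (iv D7455)) (tt N5765 (iv F133226)) (tt N4339 F35570) (tt N4340 F35571) (tt N4737 F35572))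
theorem Q4739 : ∀ i, i < 4739 → P i := stepQ 4738 Q4738 (allL N4738 (tt N5402 (iv F41860)) (tt N4738 F35573) (tt N5808 (iv F44427)) (tt N4738 F35574) (tt N3817 (iv D7456)) (tt N3837 F35575) (tt N5811 D9452) (tt N4738 F35576) (tt N4738 F35577) (tt N4738 F35578))
theorem Q4740 : ∀ i, i < 4740 → P i := stepQ 4739 Q4739 (allL N4739 (tt N5403 (iv F41867)) (tt N4739 F35579) (tt N5809 (iv F44432)) (tt N3819 F35580) (tt N5811 (iv F44450)) (tt N5765 F134019) (tt N3817 (iv D7457)) (tt N5764 (iv F134469)) (tt N4739 F35581) (tt N4739 F35582))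
theorem Q4741 : ∀ i, i < 4741 → P i := stepQ 4740 Q4740 (allL N4740 (tt N5404 (iv F41881)) (tt N4740 F35617) (tt N5812 D9459) (tt N3821 (iv D7463)) (tt N3847 F35618) (tt N5744 F132897) (tt N4740 F35619) (tt N5741 (iv F133507)) (tt N4740 F35620) (tt N4740 F35621))
theorem Q4742 : ∀ i, i < 4742 → P i := stepQ 4741 Q4741 (allL N4741 (tt N3825 F35622) (tt N5405 (iv F41890)) (tt N4741 F35623) (tt N3894 F35624) (tt N5701 (iv F43527)) (tt N5813 D9460) (tt N5699 (iv F43517)) (tt N4741 F35625) (tt N3822 (iv D7464)) (tt N4741 F35626))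
theorem Q4743 : ∀ i, i < 4743 → P i := stepQ 4742 Q4742 (allL N4742 (tt N5544 (iv F42662)) (tt N3828 F35627) (tt N4742 F35628) (tt N3898 F35629) (tt N5537 (iv F42625)) (tt N3824 F35630) (tt N3852 F35631) (tt N5536 (iv F42620)) (tt N5814 D9461) (tt N3823 (iv D7465)))
theorem Q4744 : ∀ i, i < 4744 → P i := stepQ 4743 Q4743 (allL N4743 (tt N5699 (iv F43512)) (tt N3830 F35632) (tt N4743 F35633) (tt N3900 F35634) (tt N5692 (iv F43459)) (tt N5815 D9462) (tt N3825 F35635) (tt N5691 (iv F43453)) (tt N3824 (iv D7466)) (tt N4743 F35636))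
theorem Q4745 : ∀ i, i < 4745 → P i := stepQ 4744 Q4744 (allL N4744 (tt N5813 (iv F44497)) (tt N3831 F35637) (tt N4744 F35638) (tt N3901 F35639) (tt N5816 D9463) (tt N3825 (iv D7467)) (tt N5817 D9464) (tt N4744 F35640) (tt N3854 F35641) (tt N4744 F35642))
theorem Q4746 : ∀ i, i < 4746 → P i := stepQ 4745 Q4745 (allL N4745 (tt N3945 F35643) (tt N5537 (iv F42622)) (tt N3832 F35644) (tt N5538 (iv F42632)) (tt N3828 F35645) (tt N3941 F35646) (tt N3856 F35647) (tt N3940 F35648) (tt N5818 D9465) (tt N3826 (iv D7468)))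
theorem Q4747 : ∀ i, i < 4747 → P i := stepQ 4746 Q4746 (allL N4746 (tt N3944 F35649) (tt N5536 (iv F42614)) (tt N3833 F35650) (tt N3905 F35651) (tt N3940 F35652) (tt N3829 F35653) (tt N5491 (iv F42389)) (tt N3828 F35654) (tt N5819 D9466) (tt N3827 (iv D7469)))
theorem Q4748 : ∀ i, i < 4748 → P i := stepQ 4747 Q4747 (allL N4747 (tt N5407 (iv F41903)) (tt N5814 (iv F44503)) (tt N3834 F35655) (tt N3907 F35656) (tt N5818 (iv F44523)) (tt N5820 D9467) (tt N3857 F35657) (tt N5819 (iv F44530)) (tt N3828 (iv D7470)) (tt N5560 (iv F42739)))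
theorem Q4749 : ∀ i, i < 4749 → P i := stepQ 4748 Q4748 (allL N4748 (tt N4063 F35658) (tt N5691 (iv F43448)) (tt N3835 F35659) (tt N3908 F35660) (tt N4059 F35661) (tt N5821 D9468) (tt N4748 F35662) (tt N3830 F35663) (tt N3829 (iv D7471)) (tt N4748 F35664))
theorem Q4750 : ∀ i, i < 4750 → P i := stepQ 4749 Q4749 (allL N4749 (tt N5408 (iv F41911)) (tt N5815 (iv F44507)) (tt N3836 F35665) (tt N3909 F35666) (tt N5822 D9469) (tt N3830 (iv D7472)) (tt N5823 D9470) (tt N5821 (iv F44537)) (tt N5820 (iv F44533)) (tt N4749 F35667))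
theorem Q4751 : ∀ i, i < 4751 → P i := stepQ 4750 Q4750 (allL N4750 (tt N5409 (iv F41917)) (tt N5816 (iv F44511)) (tt N3837 F35668) (tt N5824 D9471) (tt N3831 (iv D7473)) (tt N5808 (iv F44428)) (tt N5825 D9472) (tt N4750 F35669) (tt N3859 F35670) (tt N4750 F35671))
theorem Q4752 : ∀ i, i < 4752 → P i := stepQ 4751 Q4751 (allL N4751 (tt N5410 (iv F41922)) (tt N5817 (iv F44516)) (tt N3838 F35672) (tt N3911 F35673) (tt N5825 (iv F44551)) (tt N5823 (iv F44543)) (tt N3831 (iv D7474)) (tt N5826 D9473) (tt N3860 F35674) (tt N4751 F35675))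
theorem Q4753 : ∀ i, i < 4753 → P i := stepQ 4752 Q4752 (allL N4752 (tt N4200 F35676) (tt N4752 F35677) (tt N5818 (iv F44522)) (tt N4752 F35678) (tt N3834 F35679) (tt N5827 D9474) (tt N3861 F35680) (tt N4194 F35681) (tt N3832 (iv D7475)) (tt N5573 (iv F42798)))
theorem Q4754 : ∀ i, i < 4754 → P i := stepQ 4753 Q4753 (allL N4753 (tt N4199 F35682) (tt N4753 F35683) (tt N5819 (iv F44527)) (tt N3839 F35684) (tt N4194 F35685) (tt N5828 D9475) (tt N5505 (iv F42463)) (tt N3834 F35686) (tt N3833 (iv D7476)) (tt N5504 (iv F42458)))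
theorem Q4755 : ∀ i, i < 4755 → P i := stepQ 4754 Q4754 (allL N4754 (tt N5411 (iv F41927)) (tt N4754 F35687) (tt N5820 (iv F44531)) (tt N3840 F35688) (tt N5829 D9476) (tt N3834 (iv D7477)) (tt N5830 D9477) (tt N5828 (iv F44567)) (tt N3836 F35689) (tt N5578 (iv F42823)))
theorem Q4756 : ∀ i, i < 4756 → P i := stepQ 4755 Q4755 (allL N4755 (tt N4342 F35690) (tt N4755 F35691) (tt N5821 (iv F44535)) (tt N3841 F35692) (tt N5831 D9478) (tt N3835 (iv D7478)) (tt N5832 D9479) (tt N3836 F35693) (tt N5828 (iv F44568)) (tt N4755 F35694))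
theorem Q4757 : ∀ i, i < 4757 → P i := stepQ 4756 Q4756 (allL N4756 (tt N5412 (iv F41933)) (tt N4756 F35695) (tt N5822 (iv F44539)) (tt N5833 D9480) (tt N3836 (iv D7479)) (tt N5810 (iv F44438)) (tt N5834 D9481) (tt N5831 (iv F44578)) (tt N5829 (iv F44570)) (tt N4756 F35696))
theorem Q4758 : ∀ i, i < 4758 → P i := stepQ 4757 Q4757 (allL N4757 (tt N5413 (iv F41938)) (tt N4757 F35697) (tt N5823 (iv F44541)) (tt N3843 F35698) (tt N5834 (iv F44589)) (tt N3838 F35699) (tt N3836 (iv D7480)) (tt N5835 D9482) (tt N5830 (iv F44574)) (tt N4757 F35700))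
theorem Q4759 : ∀ i, i < 4759 → P i := stepQ 4758 Q4758 (allL N4758 (tt N5414 (iv F41943)) (tt N4758 F35701) (tt N5825 (iv F44550)) (tt N4758 F35702) (tt N3838 F35703) (tt N5836 D9483) (tt N3837 (iv D7481)) (tt N5837 D9484) (tt N3865 F35704) (tt N4758 F35705))
theorem Q4760 : ∀ i, i < 4760 → P i := stepQ 4759 Q4759 (allL N4759 (tt N5415 (iv F41948)) (tt N4759 F35706) (tt N5826 (iv F44554)) (tt N3844 F35707) (tt N5837 (iv F44600)) (tt N5835 (iv F44593)) (tt N4759 F35708) (tt N3838 (iv D7482)) (tt N3866 F35709) (tt N4759 F35710))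
theorem Q4761 : ∀ i, i < 4761 → P i := stepQ 4760 Q4760 (allL N4760 (tt N5416 (iv F41953)) (tt N4760 F35711) (tt N3927 F35712) (tt N5828 (iv F44566)) (tt N5838 D9485) (tt N3839 (iv D7483)) (tt N5839 D9486) (tt N3840 F35713) (tt N3841 F35714) (tt N5517 (iv F42525)))
theorem Q4762 : ∀ i, i < 4762 → P i := stepQ 4761 Q4761 (allL N4761 (tt N5417 (iv F41960)) (tt N4761 F35715) (tt N3929 F35716) (tt N5840 D9487) (tt N3840 (iv D7484)) (tt N4761 F35717) (tt N5841 D9488) (tt N5838 (iv F44607)) (tt N3842 F35718) (tt N5595 (iv F42904)))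
theorem Q4763 : ∀ i, i < 4763 → P i := stepQ 4762 Q4762 (allL N4762 (tt N5418 (iv F41966)) (tt N4762 F35719) (tt N3930 F35720) (tt N5830 (iv F44572)) (tt N5841 (iv F44617)) (tt N3868 F35721) (tt N3840 (iv D7485)) (tt N5842 D9489) (tt N3843 F35722) (tt N5596 (iv F42910)))
theorem Q4764 : ∀ i, i < 4764 → P i := stepQ 4763 Q4763 (allL N4763 (tt N5419 (iv F41972)) (tt N4763 F35723) (tt N3931 F35724) (tt N5843 D9490) (tt N3841 (iv D7486)) (tt N3845 F35725) (tt N5844 D9491) (tt N3842 F35726) (tt N5838 (iv F44608)) (tt N4763 F35727))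
theorem Q4765 : ∀ i, i < 4765 → P i := stepQ 4764 Q4764 (allL N4764 (tt N5420 (iv F41978)) (tt N4764 F35728) (tt N3932 F35729) (tt N5832 (iv F44582)) (tt N5844 (iv F44629)) (tt N4764 F35730) (tt N3841 (iv D7487)) (tt N5845 D9492) (tt N5839 (iv F44611)) (tt N4764 F35731))
theorem Q4766 : ∀ i, i < 4766 → P i := stepQ 4765 Q4765 (allL N4765 (tt N5421 (iv F41984)) (tt N4765 F35732) (tt N5846 D9493) (tt N3842 (iv D7488)) (tt N5833 (iv F44586)) (tt N3847 F35733) (tt N5847 D9494) (tt N5843 (iv F44625)) (tt N5840 (iv F44614)) (tt N4765 F35734))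
theorem Q4767 : ∀ i, i < 4767 → P i := stepQ 4766 Q4766 (allL N4766 (tt N5422 (iv F41987)) (tt N4766 F35735) (tt N3934 F35736) (tt N5847 (iv F44640)) (tt N3843 F35737) (tt N4766 F35738) (tt N3842 (iv D7489)) (tt N5848 D9495) (tt N5841 (iv F44618)) (tt N4766 F35739))
theorem Q4768 : ∀ i, i < 4768 → P i := stepQ 4767 Q4767 (allL N4767 (tt N5423 (iv F41992)) (tt N4767 F35740) (tt N3935 F35741) (tt N5835 (iv F44592)) (tt N5848 (iv F44645)) (tt N3844 F35742) (tt N5845 (iv F44634)) (tt N3843 (iv D7490)) (tt N5842 (iv F44622)) (tt N4767 F35743))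
theorem Q4769 : ∀ i, i < 4769 → P i := stepQ 4768 Q4768 (allL N4768 (tt N5424 (iv F41996)) (tt N4768 F35744) (tt N5849 D9496) (tt N3845 (iv D7491)) (tt N5741 F134340) (tt N5843 (iv F44624)) (tt N5740 (iv F135031)) (tt N3847 F35745) (tt N4768 F35746) (tt N4768 F35747))
theorem Q4770 : ∀ i, i < 4770 → P i := stepQ 4769 Q4769 (allL N4769 (tt N5425 (iv F42002)) (tt N4769 F35748) (tt N3937 F35749) (tt N5740 F135148) (tt N3846 F35750) (tt N5850 D9498) (tt N3845 (iv D7492)) (tt N4769 F35751) (tt N4769 F35752) (tt N4769 F35753))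
theorem Q4771 : ∀ i, i < 4771 → P i := stepQ 4770 Q4770 (allL N4770 (tt N5426 (iv F42009)) (tt N5851 D9499) (tt N3847 (iv D7493)) (tt N3938 F35754) (tt N5812 (iv F44493)) (tt N5846 (iv F44637)) (tt N4770 F35755) (tt N5849 (iv F44649)) (tt N4770 F35756) (tt N4770 F35757))
theorem Q4772 : ∀ i, i < 4772 → P i := stepQ 4771 Q4771 (allL N4771 (tt N3852 F35758) (tt N5427 (iv F42015)) (tt N4771 F35759) (tt N3940 F35760) (tt N5546 (iv F42677)) (tt N3849 F35761) (tt N5544 (iv F42668)) (tt N5538 (iv F42636)) (tt N5852 D9500) (tt N3848 (iv D7494)))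
theorem Q4773 : ∀ i, i < 4773 → P i := stepQ 4772 Q4772 (allL N4772 (tt N3853 F35762) (tt N5428 (iv F42023)) (tt N4772 F35763) (tt N3942 F35764) (tt N4772 F35765) (tt N5853 D9501) (tt N3850 F35766) (tt N5617 (iv F43032)) (tt N3849 (iv D7495)) (tt N3873 F35767))
theorem Q4774 : ∀ i, i < 4774 → P i := stepQ 4773 Q4773 (allL N4773 (tt N3854 F35768) (tt N5429 (iv F42031)) (tt N4773 F35769) (tt N3943 F35770) (tt N5854 D9502) (tt N3850 (iv D7496)) (tt N5855 D9503) (tt N4773 F35771) (tt N5813 (iv F44501)) (tt N3874 F35772))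
theorem Q4775 : ∀ i, i < 4775 → P i := stepQ 4774 Q4774 (allL N4774 (tt N5546 (iv F42673)) (tt N3856 F35773) (tt N4774 F35774) (tt N5487 (iv F42358)) (tt N3852 F35775) (tt N4774 F35776) (tt N5537 (iv F42627)) (tt N5486 (iv F42354)) (tt N5856 D9504) (tt N3851 (iv D7497)))
theorem Q4776 : ∀ i, i < 4776 → P i := stepQ 4775 Q4775 (allL N4775 (tt N5852 (iv F44667)) (tt N3857 F35777) (tt N4775 F35778) (tt N3947 F35779) (tt N5856 (iv F44685)) (tt N5857 D9505) (tt N5814 (iv F44506)) (tt N5548 (iv F42689)) (tt N3852 (iv D7498)) (tt N5547 (iv F42685)))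
theorem Q4777 : ∀ i, i < 4777 → P i := stepQ 4776 Q4776 (allL N4776 (tt N5853 (iv F44670)) (tt N3858 F35780) (tt N4776 F35781) (tt N3949 F35782) (tt N5858 D9506) (tt N3853 (iv D7499)) (tt N5859 D9507) (tt N5625 (iv F43072)) (tt N5857 (iv F44689)) (tt N3875 F35783))
theorem Q4778 : ∀ i, i < 4778 → P i := stepQ 4777 Q4777 (allL N4777 (tt N5854 (iv F44674)) (tt N3859 F35784) (tt N4777 F35785) (tt N5860 D9508) (tt N3854 (iv D7500)) (tt N4777 F35786) (tt N5861 D9509) (tt N4777 F35787) (tt N5816 (iv F44514)) (tt N3876 F35788))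
theorem Q4779 : ∀ i, i < 4779 → P i := stepQ 4778 Q4778 (allL N4778 (tt N5855 (iv F44679)) (tt N3860 F35789) (tt N4778 F35790) (tt N3951 F35791) (tt N5861 (iv F44706)) (tt N5859 (iv F44697)) (tt N3854 (iv D7501)) (tt N5862 D9510) (tt N5817 (iv F44519)) (tt N3877 F35792))
theorem Q4780 : ∀ i, i < 4780 → P i := stepQ 4779 Q4779 (allL N4779 (tt N5434 (iv F42054)) (tt N5487 (iv F42356)) (tt N4779 F35793) (tt N3856 F35794) (tt N3953 F35795) (tt N4779 F35796) (tt N5538 (iv F42635)) (tt N5481 (iv F42326)) (tt N5863 D9511) (tt N3855 (iv D7502)))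
theorem Q4781 : ∀ i, i < 4781 → P i := stepQ 4780 Q4780 (allL N4780 (tt N5435 (iv F42062)) (tt N5856 (iv F44683)) (tt N3861 F35797) (tt N5863 (iv F44714)) (tt N3857 F35798) (tt N5864 D9512) (tt N5818 (iv F44524)) (tt N5558 (iv F42730)) (tt N3856 (iv D7503)) (tt N5557 (iv F42726)))
theorem Q4782 : ∀ i, i < 4782 → P i := stepQ 4781 Q4781 (allL N4781 (tt N5436 (iv F42069)) (tt N5857 (iv F44686)) (tt N3862 F35799) (tt N3960 F35800) (tt N5865 D9513) (tt N3857 (iv D7504)) (tt N5866 D9514) (tt N5562 (iv F42749)) (tt N3858 F35801) (tt N5561 (iv F42745)))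
theorem Q4783 : ∀ i, i < 4783 → P i := stepQ 4782 Q4782 (allL N4782 (tt N5437 (iv F42075)) (tt N5858 (iv F44690)) (tt N3863 F35802) (tt N5867 D9515) (tt N3858 (iv D7505)) (tt N4782 F35803) (tt N5868 D9516) (tt N5637 (iv F43121)) (tt N5865 (iv F44719)) (tt N3878 F35804))
theorem Q4784 : ∀ i, i < 4784 → P i := stepQ 4783 Q4783 (allL N4783 (tt N5438 (iv F42080)) (tt N5859 (iv F44694)) (tt N3864 F35805) (tt N3963 F35806) (tt N5868 (iv F44727)) (tt N3860 F35807) (tt N3858 (iv D7506)) (tt N5869 D9517) (tt N5866 (iv F44722)) (tt N3879 F35808))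
theorem Q4785 : ∀ i, i < 4785 → P i := stepQ 4784 Q4784 (allL N4784 (tt N5439 (iv F42085)) (tt N5860 (iv F44699)) (tt N4784 F35809) (tt N3859 (iv D7507)) (tt N3964 F35810) (tt N4784 F35811) (tt N5870 D9518) (tt N4784 F35812) (tt N5824 (iv F44548)) (tt N3880 F35813))
theorem Q4786 : ∀ i, i < 4786 → P i := stepQ 4785 Q4785 (allL N4785 (tt N5440 (iv F42091)) (tt N5861 (iv F44704)) (tt N3865 F35814) (tt N5870 (iv F44734)) (tt N3860 F35815) (tt N5871 D9519) (tt N3859 (iv D7508)) (tt N5872 D9520) (tt N5825 (iv F44552)) (tt N3881 F35816))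
theorem Q4787 : ∀ i, i < 4787 → P i := stepQ 4786 Q4786 (allL N4786 (tt N5441 (iv F42095)) (tt N5862 (iv F44708)) (tt N3866 F35817) (tt N3966 F35818) (tt N5872 (iv F44741)) (tt N5869 (iv F44731)) (tt N4786 F35819) (tt N3860 (iv D7509)) (tt N5826 (iv F44557)) (tt N3882 F35820))
theorem Q4788 : ∀ i, i < 4788 → P i := stepQ 4787 Q4787 (allL N4787 (tt N5442 (iv F42100)) (tt N4787 F35821) (tt N5864 (iv F44716)) (tt N4787 F35822) (tt N5873 D9521) (tt N3861 (iv D7510)) (tt N5874 D9522) (tt N5575 (iv F42808)) (tt N4787 F35823) (tt N5574 (iv F42804)))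
theorem Q4789 : ∀ i, i < 4789 → P i := stepQ 4788 Q4788 (allL N4788 (tt N5443 (iv F42106)) (tt N4788 F35824) (tt N5865 (iv F44718)) (tt N5875 D9523) (tt N3862 (iv D7511)) (tt N5873 (iv F44745)) (tt N5876 D9524) (tt N5581 (iv F42836)) (tt N3863 F35825) (tt N5579 (iv F42828)))
theorem Q4790 : ∀ i, i < 4790 → P i := stepQ 4789 Q4789 (allL N4789 (tt N5444 (iv F42111)) (tt N4789 F35826) (tt N5866 (iv F44720)) (tt N3868 F35827) (tt N5876 (iv F44754)) (tt N5830 (iv F44573)) (tt N3862 (iv D7512)) (tt N5877 D9525) (tt N3864 F35828) (tt N5580 (iv F42833)))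
theorem Q4791 : ∀ i, i < 4791 → P i := stepQ 4790 Q4790 (allL N4790 (tt N5445 (iv F42116)) (tt N4790 F35829) (tt N5878 D9526) (tt N3863 (iv D7513)) (tt N3869 F35830) (tt N4790 F35831) (tt N5879 D9527) (tt N5653 (iv F43190)) (tt N5875 (iv F44752)) (tt N3883 F35832))
theorem Q4792 : ∀ i, i < 4792 → P i := stepQ 4791 Q4791 (allL N4791 (tt N5446 (iv F42122)) (tt N4791 F35833) (tt N5868 (iv F44726)) (tt N5879 (iv F44763)) (tt N3864 F35834) (tt N5880 D9528) (tt N3863 (iv D7514)) (tt N5881 D9529) (tt N5876 (iv F44755)) (tt N3884 F35835))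
theorem Q4793 : ∀ i, i < 4793 → P i := stepQ 4792 Q4792 (allL N4792 (tt N5447 (iv F42126)) (tt N4792 F35836) (tt N5869 (iv F44729)) (tt N3871 F35837) (tt N5881 (iv F44771)) (tt N3866 F35838) (tt N5655 (iv F43200)) (tt N3864 (iv D7515)) (tt N5877 (iv F44758)) (tt N3885 F35839))
theorem Q4794 : ∀ i, i < 4794 → P i := stepQ 4793 Q4793 (allL N4793 (tt N5448 (iv F42132)) (tt N4793 F35840) (tt N5871 (iv F44737)) (tt N4793 F35841) (tt N5880 (iv F44767)) (tt N3865 (iv D7516)) (tt N4793 F35842) (tt N5882 D9530) (tt N5883 D9531) (tt N3886 F35843))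
theorem Q4795 : ∀ i, i < 4795 → P i := stepQ 4794 Q4794 (allL N4794 (tt N5449 (iv F42136)) (tt N4794 F35844) (tt N5872 (iv F44740)) (tt N4794 F35845) (tt N3866 F35846) (tt N5882 (iv F44775)) (tt N4794 F35847) (tt N3865 (iv D7517)) (tt N5837 (iv F44602)) (tt N3887 F35848))
theorem Q4796 : ∀ i, i < 4796 → P i := stepQ 4795 Q4795 (allL N4795 (tt N5450 (iv F42141)) (tt N4795 F35849) (tt N5884 D9532) (tt N3867 (iv D7518)) (tt N5875 (iv F44751)) (tt N4795 F35850) (tt N5885 D9533) (tt N5600 (iv F42932)) (tt N3869 F35851) (tt N5597 (iv F42916)))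
theorem Q4797 : ∀ i, i < 4797 → P i := stepQ 4796 Q4796 (allL N4796 (tt N5451 (iv F42147)) (tt N4796 F35852) (tt N3989 F35853) (tt N5885 (iv F44784)) (tt N3868 F35854) (tt N5886 D9534) (tt N3867 (iv D7519)) (tt N5887 D9535) (tt N3870 F35855) (tt N5598 (iv F42922)))
theorem Q4798 : ∀ i, i < 4798 → P i := stepQ 4797 Q4797 (allL N4797 (tt N5452 (iv F42153)) (tt N4797 F35856) (tt N3990 F35857) (tt N5877 (iv F44757)) (tt N5887 (iv F44792)) (tt N5842 (iv F44621)) (tt N5602 (iv F42944)) (tt N3868 (iv D7520)) (tt N3871 F35858) (tt N5599 (iv F42928)))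
theorem Q4799 : ∀ i, i < 4799 → P i := stepQ 4798 Q4798 (allL N4798 (tt N5453 (iv F42159)) (tt N5888 D9536) (tt N3869 (iv D7521)) (tt N3994 F35859) (tt N5878 (iv F44759)) (tt N3872 F35860) (tt N5889 D9537) (tt N5673 (iv F43281)) (tt N5884 (iv F44782)) (tt N3888 F35861))
theorem Q4800 : ∀ i, i < 4800 → P i := stepQ 4799 Q4799 (allL N4799 (tt N5454 (iv F42164)) (tt N4799 F35862) (tt N5889 (iv F44798)) (tt N3870 F35863) (tt N5879 (iv F44764)) (tt N4799 F35864) (tt N3869 (iv D7522)) (tt N5890 D9538) (tt N5885 (iv F44785)) (tt N3889 F35865))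
theorem Q4801 : ∀ i, i < 4801 → P i := stepQ 4800 Q4800 (allL N4800 (tt N5455 (iv F42169)) (tt N4800 F35866) (tt N3996 F35867) (tt N5890 (iv F44803)) (tt N3871 F35868) (tt N4800 F35869) (tt N5676 (iv F43297)) (tt N3870 (iv D7523)) (tt N5887 (iv F44793)) (tt N3890 F35870))
theorem Q4802 : ∀ i, i < 4802 → P i := stepQ 4801 Q4801 (allL N4801 (tt N5731 F131761) (tt N3872 (iv D7524)) (tt N4801 F35871) (tt N3999 F35872) (tt N4801 F35873) (tt N5888 (iv F44796)) (tt N4801 F35874) (tt N4082 F131762) (tt N4801 F35875) (tt N3891 F35876))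
theorem Q4803 : ∀ i, i < 4803 → P i := stepQ 4802 Q4802 (allL N4802 (tt N3875 F35877) (tt N5456 (iv F42184)) (tt N4802 F35878) (tt N4003 F35879) (tt N5891 D9540) (tt N3873 (iv D7525)) (tt N5892 D9541) (tt N5618 (iv F43038)) (tt N5619 (iv F43045)) (tt N5853 (iv F44673)))
theorem Q4804 : ∀ i, i < 4804 → P i := stepQ 4803 Q4803 (allL N4803 (tt N3876 F35880) (tt N5457 (iv F42190)) (tt N4803 F35881) (tt N5893 D9542) (tt N3874 (iv D7526)) (tt N4803 F35882) (tt N5894 D9543) (tt N4803 F35883) (tt N4803 F35884) (tt N5854 (iv F44678)))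
theorem Q4805 : ∀ i, i < 4805 → P i := stepQ 4804 Q4804 (allL N4804 (tt N3877 F35885) (tt N5458 (iv F42195)) (tt N4804 F35886) (tt N4005 F35887) (tt N5894 (iv F44826)) (tt N5892 (iv F44818)) (tt N3874 (iv D7527)) (tt N5895 D9544) (tt N4804 F35888) (tt N5855 (iv F44682)))
theorem Q4806 : ∀ i, i < 4806 → P i := stepQ 4805 Q4805 (allL N4805 (tt N5891 (iv F44812)) (tt N3878 F35889) (tt N4805 F35890) (tt N5896 D9545) (tt N3875 (iv D7528)) (tt N4805 F35891) (tt N5897 D9546) (tt N5626 (iv F43077)) (tt N5628 (iv F43088)) (tt N5858 (iv F44693)))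
theorem Q4807 : ∀ i, i < 4807 → P i := stepQ 4806 Q4806 (allL N4806 (tt N5892 (iv F44815)) (tt N3879 F35892) (tt N4806 F35893) (tt N4010 F35894) (tt N5897 (iv F44838)) (tt N3877 F35895) (tt N3875 (iv D7529)) (tt N5898 D9547) (tt N5629 (iv F43093)) (tt N5859 (iv F44698)))
theorem Q4808 : ∀ i, i < 4808 → P i := stepQ 4807 Q4807 (allL N4807 (tt N5893 (iv F44819)) (tt N3880 F35896) (tt N5690 (iv F132256)) (tt N3876 (iv D7530)) (tt N4011 F35897) (tt N4807 F35898) (tt N5899 D9549) (tt N4807 F35899) (tt N4807 F35900) (tt N5860 (iv F44703)))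
theorem Q4809 : ∀ i, i < 4809 → P i := stepQ 4808 Q4808 (allL N4808 (tt N5894 (iv F44824)) (tt N3881 F35901) (tt N4808 F35902) (tt N5899 (iv F44850)) (tt N3877 F35903) (tt N5900 D9550) (tt N3876 (iv D7531)) (tt N5901 D9551) (tt N4808 F35904) (tt N5861 (iv F44707)))
theorem Q4810 : ∀ i, i < 4810 → P i := stepQ 4809 Q4809 (allL N4809 (tt N5895 (iv F44828)) (tt N3882 F35905) (tt N4809 F35906) (tt N4013 F35907) (tt N5901 (iv F44858)) (tt N5898 (iv F44842)) (tt N4809 F35908) (tt N3877 (iv D7532)) (tt N4809 F35909) (tt N5862 (iv F44712)))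
theorem Q4811 : ∀ i, i < 4811 → P i := stepQ 4810 Q4810 (allL N4810 (tt N5464 (iv F42220)) (tt N5896 (iv F44833)) (tt N5902 D9552) (tt N3878 (iv D7533)) (tt N4019 F35910) (tt N4810 F35911) (tt N5903 D9553) (tt N5639 (iv F43131)) (tt N5642 (iv F43147)) (tt N5867 (iv F44725)))
theorem Q4812 : ∀ i, i < 4812 → P i := stepQ 4811 Q4811 (allL N4811 (tt N5465 (iv F42225)) (tt N5897 (iv F44836)) (tt N3884 F35912) (tt N5903 (iv F44864)) (tt N3879 F35913) (tt N5904 D9554) (tt N3878 (iv D7534)) (tt N5905 D9555) (tt N5643 (iv F43151)) (tt N5868 (iv F44728)))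
theorem Q4813 : ∀ i, i < 4813 → P i := stepQ 4812 Q4812 (allL N4812 (tt N5466 (iv F42229)) (tt N5898 (iv F44839)) (tt N3885 F35914) (tt N4021 F35915) (tt N5905 (iv F44870)) (tt N3882 F35916) (tt N5641 (iv F43141)) (tt N3879 (iv D7535)) (tt N5644 (iv F43157)) (tt N5869 (iv F44732)))
theorem Q4814 : ∀ i, i < 4814 → P i := stepQ 4813 Q4813 (allL N4813 (tt N5467 (iv F42235)) (tt N5899 (iv F44849)) (tt N4813 F35917) (tt N3881 F35918) (tt N4022 F35919) (tt N5906 D9556) (tt N3880 (iv D7536)) (tt N5907 D9557) (tt N4813 F35920) (tt N5870 (iv F44736)))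
theorem Q4815 : ∀ i, i < 4815 → P i := stepQ 4814 Q4814 (allL N4814 (tt N5468 (iv F42240)) (tt N5900 (iv F44853)) (tt N3886 F35921) (tt N5906 (iv F44872)) (tt N5904 (iv F44867)) (tt N3881 (iv D7537)) (tt N4814 F35922) (tt N5908 D9558) (tt N5909 D9559) (tt N5871 (iv F44739)))
theorem Q4816 : ∀ i, i < 4816 → P i := stepQ 4815 Q4815 (allL N4815 (tt N5469 (iv F42243)) (tt N5901 (iv F44856)) (tt N3887 F35923) (tt N5907 (iv F44875)) (tt N3882 F35924) (tt N5908 (iv F44880)) (tt N4815 F35925) (tt N3881 (iv D7538)) (tt N4815 F35926) (tt N5872 (iv F44743)))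
theorem Q4817 : ∀ i, i < 4817 → P i := stepQ 4816 Q4816 (allL N4816 (tt N5470 (iv F42248)) (tt N5910 D9560) (tt N3883 (iv D7539)) (tt N5902 (iv F44861)) (tt N3888 F35927) (tt N4816 F35928) (tt N5911 D9561) (tt N5656 (iv F43205)) (tt N5660 (iv F43225)) (tt N5878 (iv F44761)))
theorem Q4818 : ∀ i, i < 4818 → P i := stepQ 4817 Q4817 (allL N4817 (tt N5471 (iv F42253)) (tt N4817 F35929) (tt N5911 (iv F44887)) (tt N3884 F35930) (tt N3889 F35931) (tt N5912 D9562) (tt N3883 (iv D7540)) (tt N5913 D9563) (tt N5661 (iv F43230)) (tt N5879 (iv F44765)))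
theorem Q4819 : ∀ i, i < 4819 → P i := stepQ 4818 Q4818 (allL N4818 (tt N5472 (iv F42258)) (tt N4818 F35932) (tt N5904 (iv F44866)) (tt N5912 (iv F44890)) (tt N3886 F35933) (tt N3884 (iv D7541)) (tt N4818 F35934) (tt N5914 D9564) (tt N5915 D9565) (tt N5880 (iv F44769)))
theorem Q4820 : ∀ i, i < 4820 → P i := stepQ 4819 Q4819 (allL N4819 (tt N5473 (iv F42262)) (tt N4819 F35935) (tt N5905 (iv F44869)) (tt N5913 (iv F44894)) (tt N3885 F35936) (tt N5914 (iv F44898)) (tt N5659 (iv F43219)) (tt N3884 (iv D7542)) (tt N5663 (iv F43239)) (tt N5881 (iv F44772)))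
theorem Q4821 : ∀ i, i < 4821 → P i := stepQ 4820 Q4820 (allL N4820 (tt N5474 (iv F42267)) (tt N4820 F35937) (tt N5908 (iv F44879)) (tt N4820 F35938) (tt N5914 (iv F44897)) (tt N3887 F35939) (tt N5916 D9566) (tt N3886 (iv D7543)) (tt N5917 D9567) (tt N5882 (iv F44776)))
theorem Q4822 : ∀ i, i < 4822 → P i := stepQ 4821 Q4821 (allL N4821 (tt N5475 (iv F42270)) (tt N4821 F35940) (tt N5909 (iv F44881)) (tt N4821 F35941) (tt N5915 (iv F44900)) (tt N4821 F35942) (tt N4821 F35943) (tt N5917 (iv F44909)) (tt N3886 (iv D7544)) (tt N5918 D9568))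
theorem Q4823 : ∀ i, i < 4823 → P i := stepQ 4822 Q4822 (allL N4822 (tt N5780 F131757) (tt N3888 (iv D7545)) (tt N4822 F35944) (tt N4050 F35945) (tt N5910 (iv F44885)) (tt N3891 F35946) (tt N5919 D9570) (tt N4126 F131760) (tt N5681 (iv F43329)) (tt N5888 (iv F44797)))
theorem Q4824 : ∀ i, i < 4824 → P i := stepQ 4823 Q4823 (allL N4823 (tt N5476 (iv F42279)) (tt N5919 (iv F44917)) (tt N3889 F35947) (tt N4051 F35948) (tt N5911 (iv F44888)) (tt N4823 F35949) (tt N3888 (iv D7546)) (tt N5920 D9571) (tt N5682 (iv F43333)) (tt N5889 (iv F44801)))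
theorem Q4825 : ∀ i, i < 4825 → P i := stepQ 4824 Q4824 (allL N4824 (tt N5477 (iv F42284)) (tt N4824 F35950) (tt N5920 (iv F44921)) (tt N3890 F35951) (tt N5913 (iv F44895)) (tt N4824 F35952) (tt N5679 (iv F43316)) (tt N3889 (iv D7547)) (tt N5683 (iv F43343)) (tt N5890 (iv F44805)))
theorem Q4826 : ∀ i, i < 4826 → P i := stepQ 4825 Q4825 (allL N4825 (tt N3898 F35958) (tt N5478 (iv F42298)) (tt N4141 F35959) (tt N5544 (iv F42665)) (tt N5491 (iv F42387)) (tt N3893 F35960) (tt N3940 F35961) (tt N5488 (iv F42370)) (tt N5921 D9572) (tt N3892 (iv D7549)))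
theorem Q4827 : ∀ i, i < 4827 → P i := stepQ 4826 Q4826 (allL N4826 (tt N3900 F35962) (tt N5479 (iv F42306)) (tt N4143 F35963) (tt N5699 (iv F43515)) (tt N4826 F35964) (tt N5922 D9573) (tt N3894 F35965) (tt N5698 (iv F43510)) (tt N3893 (iv D7550)) (tt N4826 F35966))
theorem Q4828 : ∀ i, i < 4828 → P i := stepQ 4827 Q4827 (allL N4827 (tt N3901 F35967) (tt N5480 (iv F42314)) (tt N4144 F35968) (tt N5813 (iv F44499)) (tt N5923 D9574) (tt N3894 (iv D7551)) (tt N5924 D9575) (tt N4827 F35969) (tt N3943 F35970) (tt N4827 F35971))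
theorem Q4829 : ∀ i, i < 4829 → P i := stepQ 4828 Q4828 (allL N4828 (tt N5491 (iv F42383)) (tt N3903 F35972) (tt N3916 F35973) (tt N5490 (iv F42378)) (tt N3898 F35974) (tt N4828 F35975) (tt N3944 F35976) (tt N3906 F35977) (tt N5925 D9576) (tt N3895 (iv D7552)))
theorem Q4830 : ∀ i, i < 4830 → P i := stepQ 4829 Q4829 (allL N4829 (tt N5488 (iv F42363)) (tt N3905 F35978) (tt N3913 F35979) (tt N5536 (iv F42616)) (tt N3906 F35980) (tt N3899 F35981) (tt N3955 F35982) (tt N3898 F35983) (tt N5926 D9577) (tt N3896 (iv D7553)))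
theorem Q4831 : ∀ i, i < 4831 → P i := stepQ 4830 Q4830 (allL N4830 (tt N5487 (iv F42355)) (tt N3906 F35984) (tt N3912 F35985) (tt N5546 (iv F42676)) (tt N3905 F35986) (tt N4830 F35987) (tt N3946 F35988) (tt N3903 F35989) (tt N5927 D9578) (tt N3897 (iv D7554)))
theorem Q4832 : ∀ i, i < 4832 → P i := stepQ 4831 Q4831 (allL N4831 (tt N5921 (iv F44924)) (tt N3907 F35990) (tt N4145 F35991) (tt N5814 (iv F44505)) (tt N5925 (iv F44942)) (tt N5928 D9579) (tt N3947 F35992) (tt N5926 (iv F44950)) (tt N3898 (iv D7555)) (tt N5927 (iv F44957)))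
theorem Q4833 : ∀ i, i < 4833 → P i := stepQ 4832 Q4832 (allL N4832 (tt N5698 (iv F43504)) (tt N3908 F35993) (tt N4146 F35994) (tt N5691 (iv F43450)) (tt N4832 F35995) (tt N5929 D9580) (tt N4832 F35996) (tt N3900 F35997) (tt N3899 (iv D7556)) (tt N4832 F35998))
theorem Q4834 : ∀ i, i < 4834 → P i := stepQ 4833 Q4833 (allL N4833 (tt N5922 (iv F44927)) (tt N3909 F35999) (tt N4147 F36000) (tt N5815 (iv F44509)) (tt N5930 D9581) (tt N3900 (iv D7557)) (tt N5931 D9582) (tt N5929 (iv F44963)) (tt N5928 (iv F44960)) (tt N4833 F36001))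
theorem Q4835 : ∀ i, i < 4835 → P i := stepQ 4834 Q4834 (allL N4834 (tt N5923 (iv F44930)) (tt N3910 F36002) (tt N4148 F36003) (tt N5932 D9583) (tt N3901 (iv D7558)) (tt N4834 F36004) (tt N5933 D9584) (tt N4834 F36005) (tt N3950 F36006) (tt N4834 F36007))
theorem Q4836 : ∀ i, i < 4836 → P i := stepQ 4835 Q4835 (allL N4835 (tt N5924 (iv F44936)) (tt N3911 F36008) (tt N4149 F36009) (tt N5817 (iv F44518)) (tt N5933 (iv F44980)) (tt N5931 (iv F44971)) (tt N3901 (iv D7559)) (tt N5934 D9585) (tt N3951 F36010) (tt N4835 F36011))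
theorem Q4837 : ∀ i, i < 4837 → P i := stepQ 4836 Q4836 (allL N4836 (tt N5486 (iv F42347)) (tt N5490 (iv F42376)) (tt N4836 F36012) (tt N3903 F36013) (tt N5538 (iv F42633)) (tt N4836 F36014) (tt N3953 F36015) (tt N5546 (iv F42680)) (tt N5935 D9586) (tt N3902 (iv D7560)))
theorem Q4838 : ∀ i, i < 4838 → P i := stepQ 4837 Q4837 (allL N4837 (tt N5489 (iv F42371)) (tt N5925 (iv F44940)) (tt N3914 F36016) (tt N5935 (iv F44989)) (tt N3907 F36017) (tt N5936 D9587) (tt N3956 F36018) (tt N5927 (iv F44956)) (tt N3903 (iv D7561)) (tt N5926 (iv F44951)))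
theorem Q4839 : ∀ i, i < 4839 → P i := stepQ 4838 Q4838 (allL N4838 (tt N5490 (iv F42375)) (tt N3955 F36019) (tt N3915 F36020) (tt N5491 (iv F42386)) (tt N3946 F36021) (tt N4838 F36022) (tt N3905 F36023) (tt N3957 F36024) (tt N5937 D9588) (tt N3904 (iv D7562)))
theorem Q4840 : ∀ i, i < 4840 → P i := stepQ 4839 Q4839 (allL N4839 (tt N5492 (iv F42391)) (tt N5926 (iv F44946)) (tt N3917 F36025) (tt N5819 (iv F44528)) (tt N5927 (iv F44954)) (tt N5938 D9589) (tt N5937 (iv F44996)) (tt N3907 F36026) (tt N3905 (iv D7563)) (tt N5925 (iv F44945)))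
theorem Q4841 : ∀ i, i < 4841 → P i := stepQ 4840 Q4840 (allL N4840 (tt N5493 (iv F42396)) (tt N5927 (iv F44952)) (tt N3918 F36027) (tt N5560 (iv F42737)) (tt N5926 (iv F44948)) (tt N5939 D9590) (tt N3959 F36028) (tt N5925 (iv F44944)) (tt N3906 (iv D7564)) (tt N3907 F36029))
theorem Q4842 : ∀ i, i < 4842 → P i := stepQ 4841 Q4841 (allL N4841 (tt N5494 (iv F42401)) (tt N5928 (iv F44958)) (tt N3919 F36030) (tt N5820 (iv F44532)) (tt N5940 D9591) (tt N3907 (iv D7565)) (tt N5941 D9592) (tt N5938 (iv F45000)) (tt N3909 F36031) (tt N5939 (iv F45004)))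
theorem Q4843 : ∀ i, i < 4843 → P i := stepQ 4842 Q4842 (allL N4842 (tt N5495 (iv F42404)) (tt N5929 (iv F44961)) (tt N3920 F36032) (tt N5821 (iv F44536)) (tt N5942 D9593) (tt N3908 (iv D7566)) (tt N5943 D9594) (tt N3909 F36033) (tt N5938 (iv F45001)) (tt N4842 F36034))
theorem Q4844 : ∀ i, i < 4844 → P i := stepQ 4843 Q4843 (allL N4843 (tt N5496 (iv F42410)) (tt N5930 (iv F44965)) (tt N3921 F36035) (tt N5944 D9595) (tt N3909 (iv D7567)) (tt N4843 F36036) (tt N5945 D9596) (tt N5942 (iv F45012)) (tt N5940 (iv F45006)) (tt N4843 F36037))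
theorem Q4845 : ∀ i, i < 4845 → P i := stepQ 4844 Q4844 (allL N4844 (tt N5497 (iv F42414)) (tt N5931 (iv F44969)) (tt N3922 F36038) (tt N5823 (iv F44542)) (tt N5945 (iv F45020)) (tt N3911 F36039) (tt N3909 (iv D7568)) (tt N5946 D9597) (tt N5941 (iv F45009)) (tt N4844 F36040))
theorem Q4846 : ∀ i, i < 4846 → P i := stepQ 4845 Q4845 (allL N4845 (tt N5498 (iv F42418)) (tt N5932 (iv F44973)) (tt N4845 F36041) (tt N3910 (iv D7569)) (tt N5824 (iv F44546)) (tt N4845 F36042) (tt N5947 D9598) (tt N4845 F36043) (tt N3964 F36044) (tt N4845 F36045))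
theorem Q4847 : ∀ i, i < 4847 → P i := stepQ 4846 Q4846 (allL N4846 (tt N5499 (iv F42424)) (tt N5933 (iv F44978)) (tt N3923 F36046) (tt N5947 (iv F45026)) (tt N3911 F36047) (tt N5948 D9599) (tt N3910 (iv D7570)) (tt N5949 D9600) (tt N3965 F36048) (tt N4846 F36049))
theorem Q4848 : ∀ i, i < 4848 → P i := stepQ 4847 Q4847 (allL N4847 (tt N5500 (iv F42429)) (tt N5934 (iv F44983)) (tt N3924 F36050) (tt N5826 (iv F44555)) (tt N5949 (iv F45033)) (tt N5946 (iv F45023)) (tt N4847 F36051) (tt N3911 (iv D7571)) (tt N3966 F36052) (tt N4847 F36053))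
theorem Q4849 : ∀ i, i < 4849 → P i := stepQ 4848 Q4848 (allL N4848 (tt N5501 (iv F42434)) (tt N4152 F36054) (tt N5927 (iv F44953)) (tt N4848 F36055) (tt N3917 F36056) (tt N5950 D9601) (tt N4201 F36057) (tt N3914 F36058) (tt N3912 (iv D7572)) (tt N4145 F36059))
theorem Q4850 : ∀ i, i < 4850 → P i := stepQ 4849 Q4849 (allL N4849 (tt N5502 (iv F42441)) (tt N4151 F36060) (tt N5926 (iv F44947)) (tt N4849 F36061) (tt N3918 F36062) (tt N5951 D9602) (tt N3969 F36063) (tt N4145 F36064) (tt N3913 (iv D7573)) (tt N3914 F36065))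
theorem Q4851 : ∀ i, i < 4851 → P i := stepQ 4850 Q4850 (allL N4850 (tt N5503 (iv F42448)) (tt N4160 F36066) (tt N5936 (iv F44991)) (tt N4850 F36067) (tt N5952 D9603) (tt N3914 (iv D7574)) (tt N5953 D9604) (tt N5950 (iv F45039)) (tt N4850 F36068) (tt N5951 (iv F45046)))
theorem Q4852 : ∀ i, i < 4852 → P i := stepQ 4851 Q4851 (allL N4851 (tt N5504 (iv F42452)) (tt N4161 F36069) (tt N5937 (iv F44994)) (tt N3925 F36070) (tt N4201 F36071) (tt N5954 D9605) (tt N3917 F36072) (tt N3971 F36073) (tt N3915 (iv D7575)) (tt N4199 F36074))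
theorem Q4853 : ∀ i, i < 4853 → P i := stepQ 4852 Q4852 (allL N4852 (tt N5505 (iv F42459)) (tt N4150 F36075) (tt N5925 (iv F44941)) (tt N3926 F36076) (tt N4145 F36077) (tt N5955 D9606) (tt N4199 F36078) (tt N3918 F36079) (tt N3916 (iv D7576)) (tt N3917 F36080))
theorem Q4854 : ∀ i, i < 4854 → P i := stepQ 4853 Q4853 (allL N4853 (tt N5506 (iv F42466)) (tt N4162 F36081) (tt N5938 (iv F44999)) (tt N3927 F36082) (tt N5956 D9607) (tt N3917 (iv D7577)) (tt N5957 D9608) (tt N3919 F36083) (tt N3920 F36084) (tt N5955 (iv F45063)))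
theorem Q4855 : ∀ i, i < 4855 → P i := stepQ 4854 Q4854 (allL N4854 (tt N5507 (iv F42471)) (tt N4163 F36085) (tt N5939 (iv F45002)) (tt N3928 F36086) (tt N5958 D9609) (tt N3918 (iv D7578)) (tt N5959 D9610) (tt N5955 (iv F45061)) (tt N4854 F36087) (tt N3919 F36088))
theorem Q4856 : ∀ i, i < 4856 → P i := stepQ 4855 Q4855 (allL N4855 (tt N5508 (iv F42476)) (tt N4164 F36089) (tt N5940 (iv F45005)) (tt N5960 D9611) (tt N3919 (iv D7579)) (tt N5952 (iv F45048)) (tt N5961 D9612) (tt N5956 (iv F45065)) (tt N3921 F36090) (tt N5958 (iv F45072)))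
theorem Q4857 : ∀ i, i < 4857 → P i := stepQ 4856 Q4856 (allL N4856 (tt N5509 (iv F42479)) (tt N4165 F36091) (tt N5941 (iv F45007)) (tt N3930 F36092) (tt N5961 (iv F45082)) (tt N3975 F36093) (tt N3919 (iv D7580)) (tt N5962 D9613) (tt N3922 F36094) (tt N5959 (iv F45077)))
theorem Q4858 : ∀ i, i < 4858 → P i := stepQ 4857 Q4857 (allL N4857 (tt N5510 (iv F42484)) (tt N4166 F36095) (tt N5942 (iv F45010)) (tt N5963 D9614) (tt N3920 (iv D7581)) (tt N4857 F36096) (tt N5964 D9615) (tt N3921 F36097) (tt N5956 (iv F45066)) (tt N4857 F36098))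
theorem Q4859 : ∀ i, i < 4859 → P i := stepQ 4858 Q4858 (allL N4858 (tt N5511 (iv F42489)) (tt N4167 F36099) (tt N5943 (iv F45014)) (tt N3932 F36100) (tt N5964 (iv F45094)) (tt N4858 F36101) (tt N3920 (iv D7582)) (tt N5965 D9616) (tt N5957 (iv F45069)) (tt N4858 F36102))
theorem Q4860 : ∀ i, i < 4860 → P i := stepQ 4859 Q4859 (allL N4859 (tt N5512 (iv F42494)) (tt N4168 F36103) (tt N5966 D9617) (tt N3921 (iv D7583)) (tt N3933 F36104) (tt N4859 F36105) (tt N5967 D9618) (tt N5963 (iv F45091)) (tt N5960 (iv F45080)) (tt N4859 F36106))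
theorem Q4861 : ∀ i, i < 4861 → P i := stepQ 4860 Q4860 (allL N4860 (tt N5513 (iv F42499)) (tt N4169 F36107) (tt N5945 (iv F45019)) (tt N5967 (iv F45105)) (tt N3922 F36108) (tt N5968 D9619) (tt N3921 (iv D7584)) (tt N5969 D9620) (tt N5961 (iv F45083)) (tt N4860 F36109))
theorem Q4862 : ∀ i, i < 4862 → P i := stepQ 4861 Q4861 (allL N4861 (tt N5514 (iv F42503)) (tt N4170 F36110) (tt N5946 (iv F45022)) (tt N3935 F36111) (tt N5969 (iv F45113)) (tt N3924 F36112) (tt N5965 (iv F45099)) (tt N3922 (iv D7585)) (tt N5962 (iv F45087)) (tt N4861 F36113))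
theorem Q4863 : ∀ i, i < 4863 → P i := stepQ 4862 Q4862 (allL N4862 (tt N5515 (iv F42508)) (tt N4171 F36114) (tt N5948 (iv F45029)) (tt N4862 F36115) (tt N5968 (iv F45109)) (tt N3923 (iv D7586)) (tt N4862 F36116) (tt N5970 D9621) (tt N5971 D9622) (tt N4862 F36117))
theorem Q4864 : ∀ i, i < 4864 → P i := stepQ 4863 Q4863 (allL N4863 (tt N5516 (iv F42513)) (tt N4172 F36118) (tt N5949 (iv F45032)) (tt N4863 F36119) (tt N3924 F36120) (tt N5970 (iv F45117)) (tt N4863 F36121) (tt N3923 (iv D7587)) (tt N3982 F36122) (tt N4863 F36123))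
theorem Q4865 : ∀ i, i < 4865 → P i := stepQ 4864 Q4864 (allL N4864 (tt N5517 (iv F42520)) (tt N4174 F36124) (tt N5518 (iv F42528)) (tt N5954 (iv F45055)) (tt N5972 D9623) (tt N3925 (iv D7588)) (tt N5973 D9624) (tt N3983 F36125) (tt N4864 F36126) (tt N5416 (iv F41959)))
theorem Q4866 : ∀ i, i < 4866 → P i := stepQ 4865 Q4865 (allL N4865 (tt N5518 (iv F42526)) (tt N4175 F36127) (tt N5517 (iv F42522)) (tt N5955 (iv F45060)) (tt N5974 D9625) (tt N3926 (iv D7589)) (tt N5975 D9626) (tt N3928 F36128) (tt N4865 F36129) (tt N3927 F36130))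
theorem Q4867 : ∀ i, i < 4867 → P i := stepQ 4866 Q4866 (allL N4866 (tt N5519 (iv F42532)) (tt N4176 F36131) (tt N5838 (iv F44605)) (tt N5976 D9627) (tt N3927 (iv D7590)) (tt N4866 F36132) (tt N5977 D9628) (tt N3929 F36133) (tt N3931 F36134) (tt N5974 (iv F45134)))
theorem Q4868 : ∀ i, i < 4868 → P i := stepQ 4867 Q4867 (allL N4867 (tt N5520 (iv F42537)) (tt N4177 F36135) (tt N5839 (iv F44610)) (tt N5957 (iv F45068)) (tt N5977 (iv F45143)) (tt N5973 (iv F45128)) (tt N3927 (iv D7591)) (tt N5978 D9629) (tt N3932 F36136) (tt N5975 (iv F45137)))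
theorem Q4869 : ∀ i, i < 4869 → P i := stepQ 4868 Q4868 (allL N4868 (tt N5521 (iv F42540)) (tt N4178 F36137) (tt N5595 (iv F42901)) (tt N5979 D9630) (tt N3928 (iv D7592)) (tt N4868 F36138) (tt N5980 D9631) (tt N5974 (iv F45132)) (tt N4868 F36139) (tt N3929 F36140))
theorem Q4870 : ∀ i, i < 4870 → P i := stepQ 4869 Q4869 (allL N4869 (tt N5522 (iv F42546)) (tt N4179 F36141) (tt N5596 (iv F42907)) (tt N5959 (iv F45074)) (tt N5980 (iv F45153)) (tt N3987 F36142) (tt N3928 (iv D7593)) (tt N5981 D9632) (tt N4869 F36143) (tt N3930 F36144))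
theorem Q4871 : ∀ i, i < 4871 → P i := stepQ 4870 Q4870 (allL N4870 (tt N5523 (iv F42552)) (tt N4180 F36145) (tt N5982 D9633) (tt N3929 (iv D7594)) (tt N5960 (iv F45079)) (tt N4870 F36146) (tt N5983 D9634) (tt N5976 (iv F45140)) (tt N3933 F36147) (tt N5979 (iv F45151)))
theorem Q4872 : ∀ i, i < 4872 → P i := stepQ 4871 Q4871 (allL N4871 (tt N5524 (iv F42556)) (tt N4181 F36148) (tt N5841 (iv F44616)) (tt N5983 (iv F45163)) (tt N3930 F36149) (tt N5984 D9635) (tt N3929 (iv D7595)) (tt N5985 D9636) (tt N3934 F36150) (tt N5980 (iv F45155)))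
theorem Q4873 : ∀ i, i < 4873 → P i := stepQ 4872 Q4872 (allL N4872 (tt N5525 (iv F42560)) (tt N4182 F36151) (tt N5842 (iv F44620)) (tt N5962 (iv F45085)) (tt N5985 (iv F45170)) (tt N3990 F36152) (tt N5978 (iv F45146)) (tt N3930 (iv D7596)) (tt N3935 F36153) (tt N5981 (iv F45159)))
theorem Q4874 : ∀ i, i < 4874 → P i := stepQ 4873 Q4873 (allL N4873 (tt N5526 (iv F42564)) (tt N4183 F36154) (tt N5986 D9637) (tt N3931 (iv D7597)) (tt N5963 (iv F45089)) (tt N3936 F36155) (tt N5987 D9638) (tt N3933 F36156) (tt N5976 (iv F45141)) (tt N4873 F36157))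
theorem Q4875 : ∀ i, i < 4875 → P i := stepQ 4874 Q4874 (allL N4874 (tt N5527 (iv F42569)) (tt N4184 F36158) (tt N5844 (iv F44628)) (tt N5987 (iv F45176)) (tt N3932 F36159) (tt N5988 D9639) (tt N3931 (iv D7598)) (tt N5989 D9640) (tt N5977 (iv F45144)) (tt N4874 F36160))
theorem Q4876 : ∀ i, i < 4876 → P i := stepQ 4875 Q4875 (allL N4875 (tt N5528 (iv F42573)) (tt N4185 F36161) (tt N5845 (iv F44632)) (tt N5965 (iv F45097)) (tt N5989 (iv F45183)) (tt N4875 F36162) (tt N3935 F36163) (tt N3932 (iv D7599)) (tt N5978 (iv F45147)) (tt N4875 F36164))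
theorem Q4877 : ∀ i, i < 4877 → P i := stepQ 4876 Q4876 (allL N4876 (tt N5529 (iv F42578)) (tt N5990 D9641) (tt N3933 (iv D7600)) (tt N5846 (iv F44636)) (tt N5966 (iv F45101)) (tt N3938 F36165) (tt N5991 D9642) (tt N5986 (iv F45173)) (tt N5982 (iv F45161)) (tt N4876 F36166))
theorem Q4878 : ∀ i, i < 4878 → P i := stepQ 4877 Q4877 (allL N4877 (tt N5530 (iv F42581)) (tt N4187 F36167) (tt N5991 (iv F45189)) (tt N3934 F36168) (tt N5967 (iv F45106)) (tt N4877 F36169) (tt N3933 (iv D7601)) (tt N5992 D9643) (tt N5983 (iv F45164)) (tt N4877 F36170))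
theorem Q4879 : ∀ i, i < 4879 → P i := stepQ 4878 Q4878 (allL N4878 (tt N5531 (iv F42586)) (tt N4188 F36171) (tt N5848 (iv F44644)) (tt N5992 (iv F45193)) (tt N3935 F36172) (tt N4878 F36173) (tt N5989 (iv F45184)) (tt N3934 (iv D7602)) (tt N5985 (iv F45171)) (tt N4878 F36174))
theorem Q4880 : ∀ i, i < 4880 → P i := stepQ 4879 Q4879 (allL N4879 (tt N5532 (iv F42591)) (tt N5993 D9644) (tt N3936 (iv D7603)) (tt N5849 (iv F44648)) (tt N4879 F36175) (tt N5986 (iv F45172)) (tt N5994 D9645) (tt N3938 F36176) (tt N4879 F36177) (tt N4879 F36178))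
theorem Q4881 : ∀ i, i < 4881 → P i := stepQ 4880 Q4880 (allL N4880 (tt N5533 (iv F42596)) (tt N4190 F36179) (tt N5994 (iv F45201)) (tt N3937 F36180) (tt N4880 F36181) (tt N5995 D9646) (tt N3936 (iv D7604)) (tt N4880 F36182) (tt N4880 F36183) (tt N4880 F36184))
theorem Q4882 : ∀ i, i < 4882 → P i := stepQ 4881 Q4881 (allL N4881 (tt N5534 (iv F42603)) (tt N4191 F36185) (tt N5850 (iv F44658)) (tt N5995 (iv F45207)) (tt N4881 F36186) (tt N3937 (iv D7605)) (tt N5988 (iv F45180)) (tt N4881 F36187) (tt N5996 D9647) (tt N4881 F36188))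
theorem Q4883 : ∀ i, i < 4883 → P i := stepQ 4882 Q4882 (allL N4882 (tt N5997 D9648) (tt N3938 (iv D7606)) (tt N4192 F36189) (tt N5851 (iv F44663)) (tt N4882 F36190) (tt N5990 (iv F45187)) (tt N4882 F36191) (tt N5993 (iv F45198)) (tt N4882 F36192) (tt N4882 F36193))
theorem Q4884 : ∀ i, i < 4884 → P i := stepQ 4883 Q4883 (allL N4883 (tt N3946 F36194) (tt N5538 (iv F42630)) (tt N4193 F36195) (tt N5537 (iv F42624)) (tt N5490 (iv F42379)) (tt N4000 F36196) (tt N5487 (iv F42361)) (tt N5427 (iv F42021)) (tt N5998 D9649) (tt N3939 (iv D7607)))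
theorem Q4885 : ∀ i, i < 4885 → P i := stepQ 4884 Q4884 (allL N4884 (tt N3947 F36197) (tt N5539 (iv F42638)) (tt N4194 F36198) (tt N5852 (iv F44669)) (tt N5819 (iv F44529)) (tt N5999 D9650) (tt N5921 (iv F44926)) (tt N5818 (iv F44525)) (tt N3940 (iv D7608)) (tt N5998 (iv F45221)))
theorem Q4886 : ∀ i, i < 4886 → P i := stepQ 4885 Q4885 (allL N4885 (tt N3948 F36199) (tt N5540 (iv F42641)) (tt N4195 F36200) (tt N5617 (iv F43029)) (tt N4060 F36201) (tt N6000 D9651) (tt N4885 F36202) (tt N3942 F36203) (tt N3941 (iv D7609)) (tt N4002 F36204))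
theorem Q4887 : ∀ i, i < 4887 → P i := stepQ 4886 Q4886 (allL N4886 (tt N3949 F36205) (tt N5541 (iv F42649)) (tt N4196 F36206) (tt N5853 (iv F44672)) (tt N6001 D9652) (tt N3942 (iv D7610)) (tt N6002 D9653) (tt N6000 (iv F45227)) (tt N5999 (iv F45224)) (tt N4003 F36207))
theorem Q4888 : ∀ i, i < 4888 → P i := stepQ 4887 Q4887 (allL N4887 (tt N3950 F36208) (tt N5542 (iv F42653)) (tt N4197 F36209) (tt N6003 D9654) (tt N3943 (iv D7611)) (tt N4062 F36210) (tt N6004 D9655) (tt N4887 F36211) (tt N5923 (iv F44934)) (tt N4004 F36212))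
theorem Q4889 : ∀ i, i < 4889 → P i := stepQ 4888 Q4888 (allL N4888 (tt N3951 F36213) (tt N5543 (iv F42659)) (tt N4198 F36214) (tt N5855 (iv F44681)) (tt N6004 (iv F45243)) (tt N6002 (iv F45235)) (tt N3943 (iv D7612)) (tt N6005 D9656) (tt N5924 (iv F44938)) (tt N4005 F36215))
theorem Q4890 : ∀ i, i < 4890 → P i := stepQ 4889 Q4889 (allL N4889 (tt N5819 (iv F44526)) (tt N3956 F36216) (tt N4199 F36217) (tt N5492 (iv F42394)) (tt N3947 F36218) (tt N6006 D9657) (tt N5925 (iv F44943)) (tt N5407 (iv F41909)) (tt N3944 (iv D7613)) (tt N5937 (iv F44998)))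
theorem Q4891 : ∀ i, i < 4891 → P i := stepQ 4890 Q4890 (allL N4890 (tt N5818 (iv F44521)) (tt N3958 F36219) (tt N4200 F36220) (tt N5548 (iv F42688)) (tt N5407 (iv F41907)) (tt N6007 D9658) (tt N5435 (iv F42066)) (tt N3947 F36221) (tt N3945 (iv D7614)) (tt N5430 (iv F42041)))
theorem Q4892 : ∀ i, i < 4892 → P i := stepQ 4891 Q4891 (allL N4891 (tt N5998 (iv F45219)) (tt N3959 F36222) (tt N4201 F36223) (tt N5547 (iv F42683)) (tt N5937 (iv F44995)) (tt N6008 D9659) (tt N5927 (iv F44955)) (tt N5430 (iv F42040)) (tt N3946 (iv D7615)) (tt N3947 F36224))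
theorem Q4893 : ∀ i, i < 4893 → P i := stepQ 4892 Q4892 (allL N4892 (tt N5999 (iv F45222)) (tt N3960 F36225) (tt N4202 F36226) (tt N5857 (iv F44688)) (tt N6009 D9660) (tt N3947 (iv D7616)) (tt N6010 D9661) (tt N6007 (iv F45254)) (tt N3949 F36227) (tt N6008 (iv F45259)))
theorem Q4894 : ∀ i, i < 4894 → P i := stepQ 4893 Q4893 (allL N4893 (tt N6000 (iv F45225)) (tt N3961 F36228) (tt N4203 F36229) (tt N5625 (iv F43071)) (tt N6011 D9662) (tt N3948 (iv D7617)) (tt N6012 D9663) (tt N3949 F36230) (tt N6007 (iv F45255)) (tt N4008 F36231))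
theorem Q4895 : ∀ i, i < 4895 → P i := stepQ 4894 Q4894 (allL N4894 (tt N6001 (iv F45229)) (tt N3962 F36232) (tt N4204 F36233) (tt N6013 D9664) (tt N3949 (iv D7618)) (tt N4067 F36234) (tt N6014 D9665) (tt N6011 (iv F45269)) (tt N6009 (iv F45262)) (tt N4009 F36235))
theorem Q4896 : ∀ i, i < 4896 → P i := stepQ 4895 Q4895 (allL N4895 (tt N6002 (iv F45233)) (tt N3963 F36236) (tt N4205 F36237) (tt N5859 (iv F44696)) (tt N6014 (iv F45280)) (tt N3951 F36238) (tt N3949 (iv D7619)) (tt N6015 D9666) (tt N6010 (iv F45265)) (tt N4010 F36239))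
theorem Q4897 : ∀ i, i < 4897 → P i := stepQ 4896 Q4896 (allL N4896 (tt N6003 (iv F45237)) (tt N3964 F36240) (tt N5688 (iv F132255)) (tt N3950 (iv D7620)) (tt N5860 (iv F44700)) (tt N4069 F36241) (tt N6016 D9668) (tt N4896 F36242) (tt N5932 (iv F44976)) (tt N4011 F36243))
theorem Q4898 : ∀ i, i < 4898 → P i := stepQ 4897 Q4897 (allL N4897 (tt N6004 (iv F45241)) (tt N3965 F36244) (tt N4206 F36245) (tt N6016 (iv F45292)) (tt N3951 F36246) (tt N6017 D9669) (tt N3950 (iv D7621)) (tt N6018 D9670) (tt N5933 (iv F44981)) (tt N4012 F36247))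
theorem Q4899 : ∀ i, i < 4899 → P i := stepQ 4898 Q4898 (allL N4898 (tt N6005 (iv F45245)) (tt N3966 F36248) (tt N4207 F36249) (tt N5862 (iv F44710)) (tt N6018 (iv F45300)) (tt N6015 (iv F45284)) (tt N4898 F36250) (tt N3951 (iv D7622)) (tt N5934 (iv F44986)) (tt N4013 F36251))
theorem Q4900 : ∀ i, i < 4900 → P i := stepQ 4899 Q4899 (allL N4899 (tt N5481 (iv F42319)) (tt N5491 (iv F42384)) (tt N4899 F36252) (tt N3955 F36253) (tt N5478 (iv F42301)) (tt N4899 F36254) (tt N5536 (iv F42619)) (tt N5434 (iv F42061)) (tt N6019 D9671) (tt N3952 (iv D7623)))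
theorem Q4901 : ∀ i, i < 4901 → P i := stepQ 4900 Q4900 (allL N4900 (tt N5556 (iv F42719)) (tt N5492 (iv F42392)) (tt N4900 F36255) (tt N3956 F36256) (tt N5863 (iv F44715)) (tt N6020 D9672) (tt N5935 (iv F44990)) (tt N5482 (iv F42331)) (tt N3953 (iv D7624)) (tt N6019 (iv F45305)))
theorem Q4902 : ∀ i, i < 4902 → P i := stepQ 4901 Q4901 (allL N4901 (tt N5557 (iv F42722)) (tt N5407 (iv F41904)) (tt N3968 F36257) (tt N5482 (iv F42329)) (tt N3958 F36258) (tt N6021 D9673) (tt N5430 (iv F42039)) (tt N3956 F36259) (tt N3954 (iv D7625)) (tt N5435 (iv F42068)))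
theorem Q4903 : ∀ i, i < 4903 → P i := stepQ 4902 Q4902 (allL N4902 (tt N5558 (iv F42727)) (tt N5937 (iv F44993)) (tt N3969 F36260) (tt N6019 (iv F45304)) (tt N3959 F36261) (tt N6022 D9674) (tt N5926 (iv F44949)) (tt N5435 (iv F42067)) (tt N3955 (iv D7626)) (tt N3956 F36262))
theorem Q4904 : ∀ i, i < 4904 → P i := stepQ 4903 Q4903 (allL N4903 (tt N5559 (iv F42732)) (tt N6006 (iv F45249)) (tt N3970 F36263) (tt N6020 (iv F45307)) (tt N6023 D9675) (tt N3956 (iv D7627)) (tt N6024 D9676) (tt N6021 (iv F45310)) (tt N4072 F36264) (tt N6022 (iv F45314)))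
theorem Q4905 : ∀ i, i < 4905 → P i := stepQ 4904 Q4904 (allL N4904 (tt N5560 (iv F42735)) (tt N5435 (iv F42063)) (tt N3971 F36265) (tt N5493 (iv F42398)) (tt N5430 (iv F42038)) (tt N6025 D9677) (tt N3958 F36266) (tt N5937 (iv F44997)) (tt N3957 (iv D7628)) (tt N5407 (iv F41910)))
theorem Q4906 : ∀ i, i < 4906 → P i := stepQ 4905 Q4905 (allL N4905 (tt N5561 (iv F42740)) (tt N6007 (iv F45252)) (tt N3972 F36267) (tt N5562 (iv F42748)) (tt N6026 D9678) (tt N3958 (iv D7629)) (tt N6027 D9679) (tt N3960 F36268) (tt N3961 F36269) (tt N5436 (iv F42074)))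
theorem Q4907 : ∀ i, i < 4907 → P i := stepQ 4906 Q4906 (allL N4906 (tt N5562 (iv F42746)) (tt N6008 (iv F45256)) (tt N3973 F36270) (tt N5561 (iv F42742)) (tt N6028 D9680) (tt N3959 (iv D7630)) (tt N6029 D9681) (tt N5436 (iv F42072)) (tt N4014 F36271) (tt N3960 F36272))
theorem Q4908 : ∀ i, i < 4908 → P i := stepQ 4907 Q4907 (allL N4907 (tt N5563 (iv F42752)) (tt N6009 (iv F45260)) (tt N3974 F36273) (tt N6030 D9682) (tt N3960 (iv D7631)) (tt N6023 (iv F45316)) (tt N6031 D9683) (tt N6026 (iv F45323)) (tt N3962 F36274) (tt N6028 (iv F45329)))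
theorem Q4909 : ∀ i, i < 4909 → P i := stepQ 4908 Q4908 (allL N4908 (tt N5564 (iv F42755)) (tt N6010 (iv F45263)) (tt N3975 F36275) (tt N5866 (iv F44721)) (tt N6031 (iv F45335)) (tt N5941 (iv F45008)) (tt N3960 (iv D7632)) (tt N6032 D9684) (tt N3963 F36276) (tt N6029 (iv F45332)))
theorem Q4910 : ∀ i, i < 4910 → P i := stepQ 4909 Q4909 (allL N4909 (tt N5565 (iv F42758)) (tt N6011 (iv F45266)) (tt N3976 F36277) (tt N6033 D9685) (tt N3961 (iv D7633)) (tt N4077 F36278) (tt N6034 D9686) (tt N3962 F36279) (tt N6026 (iv F45324)) (tt N4017 F36280))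
theorem Q4911 : ∀ i, i < 4911 → P i := stepQ 4910 Q4910 (allL N4910 (tt N5566 (iv F42763)) (tt N6012 (iv F45271)) (tt N3977 F36281) (tt N5638 (iv F43125)) (tt N6034 (iv F45343)) (tt N4910 F36282) (tt N3961 (iv D7634)) (tt N6035 D9687) (tt N6027 (iv F45326)) (tt N4018 F36283))
theorem Q4912 : ∀ i, i < 4912 → P i := stepQ 4911 Q4911 (allL N4911 (tt N5567 (iv F42768)) (tt N6013 (iv F45275)) (tt N6036 D9688) (tt N3962 (iv D7635)) (tt N5867 (iv F44723)) (tt N4079 F36284) (tt N6037 D9689) (tt N6033 (iv F45340)) (tt N6030 (iv F45333)) (tt N4019 F36285))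
theorem Q4913 : ∀ i, i < 4913 → P i := stepQ 4912 Q4912 (allL N4912 (tt N5568 (iv F42771)) (tt N6014 (iv F45278)) (tt N3979 F36286) (tt N6037 (iv F45352)) (tt N3963 F36287) (tt N6038 D9690) (tt N3962 (iv D7636)) (tt N6039 D9691) (tt N6031 (iv F45336)) (tt N4020 F36288))
theorem Q4914 : ∀ i, i < 4914 → P i := stepQ 4913 Q4913 (allL N4913 (tt N5569 (iv F42775)) (tt N6015 (iv F45282)) (tt N3980 F36289) (tt N5869 (iv F44730)) (tt N6039 (iv F45359)) (tt N3966 F36290) (tt N6035 (iv F45347)) (tt N3963 (iv D7637)) (tt N6032 (iv F45338)) (tt N4021 F36291))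
theorem Q4915 : ∀ i, i < 4915 → P i := stepQ 4914 Q4914 (allL N4914 (tt N5570 (iv F42779)) (tt N6016 (iv F45291)) (tt N4914 F36292) (tt N3965 F36293) (tt N5870 (iv F44735)) (tt N6040 D9692) (tt N3964 (iv D7638)) (tt N6041 D9693) (tt N5947 (iv F45027)) (tt N4022 F36294))
theorem Q4916 : ∀ i, i < 4916 → P i := stepQ 4915 Q4915 (allL N4915 (tt N5571 (iv F42783)) (tt N6017 (iv F45294)) (tt N3981 F36295) (tt N6040 (iv F45362)) (tt N6038 (iv F45355)) (tt N3965 (iv D7639)) (tt N4083 F36296) (tt N6042 D9694) (tt N6043 D9695) (tt N4023 F36297))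
theorem Q4917 : ∀ i, i < 4917 → P i := stepQ 4916 Q4916 (allL N4916 (tt N5572 (iv F42787)) (tt N6018 (iv F45298)) (tt N3982 F36298) (tt N6041 (iv F45366)) (tt N3966 F36299) (tt N6042 (iv F45370)) (tt N4916 F36300) (tt N3965 (iv D7640)) (tt N5949 (iv F45035)) (tt N4024 F36301))
theorem Q4918 : ∀ i, i < 4918 → P i := stepQ 4917 Q4917 (allL N4917 (tt N5573 (iv F42792)) (tt N4211 F36302) (tt N5430 (iv F42036)) (tt N4917 F36303) (tt N3971 F36304) (tt N6044 D9696) (tt N3968 F36305) (tt N4201 F36306) (tt N3967 (iv D7641)) (tt N4200 F36307))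
theorem Q4919 : ∀ i, i < 4919 → P i := stepQ 4918 Q4918 (allL N4918 (tt N5574 (iv F42799)) (tt N4224 F36308) (tt N6021 (iv F45309)) (tt N4918 F36309) (tt N6045 D9697) (tt N3968 (iv D7642)) (tt N6046 D9698) (tt N3970 F36310) (tt N4085 F36311) (tt N5442 (iv F42105)))
theorem Q4920 : ∀ i, i < 4920 → P i := stepQ 4919 Q4919 (allL N4919 (tt N5575 (iv F42805)) (tt N4225 F36312) (tt N6022 (iv F45312)) (tt N4919 F36313) (tt N6047 D9699) (tt N3969 (iv D7643)) (tt N6048 D9700) (tt N5442 (iv F42103)) (tt N4919 F36314) (tt N3970 F36315))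
theorem Q4921 : ∀ i, i < 4921 → P i := stepQ 4920 Q4920 (allL N4920 (tt N5576 (iv F42811)) (tt N4226 F36316) (tt N6023 (iv F45315)) (tt N6049 D9701) (tt N3970 (iv D7644)) (tt N3974 F36317) (tt N6050 D9702) (tt N6045 (iv F45381)) (tt N4086 F36318) (tt N6047 (iv F45389)))
theorem Q4922 : ∀ i, i < 4922 → P i := stepQ 4921 Q4921 (allL N4921 (tt N5577 (iv F42815)) (tt N4227 F36319) (tt N6024 (iv F45318)) (tt N4921 F36320) (tt N6050 (iv F45399)) (tt N5953 (iv F45052)) (tt N3970 (iv D7645)) (tt N6051 D9703) (tt N4087 F36321) (tt N6048 (iv F45393)))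
theorem Q4923 : ∀ i, i < 4923 → P i := stepQ 4922 Q4922 (allL N4922 (tt N5578 (iv F42819)) (tt N4228 F36322) (tt N6025 (iv F45320)) (tt N3983 F36323) (tt N6052 D9704) (tt N3971 (iv D7646)) (tt N6053 D9705) (tt N5954 (iv F45056)) (tt N4922 F36324) (tt N5411 (iv F41932)))
theorem Q4924 : ∀ i, i < 4924 → P i := stepQ 4923 Q4923 (allL N4923 (tt N5579 (iv F42824)) (tt N4230 F36325) (tt N6026 (iv F45322)) (tt N6054 D9706) (tt N3972 (iv D7647)) (tt N6045 (iv F45380)) (tt N6055 D9707) (tt N3974 F36326) (tt N3976 F36327) (tt N5443 (iv F42110)))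
theorem Q4925 : ∀ i, i < 4925 → P i := stepQ 4924 Q4924 (allL N4924 (tt N5580 (iv F42829)) (tt N4231 F36328) (tt N6027 (iv F45325)) (tt N3985 F36329) (tt N6055 (iv F45415)) (tt N6053 (iv F45408)) (tt N3972 (iv D7648)) (tt N6056 D9708) (tt N3977 F36330) (tt N5444 (iv F42115)))
theorem Q4926 : ∀ i, i < 4926 → P i := stepQ 4925 Q4925 (allL N4925 (tt N5581 (iv F42834)) (tt N4232 F36331) (tt N6028 (iv F45327)) (tt N6057 D9709) (tt N3973 (iv D7649)) (tt N6047 (iv F45387)) (tt N6058 D9710) (tt N5443 (iv F42108)) (tt N4025 F36332) (tt N3974 F36333))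
theorem Q4927 : ∀ i, i < 4927 → P i := stepQ 4926 Q4926 (allL N4926 (tt N5582 (iv F42839)) (tt N4233 F36334) (tt N6029 (iv F45330)) (tt N3987 F36335) (tt N6058 (iv F45426)) (tt N5959 (iv F45075)) (tt N3973 (iv D7650)) (tt N6059 D9711) (tt N4026 F36336) (tt N3975 F36337))
theorem Q4928 : ∀ i, i < 4928 → P i := stepQ 4927 Q4927 (allL N4927 (tt N5583 (iv F42844)) (tt N4234 F36338) (tt N6060 D9712) (tt N3974 (iv D7651)) (tt N3988 F36339) (tt N6049 (iv F45396)) (tt N6061 D9713) (tt N6054 (iv F45412)) (tt N3978 F36340) (tt N6057 (iv F45424)))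
theorem Q4929 : ∀ i, i < 4929 → P i := stepQ 4928 Q4928 (allL N4928 (tt N5584 (iv F42848)) (tt N4235 F36341) (tt N6031 (iv F45334)) (tt N6061 (iv F45436)) (tt N3975 F36342) (tt N6062 D9714) (tt N3974 (iv D7652)) (tt N6063 D9715) (tt N3979 F36343) (tt N6058 (iv F45428)))
theorem Q4930 : ∀ i, i < 4930 → P i := stepQ 4929 Q4929 (allL N4929 (tt N5585 (iv F42852)) (tt N4236 F36344) (tt N6032 (iv F45337)) (tt N3990 F36345) (tt N6063 (iv F45441)) (tt N5962 (iv F45086)) (tt N6056 (iv F45419)) (tt N3975 (iv D7653)) (tt N3980 F36346) (tt N6059 (iv F45432)))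
theorem Q4931 : ∀ i, i < 4931 → P i := stepQ 4930 Q4930 (allL N4930 (tt N5586 (iv F42856)) (tt N4237 F36347) (tt N6064 D9716) (tt N3976 (iv D7654)) (tt N3991 F36348) (tt N4094 F36349) (tt N6065 D9717) (tt N3978 F36350) (tt N6054 (iv F45413)) (tt N4030 F36351))
theorem Q4932 : ∀ i, i < 4932 → P i := stepQ 4931 Q4931 (allL N4931 (tt N5587 (iv F42862)) (tt N4238 F36352) (tt N6034 (iv F45342)) (tt N6065 (iv F45448)) (tt N3977 F36353) (tt N6066 D9718) (tt N3976 (iv D7655)) (tt N6067 D9719) (tt N6055 (iv F45416)) (tt N4031 F36354))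
theorem Q4933 : ∀ i, i < 4933 → P i := stepQ 4932 Q4932 (allL N4932 (tt N5588 (iv F42866)) (tt N4239 F36355) (tt N6035 (iv F45345)) (tt N3993 F36356) (tt N6067 (iv F45456)) (tt N4932 F36357) (tt N3980 F36358) (tt N3977 (iv D7656)) (tt N6056 (iv F45420)) (tt N4032 F36359))
theorem Q4934 : ∀ i, i < 4934 → P i := stepQ 4933 Q4933 (allL N4933 (tt N5589 (iv F42872)) (tt N6068 D9720) (tt N3978 (iv D7657)) (tt N6036 (iv F45349)) (tt N3994 F36360) (tt N4097 F36361) (tt N6069 D9721) (tt N6064 (iv F45445)) (tt N6060 (iv F45434)) (tt N4033 F36362))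
theorem Q4935 : ∀ i, i < 4935 → P i := stepQ 4934 Q4934 (allL N4934 (tt N5590 (iv F42876)) (tt N4241 F36363) (tt N6069 (iv F45463)) (tt N3979 F36364) (tt N3995 F36365) (tt N6070 D9722) (tt N3978 (iv D7658)) (tt N6071 D9723) (tt N6061 (iv F45438)) (tt N4034 F36366))
theorem Q4936 : ∀ i, i < 4936 → P i := stepQ 4935 Q4935 (allL N4935 (tt N5591 (iv F42881)) (tt N4242 F36367) (tt N6038 (iv F45354)) (tt N6070 (iv F45467)) (tt N3981 F36368) (tt N3979 (iv D7659)) (tt N4099 F36369) (tt N6072 D9724) (tt N6073 D9725) (tt N4035 F36370))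
theorem Q4937 : ∀ i, i < 4937 → P i := stepQ 4936 Q4936 (allL N4936 (tt N5592 (iv F42886)) (tt N4243 F36371) (tt N6039 (iv F45358)) (tt N6071 (iv F45472)) (tt N3980 F36372) (tt N6072 (iv F45477)) (tt N6067 (iv F45457)) (tt N3979 (iv D7660)) (tt N6063 (iv F45442)) (tt N4036 F36373))
theorem Q4938 : ∀ i, i < 4938 → P i := stepQ 4937 Q4937 (allL N4937 (tt N5593 (iv F42890)) (tt N4244 F36374) (tt N6042 (iv F45369)) (tt N4937 F36375) (tt N6072 (iv F45476)) (tt N3982 F36376) (tt N6074 D9726) (tt N3981 (iv D7661)) (tt N6075 D9727) (tt N4037 F36377))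
theorem Q4939 : ∀ i, i < 4939 → P i := stepQ 4938 Q4938 (allL N4938 (tt N5594 (iv F42895)) (tt N4245 F36378) (tt N6043 (iv F45372)) (tt N4938 F36379) (tt N6073 (iv F45480)) (tt N5971 (iv F45121)) (tt N4102 F36380) (tt N6075 (iv F45489)) (tt N3981 (iv D7662)) (tt N6076 D9728))
theorem Q4940 : ∀ i, i < 4940 → P i := stepQ 4939 Q4939 (allL N4939 (tt N5595 (iv F42899)) (tt N4247 F36381) (tt N5521 (iv F42542)) (tt N6077 D9729) (tt N3983 (iv D7663)) (tt N4939 F36382) (tt N6078 D9730) (tt N5972 (iv F45125)) (tt N4939 F36383) (tt N5417 (iv F41965)))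
theorem Q4941 : ∀ i, i < 4941 → P i := stepQ 4940 Q4940 (allL N4940 (tt N5596 (iv F42905)) (tt N4248 F36384) (tt N5522 (iv F42548)) (tt N6053 (iv F45407)) (tt N6078 (iv F45498)) (tt N3985 F36385) (tt N3983 (iv D7664)) (tt N6079 D9731) (tt N4940 F36386) (tt N5418 (iv F41971)))
theorem Q4942 : ∀ i, i < 4942 → P i := stepQ 4941 Q4941 (allL N4941 (tt N5597 (iv F42911)) (tt N4251 F36387) (tt N6080 D9732) (tt N3984 (iv D7665)) (tt N6054 (iv F45411)) (tt N4941 F36388) (tt N6081 D9733) (tt N3988 F36389) (tt N3991 F36390) (tt N5450 (iv F42146)))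
theorem Q4943 : ∀ i, i < 4943 → P i := stepQ 4942 Q4942 (allL N4942 (tt N5598 (iv F42917)) (tt N4252 F36391) (tt N5601 (iv F42937)) (tt N6081 (iv F45507)) (tt N3985 F36392) (tt N6082 D9734) (tt N3984 (iv D7666)) (tt N6083 D9735) (tt N3992 F36393) (tt N5451 (iv F42152)))
theorem Q4944 : ∀ i, i < 4944 → P i := stepQ 4943 Q4943 (allL N4943 (tt N5599 (iv F42923)) (tt N4253 F36394) (tt N5602 (iv F42943)) (tt N6056 (iv F45418)) (tt N6083 (iv F45512)) (tt N6079 (iv F45501)) (tt N3990 F36395) (tt N3985 (iv D7667)) (tt N3993 F36396) (tt N5452 (iv F42158)))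
theorem Q4945 : ∀ i, i < 4945 → P i := stepQ 4944 Q4944 (allL N4944 (tt N5600 (iv F42929)) (tt N4254 F36397) (tt N6084 D9736) (tt N3986 (iv D7668)) (tt N6057 (iv F45422)) (tt N4944 F36398) (tt N6085 D9737) (tt N5450 (iv F42144)) (tt N4039 F36399) (tt N3988 F36400))
theorem Q4946 : ∀ i, i < 4946 → P i := stepQ 4945 Q4945 (allL N4945 (tt N5601 (iv F42935)) (tt N4255 F36401) (tt N5598 (iv F42919)) (tt N6085 (iv F45519)) (tt N3987 F36402) (tt N6086 D9738) (tt N3986 (iv D7669)) (tt N6087 D9739) (tt N4040 F36403) (tt N3989 F36404))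
theorem Q4947 : ∀ i, i < 4947 → P i := stepQ 4946 Q4946 (allL N4946 (tt N5602 (iv F42941)) (tt N4256 F36405) (tt N5599 (iv F42925)) (tt N6059 (iv F45430)) (tt N6087 (iv F45526)) (tt N5981 (iv F45157)) (tt N5452 (iv F42156)) (tt N3987 (iv D7670)) (tt N4041 F36406) (tt N3990 F36407))
theorem Q4948 : ∀ i, i < 4948 → P i := stepQ 4947 Q4947 (allL N4947 (tt N5603 (iv F42947)) (tt N6088 D9740) (tt N3988 (iv D7671)) (tt N5884 (iv F44780)) (tt N6060 (iv F45433)) (tt N4947 F36408) (tt N6089 D9741) (tt N6080 (iv F45504)) (tt N3994 F36409) (tt N6084 (iv F45517)))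
theorem Q4949 : ∀ i, i < 4949 → P i := stepQ 4948 Q4948 (allL N4948 (tt N5604 (iv F42950)) (tt N4258 F36410) (tt N6089 (iv F45532)) (tt N3989 F36411) (tt N6061 (iv F45437)) (tt N6090 D9742) (tt N3988 (iv D7672)) (tt N6091 D9743) (tt N3995 F36412) (tt N6085 (iv F45521)))
theorem Q4950 : ∀ i, i < 4950 → P i := stepQ 4949 Q4949 (allL N4949 (tt N5605 (iv F42954)) (tt N4259 F36413) (tt N5886 (iv F44787)) (tt N6090 (iv F45535)) (tt N5984 (iv F45166)) (tt N3989 (iv D7673)) (tt N4949 F36414) (tt N6092 D9744) (tt N4949 F36415) (tt N6086 (iv F45524)))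
theorem Q4951 : ∀ i, i < 4951 → P i := stepQ 4950 Q4950 (allL N4950 (tt N5606 (iv F42958)) (tt N4260 F36416) (tt N5887 (iv F44791)) (tt N6091 (iv F45539)) (tt N3990 F36417) (tt N6092 (iv F45542)) (tt N6083 (iv F45513)) (tt N3989 (iv D7674)) (tt N3996 F36418) (tt N6087 (iv F45528)))
theorem Q4952 : ∀ i, i < 4952 → P i := stepQ 4951 Q4951 (allL N4951 (tt N5607 (iv F42962)) (tt N4083 (iv F132225)) (tt N3991 (iv D7675)) (tt N5673 (iv F43279)) (tt N6064 (iv F45443)) (tt N3997 F36419) (tt N6017 (iv F132228)) (tt N3994 F36420) (tt N6080 (iv F45505)) (tt N4046 F36421))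
theorem Q4953 : ∀ i, i < 4953 → P i := stepQ 4952 Q4952 (allL N4952 (tt N5608 (iv F42967)) (tt N4222 F132595) (tt N6017 F132596) (tt N3992 F36423) (tt N6065 (iv F45449)) (tt N4206 F132597) (tt N3991 (iv D7676)) (tt N6093 D9748) (tt N6081 (iv F45508)) (tt N4047 F36424))
theorem Q4954 : ∀ i, i < 4954 → P i := stepQ 4953 Q4953 (allL N4953 (tt N5609 (iv F42971)) (tt N4221 F132665) (tt N5675 (iv F43289)) (tt N4206 F132666) (tt N4953 F36426) (tt N3992 (iv D7677)) (tt N3998 F36427) (tt N6094 D9749) (tt N6095 D9750) (tt N4048 F36428))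
theorem Q4955 : ∀ i, i < 4955 → P i := stepQ 4954 Q4954 (allL N4954 (tt N5610 (iv F42977)) (tt N4261 F36429) (tt N5676 (iv F43295)) (tt N6093 (iv F45555)) (tt N3993 F36430) (tt N6094 (iv F45560)) (tt N3996 F36431) (tt N3992 (iv D7678)) (tt N6083 (iv F45514)) (tt N4049 F36432))
theorem Q4956 : ∀ i, i < 4956 → P i := stepQ 4955 Q4955 (allL N4955 (tt N5732 (iv F132229)) (tt N3994 (iv D7679)) (tt N4101 (iv F132046)) (tt N5888 (iv F44795)) (tt N6068 (iv F45460)) (tt N3999 F36434) (tt N6096 D9752) (tt N4083 (iv F132226)) (tt N6088 (iv F45531)) (tt N4050 F36435))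
theorem Q4957 : ∀ i, i < 4957 → P i := stepQ 4956 Q4956 (allL N4956 (tt N5612 (iv F42986)) (tt N6096 (iv F45570)) (tt N3995 F36436) (tt N5889 (iv F44799)) (tt N6069 (iv F45464)) (tt N4956 F36437) (tt N3994 (iv D7680)) (tt N6097 D9753) (tt N6089 (iv F45533)) (tt N4051 F36438))
theorem Q4958 : ∀ i, i < 4958 → P i := stepQ 4957 Q4957 (allL N4957 (tt N5613 (iv F42990)) (tt N4263 F36439) (tt N6097 (iv F45574)) (tt N3996 F36440) (tt N6071 (iv F45473)) (tt N4957 F36441) (tt N6093 (iv F45556)) (tt N3995 (iv D7681)) (tt N6091 (iv F45540)) (tt N4052 F36442))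
theorem Q4959 : ∀ i, i < 4959 → P i := stepQ 4958 Q4958 (allL N4958 (tt N5615 (iv F43013)) (tt N4157 F132667) (tt N5689 (iv F43403)) (tt N4148 F132668) (tt N4958 F36458) (tt N4958 F36459) (tt N6095 (iv F45565)) (tt N4958 F36460) (tt N3998 (iv D7685)) (tt N4958 F36461))
theorem Q4960 : ∀ i, i < 4960 → P i := stepQ 4959 Q4959 (allL N4959 (tt N4006 F36467) (tt N5617 (iv F43027)) (tt N4266 F36468) (tt N5540 (iv F42643)) (tt N4959 F36469) (tt N6098 D9759) (tt N4959 F36470) (tt N5428 (iv F42028)) (tt N4000 (iv D7687)) (tt N4001 F36471))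
theorem Q4961 : ∀ i, i < 4961 → P i := stepQ 4960 Q4960 (allL N4960 (tt N4007 F36472) (tt N5618 (iv F43035)) (tt N4267 F36473) (tt N5619 (iv F43043)) (tt N6099 D9760) (tt N4001 (iv D7688)) (tt N6100 D9761) (tt N5456 (iv F42187)) (tt N4003 F36474) (tt N6098 (iv F45603)))
theorem Q4962 : ∀ i, i < 4962 → P i := stepQ 4961 Q4961 (allL N4961 (tt N4008 F36475) (tt N5619 (iv F43041)) (tt N4268 F36476) (tt N5618 (iv F43037)) (tt N6101 D9762) (tt N4002 (iv D7689)) (tt N6102 D9763) (tt N4003 F36477) (tt N5456 (iv F42188)) (tt N6000 (iv F45228)))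
theorem Q4963 : ∀ i, i < 4963 → P i := stepQ 4962 Q4962 (allL N4962 (tt N4009 F36478) (tt N5620 (iv F43047)) (tt N4269 F36479) (tt N6103 D9764) (tt N4003 (iv D7690)) (tt N4114 F36480) (tt N6104 D9765) (tt N6101 (iv F45615)) (tt N6099 (iv F45607)) (tt N6001 (iv F45232)))
theorem Q4964 : ∀ i, i < 4964 → P i := stepQ 4963 Q4963 (allL N4963 (tt N4010 F36481) (tt N5621 (iv F43051)) (tt N4270 F36482) (tt N5892 (iv F44817)) (tt N6104 (iv F45623)) (tt N4005 F36483) (tt N4003 (iv D7691)) (tt N6105 D9766) (tt N6100 (iv F45611)) (tt N6002 (iv F45236)))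
theorem Q4965 : ∀ i, i < 4965 → P i := stepQ 4964 Q4964 (allL N4964 (tt N4011 F36484) (tt N5622 (iv F43055)) (tt N4058 (iv F132299)) (tt N4004 (iv D7692)) (tt N5893 (iv F44820)) (tt N4057 F131832) (tt N6106 D9768) (tt N4964 F36486) (tt N4964 F36487) (tt N6003 (iv F45240)))
theorem Q4966 : ∀ i, i < 4966 → P i := stepQ 4965 Q4965 (allL N4965 (tt N4012 F36488) (tt N5623 (iv F43060)) (tt N4271 F36489) (tt N6106 (iv F45633)) (tt N4005 F36490) (tt N5682 (iv F132248)) (tt N4004 (iv D7693)) (tt N6107 D9770) (tt N4965 F36491) (tt N6004 (iv F45244)))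
theorem Q4967 : ∀ i, i < 4967 → P i := stepQ 4966 Q4966 (allL N4966 (tt N4013 F36492) (tt N5624 (iv F43065)) (tt N4272 F36493) (tt N5895 (iv F44830)) (tt N6107 (iv F45640)) (tt N6105 (iv F45626)) (tt N4966 F36494) (tt N4005 (iv D7694)) (tt N4966 F36495) (tt N6005 (iv F45248)))
theorem Q4968 : ∀ i, i < 4968 → P i := stepQ 4967 Q4967 (allL N4967 (tt N6098 (iv F45601)) (tt N4014 F36496) (tt N4275 F36497) (tt N5550 (iv F42696)) (tt N6108 D9771) (tt N4006 (iv D7695)) (tt N6109 D9772) (tt N5431 (iv F42045)) (tt N6008 (iv F45258)) (tt N4007 F36498))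
theorem Q4969 : ∀ i, i < 4969 → P i := stepQ 4968 Q4968 (allL N4968 (tt N6099 (iv F45604)) (tt N4015 F36499) (tt N4276 F36500) (tt N6110 D9773) (tt N4007 (iv D7696)) (tt N4968 F36501) (tt N6111 D9774) (tt N5459 (iv F42201)) (tt N4009 F36502) (tt N6108 (iv F45646)))
theorem Q4970 : ∀ i, i < 4970 → P i := stepQ 4969 Q4969 (allL N4969 (tt N6100 (iv F45608)) (tt N4016 F36503) (tt N4277 F36504) (tt N5629 (iv F43091)) (tt N6111 (iv F45656)) (tt N4969 F36505) (tt N4007 (iv D7697)) (tt N6112 D9775) (tt N4010 F36506) (tt N6109 (iv F45650)))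
theorem Q4971 : ∀ i, i < 4971 → P i := stepQ 4970 Q4970 (allL N4970 (tt N6101 (iv F45612)) (tt N4017 F36507) (tt N4278 F36508) (tt N6113 D9776) (tt N4008 (iv D7698)) (tt N4115 F36509) (tt N6114 D9777) (tt N4009 F36510) (tt N5459 (iv F42202)) (tt N6011 (iv F45270)))
theorem Q4972 : ∀ i, i < 4972 → P i := stepQ 4971 Q4971 (allL N4971 (tt N6102 (iv F45616)) (tt N4018 F36511) (tt N4279 F36512) (tt N5627 (iv F43081)) (tt N6114 (iv F45667)) (tt N4971 F36513) (tt N4008 (iv D7699)) (tt N6115 D9778) (tt N5460 (iv F42207)) (tt N6012 (iv F45274)))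
theorem Q4973 : ∀ i, i < 4973 → P i := stepQ 4972 Q4972 (allL N4972 (tt N6103 (iv F45619)) (tt N4019 F36514) (tt N6116 D9779) (tt N4009 (iv D7700)) (tt N5896 (iv F44834)) (tt N4117 F36515) (tt N6117 D9780) (tt N6113 (iv F45664)) (tt N6110 (iv F45653)) (tt N6013 (iv F45277)))
theorem Q4974 : ∀ i, i < 4974 → P i := stepQ 4973 Q4973 (allL N4973 (tt N6104 (iv F45621)) (tt N4020 F36516) (tt N4280 F36517) (tt N6117 (iv F45675)) (tt N4010 F36518) (tt N6118 D9781) (tt N4009 (iv D7701)) (tt N6119 D9782) (tt N6111 (iv F45657)) (tt N6014 (iv F45281)))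
theorem Q4975 : ∀ i, i < 4975 → P i := stepQ 4974 Q4974 (allL N4974 (tt N6105 (iv F45624)) (tt N4021 F36519) (tt N4281 F36520) (tt N5898 (iv F44841)) (tt N6119 (iv F45682)) (tt N4013 F36521) (tt N6115 (iv F45671)) (tt N4010 (iv D7702)) (tt N6112 (iv F45661)) (tt N6015 (iv F45285)))
theorem Q4976 : ∀ i, i < 4976 → P i := stepQ 4975 Q4975 (allL N4975 (tt N6106 (iv F45632)) (tt N4022 F36527) (tt N5678 (iv F132250)) (tt N4012 F36528) (tt N5899 (iv F44851)) (tt N5677 (iv F132253)) (tt N4011 (iv D7704)) (tt N6120 D9785) (tt N4975 F36529) (tt N6016 (iv F45293)))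
theorem Q4977 : ∀ i, i < 4977 → P i := stepQ 4976 Q4976 (allL N4976 (tt N5682 (iv F132246)) (tt N4023 F36530) (tt N4047 (iv F132079)) (tt N5677 (iv F132252)) (tt N6118 (iv F45678)) (tt N4012 (iv D7705)) (tt N4046 F131812) (tt N6121 D9786) (tt N5476 (iv F132290)) (tt N6017 (iv F45297)))
theorem Q4978 : ∀ i, i < 4978 → P i := stepQ 4977 Q4977 (allL N4977 (tt N6107 (iv F45638)) (tt N4024 F36533) (tt N4282 F36534) (tt N6120 (iv F45691)) (tt N4013 F36535) (tt N6121 (iv F45696)) (tt N4977 F36536) (tt N4012 (iv D7706)) (tt N4977 F36537) (tt N6018 (iv F45302)))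
theorem Q4979 : ∀ i, i < 4979 → P i := stepQ 4978 Q4978 (allL N4978 (tt N5637 (iv F43118)) (tt N6108 (iv F45643)) (tt N4025 F36538) (tt N6122 D9788) (tt N4014 (iv D7707)) (tt N4978 F36539) (tt N6123 D9789) (tt N5437 (iv F42078)) (tt N6028 (iv F45328)) (tt N4015 F36540))
theorem Q4980 : ∀ i, i < 4980 → P i := stepQ 4979 Q4979 (allL N4979 (tt N5638 (iv F43123)) (tt N6109 (iv F45647)) (tt N4026 F36541) (tt N5566 (iv F42765)) (tt N6123 (iv F45704)) (tt N4979 F36542) (tt N4014 (iv D7708)) (tt N6124 D9790) (tt N6029 (iv F45331)) (tt N4016 F36543))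
theorem Q4981 : ∀ i, i < 4981 → P i := stepQ 4980 Q4980 (allL N4980 (tt N5639 (iv F43128)) (tt N6110 (iv F45651)) (tt N6125 D9791) (tt N4015 (iv D7709)) (tt N5642 (iv F43144)) (tt N4980 F36544) (tt N6126 D9792) (tt N5464 (iv F42223)) (tt N4019 F36545) (tt N6122 (iv F45702)))
theorem Q4982 : ∀ i, i < 4982 → P i := stepQ 4981 Q4981 (allL N4981 (tt N5640 (iv F43133)) (tt N6111 (iv F45654)) (tt N4028 F36546) (tt N6126 (iv F45712)) (tt N4016 F36547) (tt N6127 D9793) (tt N4015 (iv D7710)) (tt N6128 D9794) (tt N4020 F36548) (tt N6123 (iv F45705)))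
theorem Q4983 : ∀ i, i < 4983 → P i := stepQ 4982 Q4982 (allL N4982 (tt N5641 (iv F43137)) (tt N6112 (iv F45658)) (tt N4029 F36549) (tt N5644 (iv F43154)) (tt N6128 (iv F45718)) (tt N4982 F36550) (tt N5466 (iv F42233)) (tt N4016 (iv D7711)) (tt N4021 F36551) (tt N6124 (iv F45708)))
theorem Q4984 : ∀ i, i < 4984 → P i := stepQ 4983 Q4983 (allL N4983 (tt N5642 (iv F43143)) (tt N6113 (iv F45662)) (tt N6129 D9795) (tt N4017 (iv D7712)) (tt N5639 (iv F43129)) (tt N4119 F36552) (tt N6130 D9796) (tt N4019 F36553) (tt N5464 (iv F42224)) (tt N6033 (iv F45341)))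
theorem Q4985 : ∀ i, i < 4985 → P i := stepQ 4984 Q4984 (allL N4984 (tt N5643 (iv F43148)) (tt N6114 (iv F45665)) (tt N4031 F36554) (tt N6130 (iv F45723)) (tt N4018 F36555) (tt N6131 D9797) (tt N4017 (iv D7713)) (tt N6132 D9798) (tt N5465 (iv F42228)) (tt N6034 (iv F45344)))
theorem Q4986 : ∀ i, i < 4986 → P i := stepQ 4985 Q4985 (allL N4985 (tt N5644 (iv F43152)) (tt N6115 (iv F45668)) (tt N4032 F36556) (tt N5641 (iv F43139)) (tt N6132 (iv F45728)) (tt N4985 F36557) (tt N4021 F36558) (tt N4018 (iv D7714)) (tt N5466 (iv F42234)) (tt N6035 (iv F45348)))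
theorem Q4987 : ∀ i, i < 4987 → P i := stepQ 4986 Q4986 (allL N4986 (tt N5645 (iv F43158)) (tt N6133 D9799) (tt N4019 (iv D7715)) (tt N4033 F36559) (tt N5902 (iv F44862)) (tt N4122 F36560) (tt N6134 D9800) (tt N6129 (iv F45722)) (tt N6125 (iv F45711)) (tt N6036 (iv F45351)))
theorem Q4988 : ∀ i, i < 4988 → P i := stepQ 4987 Q4987 (allL N4987 (tt N5646 (iv F43161)) (tt N6117 (iv F45674)) (tt N6134 (iv F45732)) (tt N4020 F36561) (tt N5903 (iv F44865)) (tt N6135 D9801) (tt N4019 (iv D7716)) (tt N6136 D9802) (tt N6126 (iv F45713)) (tt N6037 (iv F45353)))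
theorem Q4989 : ∀ i, i < 4989 → P i := stepQ 4988 Q4988 (allL N4988 (tt N5647 (iv F43163)) (tt N6118 (iv F45676)) (tt N4035 F36562) (tt N6135 (iv F45734)) (tt N4023 F36563) (tt N4020 (iv D7717)) (tt N4124 F36564) (tt N6137 D9803) (tt N6138 D9804) (tt N6038 (iv F45357)))
theorem Q4990 : ∀ i, i < 4990 → P i := stepQ 4989 Q4989 (allL N4989 (tt N5648 (iv F43167)) (tt N6119 (iv F45680)) (tt N4036 F36565) (tt N6136 (iv F45736)) (tt N4021 F36566) (tt N6137 (iv F45739)) (tt N6132 (iv F45729)) (tt N4020 (iv D7718)) (tt N6128 (iv F45719)) (tt N6039 (iv F45360)))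
theorem Q4991 : ∀ i, i < 4991 → P i := stepQ 4990 Q4990 (allL N4990 (tt N5649 (iv F43170)) (tt N5677 (iv F132251)) (tt N4990 F36567) (tt N4023 F36568) (tt N6139 D9805) (tt N4022 (iv D7719)) (tt N4126 F36569) (tt N6140 D9806) (tt N5686 (iv F132359)) (tt N6040 (iv F45364)))
theorem Q4992 : ∀ i, i < 4992 → P i := stepQ 4991 Q4991 (allL N4991 (tt N5650 (iv F43174)) (tt N6120 (iv F45690)) (tt N4991 F36570) (tt N4024 F36571) (tt N5907 (iv F44876)) (tt N6140 (iv F45747)) (tt N4991 F36572) (tt N4022 (iv D7720)) (tt N4991 F36573) (tt N6041 (iv F45368)))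
theorem Q4993 : ∀ i, i < 4993 → P i := stepQ 4992 Q4992 (allL N4992 (tt N5651 (iv F43179)) (tt N6121 (iv F45694)) (tt N4037 F36574) (tt N6140 (iv F45746)) (tt N6137 (iv F45738)) (tt N4024 F36575) (tt N6141 D9808) (tt N4023 (iv D7721)) (tt N6142 D9809) (tt N6042 (iv F45371)))
theorem Q4994 : ∀ i, i < 4994 → P i := stepQ 4993 Q4993 (allL N4993 (tt N5652 (iv F43182)) (tt N5476 (iv F132289)) (tt N4038 F36576) (tt N5686 (iv F132358)) (tt N6138 (iv F45741)) (tt N4993 F36577) (tt N4127 F36578) (tt N6142 (iv F45757)) (tt N4023 (iv D7722)) (tt N6143 D9810))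
theorem Q4995 : ∀ i, i < 4995 → P i := stepQ 4994 Q4994 (allL N4994 (tt N5653 (iv F43186)) (tt N4306 F36579) (tt N6144 D9811) (tt N4025 (iv D7723)) (tt N4039 F36580) (tt N4994 F36581) (tt N6145 D9812) (tt N5445 (iv F42120)) (tt N6057 (iv F45423)) (tt N4027 F36582))
theorem Q4996 : ∀ i, i < 4996 → P i := stepQ 4995 Q4995 (allL N4995 (tt N5654 (iv F43192)) (tt N4307 F36583) (tt N6123 (iv F45703)) (tt N6145 (iv F45765)) (tt N4026 F36584) (tt N6146 D9813) (tt N4025 (iv D7724)) (tt N6147 D9814) (tt N6058 (iv F45427)) (tt N4028 F36585))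
theorem Q4997 : ∀ i, i < 4997 → P i := stepQ 4996 Q4996 (allL N4996 (tt N5655 (iv F43196)) (tt N4308 F36586) (tt N6124 (iv F45706)) (tt N4041 F36587) (tt N6147 (iv F45773)) (tt N4996 F36588) (tt N5447 (iv F42130)) (tt N4026 (iv D7725)) (tt N6059 (iv F45431)) (tt N4029 F36589))
theorem Q4998 : ∀ i, i < 4998 → P i := stepQ 4997 Q4997 (allL N4997 (tt N5656 (iv F43202)) (tt N6148 D9815) (tt N4027 (iv D7726)) (tt N6125 (iv F45709)) (tt N4042 F36590) (tt N4997 F36591) (tt N6149 D9816) (tt N5470 (iv F42251)) (tt N4033 F36592) (tt N6144 (iv F45763)))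
theorem Q4999 : ∀ i, i < 4999 → P i := stepQ 4998 Q4998 (allL N4998 (tt N5657 (iv F43207)) (tt N4310 F36593) (tt N6149 (iv F45779)) (tt N4028 F36594) (tt N4043 F36595) (tt N6150 D9817) (tt N4027 (iv D7727)) (tt N6151 D9818) (tt N4034 F36596) (tt N6145 (iv F45767)))
theorem Q5000 : ∀ i, i < 5000 → P i := stepQ 4999 Q4999 (allL N4999 (tt N5658 (iv F43212)) (tt N4311 F36597) (tt N6127 (iv F45714)) (tt N6150 (iv F45783)) (tt N4999 F36598) (tt N4028 (iv D7728)) (tt N4999 F36599) (tt N6152 D9819) (tt N6153 D9820) (tt N6146 (iv F45771)))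
theorem Q5001 : ∀ i, i < 5001 → P i := stepQ 5000 Q5000 (allL N5000 (tt N5659 (iv F43216)) (tt N4312 F36600) (tt N6128 (iv F45717)) (tt N6151 (iv F45786)) (tt N4029 F36601) (tt N6152 (iv F45791)) (tt N5473 (iv F42265)) (tt N4028 (iv D7729)) (tt N4036 F36602) (tt N6147 (iv F45774)))
theorem Q5002 : ∀ i, i < 5002 → P i := stepQ 5001 Q5001 (allL N5001 (tt N5660 (iv F43221)) (tt N4124 (iv F132286)) (tt N4030 (iv D7730)) (tt N6129 (iv F45720)) (tt N4046 F36603) (tt N4118 F131811) (tt N6118 (iv F132254)) (tt N4033 F36605) (tt N5470 (iv F42252)) (tt N6064 (iv F45446)))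
theorem Q5003 : ∀ i, i < 5003 → P i := stepQ 5002 Q5002 (allL N5002 (tt N5661 (iv F43226)) (tt N4296 F132611) (tt N6118 F132612) (tt N4031 F36607) (tt N4047 F36608) (tt N4280 F132613) (tt N4030 (iv D7731)) (tt N6154 D9824) (tt N5471 (iv F42257)) (tt N6065 (iv F45450)))
theorem Q5004 : ∀ i, i < 5004 → P i := stepQ 5003 Q5003 (allL N5003 (tt N5662 (iv F43231)) (tt N4295 F132609) (tt N6131 (iv F45724)) (tt N4280 F132610) (tt N5003 F36610) (tt N4031 (iv D7732)) (tt N4128 F36611) (tt N6155 D9825) (tt N6156 D9826) (tt N6066 (iv F45454)))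
theorem Q5005 : ∀ i, i < 5005 → P i := stepQ 5004 Q5004 (allL N5004 (tt N5663 (iv F43235)) (tt N4313 F36612) (tt N6132 (iv F45727)) (tt N6154 (iv F45806)) (tt N4032 F36613) (tt N6155 (iv F45811)) (tt N4036 F36614) (tt N4031 (iv D7733)) (tt N5473 (iv F42266)) (tt N6067 (iv F45458)))
theorem Q5006 : ∀ i, i < 5006 → P i := stepQ 5005 Q5005 (allL N5005 (tt N5789 (iv F132291)) (tt N4033 (iv D7734)) (tt N4133 (iv F132085)) (tt N6133 (iv F45730)) (tt N4050 F36616) (tt N4125 F131813) (tt N6157 D9828) (tt N4124 (iv F132287)) (tt N6148 (iv F45778)) (tt N6068 (iv F45462)))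
theorem Q5007 : ∀ i, i < 5007 → P i := stepQ 5006 Q5006 (allL N5006 (tt N5665 (iv F43243)) (tt N6157 (iv F45818)) (tt N4034 F36618) (tt N6134 (iv F45733)) (tt N4051 F36619) (tt N6158 D9829) (tt N4033 (iv D7735)) (tt N6159 D9830) (tt N6149 (iv F45781)) (tt N6069 (iv F45465)))
theorem Q5008 : ∀ i, i < 5008 → P i := stepQ 5007 Q5007 (allL N5007 (tt N5666 (iv F43246)) (tt N4315 F36620) (tt N6158 (iv F45821)) (tt N4035 F36621) (tt N5007 F36622) (tt N4034 (iv D7736)) (tt N4131 F36623) (tt N6160 D9831) (tt N6161 D9832) (tt N6070 (iv F45470)))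
theorem Q5009 : ∀ i, i < 5009 → P i := stepQ 5008 Q5008 (allL N5008 (tt N5667 (iv F43251)) (tt N4316 F36624) (tt N6159 (iv F45824)) (tt N4036 F36625) (tt N4052 F36626) (tt N6160 (iv F45829)) (tt N6154 (iv F45808)) (tt N4034 (iv D7737)) (tt N6151 (iv F45788)) (tt N6071 (iv F45474)))
theorem Q5010 : ∀ i, i < 5010 → P i := stepQ 5009 Q5009 (allL N5009 (tt N5668 (iv F43255)) (tt N4317 F36627) (tt N6137 (iv F45737)) (tt N6160 (iv F45827)) (tt N4037 F36628) (tt N4036 F36629) (tt N6162 D9833) (tt N4035 (iv D7738)) (tt N6163 D9834) (tt N6072 (iv F45478)))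
theorem Q5011 : ∀ i, i < 5011 → P i := stepQ 5010 Q5010 (allL N5010 (tt N5669 (iv F43259)) (tt N4318 F36630) (tt N6138 (iv F45740)) (tt N6161 (iv F45831)) (tt N4038 F36631) (tt N6153 (iv F45794)) (tt N4134 F36632) (tt N6163 (iv F45839)) (tt N4035 (iv D7739)) (tt N6164 D9835))
theorem Q5012 : ∀ i, i < 5012 → P i := stepQ 5011 Q5011 (allL N5011 (tt N5670 (iv F43263)) (tt N4319 F36633) (tt N6141 (iv F45752)) (tt N5011 F36634) (tt N6162 (iv F45835)) (tt N5011 F36635) (tt N4037 (iv D7740)) (tt N4135 F36636) (tt N6165 D9836) (tt N6074 (iv F45486)))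
theorem Q5013 : ∀ i, i < 5013 → P i := stepQ 5012 Q5012 (allL N5012 (tt N5671 (iv F43268)) (tt N4320 F36637) (tt N6142 (iv F45755)) (tt N5012 F36638) (tt N6163 (iv F45838)) (tt N5012 F36639) (tt N6165 (iv F45845)) (tt N4038 F36640) (tt N4037 (iv D7741)) (tt N6166 D9837))
theorem Q5014 : ∀ i, i < 5014 → P i := stepQ 5013 Q5013 (allL N5013 (tt N5672 (iv F43273)) (tt N4321 F36641) (tt N6143 (iv F45758)) (tt N5013 F36642) (tt N6164 (iv F45841)) (tt N5013 F36643) (tt N4137 F36644) (tt N6166 (iv F45850)) (tt N6076 (iv F45493)) (tt N4038 (iv D7742)))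
theorem Q5015 : ∀ i, i < 5015 → P i := stepQ 5014 Q5014 (allL N5014 (tt N5673 (iv F43278)) (tt N6167 D9838) (tt N4039 (iv D7743)) (tt N5607 (iv F42963)) (tt N6144 (iv F45761)) (tt N4053 F36645) (tt N6168 D9839) (tt N5453 (iv F42162)) (tt N6084 (iv F45516)) (tt N4042 F36646))
theorem Q5016 : ∀ i, i < 5016 → P i := stepQ 5015 Q5015 (allL N5015 (tt N5674 (iv F43283)) (tt N4327 F36647) (tt N6168 (iv F45854)) (tt N4040 F36648) (tt N6145 (iv F45766)) (tt N6169 D9840) (tt N4039 (iv D7744)) (tt N6170 D9841) (tt N6085 (iv F45520)) (tt N4043 F36649))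
theorem Q5017 : ∀ i, i < 5017 → P i := stepQ 5016 Q5016 (allL N5016 (tt N5675 (iv F43287)) (tt N4328 F36650) (tt N5609 (iv F42973)) (tt N6169 (iv F45857)) (tt N5016 F36651) (tt N4040 (iv D7745)) (tt N4055 F36652) (tt N6171 D9842) (tt N6172 D9843) (tt N4044 F36653))
theorem Q5018 : ∀ i, i < 5018 → P i := stepQ 5017 Q5017 (allL N5017 (tt N5676 (iv F43293)) (tt N4329 F36654) (tt N5610 (iv F42979)) (tt N6170 (iv F45861)) (tt N4041 F36655) (tt N6171 (iv F45865)) (tt N5455 (iv F42174)) (tt N4040 (iv D7746)) (tt N6087 (iv F45527)) (tt N4045 F36656))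
theorem Q5019 : ∀ i, i < 5019 → P i := stepQ 5018 Q5018 (allL N5018 (tt N5779 F131805) (tt N4042 (iv D7747)) (tt N4136 (iv F132087)) (tt N5681 (iv F43326)) (tt N6148 (iv F45776)) (tt N4056 F36658) (tt N6173 D9845) (tt N4127 F131814) (tt N4050 F36659) (tt N6167 (iv F45853)))
theorem Q5020 : ∀ i, i < 5020 → P i := stepQ 5019 Q5019 (allL N5019 (tt N5677 (iv F43304)) (tt N6173 (iv F45875)) (tt N4043 F36660) (tt N5682 (iv F43332)) (tt N6149 (iv F45780)) (tt N6106 F132797) (tt N4042 (iv D7748)) (tt N6174 D9847) (tt N4051 F36661) (tt N6168 (iv F45855)))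
theorem Q5021 : ∀ i, i < 5021 → P i := stepQ 5020 Q5020 (allL N5020 (tt N5678 (iv F43308)) (tt N4331 F36662) (tt N6106 F132796) (tt N4044 F36663) (tt N6175 D9848) (tt N4043 (iv D7749)) (tt N4058 F36664) (tt N6176 D9849) (tt N5020 F36665) (tt N6169 (iv F45859)))
theorem Q5022 : ∀ i, i < 5022 → P i := stepQ 5021 Q5021 (allL N5021 (tt N5679 (iv F43313)) (tt N4332 F36666) (tt N6174 (iv F45881)) (tt N4045 F36667) (tt N6151 (iv F45787)) (tt N6176 (iv F45889)) (tt N5477 (iv F42288)) (tt N4043 (iv D7750)) (tt N4052 F36668) (tt N6170 (iv F45862)))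
theorem Q5023 : ∀ i, i < 5023 → P i := stepQ 5022 Q5022 (allL N5022 (tt N5680 (iv F43318)) (tt N4333 F36669) (tt N5684 (iv F43346)) (tt N6176 (iv F45888)) (tt N5022 F36670) (tt N4045 F36671) (tt N5022 F36672) (tt N4044 (iv D7751)) (tt N5022 F36673) (tt N6171 (iv F45867)))
theorem Q5024 : ∀ i, i < 5024 → P i := stepQ 5023 Q5023 (allL N5023 (tt N5683 (iv F43339)) (tt N4299 F132641) (tt N6121 F132642) (tt N4049 F36683) (tt N6154 (iv F45807)) (tt N4282 F132643) (tt N4052 F36684) (tt N4047 (iv D7755)) (tt N5477 (iv F42289)) (tt N6093 (iv F45557)))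
theorem Q5025 : ∀ i, i < 5025 → P i := stepQ 5024 Q5024 (allL N5024 (tt N5684 (iv F43344)) (tt N4298 F132674) (tt N5680 (iv F43320)) (tt N4282 F132675) (tt N5024 F36686) (tt N4049 F36687) (tt N5024 F36688) (tt N4048 (iv D7756)) (tt N5024 F36689) (tt N6094 (iv F45562)))
theorem Q5026 : ∀ i, i < 5026 → P i := stepQ 5025 Q5025 (allL N5025 (tt N5792 (iv F132293)) (tt N4051 F36692) (tt N4135 (iv F132089)) (tt N5919 (iv F44919)) (tt N6157 (iv F45820)) (tt N5025 F36694) (tt N4050 (iv D7758)) (tt N6141 (iv F132294)) (tt N6173 (iv F45877)) (tt N6096 (iv F45573)))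
theorem Q5027 : ∀ i, i < 5027 → P i := stepQ 5026 Q5026 (allL N5026 (tt N5687 (iv F43357)) (tt N6141 F132844) (tt N4052 F36695) (tt N5920 (iv F44922)) (tt N6159 (iv F45825)) (tt N5026 F36696) (tt N6121 F132845) (tt N4051 (iv D7759)) (tt N6174 (iv F45882)) (tt N6097 (iv F45576)))
theorem Q5028 : ∀ i, i < 5028 → P i := stepQ 5027 Q5027 (allL N5027 (tt N5711 F131828) (tt N4053 (iv D7764)) (tt N4140 (iv F132100)) (tt N5614 (iv F42996)) (tt N5027 F36715) (tt N6167 (iv F45852)) (tt N5697 (iv F132298)) (tt N4138 F131831) (tt N5027 F36716) (tt N4056 F36717))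
theorem Q5029 : ∀ i, i < 5029 → P i := stepQ 5028 Q5028 (allL N5028 (tt N4069 F131833) (tt N5697 (iv F132297)) (tt N4054 F36718) (tt N4062 F131834) (tt N5028 F36719) (tt N6003 (iv F132249)) (tt N4053 (iv D7765)) (tt N5028 F36720) (tt N5028 F36721) (tt N4057 F36722))
theorem Q5030 : ∀ i, i < 5030 → P i := stepQ 5029 Q5029 (allL N5029 (tt N5688 (iv F43396)) (tt N4335 F36723) (tt N6003 F132801) (tt N4055 F36724) (tt N6177 D9864) (tt N4054 (iv D7766)) (tt N6169 (iv F45858)) (tt N5029 F36725) (tt N6178 D9865) (tt N4058 F36726))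
theorem Q5031 : ∀ i, i < 5031 → P i := stepQ 5030 Q5030 (allL N5030 (tt N5689 (iv F43401)) (tt N4336 F36727) (tt N5615 (iv F43015)) (tt N6178 (iv F45949)) (tt N5030 F36728) (tt N5030 F36729) (tt N6172 (iv F45870)) (tt N5030 F36730) (tt N4055 (iv D7767)) (tt N5030 F36731))
theorem Q5032 : ∀ i, i < 5032 → P i := stepQ 5031 Q5031 (allL N5031 (tt N5690 (iv F43425)) (tt N4338 F36743) (tt N5893 F132794) (tt N5031 F36744) (tt N4058 (iv D7771)) (tt N5031 F36745) (tt N6175 (iv F45885)) (tt N5031 F36746) (tt N5031 F36747) (tt N6177 (iv F45947)))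
theorem Q5033 : ∀ i, i < 5033 → P i := stepQ 5032 Q5032 (allL N5032 (tt N4065 F36760) (tt N5693 (iv F43464)) (tt N4339 F36761) (tt N5032 F36762) (tt N6179 D9869) (tt N4059 (iv D7774)) (tt N5761 (iv F132312)) (tt N5807 (iv F44424)) (tt N4061 F36763) (tt N5032 F36764))
theorem Q5034 : ∀ i, i < 5034 → P i := stepQ 5033 Q5033 (allL N5033 (tt N4066 F36765) (tt N5694 (iv F43470)) (tt N4340 F36766) (tt N5033 F36767) (tt N6180 D9871) (tt N4060 (iv D7775)) (tt N5767 (iv F132309)) (tt N4061 F36768) (tt N5807 (iv F44425)) (tt N4113 F36769))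
theorem Q5035 : ∀ i, i < 5035 → P i := stepQ 5034 Q5034 (allL N5034 (tt N4067 F36770) (tt N5695 (iv F43476)) (tt N4341 F36771) (tt N6181 D9873) (tt N4061 (iv D7776)) (tt N6001 (iv F45231)) (tt N5749 (iv F132316)) (tt N6180 (iv F45978)) (tt N6179 (iv F45968)) (tt N4114 F36772))
theorem Q5036 : ∀ i, i < 5036 → P i := stepQ 5035 Q5035 (allL N5035 (tt N5821 (iv F44534)) (tt N4072 F36794) (tt N4342 F36795) (tt N5495 (iv F42407)) (tt N6182 D9880) (tt N4063 (iv D7781)) (tt N6183 D9881) (tt N5408 (iv F41915)) (tt N6006 (iv F45251)) (tt N5035 F36796))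
theorem Q5037 : ∀ i, i < 5037 → P i := stepQ 5036 Q5036 (allL N5036 (tt N5807 (iv F44421)) (tt N4074 F36797) (tt N4343 F36798) (tt N5036 F36799) (tt N6184 D9882) (tt N4064 (iv D7782)) (tt N6185 D9883) (tt N4065 F36800) (tt N4066 F36801) (tt N5036 F36802))
theorem Q5038 : ∀ i, i < 5038 → P i := stepQ 5037 Q5037 (allL N5037 (tt N6179 (iv F45966)) (tt N4075 F36803) (tt N4344 F36804) (tt N6186 D9884) (tt N4065 (iv D7783)) (tt N6182 (iv F46019)) (tt N6187 D9885) (tt N6184 (iv F46027)) (tt N4067 F36805) (tt N5037 F36806))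
theorem Q5039 : ∀ i, i < 5039 → P i := stepQ 5038 Q5038 (allL N5038 (tt N5761 (iv F132310)) (tt N4076 F36807) (tt N4105 (iv F132111)) (tt N5038 F36809) (tt N6187 (iv F46041)) (tt N5038 F36810) (tt N4065 (iv D7784)) (tt N4107 (iv F132320)) (tt N4068 F36811) (tt N5038 F36812))
theorem Q5040 : ∀ i, i < 5040 → P i := stepQ 5039 Q5039 (allL N5039 (tt N6180 (iv F45976)) (tt N4077 F36813) (tt N4345 F36814) (tt N6188 D9887) (tt N4066 (iv D7785)) (tt N6011 (iv F45268)) (tt N6189 D9888) (tt N4067 F36815) (tt N6184 (iv F46028)) (tt N4115 F36816))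
theorem Q5041 : ∀ i, i < 5041 → P i := stepQ 5040 Q5040 (allL N5040 (tt N5767 (iv F132307)) (tt N4078 F36817) (tt N4112 (iv F132108)) (tt N5040 F36819) (tt N6189 (iv F46056)) (tt N5040 F36820) (tt N4066 (iv D7786)) (tt N4111 (iv F132328)) (tt N6185 (iv F46033)) (tt N4116 F36821))
theorem Q5042 : ∀ i, i < 5042 → P i := stepQ 5041 Q5041 (allL N5041 (tt N6181 (iv F45985)) (tt N4079 F36822) (tt N6190 D9890) (tt N4067 (iv D7787)) (tt N5041 F36823) (tt N6013 (iv F45276)) (tt N6191 D9891) (tt N6188 (iv F46052)) (tt N6186 (iv F46037)) (tt N4117 F36824))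
theorem Q5043 : ∀ i, i < 5043 → P i := stepQ 5042 Q5042 (allL N5042 (tt N5749 (iv F132314)) (tt N4080 F36825) (tt N4094 (iv F132137)) (tt N6191 (iv F46068)) (tt N4068 F36827) (tt N6064 (iv F132212)) (tt N4067 (iv D7788)) (tt N4097 (iv F132318)) (tt N6187 (iv F46042)) (tt N4118 F36828))
theorem Q5044 : ∀ i, i < 5044 → P i := stepQ 5043 Q5043 (allL N5043 (tt N5713 (iv F43588)) (tt N5495 (iv F42405)) (tt N5043 F36854) (tt N4072 F36855) (tt N6192 D9899) (tt N4070 (iv D7794)) (tt N6193 D9900) (tt N5483 (iv F42335)) (tt N6020 (iv F45308)) (tt N5043 F36856))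
theorem Q5045 : ∀ i, i < 5045 → P i := stepQ 5044 Q5044 (allL N5044 (tt N5714 (iv F43592)) (tt N5408 (iv F41912)) (tt N4085 F36857) (tt N5483 (iv F42334)) (tt N6194 D9901) (tt N4071 (iv D7795)) (tt N6195 D9902) (tt N4072 F36858) (tt N6021 (iv F45311)) (tt N5044 F36859))
theorem Q5046 : ∀ i, i < 5046 → P i := stepQ 5045 Q5045 (allL N5045 (tt N5715 (iv F43596)) (tt N6182 (iv F46017)) (tt N4086 F36860) (tt N6196 D9903) (tt N4072 (iv D7796)) (tt N4075 F36861) (tt N6197 D9904) (tt N6194 (iv F46110)) (tt N6023 (iv F45317)) (tt N5045 F36862))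
theorem Q5047 : ∀ i, i < 5047 → P i := stepQ 5046 Q5046 (allL N5046 (tt N5716 (iv F43600)) (tt N6183 (iv F46021)) (tt N4087 F36863) (tt N6193 (iv F46105)) (tt N6197 (iv F46117)) (tt N5046 F36864) (tt N4072 (iv D7797)) (tt N6198 D9905) (tt N6024 (iv F45319)) (tt N5046 F36865))
theorem Q5048 : ∀ i, i < 5048 → P i := stepQ 5047 Q5047 (allL N5047 (tt N5717 (iv F43604)) (tt N5401 (iv F41854)) (tt N4088 F36866) (tt N5047 F36867) (tt N6199 D9906) (tt N4073 (iv D7798)) (tt N6200 D9907) (tt N5047 F36868) (tt N5047 F36869) (tt N5047 F36870))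
theorem Q5049 : ∀ i, i < 5049 → P i := stepQ 5048 Q5048 (allL N5048 (tt N5718 (iv F43610)) (tt N6184 (iv F46025)) (tt N4089 F36871) (tt N6201 D9908) (tt N4074 (iv D7799)) (tt N6194 (iv F46109)) (tt N6202 D9909) (tt N4075 F36872) (tt N4077 F36873) (tt N5048 F36874))
theorem Q5050 : ∀ i, i < 5050 → P i := stepQ 5049 Q5049 (allL N5049 (tt N5719 (iv F43615)) (tt N6185 (iv F46030)) (tt N4090 F36875) (tt N5049 F36876) (tt N6202 (iv F46136)) (tt N6200 (iv F46128)) (tt N4074 (iv D7800)) (tt N6203 D9910) (tt N4078 F36877) (tt N5049 F36878))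
theorem Q5051 : ∀ i, i < 5051 → P i := stepQ 5050 Q5050 (allL N5050 (tt N5720 (iv F43620)) (tt N6186 (iv F46035)) (tt N6204 D9911) (tt N4075 (iv D7801)) (tt N5050 F36879) (tt N6196 (iv F46114)) (tt N6205 D9912) (tt N6201 (iv F46132)) (tt N4079 F36880) (tt N5050 F36881))
theorem Q5052 : ∀ i, i < 5052 → P i := stepQ 5051 Q5051 (allL N5051 (tt N5721 (iv F43624)) (tt N6187 (iv F46039)) (tt N4092 F36882) (tt N6205 (iv F46148)) (tt N4076 F36883) (tt N6206 D9913) (tt N4075 (iv D7802)) (tt N6207 D9914) (tt N4080 F36884) (tt N5051 F36885))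
theorem Q5053 : ∀ i, i < 5053 → P i := stepQ 5052 Q5052 (allL N5052 (tt N5722 (iv F43629)) (tt N4107 (iv F132319)) (tt N4093 F36886) (tt N5052 F36887) (tt N6207 (iv F46156)) (tt N5052 F36888) (tt N6203 (iv F46141)) (tt N4076 (iv D7803)) (tt N4081 F36889) (tt N5052 F36890))
theorem Q5054 : ∀ i, i < 5054 → P i := stepQ 5053 Q5053 (allL N5053 (tt N5723 (iv F43635)) (tt N6188 (iv F46050)) (tt N6191 F132884) (tt N4077 (iv D7804)) (tt N5053 F36891) (tt N6033 (iv F45339)) (tt N6190 F132885) (tt N4079 F36892) (tt N6201 (iv F46133)) (tt N4119 F36893))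
theorem Q5055 : ∀ i, i < 5055 → P i := stepQ 5054 Q5054 (allL N5054 (tt N5724 (iv F43639)) (tt N6189 (iv F46054)) (tt N4095 F36894) (tt N6190 F132711) (tt N4078 F36895) (tt N6208 D9917) (tt N4077 (iv D7805)) (tt N6209 D9918) (tt N6202 (iv F46137)) (tt N4120 F36896))
theorem Q5056 : ∀ i, i < 5056 → P i := stepQ 5055 Q5055 (allL N5055 (tt N5725 (iv F43643)) (tt N4111 (iv F132327)) (tt N4096 F36897) (tt N5055 F36898) (tt N6209 (iv F46170)) (tt N5055 F36899) (tt N4081 F36900) (tt N4078 (iv D7806)) (tt N6203 (iv F46142)) (tt N4121 F36901))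
theorem Q5057 : ∀ i, i < 5057 → P i := stepQ 5056 Q5056 (allL N5056 (tt N5726 (iv F43649)) (tt N6210 D9919) (tt N4079 (iv D7807)) (tt N4097 F36902) (tt N5056 F36903) (tt N6036 (iv F45350)) (tt N6211 D9920) (tt N6191 F132886) (tt N6204 (iv F46146)) (tt N4122 F36904))
theorem Q5058 : ∀ i, i < 5058 → P i := stepQ 5057 Q5057 (allL N5057 (tt N5727 (iv F43653)) (tt N6191 (iv F46067)) (tt N6211 (iv F46176)) (tt N4080 F36905) (tt N5057 F36906) (tt N6212 D9921) (tt N4079 (iv D7808)) (tt N6210 F132883) (tt N6205 (iv F46150)) (tt N4123 F36907))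
theorem Q5059 : ∀ i, i < 5059 → P i := stepQ 5058 Q5058 (allL N5058 (tt N5728 (iv F43657)) (tt N6064 F132749) (tt N4099 F36908) (tt N6212 (iv F46180)) (tt N4083 F36909) (tt N4080 (iv D7809)) (tt N6038 (iv F45356)) (tt N6068 F132750) (tt N6213 D9924) (tt N4124 F36910))
theorem Q5060 : ∀ i, i < 5060 → P i := stepQ 5059 Q5059 (allL N5059 (tt N5729 (iv F43661)) (tt N4097 (iv F132317)) (tt N4100 F36911) (tt N6210 (iv F132326)) (tt N4081 F36912) (tt N6068 (iv F132213)) (tt N6209 (iv F46171)) (tt N4080 (iv D7810)) (tt N6207 (iv F46157)) (tt N4125 F36913))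
theorem Q5061 : ∀ i, i < 5061 → P i := stepQ 5060 Q5060 (allL N5060 (tt N5730 (iv F43665)) (tt N5673 (iv F132227)) (tt N5060 F36914) (tt N4083 F36915) (tt N6214 D9925) (tt N4082 (iv D7811)) (tt N6040 (iv F45363)) (tt N5888 (iv F132186)) (tt N6215 D9927) (tt N4126 F36916))
theorem Q5062 : ∀ i, i < 5062 → P i := stepQ 5061 Q5061 (allL N5061 (tt N5733 (iv F43680)) (tt N6080 F132762) (tt N4102 F36926) (tt N6215 (iv F46199)) (tt N6213 (iv F46190)) (tt N5061 F36927) (tt N6043 (iv F45373)) (tt N6088 F132763) (tt N4083 (iv D7814)) (tt N6216 D9930))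
theorem Q5063 : ∀ i, i < 5063 → P i := stepQ 5062 Q5062 (allL N5062 (tt N5734 (iv F43683)) (tt N4357 F36928) (tt N5406 (iv F41898)) (tt N5062 F36929) (tt N6217 D9931) (tt N4084 (iv D7815)) (tt N6218 D9932) (tt N5062 F36930) (tt N5388 (iv F41785)) (tt N5062 F36931))
theorem Q5064 : ∀ i, i < 5064 → P i := stepQ 5063 Q5063 (allL N5063 (tt N5735 (iv F43688)) (tt N4358 F36932) (tt N6194 (iv F46108)) (tt N6219 D9933) (tt N4085 (iv D7816)) (tt N4089 F36933) (tt N6220 D9934) (tt N4086 F36934) (tt N6045 (iv F45382)) (tt N5063 F36935))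
theorem Q5065 : ∀ i, i < 5065 → P i := stepQ 5064 Q5064 (allL N5064 (tt N5736 (iv F43693)) (tt N4359 F36936) (tt N6195 (iv F46112)) (tt N5064 F36937) (tt N6220 (iv F46224)) (tt N6218 (iv F46216)) (tt N4085 (iv D7817)) (tt N6221 D9935) (tt N6046 (iv F45385)) (tt N5064 F36938))
theorem Q5066 : ∀ i, i < 5066 → P i := stepQ 5065 Q5065 (allL N5065 (tt N5737 (iv F43697)) (tt N4360 F36939) (tt N6222 D9936) (tt N4086 (iv D7818)) (tt N5065 F36940) (tt N4091 F36941) (tt N6223 D9937) (tt N6219 (iv F46221)) (tt N6049 (iv F45397)) (tt N5065 F36942))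
theorem Q5067 : ∀ i, i < 5067 → P i := stepQ 5066 Q5066 (allL N5066 (tt N5738 (iv F43702)) (tt N4361 F36943) (tt N6197 (iv F46116)) (tt N6223 (iv F46234)) (tt N4087 F36944) (tt N6224 D9938) (tt N4086 (iv D7819)) (tt N6225 D9939) (tt N6050 (iv F45400)) (tt N5066 F36945))
theorem Q5068 : ∀ i, i < 5068 → P i := stepQ 5067 Q5067 (allL N5067 (tt N5739 (iv F43706)) (tt N4362 F36946) (tt N6198 (iv F46119)) (tt N5067 F36947) (tt N6225 (iv F46242)) (tt N5067 F36948) (tt N6221 (iv F46228)) (tt N4087 (iv D7820)) (tt N6051 (iv F45403)) (tt N5067 F36949))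
theorem Q5069 : ∀ i, i < 5069 → P i := stepQ 5068 Q5068 (allL N5068 (tt N5740 (iv F43711)) (tt N4363 F36950) (tt N6199 (iv F46122)) (tt N5425 (iv F134467)) (tt N4088 (iv D7821)) (tt N6217 (iv F46211)) (tt N5424 F134341) (tt N5068 F36951) (tt N5068 F36952) (tt N5068 F36953))
theorem Q5070 : ∀ i, i < 5070 → P i := stepQ 5069 Q5069 (allL N5069 (tt N5741 (iv F43716)) (tt N4364 F36954) (tt N6200 (iv F46126)) (tt N4104 F36955) (tt N5424 (iv F133508)) (tt N4090 F36956) (tt N4088 (iv D7822)) (tt N5404 F132898) (tt N5069 F36957) (tt N5069 F36958))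
theorem Q5071 : ∀ i, i < 5071 → P i := stepQ 5070 Q5070 (allL N5070 (tt N5742 (iv F43722)) (tt N4354 F132688) (tt N6187 F132689) (tt N4089 (iv D7823)) (tt N4105 F36960) (tt N6219 (iv F46220)) (tt N4344 F132690) (tt N4091 F36961) (tt N4094 F36962) (tt N5070 F36963))
theorem Q5072 : ∀ i, i < 5072 → P i := stepQ 5071 Q5071 (allL N5071 (tt N5743 (iv F43728)) (tt N4353 F132686) (tt N6202 (iv F46135)) (tt N4344 F132687) (tt N4090 F36965) (tt N6226 D9945) (tt N4089 (iv D7824)) (tt N6227 D9946) (tt N4095 F36966) (tt N5071 F36967))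
theorem Q5073 : ∀ i, i < 5073 → P i := stepQ 5072 Q5072 (allL N5072 (tt N5744 (iv F43733)) (tt N4365 F36968) (tt N6203 (iv F46139)) (tt N4106 F36969) (tt N6227 (iv F46271)) (tt N5404 (iv F132331)) (tt N4093 F36970) (tt N4090 (iv D7825)) (tt N4096 F36971) (tt N5072 F36972))
theorem Q5074 : ∀ i, i < 5074 → P i := stepQ 5073 Q5073 (allL N5073 (tt N5745 (iv F43739)) (tt N6207 F132874) (tt N4091 (iv D7826)) (tt N6204 (iv F46144)) (tt N4107 F36973) (tt N6222 (iv F46231)) (tt N6228 D9948) (tt N6187 F132875) (tt N4097 F36974) (tt N5073 F36975))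
theorem Q5075 : ∀ i, i < 5075 → P i := stepQ 5074 Q5074 (allL N5074 (tt N5746 (iv F43743)) (tt N4367 F36976) (tt N6228 (iv F46279)) (tt N4092 F36977) (tt N4108 F36978) (tt N6229 D9949) (tt N4091 (iv D7827)) (tt N6230 D9950) (tt N4098 F36979) (tt N5074 F36980))
theorem Q5076 : ∀ i, i < 5076 → P i := stepQ 5075 Q5075 (allL N5075 (tt N5747 (iv F43749)) (tt N4368 F36981) (tt N6206 (iv F46152)) (tt N6229 (iv F46284)) (tt N5075 F36982) (tt N4092 (iv D7828)) (tt N6224 (iv F46239)) (tt N6231 D9951) (tt N6232 D9952) (tt N5075 F36983))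
theorem Q5077 : ∀ i, i < 5077 → P i := stepQ 5076 Q5076 (allL N5076 (tt N5748 (iv F43753)) (tt N4366 F132714) (tt N6207 (iv F46155)) (tt N6230 (iv F46287)) (tt N4093 F36985) (tt N6231 (iv F46293)) (tt N6227 (iv F46272)) (tt N4092 (iv D7829)) (tt N4100 F36986) (tt N5076 F36987))
theorem Q5078 : ∀ i, i < 5078 → P i := stepQ 5077 Q5077 (allL N5077 (tt N5750 (iv F43767)) (tt N4218 F132607) (tt N6208 (iv F46166)) (tt N4204 F132608) (tt N5077 F36996) (tt N4095 (iv D7832)) (tt N6066 (iv F45453)) (tt N6233 D9957) (tt N6234 D9958) (tt N4128 F36997))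
theorem Q5079 : ∀ i, i < 5079 → P i := stepQ 5078 Q5078 (allL N5078 (tt N5751 (iv F43771)) (tt N4355 (iv F132127)) (tt N6209 (iv F46169)) (tt N4345 (iv F132105)) (tt N4096 F36999) (tt N6233 (iv F46315)) (tt N4100 F37000) (tt N4095 (iv D7833)) (tt N6227 (iv F46273)) (tt N4129 F37001))
theorem Q5080 : ∀ i, i < 5080 → P i := stepQ 5079 Q5079 (allL N5079 (tt N5753 (iv F43779)) (tt N6209 F132715) (tt N4098 F37005) (tt N6211 (iv F46177)) (tt N4111 F37006) (tt N6235 D9961) (tt N4097 (iv D7835)) (tt N6189 F132716) (tt N6228 (iv F46281)) (tt N4130 F37007))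
theorem Q5081 : ∀ i, i < 5081 → P i := stepQ 5080 Q5080 (allL N5080 (tt N5754 (iv F43783)) (tt N4369 F37008) (tt N6235 (iv F46326)) (tt N4099 F37009) (tt N5080 F37010) (tt N4098 (iv D7836)) (tt N6070 (iv F45469)) (tt N6236 D9963) (tt N6237 D9964) (tt N4131 F37011))
theorem Q5082 : ∀ i, i < 5082 → P i := stepQ 5081 Q5081 (allL N5081 (tt N5755 (iv F43788)) (tt N4356 (iv F132129)) (tt N6189 (iv F132306)) (tt N4100 F37013) (tt N4112 F37014) (tt N6236 (iv F46335)) (tt N4345 (iv F132106)) (tt N4098 (iv D7837)) (tt N6230 (iv F46289)) (tt N4132 F37015))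
theorem Q5083 : ∀ i, i < 5083 → P i := stepQ 5082 Q5082 (allL N5082 (tt N5756 (iv F43793)) (tt N4240 F132588) (tt N6068 F132589) (tt N6236 (iv F46333)) (tt N4101 F37017) (tt N4100 F37018) (tt N6238 D9965) (tt N4099 (iv D7838)) (tt N6239 D9966) (tt N4133 F37019))
theorem Q5084 : ∀ i, i < 5084 → P i := stepQ 5083 Q5083 (allL N5083 (tt N5757 (iv F43798)) (tt N4370 F37020) (tt N6213 (iv F46189)) (tt N6237 (iv F46338)) (tt N4102 F37021) (tt N6232 (iv F46297)) (tt N6073 (iv F45481)) (tt N6239 (iv F46345)) (tt N4099 (iv D7839)) (tt N6240 D9967))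
theorem Q5085 : ∀ i, i < 5085 → P i := stepQ 5084 Q5084 (allL N5084 (tt N5758 (iv F43801)) (tt N4262 F132592) (tt N6096 F132593) (tt N5084 F37023) (tt N6238 (iv F46341)) (tt N5084 F37024) (tt N4101 (iv D7840)) (tt N6074 (iv F45485)) (tt N6241 D9968) (tt N4135 F37025))
theorem Q5086 : ∀ i, i < 5086 → P i := stepQ 5085 Q5085 (allL N5085 (tt N5759 (iv F43806)) (tt N4257 F132590) (tt N6088 F132591) (tt N5085 F37027) (tt N6239 (iv F46344)) (tt N5085 F37028) (tt N6241 (iv F46351)) (tt N4102 F37029) (tt N4101 (iv D7841)) (tt N6242 D9969))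
theorem Q5087 : ∀ i, i < 5087 → P i := stepQ 5086 Q5086 (allL N5086 (tt N5760 (iv F43811)) (tt N4371 F37030) (tt N6216 (iv F46207)) (tt N5086 F37031) (tt N6240 (iv F46347)) (tt N5086 F37032) (tt N6076 (iv F45492)) (tt N6242 (iv F46355)) (tt N4137 F37033) (tt N4102 (iv D7842)))
theorem Q5088 : ∀ i, i < 5088 → P i := stepQ 5087 Q5087 (allL N5087 (tt N5763 (iv F43863)) (tt N6203 F132869) (tt N4108 F37074) (tt N5087 F37075) (tt N6228 (iv F46280)) (tt N6243 D9982) (tt N4107 (iv D7851)) (tt N6185 F132870) (tt N4111 F37076) (tt N5087 F37077))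
theorem Q5089 : ∀ i, i < 5089 → P i := stepQ 5088 Q5088 (allL N5088 (tt N5764 (iv F43868)) (tt N4374 F37078) (tt N6243 (iv F46415)) (tt N4109 F37079) (tt N6244 D9984) (tt N4108 (iv D7852)) (tt N5088 F37080) (tt N5403 F133877) (tt N5088 F37081) (tt N5088 F37082))
theorem Q5090 : ∀ i, i < 5090 → P i := stepQ 5089 Q5089 (allL N5089 (tt N5765 (iv F43874)) (tt N4352 F132682) (tt N6185 F132683) (tt N4110 F37084) (tt N6230 (iv F46288)) (tt N5403 (iv F133232)) (tt N4343 F132684) (tt N4108 (iv D7853)) (tt N4112 F37085) (tt N5089 F37086))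
theorem Q5091 : ∀ i, i < 5091 → P i := stepQ 5090 Q5090 (allL N5090 (tt N4115 F37161) (tt N5768 (iv F43967)) (tt N4376 F37162) (tt N6245 D10004) (tt N4113 (iv D7870)) (tt N6101 (iv F45614)) (tt N5798 (iv F132337)) (tt N4114 F37163) (tt N5090 F37164) (tt N6180 (iv F45979)))
theorem Q5092 : ∀ i, i < 5092 → P i := stepQ 5091 Q5091 (allL N5091 (tt N4117 F37170) (tt N5770 (iv F43978)) (tt N5782 (iv F132346)) (tt N4114 (iv D7872)) (tt N5091 F37171) (tt N6103 (iv F45620)) (tt N5781 (iv F132349)) (tt N6245 (iv F46518)) (tt N5091 F37172) (tt N6181 (iv F45987)))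
theorem Q5093 : ∀ i, i < 5093 → P i := stepQ 5092 Q5092 (allL N5092 (tt N6245 (iv F46516)) (tt N4119 F37198) (tt N6246 D10017) (tt N4115 (iv D7879)) (tt N5092 F37199) (tt N6113 (iv F45663)) (tt N6247 D10018) (tt N4117 F37200) (tt N5092 F37201) (tt N6188 (iv F46053)))
theorem Q5094 : ∀ i, i < 5094 → P i := stepQ 5093 Q5093 (allL N5093 (tt N5798 (iv F132335)) (tt N4120 F37202) (tt N4132 (iv F131871)) (tt N6247 (iv F46573)) (tt N4116 F37204) (tt N6248 D10019) (tt N4115 (iv D7880)) (tt N4130 (iv F132344)) (tt N5093 F37205) (tt N6189 (iv F46057)))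
theorem Q5095 : ∀ i, i < 5095 → P i := stepQ 5094 Q5094 (allL N5094 (tt N5782 (iv F132345)) (tt N6247 (iv F132340)) (tt N4117 (iv D7882)) (tt N4120 (iv F132155)) (tt N5094 F37213) (tt N6116 (iv F45673)) (tt N4119 (iv F132353)) (tt N6246 (iv F46570)) (tt N5094 F37214) (tt N6190 (iv F46066)))
theorem Q5096 : ∀ i, i < 5096 → P i := stepQ 5095 Q5095 (allL N5095 (tt N5781 (iv F132347)) (tt N4123 F37215) (tt N4119 (iv F132352)) (tt N4118 F37216) (tt N5095 F37217) (tt N6129 (iv F132271)) (tt N4117 (iv D7883)) (tt N4122 (iv F132354)) (tt N5095 F37218) (tt N6191 (iv F46070)))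
theorem Q5097 : ∀ i, i < 5097 → P i := stepQ 5096 Q5096 (allL N5096 (tt N5783 (iv F44066)) (tt N6248 (iv F46576)) (tt N4128 F37251) (tt N6116 F132722) (tt N5096 F37252) (tt N4120 (iv D7893)) (tt N6131 (iv F45726)) (tt N6249 D10039) (tt N6250 D10040) (tt N6208 (iv F46168)))
theorem Q5098 : ∀ i, i < 5098 → P i := stepQ 5097 Q5097 (allL N5097 (tt N5784 (iv F44069)) (tt N4130 (iv F132343)) (tt N4129 F37253) (tt N6246 (iv F132350)) (tt N4121 F37254) (tt N6249 (iv F46648)) (tt N4125 F37255) (tt N4120 (iv D7894)) (tt N5097 F37256) (tt N6209 (iv F46172)))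
theorem Q5099 : ∀ i, i < 5099 → P i := stepQ 5098 Q5098 (allL N5098 (tt N5788 (iv F132356)) (tt N4122 (iv D7895)) (tt N6247 (iv F132341)) (tt N4125 F131864) (tt N5098 F37258) (tt N6133 (iv F45731)) (tt N6246 (iv F132338)) (tt N4123 (iv F132351)) (tt N5098 F37259) (tt N6210 (iv F46175)))
theorem Q5100 : ∀ i, i < 5100 → P i := stepQ 5099 Q5099 (allL N5099 (tt N5786 (iv F44077)) (tt N6246 F132355) (tt N4123 F37260) (tt N4130 F37261) (tt N5099 F37262) (tt N6251 D10043) (tt N4122 (iv D7896)) (tt N6247 (iv F132339)) (tt N5099 F37263) (tt N6211 (iv F46179)))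
theorem Q5101 : ∀ i, i < 5101 → P i := stepQ 5100 Q5100 (allL N5100 (tt N5787 (iv F44082)) (tt N6129 F132822) (tt N6251 (iv F46659)) (tt N4124 F37264) (tt N6252 D10045) (tt N4123 (iv D7897)) (tt N6135 (iv F45735)) (tt N6133 F132823) (tt N6253 D10047) (tt N6212 (iv F46181)))
theorem Q5102 : ∀ i, i < 5102 → P i := stepQ 5101 Q5101 (allL N5101 (tt N5790 (iv F44092)) (tt N5470 (iv F132288)) (tt N4134 F37271) (tt N6253 (iv F46669)) (tt N4127 F37272) (tt N5101 F37273) (tt N6138 (iv F45742)) (tt N6148 (iv F132272)) (tt N4124 (iv D7900)) (tt N6254 D10050))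
theorem Q5103 : ∀ i, i < 5103 → P i := stepQ 5102 Q5102 (allL N5102 (tt N5791 (iv F44096)) (tt N5656 (iv F132295)) (tt N5102 F37274) (tt N6252 (iv F46665)) (tt N4126 (iv D7901)) (tt N5102 F37275) (tt N6139 (iv F45744)) (tt N5910 (iv F132182)) (tt N5664 (iv F132361)) (tt N6214 (iv F46193)))
theorem Q5104 : ∀ i, i < 5104 → P i := stepQ 5103 Q5103 (allL N5103 (tt N5793 (iv F44114)) (tt N5453 (iv F132296)) (tt N4137 F37287) (tt N5611 (iv F132362)) (tt N6254 (iv F46678)) (tt N4138 F37288) (tt N6143 (iv F45760)) (tt N6167 (iv F132281)) (tt N6216 (iv F46209)) (tt N4127 (iv D7906)))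
theorem Q5105 : ∀ i, i < 5105 → P i := stepQ 5104 Q5104 (allL N5104 (tt N5794 (iv F44134)) (tt N4291 (iv F132053)) (tt N6249 (iv F46646)) (tt N4278 (iv F132048)) (tt N5104 F37304) (tt N4129 F37305) (tt N6255 D10065) (tt N4128 (iv D7911)) (tt N6256 D10066) (tt N6233 (iv F46316)))
theorem Q5106 : ∀ i, i < 5106 → P i := stepQ 5105 Q5105 (allL N5105 (tt N5795 (iv F44138)) (tt N4288 F132605) (tt N6250 (iv F46649)) (tt N4276 F132606) (tt N5105 F37307) (tt N5105 F37308) (tt N6156 (iv F45814)) (tt N6256 (iv F46728)) (tt N4128 (iv D7912)) (tt N6257 D10067))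
theorem Q5107 : ∀ i, i < 5107 → P i := stepQ 5106 Q5106 (allL N5106 (tt N5797 (iv F44150)) (tt N6249 F132364) (tt N4131 F37316) (tt N6251 (iv F46660)) (tt N5106 F37317) (tt N4130 (iv D7915)) (tt N6158 (iv F45823)) (tt N6248 F132365) (tt N6258 D10072) (tt N6235 (iv F46328)))
theorem Q5108 : ∀ i, i < 5108 → P i := stepQ 5107 Q5107 (allL N5107 (tt N5799 (iv F44157)) (tt N4294 (iv F132055)) (tt N6248 (iv F132342)) (tt N4133 F37322) (tt N5107 F37323) (tt N4132 F37324) (tt N6259 D10073) (tt N4131 (iv D7917)) (tt N6260 D10074) (tt N6236 (iv F46336)))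
theorem Q5109 : ∀ i, i < 5109 → P i := stepQ 5108 Q5108 (allL N5108 (tt N5800 (iv F44162)) (tt N4377 F37325) (tt N6258 (iv F46746)) (tt N4134 F37326) (tt N5108 F37327) (tt N5108 F37328) (tt N6161 (iv F45833)) (tt N6260 (iv F46756)) (tt N4131 (iv D7918)) (tt N6261 D10075))
theorem Q5110 : ∀ i, i < 5110 → P i := stepQ 5109 Q5109 (allL N5109 (tt N5801 (iv F44167)) (tt N4314 F132638) (tt N6157 F132639) (tt N6259 (iv F46750)) (tt N4135 F37330) (tt N6255 (iv F46724)) (tt N4133 (iv D7919)) (tt N6162 (iv F45836)) (tt N6262 D10076) (tt N6238 (iv F46342)))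
theorem Q5111 : ∀ i, i < 5111 → P i := stepQ 5110 Q5110 (allL N5110 (tt N5802 (iv F44170)) (tt N4309 F132636) (tt N6148 F132637) (tt N6260 (iv F46753)) (tt N4136 F37332) (tt N5110 F37333) (tt N6262 (iv F46763)) (tt N4134 F37334) (tt N4133 (iv D7920)) (tt N6263 D10077))
theorem Q5112 : ∀ i, i < 5112 → P i := stepQ 5111 Q5111 (allL N5111 (tt N5803 (iv F44175)) (tt N4378 F37335) (tt N6254 (iv F46677)) (tt N6261 (iv F46758)) (tt N4137 F37336) (tt N5111 F37337) (tt N6164 (iv F45842)) (tt N6263 (iv F46767)) (tt N6240 (iv F46348)) (tt N4134 (iv D7921)))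
theorem Q5113 : ∀ i, i < 5113 → P i := stepQ 5112 Q5112 (allL N5112 (tt N5804 (iv F44179)) (tt N4330 F132655) (tt N6173 F132656) (tt N5112 F37339) (tt N6262 (iv F46762)) (tt N6264 D10078) (tt N4136 F37340) (tt N6165 (iv F45846)) (tt N4135 (iv D7922)) (tt N6265 D10079))
theorem Q5114 : ∀ i, i < 5114 → P i := stepQ 5113 Q5113 (allL N5113 (tt N5805 (iv F44183)) (tt N4326 F132653) (tt N6167 F132654) (tt N5113 F37342) (tt N6263 (iv F46765)) (tt N4140 F37343) (tt N6265 (iv F46774)) (tt N4137 F37344) (tt N6242 (iv F46356)) (tt N4136 (iv D7923)))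
theorem Q5115 : ∀ i, i < 5115 → P i := stepQ 5114 Q5114 (allL N5114 (tt N5633 F131876) (tt N4337 (iv F132101)) (tt N5622 F131877) (tt N5114 F37533) (tt N6266 D10128) (tt N4139 (iv D7965)) (tt N6264 (iv F46770)) (tt N5114 F37534) (tt N5114 F37535) (tt N6267 D10129))
theorem Q5116 : ∀ i, i < 5116 → P i := stepQ 5115 Q5115 (allL N5115 (tt N5710 F131878) (tt N4334 (iv F132096)) (tt N5697 F131879) (tt N5115 F37537) (tt N5115 F37538) (tt N6267 (iv F46994)) (tt N4140 F37539) (tt N5115 F37540) (tt N5115 F37541) (tt N4139 (iv D7966)))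
theorem Q5117 : ∀ i, i < 5117 → P i := stepQ 5116 Q5116 (allL N5116 (tt N4145 F37542) (tt N5116 F37543) (tt N5921 (iv F44925)) (tt N5116 F37544) (tt N5505 (iv F42462)) (tt N6268 D10130) (tt N4194 F37545) (tt N5502 (iv F42446)) (tt N4141 (iv D7967)) (tt N5501 (iv F42440)))
theorem Q5118 : ∀ i, i < 5118 → P i := stepQ 5117 Q5117 (allL N5117 (tt N4146 F37546) (tt N5117 F37547) (tt N5698 (iv F43506)) (tt N5117 F37548) (tt N5117 F37549) (tt N6269 D10131) (tt N5117 F37550) (tt N4143 F37551) (tt N4142 (iv D7968)) (tt N5117 F37552))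
theorem Q5119 : ∀ i, i < 5119 → P i := stepQ 5118 Q5118 (allL N5118 (tt N4147 F37553) (tt N5118 F37554) (tt N5922 (iv F44928)) (tt N5118 F37555) (tt N6270 D10132) (tt N4143 (iv D7969)) (tt N6271 D10133) (tt N6269 (iv F47003)) (tt N6268 (iv F46999)) (tt N5118 F37556))
theorem Q5120 : ∀ i, i < 5120 → P i := stepQ 5119 Q5119 (allL N5119 (tt N4148 F37557) (tt N5119 F37558) (tt N5923 (iv F44931)) (tt N5615 (iv F133181)) (tt N4144 (iv D7970)) (tt N5119 F37559) (tt N6272 D10135) (tt N5119 F37560) (tt N4197 F37561) (tt N5119 F37562))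
theorem Q5121 : ∀ i, i < 5121 → P i := stepQ 5120 Q5120 (allL N5120 (tt N4149 F37563) (tt N5120 F37564) (tt N5924 (iv F44937)) (tt N5120 F37565) (tt N6272 (iv F47023)) (tt N6271 (iv F47012)) (tt N4144 (iv D7971)) (tt N6273 D10136) (tt N4198 F37566) (tt N5120 F37567))
theorem Q5122 : ∀ i, i < 5122 → P i := stepQ 5121 Q5121 (allL N5121 (tt N6268 (iv F46996)) (tt N4153 F37568) (tt N5928 (iv F44959)) (tt N5121 F37569) (tt N6274 D10137) (tt N4145 (iv D7972)) (tt N6275 D10138) (tt N5951 (iv F45044)) (tt N4147 F37570) (tt N5950 (iv F45041)))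
theorem Q5123 : ∀ i, i < 5123 → P i := stepQ 5122 Q5122 (allL N5122 (tt N6269 (iv F47000)) (tt N4154 F37571) (tt N5929 (iv F44962)) (tt N5122 F37572) (tt N6276 D10139) (tt N4146 (iv D7973)) (tt N6277 D10140) (tt N4147 F37573) (tt N5951 (iv F45045)) (tt N5122 F37574))
theorem Q5124 : ∀ i, i < 5124 → P i := stepQ 5123 Q5123 (allL N5123 (tt N6270 (iv F47005)) (tt N4155 F37575) (tt N5930 (iv F44966)) (tt N6278 D10141) (tt N4147 (iv D7974)) (tt N5123 F37576) (tt N6279 D10142) (tt N6276 (iv F47040)) (tt N6274 (iv F47033)) (tt N5123 F37577))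
theorem Q5125 : ∀ i, i < 5125 → P i := stepQ 5124 Q5124 (allL N5124 (tt N6271 (iv F47009)) (tt N4156 F37578) (tt N5931 (iv F44970)) (tt N5124 F37579) (tt N6279 (iv F47051)) (tt N4149 F37580) (tt N4147 (iv D7975)) (tt N6280 D10143) (tt N6275 (iv F47037)) (tt N5124 F37581))
theorem Q5126 : ∀ i, i < 5126 → P i := stepQ 5125 Q5125 (allL N5125 (tt N6272 (iv F47021)) (tt N4158 F37588) (tt N5933 (iv F44979)) (tt N6095 (iv F133222)) (tt N4149 F37589) (tt N6281 D10146) (tt N4148 (iv D7977)) (tt N6282 D10147) (tt N4206 F37590) (tt N5125 F37591))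
theorem Q5127 : ∀ i, i < 5127 → P i := stepQ 5126 Q5126 (allL N5126 (tt N6273 (iv F47026)) (tt N4159 F37592) (tt N5934 (iv F44984)) (tt N5126 F37593) (tt N6282 (iv F47072)) (tt N6280 (iv F47055)) (tt N5126 F37594) (tt N4149 (iv D7978)) (tt N4207 F37595) (tt N5126 F37596))
theorem Q5128 : ∀ i, i < 5128 → P i := stepQ 5127 Q5127 (allL N5127 (tt N5127 F37597) (tt N5955 (iv F45059)) (tt N4160 F37598) (tt N4175 F37599) (tt N6283 D10148) (tt N4150 (iv D7979)) (tt N6284 D10149) (tt N4163 F37600) (tt N5127 F37601) (tt N4162 F37602))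
theorem Q5129 : ∀ i, i < 5129 → P i := stepQ 5128 Q5128 (allL N5128 (tt N5128 F37603) (tt N5951 (iv F45042)) (tt N4162 F37604) (tt N5128 F37605) (tt N6285 D10150) (tt N4151 (iv D7980)) (tt N6286 D10151) (tt N4153 F37606) (tt N4154 F37607) (tt N4160 F37608))
theorem Q5130 : ∀ i, i < 5130 → P i := stepQ 5129 Q5129 (allL N5129 (tt N5129 F37609) (tt N5950 (iv F45037)) (tt N4163 F37610) (tt N5129 F37611) (tt N6287 D10152) (tt N4152 (iv D7981)) (tt N6288 D10153) (tt N4160 F37612) (tt N5129 F37613) (tt N4153 F37614))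
theorem Q5131 : ∀ i, i < 5131 → P i := stepQ 5130 Q5130 (allL N5130 (tt N5130 F37615) (tt N6274 (iv F47032)) (tt N4164 F37616) (tt N6289 D10154) (tt N4153 (iv D7982)) (tt N6283 (iv F47078)) (tt N6290 D10155) (tt N6285 (iv F47091)) (tt N4155 F37617) (tt N6287 (iv F47105)))
theorem Q5132 : ∀ i, i < 5132 → P i := stepQ 5131 Q5131 (allL N5131 (tt N5131 F37618) (tt N6275 (iv F47034)) (tt N4165 F37619) (tt N5131 F37620) (tt N6290 (iv F47117)) (tt N4215 F37621) (tt N4153 (iv D7983)) (tt N6291 D10156) (tt N4156 F37622) (tt N6288 (iv F47111)))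
theorem Q5133 : ∀ i, i < 5133 → P i := stepQ 5132 Q5132 (allL N5132 (tt N5132 F37623) (tt N6276 (iv F47038)) (tt N4166 F37624) (tt N6292 D10157) (tt N4154 (iv D7984)) (tt N5132 F37625) (tt N6293 D10158) (tt N4155 F37626) (tt N6285 (iv F47092)) (tt N5132 F37627))
theorem Q5134 : ∀ i, i < 5134 → P i := stepQ 5133 Q5133 (allL N5133 (tt N5133 F37628) (tt N6277 (iv F47042)) (tt N4167 F37629) (tt N5133 F37630) (tt N6293 (iv F47131)) (tt N5133 F37631) (tt N4154 (iv D7985)) (tt N6294 D10159) (tt N6286 (iv F47098)) (tt N5133 F37632))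
theorem Q5135 : ∀ i, i < 5135 → P i := stepQ 5134 Q5134 (allL N5134 (tt N5134 F37633) (tt N6278 (iv F47046)) (tt N6295 D10160) (tt N4155 (iv D7986)) (tt N5134 F37634) (tt N5134 F37635) (tt N6296 D10161) (tt N6292 (iv F47127)) (tt N6289 (iv F47114)) (tt N5134 F37636))
theorem Q5136 : ∀ i, i < 5136 → P i := stepQ 5135 Q5135 (allL N5135 (tt N5135 F37637) (tt N6279 (iv F47050)) (tt N4169 F37638) (tt N6296 (iv F47145)) (tt N4156 F37639) (tt N6297 D10162) (tt N4155 (iv D7987)) (tt N6298 D10163) (tt N6290 (iv F47118)) (tt N5135 F37640))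
theorem Q5137 : ∀ i, i < 5137 → P i := stepQ 5136 Q5136 (allL N5136 (tt N5136 F37641) (tt N6280 (iv F47053)) (tt N4170 F37642) (tt N5136 F37643) (tt N6298 (iv F47155)) (tt N4159 F37644) (tt N6294 (iv F47137)) (tt N4156 (iv D7988)) (tt N6291 (iv F47123)) (tt N5136 F37645))
theorem Q5138 : ∀ i, i < 5138 → P i := stepQ 5137 Q5137 (allL N5137 (tt N5137 F37646) (tt N6095 (iv F133221)) (tt N5137 F37647) (tt N4158 F37648) (tt N5137 F37649) (tt N6299 D10164) (tt N4157 (iv D7989)) (tt N6300 D10165) (tt N4221 F37650) (tt N5137 F37651))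
theorem Q5139 : ∀ i, i < 5139 → P i := stepQ 5138 Q5138 (allL N5138 (tt N5138 F37652) (tt N6281 (iv F47068)) (tt N4171 F37653) (tt N6299 (iv F47159)) (tt N6297 (iv F47150)) (tt N4158 (iv D7990)) (tt N5138 F37654) (tt N6301 D10166) (tt N6302 D10167) (tt N5138 F37655))
theorem Q5140 : ∀ i, i < 5140 → P i := stepQ 5139 Q5139 (allL N5139 (tt N5139 F37656) (tt N6282 (iv F47071)) (tt N4172 F37657) (tt N6300 (iv F47164)) (tt N4159 F37658) (tt N6301 (iv F47171)) (tt N5139 F37659) (tt N4158 (iv D7991)) (tt N4223 F37660) (tt N5139 F37661))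
theorem Q5141 : ∀ i, i < 5141 → P i := stepQ 5140 Q5140 (allL N5140 (tt N5140 F37662) (tt N5952 (iv F45047)) (tt N6283 (iv F47077)) (tt N6303 D10168) (tt N4160 (iv D7992)) (tt N4164 F37663) (tt N6304 D10169) (tt N6287 (iv F47103)) (tt N5140 F37664) (tt N6285 (iv F47093)))
theorem Q5142 : ∀ i, i < 5142 → P i := stepQ 5141 Q5141 (allL N5141 (tt N5141 F37665) (tt N5953 (iv F45050)) (tt N6284 (iv F47083)) (tt N5141 F37666) (tt N6304 (iv F47182)) (tt N4227 F37667) (tt N4160 (iv D7993)) (tt N6305 D10170) (tt N5141 F37668) (tt N6286 (iv F47099)))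
theorem Q5143 : ∀ i, i < 5143 → P i := stepQ 5142 Q5142 (allL N5142 (tt N5142 F37669) (tt N5954 (iv F45054)) (tt N4225 F37670) (tt N4174 F37671) (tt N6306 D10171) (tt N4161 (iv D7994)) (tt N6307 D10172) (tt N4228 F37672) (tt N5142 F37673) (tt N4209 F37674))
theorem Q5144 : ∀ i, i < 5144 → P i := stepQ 5143 Q5143 (allL N5143 (tt N5143 F37675) (tt N5956 (iv F45064)) (tt N6285 (iv F47089)) (tt N6308 D10173) (tt N4162 (iv D7995)) (tt N6287 (iv F47102)) (tt N6309 D10174) (tt N4164 F37676) (tt N4166 F37677) (tt N6283 (iv F47081)))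
theorem Q5145 : ∀ i, i < 5145 → P i := stepQ 5144 Q5144 (allL N5144 (tt N5144 F37678) (tt N5957 (iv F45067)) (tt N6286 (iv F47095)) (tt N4177 F37679) (tt N6309 (iv F47205)) (tt N6307 (iv F47197)) (tt N4162 (iv D7996)) (tt N6310 D10175) (tt N4167 F37680) (tt N6284 (iv F47087)))
theorem Q5146 : ∀ i, i < 5146 → P i := stepQ 5145 Q5145 (allL N5145 (tt N5145 F37681) (tt N5958 (iv F45070)) (tt N6287 (iv F47101)) (tt N6311 D10176) (tt N4163 (iv D7997)) (tt N6285 (iv F47090)) (tt N6312 D10177) (tt N6283 (iv F47079)) (tt N5145 F37682) (tt N4164 F37683))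
theorem Q5147 : ∀ i, i < 5147 → P i := stepQ 5146 Q5146 (allL N5146 (tt N5146 F37684) (tt N5959 (iv F45073)) (tt N6288 (iv F47107)) (tt N4179 F37685) (tt N6312 (iv F47216)) (tt N4233 F37686) (tt N4163 (iv D7998)) (tt N6313 D10178) (tt N5146 F37687) (tt N4165 F37688))
theorem Q5148 : ∀ i, i < 5148 → P i := stepQ 5147 Q5147 (allL N5147 (tt N5147 F37689) (tt N5960 (iv F45078)) (tt N6314 D10179) (tt N4164 (iv D7999)) (tt N4180 F37690) (tt N6303 (iv F47179)) (tt N6315 D10180) (tt N6308 (iv F47202)) (tt N4168 F37691) (tt N6311 (iv F47214)))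
theorem Q5149 : ∀ i, i < 5149 → P i := stepQ 5148 Q5148 (allL N5148 (tt N5148 F37692) (tt N5961 (iv F45081)) (tt N6290 (iv F47116)) (tt N6315 (iv F47228)) (tt N4165 F37693) (tt N6316 D10181) (tt N4164 (iv D8000)) (tt N6317 D10182) (tt N4169 F37694) (tt N6312 (iv F47218)))
theorem Q5150 : ∀ i, i < 5150 → P i := stepQ 5149 Q5149 (allL N5149 (tt N5149 F37695) (tt N5962 (iv F45084)) (tt N6291 (iv F47120)) (tt N4182 F37696) (tt N6317 (iv F47234)) (tt N4236 F37697) (tt N6310 (iv F47209)) (tt N4165 (iv D8001)) (tt N4170 F37698) (tt N6313 (iv F47223)))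
theorem Q5151 : ∀ i, i < 5151 → P i := stepQ 5150 Q5150 (allL N5150 (tt N5150 F37699) (tt N5963 (iv F45088)) (tt N6318 D10183) (tt N4166 (iv D8002)) (tt N4183 F37700) (tt N5150 F37701) (tt N6319 D10184) (tt N4168 F37702) (tt N6308 (iv F47203)) (tt N5150 F37703))
theorem Q5152 : ∀ i, i < 5152 → P i := stepQ 5151 Q5151 (allL N5151 (tt N5151 F37704) (tt N5964 (iv F45093)) (tt N6293 (iv F47130)) (tt N6319 (iv F47242)) (tt N4167 F37705) (tt N6320 D10185) (tt N4166 (iv D8003)) (tt N6321 D10186) (tt N6309 (iv F47206)) (tt N5151 F37706))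
theorem Q5153 : ∀ i, i < 5153 → P i := stepQ 5152 Q5152 (allL N5152 (tt N5152 F37707) (tt N5965 (iv F45096)) (tt N6294 (iv F47134)) (tt N4185 F37708) (tt N6321 (iv F47250)) (tt N5152 F37709) (tt N4170 F37710) (tt N4167 (iv D8004)) (tt N6310 (iv F47210)) (tt N5152 F37711))
theorem Q5154 : ∀ i, i < 5154 → P i := stepQ 5153 Q5153 (allL N5153 (tt N5153 F37712) (tt N6322 D10187) (tt N4168 (iv D8005)) (tt N6295 (iv F47140)) (tt N4186 F37713) (tt N5153 F37714) (tt N6323 D10188) (tt N6318 (iv F47239)) (tt N6314 (iv F47226)) (tt N5153 F37715))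
theorem Q5155 : ∀ i, i < 5155 → P i := stepQ 5154 Q5154 (allL N5154 (tt N5154 F37716) (tt N5967 (iv F45104)) (tt N6323 (iv F47257)) (tt N4169 F37717) (tt N4187 F37718) (tt N6324 D10189) (tt N4168 (iv D8006)) (tt N6325 D10190) (tt N6315 (iv F47230)) (tt N5154 F37719))
theorem Q5156 : ∀ i, i < 5156 → P i := stepQ 5155 Q5155 (allL N5155 (tt N5155 F37720) (tt N5968 (iv F45108)) (tt N6297 (iv F47149)) (tt N6324 (iv F47261)) (tt N4171 F37721) (tt N4169 (iv D8007)) (tt N5155 F37722) (tt N6326 D10191) (tt N6327 D10192) (tt N5155 F37723))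
theorem Q5157 : ∀ i, i < 5157 → P i := stepQ 5156 Q5156 (allL N5156 (tt N5156 F37724) (tt N5969 (iv F45112)) (tt N6298 (iv F47154)) (tt N6325 (iv F47266)) (tt N4170 F37725) (tt N6326 (iv F47271)) (tt N6321 (iv F47251)) (tt N4169 (iv D8008)) (tt N6317 (iv F47235)) (tt N5156 F37726))
theorem Q5158 : ∀ i, i < 5158 → P i := stepQ 5157 Q5157 (allL N5157 (tt N5157 F37727) (tt N5970 (iv F45115)) (tt N6301 (iv F47170)) (tt N5157 F37728) (tt N6326 (iv F47270)) (tt N4172 F37729) (tt N6328 D10193) (tt N4171 (iv D8009)) (tt N6329 D10194) (tt N5157 F37730))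
theorem Q5159 : ∀ i, i < 5159 → P i := stepQ 5158 Q5158 (allL N5158 (tt N5158 F37731) (tt N5971 (iv F45119)) (tt N6302 (iv F47174)) (tt N5158 F37732) (tt N6327 (iv F47274)) (tt N4245 F37733) (tt N5158 F37734) (tt N6329 (iv F47284)) (tt N4171 (iv D8010)) (tt N6330 D10195))
theorem Q5160 : ∀ i, i < 5160 → P i := stepQ 5159 Q5159 (allL N5159 (tt N5159 F37735) (tt N5416 (iv F41954)) (tt N5159 F37736) (tt N4209 F37737) (tt N6331 D10196) (tt N4173 (iv D8011)) (tt N6332 D10197) (tt N4246 F37738) (tt N4346 F37739) (tt N4174 F37740))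
theorem Q5161 : ∀ i, i < 5161 → P i := stepQ 5160 Q5160 (allL N5160 (tt N5160 F37741) (tt N5972 (iv F45123)) (tt N5160 F37742) (tt N6333 D10198) (tt N4174 (iv D8012)) (tt N5160 F37743) (tt N6334 D10199) (tt N4247 F37744) (tt N5160 F37745) (tt N6331 (iv F47295)))
theorem Q5162 : ∀ i, i < 5162 → P i := stepQ 5161 Q5161 (allL N5161 (tt N5161 F37746) (tt N5973 (iv F45127)) (tt N5161 F37747) (tt N6307 (iv F47196)) (tt N6334 (iv F47308)) (tt N4177 F37748) (tt N4174 (iv D8013)) (tt N6335 D10200) (tt N5161 F37749) (tt N6332 (iv F47301)))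
theorem Q5163 : ∀ i, i < 5163 → P i := stepQ 5162 Q5162 (allL N5162 (tt N5162 F37750) (tt N5974 (iv F45130)) (tt N5162 F37751) (tt N6336 D10201) (tt N4175 (iv D8014)) (tt N5162 F37752) (tt N6337 D10202) (tt N4178 F37753) (tt N5162 F37754) (tt N4176 F37755))
theorem Q5164 : ∀ i, i < 5164 → P i := stepQ 5163 Q5163 (allL N5163 (tt N5163 F37756) (tt N5975 (iv F45135)) (tt N5163 F37757) (tt N6284 (iv F47084)) (tt N6337 (iv F47322)) (tt N6332 (iv F47299)) (tt N4175 (iv D8015)) (tt N6338 D10203) (tt N5163 F37758) (tt N4177 F37759))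
theorem Q5165 : ∀ i, i < 5165 → P i := stepQ 5164 Q5164 (allL N5164 (tt N5164 F37760) (tt N5976 (iv F45138)) (tt N6339 D10204) (tt N4176 (iv D8016)) (tt N6308 (iv F47201)) (tt N5164 F37761) (tt N6340 D10205) (tt N4180 F37762) (tt N4183 F37763) (tt N6336 (iv F47319)))
theorem Q5166 : ∀ i, i < 5166 → P i := stepQ 5165 Q5165 (allL N5165 (tt N5165 F37764) (tt N5977 (iv F45142)) (tt N5165 F37765) (tt N6340 (iv F47336)) (tt N4177 F37766) (tt N6341 D10206) (tt N4176 (iv D8017)) (tt N6342 D10207) (tt N4184 F37767) (tt N6337 (iv F47324)))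
theorem Q5167 : ∀ i, i < 5167 → P i := stepQ 5166 Q5166 (allL N5166 (tt N5166 F37768) (tt N5978 (iv F45145)) (tt N5166 F37769) (tt N6310 (iv F47208)) (tt N6342 (iv F47343)) (tt N6335 (iv F47312)) (tt N4182 F37770) (tt N4177 (iv D8018)) (tt N4185 F37771) (tt N6338 (iv F47329)))
theorem Q5168 : ∀ i, i < 5168 → P i := stepQ 5167 Q5167 (allL N5167 (tt N5167 F37772) (tt N5979 (iv F45148)) (tt N6343 D10208) (tt N4178 (iv D8019)) (tt N6311 (iv F47212)) (tt N5167 F37773) (tt N6344 D10209) (tt N6336 (iv F47317)) (tt N5167 F37774) (tt N4180 F37775))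
theorem Q5169 : ∀ i, i < 5169 → P i := stepQ 5168 Q5168 (allL N5168 (tt N5168 F37776) (tt N5980 (iv F45152)) (tt N5168 F37777) (tt N6344 (iv F47352)) (tt N4179 F37778) (tt N6345 D10210) (tt N4178 (iv D8020)) (tt N6346 D10211) (tt N5168 F37779) (tt N4181 F37780))
theorem Q5170 : ∀ i, i < 5170 → P i := stepQ 5169 Q5169 (allL N5169 (tt N5169 F37781) (tt N5981 (iv F45156)) (tt N5169 F37782) (tt N6313 (iv F47220)) (tt N6346 (iv F47362)) (tt N4256 F37783) (tt N6338 (iv F47327)) (tt N4179 (iv D8021)) (tt N5169 F37784) (tt N4182 F37785))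
theorem Q5171 : ∀ i, i < 5171 → P i := stepQ 5170 Q5170 (allL N5170 (tt N5170 F37786) (tt N6347 D10212) (tt N4180 (iv D8022)) (tt N5170 F37787) (tt N6314 (iv F47225)) (tt N5170 F37788) (tt N6348 D10213) (tt N6339 (iv F47333)) (tt N4186 F37789) (tt N6343 (iv F47350)))
theorem Q5172 : ∀ i, i < 5172 → P i := stepQ 5171 Q5171 (allL N5171 (tt N5171 F37790) (tt N5983 (iv F45162)) (tt N6348 (iv F47369)) (tt N4181 F37791) (tt N6315 (iv F47229)) (tt N6349 D10214) (tt N4180 (iv D8023)) (tt N6350 D10215) (tt N4187 F37792) (tt N6344 (iv F47354)))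
theorem Q5173 : ∀ i, i < 5173 → P i := stepQ 5172 Q5172 (allL N5172 (tt N5172 F37793) (tt N5984 (iv F45165)) (tt N5172 F37794) (tt N6349 (iv F47373)) (tt N4259 F37795) (tt N4181 (iv D8024)) (tt N5172 F37796) (tt N6351 D10216) (tt N5172 F37797) (tt N6345 (iv F47359)))
theorem Q5174 : ∀ i, i < 5174 → P i := stepQ 5173 Q5173 (allL N5173 (tt N5173 F37798) (tt N5985 (iv F45169)) (tt N5173 F37799) (tt N6350 (iv F47377)) (tt N4182 F37800) (tt N6351 (iv F47382)) (tt N6342 (iv F47344)) (tt N4181 (iv D8025)) (tt N4188 F37801) (tt N6346 (iv F47364)))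
theorem Q5175 : ∀ i, i < 5175 → P i := stepQ 5174 Q5174 (allL N5174 (tt N5174 F37802) (tt N6352 D10217) (tt N4183 (iv D8026)) (tt N5174 F37803) (tt N6318 (iv F47237)) (tt N4189 F37804) (tt N6353 D10218) (tt N4186 F37805) (tt N6339 (iv F47334)) (tt N5174 F37806))
theorem Q5176 : ∀ i, i < 5176 → P i := stepQ 5175 Q5175 (allL N5175 (tt N5175 F37807) (tt N5987 (iv F45175)) (tt N6353 (iv F47389)) (tt N4184 F37808) (tt N6319 (iv F47243)) (tt N6354 D10219) (tt N4183 (iv D8027)) (tt N6355 D10220) (tt N6340 (iv F47337)) (tt N5175 F37809))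
theorem Q5177 : ∀ i, i < 5177 → P i := stepQ 5176 Q5176 (allL N5176 (tt N5176 F37810) (tt N5988 (iv F45178)) (tt N5176 F37811) (tt N6354 (iv F47393)) (tt N5176 F37812) (tt N4184 (iv D8028)) (tt N4191 F37813) (tt N6356 D10221) (tt N6357 D10222) (tt N5176 F37814))
theorem Q5178 : ∀ i, i < 5178 → P i := stepQ 5177 Q5177 (allL N5177 (tt N5177 F37815) (tt N5989 (iv F45182)) (tt N5177 F37816) (tt N6355 (iv F47397)) (tt N4185 F37817) (tt N6356 (iv F47403)) (tt N4188 F37818) (tt N4184 (iv D8029)) (tt N6342 (iv F47345)) (tt N5177 F37819))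
theorem Q5179 : ∀ i, i < 5179 → P i := stepQ 5178 Q5178 (allL N5178 (tt N6358 D10223) (tt N4186 (iv D8030)) (tt N5990 (iv F45186)) (tt N5178 F37820) (tt N6322 (iv F47253)) (tt N4192 F37821) (tt N6359 D10224) (tt N6352 (iv F47386)) (tt N6347 (iv F47367)) (tt N5178 F37822))
theorem Q5180 : ∀ i, i < 5180 → P i := stepQ 5179 Q5179 (allL N5179 (tt N5179 F37823) (tt N6359 (iv F47414)) (tt N4187 F37824) (tt N5179 F37825) (tt N6323 (iv F47258)) (tt N5179 F37826) (tt N4186 (iv D8031)) (tt N6360 D10225) (tt N6348 (iv F47371)) (tt N5179 F37827))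
theorem Q5181 : ∀ i, i < 5181 → P i := stepQ 5180 Q5180 (allL N5180 (tt N5180 F37828) (tt N5992 (iv F45192)) (tt N6360 (iv F47419)) (tt N4188 F37829) (tt N6325 (iv F47267)) (tt N5180 F37830) (tt N6355 (iv F47398)) (tt N4187 (iv D8032)) (tt N6350 (iv F47378)) (tt N5180 F37831))
theorem Q5182 : ∀ i, i < 5182 → P i := stepQ 5181 Q5181 (allL N5181 (tt N6361 D10226) (tt N4189 (iv D8033)) (tt N5993 (iv F45196)) (tt N5181 F37832) (tt N5181 F37833) (tt N6352 (iv F47385)) (tt N6362 D10227) (tt N4192 F37834) (tt N5181 F37835) (tt N5181 F37836))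
theorem Q5183 : ∀ i, i < 5183 → P i := stepQ 5182 Q5182 (allL N5182 (tt N5182 F37837) (tt N6362 (iv F47429)) (tt N4190 F37838) (tt N5182 F37839) (tt N5182 F37840) (tt N6363 D10228) (tt N4189 (iv D8034)) (tt N5182 F37841) (tt N5182 F37842) (tt N5182 F37843))
theorem Q5184 : ∀ i, i < 5184 → P i := stepQ 5183 Q5183 (allL N5183 (tt N5183 F37844) (tt N5995 (iv F45206)) (tt N6363 (iv F47436)) (tt N4191 F37845) (tt N6364 D10229) (tt N4190 (iv D8035)) (tt N6354 (iv F47394)) (tt N5183 F37846) (tt N6365 D10230) (tt N5183 F37847))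
theorem Q5185 : ∀ i, i < 5185 → P i := stepQ 5184 Q5184 (allL N5184 (tt N5184 F37848) (tt N5996 (iv F45210)) (tt N5184 F37849) (tt N6365 (iv F47446)) (tt N5184 F37850) (tt N5184 F37851) (tt N6357 (iv F47409)) (tt N5184 F37852) (tt N4191 (iv D8036)) (tt N6366 D10231))
theorem Q5186 : ∀ i, i < 5186 → P i := stepQ 5185 Q5185 (allL N5185 (tt N4192 (iv D8037)) (tt N5185 F37853) (tt N5997 (iv F45214)) (tt N5185 F37854) (tt N5185 F37855) (tt N6358 (iv F47412)) (tt N5185 F37856) (tt N6361 (iv F47426)) (tt N5185 F37857) (tt N5185 F37858))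
theorem Q5187 : ∀ i, i < 5187 → P i := stepQ 5186 Q5186 (allL N5186 (tt N4201 F37859) (tt N5186 F37860) (tt N5998 (iv F45220)) (tt N5186 F37861) (tt N5504 (iv F42455)) (tt N6367 D10232) (tt N5501 (iv F42438)) (tt N5573 (iv F42797)) (tt N4193 (iv D8038)) (tt N4194 F37862))
theorem Q5188 : ∀ i, i < 5188 → P i := stepQ 5187 Q5187 (allL N5187 (tt N4202 F37863) (tt N5187 F37864) (tt N5999 (iv F45223)) (tt N5187 F37865) (tt N6368 D10233) (tt N4194 (iv D8039)) (tt N6369 D10234) (tt N5827 (iv F44562)) (tt N4196 F37866) (tt N6367 (iv F47459)))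
theorem Q5189 : ∀ i, i < 5189 → P i := stepQ 5188 Q5188 (allL N5188 (tt N4203 F37867) (tt N5188 F37868) (tt N6000 (iv F45226)) (tt N5188 F37869) (tt N6370 D10235) (tt N4195 (iv D8040)) (tt N6371 D10236) (tt N4196 F37870) (tt N5827 (iv F44563)) (tt N4268 F37871))
theorem Q5190 : ∀ i, i < 5190 → P i := stepQ 5189 Q5189 (allL N5189 (tt N4204 F37872) (tt N5189 F37873) (tt N6001 (iv F45230)) (tt N5750 (iv F133076)) (tt N4196 (iv D8041)) (tt N4341 F37874) (tt N6372 D10238) (tt N6370 (iv F47470)) (tt N6368 (iv F47462)) (tt N4269 F37875))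
theorem Q5191 : ∀ i, i < 5191 → P i := stepQ 5190 Q5190 (allL N5190 (tt N4205 F37876) (tt N5190 F37877) (tt N6002 (iv F45234)) (tt N5190 F37878) (tt N6372 (iv F47484)) (tt N4198 F37879) (tt N4196 (iv D8042)) (tt N6373 D10239) (tt N6369 (iv F47466)) (tt N4270 F37880))
theorem Q5192 : ∀ i, i < 5192 → P i := stepQ 5191 Q5191 (allL N5191 (tt N4206 F37887) (tt N5191 F37888) (tt N6004 (iv F45242)) (tt N5609 (iv F133180)) (tt N4198 F37889) (tt N5608 (iv F133138)) (tt N4197 (iv D8044)) (tt N6374 D10243) (tt N6272 (iv F47024)) (tt N4271 F37890))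
theorem Q5193 : ∀ i, i < 5193 → P i := stepQ 5192 Q5192 (allL N5192 (tt N4207 F37891) (tt N5192 F37892) (tt N6005 (iv F45246)) (tt N5192 F37893) (tt N6374 (iv F47507)) (tt N6373 (iv F47489)) (tt N5192 F37894) (tt N4198 (iv D8045)) (tt N6273 (iv F47030)) (tt N4272 F37895))
theorem Q5194 : ∀ i, i < 5194 → P i := stepQ 5193 Q5193 (allL N5193 (tt N5828 (iv F44564)) (tt N4209 F37896) (tt N6006 (iv F45250)) (tt N5416 (iv F41956)) (tt N6375 D10244) (tt N4199 (iv D8046)) (tt N6376 D10245) (tt N5411 (iv F41930)) (tt N4342 F37897) (tt N5954 (iv F45058)))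
theorem Q5195 : ∀ i, i < 5195 → P i := stepQ 5194 Q5194 (allL N5194 (tt N5827 (iv F44559)) (tt N4212 F37898) (tt N6007 (iv F45253)) (tt N5194 F37899) (tt N6377 D10246) (tt N4200 (iv D8047)) (tt N6378 D10247) (tt N4202 F37900) (tt N4203 F37901) (tt N6044 (iv F45378)))
theorem Q5196 : ∀ i, i < 5196 → P i := stepQ 5195 Q5195 (allL N5195 (tt N6367 (iv F47455)) (tt N4213 F37902) (tt N6008 (iv F45257)) (tt N5195 F37903) (tt N6379 D10248) (tt N4201 (iv D8048)) (tt N6380 D10249) (tt N6044 (iv F45376)) (tt N4275 F37904) (tt N4202 F37905))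
theorem Q5197 : ∀ i, i < 5197 → P i := stepQ 5196 Q5196 (allL N5196 (tt N6368 (iv F47460)) (tt N4214 F37906) (tt N6009 (iv F45261)) (tt N6234 (iv F133083)) (tt N4202 (iv D8049)) (tt N6375 (iv F47511)) (tt N6381 D10251) (tt N6377 (iv F47516)) (tt N4204 F37907) (tt N6379 (iv F47523)))
theorem Q5198 : ∀ i, i < 5198 → P i := stepQ 5197 Q5197 (allL N5197 (tt N6369 (iv F47463)) (tt N4215 F37908) (tt N6010 (iv F45264)) (tt N5197 F37909) (tt N6381 (iv F47532)) (tt N6275 (iv F47036)) (tt N4202 (iv D8050)) (tt N6382 D10252) (tt N4205 F37910) (tt N6380 (iv F47527)))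
theorem Q5199 : ∀ i, i < 5199 → P i := stepQ 5198 Q5198 (allL N5198 (tt N6370 (iv F47467)) (tt N4216 F37911) (tt N6011 (iv F45267)) (tt N6233 F132564) (tt N4203 (iv D8051)) (tt N4345 F37912) (tt N6383 D10254) (tt N4204 F37913) (tt N6377 (iv F47517)) (tt N4278 F37914))
theorem Q5200 : ∀ i, i < 5200 → P i := stepQ 5199 Q5199 (allL N5199 (tt N6371 (iv F47472)) (tt N4217 F37915) (tt N6012 (iv F45272)) (tt N5199 F37916) (tt N6383 (iv F47543)) (tt N5199 F37917) (tt N4203 (iv D8052)) (tt N6384 D10255) (tt N6378 (iv F47520)) (tt N4279 F37918))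
theorem Q5201 : ∀ i, i < 5201 → P i := stepQ 5200 Q5200 (allL N5200 (tt N6372 (iv F47482)) (tt N4219 F37923) (tt N6014 (iv F45279)) (tt N6066 (iv F133078)) (tt N4205 F37924) (tt N6065 (iv F133081)) (tt N4204 (iv D8054)) (tt N6385 D10259) (tt N6381 (iv F47533)) (tt N4280 F37925))
theorem Q5202 : ∀ i, i < 5202 → P i := stepQ 5201 Q5201 (allL N5201 (tt N6373 (iv F47486)) (tt N4220 F37926) (tt N6015 (iv F45283)) (tt N5201 F37927) (tt N6385 (iv F47562)) (tt N4207 F37928) (tt N6384 (iv F47548)) (tt N4205 (iv D8055)) (tt N6382 (iv F47536)) (tt N4281 F37929))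
theorem Q5203 : ∀ i, i < 5203 → P i := stepQ 5202 Q5202 (allL N5202 (tt N6374 (iv F47505)) (tt N4223 F37942) (tt N6018 (iv F45299)) (tt N6094 (iv F133220)) (tt N4207 F37943) (tt N6093 (iv F133141)) (tt N5202 F37944) (tt N4206 (iv D8059)) (tt N6282 (iv F47074)) (tt N4282 F37945))
theorem Q5204 : ∀ i, i < 5204 → P i := stepQ 5203 Q5203 (allL N5203 (tt N5203 F37946) (tt N5411 (iv F41928)) (tt N4224 F37947) (tt N4246 F37948) (tt N6386 D10265) (tt N4208 (iv D8060)) (tt N6387 D10266) (tt N4209 F37949) (tt N4347 F37950) (tt N4228 F37951))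
theorem Q5205 : ∀ i, i < 5205 → P i := stepQ 5204 Q5204 (allL N5204 (tt N5204 F37952) (tt N6375 (iv F47510)) (tt N4226 F37953) (tt N6388 D10267) (tt N4209 (iv D8061)) (tt N4214 F37954) (tt N6389 D10268) (tt N6386 (iv F47585)) (tt N4348 F37955) (tt N6306 (iv F47193)))
theorem Q5206 : ∀ i, i < 5206 → P i := stepQ 5205 Q5205 (allL N5205 (tt N5205 F37956) (tt N6376 (iv F47513)) (tt N4227 F37957) (tt N6332 (iv F47298)) (tt N6389 (iv F47599)) (tt N6284 (iv F47085)) (tt N4209 (iv D8062)) (tt N6390 D10269) (tt N4349 F37958) (tt N6307 (iv F47199)))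
theorem Q5207 : ∀ i, i < 5207 → P i := stepQ 5206 Q5206 (allL N5206 (tt N5206 F37959) (tt N5442 (iv F42101)) (tt N4228 F37960) (tt N5206 F37961) (tt N6391 D10270) (tt N4210 (iv D8063)) (tt N6392 D10271) (tt N4225 F37962) (tt N5206 F37963) (tt N4224 F37964))
theorem Q5208 : ∀ i, i < 5208 → P i := stepQ 5207 Q5207 (allL N5207 (tt N5207 F37965) (tt N6044 (iv F45374)) (tt N4229 F37966) (tt N5207 F37967) (tt N6393 D10272) (tt N4211 (iv D8064)) (tt N6394 D10273) (tt N4213 F37968) (tt N4283 F37969) (tt N4212 F37970))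
theorem Q5209 : ∀ i, i < 5209 → P i := stepQ 5208 Q5208 (allL N5208 (tt N5208 F37971) (tt N6377 (iv F47515)) (tt N4230 F37972) (tt N6395 D10274) (tt N4212 (iv D8065)) (tt N6386 (iv F47584)) (tt N6396 D10275) (tt N4214 F37973) (tt N4216 F37974) (tt N6393 (iv F47621)))
theorem Q5210 : ∀ i, i < 5210 → P i := stepQ 5209 Q5209 (allL N5209 (tt N5209 F37975) (tt N6378 (iv F47518)) (tt N4231 F37976) (tt N5209 F37977) (tt N6396 (iv F47634)) (tt N6392 (iv F47613)) (tt N4212 (iv D8066)) (tt N6397 D10276) (tt N4217 F37978) (tt N6394 (iv F47627)))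
theorem Q5211 : ∀ i, i < 5211 → P i := stepQ 5210 Q5210 (allL N5210 (tt N5210 F37979) (tt N6379 (iv F47521)) (tt N4232 F37980) (tt N6398 D10277) (tt N4213 (iv D8067)) (tt N6306 (iv F47190)) (tt N6399 D10278) (tt N6393 (iv F47619)) (tt N4286 F37981) (tt N4214 F37982))
theorem Q5212 : ∀ i, i < 5212 → P i := stepQ 5211 Q5211 (allL N5211 (tt N5211 F37983) (tt N6380 (iv F47524)) (tt N4233 F37984) (tt N5211 F37985) (tt N6399 (iv F47647)) (tt N6288 (iv F47109)) (tt N4213 (iv D8068)) (tt N6400 D10279) (tt N4287 F37986) (tt N4215 F37987))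
theorem Q5213 : ∀ i, i < 5213 → P i := stepQ 5212 Q5212 (allL N5212 (tt N5212 F37988) (tt N6234 (iv F133082)) (tt N6401 D10280) (tt N4214 (iv D8069)) (tt N5212 F37989) (tt N6388 (iv F47595)) (tt N6402 D10281) (tt N6395 (iv F47630)) (tt N4218 F37990) (tt N6398 (iv F47644)))
theorem Q5214 : ∀ i, i < 5214 → P i := stepQ 5213 Q5213 (allL N5213 (tt N5213 F37991) (tt N6381 (iv F47531)) (tt N4235 F37992) (tt N6402 (iv F47660)) (tt N4215 F37993) (tt N6403 D10282) (tt N4214 (iv D8070)) (tt N6404 D10283) (tt N4219 F37994) (tt N6399 (iv F47649)))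
theorem Q5215 : ∀ i, i < 5215 → P i := stepQ 5214 Q5214 (allL N5214 (tt N5214 F37995) (tt N6382 (iv F47534)) (tt N4236 F37996) (tt N5214 F37997) (tt N6404 (iv F47667)) (tt N6291 (iv F47122)) (tt N6397 (iv F47639)) (tt N4215 (iv D8071)) (tt N4220 F37998) (tt N6400 (iv F47654)))
theorem Q5216 : ∀ i, i < 5216 → P i := stepQ 5215 Q5215 (allL N5215 (tt N5215 F37999) (tt N6233 F132569) (tt N4369 F132573) (tt N4216 (iv D8072)) (tt N5215 F38000) (tt N4355 F38001) (tt N6405 D10285) (tt N4218 F38002) (tt N6395 (iv F47631)) (tt N4291 F38003))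
theorem Q5217 : ∀ i, i < 5217 → P i := stepQ 5216 Q5216 (allL N5216 (tt N5216 F38004) (tt N6383 (iv F47542)) (tt N4238 F38005) (tt N6405 (iv F47676)) (tt N4217 F38006) (tt N6406 D10286) (tt N4216 (iv D8073)) (tt N6407 D10287) (tt N6396 (iv F47635)) (tt N4292 F38007))
theorem Q5218 : ∀ i, i < 5218 → P i := stepQ 5217 Q5217 (allL N5217 (tt N5217 F38008) (tt N6384 (iv F47545)) (tt N4239 F38009) (tt N5217 F38010) (tt N6407 (iv F47686)) (tt N5217 F38011) (tt N4220 F38012) (tt N4217 (iv D8074)) (tt N6397 (iv F47640)) (tt N4293 F38013))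
theorem Q5219 : ∀ i, i < 5219 → P i := stepQ 5218 Q5218 (allL N5218 (tt N5218 F38014) (tt N6236 F132571) (tt N4218 (iv D8075)) (tt N4240 F38015) (tt N5218 F38016) (tt N4356 F132579) (tt N6406 (iv F133103)) (tt N4369 F132572) (tt N6401 (iv F47658)) (tt N4294 F38018))
theorem Q5220 : ∀ i, i < 5220 → P i := stepQ 5219 Q5219 (allL N5219 (tt N5219 F38019) (tt N6066 (iv F133077)) (tt N6406 (iv F133101)) (tt N4219 F38020) (tt N5219 F38021) (tt N4238 (iv F133098)) (tt N4218 (iv D8076)) (tt N6408 D10291) (tt N6402 (iv F47662)) (tt N4295 F38022))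
theorem Q5221 : ∀ i, i < 5221 → P i := stepQ 5220 Q5220 (allL N5220 (tt N5220 F38023) (tt N6065 (iv F133079)) (tt N4242 F38024) (tt N4238 (iv F133097)) (tt N4222 F38025) (tt N4219 (iv D8077)) (tt N4237 F132578) (tt N6409 D10292) (tt N6410 D10293) (tt N4296 F38027))
theorem Q5222 : ∀ i, i < 5222 → P i := stepQ 5221 Q5221 (allL N5221 (tt N5221 F38028) (tt N6385 (iv F47561)) (tt N4243 F38029) (tt N6408 (iv F47703)) (tt N4220 F38030) (tt N6409 (iv F47709)) (tt N6407 (iv F47687)) (tt N4219 (iv D8078)) (tt N6404 (iv F47668)) (tt N4297 F38031))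
theorem Q5223 : ∀ i, i < 5223 → P i := stepQ 5222 Q5222 (allL N5222 (tt N5222 F38037) (tt N6094 (iv F133219)) (tt N5222 F38038) (tt N4223 F38039) (tt N5222 F38040) (tt N4261 (iv F133143)) (tt N5222 F38041) (tt N4221 (iv D8080)) (tt N6300 (iv F47167)) (tt N4298 F38042))
theorem Q5224 : ∀ i, i < 5224 → P i := stepQ 5223 Q5223 (allL N5223 (tt N5223 F38043) (tt N6093 (iv F133139)) (tt N4244 F38044) (tt N4261 (iv F133142)) (tt N6409 (iv F47708)) (tt N4223 F38045) (tt N4263 (iv F133137)) (tt N4222 (iv D8081)) (tt N6411 D10298) (tt N4299 F38046))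
theorem Q5225 : ∀ i, i < 5225 → P i := stepQ 5224 Q5224 (allL N5224 (tt N5224 F38047) (tt N6081 (iv F133132)) (tt N4245 F38048) (tt N4252 (iv F133134)) (tt N6410 (iv F47713)) (tt N6302 (iv F47175)) (tt N4251 F132586) (tt N6411 (iv F47736)) (tt N4222 (iv D8082)) (tt N6412 D10299))
theorem Q5226 : ∀ i, i < 5226 → P i := stepQ 5225 Q5225 (allL N5225 (tt N5225 F38050) (tt N6045 (iv F45379)) (tt N6386 (iv F47583)) (tt N6413 D10300) (tt N4224 (iv D8083)) (tt N4230 F38051) (tt N6414 D10301) (tt N4226 F38052) (tt N4358 F38053) (tt N6391 (iv F47609)))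
theorem Q5227 : ∀ i, i < 5227 → P i := stepQ 5226 Q5226 (allL N5226 (tt N5226 F38054) (tt N6046 (iv F45383)) (tt N6387 (iv F47589)) (tt N5226 F38055) (tt N6414 (iv F47747)) (tt N6394 (iv F47625)) (tt N4224 (iv D8084)) (tt N6415 D10302) (tt N4359 F38056) (tt N6392 (iv F47615)))
theorem Q5228 : ∀ i, i < 5228 → P i := stepQ 5227 Q5227 (allL N5227 (tt N5227 F38057) (tt N6047 (iv F45386)) (tt N6306 (iv F47189)) (tt N6416 D10303) (tt N4225 (iv D8085)) (tt N4232 F38058) (tt N6417 D10304) (tt N6391 (iv F47607)) (tt N5227 F38059) (tt N4226 F38060))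
theorem Q5229 : ∀ i, i < 5229 → P i := stepQ 5228 Q5228 (allL N5228 (tt N5228 F38061) (tt N6048 (iv F45390)) (tt N6307 (iv F47195)) (tt N5228 F38062) (tt N6417 (iv F47759)) (tt N6286 (iv F47097)) (tt N4225 (iv D8086)) (tt N6418 D10305) (tt N5228 F38063) (tt N4227 F38064))
theorem Q5230 : ∀ i, i < 5230 → P i := stepQ 5229 Q5229 (allL N5229 (tt N5229 F38065) (tt N6049 (iv F45394)) (tt N6419 D10306) (tt N4226 (iv D8087)) (tt N5229 F38066) (tt N4234 F38067) (tt N6420 D10307) (tt N6413 (iv F47744)) (tt N4360 F38068) (tt N6416 (iv F47757)))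
theorem Q5231 : ∀ i, i < 5231 → P i := stepQ 5230 Q5230 (allL N5230 (tt N5230 F38069) (tt N6050 (iv F45398)) (tt N6389 (iv F47598)) (tt N6420 (iv F47771)) (tt N4227 F38070) (tt N6421 D10308) (tt N4226 (iv D8088)) (tt N6422 D10309) (tt N4361 F38071) (tt N6417 (iv F47761)))
theorem Q5232 : ∀ i, i < 5232 → P i := stepQ 5231 Q5231 (allL N5231 (tt N5231 F38072) (tt N6051 (iv F45401)) (tt N6390 (iv F47602)) (tt N5231 F38073) (tt N6422 (iv F47777)) (tt N6305 (iv F47186)) (tt N6415 (iv F47751)) (tt N4227 (iv D8089)) (tt N4362 F38074) (tt N6418 (iv F47765)))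
theorem Q5233 : ∀ i, i < 5233 → P i := stepQ 5232 Q5232 (allL N5232 (tt N5232 F38075) (tt N6052 (iv F45404)) (tt N6391 (iv F47605)) (tt N6423 D10310) (tt N4228 (iv D8090)) (tt N6393 (iv F47618)) (tt N6424 D10311) (tt N6306 (iv F47191)) (tt N5232 F38076) (tt N6386 (iv F47587)))
theorem Q5234 : ∀ i, i < 5234 → P i := stepQ 5233 Q5233 (allL N5233 (tt N5233 F38077) (tt N6053 (iv F45406)) (tt N6392 (iv F47611)) (tt N4248 F38078) (tt N6424 (iv F47783)) (tt N4231 F38079) (tt N4228 (iv D8091)) (tt N6425 D10312) (tt N5233 F38080) (tt N6387 (iv F47593)))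
theorem Q5235 : ∀ i, i < 5235 → P i := stepQ 5234 Q5234 (allL N5234 (tt N5234 F38081) (tt N5443 (iv F42107)) (tt N6393 (iv F47617)) (tt N6426 D10313) (tt N4229 (iv D8092)) (tt N6391 (iv F47606)) (tt N6427 D10314) (tt N4232 F38082) (tt N4301 F38083) (tt N4230 F38084))
theorem Q5236 : ∀ i, i < 5236 → P i := stepQ 5235 Q5235 (allL N5235 (tt N5235 F38085) (tt N5444 (iv F42112)) (tt N6394 (iv F47623)) (tt N4250 F38086) (tt N6427 (iv F47795)) (tt N6387 (iv F47591)) (tt N4229 (iv D8093)) (tt N6428 D10315) (tt N4302 F38087) (tt N4231 F38088))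
theorem Q5237 : ∀ i, i < 5237 → P i := stepQ 5236 Q5236 (allL N5236 (tt N5236 F38089) (tt N6054 (iv F45410)) (tt N4370 (iv F133119)) (tt N4230 (iv D8094)) (tt N4251 F38090) (tt N6413 (iv F47743)) (tt N6410 (iv F133109)) (tt N4234 F38091) (tt N4237 F38092) (tt N6426 (iv F47793)))
theorem Q5238 : ∀ i, i < 5238 → P i := stepQ 5237 Q5237 (allL N5237 (tt N5237 F38093) (tt N6055 (iv F45414)) (tt N6396 (iv F47633)) (tt N6410 F133905) (tt N4231 F38094) (tt N6429 D10318) (tt N4230 (iv D8095)) (tt N6430 D10319) (tt N4238 F38095) (tt N6427 (iv F47797)))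
theorem Q5239 : ∀ i, i < 5239 → P i := stepQ 5238 Q5238 (allL N5238 (tt N5238 F38096) (tt N6056 (iv F45417)) (tt N6397 (iv F47637)) (tt N4253 F38097) (tt N6430 (iv F47813)) (tt N6425 (iv F47787)) (tt N4236 F38098) (tt N4231 (iv D8096)) (tt N4239 F38099) (tt N6428 (iv F47802)))
theorem Q5240 : ∀ i, i < 5240 → P i := stepQ 5239 Q5239 (allL N5239 (tt N5239 F38100) (tt N6057 (iv F45421)) (tt N6431 D10320) (tt N4232 (iv D8097)) (tt N4254 F38101) (tt N6416 (iv F47755)) (tt N6432 D10321) (tt N6426 (iv F47791)) (tt N4306 F38102) (tt N4234 F38103))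
theorem Q5241 : ∀ i, i < 5241 → P i := stepQ 5240 Q5240 (allL N5240 (tt N5240 F38104) (tt N6058 (iv F45425)) (tt N6399 (iv F47646)) (tt N6432 (iv F47821)) (tt N4233 F38105) (tt N6433 D10322) (tt N4232 (iv D8098)) (tt N6434 D10323) (tt N4307 F38106) (tt N4235 F38107))
theorem Q5242 : ∀ i, i < 5242 → P i := stepQ 5241 Q5241 (allL N5241 (tt N5241 F38108) (tt N6059 (iv F45429)) (tt N6400 (iv F47651)) (tt N4256 F38109) (tt N6434 (iv F47828)) (tt N6313 (iv F47221)) (tt N6428 (iv F47800)) (tt N4233 (iv D8099)) (tt N4308 F38110) (tt N4236 F38111))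
theorem Q5243 : ∀ i, i < 5243 → P i := stepQ 5242 Q5242 (allL N5242 (tt N5242 F38112) (tt N6239 (iv F133122)) (tt N4234 (iv D8100)) (tt N6401 (iv F47656)) (tt N4257 F38113) (tt N6419 (iv F47768)) (tt N6435 D10325) (tt N4370 (iv F133120)) (tt N4240 F38114) (tt N6431 (iv F47819)))
theorem Q5244 : ∀ i, i < 5244 → P i := stepQ 5243 Q5243 (allL N5243 (tt N5243 F38115) (tt N6061 (iv F45435)) (tt N6435 (iv F47834)) (tt N4235 F38116) (tt N4258 F38117) (tt N6436 D10326) (tt N4234 (iv D8101)) (tt N6437 D10327) (tt N4241 F38118) (tt N6432 (iv F47824)))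
theorem Q5245 : ∀ i, i < 5245 → P i := stepQ 5244 Q5244 (allL N5244 (tt N5244 F38119) (tt N6062 (iv F45439)) (tt N6403 (iv F47664)) (tt N6436 (iv F47838)) (tt N6316 (iv F47232)) (tt N4235 (iv D8102)) (tt N6421 (iv F47775)) (tt N6438 D10328) (tt N6439 D10329) (tt N6433 (iv F47826)))
theorem Q5246 : ∀ i, i < 5246 → P i := stepQ 5245 Q5245 (allL N5245 (tt N5245 F38120) (tt N6063 (iv F45440)) (tt N6404 (iv F47666)) (tt N6437 (iv F47840)) (tt N4236 F38121) (tt N6438 (iv F47844)) (tt N6430 (iv F47814)) (tt N4235 (iv D8103)) (tt N4243 F38122) (tt N6434 (iv F47830)))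
theorem Q5247 : ∀ i, i < 5247 → P i := stepQ 5246 Q5246 (allL N5246 (tt N5246 F38136) (tt N6067 (iv F45455)) (tt N6407 (iv F47685)) (tt N6409 F133916) (tt N4239 F38137) (tt N6408 F133917) (tt N4243 F38138) (tt N4238 (iv D8107)) (tt N6430 (iv F47815)) (tt N4313 F38139))
theorem Q5248 : ∀ i, i < 5248 → P i := stepQ 5247 Q5247 (allL N5247 (tt N5247 F38143) (tt N6238 (iv F133124)) (tt N4241 F38144) (tt N6406 (iv F133102)) (tt N4262 F38145) (tt N6405 (iv F133100)) (tt N4240 (iv D8109)) (tt N6440 D10339) (tt N6435 (iv F47836)) (tt N4314 F38146))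
theorem Q5249 : ∀ i, i < 5249 → P i := stepQ 5248 Q5248 (allL N5248 (tt N5248 F38147) (tt N6070 (iv F45466)) (tt N6405 (iv F133099)) (tt N4242 F38148) (tt N5248 F38149) (tt N4241 (iv D8110)) (tt N4369 F38150) (tt N6441 D10340) (tt N6442 D10341) (tt N4315 F38151))
theorem Q5250 : ∀ i, i < 5250 → P i := stepQ 5249 Q5249 (allL N5249 (tt N5249 F38152) (tt N6071 (iv F45471)) (tt N6440 (iv F47884)) (tt N4243 F38153) (tt N4263 F38154) (tt N6441 (iv F47890)) (tt N6409 F133923) (tt N4241 (iv D8111)) (tt N6437 (iv F47842)) (tt N4316 F38155))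
theorem Q5251 : ∀ i, i < 5251 → P i := stepQ 5250 Q5250 (allL N5250 (tt N5250 F38156) (tt N6072 (iv F45475)) (tt N6409 (iv F47707)) (tt N6441 (iv F47888)) (tt N4244 F38157) (tt N4243 F38158) (tt N6440 F133922) (tt N4242 (iv D8112)) (tt N6443 D10343) (tt N4317 F38159))
theorem Q5252 : ∀ i, i < 5252 → P i := stepQ 5251 Q5251 (allL N5251 (tt N5251 F38160) (tt N6073 (iv F45479)) (tt N6410 (iv F47712)) (tt N6442 (iv F47893)) (tt N4245 F38161) (tt N6439 (iv F47846)) (tt N4370 F38162) (tt N6443 (iv F47902)) (tt N4242 (iv D8113)) (tt N6444 D10344))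
theorem Q5253 : ∀ i, i < 5253 → P i := stepQ 5252 Q5252 (allL N5252 (tt N5252 F38163) (tt N6074 (iv F45482)) (tt N4263 (iv F133136)) (tt N5252 F38164) (tt N6440 (iv F133126)) (tt N5252 F38165) (tt N4244 (iv D8114)) (tt N4262 F132594) (tt N6445 D10345) (tt N4319 F38167))
theorem Q5254 : ∀ i, i < 5254 → P i := stepQ 5253 Q5253 (allL N5253 (tt N5253 F38168) (tt N6075 (iv F45487)) (tt N6411 (iv F47735)) (tt N5253 F38169) (tt N6443 (iv F47901)) (tt N6329 (iv F47283)) (tt N6445 (iv F47909)) (tt N4245 F38170) (tt N4244 (iv D8115)) (tt N6446 D10346))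
theorem Q5255 : ∀ i, i < 5255 → P i := stepQ 5254 Q5254 (allL N5254 (tt N5254 F38171) (tt N6076 (iv F45490)) (tt N6412 (iv F47738)) (tt N5254 F38172) (tt N6444 (iv F47904)) (tt N6330 (iv F47287)) (tt N4371 F38173) (tt N6446 (iv F47913)) (tt N4321 F38174) (tt N4245 (iv D8116)))
theorem Q5256 : ∀ i, i < 5256 → P i := stepQ 5255 Q5255 (allL N5255 (tt N5255 F38175) (tt N5417 (iv F41961)) (tt N5255 F38176) (tt N6447 D10347) (tt N4246 (iv D8117)) (tt N5255 F38177) (tt N6448 D10348) (tt N6331 (iv F47293)) (tt N5383 (iv F41750)) (tt N4247 F38178))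
theorem Q5257 : ∀ i, i < 5257 → P i := stepQ 5256 Q5256 (allL N5256 (tt N5256 F38179) (tt N5418 (iv F41967)) (tt N5256 F38180) (tt N6387 (iv F47590)) (tt N6448 (iv F47920)) (tt N4250 F38181) (tt N4246 (iv D8118)) (tt N6449 D10349) (tt N5384 (iv F41757)) (tt N4248 F38182))
theorem Q5258 : ∀ i, i < 5258 → P i := stepQ 5257 Q5257 (allL N5257 (tt N5257 F38183) (tt N6077 (iv F45494)) (tt N6450 D10350) (tt N4247 (iv D8119)) (tt N6423 (iv F47780)) (tt N5257 F38184) (tt N6451 D10351) (tt N6333 (iv F47304)) (tt N5257 F38185) (tt N6447 (iv F47917)))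
theorem Q5259 : ∀ i, i < 5259 → P i := stepQ 5258 Q5258 (allL N5258 (tt N5258 F38186) (tt N6078 (iv F45497)) (tt N5258 F38187) (tt N6451 (iv F47931)) (tt N4248 F38188) (tt N6452 D10352) (tt N4247 (iv D8120)) (tt N6453 D10353) (tt N5258 F38189) (tt N6448 (iv F47921)))
theorem Q5260 : ∀ i, i < 5260 → P i := stepQ 5259 Q5259 (allL N5259 (tt N5259 F38190) (tt N6079 (iv F45500)) (tt N5259 F38191) (tt N6425 (iv F47786)) (tt N6453 (iv F47939)) (tt N4253 F38192) (tt N6335 (iv F47313)) (tt N4248 (iv D8121)) (tt N5259 F38193) (tt N6449 (iv F47925)))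
theorem Q5261 : ∀ i, i < 5261 → P i := stepQ 5260 Q5260 (allL N5260 (tt N5260 F38194) (tt N5450 (iv F42142)) (tt N4371 F132587) (tt N4249 (iv D8122)) (tt N6426 (iv F47790)) (tt N5260 F38195) (tt N6412 (iv F133135)) (tt N4254 F38196) (tt N4322 F38197) (tt N4251 F38198))
theorem Q5262 : ∀ i, i < 5262 → P i := stepQ 5261 Q5261 (allL N5261 (tt N5261 F38199) (tt N5451 (iv F42148)) (tt N5261 F38200) (tt N6412 F133956) (tt N4250 F38201) (tt N6454 D10356) (tt N4249 (iv D8123)) (tt N6455 D10357) (tt N4323 F38202) (tt N4252 F38203))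
theorem Q5263 : ∀ i, i < 5263 → P i := stepQ 5262 Q5262 (allL N5262 (tt N5262 F38204) (tt N5452 (iv F42154)) (tt N5262 F38205) (tt N6428 (iv F47799)) (tt N6455 (iv F47958)) (tt N6449 (iv F47924)) (tt N4256 F38206) (tt N4250 (iv D8124)) (tt N4324 F38207) (tt N4253 F38208))
theorem Q5264 : ∀ i, i < 5264 → P i := stepQ 5263 Q5263 (allL N5263 (tt N5263 F38217) (tt N6082 (iv F45509)) (tt N5263 F38218) (tt N6302 F133953) (tt N6452 (iv F47935)) (tt N4252 (iv D8127)) (tt N5263 F38219) (tt N6456 D10362) (tt N6299 F133954) (tt N6454 (iv F47955)))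
theorem Q5265 : ∀ i, i < 5265 → P i := stepQ 5264 Q5264 (allL N5264 (tt N5264 F38220) (tt N6083 (iv F45511)) (tt N5264 F38221) (tt N6411 F133955) (tt N4253 F38222) (tt N6456 (iv F47979)) (tt N4260 F38223) (tt N4252 (iv D8128)) (tt N4261 F38224) (tt N6455 (iv F47961)))
theorem Q5266 : ∀ i, i < 5266 → P i := stepQ 5265 Q5265 (allL N5265 (tt N5265 F38225) (tt N6242 (iv F133130)) (tt N4254 (iv D8129)) (tt N5265 F38226) (tt N6431 (iv F47817)) (tt N5265 F38227) (tt N6457 D10365) (tt N4371 F132581) (tt N4326 F38228) (tt N4257 F38229))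
theorem Q5267 : ∀ i, i < 5267 → P i := stepQ 5266 Q5266 (allL N5266 (tt N5266 F38230) (tt N6085 (iv F45518)) (tt N6457 (iv F47990)) (tt N4255 F38231) (tt N6432 (iv F47822)) (tt N6458 D10366) (tt N4254 (iv D8130)) (tt N6459 D10367) (tt N4327 F38232) (tt N4258 F38233))
theorem Q5268 : ∀ i, i < 5268 → P i := stepQ 5267 Q5267 (allL N5267 (tt N5267 F38234) (tt N6086 (iv F45522)) (tt N5267 F38235) (tt N6458 (iv F47995)) (tt N6345 (iv F47357)) (tt N4255 (iv D8131)) (tt N5267 F38236) (tt N6460 D10368) (tt N6461 D10369) (tt N4259 F38237))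
theorem Q5269 : ∀ i, i < 5269 → P i := stepQ 5268 Q5268 (allL N5268 (tt N5268 F38238) (tt N6087 (iv F45525)) (tt N5268 F38239) (tt N6459 (iv F47999)) (tt N4256 F38240) (tt N6460 (iv F48004)) (tt N6455 (iv F47959)) (tt N4255 (iv D8132)) (tt N4329 F38241) (tt N4260 F38242))
theorem Q5270 : ∀ i, i < 5270 → P i := stepQ 5269 Q5269 (allL N5269 (tt N5269 F38246) (tt N6241 (iv F133128)) (tt N4258 F38247) (tt N5269 F38248) (tt N6435 (iv F47835)) (tt N6462 D10372) (tt N4257 (iv D8134)) (tt N6445 (iv F133127)) (tt N4262 F38249) (tt N6457 (iv F47993)))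
theorem Q5271 : ∀ i, i < 5271 → P i := stepQ 5270 Q5270 (allL N5270 (tt N5270 F38250) (tt N6090 (iv F45534)) (tt N6462 (iv F48019)) (tt N4259 F38251) (tt N6463 D10374) (tt N4258 (iv D8135)) (tt N5270 F38252) (tt N6464 D10375) (tt N5270 F38253) (tt N6458 (iv F47997)))
theorem Q5272 : ∀ i, i < 5272 → P i := stepQ 5271 Q5271 (allL N5271 (tt N5271 F38254) (tt N6091 (iv F45538)) (tt N6445 F133939) (tt N4260 F38255) (tt N6437 (iv F47841)) (tt N6464 (iv F48032)) (tt N6411 F133940) (tt N4258 (iv D8136)) (tt N4263 F38256) (tt N6459 (iv F48001)))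
theorem Q5273 : ∀ i, i < 5273 → P i := stepQ 5272 Q5272 (allL N5272 (tt N5272 F38257) (tt N6092 (iv F45541)) (tt N5272 F38258) (tt N6464 (iv F48031)) (tt N6351 (iv F47381)) (tt N4260 F38259) (tt N6465 D10376) (tt N4259 (iv D8137)) (tt N5272 F38260) (tt N6460 (iv F48005)))
theorem Q5274 : ∀ i, i < 5274 → P i := stepQ 5273 Q5273 (allL N5273 (tt N4273 F38328) (tt N5273 F38329) (tt N5428 (iv F42024)) (tt N5273 F38330) (tt N5273 F38331) (tt N6466 D10392) (tt N5387 (iv F41778)) (tt N4266 F38332) (tt N4264 (iv D8152)) (tt N4265 F38333))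
theorem Q5275 : ∀ i, i < 5275 → P i := stepQ 5274 Q5274 (allL N5274 (tt N4274 F38334) (tt N5274 F38335) (tt N5456 (iv F42185)) (tt N5274 F38336) (tt N6467 D10393) (tt N4265 (iv D8153)) (tt N6468 D10394) (tt N4267 F38337) (tt N4268 F38338) (tt N6466 (iv F48115)))
theorem Q5276 : ∀ i, i < 5276 → P i := stepQ 5275 Q5275 (allL N5275 (tt N4275 F38339) (tt N5275 F38340) (tt N6098 (iv F45602)) (tt N5275 F38341) (tt N6469 D10395) (tt N4266 (iv D8154)) (tt N6470 D10396) (tt N6466 (iv F48114)) (tt N6367 (iv F47458)) (tt N4267 F38342))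
theorem Q5277 : ∀ i, i < 5277 → P i := stepQ 5276 Q5276 (allL N5276 (tt N4276 F38343) (tt N5276 F38344) (tt N6099 (iv F45605)) (tt N5795 (iv F133146)) (tt N4267 (iv D8155)) (tt N5276 F38345) (tt N6471 D10398) (tt N6467 (iv F48119)) (tt N4269 F38346) (tt N6469 (iv F48128)))
theorem Q5278 : ∀ i, i < 5278 → P i := stepQ 5277 Q5277 (allL N5277 (tt N4277 F38347) (tt N5277 F38348) (tt N6100 (iv F45609)) (tt N5277 F38349) (tt N6471 (iv F48141)) (tt N5277 F38350) (tt N4267 (iv D8156)) (tt N6472 D10399) (tt N4270 F38351) (tt N6470 (iv F48133)))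
theorem Q5279 : ∀ i, i < 5279 → P i := stepQ 5278 Q5278 (allL N5278 (tt N4278 F38352) (tt N5278 F38353) (tt N6101 (iv F45613)) (tt N5794 F132600) (tt N4268 (iv D8157)) (tt N4376 F38354) (tt N6473 D10401) (tt N4269 F38355) (tt N6467 (iv F48120)) (tt N6370 (iv F47471)))
theorem Q5280 : ∀ i, i < 5280 → P i := stepQ 5279 Q5279 (allL N5279 (tt N4279 F38356) (tt N5279 F38357) (tt N6102 (iv F45617)) (tt N5279 F38358) (tt N6473 (iv F48155)) (tt N5279 F38359) (tt N4268 (iv D8158)) (tt N6474 D10402) (tt N6468 (iv F48124)) (tt N6371 (iv F47476)))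
theorem Q5281 : ∀ i, i < 5281 → P i := stepQ 5280 Q5280 (allL N5280 (tt N4280 F38364) (tt N5280 F38365) (tt N6104 (iv F45622)) (tt N5662 (iv F133151)) (tt N4270 F38366) (tt N5661 (iv F133152)) (tt N4269 (iv D8160)) (tt N6475 D10406) (tt N6471 (iv F48142)) (tt N6372 (iv F47485)))
theorem Q5282 : ∀ i, i < 5282 → P i := stepQ 5281 Q5281 (allL N5281 (tt N4281 F38367) (tt N5281 F38368) (tt N6105 (iv F45625)) (tt N5281 F38369) (tt N6475 (iv F48174)) (tt N4272 F38370) (tt N6474 (iv F48160)) (tt N4270 (iv D8161)) (tt N6472 (iv F48147)) (tt N6373 (iv F47490)))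
theorem Q5283 : ∀ i, i < 5283 → P i := stepQ 5282 Q5282 (allL N5282 (tt N4282 F38384) (tt N5282 F38385) (tt N6107 (iv F45639)) (tt N5684 (iv F133182)) (tt N4272 F38386) (tt N5683 (iv F133183)) (tt N5282 F38387) (tt N4271 (iv D8165)) (tt N5282 F38388) (tt N6374 (iv F47509)))
theorem Q5284 : ∀ i, i < 5284 → P i := stepQ 5283 Q5283 (allL N5283 (tt N6466 (iv F48111)) (tt N4283 F38389) (tt N5431 (iv F42043)) (tt N5283 F38390) (tt N6476 D10413) (tt N4273 (iv D8166)) (tt N6477 D10414) (tt N4275 F38391) (tt N6044 (iv F45377)) (tt N4274 F38392))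
theorem Q5285 : ∀ i, i < 5285 → P i := stepQ 5284 Q5284 (allL N5284 (tt N6467 (iv F48116)) (tt N4284 F38393) (tt N5459 (iv F42199)) (tt N6256 F132374) (tt N4274 (iv D8167)) (tt N5284 F38394) (tt N6478 D10416) (tt N4276 F38395) (tt N4278 F38396) (tt N6476 (iv F48205)))
theorem Q5286 : ∀ i, i < 5286 → P i := stepQ 5285 Q5285 (allL N5285 (tt N6468 (iv F48121)) (tt N4285 F38397) (tt N5460 (iv F42204)) (tt N5285 F38398) (tt N6478 (iv F48215)) (tt N5395 (iv F41824)) (tt N4274 (iv D8168)) (tt N6479 D10417) (tt N4279 F38399) (tt N6477 (iv F48208)))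
theorem Q5287 : ∀ i, i < 5287 → P i := stepQ 5286 Q5286 (allL N5286 (tt N6469 (iv F48125)) (tt N4286 F38400) (tt N6108 (iv F45644)) (tt N6257 (iv F133150)) (tt N4275 (iv D8169)) (tt N5286 F38401) (tt N6480 D10419) (tt N6476 (iv F48204)) (tt N6379 (iv F47522)) (tt N4276 F38402))
theorem Q5288 : ∀ i, i < 5288 → P i := stepQ 5287 Q5287 (allL N5287 (tt N6470 (iv F48129)) (tt N4287 F38403) (tt N6109 (iv F45648)) (tt N5287 F38404) (tt N6480 (iv F48226)) (tt N5287 F38405) (tt N4275 (iv D8170)) (tt N6481 D10420) (tt N6380 (iv F47526)) (tt N4277 F38406))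
theorem Q5289 : ∀ i, i < 5289 → P i := stepQ 5288 Q5288 (allL N5288 (tt N6471 (iv F48139)) (tt N4289 F38411) (tt N6111 (iv F45655)) (tt N6156 (iv F133148)) (tt N4277 F38412) (tt N6482 D10423) (tt N4276 (iv D8172)) (tt N6483 D10424) (tt N4280 F38413) (tt N6480 (iv F48227)))
theorem Q5290 : ∀ i, i < 5290 → P i := stepQ 5289 Q5289 (allL N5289 (tt N6472 (iv F48143)) (tt N4290 F38414) (tt N6112 (iv F45659)) (tt N5289 F38415) (tt N6483 (iv F48243)) (tt N5289 F38416) (tt N6479 (iv F48219)) (tt N4277 (iv D8173)) (tt N4281 F38417) (tt N6481 (iv F48231)))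
theorem Q5291 : ∀ i, i < 5291 → P i := stepQ 5290 Q5290 (allL N5290 (tt N6473 (iv F48153)) (tt N4292 F38422) (tt N6114 (iv F45666)) (tt N6255 F132601) (tt N4279 F38423) (tt N6259 F132602) (tt N4278 (iv D8175)) (tt N6484 D10428) (tt N6478 (iv F48216)) (tt N6383 (iv F47544)))
theorem Q5292 : ∀ i, i < 5292 → P i := stepQ 5291 Q5291 (allL N5291 (tt N6474 (iv F48156)) (tt N4293 F38424) (tt N6115 (iv F45669)) (tt N5291 F38425) (tt N6484 (iv F48255)) (tt N5291 F38426) (tt N4281 F38427) (tt N4279 (iv D8176)) (tt N6479 (iv F48220)) (tt N6384 (iv F47549)))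
theorem Q5293 : ∀ i, i < 5293 → P i := stepQ 5292 Q5292 (allL N5292 (tt N6475 (iv F48172)) (tt N4297 F38436) (tt N6119 (iv F45681)) (tt N6155 (iv F133157)) (tt N4281 F38437) (tt N6154 (iv F133160)) (tt N6484 (iv F48256)) (tt N4280 (iv D8180)) (tt N6483 (iv F48244)) (tt N6385 (iv F47563)))
theorem Q5294 : ∀ i, i < 5294 → P i := stepQ 5293 Q5293 (allL N5293 (tt N5293 F38455) (tt N6476 (iv F48202)) (tt N4301 F38456) (tt N6485 D10443) (tt N4283 (iv D8186)) (tt N5293 F38457) (tt N6486 D10444) (tt N4286 F38458) (tt N6393 (iv F47620)) (tt N4284 F38459))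
theorem Q5295 : ∀ i, i < 5295 → P i := stepQ 5294 Q5294 (allL N5294 (tt N5294 F38460) (tt N6477 (iv F48206)) (tt N4302 F38461) (tt N5294 F38462) (tt N6486 (iv F48308)) (tt N5390 (iv F41796)) (tt N4283 (iv D8187)) (tt N6487 D10445) (tt N6394 (iv F47626)) (tt N4285 F38463))
theorem Q5296 : ∀ i, i < 5296 → P i := stepQ 5295 Q5295 (allL N5295 (tt N5295 F38464) (tt N6256 F132379) (tt N4377 (iv F132156)) (tt N4284 (iv D8188)) (tt N5295 F38465) (tt N5295 F38466) (tt N6488 D10447) (tt N4288 F38467) (tt N4291 F38468) (tt N6485 (iv F48305)))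
theorem Q5297 : ∀ i, i < 5297 → P i := stepQ 5296 Q5296 (allL N5296 (tt N5296 F38469) (tt N6478 (iv F48214)) (tt N4304 F38470) (tt N6488 (iv F48322)) (tt N4285 F38471) (tt N6489 D10448) (tt N4284 (iv D8189)) (tt N6490 D10449) (tt N4292 F38472) (tt N6486 (iv F48309)))
theorem Q5298 : ∀ i, i < 5298 → P i := stepQ 5297 Q5297 (allL N5297 (tt N5297 F38473) (tt N6479 (iv F48217)) (tt N4305 F38474) (tt N5297 F38475) (tt N6490 (iv F48330)) (tt N5398 (iv F41839)) (tt N4290 F38476) (tt N4285 (iv D8190)) (tt N4293 F38477) (tt N6487 (iv F48314)))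
theorem Q5299 : ∀ i, i < 5299 → P i := stepQ 5298 Q5298 (allL N5298 (tt N5298 F38478) (tt N6257 (iv F133149)) (tt N6491 D10450) (tt N4286 (iv D8191)) (tt N5298 F38479) (tt N5298 F38480) (tt N6492 D10451) (tt N6485 (iv F48304)) (tt N6398 (iv F47643)) (tt N4288 F38481))
theorem Q5300 : ∀ i, i < 5300 → P i := stepQ 5299 Q5299 (allL N5299 (tt N5299 F38482) (tt N6480 (iv F48225)) (tt N4307 F38483) (tt N6492 (iv F48339)) (tt N4287 F38484) (tt N6493 D10452) (tt N4286 (iv D8192)) (tt N6494 D10453) (tt N6399 (iv F47648)) (tt N4289 F38485))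
theorem Q5301 : ∀ i, i < 5301 → P i := stepQ 5300 Q5300 (allL N5300 (tt N5300 F38486) (tt N6481 (iv F48228)) (tt N4308 F38487) (tt N5300 F38488) (tt N6494 (iv F48349)) (tt N5300 F38489) (tt N6487 (iv F48313)) (tt N4287 (iv D8193)) (tt N6400 (iv F47653)) (tt N4290 F38490))
theorem Q5302 : ∀ i, i < 5302 → P i := stepQ 5301 Q5301 (allL N5301 (tt N5301 F38491) (tt N6260 F132614) (tt N4288 (iv D8194)) (tt N4309 F38492) (tt N5301 F38493) (tt N5301 F38494) (tt N6495 D10455) (tt N4377 F132615) (tt N4294 F38495) (tt N6491 (iv F48337)))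
theorem Q5303 : ∀ i, i < 5303 → P i := stepQ 5302 Q5302 (allL N5302 (tt N5302 F38496) (tt N6156 (iv F133147)) (tt N6495 (iv F48356)) (tt N4289 F38497) (tt N5302 F38498) (tt N6496 D10456) (tt N4288 (iv D8195)) (tt N6497 D10457) (tt N4295 F38499) (tt N6492 (iv F48341)))
theorem Q5304 : ∀ i, i < 5304 → P i := stepQ 5303 Q5303 (allL N5303 (tt N5303 F38500) (tt N6482 (iv F48239)) (tt N4311 F38501) (tt N6496 (iv F48361)) (tt N5303 F38502) (tt N4289 (iv D8196)) (tt N5303 F38503) (tt N6498 D10458) (tt N6499 D10459) (tt N6493 (iv F48346)))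
theorem Q5305 : ∀ i, i < 5305 → P i := stepQ 5304 Q5304 (allL N5304 (tt N5304 F38504) (tt N6483 (iv F48242)) (tt N4312 F38505) (tt N6497 (iv F48364)) (tt N4290 F38506) (tt N6498 (iv F48370)) (tt N6490 (iv F48331)) (tt N4289 (iv D8197)) (tt N4297 F38507) (tt N6494 (iv F48350)))
theorem Q5306 : ∀ i, i < 5306 → P i := stepQ 5305 Q5305 (allL N5305 (tt N5305 F38513) (tt N6255 F132618) (tt N4315 F132622) (tt N4292 F38514) (tt N5305 F38515) (tt N4314 F132623) (tt N4291 (iv D8199)) (tt N6500 D10463) (tt N6488 (iv F48324)) (tt N6405 (iv F47678)))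
theorem Q5307 : ∀ i, i < 5307 → P i := stepQ 5306 Q5306 (allL N5306 (tt N5306 F38516) (tt N6259 F132619) (tt N4295 F132624) (tt N4314 F132625) (tt N5306 F38518) (tt N4292 (iv D8200)) (tt N4294 F132626) (tt N6501 D10464) (tt N6495 (iv F133165)) (tt N6406 (iv F47683)))
theorem Q5308 : ∀ i, i < 5308 → P i := stepQ 5307 Q5307 (allL N5307 (tt N5307 F38520) (tt N6484 (iv F48254)) (tt N4313 F38521) (tt N6500 (iv F48388)) (tt N4293 F38522) (tt N6501 (iv F48394)) (tt N4297 F38523) (tt N4292 (iv D8201)) (tt N6490 (iv F48332)) (tt N6407 (iv F47688)))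
theorem Q5309 : ∀ i, i < 5309 → P i := stepQ 5308 Q5308 (allL N5308 (tt N5308 F38534) (tt N6155 (iv F133156)) (tt N6501 (iv F133176)) (tt N4297 F38535) (tt N5308 F38536) (tt N4313 (iv F133172)) (tt N6500 (iv F48390)) (tt N4295 (iv D8205)) (tt N6497 (iv F48366)) (tt N6408 (iv F47705)))
theorem Q5310 : ∀ i, i < 5310 → P i := stepQ 5309 Q5309 (allL N5309 (tt N5309 F38537) (tt N6154 (iv F133158)) (tt N4317 F38538) (tt N4313 (iv F133171)) (tt N4299 F38539) (tt N4297 F38540) (tt N4316 (iv F133179)) (tt N4296 (iv D8206)) (tt N6502 D10474) (tt N6409 (iv F47710)))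
theorem Q5311 : ∀ i, i < 5311 → P i := stepQ 5310 Q5310 (allL N5310 (tt N5310 F38541) (tt N5471 (iv F133161)) (tt N4318 F38542) (tt N4304 (iv F133173)) (tt N4300 F38543) (tt N6499 (iv F48374)) (tt N4303 F132630) (tt N6502 (iv F48431)) (tt N4296 (iv D8207)) (tt N6503 D10475))
theorem Q5312 : ∀ i, i < 5312 → P i := stepQ 5311 Q5311 (allL N5311 (tt N5311 F38562) (tt N5477 (iv F133197)) (tt N4320 F38563) (tt N4325 (iv F133198)) (tt N6502 (iv F48430)) (tt N5311 F38564) (tt N4332 (iv F133200)) (tt N4300 F38565) (tt N4299 (iv D8212)) (tt N6504 D10482))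
theorem Q5313 : ∀ i, i < 5313 → P i := stepQ 5312 Q5312 (allL N5312 (tt N5312 F38566) (tt N5454 (iv F133217)) (tt N4321 F38567) (tt N4323 (iv F133218)) (tt N6503 (iv F48434)) (tt N5312 F38568) (tt N4322 F132664) (tt N6504 (iv F48466)) (tt N6412 (iv F47740)) (tt N4300 (iv D8213)))
theorem Q5314 : ∀ i, i < 5314 → P i := stepQ 5313 Q5313 (allL N5313 (tt N5313 F38570) (tt N5445 (iv F42117)) (tt N4378 F132661) (tt N4301 (iv D8214)) (tt N4322 F38571) (tt N5313 F38572) (tt N6503 (iv F133184)) (tt N4306 F38573) (tt N6426 (iv F47792)) (tt N4303 F38574))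
theorem Q5315 : ∀ i, i < 5315 → P i := stepQ 5314 Q5314 (allL N5314 (tt N5314 F38575) (tt N5446 (iv F42123)) (tt N6486 (iv F48307)) (tt N6503 F133990) (tt N4302 F38576) (tt N6505 D10485) (tt N4301 (iv D8215)) (tt N6506 D10486) (tt N6427 (iv F47796)) (tt N4304 F38577))
theorem Q5316 : ∀ i, i < 5316 → P i := stepQ 5315 Q5315 (allL N5315 (tt N5315 F38578) (tt N5447 (iv F42127)) (tt N6487 (iv F48311)) (tt N4324 F38579) (tt N6506 (iv F48480)) (tt N5392 (iv F41807)) (tt N4308 F38580) (tt N4302 (iv D8216)) (tt N6428 (iv F47801)) (tt N4305 F38581))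
theorem Q5317 : ∀ i, i < 5317 → P i := stepQ 5316 Q5316 (allL N5316 (tt N5316 F38591) (tt N5472 (iv F42259)) (tt N6489 (iv F48326)) (tt N6499 F133987) (tt N5399 (iv F41845)) (tt N4304 (iv D8219)) (tt N5316 F38592) (tt N6507 D10491) (tt N6496 F133988) (tt N6505 (iv F48478)))
theorem Q5318 : ∀ i, i < 5318 → P i := stepQ 5317 Q5317 (allL N5317 (tt N5317 F38593) (tt N5473 (iv F42263)) (tt N6490 (iv F48329)) (tt N6502 F133989) (tt N4305 F38594) (tt N6507 (iv F48501)) (tt N4312 F38595) (tt N4304 (iv D8220)) (tt N4313 F38596) (tt N6506 (iv F48482)))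
theorem Q5319 : ∀ i, i < 5319 → P i := stepQ 5318 Q5318 (allL N5318 (tt N5318 F38597) (tt N6263 (iv F133187)) (tt N4306 (iv D8221)) (tt N6491 (iv F48334)) (tt N4326 F38598) (tt N5318 F38599) (tt N6508 D10494) (tt N4378 F132633) (tt N6431 (iv F47818)) (tt N4309 F38600))
theorem Q5320 : ∀ i, i < 5320 → P i := stepQ 5319 Q5319 (allL N5319 (tt N5319 F38601) (tt N6145 (iv F45764)) (tt N6508 (iv F48509)) (tt N4307 F38602) (tt N4327 F38603) (tt N6509 D10495) (tt N4306 (iv D8222)) (tt N6510 D10496) (tt N6432 (iv F47823)) (tt N4310 F38604))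
theorem Q5321 : ∀ i, i < 5321 → P i := stepQ 5320 Q5320 (allL N5320 (tt N5320 F38605) (tt N6146 (iv F45768)) (tt N6493 (iv F48343)) (tt N6509 (iv F48513)) (tt N5320 F38606) (tt N4307 (iv D8223)) (tt N5320 F38607) (tt N6511 D10497) (tt N6512 D10498) (tt N4311 F38608))
theorem Q5322 : ∀ i, i < 5322 → P i := stepQ 5321 Q5321 (allL N5321 (tt N5321 F38609) (tt N6147 (iv F45772)) (tt N6494 (iv F48348)) (tt N6510 (iv F48517)) (tt N4308 F38610) (tt N6511 (iv F48522)) (tt N6506 (iv F48481)) (tt N4307 (iv D8224)) (tt N6434 (iv F47829)) (tt N4312 F38611))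
theorem Q5323 : ∀ i, i < 5323 → P i := stepQ 5322 Q5322 (allL N5322 (tt N5322 F38615) (tt N6262 (iv F133189)) (tt N4310 F38616) (tt N6495 (iv F48357)) (tt N4330 F38617) (tt N6513 D10501) (tt N4309 (iv D8226)) (tt N6514 D10502) (tt N4314 F38618) (tt N6508 (iv F48511)))
theorem Q5324 : ∀ i, i < 5324 → P i := stepQ 5323 Q5323 (allL N5323 (tt N5323 F38619) (tt N6150 (iv F45782)) (tt N6513 (iv F48535)) (tt N4311 F38620) (tt N6515 D10503) (tt N4310 (iv D8227)) (tt N5323 F38621) (tt N6516 D10504) (tt N6517 D10505) (tt N6509 (iv F48515)))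
theorem Q5325 : ∀ i, i < 5325 → P i := stepQ 5324 Q5324 (allL N5324 (tt N5324 F38622) (tt N6151 (iv F45785)) (tt N6514 (iv F48538)) (tt N4312 F38623) (tt N4332 F38624) (tt N6516 (iv F48547)) (tt N6502 F133991) (tt N4310 (iv D8228)) (tt N4316 F38625) (tt N6510 (iv F48519)))
theorem Q5326 : ∀ i, i < 5326 → P i := stepQ 5325 Q5325 (allL N5325 (tt N5325 F38626) (tt N6152 (iv F45789)) (tt N6498 (iv F48368)) (tt N6516 (iv F48546)) (tt N5325 F38627) (tt N4312 F38628) (tt N6518 D10506) (tt N4311 (iv D8229)) (tt N6519 D10507) (tt N6511 (iv F48523)))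
theorem Q5327 : ∀ i, i < 5327 → P i := stepQ 5326 Q5326 (allL N5326 (tt N5326 F38629) (tt N6153 (iv F45792)) (tt N6499 (iv F48372)) (tt N6517 (iv F48549)) (tt N5326 F38630) (tt N4318 F38631) (tt N5326 F38632) (tt N6519 (iv F48558)) (tt N4311 (iv D8230)) (tt N6520 D10508))
theorem Q5328 : ∀ i, i < 5328 → P i := stepQ 5327 Q5327 (allL N5327 (tt N5327 F38661) (tt N6162 (iv F133195)) (tt N4316 F38662) (tt N6501 (iv F133177)) (tt N4319 F132640) (tt N6500 (iv F133175)) (tt N4317 (iv F133178)) (tt N4314 (iv D8240)) (tt N6514 (iv F48540)) (tt N6440 (iv F47886)))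
theorem Q5329 : ∀ i, i < 5329 → P i := stepQ 5328 Q5328 (allL N5328 (tt N5328 F38664) (tt N6160 (iv F45826)) (tt N6500 (iv F133174)) (tt N4317 F38665) (tt N5328 F38666) (tt N4316 F38667) (tt N6501 (iv F133170)) (tt N4315 (iv D8241)) (tt N6521 D10525) (tt N6441 (iv F47891)))
theorem Q5330 : ∀ i, i < 5330 → P i := stepQ 5329 Q5329 (allL N5329 (tt N5329 F38668) (tt N6161 (iv F45830)) (tt N6488 F132648) (tt N4318 F38669) (tt N5329 F38670) (tt N6517 (iv F48550)) (tt N4377 F38671) (tt N6521 (iv F48619)) (tt N4315 (iv D8242)) (tt N6522 D10526))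
theorem Q5331 : ∀ i, i < 5331 → P i := stepQ 5330 Q5330 (allL N5330 (tt N5330 F38675) (tt N6163 (iv F45837)) (tt N6502 (iv F48429)) (tt N6521 (iv F48617)) (tt N4320 F38676) (tt N6519 (iv F48557)) (tt N6514 (iv F133192)) (tt N4318 F38677) (tt N4317 (iv D8244)) (tt N6523 D10528))
theorem Q5332 : ∀ i, i < 5332 → P i := stepQ 5331 Q5331 (allL N5331 (tt N5331 F38678) (tt N6164 (iv F45840)) (tt N6503 (iv F48433)) (tt N6522 (iv F48621)) (tt N4321 F38679) (tt N6520 (iv F48561)) (tt N4378 F38680) (tt N6523 (iv F48630)) (tt N6444 (iv F47906)) (tt N4318 (iv D8245)))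
theorem Q5333 : ∀ i, i < 5333 → P i := stepQ 5332 Q5332 (allL N5332 (tt N5332 F38681) (tt N6165 (iv F45843)) (tt N4332 (iv F133199)) (tt N5332 F38682) (tt N6514 (iv F133191)) (tt N6524 D10529) (tt N4320 F38683) (tt N4330 F132649) (tt N4319 (iv D8246)) (tt N6525 D10530))
theorem Q5334 : ∀ i, i < 5334 → P i := stepQ 5333 Q5333 (allL N5333 (tt N5333 F38685) (tt N6166 (iv F45847)) (tt N6504 (iv F48464)) (tt N5333 F38686) (tt N6523 (iv F48629)) (tt N5333 F38687) (tt N6525 (iv F48638)) (tt N4321 F38688) (tt N6446 (iv F47914)) (tt N4320 (iv D8247)))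
theorem Q5335 : ∀ i, i < 5335 → P i := stepQ 5334 Q5334 (allL N5334 (tt N5334 F38698) (tt N5455 (iv F42170)) (tt N5334 F38699) (tt N6504 F134009) (tt N4324 F38700) (tt N5334 F38701) (tt N4329 F38702) (tt N4323 (iv D8250)) (tt N6455 (iv F47960)) (tt N4325 F38703))
theorem Q5336 : ∀ i, i < 5336 → P i := stepQ 5335 Q5335 (allL N5335 (tt N5335 F38721) (tt N6265 (iv F133204)) (tt N4327 F38722) (tt N5335 F38723) (tt N6508 (iv F48510)) (tt N6526 D10539) (tt N4326 (iv D8255)) (tt N6525 (iv F133203)) (tt N6457 (iv F47992)) (tt N4330 F38724))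
theorem Q5337 : ∀ i, i < 5337 → P i := stepQ 5336 Q5336 (allL N5336 (tt N5336 F38725) (tt N6169 (iv F45856)) (tt N6526 (iv F48677)) (tt N4328 F38726) (tt N6527 D10541) (tt N4327 (iv D8256)) (tt N4335 F38727) (tt N6528 D10542) (tt N6529 D10543) (tt N4331 F38728))
theorem Q5338 : ∀ i, i < 5338 → P i := stepQ 5337 Q5337 (allL N5337 (tt N5337 F38729) (tt N6170 (iv F45860)) (tt N6525 F134011) (tt N4329 F38730) (tt N6510 (iv F48518)) (tt N6528 (iv F48691)) (tt N6504 F134012) (tt N4327 (iv D8257)) (tt N6459 (iv F48000)) (tt N4332 F38731))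
theorem Q5339 : ∀ i, i < 5339 → P i := stepQ 5338 Q5338 (allL N5338 (tt N5338 F38732) (tt N6171 (iv F45863)) (tt N5338 F38733) (tt N6528 (iv F48690)) (tt N5338 F38734) (tt N4329 F38735) (tt N5338 F38736) (tt N4328 (iv D8258)) (tt N6530 D10544) (tt N4333 F38737))
theorem Q5340 : ∀ i, i < 5340 → P i := stepQ 5339 Q5339 (allL N5339 (tt N5339 F38738) (tt N6172 (iv F45868)) (tt N5339 F38739) (tt N6529 (iv F48695)) (tt N5339 F38740) (tt N6461 (iv F48008)) (tt N4336 F38741) (tt N6530 (iv F48702)) (tt N4328 (iv D8259)) (tt N5339 F38742))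
theorem Q5341 : ∀ i, i < 5341 → P i := stepQ 5340 Q5340 (allL N5340 (tt N5340 F38750) (tt N6264 F132657) (tt N4331 F38751) (tt N5340 F38752) (tt N6531 D10548) (tt N4330 (iv D8262)) (tt N4337 F38753) (tt N6524 (iv F133202)) (tt N5340 F38754) (tt N6526 (iv F48680)))
theorem Q5342 : ∀ i, i < 5342 → P i := stepQ 5341 Q5341 (allL N5341 (tt N5341 F38759) (tt N6175 (iv F45883)) (tt N6531 (iv F48716)) (tt N5341 F38760) (tt N4331 (iv D8264)) (tt N6515 (iv F48543)) (tt N4338 F38761) (tt N6532 D10550) (tt N5341 F38762) (tt N6527 (iv F48688)))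
theorem Q5343 : ∀ i, i < 5343 → P i := stepQ 5342 Q5342 (allL N5342 (tt N5342 F38763) (tt N6176 (iv F45887)) (tt N6524 F134010) (tt N4333 F38764) (tt N6532 (iv F48727)) (tt N4332 F38765) (tt N5342 F38766) (tt N4331 (iv D8265)) (tt N5342 F38767) (tt N6528 (iv F48693)))
theorem Q5344 : ∀ i, i < 5344 → P i := stepQ 5343 Q5343 (allL N5343 (tt N5343 F38837) (tt N6267 F132669) (tt N4335 F38838) (tt N5343 F38839) (tt N6365 (iv F59984)) (tt N4334 (iv D8281)) (tt N6526 (iv F48679)) (tt N5343 F38840) (tt N6364 (iv F59992)) (tt N4337 F38841))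
theorem Q5345 : ∀ i, i < 5345 → P i := stepQ 5344 Q5344 (allL N5344 (tt N5344 F38842) (tt N6177 (iv F45943)) (tt N6365 (iv F59983)) (tt N5344 F38843) (tt N4335 (iv D8282)) (tt N5344 F38844) (tt N6527 (iv F48687)) (tt N5344 F38845) (tt N6363 (iv F59981)) (tt N4338 F38846))
theorem Q5346 : ∀ i, i < 5346 → P i := stepQ 5345 Q5345 (allL N5345 (tt N5345 F38847) (tt N6178 (iv F45948)) (tt N6364 (iv F59991)) (tt N4336 F38848) (tt N6363 (iv F59980)) (tt N5345 F38849) (tt N6529 (iv F48696)) (tt N5345 F38850) (tt N4335 (iv D8283)) (tt N5345 F38851))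
theorem Q5347 : ∀ i, i < 5347 → P i := stepQ 5346 Q5346 (allL N5346 (tt N5346 F38862) (tt N6266 F132673) (tt N4338 F38863) (tt N6366 (iv F59987)) (tt N4337 (iv D8286)) (tt N5346 F38864) (tt N6531 (iv F48717)) (tt N5346 F38865) (tt N5346 F38866) (tt N6365 (iv F59985)))
theorem Q5348 : ∀ i, i < 5348 → P i := stepQ 5347 Q5347 (allL N5347 (tt N4344 F38867) (tt N5347 F38868) (tt N6179 (iv F45967)) (tt N5743 (iv F133233)) (tt N4339 (iv D8287)) (tt N5831 (iv F44577)) (tt N5742 (iv F133234)) (tt N5810 (iv F44439)) (tt N4341 F38869) (tt N5347 F38870))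
theorem Q5349 : ∀ i, i < 5349 → P i := stepQ 5348 Q5348 (allL N5348 (tt N4345 F38877) (tt N5348 F38878) (tt N6180 (iv F45977)) (tt N5751 F132676) (tt N4340 (iv D8289)) (tt N6370 (iv F47469)) (tt N5755 F132677) (tt N4341 F38879) (tt N5810 (iv F44440)) (tt N4376 F38880))
theorem Q5350 : ∀ i, i < 5350 → P i := stepQ 5349 Q5349 (allL N5349 (tt N5831 (iv F44575)) (tt N4348 F38919) (tt N6182 (iv F46018)) (tt N6226 (iv F133230)) (tt N4342 (iv D8298)) (tt N4344 F38920) (tt N6533 D10587) (tt N5412 (iv F41936)) (tt N6375 (iv F47512)) (tt N5349 F38921))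
theorem Q5351 : ∀ i, i < 5351 → P i := stepQ 5350 Q5350 (allL N5350 (tt N5832 (iv F44580)) (tt N4349 F38922) (tt N6183 (iv F46022)) (tt N5420 (iv F41981)) (tt N6533 (iv F48903)) (tt N5350 F38923) (tt N4342 (iv D8299)) (tt N6534 D10588) (tt N6376 (iv F47514)) (tt N5350 F38924))
theorem Q5352 : ∀ i, i < 5352 → P i := stepQ 5351 Q5351 (allL N5351 (tt N5810 (iv F44436)) (tt N4351 F38925) (tt N6184 (iv F46026)) (tt N6227 F132680) (tt N4343 (iv D8300)) (tt N5412 (iv F41935)) (tt N6230 F132681) (tt N4344 F38926) (tt N4345 F38927) (tt N5351 F38928))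
theorem Q5353 : ∀ i, i < 5353 → P i := stepQ 5352 Q5352 (allL N5352 (tt N5352 F38989) (tt N5419 (iv F41973)) (tt N5352 F38990) (tt N6535 D10614) (tt N4346 (iv D8317)) (tt N4379 F38991) (tt N6536 D10615) (tt N5383 (iv F41749)) (tt N6331 (iv F47294)) (tt N5352 F38992))
theorem Q5354 : ∀ i, i < 5354 → P i := stepQ 5353 Q5353 (allL N5353 (tt N5353 F38993) (tt N5420 (iv F41979)) (tt N5353 F38994) (tt N4349 F38995) (tt N6536 (iv F49004)) (tt N5353 F38996) (tt N4346 (iv D8318)) (tt N6537 D10616) (tt N6332 (iv F47300)) (tt N5353 F38997))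
theorem Q5355 : ∀ i, i < 5355 → P i := stepQ 5354 Q5354 (allL N5354 (tt N5354 F38998) (tt N5412 (iv F41934)) (tt N4358 F38999) (tt N6538 D10617) (tt N4347 (iv D8319)) (tt N4351 F39000) (tt N6539 D10618) (tt N4348 F39001) (tt N6386 (iv F47586)) (tt N5354 F39002))
theorem Q5356 : ∀ i, i < 5356 → P i := stepQ 5355 Q5355 (allL N5355 (tt N5355 F39003) (tt N5413 (iv F41939)) (tt N4359 F39004) (tt N5384 (iv F41755)) (tt N6539 (iv F49017)) (tt N5382 (iv F41742)) (tt N4347 (iv D8320)) (tt N6540 D10619) (tt N6387 (iv F47592)) (tt N5355 F39005))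
theorem Q5357 : ∀ i, i < 5357 → P i := stepQ 5356 Q5356 (allL N5356 (tt N5356 F39006) (tt N6226 (iv F133229)) (tt N6541 D10620) (tt N4348 (iv D8321)) (tt N6535 (iv F48999)) (tt N4353 F39007) (tt N6542 D10621) (tt N6538 (iv F49013)) (tt N6388 (iv F47596)) (tt N5356 F39008))
theorem Q5358 : ∀ i, i < 5358 → P i := stepQ 5357 Q5357 (allL N5357 (tt N5357 F39009) (tt N6533 (iv F48902)) (tt N4361 F39010) (tt N6542 (iv F49028)) (tt N4349 F39011) (tt N6543 D10622) (tt N4348 (iv D8322)) (tt N6544 D10623) (tt N6389 (iv F47600)) (tt N5357 F39012))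
theorem Q5359 : ∀ i, i < 5359 → P i := stepQ 5358 Q5358 (allL N5358 (tt N5358 F39013) (tt N6534 (iv F48905)) (tt N4362 F39014) (tt N6537 (iv F49008)) (tt N6544 (iv F49037)) (tt N5358 F39015) (tt N6540 (iv F49021)) (tt N4349 (iv D8323)) (tt N6390 (iv F47603)) (tt N5358 F39016))
theorem Q5360 : ∀ i, i < 5360 → P i := stepQ 5359 Q5359 (allL N5359 (tt N5359 F39017) (tt N5402 (iv F41861)) (tt N4363 F39018) (tt N5359 F39019) (tt N4350 (iv D8324)) (tt N5381 (iv F41734)) (tt N6545 D10624) (tt N5359 F39020) (tt N5359 F39021) (tt N5359 F39022))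
theorem Q5361 : ∀ i, i < 5361 → P i := stepQ 5360 Q5360 (allL N5360 (tt N5360 F39023) (tt N5403 (iv F41868)) (tt N4364 F39024) (tt N4375 F132704) (tt N6545 (iv F49042)) (tt N4352 F39026) (tt N4350 (iv D8325)) (tt N4374 (iv F133069)) (tt N5360 F39027) (tt N5360 F39028))
theorem Q5362 : ∀ i, i < 5362 → P i := stepQ 5361 Q5361 (allL N5361 (tt N5361 F39029) (tt N6227 F132698) (tt N4367 F132705) (tt N4351 (iv D8326)) (tt N4365 F132699) (tt N6538 (iv F49012)) (tt N4366 F132706) (tt N4353 F39031) (tt N4355 F39032) (tt N5361 F39033))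
theorem Q5363 : ∀ i, i < 5363 → P i := stepQ 5362 Q5362 (allL N5362 (tt N5362 F39034) (tt N6230 F132700) (tt N4353 F132702) (tt N4366 F132703) (tt N4352 F39036) (tt N6541 (iv F133251)) (tt N4351 (iv D8327)) (tt N4367 F132701) (tt N4356 F39037) (tt N5362 F39038))
theorem Q5364 : ∀ i, i < 5364 → P i := stepQ 5363 Q5363 (allL N5363 (tt N5363 F39055) (tt N6219 (iv F133236)) (tt N4368 F39056) (tt N4358 (iv F133250)) (tt N5363 F39057) (tt N4354 (iv D8331)) (tt N6543 (iv F49033)) (tt N4360 (iv F133253)) (tt N6413 (iv F133108)) (tt N5363 F39058))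
theorem Q5365 : ∀ i, i < 5365 → P i := stepQ 5364 Q5364 (allL N5364 (tt N5364 F39130) (tt N6217 (iv F46210)) (tt N5381 (iv F41732)) (tt N6546 D10659) (tt N4357 (iv D8349)) (tt N4363 F39131) (tt N6547 D10660) (tt N5364 F39132) (tt N5389 (iv F41791)) (tt N5364 F39133))
theorem Q5366 : ∀ i, i < 5366 → P i := stepQ 5365 Q5365 (allL N5365 (tt N5365 F39134) (tt N6218 (iv F46214)) (tt N5382 (iv F41740)) (tt N5365 F39135) (tt N6547 (iv F49201)) (tt N4359 F39136) (tt N4357 (iv D8350)) (tt N6548 D10661) (tt N5390 (iv F41797)) (tt N5365 F39137))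
theorem Q5367 : ∀ i, i < 5367 → P i := stepQ 5366 Q5366 (allL N5366 (tt N5366 F39143) (tt N6220 (iv F46223)) (tt N6539 (iv F49016)) (tt N6543 F134033) (tt N4359 F39144) (tt N6542 F134034) (tt N4358 (iv D8352)) (tt N6549 D10665) (tt N6414 (iv F47748)) (tt N5366 F39145))
theorem Q5368 : ∀ i, i < 5368 → P i := stepQ 5367 Q5367 (allL N5367 (tt N5367 F39146) (tt N6221 (iv F46226)) (tt N6540 (iv F49020)) (tt N5367 F39147) (tt N6549 (iv F49221)) (tt N6548 (iv F49205)) (tt N4362 F39148) (tt N4359 (iv D8353)) (tt N6415 (iv F47752)) (tt N5367 F39149))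
theorem Q5369 : ∀ i, i < 5369 → P i := stepQ 5368 Q5368 (allL N5368 (tt N5368 F39150) (tt N6231 (iv F133256)) (tt N4360 (iv D8354)) (tt N6541 (iv F49024)) (tt N5368 F39151) (tt N4366 F39152) (tt N6550 D10667) (tt N4368 (iv F133252)) (tt N6419 (iv F47769)) (tt N5368 F39153))
theorem Q5370 : ∀ i, i < 5370 → P i := stepQ 5369 Q5369 (allL N5369 (tt N5369 F39154) (tt N6223 (iv F46233)) (tt N6550 (iv F49228)) (tt N4361 F39155) (tt N5369 F39156) (tt N6551 D10668) (tt N4360 (iv D8355)) (tt N6552 D10669) (tt N6420 (iv F47773)) (tt N5369 F39157))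
theorem Q5371 : ∀ i, i < 5371 → P i := stepQ 5370 Q5370 (allL N5370 (tt N5370 F39158) (tt N6224 (iv F46237)) (tt N6543 (iv F49031)) (tt N6551 (iv F49232)) (tt N5370 F39159) (tt N4361 (iv D8356)) (tt N4368 F39160) (tt N6553 D10670) (tt N6554 D10671) (tt N5370 F39161))
theorem Q5372 : ∀ i, i < 5372 → P i := stepQ 5371 Q5371 (allL N5371 (tt N5371 F39162) (tt N6225 (iv F46241)) (tt N6544 (iv F49036)) (tt N6552 (iv F49236)) (tt N4362 F39163) (tt N6553 (iv F49241)) (tt N6549 (iv F49222)) (tt N4361 (iv D8357)) (tt N6422 (iv F47778)) (tt N5371 F39164))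
theorem Q5373 : ∀ i, i < 5373 → P i := stepQ 5372 Q5372 (allL N5372 (tt N5372 F39165) (tt N5425 (iv F134466)) (tt N5372 F39166) (tt N4363 (iv D8358)) (tt N4372 F39167) (tt N6546 (iv F49197)) (tt N4379 F133875) (tt N5372 F39168) (tt N5372 F39169) (tt N5372 F39170))
theorem Q5374 : ∀ i, i < 5374 → P i := stepQ 5373 Q5373 (allL N5373 (tt N5373 F39171) (tt N5424 F133871) (tt N6545 (iv F49040)) (tt N4379 F133872) (tt N4364 F39172) (tt N6535 F133873) (tt N4363 (iv D8359)) (tt N5386 F133874) (tt N5373 F39173) (tt N5373 F39174))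
theorem Q5375 : ∀ i, i < 5375 → P i := stepQ 5374 Q5374 (allL N5374 (tt N5374 F39175) (tt N5404 F132713) (tt N4374 (iv F133068)) (tt N4373 F39176) (tt N5386 (iv F133255)) (tt N4365 F39177) (tt N5374 F39178) (tt N4364 (iv D8360)) (tt N5374 F39179) (tt N5374 F39180))
theorem Q5376 : ∀ i, i < 5376 → P i := stepQ 5375 Q5375 (allL N5375 (tt N5375 F39206) (tt N6229 (iv F46283)) (tt N6538 (iv F133247)) (tt N4368 F39207) (tt N6555 D10685) (tt N4367 (iv D8367)) (tt N6551 (iv F49233)) (tt N6541 (iv F133246)) (tt N6556 D10687) (tt N5375 F39208))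
theorem Q5377 : ∀ i, i < 5377 → P i := stepQ 5376 Q5376 (allL N5376 (tt N5376 F39218) (tt N6232 (iv F46295)) (tt N6413 F133925) (tt N6556 (iv F49308)) (tt N5376 F39219) (tt N4370 F39220) (tt N6554 (iv F49245)) (tt N6419 F133926) (tt N4368 (iv D8370)) (tt N6557 D10690))
theorem Q5378 : ∀ i, i < 5378 → P i := stepQ 5377 Q5377 (allL N5377 (tt N5377 F39261) (tt N6237 (iv F46337)) (tt N6395 (iv F133091)) (tt N4370 F39262) (tt N5377 F39263) (tt N6556 (iv F49309)) (tt N6442 (iv F47895)) (tt N6401 (iv F133090)) (tt N4369 (iv D8382)) (tt N6558 D10708))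
theorem Q5379 : ∀ i, i < 5379 → P i := stepQ 5378 Q5378 (allL N5378 (tt N5378 F39270) (tt N6240 (iv F46346)) (tt N6426 (iv F133121)) (tt N6558 (iv F49383)) (tt N4371 F39271) (tt N6557 (iv F49319)) (tt N6444 (iv F47905)) (tt N6431 (iv F133112)) (tt N4378 F39272) (tt N4370 (iv D8385)))
theorem Q5380 : ∀ i, i < 5380 → P i := stepQ 5379 Q5379 (allL N5379 (tt N5379 F39344) (tt N6244 (iv F46424)) (tt N5386 F133261) (tt N5379 F39345) (tt N4374 (iv D8401)) (tt N6555 (iv F49301)) (tt N5379 F39346) (tt N6545 (iv F133249)) (tt N5379 F39347) (tt N5379 F39348))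
theorem Q5381 : ∀ i, i < 5381 → P i := stepQ 5380 Q5380 (allL N5380 (tt N5380 F39690) (tt N6261 (iv F46757)) (tt N6485 F132723) (tt N4378 F39691) (tt N5380 F39692) (tt N5380 F39693) (tt N6522 (iv F48623)) (tt N6491 (iv F133164)) (tt N6558 (iv F49385)) (tt N4377 (iv D8492)))
theorem Q5382 : ∀ i, i < 5382 → P i := stepQ 5381 Q5381 (allL N5381 (tt N5381 F41730) (tt N4407 F41731) (tt N5364 F41732) (tt N5381 F41733) (tt N4380 (iv D8919)) (tt N5359 F41734) (tt N6559 D11375) (tt N5381 F41735) (tt N4387 F41736) (tt N5381 F41737))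
theorem Q5383 : ∀ i, i < 5383 → P i := stepQ 5382 Q5382 (allL N5382 (tt N5382 F41738) (tt N4408 F41739) (tt N5365 F41740) (tt N4382 F41741) (tt N6559 (iv F52496)) (tt N5355 F41742) (tt N4380 (iv D8920)) (tt N6560 D11376) (tt N4388 F41743) (tt N5382 F41744))
theorem Q5384 : ∀ i, i < 5384 → P i := stepQ 5383 Q5383 (allL N5383 (tt N5383 F41745) (tt N4412 F41746) (tt N5383 F41747) (tt N6561 D11377) (tt N4381 (iv D8921)) (tt N4383 F41748) (tt N6562 D11378) (tt N5352 F41749) (tt N5255 F41750) (tt N5383 F41751))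
theorem Q5385 : ∀ i, i < 5385 → P i := stepQ 5384 Q5384 (allL N5384 (tt N5384 F41752) (tt N4413 F41753) (tt N5384 F41754) (tt N5355 F41755) (tt N6562 (iv F52517)) (tt N4382 F41756) (tt N4381 (iv D8922)) (tt N6563 D11379) (tt N5256 F41757) (tt N5384 F41758))
theorem Q5386 : ∀ i, i < 5386 → P i := stepQ 5385 Q5385 (allL N5385 (tt N5385 F41759) (tt N4414 F41760) (tt N5385 F41761) (tt N6560 (iv F52502)) (tt N5385 F41762) (tt N6563 (iv F52525)) (tt N5385 F41763) (tt N4382 (iv D8923)) (tt N4389 F41764) (tt N5385 F41765))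
theorem Q5387 : ∀ i, i < 5387 → P i := stepQ 5386 Q5386 (allL N5386 (tt N5386 F41766) (tt N4417 F41767) (tt N5379 (iv F133261)) (tt N4383 (iv D8924)) (tt N5374 F133255) (tt N6561 (iv F52510)) (tt N5386 F41769) (tt N5373 (iv F133874)) (tt N5386 F41771) (tt N5386 F41772))
theorem Q5388 : ∀ i, i < 5388 → P i := stepQ 5387 Q5387 (allL N5387 (tt N4385 F41773) (tt N5387 F41774) (tt N4420 F41775) (tt N5387 F41776) (tt N5387 F41777) (tt N6564 D11381) (tt N5273 F41778) (tt N5387 F41779) (tt N4384 (iv D8925)) (tt N4390 F41780))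
theorem Q5389 : ∀ i, i < 5389 → P i := stepQ 5388 Q5388 (allL N5388 (tt N6564 (iv F52536)) (tt N4386 F41781) (tt N4423 F41782) (tt N5388 F41783) (tt N6565 D11382) (tt N4385 (iv D8926)) (tt N6566 D11383) (tt N5388 F41784) (tt N5062 F41785) (tt N4391 F41786))
theorem Q5390 : ∀ i, i < 5390 → P i := stepQ 5389 Q5389 (allL N5389 (tt N5389 F41787) (tt N6565 (iv F52543)) (tt N4387 F41788) (tt N6567 D11384) (tt N4386 (iv D8927)) (tt N5389 F41789) (tt N6568 D11385) (tt N5389 F41790) (tt N5364 F41791) (tt N4392 F41792))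
theorem Q5391 : ∀ i, i < 5391 → P i := stepQ 5390 Q5390 (allL N5390 (tt N5390 F41793) (tt N6566 (iv F52549)) (tt N4388 F41794) (tt N5390 F41795) (tt N6568 (iv F52564)) (tt N5294 F41796) (tt N4386 (iv D8928)) (tt N6569 D11386) (tt N5365 F41797) (tt N4393 F41798))
theorem Q5392 : ∀ i, i < 5392 → P i := stepQ 5391 Q5391 (allL N5391 (tt N5391 F41799) (tt N4434 F41800) (tt N6568 (iv F52563)) (tt N5391 F41801) (tt N4388 F41802) (tt N6570 D11387) (tt N4387 (iv D8929)) (tt N6571 D11388) (tt N6559 (iv F52497)) (tt N4394 F41803))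
theorem Q5393 : ∀ i, i < 5393 → P i := stepQ 5392 Q5392 (allL N5392 (tt N5392 F41804) (tt N4435 F41805) (tt N6569 (iv F52568)) (tt N4389 F41806) (tt N6571 (iv F52583)) (tt N5315 F41807) (tt N5392 F41808) (tt N4388 (iv D8930)) (tt N6560 (iv F52505)) (tt N4395 F41809))
theorem Q5394 : ∀ i, i < 5394 → P i := stepQ 5393 Q5393 (allL N5393 (tt N4391 F41810) (tt N5393 F41811) (tt N4443 F41812) (tt N5393 F41813) (tt N6572 D11389) (tt N4390 (iv D8931)) (tt N6573 D11390) (tt N5393 F41814) (tt N5393 F41815) (tt N6564 (iv F52542)))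
theorem Q5395 : ∀ i, i < 5395 → P i := stepQ 5394 Q5394 (allL N5394 (tt N6572 (iv F52586)) (tt N4392 F41816) (tt N4445 F41817) (tt N6574 D11391) (tt N4391 (iv D8932)) (tt N5394 F41818) (tt N6575 D11392) (tt N5394 F41819) (tt N5394 F41820) (tt N6565 (iv F52548)))
theorem Q5396 : ∀ i, i < 5396 → P i := stepQ 5395 Q5395 (allL N5395 (tt N6573 (iv F52592)) (tt N4393 F41821) (tt N4446 F41822) (tt N5395 F41823) (tt N6575 (iv F52605)) (tt N5285 F41824) (tt N4391 (iv D8933)) (tt N6576 D11393) (tt N5395 F41825) (tt N6566 (iv F52554)))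
theorem Q5397 : ∀ i, i < 5397 → P i := stepQ 5396 Q5396 (allL N5396 (tt N5396 F41826) (tt N6574 (iv F52598)) (tt N5396 F41827) (tt N4392 (iv D8934)) (tt N5396 F41828) (tt N5396 F41829) (tt N6577 D11394) (tt N5396 F41830) (tt N5396 F41831) (tt N6567 (iv F52561)))
theorem Q5398 : ∀ i, i < 5398 → P i := stepQ 5397 Q5397 (allL N5397 (tt N5397 F41832) (tt N6575 (iv F52603)) (tt N4394 F41833) (tt N6577 (iv F52615)) (tt N4393 F41834) (tt N6578 D11395) (tt N4392 (iv D8935)) (tt N6579 D11396) (tt N5397 F41835) (tt N6568 (iv F52566)))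
theorem Q5399 : ∀ i, i < 5399 → P i := stepQ 5398 Q5398 (allL N5398 (tt N5398 F41836) (tt N6576 (iv F52607)) (tt N4395 F41837) (tt N5398 F41838) (tt N6579 (iv F52624)) (tt N5297 F41839) (tt N5398 F41840) (tt N4393 (iv D8936)) (tt N5398 F41841) (tt N6569 (iv F52573)))
theorem Q5400 : ∀ i, i < 5400 → P i := stepQ 5399 Q5399 (allL N5399 (tt N5399 F41842) (tt N4455 F41843) (tt N6578 (iv F52619)) (tt N5399 F41844) (tt N5316 F41845) (tt N4394 (iv D8937)) (tt N5399 F41846) (tt N6580 D11397) (tt N6581 D11398) (tt N6570 (iv F52579)))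
theorem Q5401 : ∀ i, i < 5401 → P i := stepQ 5400 Q5400 (allL N5400 (tt N5400 F41847) (tt N4456 F41848) (tt N6579 (iv F52623)) (tt N5400 F41849) (tt N4395 F41850) (tt N6580 (iv F52631)) (tt N5400 F41851) (tt N4394 (iv D8938)) (tt N5400 F41852) (tt N6571 (iv F52585)))
theorem Q5402 : ∀ i, i < 5402 → P i := stepQ 5401 Q5401 (allL N5401 (tt N4736 F41853) (tt N5047 F41854) (tt N4397 F41855) (tt N5401 F41856) (tt N6582 D11399) (tt N4396 (iv D8939)) (tt N6583 D11400) (tt N5401 F41857) (tt N5401 F41858) (tt N5401 F41859))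
theorem Q5403 : ∀ i, i < 5403 → P i := stepQ 5402 Q5402 (allL N5402 (tt N4738 F41860) (tt N5359 F41861) (tt N6582 (iv F52640)) (tt N5402 F41862) (tt N4397 (iv D8940)) (tt N4407 F41863) (tt N6584 D11401) (tt N5402 F41864) (tt N5402 F41865) (tt N5402 F41866))
theorem Q5404 : ∀ i, i < 5404 → P i := stepQ 5403 Q5403 (allL N5403 (tt N4739 F41867) (tt N5360 F41868) (tt N6583 (iv F52647)) (tt N4398 F41869) (tt N6584 (iv F52655)) (tt N5089 F133232) (tt N4397 (iv D8941)) (tt N5088 (iv F133877)) (tt N5403 F41871) (tt N5403 F41872))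
theorem Q5405 : ∀ i, i < 5405 → P i := stepQ 5404 Q5404 (allL N5404 (tt N4740 F41881) (tt N5374 (iv F132713)) (tt N6585 D11403) (tt N4399 (iv D8943)) (tt N4417 F41883) (tt N5072 F132331) (tt N5404 F41885) (tt N5069 (iv F132898)) (tt N5404 F41887) (tt N5404 F41888))
theorem Q5406 : ∀ i, i < 5406 → P i := stepQ 5405 Q5405 (allL N5405 (tt N4401 F41889) (tt N4741 F41890) (tt N4664 F41891) (tt N4462 F41892) (tt N4652 F41893) (tt N6586 D11404) (tt N4650 F41894) (tt N5405 F41895) (tt N4400 (iv D8944)) (tt N5405 F41896))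
theorem Q5407 : ∀ i, i < 5407 → P i := stepQ 5406 Q5406 (allL N5406 (tt N6586 (iv F52673)) (tt N4404 F41897) (tt N5062 F41898) (tt N4466 F41899) (tt N6587 D11405) (tt N4401 (iv D8945)) (tt N6588 D11406) (tt N5406 F41900) (tt N4423 F41901) (tt N5406 F41902))
theorem Q5408 : ∀ i, i < 5408 → P i := stepQ 5407 Q5407 (allL N5407 (tt N4747 F41903) (tt N4901 F41904) (tt N4405 F41905) (tt N4475 F41906) (tt N4890 F41907) (tt N6589 D11407) (tt N4426 F41908) (tt N4889 F41909) (tt N4402 (iv D8946)) (tt N4904 F41910))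
theorem Q5409 : ∀ i, i < 5409 → P i := stepQ 5408 Q5408 (allL N5408 (tt N4749 F41911) (tt N5044 F41912) (tt N4406 F41913) (tt N4477 F41914) (tt N6590 D11408) (tt N4403 (iv D8947)) (tt N6591 D11409) (tt N5035 F41915) (tt N6589 (iv F52697)) (tt N5408 F41916))
theorem Q5410 : ∀ i, i < 5410 → P i := stepQ 5409 Q5409 (allL N5409 (tt N4750 F41917) (tt N6587 (iv F52680)) (tt N4407 F41918) (tt N6592 D11410) (tt N4404 (iv D8948)) (tt N6582 (iv F52641)) (tt N6593 D11411) (tt N5409 F41919) (tt N4428 F41920) (tt N5409 F41921))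
theorem Q5411 : ∀ i, i < 5411 → P i := stepQ 5410 Q5410 (allL N5410 (tt N4751 F41922) (tt N6588 (iv F52686)) (tt N4408 F41923) (tt N4479 F41924) (tt N6593 (iv F52719)) (tt N6591 (iv F52709)) (tt N4404 (iv D8949)) (tt N6594 D11412) (tt N4429 F41925) (tt N5410 F41926))
theorem Q5412 : ∀ i, i < 5412 → P i := stepQ 5411 Q5411 (allL N5411 (tt N4754 F41927) (tt N5203 F41928) (tt N6589 (iv F52694)) (tt N4410 F41929) (tt N6595 D11413) (tt N4405 (iv D8950)) (tt N6596 D11414) (tt N5193 F41930) (tt N4406 F41931) (tt N4922 F41932))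
theorem Q5413 : ∀ i, i < 5413 → P i := stepQ 5412 Q5412 (allL N5412 (tt N4756 F41933) (tt N5354 F41934) (tt N6590 (iv F52701)) (tt N6597 D11415) (tt N4406 (iv D8951)) (tt N5351 F41935) (tt N6598 D11416) (tt N5349 F41936) (tt N6595 (iv F52732)) (tt N5412 F41937))
theorem Q5414 : ∀ i, i < 5414 → P i := stepQ 5413 Q5413 (allL N5413 (tt N4757 F41938) (tt N5355 F41939) (tt N6591 (iv F52707)) (tt N4413 F41940) (tt N6598 (iv F52748)) (tt N4408 F41941) (tt N4406 (iv D8952)) (tt N6599 D11417) (tt N6596 (iv F52738)) (tt N5413 F41942))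
theorem Q5415 : ∀ i, i < 5415 → P i := stepQ 5414 Q5414 (allL N5414 (tt N4758 F41943) (tt N6559 (iv F52493)) (tt N6593 (iv F52718)) (tt N5414 F41944) (tt N4408 F41945) (tt N6600 D11418) (tt N4407 (iv D8953)) (tt N6601 D11419) (tt N4434 F41946) (tt N5414 F41947))
theorem Q5416 : ∀ i, i < 5416 → P i := stepQ 5415 Q5415 (allL N5415 (tt N4759 F41948) (tt N6560 (iv F52500)) (tt N6594 (iv F52723)) (tt N4414 F41949) (tt N6601 (iv F52761)) (tt N6599 (iv F52753)) (tt N5415 F41950) (tt N4408 (iv D8954)) (tt N4435 F41951) (tt N5415 F41952))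
theorem Q5417 : ∀ i, i < 5417 → P i := stepQ 5416 Q5416 (allL N5416 (tt N4760 F41953) (tt N5159 F41954) (tt N4495 F41955) (tt N5193 F41956) (tt N6602 D11420) (tt N4409 (iv D8955)) (tt N6603 D11421) (tt N4410 F41957) (tt N4411 F41958) (tt N4864 F41959))
theorem Q5418 : ∀ i, i < 5418 → P i := stepQ 5417 Q5417 (allL N5417 (tt N4761 F41960) (tt N5255 F41961) (tt N4497 F41962) (tt N6604 D11422) (tt N4410 (iv D8956)) (tt N5417 F41963) (tt N6605 D11423) (tt N6602 (iv F52769)) (tt N4412 F41964) (tt N4939 F41965))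
theorem Q5419 : ∀ i, i < 5419 → P i := stepQ 5418 Q5418 (allL N5418 (tt N4762 F41966) (tt N5256 F41967) (tt N4498 F41968) (tt N6596 (iv F52736)) (tt N6605 (iv F52787)) (tt N4437 F41969) (tt N4410 (iv D8957)) (tt N6606 D11424) (tt N4413 F41970) (tt N4940 F41971))
theorem Q5420 : ∀ i, i < 5420 → P i := stepQ 5419 Q5419 (allL N5419 (tt N4763 F41972) (tt N5352 F41973) (tt N4499 F41974) (tt N6607 D11425) (tt N4411 (iv D8958)) (tt N4415 F41975) (tt N6608 D11426) (tt N4412 F41976) (tt N6602 (iv F52770)) (tt N5419 F41977))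
theorem Q5421 : ∀ i, i < 5421 → P i := stepQ 5420 Q5420 (allL N5420 (tt N4764 F41978) (tt N5353 F41979) (tt N4500 F41980) (tt N5350 F41981) (tt N6608 (iv F52805)) (tt N5420 F41982) (tt N4411 (iv D8959)) (tt N6609 D11427) (tt N6603 (iv F52777)) (tt N5420 F41983))
theorem Q5422 : ∀ i, i < 5422 → P i := stepQ 5421 Q5421 (allL N5421 (tt N4765 F41984) (tt N6561 (iv F52508)) (tt N6610 D11428) (tt N4412 (iv D8960)) (tt N6597 (iv F52742)) (tt N4417 F41985) (tt N6611 D11429) (tt N6607 (iv F52800)) (tt N6604 (iv F52782)) (tt N5421 F41986))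
theorem Q5423 : ∀ i, i < 5423 → P i := stepQ 5422 Q5422 (allL N5422 (tt N4766 F41987) (tt N6562 (iv F52515)) (tt N4502 F41988) (tt N6611 (iv F52819)) (tt N4413 F41989) (tt N5422 F41990) (tt N4412 (iv D8961)) (tt N6612 D11430) (tt N6605 (iv F52788)) (tt N5422 F41991))
theorem Q5424 : ∀ i, i < 5424 → P i := stepQ 5423 Q5423 (allL N5423 (tt N4767 F41992) (tt N6563 (iv F52522)) (tt N4503 F41993) (tt N6599 (iv F52752)) (tt N6612 (iv F52824)) (tt N4414 F41994) (tt N6609 (iv F52812)) (tt N4413 (iv D8962)) (tt N6606 (iv F52794)) (tt N5423 F41995))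
theorem Q5425 : ∀ i, i < 5425 → P i := stepQ 5424 Q5424 (allL N5424 (tt N4768 F41996) (tt N5373 (iv F133871)) (tt N6613 D11431) (tt N4415 (iv D8963)) (tt N5069 F133508) (tt N6607 (iv F52799)) (tt N5068 (iv F134341)) (tt N4417 F41999) (tt N5424 F42000) (tt N5424 F42001))
theorem Q5426 : ∀ i, i < 5426 → P i := stepQ 5425 Q5425 (allL N5425 (tt N4769 F42002) (tt N5372 F134466) (tt N4505 F42004) (tt N5068 F134467) (tt N4416 F42005) (tt N6614 D11433) (tt N4415 (iv D8964)) (tt N5425 F42006) (tt N5425 F42007) (tt N5425 F42008))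
theorem Q5427 : ∀ i, i < 5427 → P i := stepQ 5426 Q5426 (allL N5426 (tt N4770 F42009) (tt N6615 D11434) (tt N4417 (iv D8965)) (tt N4506 F42010) (tt N6585 (iv F52667)) (tt N6610 (iv F52816)) (tt N5426 F42011) (tt N6613 (iv F52830)) (tt N5426 F42012) (tt N5426 F42013))
theorem Q5428 : ∀ i, i < 5428 → P i := stepQ 5427 Q5427 (allL N5427 (tt N4421 F42014) (tt N4771 F42015) (tt N4538 F42016) (tt N4510 F42017) (tt N4528 F42018) (tt N4419 F42019) (tt N4525 F42020) (tt N4883 F42021) (tt N6616 D11435) (tt N4418 (iv D8966)))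
theorem Q5429 : ∀ i, i < 5429 → P i := stepQ 5428 Q5428 (allL N5428 (tt N4422 F42022) (tt N4772 F42023) (tt N5273 F42024) (tt N4512 F42025) (tt N5428 F42026) (tt N6617 D11436) (tt N4420 F42027) (tt N4959 F42028) (tt N4419 (iv D8967)) (tt N4442 F42029))
theorem Q5430 : ∀ i, i < 5430 → P i := stepQ 5429 Q5429 (allL N5429 (tt N4423 F42030) (tt N4773 F42031) (tt N6564 (iv F52538)) (tt N4513 F42032) (tt N6618 D11437) (tt N4420 (iv D8968)) (tt N6619 D11438) (tt N5429 F42033) (tt N6586 (iv F52678)) (tt N4443 F42034))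
theorem Q5431 : ∀ i, i < 5431 → P i := stepQ 5430 Q5430 (allL N5430 (tt N6616 (iv F52850)) (tt N4426 F42035) (tt N4917 F42036) (tt N4519 F42037) (tt N4904 F42038) (tt N6620 D11439) (tt N4901 F42039) (tt N4891 F42040) (tt N4421 (iv D8969)) (tt N4890 F42041))
theorem Q5432 : ∀ i, i < 5432 → P i := stepQ 5431 Q5431 (allL N5431 (tt N6617 (iv F52858)) (tt N4427 F42042) (tt N5283 F42043) (tt N4521 F42044) (tt N6621 D11440) (tt N4422 (iv D8970)) (tt N6622 D11441) (tt N4967 F42045) (tt N6620 (iv F52877)) (tt N4444 F42046))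
theorem Q5433 : ∀ i, i < 5433 → P i := stepQ 5432 Q5432 (allL N5432 (tt N6618 (iv F52864)) (tt N4428 F42047) (tt N6565 (iv F52544)) (tt N6623 D11442) (tt N4423 (iv D8971)) (tt N5432 F42048) (tt N6624 D11443) (tt N5432 F42049) (tt N6587 (iv F52684)) (tt N4445 F42050))
theorem Q5434 : ∀ i, i < 5434 → P i := stepQ 5433 Q5433 (allL N5433 (tt N6619 (iv F52869)) (tt N4429 F42051) (tt N6566 (iv F52550)) (tt N4523 F42052) (tt N6624 (iv F52895)) (tt N6622 (iv F52887)) (tt N4423 (iv D8972)) (tt N6625 D11444) (tt N6588 (iv F52690)) (tt N4446 F42053))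
theorem Q5435 : ∀ i, i < 5435 → P i := stepQ 5434 Q5434 (allL N5434 (tt N4779 F42054) (tt N4474 F42055) (tt N5434 F42056) (tt N4425 F42057) (tt N4524 F42058) (tt N5434 F42059) (tt N4518 F42060) (tt N4899 F42061) (tt N6626 D11445) (tt N4424 (iv D8973)))
theorem Q5436 : ∀ i, i < 5436 → P i := stepQ 5435 Q5435 (allL N5435 (tt N4780 F42062) (tt N4904 F42063) (tt N4430 F42064) (tt N6626 (iv F52904)) (tt N4426 F42065) (tt N6627 D11446) (tt N4890 F42066) (tt N4902 F42067) (tt N4425 (iv D8974)) (tt N4901 F42068))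
theorem Q5437 : ∀ i, i < 5437 → P i := stepQ 5436 Q5436 (allL N5436 (tt N4781 F42069) (tt N6620 (iv F52873)) (tt N4431 F42070) (tt N4531 F42071) (tt N6628 D11447) (tt N4426 (iv D8975)) (tt N6629 D11448) (tt N4906 F42072) (tt N4427 F42073) (tt N4905 F42074))
theorem Q5438 : ∀ i, i < 5438 → P i := stepQ 5437 Q5437 (allL N5437 (tt N4782 F42075) (tt N6621 (iv F52879)) (tt N4432 F42076) (tt N6630 D11449) (tt N4427 (iv D8976)) (tt N5437 F42077) (tt N6631 D11450) (tt N4978 F42078) (tt N6628 (iv F52918)) (tt N4447 F42079))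
theorem Q5439 : ∀ i, i < 5439 → P i := stepQ 5438 Q5438 (allL N5438 (tt N4783 F42080) (tt N6622 (iv F52884)) (tt N4433 F42081) (tt N4534 F42082) (tt N6631 (iv F52932)) (tt N4429 F42083) (tt N4427 (iv D8977)) (tt N6632 D11451) (tt N6629 (iv F52923)) (tt N4448 F42084))
theorem Q5440 : ∀ i, i < 5440 → P i := stepQ 5439 Q5439 (allL N5439 (tt N4784 F42085) (tt N6623 (iv F52889)) (tt N5439 F42086) (tt N4428 (iv D8978)) (tt N4535 F42087) (tt N5439 F42088) (tt N6633 D11452) (tt N5439 F42089) (tt N6592 (iv F52715)) (tt N4449 F42090))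
theorem Q5441 : ∀ i, i < 5441 → P i := stepQ 5440 Q5440 (allL N5440 (tt N4785 F42091) (tt N6624 (iv F52894)) (tt N4434 F42092) (tt N6633 (iv F52942)) (tt N4429 F42093) (tt N6634 D11453) (tt N4428 (iv D8979)) (tt N6635 D11454) (tt N6593 (iv F52720)) (tt N4450 F42094))
theorem Q5442 : ∀ i, i < 5442 → P i := stepQ 5441 Q5441 (allL N5441 (tt N4786 F42095) (tt N6625 (iv F52897)) (tt N4435 F42096) (tt N4537 F42097) (tt N6635 (iv F52951)) (tt N6632 (iv F52937)) (tt N5441 F42098) (tt N4429 (iv D8980)) (tt N6594 (iv F52726)) (tt N4451 F42099))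
theorem Q5443 : ∀ i, i < 5443 → P i := stepQ 5442 Q5442 (allL N5442 (tt N4787 F42100) (tt N5206 F42101) (tt N6627 (iv F52911)) (tt N5442 F42102) (tt N6636 D11455) (tt N4430 (iv D8981)) (tt N6637 D11456) (tt N4919 F42103) (tt N5442 F42104) (tt N4918 F42105))
theorem Q5444 : ∀ i, i < 5444 → P i := stepQ 5443 Q5443 (allL N5443 (tt N4788 F42106) (tt N5234 F42107) (tt N6628 (iv F52916)) (tt N6638 D11457) (tt N4431 (iv D8982)) (tt N6636 (iv F52956)) (tt N6639 D11458) (tt N4925 F42108) (tt N4432 F42109) (tt N4923 F42110))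
theorem Q5445 : ∀ i, i < 5445 → P i := stepQ 5444 Q5444 (allL N5444 (tt N4789 F42111) (tt N5235 F42112) (tt N6629 (iv F52921)) (tt N4437 F42113) (tt N6639 (iv F52974)) (tt N6596 (iv F52737)) (tt N4431 (iv D8983)) (tt N6640 D11459) (tt N4433 F42114) (tt N4924 F42115))
theorem Q5446 : ∀ i, i < 5446 → P i := stepQ 5445 Q5445 (allL N5445 (tt N4790 F42116) (tt N5313 F42117) (tt N6641 D11460) (tt N4432 (iv D8984)) (tt N4438 F42118) (tt N5445 F42119) (tt N6642 D11461) (tt N4994 F42120) (tt N6638 (iv F52970)) (tt N4452 F42121))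
theorem Q5447 : ∀ i, i < 5447 → P i := stepQ 5446 Q5446 (allL N5446 (tt N4791 F42122) (tt N5314 F42123) (tt N6631 (iv F52931)) (tt N6642 (iv F52990)) (tt N4433 F42124) (tt N6643 D11462) (tt N4432 (iv D8985)) (tt N6644 D11463) (tt N6639 (iv F52975)) (tt N4453 F42125))
theorem Q5448 : ∀ i, i < 5448 → P i := stepQ 5447 Q5447 (allL N5447 (tt N4792 F42126) (tt N5315 F42127) (tt N6632 (iv F52935)) (tt N4440 F42128) (tt N6644 (iv F53000)) (tt N4435 F42129) (tt N4996 F42130) (tt N4433 (iv D8986)) (tt N6640 (iv F52981)) (tt N4454 F42131))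
theorem Q5449 : ∀ i, i < 5449 → P i := stepQ 5448 Q5448 (allL N5448 (tt N4793 F42132) (tt N6570 (iv F52575)) (tt N6634 (iv F52946)) (tt N5448 F42133) (tt N6643 (iv F52995)) (tt N4434 (iv D8987)) (tt N5448 F42134) (tt N6645 D11464) (tt N6646 D11465) (tt N4455 F42135))
theorem Q5450 : ∀ i, i < 5450 → P i := stepQ 5449 Q5449 (allL N5449 (tt N4794 F42136) (tt N6571 (iv F52581)) (tt N6635 (iv F52950)) (tt N5449 F42137) (tt N4435 F42138) (tt N6645 (iv F53005)) (tt N5449 F42139) (tt N4434 (iv D8988)) (tt N6601 (iv F52763)) (tt N4456 F42140))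
theorem Q5451 : ∀ i, i < 5451 → P i := stepQ 5450 Q5450 (allL N5450 (tt N4795 F42141) (tt N5260 F42142) (tt N6647 D11466) (tt N4436 (iv D8989)) (tt N6638 (iv F52968)) (tt N5450 F42143) (tt N6648 D11467) (tt N4944 F42144) (tt N4438 F42145) (tt N4941 F42146))
theorem Q5452 : ∀ i, i < 5452 → P i := stepQ 5451 Q5451 (allL N5451 (tt N4796 F42147) (tt N5261 F42148) (tt N4560 F42149) (tt N6648 (iv F53018)) (tt N4437 F42150) (tt N6649 D11468) (tt N4436 (iv D8990)) (tt N6650 D11469) (tt N4439 F42151) (tt N4942 F42152))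
theorem Q5453 : ∀ i, i < 5453 → P i := stepQ 5452 Q5452 (allL N5452 (tt N4797 F42153) (tt N5262 F42154) (tt N4561 F42155) (tt N6640 (iv F52979)) (tt N6650 (iv F53030)) (tt N6606 (iv F52793)) (tt N4946 F42156) (tt N4437 (iv D8991)) (tt N4440 F42157) (tt N4943 F42158))
theorem Q5454 : ∀ i, i < 5454 → P i := stepQ 5453 Q5453 (allL N5453 (tt N4798 F42159) (tt N5103 F132296) (tt N4438 (iv D8992)) (tt N4565 F42160) (tt N6641 (iv F52984)) (tt N4441 F42161) (tt N6651 D11471) (tt N5014 F42162) (tt N6647 (iv F53014)) (tt N4457 F42163))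
theorem Q5455 : ∀ i, i < 5455 → P i := stepQ 5454 Q5454 (allL N5454 (tt N4799 F42164) (tt N5312 F133217) (tt N6651 (iv F53040)) (tt N4439 F42166) (tt N6642 (iv F52991)) (tt N5454 F42167) (tt N4438 (iv D8993)) (tt N6652 D11472) (tt N6648 (iv F53019)) (tt N4458 F42168))
theorem Q5456 : ∀ i, i < 5456 → P i := stepQ 5455 Q5455 (allL N5455 (tt N4800 F42169) (tt N5334 F42170) (tt N4567 F42171) (tt N6652 (iv F53046)) (tt N4440 F42172) (tt N5455 F42173) (tt N5017 F42174) (tt N4439 (iv D8994)) (tt N6650 (iv F53032)) (tt N4459 F42175))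
theorem Q5457 : ∀ i, i < 5457 → P i := stepQ 5456 Q5456 (allL N5456 (tt N4444 F42183) (tt N4802 F42184) (tt N5274 F42185) (tt N4574 F42186) (tt N6653 D11474) (tt N4442 (iv D8996)) (tt N6654 D11475) (tt N4960 F42187) (tt N4961 F42188) (tt N6617 (iv F52863)))
theorem Q5458 : ∀ i, i < 5458 → P i := stepQ 5457 Q5457 (allL N5457 (tt N4445 F42189) (tt N4803 F42190) (tt N6572 (iv F52588)) (tt N6655 D11476) (tt N4443 (iv D8997)) (tt N5457 F42191) (tt N6656 D11477) (tt N5457 F42192) (tt N5457 F42193) (tt N6618 (iv F52868)))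
theorem Q5459 : ∀ i, i < 5459 → P i := stepQ 5458 Q5458 (allL N5458 (tt N4446 F42194) (tt N4804 F42195) (tt N6573 (iv F52594)) (tt N4576 F42196) (tt N6656 (iv F53078)) (tt N6654 (iv F53068)) (tt N4443 (iv D8998)) (tt N6657 D11478) (tt N5458 F42197) (tt N6619 (iv F52872)))
theorem Q5460 : ∀ i, i < 5460 → P i := stepQ 5459 Q5459 (allL N5459 (tt N6653 (iv F53058)) (tt N4447 F42198) (tt N5284 F42199) (tt N6658 D11479) (tt N4444 (iv D8999)) (tt N5459 F42200) (tt N6659 D11480) (tt N4968 F42201) (tt N4970 F42202) (tt N6621 (iv F52883)))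
theorem Q5461 : ∀ i, i < 5461 → P i := stepQ 5460 Q5460 (allL N5460 (tt N6654 (iv F53064)) (tt N4448 F42203) (tt N5285 F42204) (tt N4581 F42205) (tt N6659 (iv F53092)) (tt N4446 F42206) (tt N4444 (iv D9000)) (tt N6660 D11481) (tt N4971 F42207) (tt N6622 (iv F52888)))
theorem Q5462 : ∀ i, i < 5462 → P i := stepQ 5461 Q5461 (allL N5461 (tt N6655 (iv F53070)) (tt N4449 F42208) (tt N6661 D11482) (tt N4445 (iv D9001)) (tt N4582 F42209) (tt N5461 F42210) (tt N6662 D11483) (tt N5461 F42211) (tt N5461 F42212) (tt N6623 (iv F52893)))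
theorem Q5463 : ∀ i, i < 5463 → P i := stepQ 5462 Q5462 (allL N5462 (tt N6656 (iv F53076)) (tt N4450 F42213) (tt N6575 (iv F52604)) (tt N6662 (iv F53106)) (tt N4446 F42214) (tt N6663 D11484) (tt N4445 (iv D9002)) (tt N6664 D11485) (tt N5462 F42215) (tt N6624 (iv F52896)))
theorem Q5464 : ∀ i, i < 5464 → P i := stepQ 5463 Q5463 (allL N5463 (tt N6657 (iv F53080)) (tt N4451 F42216) (tt N6576 (iv F52608)) (tt N4584 F42217) (tt N6664 (iv F53112)) (tt N6660 (iv F53097)) (tt N5463 F42218) (tt N4446 (iv D9003)) (tt N5463 F42219) (tt N6625 (iv F52900)))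
theorem Q5465 : ∀ i, i < 5465 → P i := stepQ 5464 Q5464 (allL N5464 (tt N4810 F42220) (tt N6658 (iv F53085)) (tt N6665 D11486) (tt N4447 (iv D9004)) (tt N4590 F42221) (tt N5464 F42222) (tt N6666 D11487) (tt N4980 F42223) (tt N4983 F42224) (tt N6630 (iv F52929)))
theorem Q5466 : ∀ i, i < 5466 → P i := stepQ 5465 Q5465 (allL N5465 (tt N4811 F42225) (tt N6659 (iv F53090)) (tt N4453 F42226) (tt N6666 (iv F53122)) (tt N4448 F42227) (tt N6667 D11488) (tt N4447 (iv D9005)) (tt N6668 D11489) (tt N4984 F42228) (tt N6631 (iv F52933)))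
theorem Q5467 : ∀ i, i < 5467 → P i := stepQ 5466 Q5466 (allL N5466 (tt N4812 F42229) (tt N6660 (iv F53094)) (tt N4454 F42230) (tt N4592 F42231) (tt N6668 (iv F53131)) (tt N4451 F42232) (tt N4982 F42233) (tt N4448 (iv D9006)) (tt N4985 F42234) (tt N6632 (iv F52939)))
theorem Q5468 : ∀ i, i < 5468 → P i := stepQ 5467 Q5467 (allL N5467 (tt N4813 F42235) (tt N6662 (iv F53105)) (tt N5467 F42236) (tt N4450 F42237) (tt N4593 F42238) (tt N6669 D11490) (tt N4449 (iv D9007)) (tt N6670 D11491) (tt N5467 F42239) (tt N6633 (iv F52944)))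
theorem Q5469 : ∀ i, i < 5469 → P i := stepQ 5468 Q5468 (allL N5468 (tt N4814 F42240) (tt N6663 (iv F53109)) (tt N4455 F42241) (tt N6669 (iv F53136)) (tt N6667 (iv F53127)) (tt N4450 (iv D9008)) (tt N5468 F42242) (tt N6671 D11492) (tt N6672 D11493) (tt N6634 (iv F52948)))
theorem Q5470 : ∀ i, i < 5470 → P i := stepQ 5469 Q5469 (allL N5469 (tt N4815 F42243) (tt N6664 (iv F53111)) (tt N4456 F42244) (tt N6670 (iv F53140)) (tt N4451 F42245) (tt N6671 (iv F53146)) (tt N5469 F42246) (tt N4450 (iv D9009)) (tt N5469 F42247) (tt N6635 (iv F52953)))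
theorem Q5471 : ∀ i, i < 5471 → P i := stepQ 5470 Q5470 (allL N5470 (tt N4816 F42248) (tt N5101 F132288) (tt N4452 (iv D9010)) (tt N6665 (iv F53116)) (tt N4457 F42249) (tt N5470 F42250) (tt N6673 D11495) (tt N4997 F42251) (tt N5001 F42252) (tt N6641 (iv F52987)))
theorem Q5472 : ∀ i, i < 5472 → P i := stepQ 5471 Q5471 (allL N5471 (tt N4817 F42253) (tt N5310 F133161) (tt N6673 (iv F53157)) (tt N4453 F42255) (tt N4458 F42256) (tt N6674 D11496) (tt N4452 (iv D9011)) (tt N6675 D11497) (tt N5002 F42257) (tt N6642 (iv F52992)))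
theorem Q5473 : ∀ i, i < 5473 → P i := stepQ 5472 Q5472 (allL N5472 (tt N4818 F42258) (tt N5316 F42259) (tt N6667 (iv F53126)) (tt N6674 (iv F53162)) (tt N4455 F42260) (tt N4453 (iv D9012)) (tt N5472 F42261) (tt N6676 D11498) (tt N6677 D11499) (tt N6643 (iv F52997)))
theorem Q5474 : ∀ i, i < 5474 → P i := stepQ 5473 Q5473 (allL N5473 (tt N4819 F42262) (tt N5317 F42263) (tt N6668 (iv F53130)) (tt N6675 (iv F53167)) (tt N4454 F42264) (tt N6676 (iv F53174)) (tt N5000 F42265) (tt N4453 (iv D9013)) (tt N5004 F42266) (tt N6644 (iv F53002)))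
theorem Q5475 : ∀ i, i < 5475 → P i := stepQ 5474 Q5474 (allL N5474 (tt N4820 F42267) (tt N6580 (iv F52628)) (tt N6671 (iv F53145)) (tt N5474 F42268) (tt N6676 (iv F53173)) (tt N4456 F42269) (tt N6678 D11500) (tt N4455 (iv D9014)) (tt N6679 D11501) (tt N6645 (iv F53006)))
theorem Q5476 : ∀ i, i < 5476 → P i := stepQ 5475 Q5475 (allL N5475 (tt N4821 F42270) (tt N6581 (iv F52633)) (tt N6672 (iv F53148)) (tt N5475 F42271) (tt N6677 (iv F53177)) (tt N5475 F42272) (tt N5475 F42273) (tt N6679 (iv F53187)) (tt N4455 (iv D9015)) (tt N6680 D11502))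
theorem Q5477 : ∀ i, i < 5477 → P i := stepQ 5476 Q5476 (allL N5476 (tt N4823 F42279) (tt N4993 F132289) (tt N4458 F42280) (tt N4622 F42281) (tt N6673 (iv F53158)) (tt N5476 F42282) (tt N4457 (iv D9017)) (tt N6681 D11505) (tt N4976 F132290) (tt N6651 (iv F53043)))
theorem Q5478 : ∀ i, i < 5478 → P i := stepQ 5477 Q5477 (allL N5477 (tt N4824 F42284) (tt N5311 F133197) (tt N6681 (iv F53204)) (tt N4459 F42286) (tt N6675 (iv F53168)) (tt N5477 F42287) (tt N5021 F42288) (tt N4458 (iv D9018)) (tt N5023 F42289) (tt N6652 (iv F53049)))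
theorem Q5479 : ∀ i, i < 5479 → P i := stepQ 5478 Q5478 (allL N5478 (tt N4464 F42297) (tt N4825 F42298) (tt N5478 F42299) (tt N4525 F42300) (tt N4899 F42301) (tt N4461 F42302) (tt N4510 F42303) (tt N4524 F42304) (tt N6682 D11506) (tt N4460 (iv D9020)))
theorem Q5480 : ∀ i, i < 5480 → P i := stepQ 5479 Q5479 (allL N5479 (tt N4465 F42305) (tt N4826 F42306) (tt N5479 F42307) (tt N4650 F42308) (tt N5479 F42309) (tt N6683 D11507) (tt N4462 F42310) (tt N4649 F42311) (tt N4461 (iv D9021)) (tt N5479 F42312))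
theorem Q5481 : ∀ i, i < 5481 → P i := stepQ 5480 Q5480 (allL N5480 (tt N4466 F42313) (tt N4827 F42314) (tt N5480 F42315) (tt N6586 (iv F52676)) (tt N6684 D11508) (tt N4462 (iv D9022)) (tt N6685 D11509) (tt N5480 F42316) (tt N4513 F42317) (tt N5480 F42318))
theorem Q5482 : ∀ i, i < 5482 → P i := stepQ 5481 Q5481 (allL N5481 (tt N4899 F42319) (tt N4470 F42320) (tt N5481 F42321) (tt N4526 F42322) (tt N4464 F42323) (tt N5481 F42324) (tt N4515 F42325) (tt N4779 F42326) (tt N6686 D11510) (tt N4463 (iv D9023)))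
theorem Q5483 : ∀ i, i < 5483 → P i := stepQ 5482 Q5482 (allL N5482 (tt N6682 (iv F53209)) (tt N4475 F42327) (tt N5482 F42328) (tt N4901 F42329) (tt N6686 (iv F53239)) (tt N6687 D11511) (tt N4519 F42330) (tt N4900 F42331) (tt N4464 (iv D9024)) (tt N6626 (iv F52908)))
theorem Q5484 : ∀ i, i < 5484 → P i := stepQ 5483 Q5483 (allL N5483 (tt N6683 (iv F53217)) (tt N4477 F42332) (tt N5483 F42333) (tt N5044 F42334) (tt N6688 D11512) (tt N4465 (iv D9025)) (tt N6689 D11513) (tt N5043 F42335) (tt N6687 (iv F53247)) (tt N5483 F42336))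
theorem Q5485 : ∀ i, i < 5485 → P i := stepQ 5484 Q5484 (allL N5484 (tt N6684 (iv F53223)) (tt N4478 F42337) (tt N5484 F42338) (tt N6690 D11514) (tt N4466 (iv D9026)) (tt N5484 F42339) (tt N6691 D11515) (tt N5484 F42340) (tt N4522 F42341) (tt N5484 F42342))
theorem Q5486 : ∀ i, i < 5486 → P i := stepQ 5485 Q5485 (allL N5485 (tt N6685 (iv F53230)) (tt N4479 F42343) (tt N5485 F42344) (tt N6588 (iv F52688)) (tt N6691 (iv F53265)) (tt N6689 (iv F53256)) (tt N4466 (iv D9027)) (tt N6692 D11516) (tt N4523 F42345) (tt N5485 F42346))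
theorem Q5487 : ∀ i, i < 5487 → P i := stepQ 5486 Q5486 (allL N5486 (tt N4836 F42347) (tt N4526 F42348) (tt N5486 F42349) (tt N4470 F42350) (tt N4518 F42351) (tt N5486 F42352) (tt N4524 F42353) (tt N4774 F42354) (tt N6693 D11517) (tt N4467 (iv D9028)))
theorem Q5488 : ∀ i, i < 5488 → P i := stepQ 5487 Q5487 (allL N5487 (tt N4830 F42355) (tt N4779 F42356) (tt N4480 F42357) (tt N4774 F42358) (tt N4473 F42359) (tt N5487 F42360) (tt N4883 F42361) (tt N4470 F42362) (tt N6694 D11518) (tt N4468 (iv D9029)))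
theorem Q5489 : ∀ i, i < 5489 → P i := stepQ 5488 Q5488 (allL N5488 (tt N4829 F42363) (tt N4524 F42364) (tt N4481 F42365) (tt N4515 F42366) (tt N4474 F42367) (tt N4637 F42368) (tt N4526 F42369) (tt N4825 F42370) (tt N6695 D11519) (tt N4469 (iv D9030)))
theorem Q5490 : ∀ i, i < 5490 → P i := stepQ 5489 Q5489 (allL N5489 (tt N4837 F42371) (tt N6686 (iv F53236)) (tt N4482 F42372) (tt N6693 (iv F53276)) (tt N4475 F42373) (tt N6696 D11520) (tt N4527 F42374) (tt N6694 (iv F53287)) (tt N4470 (iv D9031)) (tt N6695 (iv F53296)))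
theorem Q5491 : ∀ i, i < 5491 → P i := stepQ 5490 Q5490 (allL N5490 (tt N4838 F42375) (tt N4836 F42376) (tt N4483 F42377) (tt N4828 F42378) (tt N4883 F42379) (tt N5490 F42380) (tt N4473 F42381) (tt N4528 F42382) (tt N6697 D11521) (tt N4471 (iv D9032)))
theorem Q5492 : ∀ i, i < 5492 → P i := stepQ 5491 Q5491 (allL N5491 (tt N4828 F42383) (tt N4899 F42384) (tt N4484 F42385) (tt N4838 F42386) (tt N4825 F42387) (tt N5491 F42388) (tt N4746 F42389) (tt N4474 F42390) (tt N6698 D11522) (tt N4472 (iv D9033)))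
theorem Q5493 : ∀ i, i < 5493 → P i := stepQ 5492 Q5492 (allL N5492 (tt N4839 F42391) (tt N4900 F42392) (tt N4485 F42393) (tt N4889 F42394) (tt N6694 (iv F53285)) (tt N6699 D11523) (tt N6697 (iv F53305)) (tt N4475 F42395) (tt N4473 (iv D9034)) (tt N6698 (iv F53315)))
theorem Q5494 : ∀ i, i < 5494 → P i := stepQ 5493 Q5493 (allL N5493 (tt N4840 F42396) (tt N6626 (iv F52902)) (tt N4486 F42397) (tt N4904 F42398) (tt N6695 (iv F53293)) (tt N6700 D11524) (tt N4530 F42399) (tt N6698 (iv F53314)) (tt N4474 (iv D9035)) (tt N4475 F42400))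
theorem Q5495 : ∀ i, i < 5495 → P i := stepQ 5494 Q5494 (allL N5494 (tt N4841 F42401) (tt N6687 (iv F53243)) (tt N4487 F42402) (tt N6589 (iv F52695)) (tt N6701 D11525) (tt N4475 (iv D9036)) (tt N6702 D11526) (tt N6699 (iv F53320)) (tt N4477 F42403) (tt N6700 (iv F53326)))
theorem Q5496 : ∀ i, i < 5496 → P i := stepQ 5495 Q5495 (allL N5495 (tt N4842 F42404) (tt N5043 F42405) (tt N4488 F42406) (tt N5035 F42407) (tt N6703 D11527) (tt N4476 (iv D9037)) (tt N6704 D11528) (tt N4477 F42408) (tt N6699 (iv F53321)) (tt N5495 F42409))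
theorem Q5497 : ∀ i, i < 5497 → P i := stepQ 5496 Q5496 (allL N5496 (tt N4843 F42410) (tt N6688 (iv F53248)) (tt N4489 F42411) (tt N6705 D11529) (tt N4477 (iv D9038)) (tt N5496 F42412) (tt N6706 D11530) (tt N6703 (iv F53338)) (tt N6701 (iv F53329)) (tt N5496 F42413))
theorem Q5498 : ∀ i, i < 5498 → P i := stepQ 5497 Q5497 (allL N5497 (tt N4844 F42414) (tt N6689 (iv F53253)) (tt N4490 F42415) (tt N6591 (iv F52708)) (tt N6706 (iv F53351)) (tt N4479 F42416) (tt N4477 (iv D9039)) (tt N6707 D11531) (tt N6702 (iv F53333)) (tt N5497 F42417))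
theorem Q5499 : ∀ i, i < 5499 → P i := stepQ 5498 Q5498 (allL N5498 (tt N4845 F42418) (tt N6690 (iv F53258)) (tt N5498 F42419) (tt N4478 (iv D9040)) (tt N6592 (iv F52713)) (tt N5498 F42420) (tt N6708 D11532) (tt N5498 F42421) (tt N4535 F42422) (tt N5498 F42423))
theorem Q5500 : ∀ i, i < 5500 → P i := stepQ 5499 Q5499 (allL N5499 (tt N4846 F42424) (tt N6691 (iv F53263)) (tt N4491 F42425) (tt N6708 (iv F53359)) (tt N4479 F42426) (tt N6709 D11533) (tt N4478 (iv D9041)) (tt N6710 D11534) (tt N4536 F42427) (tt N5499 F42428))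
theorem Q5501 : ∀ i, i < 5501 → P i := stepQ 5500 Q5500 (allL N5500 (tt N4847 F42429) (tt N6692 (iv F53268)) (tt N4492 F42430) (tt N6594 (iv F52724)) (tt N6710 (iv F53368)) (tt N6707 (iv F53355)) (tt N5500 F42431) (tt N4479 (iv D9042)) (tt N4537 F42432) (tt N5500 F42433))
theorem Q5502 : ∀ i, i < 5502 → P i := stepQ 5501 Q5501 (allL N5501 (tt N4848 F42434) (tt N5501 F42435) (tt N6694 (iv F53283)) (tt N5501 F42436) (tt N4485 F42437) (tt N6711 D11535) (tt N5186 F42438) (tt N4482 F42439) (tt N4480 (iv D9043)) (tt N5116 F42440))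
theorem Q5503 : ∀ i, i < 5503 → P i := stepQ 5502 Q5502 (allL N5502 (tt N4849 F42441) (tt N5502 F42442) (tt N6695 (iv F53291)) (tt N5502 F42443) (tt N4486 F42444) (tt N6712 D11536) (tt N4540 F42445) (tt N5116 F42446) (tt N4481 (iv D9044)) (tt N4482 F42447))
theorem Q5504 : ∀ i, i < 5504 → P i := stepQ 5503 Q5503 (allL N5503 (tt N4850 F42448) (tt N5503 F42449) (tt N6696 (iv F53298)) (tt N5503 F42450) (tt N6713 D11537) (tt N4482 (iv D9045)) (tt N6714 D11538) (tt N6711 (iv F53375)) (tt N5503 F42451) (tt N6712 (iv F53383)))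
theorem Q5505 : ∀ i, i < 5505 → P i := stepQ 5504 Q5504 (allL N5504 (tt N4851 F42452) (tt N5504 F42453) (tt N6697 (iv F53302)) (tt N4493 F42454) (tt N5186 F42455) (tt N6715 D11539) (tt N4485 F42456) (tt N4542 F42457) (tt N4483 (iv D9046)) (tt N4753 F42458))
theorem Q5506 : ∀ i, i < 5506 → P i := stepQ 5505 Q5505 (allL N5505 (tt N4852 F42459) (tt N5505 F42460) (tt N6698 (iv F53310)) (tt N4494 F42461) (tt N5116 F42462) (tt N6716 D11540) (tt N4753 F42463) (tt N4486 F42464) (tt N4484 (iv D9047)) (tt N4485 F42465))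
theorem Q5507 : ∀ i, i < 5507 → P i := stepQ 5506 Q5506 (allL N5506 (tt N4853 F42466) (tt N5506 F42467) (tt N6699 (iv F53318)) (tt N4495 F42468) (tt N6717 D11541) (tt N4485 (iv D9048)) (tt N6718 D11542) (tt N4487 F42469) (tt N4488 F42470) (tt N6716 (iv F53404)))
theorem Q5508 : ∀ i, i < 5508 → P i := stepQ 5507 Q5507 (allL N5507 (tt N4854 F42471) (tt N5507 F42472) (tt N6700 (iv F53323)) (tt N4496 F42473) (tt N6719 D11543) (tt N4486 (iv D9049)) (tt N6720 D11544) (tt N6716 (iv F53402)) (tt N5507 F42474) (tt N4487 F42475))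
theorem Q5509 : ∀ i, i < 5509 → P i := stepQ 5508 Q5508 (allL N5508 (tt N4855 F42476) (tt N5508 F42477) (tt N6701 (iv F53328)) (tt N6721 D11545) (tt N4487 (iv D9050)) (tt N6713 (iv F53386)) (tt N6722 D11546) (tt N6717 (iv F53407)) (tt N4489 F42478) (tt N6719 (iv F53416)))
theorem Q5510 : ∀ i, i < 5510 → P i := stepQ 5509 Q5509 (allL N5509 (tt N4856 F42479) (tt N5509 F42480) (tt N6702 (iv F53331)) (tt N4498 F42481) (tt N6722 (iv F53429)) (tt N4546 F42482) (tt N4487 (iv D9051)) (tt N6723 D11547) (tt N4490 F42483) (tt N6720 (iv F53422)))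
theorem Q5511 : ∀ i, i < 5511 → P i := stepQ 5510 Q5510 (allL N5510 (tt N4857 F42484) (tt N5510 F42485) (tt N6703 (iv F53336)) (tt N6724 D11548) (tt N4488 (iv D9052)) (tt N5510 F42486) (tt N6725 D11549) (tt N4489 F42487) (tt N6717 (iv F53408)) (tt N5510 F42488))
theorem Q5512 : ∀ i, i < 5512 → P i := stepQ 5511 Q5511 (allL N5511 (tt N4858 F42489) (tt N5511 F42490) (tt N6704 (iv F53342)) (tt N4500 F42491) (tt N6725 (iv F53444)) (tt N5511 F42492) (tt N4488 (iv D9053)) (tt N6726 D11550) (tt N6718 (iv F53412)) (tt N5511 F42493))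
theorem Q5513 : ∀ i, i < 5513 → P i := stepQ 5512 Q5512 (allL N5512 (tt N4859 F42494) (tt N5512 F42495) (tt N6727 D11551) (tt N4489 (iv D9054)) (tt N4501 F42496) (tt N5512 F42497) (tt N6728 D11552) (tt N6724 (iv F53440)) (tt N6721 (iv F53426)) (tt N5512 F42498))
theorem Q5514 : ∀ i, i < 5514 → P i := stepQ 5513 Q5513 (allL N5513 (tt N4860 F42499) (tt N5513 F42500) (tt N6706 (iv F53350)) (tt N6728 (iv F53458)) (tt N4490 F42501) (tt N6729 D11553) (tt N4489 (iv D9055)) (tt N6730 D11554) (tt N6722 (iv F53430)) (tt N5513 F42502))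
theorem Q5515 : ∀ i, i < 5515 → P i := stepQ 5514 Q5514 (allL N5514 (tt N4861 F42503) (tt N5514 F42504) (tt N6707 (iv F53354)) (tt N4503 F42505) (tt N6730 (iv F53468)) (tt N4492 F42506) (tt N6726 (iv F53450)) (tt N4490 (iv D9056)) (tt N6723 (iv F53435)) (tt N5514 F42507))
theorem Q5516 : ∀ i, i < 5516 → P i := stepQ 5515 Q5515 (allL N5515 (tt N4862 F42508) (tt N5515 F42509) (tt N6709 (iv F53363)) (tt N5515 F42510) (tt N6729 (iv F53463)) (tt N4491 (iv D9057)) (tt N5515 F42511) (tt N6731 D11555) (tt N6732 D11556) (tt N5515 F42512))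
theorem Q5517 : ∀ i, i < 5517 → P i := stepQ 5516 Q5516 (allL N5516 (tt N4863 F42513) (tt N5516 F42514) (tt N6710 (iv F53367)) (tt N5516 F42515) (tt N4492 F42516) (tt N6731 (iv F53473)) (tt N5516 F42517) (tt N4491 (iv D9058)) (tt N4553 F42518) (tt N5516 F42519))
theorem Q5518 : ∀ i, i < 5518 → P i := stepQ 5517 Q5517 (allL N5517 (tt N4864 F42520) (tt N5517 F42521) (tt N4865 F42522) (tt N6715 (iv F53395)) (tt N6733 D11557) (tt N4493 (iv D9059)) (tt N6734 D11558) (tt N4554 F42523) (tt N5517 F42524) (tt N4760 F42525))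
theorem Q5519 : ∀ i, i < 5519 → P i := stepQ 5518 Q5518 (allL N5518 (tt N4865 F42526) (tt N5518 F42527) (tt N4864 F42528) (tt N6716 (iv F53401)) (tt N6735 D11559) (tt N4494 (iv D9060)) (tt N6736 D11560) (tt N4496 F42529) (tt N5518 F42530) (tt N4495 F42531))
theorem Q5520 : ∀ i, i < 5520 → P i := stepQ 5519 Q5519 (allL N5519 (tt N4866 F42532) (tt N5519 F42533) (tt N6602 (iv F52767)) (tt N6737 D11561) (tt N4495 (iv D9061)) (tt N5519 F42534) (tt N6738 D11562) (tt N4497 F42535) (tt N4499 F42536) (tt N6735 (iv F53499)))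
theorem Q5521 : ∀ i, i < 5521 → P i := stepQ 5520 Q5520 (allL N5520 (tt N4867 F42537) (tt N5520 F42538) (tt N6603 (iv F52774)) (tt N6718 (iv F53411)) (tt N6738 (iv F53513)) (tt N6734 (iv F53490)) (tt N4495 (iv D9062)) (tt N6739 D11563) (tt N4500 F42539) (tt N6736 (iv F53505)))
theorem Q5522 : ∀ i, i < 5522 → P i := stepQ 5521 Q5521 (allL N5521 (tt N4868 F42540) (tt N5521 F42541) (tt N4939 F42542) (tt N6740 D11564) (tt N4496 (iv D9063)) (tt N5521 F42543) (tt N6741 D11565) (tt N6735 (iv F53497)) (tt N5521 F42544) (tt N4497 F42545))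
theorem Q5523 : ∀ i, i < 5523 → P i := stepQ 5522 Q5522 (allL N5522 (tt N4869 F42546) (tt N5522 F42547) (tt N4940 F42548) (tt N6720 (iv F53419)) (tt N6741 (iv F53527)) (tt N4558 F42549) (tt N4496 (iv D9064)) (tt N6742 D11566) (tt N5522 F42550) (tt N4498 F42551))
theorem Q5524 : ∀ i, i < 5524 → P i := stepQ 5523 Q5523 (allL N5523 (tt N4870 F42552) (tt N5523 F42553) (tt N6743 D11567) (tt N4497 (iv D9065)) (tt N6721 (iv F53425)) (tt N5523 F42554) (tt N6744 D11568) (tt N6737 (iv F53509)) (tt N4501 F42555) (tt N6740 (iv F53523)))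
theorem Q5525 : ∀ i, i < 5525 → P i := stepQ 5524 Q5524 (allL N5524 (tt N4871 F42556) (tt N5524 F42557) (tt N6605 (iv F52786)) (tt N6744 (iv F53541)) (tt N4498 F42558) (tt N6745 D11569) (tt N4497 (iv D9066)) (tt N6746 D11570) (tt N4502 F42559) (tt N6741 (iv F53529)))
theorem Q5526 : ∀ i, i < 5526 → P i := stepQ 5525 Q5525 (allL N5525 (tt N4872 F42560) (tt N5525 F42561) (tt N6606 (iv F52792)) (tt N6723 (iv F53433)) (tt N6746 (iv F53550)) (tt N4561 F42562) (tt N6739 (iv F53517)) (tt N4498 (iv D9067)) (tt N4503 F42563) (tt N6742 (iv F53535)))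
theorem Q5527 : ∀ i, i < 5527 → P i := stepQ 5526 Q5526 (allL N5526 (tt N4873 F42564) (tt N5526 F42565) (tt N6747 D11571) (tt N4499 (iv D9068)) (tt N6724 (iv F53438)) (tt N4504 F42566) (tt N6748 D11572) (tt N4501 F42567) (tt N6737 (iv F53510)) (tt N5526 F42568))
theorem Q5528 : ∀ i, i < 5528 → P i := stepQ 5527 Q5527 (allL N5527 (tt N4874 F42569) (tt N5527 F42570) (tt N6608 (iv F52804)) (tt N6748 (iv F53558)) (tt N4500 F42571) (tt N6749 D11573) (tt N4499 (iv D9069)) (tt N6750 D11574) (tt N6738 (iv F53514)) (tt N5527 F42572))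
theorem Q5529 : ∀ i, i < 5529 → P i := stepQ 5528 Q5528 (allL N5528 (tt N4875 F42573) (tt N5528 F42574) (tt N6609 (iv F52809)) (tt N6726 (iv F53448)) (tt N6750 (iv F53567)) (tt N5528 F42575) (tt N4503 F42576) (tt N4500 (iv D9070)) (tt N6739 (iv F53518)) (tt N5528 F42577))
theorem Q5530 : ∀ i, i < 5530 → P i := stepQ 5529 Q5529 (allL N5529 (tt N4876 F42578) (tt N6751 D11575) (tt N4501 (iv D9071)) (tt N6610 (iv F52815)) (tt N6727 (iv F53453)) (tt N4506 F42579) (tt N6752 D11576) (tt N6747 (iv F53554)) (tt N6743 (iv F53538)) (tt N5529 F42580))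
theorem Q5531 : ∀ i, i < 5531 → P i := stepQ 5530 Q5530 (allL N5530 (tt N4877 F42581) (tt N5530 F42582) (tt N6752 (iv F53574)) (tt N4502 F42583) (tt N6728 (iv F53459)) (tt N5530 F42584) (tt N4501 (iv D9072)) (tt N6753 D11577) (tt N6744 (iv F53542)) (tt N5530 F42585))
theorem Q5532 : ∀ i, i < 5532 → P i := stepQ 5531 Q5531 (allL N5531 (tt N4878 F42586) (tt N5531 F42587) (tt N6612 (iv F52823)) (tt N6753 (iv F53579)) (tt N4503 F42588) (tt N5531 F42589) (tt N6750 (iv F53568)) (tt N4502 (iv D9073)) (tt N6746 (iv F53551)) (tt N5531 F42590))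
theorem Q5533 : ∀ i, i < 5533 → P i := stepQ 5532 Q5532 (allL N5532 (tt N4879 F42591) (tt N6754 D11578) (tt N4504 (iv D9074)) (tt N6613 (iv F52828)) (tt N5532 F42592) (tt N6747 (iv F53553)) (tt N6755 D11579) (tt N4506 F42593) (tt N5532 F42594) (tt N5532 F42595))
theorem Q5534 : ∀ i, i < 5534 → P i := stepQ 5533 Q5533 (allL N5533 (tt N4880 F42596) (tt N5533 F42597) (tt N6755 (iv F53588)) (tt N4505 F42598) (tt N5533 F42599) (tt N6756 D11580) (tt N4504 (iv D9075)) (tt N5533 F42600) (tt N5533 F42601) (tt N5533 F42602))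
theorem Q5535 : ∀ i, i < 5535 → P i := stepQ 5534 Q5534 (allL N5534 (tt N4881 F42603) (tt N5534 F42604) (tt N6614 (iv F52842)) (tt N6756 (iv F53595)) (tt N5534 F42605) (tt N4505 (iv D9076)) (tt N6749 (iv F53563)) (tt N5534 F42606) (tt N6757 D11581) (tt N5534 F42607))
theorem Q5536 : ∀ i, i < 5536 → P i := stepQ 5535 Q5535 (allL N5535 (tt N6758 D11582) (tt N4506 (iv D9077)) (tt N5535 F42608) (tt N6615 (iv F52846)) (tt N5535 F42609) (tt N6751 (iv F53571)) (tt N5535 F42610) (tt N6754 (iv F53584)) (tt N5535 F42611) (tt N5535 F42612))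
theorem Q5537 : ∀ i, i < 5537 → P i := stepQ 5536 Q5536 (allL N5536 (tt N4515 F42613) (tt N4746 F42614) (tt N5536 F42615) (tt N4829 F42616) (tt N4510 F42617) (tt N4630 F42618) (tt N4899 F42619) (tt N4742 F42620) (tt N6759 D11583) (tt N4507 (iv D9078)))
theorem Q5538 : ∀ i, i < 5538 → P i := stepQ 5537 Q5537 (allL N5537 (tt N4517 F42621) (tt N4745 F42622) (tt N5537 F42623) (tt N4883 F42624) (tt N4742 F42625) (tt N4511 F42626) (tt N4774 F42627) (tt N4510 F42628) (tt N6760 D11584) (tt N4508 (iv D9079)))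
theorem Q5539 : ∀ i, i < 5539 → P i := stepQ 5538 Q5538 (allL N5538 (tt N4518 F42629) (tt N4883 F42630) (tt N5538 F42631) (tt N4745 F42632) (tt N4836 F42633) (tt N4571 F42634) (tt N4779 F42635) (tt N4771 F42636) (tt N6761 D11585) (tt N4509 (iv D9080)))
theorem Q5540 : ∀ i, i < 5540 → P i := stepQ 5539 Q5539 (allL N5539 (tt N4519 F42637) (tt N4884 F42638) (tt N5539 F42639) (tt N6616 (iv F52853)) (tt N6759 (iv F53613)) (tt N6762 D11586) (tt N6682 (iv F53214)) (tt N6760 (iv F53623)) (tt N4510 (iv D9081)) (tt N6761 (iv F53632)))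
theorem Q5541 : ∀ i, i < 5541 → P i := stepQ 5540 Q5540 (allL N5540 (tt N4520 F42640) (tt N4885 F42641) (tt N5540 F42642) (tt N4959 F42643) (tt N4633 F42644) (tt N6763 D11587) (tt N5540 F42645) (tt N4512 F42646) (tt N4511 (iv D9082)) (tt N4573 F42647))
theorem Q5542 : ∀ i, i < 5542 → P i := stepQ 5541 Q5541 (allL N5541 (tt N4521 F42648) (tt N4886 F42649) (tt N5541 F42650) (tt N6617 (iv F52861)) (tt N6764 D11588) (tt N4512 (iv D9083)) (tt N6765 D11589) (tt N6763 (iv F53641)) (tt N6762 (iv F53636)) (tt N4574 F42651))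
theorem Q5543 : ∀ i, i < 5543 → P i := stepQ 5542 Q5542 (allL N5542 (tt N4522 F42652) (tt N4887 F42653) (tt N5542 F42654) (tt N6766 D11590) (tt N4513 (iv D9084)) (tt N4635 F42655) (tt N6767 D11591) (tt N5542 F42656) (tt N6684 (iv F53228)) (tt N4575 F42657))
theorem Q5544 : ∀ i, i < 5544 → P i := stepQ 5543 Q5543 (allL N5543 (tt N4523 F42658) (tt N4888 F42659) (tt N5543 F42660) (tt N6619 (iv F52871)) (tt N6767 (iv F53661)) (tt N6765 (iv F53651)) (tt N4513 (iv D9085)) (tt N6768 D11592) (tt N6685 (iv F53233)) (tt N4576 F42661))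
theorem Q5545 : ∀ i, i < 5545 → P i := stepQ 5544 Q5544 (allL N5544 (tt N4742 F42662) (tt N4525 F42663) (tt N5544 F42664) (tt N4825 F42665) (tt N4517 F42666) (tt N4638 F42667) (tt N4771 F42668) (tt N4515 F42669) (tt N6769 D11593) (tt N4514 (iv D9086)))
theorem Q5546 : ∀ i, i < 5546 → P i := stepQ 5545 Q5545 (allL N5545 (tt N6759 (iv F53609)) (tt N4527 F42670) (tt N5545 F42671) (tt N6695 (iv F53292)) (tt N4519 F42672) (tt N6770 D11594) (tt N6686 (iv F53240)) (tt N6769 (iv F53674)) (tt N4515 (iv D9087)) (tt N6693 (iv F53280)))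
theorem Q5547 : ∀ i, i < 5547 → P i := stepQ 5546 Q5546 (allL N5546 (tt N4774 F42673) (tt N4528 F42674) (tt N5546 F42675) (tt N4830 F42676) (tt N4771 F42677) (tt N5546 F42678) (tt N4517 F42679) (tt N4836 F42680) (tt N6771 D11595) (tt N4516 (iv D9088)))
theorem Q5548 : ∀ i, i < 5548 → P i := stepQ 5547 Q5547 (allL N5547 (tt N6760 (iv F53617)) (tt N4529 F42681) (tt N5547 F42682) (tt N4891 F42683) (tt N6769 (iv F53672)) (tt N6772 D11596) (tt N6771 (iv F53684)) (tt N4519 F42684) (tt N4517 (iv D9089)) (tt N4775 F42685))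
theorem Q5549 : ∀ i, i < 5549 → P i := stepQ 5548 Q5548 (allL N5548 (tt N6761 (iv F53625)) (tt N4530 F42686) (tt N5548 F42687) (tt N4890 F42688) (tt N6693 (iv F53277)) (tt N6773 D11597) (tt N6626 (iv F52906)) (tt N4775 F42689) (tt N4518 (iv D9090)) (tt N4519 F42690))
theorem Q5550 : ∀ i, i < 5550 → P i := stepQ 5549 Q5549 (allL N5549 (tt N6762 (iv F53633)) (tt N4531 F42691) (tt N5549 F42692) (tt N6620 (iv F52875)) (tt N6774 D11598) (tt N4519 (iv D9091)) (tt N6775 D11599) (tt N6772 (iv F53690)) (tt N4521 F42693) (tt N6773 (iv F53698)))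
theorem Q5551 : ∀ i, i < 5551 → P i := stepQ 5550 Q5550 (allL N5550 (tt N6763 (iv F53637)) (tt N4532 F42694) (tt N5550 F42695) (tt N4967 F42696) (tt N6776 D11600) (tt N4520 (iv D9092)) (tt N6777 D11601) (tt N4521 F42697) (tt N6772 (iv F53691)) (tt N4579 F42698))
theorem Q5552 : ∀ i, i < 5552 → P i := stepQ 5551 Q5551 (allL N5551 (tt N6764 (iv F53643)) (tt N4533 F42699) (tt N5551 F42700) (tt N6778 D11602) (tt N4521 (iv D9093)) (tt N4644 F42701) (tt N6779 D11603) (tt N6776 (iv F53708)) (tt N6774 (iv F53701)) (tt N4580 F42702))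
theorem Q5553 : ∀ i, i < 5553 → P i := stepQ 5552 Q5552 (allL N5552 (tt N6765 (iv F53648)) (tt N4534 F42703) (tt N5552 F42704) (tt N6622 (iv F52886)) (tt N6779 (iv F53720)) (tt N4523 F42705) (tt N4521 (iv D9094)) (tt N6780 D11604) (tt N6775 (iv F53704)) (tt N4581 F42706))
theorem Q5554 : ∀ i, i < 5554 → P i := stepQ 5553 Q5553 (allL N5553 (tt N6766 (iv F53653)) (tt N4535 F42707) (tt N6781 D11605) (tt N4522 (iv D9095)) (tt N6623 (iv F52890)) (tt N4646 F42708) (tt N6782 D11606) (tt N5553 F42709) (tt N6690 (iv F53261)) (tt N4582 F42710))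
theorem Q5555 : ∀ i, i < 5555 → P i := stepQ 5554 Q5554 (allL N5554 (tt N6767 (iv F53658)) (tt N4536 F42711) (tt N5554 F42712) (tt N6782 (iv F53732)) (tt N4523 F42713) (tt N6783 D11607) (tt N4522 (iv D9096)) (tt N6784 D11608) (tt N6691 (iv F53266)) (tt N4583 F42714))
theorem Q5556 : ∀ i, i < 5556 → P i := stepQ 5555 Q5555 (allL N5555 (tt N6768 (iv F53663)) (tt N4537 F42715) (tt N5555 F42716) (tt N6625 (iv F52898)) (tt N6784 (iv F53740)) (tt N6780 (iv F53724)) (tt N5555 F42717) (tt N4523 (iv D9097)) (tt N6692 (iv F53271)) (tt N4584 F42718))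
theorem Q5557 : ∀ i, i < 5557 → P i := stepQ 5556 Q5556 (allL N5556 (tt N4900 F42719) (tt N6695 (iv F53290)) (tt N5556 F42720) (tt N4527 F42721) (tt N6626 (iv F52905)) (tt N6785 D11609) (tt N6693 (iv F53278)) (tt N6682 (iv F53215)) (tt N4524 (iv D9098)) (tt N6686 (iv F53242)))
theorem Q5558 : ∀ i, i < 5558 → P i := stepQ 5557 Q5557 (allL N5557 (tt N4901 F42722) (tt N6769 (iv F53669)) (tt N4539 F42723) (tt N6682 (iv F53212)) (tt N4529 F42724) (tt N6786 D11610) (tt N6616 (iv F52855)) (tt N4527 F42725) (tt N4525 (iv D9099)) (tt N4780 F42726))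
theorem Q5559 : ∀ i, i < 5559 → P i := stepQ 5558 Q5558 (allL N5558 (tt N4902 F42727) (tt N6693 (iv F53274)) (tt N4540 F42728) (tt N6686 (iv F53238)) (tt N4530 F42729) (tt N6787 D11611) (tt N6695 (iv F53294)) (tt N4780 F42730) (tt N4526 (iv D9100)) (tt N4527 F42731))
theorem Q5560 : ∀ i, i < 5560 → P i := stepQ 5559 Q5559 (allL N5559 (tt N4903 F42732) (tt N6770 (iv F53676)) (tt N4541 F42733) (tt N6785 (iv F53745)) (tt N6788 D11612) (tt N4527 (iv D9101)) (tt N6789 D11613) (tt N6786 (iv F53749)) (tt N4651 F42734) (tt N6787 (iv F53756)))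
theorem Q5561 : ∀ i, i < 5561 → P i := stepQ 5560 Q5560 (allL N5560 (tt N4904 F42735) (tt N6771 (iv F53680)) (tt N4542 F42736) (tt N4840 F42737) (tt N6616 (iv F52854)) (tt N6790 D11614) (tt N4529 F42738) (tt N6697 (iv F53306)) (tt N4528 (iv D9102)) (tt N4747 F42739))
theorem Q5562 : ∀ i, i < 5562 → P i := stepQ 5561 Q5561 (allL N5561 (tt N4905 F42740) (tt N6772 (iv F53687)) (tt N4543 F42741) (tt N4906 F42742) (tt N6791 D11615) (tt N4529 (iv D9103)) (tt N6792 D11616) (tt N4531 F42743) (tt N4532 F42744) (tt N4781 F42745))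
theorem Q5563 : ∀ i, i < 5563 → P i := stepQ 5562 Q5562 (allL N5562 (tt N4906 F42746) (tt N6773 (iv F53693)) (tt N4544 F42747) (tt N4905 F42748) (tt N6793 D11617) (tt N4530 (iv D9104)) (tt N6794 D11618) (tt N4781 F42749) (tt N4585 F42750) (tt N4531 F42751))
theorem Q5564 : ∀ i, i < 5564 → P i := stepQ 5563 Q5563 (allL N5563 (tt N4907 F42752) (tt N6774 (iv F53699)) (tt N4545 F42753) (tt N6795 D11619) (tt N4531 (iv D9105)) (tt N6788 (iv F53759)) (tt N6796 D11620) (tt N6791 (iv F53771)) (tt N4533 F42754) (tt N6793 (iv F53783)))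
theorem Q5565 : ∀ i, i < 5565 → P i := stepQ 5564 Q5564 (allL N5564 (tt N4908 F42755) (tt N6775 (iv F53702)) (tt N4546 F42756) (tt N6629 (iv F52922)) (tt N6796 (iv F53793)) (tt N6702 (iv F53332)) (tt N4531 (iv D9106)) (tt N6797 D11621) (tt N4534 F42757) (tt N6794 (iv F53788)))
theorem Q5566 : ∀ i, i < 5566 → P i := stepQ 5565 Q5565 (allL N5565 (tt N4909 F42758) (tt N6776 (iv F53705)) (tt N4547 F42759) (tt N6798 D11622) (tt N4532 (iv D9107)) (tt N4656 F42760) (tt N6799 D11623) (tt N4533 F42761) (tt N6791 (iv F53772)) (tt N4588 F42762))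
theorem Q5567 : ∀ i, i < 5567 → P i := stepQ 5566 Q5566 (allL N5566 (tt N4910 F42763) (tt N6777 (iv F53710)) (tt N4548 F42764) (tt N4979 F42765) (tt N6799 (iv F53805)) (tt N5566 F42766) (tt N4532 (iv D9108)) (tt N6800 D11624) (tt N6792 (iv F53777)) (tt N4589 F42767))
theorem Q5568 : ∀ i, i < 5568 → P i := stepQ 5567 Q5567 (allL N5567 (tt N4911 F42768) (tt N6778 (iv F53715)) (tt N6801 D11625) (tt N4533 (iv D9109)) (tt N6630 (iv F52926)) (tt N4658 F42769) (tt N6802 D11626) (tt N6798 (iv F53801)) (tt N6795 (iv F53790)) (tt N4590 F42770))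
theorem Q5569 : ∀ i, i < 5569 → P i := stepQ 5568 Q5568 (allL N5568 (tt N4912 F42771) (tt N6779 (iv F53718)) (tt N4550 F42772) (tt N6802 (iv F53818)) (tt N4534 F42773) (tt N6803 D11627) (tt N4533 (iv D9110)) (tt N6804 D11628) (tt N6796 (iv F53794)) (tt N4591 F42774))
theorem Q5570 : ∀ i, i < 5570 → P i := stepQ 5569 Q5569 (allL N5569 (tt N4913 F42775) (tt N6780 (iv F53722)) (tt N4551 F42776) (tt N6632 (iv F52936)) (tt N6804 (iv F53827)) (tt N4537 F42777) (tt N6800 (iv F53811)) (tt N4534 (iv D9111)) (tt N6797 (iv F53797)) (tt N4592 F42778))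
theorem Q5571 : ∀ i, i < 5571 → P i := stepQ 5570 Q5570 (allL N5570 (tt N4914 F42779) (tt N6782 (iv F53731)) (tt N5570 F42780) (tt N4536 F42781) (tt N6633 (iv F52943)) (tt N6805 D11629) (tt N4535 (iv D9112)) (tt N6806 D11630) (tt N6708 (iv F53360)) (tt N4593 F42782))
theorem Q5572 : ∀ i, i < 5572 → P i := stepQ 5571 Q5571 (allL N5571 (tt N4915 F42783) (tt N6783 (iv F53734)) (tt N4552 F42784) (tt N6805 (iv F53831)) (tt N6803 (iv F53822)) (tt N4536 (iv D9113)) (tt N4662 F42785) (tt N6807 D11631) (tt N6808 D11632) (tt N4594 F42786))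
theorem Q5573 : ∀ i, i < 5573 → P i := stepQ 5572 Q5572 (allL N5572 (tt N4916 F42787) (tt N6784 (iv F53738)) (tt N4553 F42788) (tt N6806 (iv F53836)) (tt N4537 F42789) (tt N6807 (iv F53841)) (tt N5572 F42790) (tt N4536 (iv D9114)) (tt N6710 (iv F53370)) (tt N4595 F42791))
theorem Q5574 : ∀ i, i < 5574 → P i := stepQ 5573 Q5573 (allL N5573 (tt N4917 F42792) (tt N5573 F42793) (tt N6616 (iv F52852)) (tt N5573 F42794) (tt N4542 F42795) (tt N6809 D11633) (tt N4539 F42796) (tt N5186 F42797) (tt N4538 (iv D9115)) (tt N4752 F42798))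
theorem Q5575 : ∀ i, i < 5575 → P i := stepQ 5574 Q5574 (allL N5574 (tt N4918 F42799) (tt N5574 F42800) (tt N6786 (iv F53748)) (tt N5574 F42801) (tt N6810 D11634) (tt N4539 (iv D9116)) (tt N6811 D11635) (tt N4541 F42802) (tt N4665 F42803) (tt N4787 F42804))
theorem Q5576 : ∀ i, i < 5576 → P i := stepQ 5575 Q5575 (allL N5575 (tt N4919 F42805) (tt N5575 F42806) (tt N6787 (iv F53753)) (tt N5575 F42807) (tt N6812 D11636) (tt N4540 (iv D9117)) (tt N6813 D11637) (tt N4787 F42808) (tt N5575 F42809) (tt N4541 F42810))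
theorem Q5577 : ∀ i, i < 5577 → P i := stepQ 5576 Q5576 (allL N5576 (tt N4920 F42811) (tt N5576 F42812) (tt N6788 (iv F53758)) (tt N6814 D11638) (tt N4541 (iv D9118)) (tt N4545 F42813) (tt N6815 D11639) (tt N6810 (iv F53855)) (tt N4666 F42814) (tt N6812 (iv F53868)))
theorem Q5578 : ∀ i, i < 5578 → P i := stepQ 5577 Q5577 (allL N5577 (tt N4921 F42815) (tt N5577 F42816) (tt N6789 (iv F53762)) (tt N5577 F42817) (tt N6815 (iv F53881)) (tt N6714 (iv F53391)) (tt N4541 (iv D9119)) (tt N6816 D11640) (tt N4667 F42818) (tt N6813 (iv F53873)))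
theorem Q5579 : ∀ i, i < 5579 → P i := stepQ 5578 Q5578 (allL N5578 (tt N4922 F42819) (tt N5578 F42820) (tt N6790 (iv F53765)) (tt N4554 F42821) (tt N6817 D11641) (tt N4542 (iv D9120)) (tt N6818 D11642) (tt N6715 (iv F53396)) (tt N5578 F42822) (tt N4754 F42823))
theorem Q5580 : ∀ i, i < 5580 → P i := stepQ 5579 Q5579 (allL N5579 (tt N4923 F42824) (tt N5579 F42825) (tt N6791 (iv F53770)) (tt N6819 D11643) (tt N4543 (iv D9121)) (tt N6810 (iv F53854)) (tt N6820 D11644) (tt N4545 F42826) (tt N4547 F42827) (tt N4788 F42828))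
theorem Q5581 : ∀ i, i < 5581 → P i := stepQ 5580 Q5580 (allL N5580 (tt N4924 F42829) (tt N5580 F42830) (tt N6792 (iv F53775)) (tt N4556 F42831) (tt N6820 (iv F53905)) (tt N6818 (iv F53894)) (tt N4543 (iv D9122)) (tt N6821 D11645) (tt N4548 F42832) (tt N4789 F42833))
theorem Q5582 : ∀ i, i < 5582 → P i := stepQ 5581 Q5581 (allL N5581 (tt N4925 F42834) (tt N5581 F42835) (tt N6793 (iv F53780)) (tt N6822 D11646) (tt N4544 (iv D9123)) (tt N6812 (iv F53865)) (tt N6823 D11647) (tt N4788 F42836) (tt N4596 F42837) (tt N4545 F42838))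
theorem Q5583 : ∀ i, i < 5583 → P i := stepQ 5582 Q5582 (allL N5582 (tt N4926 F42839) (tt N5582 F42840) (tt N6794 (iv F53785)) (tt N4558 F42841) (tt N6823 (iv F53922)) (tt N6720 (iv F53420)) (tt N4544 (iv D9124)) (tt N6824 D11648) (tt N4597 F42842) (tt N4546 F42843))
theorem Q5584 : ∀ i, i < 5584 → P i := stepQ 5583 Q5583 (allL N5583 (tt N4927 F42844) (tt N5583 F42845) (tt N6825 D11649) (tt N4545 (iv D9125)) (tt N4559 F42846) (tt N6814 (iv F53877)) (tt N6826 D11650) (tt N6819 (iv F53900)) (tt N4549 F42847) (tt N6822 (iv F53919)))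
theorem Q5585 : ∀ i, i < 5585 → P i := stepQ 5584 Q5584 (allL N5584 (tt N4928 F42848) (tt N5584 F42849) (tt N6796 (iv F53792)) (tt N6826 (iv F53936)) (tt N4546 F42850) (tt N6827 D11651) (tt N4545 (iv D9126)) (tt N6828 D11652) (tt N4550 F42851) (tt N6823 (iv F53924)))
theorem Q5586 : ∀ i, i < 5586 → P i := stepQ 5585 Q5585 (allL N5585 (tt N4929 F42852) (tt N5585 F42853) (tt N6797 (iv F53796)) (tt N4561 F42854) (tt N6828 (iv F53943)) (tt N6723 (iv F53434)) (tt N6821 (iv F53911)) (tt N4546 (iv D9127)) (tt N4551 F42855) (tt N6824 (iv F53930)))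
theorem Q5587 : ∀ i, i < 5587 → P i := stepQ 5586 Q5586 (allL N5586 (tt N4930 F42856) (tt N5586 F42857) (tt N6829 D11653) (tt N4547 (iv D9128)) (tt N4562 F42858) (tt N4674 F42859) (tt N6830 D11654) (tt N4549 F42860) (tt N6819 (iv F53901)) (tt N4601 F42861))
theorem Q5588 : ∀ i, i < 5588 → P i := stepQ 5587 Q5587 (allL N5587 (tt N4931 F42862) (tt N5587 F42863) (tt N6799 (iv F53804)) (tt N6830 (iv F53952)) (tt N4548 F42864) (tt N6831 D11655) (tt N4547 (iv D9129)) (tt N6832 D11656) (tt N6820 (iv F53906)) (tt N4602 F42865))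
theorem Q5589 : ∀ i, i < 5589 → P i := stepQ 5588 Q5588 (allL N5588 (tt N4932 F42866) (tt N5588 F42867) (tt N6800 (iv F53808)) (tt N4564 F42868) (tt N6832 (iv F53962)) (tt N5588 F42869) (tt N4551 F42870) (tt N4548 (iv D9130)) (tt N6821 (iv F53912)) (tt N4603 F42871))
theorem Q5590 : ∀ i, i < 5590 → P i := stepQ 5589 Q5589 (allL N5589 (tt N4933 F42872) (tt N6833 D11657) (tt N4549 (iv D9131)) (tt N6801 (iv F53814)) (tt N4565 F42873) (tt N4677 F42874) (tt N6834 D11658) (tt N6829 (iv F53948)) (tt N6825 (iv F53933)) (tt N4604 F42875))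
theorem Q5591 : ∀ i, i < 5591 → P i := stepQ 5590 Q5590 (allL N5590 (tt N4934 F42876) (tt N5590 F42877) (tt N6834 (iv F53970)) (tt N4550 F42878) (tt N4566 F42879) (tt N6835 D11659) (tt N4549 (iv D9132)) (tt N6836 D11660) (tt N6826 (iv F53938)) (tt N4605 F42880))
theorem Q5592 : ∀ i, i < 5592 → P i := stepQ 5591 Q5591 (allL N5591 (tt N4935 F42881) (tt N5591 F42882) (tt N6803 (iv F53821)) (tt N6835 (iv F53975)) (tt N4552 F42883) (tt N4550 (iv D9133)) (tt N4679 F42884) (tt N6837 D11661) (tt N6838 D11662) (tt N4606 F42885))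
theorem Q5593 : ∀ i, i < 5593 → P i := stepQ 5592 Q5592 (allL N5592 (tt N4936 F42886) (tt N5592 F42887) (tt N6804 (iv F53826)) (tt N6836 (iv F53981)) (tt N4551 F42888) (tt N6837 (iv F53987)) (tt N6832 (iv F53963)) (tt N4550 (iv D9134)) (tt N6828 (iv F53944)) (tt N4607 F42889))
theorem Q5594 : ∀ i, i < 5594 → P i := stepQ 5593 Q5593 (allL N5593 (tt N4937 F42890) (tt N5593 F42891) (tt N6807 (iv F53840)) (tt N5593 F42892) (tt N6837 (iv F53986)) (tt N4553 F42893) (tt N6839 D11663) (tt N4552 (iv D9135)) (tt N6840 D11664) (tt N4608 F42894))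
theorem Q5595 : ∀ i, i < 5595 → P i := stepQ 5594 Q5594 (allL N5594 (tt N4938 F42895) (tt N5594 F42896) (tt N6808 (iv F53844)) (tt N5594 F42897) (tt N6838 (iv F53991)) (tt N6732 (iv F53478)) (tt N4682 F42898) (tt N6840 (iv F54002)) (tt N4552 (iv D9136)) (tt N6841 D11665))
theorem Q5596 : ∀ i, i < 5596 → P i := stepQ 5595 Q5595 (allL N5595 (tt N4939 F42899) (tt N5595 F42900) (tt N4868 F42901) (tt N6842 D11666) (tt N4554 (iv D9137)) (tt N5595 F42902) (tt N6843 D11667) (tt N6733 (iv F53484)) (tt N5595 F42903) (tt N4761 F42904))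
theorem Q5597 : ∀ i, i < 5597 → P i := stepQ 5596 Q5596 (allL N5596 (tt N4940 F42905) (tt N5596 F42906) (tt N4869 F42907) (tt N6818 (iv F53893)) (tt N6843 (iv F54016)) (tt N4556 F42908) (tt N4554 (iv D9138)) (tt N6844 D11668) (tt N5596 F42909) (tt N4762 F42910))
theorem Q5598 : ∀ i, i < 5598 → P i := stepQ 5597 Q5597 (allL N5597 (tt N4941 F42911) (tt N5597 F42912) (tt N6845 D11669) (tt N4555 (iv D9139)) (tt N6819 (iv F53899)) (tt N5597 F42913) (tt N6846 D11670) (tt N4559 F42914) (tt N4562 F42915) (tt N4795 F42916))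
theorem Q5599 : ∀ i, i < 5599 → P i := stepQ 5598 Q5598 (allL N5598 (tt N4942 F42917) (tt N5598 F42918) (tt N4945 F42919) (tt N6846 (iv F54033)) (tt N4556 F42920) (tt N6847 D11671) (tt N4555 (iv D9140)) (tt N6848 D11672) (tt N4563 F42921) (tt N4796 F42922))
theorem Q5600 : ∀ i, i < 5600 → P i := stepQ 5599 Q5599 (allL N5599 (tt N4943 F42923) (tt N5599 F42924) (tt N4946 F42925) (tt N6821 (iv F53910)) (tt N6848 (iv F54044)) (tt N6844 (iv F54022)) (tt N4561 F42926) (tt N4556 (iv D9141)) (tt N4564 F42927) (tt N4797 F42928))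
theorem Q5601 : ∀ i, i < 5601 → P i := stepQ 5600 Q5600 (allL N5600 (tt N4944 F42929) (tt N5600 F42930) (tt N6849 D11673) (tt N4557 (iv D9142)) (tt N6822 (iv F53916)) (tt N5600 F42931) (tt N6850 D11674) (tt N4795 F42932) (tt N4610 F42933) (tt N4559 F42934))
theorem Q5602 : ∀ i, i < 5602 → P i := stepQ 5601 Q5601 (allL N5601 (tt N4945 F42935) (tt N5601 F42936) (tt N4942 F42937) (tt N6850 (iv F54056)) (tt N4558 F42938) (tt N6851 D11675) (tt N4557 (iv D9143)) (tt N6852 D11676) (tt N4611 F42939) (tt N4560 F42940))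
theorem Q5603 : ∀ i, i < 5603 → P i := stepQ 5602 Q5602 (allL N5602 (tt N4946 F42941) (tt N5602 F42942) (tt N4943 F42943) (tt N6824 (iv F53927)) (tt N6852 (iv F54067)) (tt N6742 (iv F53533)) (tt N4797 F42944) (tt N4558 (iv D9144)) (tt N4612 F42945) (tt N4561 F42946))
theorem Q5604 : ∀ i, i < 5604 → P i := stepQ 5603 Q5603 (allL N5603 (tt N4947 F42947) (tt N6853 D11677) (tt N4559 (iv D9145)) (tt N6647 (iv F53011)) (tt N6825 (iv F53932)) (tt N5603 F42948) (tt N6854 D11678) (tt N6845 (iv F54028)) (tt N4565 F42949) (tt N6849 (iv F54053)))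
theorem Q5605 : ∀ i, i < 5605 → P i := stepQ 5604 Q5604 (allL N5604 (tt N4948 F42950) (tt N5604 F42951) (tt N6854 (iv F54075)) (tt N4560 F42952) (tt N6826 (iv F53937)) (tt N6855 D11679) (tt N4559 (iv D9146)) (tt N6856 D11680) (tt N4566 F42953) (tt N6850 (iv F54058)))
theorem Q5606 : ∀ i, i < 5606 → P i := stepQ 5605 Q5605 (allL N5605 (tt N4949 F42954) (tt N5605 F42955) (tt N6649 (iv F53023)) (tt N6855 (iv F54079)) (tt N6745 (iv F53545)) (tt N4560 (iv D9147)) (tt N5605 F42956) (tt N6857 D11681) (tt N5605 F42957) (tt N6851 (iv F54063)))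
theorem Q5607 : ∀ i, i < 5607 → P i := stepQ 5606 Q5606 (allL N5606 (tt N4950 F42958) (tt N5606 F42959) (tt N6650 (iv F53029)) (tt N6856 (iv F54084)) (tt N4561 F42960) (tt N6857 (iv F54088)) (tt N6848 (iv F54045)) (tt N4560 (iv D9148)) (tt N4567 F42961) (tt N6852 (iv F54070)))
theorem Q5608 : ∀ i, i < 5608 → P i := stepQ 5607 Q5607 (allL N5607 (tt N4951 F42962) (tt N6858 D11682) (tt N4562 (iv D9149)) (tt N5014 F42963) (tt N6829 (iv F53946)) (tt N4568 F42964) (tt N6859 D11683) (tt N4565 F42965) (tt N6845 (iv F54029)) (tt N4617 F42966))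
theorem Q5609 : ∀ i, i < 5609 → P i := stepQ 5608 Q5608 (allL N5608 (tt N4952 F42967) (tt N5608 F42968) (tt N6859 (iv F54096)) (tt N4563 F42969) (tt N6830 (iv F53953)) (tt N5191 F133138) (tt N4562 (iv D9150)) (tt N6860 D11685) (tt N6846 (iv F54034)) (tt N4618 F42970))
theorem Q5610 : ∀ i, i < 5610 → P i := stepQ 5609 Q5609 (allL N5609 (tt N4953 F42971) (tt N5609 F42972) (tt N5016 F42973) (tt N5191 F133180) (tt N5609 F42974) (tt N4563 (iv D9151)) (tt N4569 F42975) (tt N6861 D11686) (tt N6862 D11687) (tt N4619 F42976))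
theorem Q5611 : ∀ i, i < 5611 → P i := stepQ 5610 Q5610 (allL N5610 (tt N4954 F42977) (tt N5610 F42978) (tt N5017 F42979) (tt N6860 (iv F54106)) (tt N4564 F42980) (tt N6861 (iv F54113)) (tt N4567 F42981) (tt N4563 (iv D9152)) (tt N6848 (iv F54046)) (tt N4620 F42982))
theorem Q5612 : ∀ i, i < 5612 → P i := stepQ 5611 Q5611 (allL N5611 (tt N6863 D11688) (tt N4565 (iv D9153)) (tt N5611 F42983) (tt N5103 F132362) (tt N6833 (iv F53966)) (tt N4570 F42984) (tt N6864 D11689) (tt N6858 (iv F54093)) (tt N6853 (iv F54073)) (tt N4621 F42985))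
theorem Q5613 : ∀ i, i < 5613 → P i := stepQ 5612 Q5612 (allL N5612 (tt N4956 F42986) (tt N6864 (iv F54126)) (tt N4566 F42987) (tt N6651 (iv F53041)) (tt N6834 (iv F53971)) (tt N5612 F42988) (tt N4565 (iv D9154)) (tt N6865 D11690) (tt N6854 (iv F54076)) (tt N4622 F42989))
theorem Q5614 : ∀ i, i < 5614 → P i := stepQ 5613 Q5613 (allL N5613 (tt N4957 F42990) (tt N5613 F42991) (tt N6865 (iv F54131)) (tt N4567 F42992) (tt N6836 (iv F53982)) (tt N5613 F42993) (tt N6860 (iv F54107)) (tt N4566 (iv D9155)) (tt N6856 (iv F54085)) (tt N4623 F42994))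
theorem Q5615 : ∀ i, i < 5615 → P i := stepQ 5614 Q5614 (allL N5614 (tt N4647 (iv F131937)) (tt N4568 (iv D9156)) (tt N5614 F42995) (tt N5027 F42996) (tt N4636 F131558) (tt N6858 (iv F54092)) (tt N4635 (iv F131844)) (tt N4570 F42998) (tt N5614 F42999) (tt N4624 F43000))
theorem Q5616 : ∀ i, i < 5616 → P i := stepQ 5615 Q5615 (allL N5615 (tt N4958 F43013) (tt N5615 F43014) (tt N5030 F43015) (tt N5119 F133181) (tt N5615 F43016) (tt N5615 F43017) (tt N6862 (iv F54120)) (tt N5615 F43018) (tt N4569 (iv D9159)) (tt N5615 F43019))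
theorem Q5617 : ∀ i, i < 5617 → P i := stepQ 5616 Q5616 (allL N5616 (tt N4570 (iv D9160)) (tt N4663 (iv F131827)) (tt N5616 F43021) (tt N4732 (iv F131880)) (tt N4648 F131559) (tt N6863 (iv F54124)) (tt N5616 F43023) (tt N4647 (iv F131938)) (tt N5616 F43024) (tt N4625 F43025))
theorem Q5618 : ∀ i, i < 5618 → P i := stepQ 5617 Q5617 (allL N5617 (tt N4577 F43026) (tt N4959 F43027) (tt N5617 F43028) (tt N4885 F43029) (tt N5617 F43030) (tt N6866 D11696) (tt N5617 F43031) (tt N4772 F43032) (tt N4571 (iv D9161)) (tt N4572 F43033))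
theorem Q5619 : ∀ i, i < 5619 → P i := stepQ 5618 Q5618 (allL N5618 (tt N4578 F43034) (tt N4960 F43035) (tt N5618 F43036) (tt N4961 F43037) (tt N6867 D11697) (tt N4572 (iv D9162)) (tt N6868 D11698) (tt N4802 F43038) (tt N4574 F43039) (tt N6866 (iv F54170)))
theorem Q5620 : ∀ i, i < 5620 → P i := stepQ 5619 Q5619 (allL N5619 (tt N4579 F43040) (tt N4961 F43041) (tt N5619 F43042) (tt N4960 F43043) (tt N6869 D11699) (tt N4573 (iv D9163)) (tt N6870 D11700) (tt N4574 F43044) (tt N4802 F43045) (tt N6763 (iv F53642)))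
theorem Q5621 : ∀ i, i < 5621 → P i := stepQ 5620 Q5620 (allL N5620 (tt N4580 F43046) (tt N4962 F43047) (tt N5620 F43048) (tt N6871 D11701) (tt N4574 (iv D9164)) (tt N4696 F43049) (tt N6872 D11702) (tt N6869 (iv F54187)) (tt N6867 (iv F54176)) (tt N6764 (iv F53647)))
theorem Q5622 : ∀ i, i < 5622 → P i := stepQ 5621 Q5621 (allL N5621 (tt N4581 F43050) (tt N4963 F43051) (tt N5621 F43052) (tt N6654 (iv F53067)) (tt N6872 (iv F54201)) (tt N4576 F43053) (tt N4574 (iv D9165)) (tt N6873 D11703) (tt N6868 (iv F54182)) (tt N6765 (iv F53652)))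
theorem Q5623 : ∀ i, i < 5623 → P i := stepQ 5622 Q5622 (allL N5622 (tt N4582 F43054) (tt N4964 F43055) (tt N5114 (iv F131877)) (tt N4575 (iv D9166)) (tt N6655 (iv F53072)) (tt N4698 F43056) (tt N6874 D11705) (tt N5622 F43057) (tt N5622 F43058) (tt N6766 (iv F53657)))
theorem Q5624 : ∀ i, i < 5624 → P i := stepQ 5623 Q5623 (allL N5623 (tt N4583 F43059) (tt N4965 F43060) (tt N5623 F43061) (tt N6874 (iv F54213)) (tt N4576 F43062) (tt N6875 D11706) (tt N4575 (iv D9167)) (tt N6876 D11707) (tt N5623 F43063) (tt N6767 (iv F53662)))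
theorem Q5625 : ∀ i, i < 5625 → P i := stepQ 5624 Q5624 (allL N5624 (tt N4584 F43064) (tt N4966 F43065) (tt N5624 F43066) (tt N6657 (iv F53082)) (tt N6876 (iv F54222)) (tt N6873 (iv F54205)) (tt N5624 F43067) (tt N4576 (iv D9168)) (tt N5624 F43068) (tt N6768 (iv F53667)))
theorem Q5626 : ∀ i, i < 5626 → P i := stepQ 5625 Q5625 (allL N5625 (tt N6866 (iv F54165)) (tt N4585 F43069) (tt N5625 F43070) (tt N4893 F43071) (tt N6877 D11708) (tt N4577 (iv D9169)) (tt N6878 D11709) (tt N4776 F43072) (tt N6773 (iv F53697)) (tt N4578 F43073))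
theorem Q5627 : ∀ i, i < 5627 → P i := stepQ 5626 Q5626 (allL N5626 (tt N6867 (iv F54171)) (tt N4586 F43074) (tt N5626 F43075) (tt N6879 D11710) (tt N4578 (iv D9170)) (tt N5626 F43076) (tt N6880 D11711) (tt N4805 F43077) (tt N4580 F43078) (tt N6877 (iv F54229)))
theorem Q5628 : ∀ i, i < 5628 → P i := stepQ 5627 Q5627 (allL N5627 (tt N6868 (iv F54177)) (tt N4587 F43079) (tt N5627 F43080) (tt N4971 F43081) (tt N6880 (iv F54242)) (tt N5627 F43082) (tt N4578 (iv D9171)) (tt N6881 D11712) (tt N4581 F43083) (tt N6878 (iv F54234)))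
theorem Q5629 : ∀ i, i < 5629 → P i := stepQ 5628 Q5628 (allL N5628 (tt N6869 (iv F54183)) (tt N4588 F43084) (tt N5628 F43085) (tt N6882 D11713) (tt N4579 (iv D9172)) (tt N4699 F43086) (tt N6883 D11714) (tt N4580 F43087) (tt N4805 F43088) (tt N6776 (iv F53709)))
theorem Q5630 : ∀ i, i < 5630 → P i := stepQ 5629 Q5629 (allL N5629 (tt N6870 (iv F54189)) (tt N4589 F43089) (tt N5629 F43090) (tt N4969 F43091) (tt N6883 (iv F54257)) (tt N5629 F43092) (tt N4579 (iv D9173)) (tt N6884 D11715) (tt N4806 F43093) (tt N6777 (iv F53714)))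
theorem Q5631 : ∀ i, i < 5631 → P i := stepQ 5630 Q5630 (allL N5630 (tt N6871 (iv F54195)) (tt N4590 F43094) (tt N6885 D11716) (tt N4580 (iv D9174)) (tt N6658 (iv F53086)) (tt N4701 F43095) (tt N6886 D11717) (tt N6882 (iv F54253)) (tt N6879 (iv F54239)) (tt N6778 (iv F53717)))
theorem Q5632 : ∀ i, i < 5632 → P i := stepQ 5631 Q5631 (allL N5631 (tt N6872 (iv F54198)) (tt N4591 F43096) (tt N5631 F43097) (tt N6886 (iv F54268)) (tt N4581 F43098) (tt N6887 D11718) (tt N4580 (iv D9175)) (tt N6888 D11719) (tt N6880 (iv F54243)) (tt N6779 (iv F53721)))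
theorem Q5633 : ∀ i, i < 5633 → P i := stepQ 5632 Q5632 (allL N5632 (tt N6873 (iv F54202)) (tt N4592 F43099) (tt N5632 F43100) (tt N6660 (iv F53096)) (tt N6888 (iv F54275)) (tt N4584 F43101) (tt N6884 (iv F54263)) (tt N4581 (iv D9176)) (tt N6881 (iv F54249)) (tt N6780 (iv F53725)))
theorem Q5634 : ∀ i, i < 5634 → P i := stepQ 5633 Q5633 (allL N5633 (tt N5114 (iv F131876)) (tt N5633 F43102) (tt N4582 (iv D9177)) (tt N5633 F43103) (tt N6661 (iv F53101)) (tt N4704 F43104) (tt N6889 D11720) (tt N5633 F43105) (tt N5633 F43106) (tt N6781 (iv F53730)))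
theorem Q5635 : ∀ i, i < 5635 → P i := stepQ 5634 Q5634 (allL N5634 (tt N6874 (iv F54211)) (tt N4593 F43107) (tt N6889 (iv F54277)) (tt N4583 F43108) (tt N6662 (iv F53107)) (tt N6890 D11721) (tt N4582 (iv D9178)) (tt N6891 D11722) (tt N5634 F43109) (tt N6782 (iv F53733)))
theorem Q5636 : ∀ i, i < 5636 → P i := stepQ 5635 Q5635 (allL N5635 (tt N6875 (iv F54215)) (tt N4594 F43110) (tt N5635 F43111) (tt N6890 (iv F54281)) (tt N6887 (iv F54271)) (tt N4583 (iv D9179)) (tt N4706 F43112) (tt N6892 D11723) (tt N6893 D11724) (tt N6783 (iv F53737)))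
theorem Q5637 : ∀ i, i < 5637 → P i := stepQ 5636 Q5636 (allL N5636 (tt N6876 (iv F54219)) (tt N4595 F43113) (tt N5636 F43114) (tt N6891 (iv F54284)) (tt N4584 F43115) (tt N6892 (iv F54289)) (tt N5636 F43116) (tt N4583 (iv D9180)) (tt N5636 F43117) (tt N6784 (iv F53742)))
theorem Q5638 : ∀ i, i < 5638 → P i := stepQ 5637 Q5637 (allL N5637 (tt N4978 F43118) (tt N6877 (iv F54225)) (tt N4596 F43119) (tt N6894 D11725) (tt N4585 (iv D9181)) (tt N5637 F43120) (tt N6895 D11726) (tt N4782 F43121) (tt N6793 (iv F53782)) (tt N4586 F43122))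
theorem Q5639 : ∀ i, i < 5639 → P i := stepQ 5638 Q5638 (allL N5638 (tt N4979 F43123) (tt N6878 (iv F54230)) (tt N4597 F43124) (tt N4910 F43125) (tt N6895 (iv F54301)) (tt N5638 F43126) (tt N4585 (iv D9182)) (tt N6896 D11727) (tt N6794 (iv F53787)) (tt N4587 F43127))
theorem Q5640 : ∀ i, i < 5640 → P i := stepQ 5639 Q5639 (allL N5639 (tt N4980 F43128) (tt N6879 (iv F54235)) (tt N6897 D11728) (tt N4586 (iv D9183)) (tt N4983 F43129) (tt N5639 F43130) (tt N6898 D11729) (tt N4810 F43131) (tt N4590 F43132) (tt N6894 (iv F54298)))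
theorem Q5641 : ∀ i, i < 5641 → P i := stepQ 5640 Q5640 (allL N5640 (tt N4981 F43133) (tt N6880 (iv F54240)) (tt N4599 F43134) (tt N6898 (iv F54316)) (tt N4587 F43135) (tt N6899 D11730) (tt N4586 (iv D9184)) (tt N6900 D11731) (tt N4591 F43136) (tt N6895 (iv F54302)))
theorem Q5642 : ∀ i, i < 5642 → P i := stepQ 5641 Q5641 (allL N5641 (tt N4982 F43137) (tt N6881 (iv F54244)) (tt N4600 F43138) (tt N4985 F43139) (tt N6900 (iv F54325)) (tt N5641 F43140) (tt N4812 F43141) (tt N4587 (iv D9185)) (tt N4592 F43142) (tt N6896 (iv F54308)))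
theorem Q5643 : ∀ i, i < 5643 → P i := stepQ 5642 Q5642 (allL N5642 (tt N4983 F43143) (tt N6882 (iv F54250)) (tt N6901 D11732) (tt N4588 (iv D9186)) (tt N4980 F43144) (tt N4707 F43145) (tt N6902 D11733) (tt N4590 F43146) (tt N4810 F43147) (tt N6798 (iv F53802)))
theorem Q5644 : ∀ i, i < 5644 → P i := stepQ 5643 Q5643 (allL N5643 (tt N4984 F43148) (tt N6883 (iv F54255)) (tt N4602 F43149) (tt N6902 (iv F54335)) (tt N4589 F43150) (tt N6903 D11734) (tt N4588 (iv D9187)) (tt N6904 D11735) (tt N4811 F43151) (tt N6799 (iv F53806)))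
theorem Q5645 : ∀ i, i < 5645 → P i := stepQ 5644 Q5644 (allL N5644 (tt N4985 F43152) (tt N6884 (iv F54259)) (tt N4603 F43153) (tt N4982 F43154) (tt N6904 (iv F54344)) (tt N5644 F43155) (tt N4592 F43156) (tt N4589 (iv D9188)) (tt N4812 F43157) (tt N6800 (iv F53812)))
theorem Q5646 : ∀ i, i < 5646 → P i := stepQ 5645 Q5645 (allL N5645 (tt N4986 F43158) (tt N6905 D11736) (tt N4590 (iv D9189)) (tt N4604 F43159) (tt N6665 (iv F53117)) (tt N4710 F43160) (tt N6906 D11737) (tt N6901 (iv F54332)) (tt N6897 (iv F54314)) (tt N6801 (iv F53816)))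
theorem Q5647 : ∀ i, i < 5647 → P i := stepQ 5646 Q5646 (allL N5646 (tt N4987 F43161) (tt N6886 (iv F54267)) (tt N6906 (iv F54350)) (tt N4591 F43162) (tt N6666 (iv F53123)) (tt N6907 D11738) (tt N4590 (iv D9190)) (tt N6908 D11739) (tt N6898 (iv F54318)) (tt N6802 (iv F53819)))
theorem Q5648 : ∀ i, i < 5648 → P i := stepQ 5647 Q5647 (allL N5647 (tt N4988 F43163) (tt N6887 (iv F54269)) (tt N4606 F43164) (tt N6907 (iv F54353)) (tt N4594 F43165) (tt N4591 (iv D9191)) (tt N4712 F43166) (tt N6909 D11740) (tt N6910 D11741) (tt N6803 (iv F53824)))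
theorem Q5649 : ∀ i, i < 5649 → P i := stepQ 5648 Q5648 (allL N5648 (tt N4989 F43167) (tt N6888 (iv F54273)) (tt N4607 F43168) (tt N6908 (iv F54356)) (tt N4592 F43169) (tt N6909 (iv F54360)) (tt N6904 (iv F54345)) (tt N4591 (iv D9192)) (tt N6900 (iv F54327)) (tt N6804 (iv F53828)))
theorem Q5650 : ∀ i, i < 5650 → P i := stepQ 5649 Q5649 (allL N5649 (tt N4990 F43170) (tt N6890 (iv F54280)) (tt N5649 F43171) (tt N4594 F43172) (tt N6911 D11742) (tt N4593 (iv D9193)) (tt N4714 F43173) (tt N6912 D11743) (tt N6913 D11744) (tt N6805 (iv F53833)))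
theorem Q5651 : ∀ i, i < 5651 → P i := stepQ 5650 Q5650 (allL N5650 (tt N4991 F43174) (tt N6891 (iv F54283)) (tt N5650 F43175) (tt N4595 F43176) (tt N6670 (iv F53141)) (tt N6912 (iv F54371)) (tt N5650 F43177) (tt N4593 (iv D9194)) (tt N5650 F43178) (tt N6806 (iv F53838)))
theorem Q5652 : ∀ i, i < 5652 → P i := stepQ 5651 Q5651 (allL N5651 (tt N4992 F43179) (tt N6892 (iv F54287)) (tt N4608 F43180) (tt N6912 (iv F54370)) (tt N6909 (iv F54359)) (tt N4595 F43181) (tt N6914 D11745) (tt N4594 (iv D9195)) (tt N6915 D11746) (tt N6807 (iv F53842)))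
theorem Q5653 : ∀ i, i < 5653 → P i := stepQ 5652 Q5652 (allL N5652 (tt N4993 F43182) (tt N6893 (iv F54290)) (tt N4609 F43183) (tt N6913 (iv F54374)) (tt N6910 (iv F54363)) (tt N5652 F43184) (tt N4717 F43185) (tt N6915 (iv F54384)) (tt N4594 (iv D9196)) (tt N6916 D11747))
theorem Q5654 : ∀ i, i < 5654 → P i := stepQ 5653 Q5653 (allL N5653 (tt N4994 F43186) (tt N5653 F43187) (tt N6917 D11748) (tt N4596 (iv D9197)) (tt N4610 F43188) (tt N5653 F43189) (tt N6918 D11749) (tt N4790 F43190) (tt N6822 (iv F53918)) (tt N4598 F43191))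
theorem Q5655 : ∀ i, i < 5655 → P i := stepQ 5654 Q5654 (allL N5654 (tt N4995 F43192) (tt N5654 F43193) (tt N6895 (iv F54300)) (tt N6918 (iv F54396)) (tt N4597 F43194) (tt N6919 D11750) (tt N4596 (iv D9198)) (tt N6920 D11751) (tt N6823 (iv F53923)) (tt N4599 F43195))
theorem Q5656 : ∀ i, i < 5656 → P i := stepQ 5655 Q5655 (allL N5655 (tt N4996 F43196) (tt N5655 F43197) (tt N6896 (iv F54304)) (tt N4612 F43198) (tt N6920 (iv F54406)) (tt N5655 F43199) (tt N4792 F43200) (tt N4597 (iv D9199)) (tt N6824 (iv F53929)) (tt N4600 F43201))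
theorem Q5657 : ∀ i, i < 5657 → P i := stepQ 5656 Q5656 (allL N5656 (tt N4997 F43202) (tt N5102 F132295) (tt N4598 (iv D9200)) (tt N6897 (iv F54310)) (tt N4613 F43203) (tt N5656 F43204) (tt N6921 D11753) (tt N4816 F43205) (tt N4604 F43206) (tt N6917 (iv F54393)))
theorem Q5658 : ∀ i, i < 5658 → P i := stepQ 5657 Q5657 (allL N5657 (tt N4998 F43207) (tt N5657 F43208) (tt N6921 (iv F54415)) (tt N4599 F43209) (tt N4614 F43210) (tt N6922 D11754) (tt N4598 (iv D9201)) (tt N6923 D11755) (tt N4605 F43211) (tt N6918 (iv F54398)))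
theorem Q5659 : ∀ i, i < 5659 → P i := stepQ 5658 Q5658 (allL N5658 (tt N4999 F43212) (tt N5658 F43213) (tt N6899 (iv F54320)) (tt N6922 (iv F54420)) (tt N5658 F43214) (tt N4599 (iv D9202)) (tt N5658 F43215) (tt N6924 D11756) (tt N6925 D11757) (tt N6919 (iv F54403)))
theorem Q5660 : ∀ i, i < 5660 → P i := stepQ 5659 Q5659 (allL N5659 (tt N5000 F43216) (tt N5659 F43217) (tt N6900 (iv F54324)) (tt N6923 (iv F54424)) (tt N4600 F43218) (tt N6924 (iv F54431)) (tt N4819 F43219) (tt N4599 (iv D9203)) (tt N4607 F43220) (tt N6920 (iv F54408)))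
theorem Q5661 : ∀ i, i < 5661 → P i := stepQ 5660 Q5660 (allL N5660 (tt N5001 F43221) (tt N6926 D11758) (tt N4601 (iv D9204)) (tt N6901 (iv F54329)) (tt N4617 F43222) (tt N4718 F43223) (tt N6927 D11759) (tt N4604 F43224) (tt N4816 F43225) (tt N6829 (iv F53949)))
theorem Q5662 : ∀ i, i < 5662 → P i := stepQ 5661 Q5661 (allL N5661 (tt N5002 F43226) (tt N5661 F43227) (tt N6927 (iv F54443)) (tt N4602 F43228) (tt N4618 F43229) (tt N5280 F133152) (tt N4601 (iv D9205)) (tt N6928 D11761) (tt N4817 F43230) (tt N6830 (iv F53954)))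
theorem Q5663 : ∀ i, i < 5663 → P i := stepQ 5662 Q5662 (allL N5662 (tt N5003 F43231) (tt N5662 F43232) (tt N6903 (iv F54339)) (tt N5280 F133151) (tt N5662 F43233) (tt N4602 (iv D9206)) (tt N4719 F43234) (tt N6929 D11762) (tt N6930 D11763) (tt N6831 (iv F53959)))
theorem Q5664 : ∀ i, i < 5664 → P i := stepQ 5663 Q5663 (allL N5663 (tt N5004 F43235) (tt N5663 F43236) (tt N6904 (iv F54343)) (tt N6928 (iv F54452)) (tt N4603 F43237) (tt N6929 (iv F54459)) (tt N4607 F43238) (tt N4602 (iv D9207)) (tt N4819 F43239) (tt N6832 (iv F53964)))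
theorem Q5665 : ∀ i, i < 5665 → P i := stepQ 5664 Q5664 (allL N5664 (tt N6931 D11764) (tt N4604 (iv D9208)) (tt N5664 F43240) (tt N6905 (iv F54347)) (tt N4621 F43241) (tt N4721 F43242) (tt N6932 D11765) (tt N6926 (iv F54440)) (tt N5102 F132361) (tt N6833 (iv F53968)))
theorem Q5666 : ∀ i, i < 5666 → P i := stepQ 5665 Q5665 (allL N5665 (tt N5006 F43243) (tt N6932 (iv F54469)) (tt N4605 F43244) (tt N6906 (iv F54351)) (tt N4622 F43245) (tt N6933 D11766) (tt N4604 (iv D9209)) (tt N6934 D11767) (tt N6921 (iv F54417)) (tt N6834 (iv F53972)))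
theorem Q5667 : ∀ i, i < 5667 → P i := stepQ 5666 Q5666 (allL N5666 (tt N5007 F43246) (tt N5666 F43247) (tt N6933 (iv F54473)) (tt N4606 F43248) (tt N5666 F43249) (tt N4605 (iv D9210)) (tt N4723 F43250) (tt N6935 D11768) (tt N6936 D11769) (tt N6835 (iv F53978)))
theorem Q5668 : ∀ i, i < 5668 → P i := stepQ 5667 Q5667 (allL N5667 (tt N5008 F43251) (tt N5667 F43252) (tt N6934 (iv F54477)) (tt N4607 F43253) (tt N4623 F43254) (tt N6935 (iv F54483)) (tt N6928 (iv F54454)) (tt N4605 (iv D9211)) (tt N6923 (iv F54427)) (tt N6836 (iv F53983)))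
theorem Q5669 : ∀ i, i < 5669 → P i := stepQ 5668 Q5668 (allL N5668 (tt N5009 F43255) (tt N5668 F43256) (tt N6909 (iv F54358)) (tt N6935 (iv F54481)) (tt N4608 F43257) (tt N4607 F43258) (tt N6937 D11770) (tt N4606 (iv D9212)) (tt N6938 D11771) (tt N6837 (iv F53988)))
theorem Q5670 : ∀ i, i < 5670 → P i := stepQ 5669 Q5669 (allL N5669 (tt N5010 F43259) (tt N5669 F43260) (tt N6910 (iv F54362)) (tt N6936 (iv F54486)) (tt N4609 F43261) (tt N6925 (iv F54435)) (tt N4726 F43262) (tt N6938 (iv F54496)) (tt N4606 (iv D9213)) (tt N6939 D11772))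
theorem Q5671 : ∀ i, i < 5671 → P i := stepQ 5670 Q5670 (allL N5670 (tt N5011 F43263) (tt N5670 F43264) (tt N6914 (iv F54378)) (tt N5670 F43265) (tt N6937 (iv F54491)) (tt N5670 F43266) (tt N4608 (iv D9214)) (tt N4727 F43267) (tt N6940 D11773) (tt N6839 (iv F53998)))
theorem Q5672 : ∀ i, i < 5672 → P i := stepQ 5671 Q5671 (allL N5671 (tt N5012 F43268) (tt N5671 F43269) (tt N6915 (iv F54382)) (tt N5671 F43270) (tt N6938 (iv F54495)) (tt N5671 F43271) (tt N6940 (iv F54504)) (tt N4609 F43272) (tt N4608 (iv D9215)) (tt N6941 D11774))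
theorem Q5673 : ∀ i, i < 5673 → P i := stepQ 5672 Q5672 (allL N5672 (tt N5013 F43273) (tt N5672 F43274) (tt N6916 (iv F54386)) (tt N5672 F43275) (tt N6939 (iv F54499)) (tt N5672 F43276) (tt N4729 F43277) (tt N6941 (iv F54510)) (tt N6841 (iv F54007)) (tt N4609 (iv D9216)))
theorem Q5674 : ∀ i, i < 5674 → P i := stepQ 5673 Q5673 (allL N5673 (tt N5014 F43278) (tt N5060 F132227) (tt N4610 (iv D9217)) (tt N4951 F43279) (tt N6917 (iv F54390)) (tt N4626 F43280) (tt N6942 D11776) (tt N4798 F43281) (tt N6849 (iv F54052)) (tt N4613 F43282))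
theorem Q5675 : ∀ i, i < 5675 → P i := stepQ 5674 Q5674 (allL N5674 (tt N5015 F43283) (tt N5674 F43284) (tt N6942 (iv F54517)) (tt N4611 F43285) (tt N6918 (iv F54397)) (tt N6943 D11777) (tt N4610 (iv D9218)) (tt N6944 D11778) (tt N6850 (iv F54057)) (tt N4614 F43286))
theorem Q5676 : ∀ i, i < 5676 → P i := stepQ 5675 Q5675 (allL N5675 (tt N5016 F43287) (tt N5675 F43288) (tt N4953 F43289) (tt N6943 (iv F54522)) (tt N5675 F43290) (tt N4611 (iv D9219)) (tt N4628 F43291) (tt N6945 D11779) (tt N6946 D11780) (tt N4615 F43292))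
theorem Q5677 : ∀ i, i < 5677 → P i := stepQ 5676 Q5676 (allL N5676 (tt N5017 F43293) (tt N5676 F43294) (tt N4954 F43295) (tt N6944 (iv F54527)) (tt N4612 F43296) (tt N6945 (iv F54534)) (tt N4800 F43297) (tt N4611 (iv D9220)) (tt N6852 (iv F54069)) (tt N4616 F43298))
theorem Q5678 : ∀ i, i < 5678 → P i := stepQ 5677 Q5677 (allL N5677 (tt N5019 F43304) (tt N4990 F132251) (tt N4614 F43305) (tt N4976 F132252) (tt N6921 (iv F54416)) (tt N4975 F132253) (tt N4613 (iv D9222)) (tt N6947 D11784) (tt N4622 F43307) (tt N6942 (iv F54519)))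
theorem Q5679 : ∀ i, i < 5679 → P i := stepQ 5678 Q5678 (allL N5678 (tt N5020 F43308) (tt N5678 F43309) (tt N4975 F132250) (tt N4615 F43310) (tt N6948 D11785) (tt N4614 (iv D9223)) (tt N4629 F43311) (tt N6949 D11786) (tt N5678 F43312) (tt N6943 (iv F54524)))
theorem Q5680 : ∀ i, i < 5680 → P i := stepQ 5679 Q5679 (allL N5679 (tt N5021 F43313) (tt N5679 F43314) (tt N6947 (iv F54559)) (tt N4616 F43315) (tt N6923 (iv F54425)) (tt N6949 (iv F54571)) (tt N4824 F43316) (tt N4614 (iv D9224)) (tt N4623 F43317) (tt N6944 (iv F54529)))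
theorem Q5681 : ∀ i, i < 5681 → P i := stepQ 5680 Q5680 (allL N5680 (tt N5022 F43318) (tt N5680 F43319) (tt N5024 F43320) (tt N6949 (iv F54570)) (tt N5680 F43321) (tt N4616 F43322) (tt N5680 F43323) (tt N4615 (iv D9225)) (tt N5680 F43324) (tt N6945 (iv F54536)))
theorem Q5682 : ∀ i, i < 5682 → P i := stepQ 5681 Q5681 (allL N5681 (tt N4706 (iv F131935)) (tt N4617 (iv D9226)) (tt N5681 F43325) (tt N5018 F43326) (tt N6926 (iv F54438)) (tt N4624 F43327) (tt N6875 (iv F131927)) (tt N4621 F43328) (tt N4822 F43329) (tt N6858 (iv F54094)))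
theorem Q5683 : ∀ i, i < 5683 → P i := stepQ 5682 Q5682 (allL N5682 (tt N4976 F132246) (tt N6875 F132247) (tt N4618 F43331) (tt N5019 F43332) (tt N6927 (iv F54444)) (tt N4965 F132248) (tt N4617 (iv D9227)) (tt N6950 D11790) (tt N4823 F43333) (tt N6859 (iv F54098)))
theorem Q5684 : ∀ i, i < 5684 → P i := stepQ 5683 Q5683 (allL N5683 (tt N5023 F43339) (tt N5683 F43340) (tt N6950 (iv F54590)) (tt N4620 F43341) (tt N6928 (iv F54453)) (tt N5282 F133183) (tt N4623 F43342) (tt N4618 (iv D9229)) (tt N4824 F43343) (tt N6860 (iv F54108)))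
theorem Q5685 : ∀ i, i < 5685 → P i := stepQ 5684 Q5684 (allL N5684 (tt N5024 F43344) (tt N5684 F43345) (tt N5022 F43346) (tt N5282 F133182) (tt N5684 F43347) (tt N4620 F43348) (tt N5684 F43349) (tt N4619 (iv D9230)) (tt N5684 F43350) (tt N6861 (iv F54115)))
theorem Q5686 : ∀ i, i < 5686 → P i := stepQ 5685 Q5685 (allL N5685 (tt N4621 (iv D9231)) (tt N4716 (iv F131825)) (tt N5685 F43352) (tt N4717 (iv F131875)) (tt N6931 (iv F54467)) (tt N4625 F43353) (tt N6913 (iv F131933)) (tt N4706 (iv F131936)) (tt N4714 (iv F131865)) (tt N6863 (iv F54125)))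
theorem Q5687 : ∀ i, i < 5687 → P i := stepQ 5686 Q5686 (allL N5686 (tt N6913 F132357) (tt N4622 F43354) (tt N5686 F43355) (tt N4993 F132358) (tt N6932 (iv F54471)) (tt N5686 F43356) (tt N4621 (iv D9232)) (tt N6951 D11794) (tt N4990 F132359) (tt N6864 (iv F54129)))
theorem Q5688 : ∀ i, i < 5688 → P i := stepQ 5687 Q5687 (allL N5687 (tt N5026 F43357) (tt N6951 (iv F54609)) (tt N4623 F43358) (tt N6681 (iv F53205)) (tt N6934 (iv F54478)) (tt N5687 F43359) (tt N6950 (iv F54592)) (tt N4622 (iv D9233)) (tt N6947 (iv F54562)) (tt N6865 (iv F54133)))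
theorem Q5689 : ∀ i, i < 5689 → P i := stepQ 5688 Q5688 (allL N5688 (tt N5029 F43396) (tt N5688 F43397) (tt N4896 F132255) (tt N4628 F43398) (tt N6952 D11801) (tt N4627 (iv D9240)) (tt N6943 (iv F54523)) (tt N5688 F43399) (tt N6953 D11802) (tt N4629 F43400))
theorem Q5690 : ∀ i, i < 5690 → P i := stepQ 5689 Q5689 (allL N5689 (tt N5030 F43401) (tt N5689 F43402) (tt N4958 F43403) (tt N6953 (iv F54656)) (tt N5689 F43404) (tt N5689 F43405) (tt N6946 (iv F54541)) (tt N5689 F43406) (tt N4628 (iv D9241)) (tt N5689 F43407))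
theorem Q5691 : ∀ i, i < 5691 → P i := stepQ 5690 Q5690 (allL N5690 (tt N5031 F43425) (tt N5690 F43426) (tt N4807 F132256) (tt N5690 F43427) (tt N4629 (iv D9245)) (tt N5690 F43428) (tt N6948 (iv F54566)) (tt N5690 F43429) (tt N5690 F43430) (tt N6952 (iv F54653)))
theorem Q5692 : ∀ i, i < 5692 → P i := stepQ 5691 Q5691 (allL N5691 (tt N4639 F43447) (tt N4748 F43448) (tt N5691 F43449) (tt N4832 F43450) (tt N4632 F43451) (tt N6954 D11806) (tt N5691 F43452) (tt N4743 F43453) (tt N4630 (iv D9248)) (tt N5691 F43454))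
theorem Q5693 : ∀ i, i < 5693 → P i := stepQ 5692 Q5692 (allL N5692 (tt N4641 F43455) (tt N4735 F43456) (tt N5692 F43457) (tt N5692 F43458) (tt N4743 F43459) (tt N6955 D11807) (tt N4734 F43460) (tt N4632 F43461) (tt N4631 (iv D9249)) (tt N5692 F43462))
theorem Q5694 : ∀ i, i < 5694 → P i := stepQ 5693 Q5693 (allL N5693 (tt N4642 F43463) (tt N5032 F43464) (tt N5693 F43465) (tt N5693 F43466) (tt N6956 D11808) (tt N4632 (iv D9250)) (tt N6957 D11809) (tt N6955 (iv F54687)) (tt N4634 F43467) (tt N5693 F43468))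
theorem Q5695 : ∀ i, i < 5695 → P i := stepQ 5694 Q5694 (allL N5694 (tt N4643 F43469) (tt N5033 F43470) (tt N5694 F43471) (tt N5694 F43472) (tt N6958 D11810) (tt N4633 (iv D9251)) (tt N6959 D11811) (tt N4634 F43473) (tt N6955 (iv F54688)) (tt N4695 F43474))
theorem Q5696 : ∀ i, i < 5696 → P i := stepQ 5695 Q5695 (allL N5695 (tt N4644 F43475) (tt N5034 F43476) (tt N5695 F43477) (tt N6960 D11812) (tt N4634 (iv D9252)) (tt N6764 (iv F53646)) (tt N6961 D11813) (tt N6958 (iv F54705)) (tt N6956 (iv F54693)) (tt N4696 F43478))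
theorem Q5697 : ∀ i, i < 5697 → P i := stepQ 5696 Q5696 (allL N5696 (tt N4645 F43479) (tt N4691 (iv F131846)) (tt N5696 F43481) (tt N5696 F43482) (tt N6961 (iv F54720)) (tt N4636 F43483) (tt N4634 (iv D9253)) (tt N4692 (iv F131947)) (tt N6957 (iv F54700)) (tt N4697 F43484))
theorem Q5698 : ∀ i, i < 5698 → P i := stepQ 5697 Q5697 (allL N5697 (tt N4646 F43485) (tt N5028 F132297) (tt N5115 (iv F131879)) (tt N4635 (iv D9254)) (tt N5697 F43487) (tt N6766 (iv F53655)) (tt N5027 F132298) (tt N5697 F43488) (tt N5697 F43489) (tt N4698 F43490))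
theorem Q5699 : ∀ i, i < 5699 → P i := stepQ 5698 Q5698 (allL N5698 (tt N4832 F43504) (tt N4649 F43505) (tt N5117 F43506) (tt N4639 F43507) (tt N5698 F43508) (tt N6962 D11819) (tt N5698 F43509) (tt N4826 F43510) (tt N4637 (iv D9257)) (tt N5698 F43511))
theorem Q5700 : ∀ i, i < 5700 → P i := stepQ 5699 Q5699 (allL N5699 (tt N4743 F43512) (tt N4650 F43513) (tt N5699 F43514) (tt N4826 F43515) (tt N4641 F43516) (tt N6963 D11820) (tt N4741 F43517) (tt N4639 F43518) (tt N4638 (iv D9258)) (tt N5699 F43519))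
theorem Q5701 : ∀ i, i < 5701 → P i := stepQ 5700 Q5700 (allL N5700 (tt N6954 (iv F54677)) (tt N4651 F43520) (tt N5700 F43521) (tt N6962 (iv F54754)) (tt N6964 D11821) (tt N4639 (iv D9259)) (tt N6965 D11822) (tt N6963 (iv F54761)) (tt N6770 (iv F53678)) (tt N5700 F43522))
theorem Q5702 : ∀ i, i < 5702 → P i := stepQ 5701 Q5701 (allL N5701 (tt N4734 F43523) (tt N4652 F43524) (tt N5701 F43525) (tt N5701 F43526) (tt N4741 F43527) (tt N6966 D11823) (tt N4641 F43528) (tt N5701 F43529) (tt N4640 (iv D9260)) (tt N5701 F43530))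
theorem Q5703 : ∀ i, i < 5703 → P i := stepQ 5702 Q5702 (allL N5702 (tt N6955 (iv F54683)) (tt N4653 F43531) (tt N5702 F43532) (tt N5702 F43533) (tt N6967 D11824) (tt N4641 (iv D9261)) (tt N6968 D11825) (tt N4642 F43534) (tt N4643 F43535) (tt N5702 F43536))
theorem Q5704 : ∀ i, i < 5704 → P i := stepQ 5703 Q5703 (allL N5703 (tt N6956 (iv F54690)) (tt N4654 F43537) (tt N5703 F43538) (tt N6969 D11826) (tt N4642 (iv D9262)) (tt N6964 (iv F54765)) (tt N6970 D11827) (tt N6967 (iv F54780)) (tt N4644 F43539) (tt N5703 F43540))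
theorem Q5705 : ∀ i, i < 5705 → P i := stepQ 5704 Q5704 (allL N5704 (tt N6957 (iv F54695)) (tt N4655 F43541) (tt N5704 F43542) (tt N5704 F43543) (tt N6970 (iv F54794)) (tt N5704 F43544) (tt N4642 (iv D9263)) (tt N6971 D11828) (tt N4645 F43545) (tt N5704 F43546))
theorem Q5706 : ∀ i, i < 5706 → P i := stepQ 5705 Q5705 (allL N5705 (tt N6958 (iv F54702)) (tt N4656 F43547) (tt N5705 F43548) (tt N6972 D11829) (tt N4643 (iv D9264)) (tt N6776 (iv F53707)) (tt N6973 D11830) (tt N4644 F43549) (tt N6967 (iv F54781)) (tt N4699 F43550))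
theorem Q5707 : ∀ i, i < 5707 → P i := stepQ 5706 Q5706 (allL N5706 (tt N6959 (iv F54707)) (tt N4657 F43551) (tt N5706 F43552) (tt N5706 F43553) (tt N6973 (iv F54809)) (tt N5706 F43554) (tt N4643 (iv D9265)) (tt N6974 D11831) (tt N6968 (iv F54786)) (tt N4700 F43555))
theorem Q5708 : ∀ i, i < 5708 → P i := stepQ 5707 Q5707 (allL N5707 (tt N6960 (iv F54713)) (tt N4658 F43556) (tt N6975 D11832) (tt N4644 (iv D9266)) (tt N5707 F43557) (tt N6778 (iv F53716)) (tt N6976 D11833) (tt N6972 (iv F54805)) (tt N6969 (iv F54790)) (tt N4701 F43558))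
theorem Q5709 : ∀ i, i < 5709 → P i := stepQ 5708 Q5708 (allL N5708 (tt N6961 (iv F54717)) (tt N4659 F43559) (tt N5708 F43560) (tt N6976 (iv F54821)) (tt N4645 F43561) (tt N6977 D11834) (tt N4644 (iv D9267)) (tt N6978 D11835) (tt N6970 (iv F54795)) (tt N4702 F43562))
theorem Q5710 : ∀ i, i < 5710 → P i := stepQ 5709 Q5709 (allL N5709 (tt N4692 (iv F131946)) (tt N4660 F43563) (tt N5709 F43564) (tt N5709 F43565) (tt N6978 (iv F54830)) (tt N4648 F43566) (tt N6974 (iv F54815)) (tt N4645 (iv D9268)) (tt N6971 (iv F54801)) (tt N4703 F43567))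
theorem Q5711 : ∀ i, i < 5711 → P i := stepQ 5710 Q5710 (allL N5710 (tt N5115 (iv F131878)) (tt N5710 F43568) (tt N4646 (iv D9269)) (tt N5710 F43569) (tt N5710 F43570) (tt N6781 (iv F53728)) (tt N4733 (iv F131961)) (tt N5710 F43571) (tt N5710 F43572) (tt N4704 F43573))
theorem Q5712 : ∀ i, i < 5712 → P i := stepQ 5711 Q5711 (allL N5711 (tt N5027 (iv F131828)) (tt N4661 F43574) (tt N4733 (iv F131960)) (tt N4647 F43575) (tt N5711 F43576) (tt N6979 D11837) (tt N4646 (iv D9270)) (tt N4732 F131599) (tt N5711 F43577) (tt N4705 F43578))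
theorem Q5713 : ∀ i, i < 5713 → P i := stepQ 5712 Q5712 (allL N5712 (tt N6858 F132476) (tt N4662 F43579) (tt N5712 F43580) (tt N6979 (iv F54839)) (tt N6977 (iv F54826)) (tt N4647 (iv D9271)) (tt N6783 (iv F53736)) (tt N6863 F132477) (tt N6980 D11840) (tt N4706 F43581))
theorem Q5714 : ∀ i, i < 5714 → P i := stepQ 5713 Q5713 (allL N5713 (tt N5043 F43588) (tt N6962 (iv F54752)) (tt N5713 F43589) (tt N4651 F43590) (tt N6981 D11841) (tt N4649 (iv D9273)) (tt N6982 D11842) (tt N6683 (iv F53221)) (tt N6785 (iv F53746)) (tt N5713 F43591))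
theorem Q5715 : ∀ i, i < 5715 → P i := stepQ 5714 Q5714 (allL N5714 (tt N5044 F43592) (tt N6963 (iv F54758)) (tt N4665 F43593) (tt N6683 (iv F53220)) (tt N6983 D11843) (tt N4650 (iv D9274)) (tt N6984 D11844) (tt N4651 F43594) (tt N6786 (iv F53750)) (tt N5714 F43595))
theorem Q5716 : ∀ i, i < 5716 → P i := stepQ 5715 Q5715 (allL N5715 (tt N5045 F43596) (tt N6964 (iv F54763)) (tt N4666 F43597) (tt N6985 D11845) (tt N4651 (iv D9275)) (tt N4654 F43598) (tt N6986 D11846) (tt N6983 (iv F54866)) (tt N6788 (iv F53760)) (tt N5715 F43599))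
theorem Q5717 : ∀ i, i < 5717 → P i := stepQ 5716 Q5716 (allL N5716 (tt N5046 F43600) (tt N6965 (iv F54767)) (tt N4667 F43601) (tt N6982 (iv F54860)) (tt N6986 (iv F54876)) (tt N5716 F43602) (tt N4651 (iv D9276)) (tt N6987 D11847) (tt N6789 (iv F53763)) (tt N5716 F43603))
theorem Q5718 : ∀ i, i < 5718 → P i := stepQ 5717 Q5717 (allL N5717 (tt N5047 F43604) (tt N6966 (iv F54772)) (tt N4668 F43605) (tt N5717 F43606) (tt N6988 D11848) (tt N4652 (iv D9277)) (tt N6989 D11849) (tt N5717 F43607) (tt N5717 F43608) (tt N5717 F43609))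
theorem Q5719 : ∀ i, i < 5719 → P i := stepQ 5718 Q5718 (allL N5718 (tt N5048 F43610) (tt N6967 (iv F54778)) (tt N4669 F43611) (tt N6990 D11850) (tt N4653 (iv D9278)) (tt N6983 (iv F54865)) (tt N6991 D11851) (tt N4654 F43612) (tt N4656 F43613) (tt N5718 F43614))
theorem Q5720 : ∀ i, i < 5720 → P i := stepQ 5719 Q5719 (allL N5719 (tt N5049 F43615) (tt N6968 (iv F54783)) (tt N4670 F43616) (tt N5719 F43617) (tt N6991 (iv F54900)) (tt N6989 (iv F54890)) (tt N4653 (iv D9279)) (tt N6992 D11852) (tt N4657 F43618) (tt N5719 F43619))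
theorem Q5721 : ∀ i, i < 5721 → P i := stepQ 5720 Q5720 (allL N5720 (tt N5050 F43620) (tt N6969 (iv F54788)) (tt N6993 D11853) (tt N4654 (iv D9280)) (tt N5720 F43621) (tt N6985 (iv F54872)) (tt N6994 D11854) (tt N6990 (iv F54895)) (tt N4658 F43622) (tt N5720 F43623))
theorem Q5722 : ∀ i, i < 5722 → P i := stepQ 5721 Q5721 (allL N5721 (tt N5051 F43624) (tt N6970 (iv F54792)) (tt N4672 F43625) (tt N6994 (iv F54915)) (tt N4655 F43626) (tt N6995 D11855) (tt N4654 (iv D9281)) (tt N6996 D11856) (tt N4659 F43627) (tt N5721 F43628))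
theorem Q5723 : ∀ i, i < 5723 → P i := stepQ 5722 Q5722 (allL N5722 (tt N5052 F43629) (tt N6971 (iv F54797)) (tt N4673 F43630) (tt N5722 F43631) (tt N6996 (iv F54925)) (tt N5722 F43632) (tt N6992 (iv F54906)) (tt N4655 (iv D9282)) (tt N4660 F43633) (tt N5722 F43634))
theorem Q5724 : ∀ i, i < 5724 → P i := stepQ 5723 Q5723 (allL N5723 (tt N5053 F43635) (tt N6972 (iv F54803)) (tt N6997 D11857) (tt N4656 (iv D9283)) (tt N5723 F43636) (tt N6798 (iv F53800)) (tt N6998 D11858) (tt N4658 F43637) (tt N6990 (iv F54896)) (tt N4707 F43638))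
theorem Q5725 : ∀ i, i < 5725 → P i := stepQ 5724 Q5724 (allL N5724 (tt N5054 F43639) (tt N6973 (iv F54807)) (tt N4675 F43640) (tt N6998 (iv F54934)) (tt N4657 F43641) (tt N6999 D11859) (tt N4656 (iv D9284)) (tt N7000 D11860) (tt N6991 (iv F54901)) (tt N4708 F43642))
theorem Q5726 : ∀ i, i < 5726 → P i := stepQ 5725 Q5725 (allL N5725 (tt N5055 F43643) (tt N6974 (iv F54811)) (tt N4676 F43644) (tt N5725 F43645) (tt N7000 (iv F54943)) (tt N5725 F43646) (tt N4660 F43647) (tt N4657 (iv D9285)) (tt N6992 (iv F54907)) (tt N4709 F43648))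
theorem Q5727 : ∀ i, i < 5727 → P i := stepQ 5726 Q5726 (allL N5726 (tt N5056 F43649) (tt N7001 D11861) (tt N4658 (iv D9286)) (tt N4677 F43650) (tt N5726 F43651) (tt N6801 (iv F53815)) (tt N7002 D11862) (tt N6997 (iv F54931)) (tt N6993 (iv F54912)) (tt N4710 F43652))
theorem Q5728 : ∀ i, i < 5728 → P i := stepQ 5727 Q5727 (allL N5727 (tt N5057 F43653) (tt N6976 (iv F54820)) (tt N7002 (iv F54950)) (tt N4659 F43654) (tt N5727 F43655) (tt N7003 D11863) (tt N4658 (iv D9287)) (tt N7004 D11864) (tt N6994 (iv F54917)) (tt N4711 F43656))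
theorem Q5729 : ∀ i, i < 5729 → P i := stepQ 5728 Q5728 (allL N5728 (tt N5058 F43657) (tt N6977 (iv F54824)) (tt N4679 F43658) (tt N7003 (iv F54955)) (tt N4662 F43659) (tt N4659 (iv D9288)) (tt N6803 (iv F53823)) (tt N7005 D11865) (tt N7006 D11866) (tt N4712 F43660))
theorem Q5730 : ∀ i, i < 5730 → P i := stepQ 5729 Q5729 (allL N5729 (tt N5059 F43661) (tt N6978 (iv F54828)) (tt N4680 F43662) (tt N7004 (iv F54958)) (tt N4660 F43663) (tt N7005 (iv F54964)) (tt N7000 (iv F54944)) (tt N4659 (iv D9289)) (tt N6996 (iv F54926)) (tt N4713 F43664))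
theorem Q5731 : ∀ i, i < 5731 → P i := stepQ 5730 Q5730 (allL N5730 (tt N5060 F43665) (tt N6979 (iv F54838)) (tt N5730 F43666) (tt N4662 F43667) (tt N7007 D11867) (tt N4661 (iv D9290)) (tt N6805 (iv F53832)) (tt N7008 D11868) (tt N7009 D11869) (tt N4714 F43668))
theorem Q5732 : ∀ i, i < 5732 → P i := stepQ 5731 Q5731 (allL N5731 (tt N4801 (iv F131761)) (tt N4732 F131605) (tt N5731 F43670) (tt N4663 F43671) (tt N5731 F43672) (tt N7008 (iv F54976)) (tt N5731 F43673) (tt N4661 (iv D9291)) (tt N5731 F43674) (tt N4715 F43675))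
theorem Q5733 : ∀ i, i < 5733 → P i := stepQ 5732 Q5732 (allL N5732 (tt N4955 F132229) (tt N6863 F132230) (tt N4681 F43677) (tt N7008 (iv F54975)) (tt N7005 (iv F54963)) (tt N4663 F43678) (tt N7010 D11870) (tt N4662 (iv D9292)) (tt N7011 D11871) (tt N4716 F43679))
theorem Q5734 : ∀ i, i < 5734 → P i := stepQ 5733 Q5733 (allL N5733 (tt N5061 F43680) (tt N6980 (iv F54851)) (tt N4682 F43681) (tt N7009 (iv F54980)) (tt N7006 (iv F54968)) (tt N5733 F43682) (tt N6808 (iv F53845)) (tt N7011 (iv F54989)) (tt N4662 (iv D9293)) (tt N7012 D11872))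
theorem Q5735 : ∀ i, i < 5735 → P i := stepQ 5734 Q5734 (allL N5734 (tt N5062 F43683) (tt N5734 F43684) (tt N6586 (iv F52675)) (tt N5734 F43685) (tt N7013 D11873) (tt N4664 (iv D9294)) (tt N7014 D11874) (tt N5734 F43686) (tt N6564 (iv F52541)) (tt N5734 F43687))
theorem Q5736 : ∀ i, i < 5736 → P i := stepQ 5735 Q5735 (allL N5735 (tt N5063 F43688) (tt N5735 F43689) (tt N6983 (iv F54864)) (tt N7015 D11875) (tt N4665 (iv D9295)) (tt N4669 F43690) (tt N7016 D11876) (tt N4666 F43691) (tt N6810 (iv F53856)) (tt N5735 F43692))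
theorem Q5737 : ∀ i, i < 5737 → P i := stepQ 5736 Q5736 (allL N5736 (tt N5064 F43693) (tt N5736 F43694) (tt N6984 (iv F54869)) (tt N5736 F43695) (tt N7016 (iv F55012)) (tt N7014 (iv F55002)) (tt N4665 (iv D9296)) (tt N7017 D11877) (tt N6811 (iv F53861)) (tt N5736 F43696))
theorem Q5738 : ∀ i, i < 5738 → P i := stepQ 5737 Q5737 (allL N5737 (tt N5065 F43697) (tt N5737 F43698) (tt N7018 D11878) (tt N4666 (iv D9297)) (tt N5737 F43699) (tt N4671 F43700) (tt N7019 D11879) (tt N7015 (iv F55008)) (tt N6814 (iv F53878)) (tt N5737 F43701))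
theorem Q5739 : ∀ i, i < 5739 → P i := stepQ 5738 Q5738 (allL N5738 (tt N5066 F43702) (tt N5738 F43703) (tt N6986 (iv F54875)) (tt N7019 (iv F55025)) (tt N4667 F43704) (tt N7020 D11880) (tt N4666 (iv D9298)) (tt N7021 D11881) (tt N6815 (iv F53882)) (tt N5738 F43705))
theorem Q5740 : ∀ i, i < 5740 → P i := stepQ 5739 Q5739 (allL N5739 (tt N5067 F43706) (tt N5739 F43707) (tt N6987 (iv F54879)) (tt N5739 F43708) (tt N7021 (iv F55035)) (tt N5739 F43709) (tt N7017 (iv F55017)) (tt N4667 (iv D9299)) (tt N6816 (iv F53886)) (tt N5739 F43710))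
theorem Q5741 : ∀ i, i < 5741 → P i := stepQ 5740 Q5740 (allL N5740 (tt N5068 F43711) (tt N5740 F43712) (tt N6988 (iv F54883)) (tt N4769 (iv F135148)) (tt N4668 (iv D9300)) (tt N7013 (iv F54996)) (tt N4768 F135031) (tt N5740 F43713) (tt N5740 F43714) (tt N5740 F43715))
theorem Q5742 : ∀ i, i < 5742 → P i := stepQ 5741 Q5741 (allL N5741 (tt N5069 F43716) (tt N5741 F43717) (tt N6989 (iv F54888)) (tt N4684 F43718) (tt N4768 (iv F134340)) (tt N4670 F43719) (tt N4668 (iv D9301)) (tt N4740 F133507) (tt N5741 F43720) (tt N5741 F43721))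
theorem Q5743 : ∀ i, i < 5743 → P i := stepQ 5742 Q5742 (allL N5742 (tt N5070 F43722) (tt N5742 F43723) (tt N7022 D11885) (tt N4669 (iv D9302)) (tt N4685 F43724) (tt N7015 (iv F55007)) (tt N5347 F133234) (tt N4671 F43725) (tt N4674 F43726) (tt N5742 F43727))
theorem Q5744 : ∀ i, i < 5744 → P i := stepQ 5743 Q5743 (allL N5743 (tt N5071 F43728) (tt N5743 F43729) (tt N6991 (iv F54899)) (tt N5347 F133233) (tt N4670 F43730) (tt N7023 D11887) (tt N4669 (iv D9303)) (tt N7024 D11888) (tt N4675 F43731) (tt N5743 F43732))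
theorem Q5745 : ∀ i, i < 5745 → P i := stepQ 5744 Q5744 (allL N5744 (tt N5072 F43733) (tt N5744 F43734) (tt N6992 (iv F54904)) (tt N4686 F43735) (tt N7024 (iv F55071)) (tt N4740 (iv F132897)) (tt N4673 F43736) (tt N4670 (iv D9304)) (tt N4676 F43737) (tt N5744 F43738))
theorem Q5746 : ∀ i, i < 5746 → P i := stepQ 5745 Q5745 (allL N5745 (tt N5073 F43739) (tt N7025 D11889) (tt N4671 (iv D9305)) (tt N6993 (iv F54910)) (tt N4687 F43740) (tt N7018 (iv F55021)) (tt N7026 D11890) (tt N7022 (iv F55057)) (tt N4677 F43741) (tt N5745 F43742))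
theorem Q5747 : ∀ i, i < 5747 → P i := stepQ 5746 Q5746 (allL N5746 (tt N5074 F43743) (tt N5746 F43744) (tt N7026 (iv F55080)) (tt N4672 F43745) (tt N4688 F43746) (tt N7027 D11891) (tt N4671 (iv D9306)) (tt N7028 D11892) (tt N4678 F43747) (tt N5746 F43748))
theorem Q5748 : ∀ i, i < 5748 → P i := stepQ 5747 Q5747 (allL N5747 (tt N5075 F43749) (tt N5747 F43750) (tt N6995 (iv F54920)) (tt N7027 (iv F55086)) (tt N5747 F43751) (tt N4672 (iv D9307)) (tt N7020 (iv F55031)) (tt N7029 D11893) (tt N7030 D11894) (tt N5747 F43752))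
theorem Q5749 : ∀ i, i < 5749 → P i := stepQ 5748 Q5748 (allL N5748 (tt N5076 F43753) (tt N5748 F43754) (tt N6996 (iv F54924)) (tt N7028 (iv F55090)) (tt N4673 F43755) (tt N7029 (iv F55097)) (tt N7024 (iv F55072)) (tt N4672 (iv D9308)) (tt N4680 F43756) (tt N5748 F43757))
theorem Q5750 : ∀ i, i < 5750 → P i := stepQ 5749 Q5749 (allL N5749 (tt N5042 F132314) (tt N6961 F132315) (tt N4674 (iv D9309)) (tt N6997 (iv F54929)) (tt N4691 F43759) (tt N6829 (iv F53947)) (tt N5034 F132316) (tt N4677 F43760) (tt N7022 (iv F55058)) (tt N4718 F43761))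
theorem Q5751 : ∀ i, i < 5751 → P i := stepQ 5750 Q5750 (allL N5750 (tt N5077 F43767) (tt N5750 F43768) (tt N6999 (iv F54938)) (tt N5189 F133076) (tt N5750 F43769) (tt N4675 (iv D9311)) (tt N6831 (iv F53958)) (tt N7031 D11899) (tt N7032 D11900) (tt N4719 F43770))
theorem Q5752 : ∀ i, i < 5752 → P i := stepQ 5751 Q5751 (allL N5751 (tt N5078 F43771) (tt N5751 F43772) (tt N7000 (iv F54942)) (tt N5348 (iv F132676)) (tt N4676 F43773) (tt N7031 (iv F55124)) (tt N4680 F43774) (tt N4675 (iv D9312)) (tt N7024 (iv F55073)) (tt N4720 F43775))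
theorem Q5753 : ∀ i, i < 5753 → P i := stepQ 5752 Q5752 (allL N5752 (tt N6978 F132487) (tt N4677 (iv D9313)) (tt N5752 F43776) (tt N7001 (iv F54946)) (tt N4692 F43777) (tt N6833 (iv F53967)) (tt N7033 D11902) (tt N6961 F132488) (tt N7025 (iv F55077)) (tt N4721 F43778))
theorem Q5754 : ∀ i, i < 5754 → P i := stepQ 5753 Q5753 (allL N5753 (tt N5079 F43779) (tt N7033 (iv F55133)) (tt N4678 F43780) (tt N7002 (iv F54951)) (tt N4693 F43781) (tt N7034 D11903) (tt N4677 (iv D9314)) (tt N7035 D11904) (tt N7026 (iv F55082)) (tt N4722 F43782))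
theorem Q5755 : ∀ i, i < 5755 → P i := stepQ 5754 Q5754 (allL N5754 (tt N5080 F43783) (tt N5754 F43784) (tt N7034 (iv F55138)) (tt N4679 F43785) (tt N5754 F43786) (tt N4678 (iv D9315)) (tt N6835 (iv F53977)) (tt N7036 D11905) (tt N7037 D11906) (tt N4723 F43787))
theorem Q5756 : ∀ i, i < 5756 → P i := stepQ 5755 Q5755 (allL N5755 (tt N5081 F43788) (tt N5755 F43789) (tt N7035 (iv F55142)) (tt N4680 F43790) (tt N4694 F43791) (tt N7036 (iv F55149)) (tt N5348 (iv F132677)) (tt N4678 (iv D9316)) (tt N7028 (iv F55092)) (tt N4724 F43792))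
theorem Q5757 : ∀ i, i < 5757 → P i := stepQ 5756 Q5756 (allL N5756 (tt N5082 F43793) (tt N5756 F43794) (tt N7005 (iv F54962)) (tt N7036 (iv F55147)) (tt N4681 F43795) (tt N4680 F43796) (tt N7038 D11907) (tt N4679 (iv D9317)) (tt N7039 D11908) (tt N4725 F43797))
theorem Q5758 : ∀ i, i < 5758 → P i := stepQ 5757 Q5757 (allL N5757 (tt N5083 F43798) (tt N5757 F43799) (tt N7006 (iv F54967)) (tt N7037 (iv F55153)) (tt N4682 F43800) (tt N7030 (iv F55102)) (tt N6838 (iv F53992)) (tt N7039 (iv F55162)) (tt N4679 (iv D9318)) (tt N7040 D11909))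
theorem Q5759 : ∀ i, i < 5759 → P i := stepQ 5758 Q5758 (allL N5758 (tt N5084 F43801) (tt N5758 F43802) (tt N7010 (iv F54983)) (tt N5758 F43803) (tt N7038 (iv F55157)) (tt N5758 F43804) (tt N4681 (iv D9319)) (tt N6839 (iv F53997)) (tt N7041 D11910) (tt N4727 F43805))
theorem Q5760 : ∀ i, i < 5760 → P i := stepQ 5759 Q5759 (allL N5759 (tt N5085 F43806) (tt N5759 F43807) (tt N7011 (iv F54987)) (tt N5759 F43808) (tt N7039 (iv F55161)) (tt N5759 F43809) (tt N7041 (iv F55170)) (tt N4682 F43810) (tt N4681 (iv D9320)) (tt N7042 D11911))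
theorem Q5761 : ∀ i, i < 5761 → P i := stepQ 5760 Q5760 (allL N5760 (tt N5086 F43811) (tt N5760 F43812) (tt N7012 (iv F54991)) (tt N5760 F43813) (tt N7040 (iv F55165)) (tt N5760 F43814) (tt N6841 (iv F54006)) (tt N7042 (iv F55175)) (tt N4729 F43815) (tt N4682 (iv D9321)))
theorem Q5762 : ∀ i, i < 5762 → P i := stepQ 5761 Q5761 (allL N5761 (tt N5038 F132310) (tt N6957 F132311) (tt N4685 (iv D9325)) (tt N5761 F43836) (tt N7022 (iv F55056)) (tt N5761 F43837) (tt N5032 F132312) (tt N4687 F43838) (tt N4691 F43839) (tt N5761 F43840))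
theorem Q5763 : ∀ i, i < 5763 → P i := stepQ 5762 Q5762 (allL N5762 (tt N6971 F132489) (tt N4687 (iv D9329)) (tt N5762 F43858) (tt N5762 F43859) (tt N7025 (iv F55076)) (tt N5762 F43860) (tt N7043 D11923) (tt N6957 F132490) (tt N4692 F43861) (tt N5762 F43862))
theorem Q5764 : ∀ i, i < 5764 → P i := stepQ 5763 Q5763 (allL N5763 (tt N5087 F43863) (tt N7043 (iv F55239)) (tt N4688 F43864) (tt N5763 F43865) (tt N7026 (iv F55081)) (tt N7044 D11924) (tt N4687 (iv D9330)) (tt N7045 D11925) (tt N4693 F43866) (tt N5763 F43867))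
theorem Q5765 : ∀ i, i < 5765 → P i := stepQ 5764 Q5764 (allL N5764 (tt N5088 F43868) (tt N5764 F43869) (tt N7044 (iv F55245)) (tt N4689 F43870) (tt N7046 D11926) (tt N4688 (iv D9331)) (tt N5764 F43871) (tt N4739 F134469) (tt N5764 F43872) (tt N5764 F43873))
theorem Q5766 : ∀ i, i < 5766 → P i := stepQ 5765 Q5765 (allL N5765 (tt N5089 F43874) (tt N5765 F43875) (tt N7045 (iv F55251)) (tt N4690 F43876) (tt N7028 (iv F55091)) (tt N4739 (iv F134019)) (tt N4737 F133226) (tt N4688 (iv D9332)) (tt N4694 F43877) (tt N5765 F43878))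
theorem Q5767 : ∀ i, i < 5767 → P i := stepQ 5766 Q5766 (allL N5766 (tt N6974 F132491) (tt N4693 F43922) (tt N5766 F43923) (tt N5766 F43924) (tt N7033 (iv F55135)) (tt N5766 F43925) (tt N4692 (iv D9341)) (tt N6959 F132492) (tt N7043 (iv F55242)) (tt N4730 F43926))
theorem Q5768 : ∀ i, i < 5768 → P i := stepQ 5767 Q5767 (allL N5767 (tt N5040 F132307) (tt N6959 F132308) (tt N4694 F43928) (tt N5767 F43929) (tt N7035 (iv F55143)) (tt N5767 F43930) (tt N5033 F132309) (tt N4693 (iv D9342)) (tt N7045 (iv F55253)) (tt N4731 F43931))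
theorem Q5769 : ∀ i, i < 5769 → P i := stepQ 5768 Q5768 (allL N5768 (tt N4699 F43966) (tt N5090 F43967) (tt N5768 F43968) (tt N7047 D11946) (tt N4695 (iv D9349)) (tt N6869 (iv F54186)) (tt N7048 D11947) (tt N4696 F43969) (tt N5768 F43970) (tt N6958 (iv F54706)))
theorem Q5770 : ∀ i, i < 5770 → P i := stepQ 5769 Q5769 (allL N5769 (tt N4700 F43971) (tt N4731 (iv F131852)) (tt N5769 F43973) (tt N5769 F43974) (tt N7048 (iv F55372)) (tt N5769 F43975) (tt N4695 (iv D9350)) (tt N4730 (iv F131956)) (tt N5769 F43976) (tt N6959 (iv F54712)))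
theorem Q5771 : ∀ i, i < 5771 → P i := stepQ 5770 Q5770 (allL N5770 (tt N4701 F43977) (tt N5091 F43978) (tt N7049 D11949) (tt N4696 (iv D9351)) (tt N5770 F43979) (tt N6871 (iv F54197)) (tt N7050 D11950) (tt N7047 (iv F55367)) (tt N5770 F43980) (tt N6960 (iv F54716)))
theorem Q5772 : ∀ i, i < 5772 → P i := stepQ 5771 Q5771 (allL N5771 (tt N4702 F43981) (tt N4718 (iv F131855)) (tt N5771 F43983) (tt N7050 (iv F55387)) (tt N4697 F43984) (tt N6926 (iv F131926)) (tt N4696 (iv D9352)) (tt N4721 (iv F131954)) (tt N5771 F43985) (tt N6961 (iv F54721)))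
theorem Q5773 : ∀ i, i < 5773 → P i := stepQ 5772 Q5772 (allL N5772 (tt N7047 (iv F55364)) (tt N4707 F44011) (tt N7051 D11959) (tt N4699 (iv D9358)) (tt N5772 F44012) (tt N6882 (iv F54252)) (tt N7052 D11960) (tt N4701 F44013) (tt N5772 F44014) (tt N6972 (iv F54806)))
theorem Q5774 : ∀ i, i < 5774 → P i := stepQ 5773 Q5773 (allL N5773 (tt N7048 (iv F55369)) (tt N4708 F44015) (tt N5773 F44016) (tt N7052 (iv F55432)) (tt N4700 F44017) (tt N7053 D11961) (tt N4699 (iv D9359)) (tt N7054 D11962) (tt N5773 F44018) (tt N6973 (iv F54810)))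
theorem Q5775 : ∀ i, i < 5775 → P i := stepQ 5774 Q5774 (allL N5774 (tt N4730 (iv F131955)) (tt N4709 F44019) (tt N5774 F44020) (tt N5774 F44021) (tt N7054 (iv F55440)) (tt N5774 F44022) (tt N4703 F44023) (tt N4700 (iv D9360)) (tt N5774 F44024) (tt N6974 (iv F54816)))
theorem Q5776 : ∀ i, i < 5776 → P i := stepQ 5775 Q5775 (allL N5775 (tt N7049 (iv F55381)) (tt N7055 D11963) (tt N4701 (iv D9361)) (tt N5775 F44025) (tt N5775 F44026) (tt N6885 (iv F54266)) (tt N7056 D11964) (tt N7051 (iv F55429)) (tt N5775 F44027) (tt N6975 (iv F54819)))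
theorem Q5777 : ∀ i, i < 5777 → P i := stepQ 5776 Q5776 (allL N5776 (tt N7050 (iv F55385)) (tt N4711 F44028) (tt N7056 (iv F55447)) (tt N4702 F44029) (tt N5776 F44030) (tt N7057 D11965) (tt N4701 (iv D9362)) (tt N7058 D11966) (tt N5776 F44031) (tt N6976 (iv F54823)))
theorem Q5778 : ∀ i, i < 5778 → P i := stepQ 5777 Q5777 (allL N5777 (tt N6926 F132474) (tt N4712 F44032) (tt N5777 F44033) (tt N7057 (iv F55452)) (tt N4706 F44034) (tt N4702 (iv D9363)) (tt N6887 (iv F54272)) (tt N6931 F132475) (tt N7059 D11968) (tt N6977 (iv F54827)))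
theorem Q5779 : ∀ i, i < 5779 → P i := stepQ 5778 Q5778 (allL N5778 (tt N4721 (iv F131953)) (tt N4713 F44035) (tt N5778 F44036) (tt N7058 (iv F55454)) (tt N4703 F44037) (tt N6931 (iv F131932)) (tt N7054 (iv F55441)) (tt N4702 (iv D9364)) (tt N5778 F44038) (tt N6978 (iv F54831)))
theorem Q5780 : ∀ i, i < 5780 → P i := stepQ 5779 Q5779 (allL N5779 (tt N5018 (iv F131805)) (tt N4714 F44044) (tt N4728 (iv F131964)) (tt N4706 F44045) (tt N7060 D11971) (tt N4705 (iv D9366)) (tt N6890 (iv F54282)) (tt N4717 F131600) (tt N4716 F131601) (tt N6979 (iv F54840)))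
theorem Q5781 : ∀ i, i < 5781 → P i := stepQ 5780 Q5780 (allL N5780 (tt N4822 (iv F131757)) (tt N4717 F44054) (tt N5780 F44055) (tt N4716 F131602) (tt N7059 (iv F55463)) (tt N4715 F131603) (tt N6893 (iv F54293)) (tt N4714 F131604) (tt N4706 (iv D9369)) (tt N7008 (iv F131951)))
theorem Q5782 : ∀ i, i < 5782 → P i := stepQ 5781 Q5781 (allL N5781 (tt N5095 F132347) (tt N7050 F132348) (tt N4707 (iv D9370)) (tt N4718 F44058) (tt N5781 F44059) (tt N6901 (iv F54331)) (tt N5091 F132349) (tt N4710 F44060) (tt N5781 F44061) (tt N6997 (iv F54932)))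
theorem Q5783 : ∀ i, i < 5783 → P i := stepQ 5782 Q5782 (allL N5782 (tt N5094 F132345) (tt N7052 (iv F55431)) (tt N5091 F132346) (tt N4708 F44063) (tt N5782 F44064) (tt N7061 D11979) (tt N4707 (iv D9371)) (tt N7062 D11980) (tt N5782 F44065) (tt N6998 (iv F54936)))
theorem Q5784 : ∀ i, i < 5784 → P i := stepQ 5783 Q5783 (allL N5783 (tt N5096 F44066) (tt N7053 (iv F55435)) (tt N4719 F44067) (tt N7061 (iv F55502)) (tt N5783 F44068) (tt N4708 (iv D9372)) (tt N6903 (iv F54341)) (tt N7063 D11981) (tt N7064 D11982) (tt N6999 (iv F54940)))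
theorem Q5785 : ∀ i, i < 5785 → P i := stepQ 5784 Q5784 (allL N5784 (tt N5097 F44069) (tt N7054 (iv F55438)) (tt N4720 F44070) (tt N7062 (iv F55504)) (tt N4709 F44071) (tt N7063 (iv F55511)) (tt N4713 F44072) (tt N4708 (iv D9373)) (tt N5784 F44073) (tt N7000 (iv F54945)))
theorem Q5786 : ∀ i, i < 5786 → P i := stepQ 5785 Q5785 (allL N5785 (tt N7058 F132520) (tt N4710 (iv D9374)) (tt N7055 (iv F55443)) (tt N4721 F44074) (tt N5785 F44075) (tt N6905 (iv F54348)) (tt N7065 D11984) (tt N7050 F132521) (tt N5785 F44076) (tt N7001 (iv F54948)))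
theorem Q5787 : ∀ i, i < 5787 → P i := stepQ 5786 Q5786 (allL N5786 (tt N5099 F44077) (tt N7065 (iv F55520)) (tt N4711 F44078) (tt N4722 F44079) (tt N5786 F44080) (tt N7066 D11985) (tt N4710 (iv D9375)) (tt N7067 D11986) (tt N5786 F44081) (tt N7002 (iv F54953)))
theorem Q5788 : ∀ i, i < 5788 → P i := stepQ 5787 Q5787 (allL N5787 (tt N5100 F44082) (tt N7057 (iv F55451)) (tt N7066 (iv F55525)) (tt N4712 F44083) (tt N7068 D11987) (tt N4711 (iv D9376)) (tt N6907 (iv F54354)) (tt N7069 D11988) (tt N7070 D11989) (tt N7003 (iv F54956)))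
theorem Q5789 : ∀ i, i < 5789 → P i := stepQ 5788 Q5788 (allL N5788 (tt N5098 F132356) (tt N7058 (iv F55453)) (tt N7067 (iv F55528)) (tt N4713 F44085) (tt N5788 F44086) (tt N7069 (iv F55537)) (tt N7062 (iv F55506)) (tt N4711 (iv D9377)) (tt N5788 F44087) (tt N7004 (iv F54960)))
theorem Q5790 : ∀ i, i < 5790 → P i := stepQ 5789 Q5789 (allL N5789 (tt N5005 F132291) (tt N6931 F132292) (tt N4725 F44089) (tt N7069 (iv F55536)) (tt N4716 F44090) (tt N4713 F44091) (tt N7071 D11990) (tt N4712 (iv D9378)) (tt N7060 (iv F131966)) (tt N7005 (iv F54965)))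
theorem Q5791 : ∀ i, i < 5791 → P i := stepQ 5790 Q5790 (allL N5790 (tt N5101 F44092) (tt N7059 (iv F55461)) (tt N4726 F44093) (tt N7070 (iv F55539)) (tt N4717 F44094) (tt N5790 F44095) (tt N6910 (iv F54364)) (tt N7060 (iv F131965)) (tt N4712 (iv D9379)) (tt N7072 D11992))
theorem Q5792 : ∀ i, i < 5792 → P i := stepQ 5791 Q5791 (allL N5791 (tt N5102 F44096) (tt N7060 (iv F55474)) (tt N5791 F44097) (tt N7068 (iv F55533)) (tt N4714 (iv D9380)) (tt N5791 F44098) (tt N6911 (iv F54367)) (tt N7059 (iv F131967)) (tt N6931 F132360) (tt N7007 (iv F54972)))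
theorem Q5793 : ∀ i, i < 5793 → P i := stepQ 5792 Q5792 (allL N5792 (tt N5025 F132293) (tt N6913 (iv F131922)) (tt N4727 F44108) (tt N6893 (iv F131968)) (tt N7071 (iv F55543)) (tt N5792 F44109) (tt N4716 (iv D9383)) (tt N6914 (iv F54380)) (tt N6890 (iv F131963)) (tt N7010 (iv F54985)))
theorem Q5794 : ∀ i, i < 5794 → P i := stepQ 5793 Q5793 (allL N5793 (tt N5103 F44114) (tt N7008 (iv F131950)) (tt N4729 F44115) (tt N6863 F132369) (tt N7072 (iv F55551)) (tt N4732 F44116) (tt N6916 (iv F54388)) (tt N6979 (iv F131949)) (tt N7012 (iv F54993)) (tt N4717 (iv D9385)))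
theorem Q5795 : ∀ i, i < 5795 → P i := stepQ 5794 Q5794 (allL N5794 (tt N5104 F44134) (tt N5794 F44135) (tt N7063 (iv F55509)) (tt N5278 (iv F132600)) (tt N5794 F44136) (tt N4720 F44137) (tt N7073 D12007) (tt N4719 (iv D9390)) (tt N7074 D12008) (tt N7031 (iv F55125)))
theorem Q5796 : ∀ i, i < 5796 → P i := stepQ 5795 Q5795 (allL N5795 (tt N5105 F44138) (tt N5795 F44139) (tt N7064 (iv F55513)) (tt N5276 F133146) (tt N5795 F44140) (tt N5795 F44141) (tt N6930 (iv F54464)) (tt N7074 (iv F55616)) (tt N4719 (iv D9391)) (tt N7075 D12009))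
theorem Q5797 : ∀ i, i < 5797 → P i := stepQ 5796 Q5796 (allL N5796 (tt N7054 F132518) (tt N4722 F44146) (tt N5796 F44147) (tt N7065 (iv F55521)) (tt N4730 F44148) (tt N7076 D12011) (tt N4721 (iv D9393)) (tt N7048 F132519) (tt N5796 F44149) (tt N7033 (iv F55136)))
theorem Q5798 : ∀ i, i < 5798 → P i := stepQ 5797 Q5797 (allL N5797 (tt N5106 F44150) (tt N7076 (iv F55626)) (tt N4723 F44151) (tt N7066 (iv F55526)) (tt N5797 F44152) (tt N4722 (iv D9394)) (tt N6933 (iv F54475)) (tt N7077 D12013) (tt N7078 D12014) (tt N7034 (iv F55140)))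
theorem Q5799 : ∀ i, i < 5799 → P i := stepQ 5798 Q5798 (allL N5798 (tt N5093 F132335) (tt N7048 F132336) (tt N4724 F44154) (tt N7067 (iv F55529)) (tt N4731 F44155) (tt N7077 (iv F55636)) (tt N5090 F132337) (tt N4722 (iv D9395)) (tt N5798 F44156) (tt N7035 (iv F55144)))
theorem Q5800 : ∀ i, i < 5800 → P i := stepQ 5799 Q5799 (allL N5799 (tt N5107 F44157) (tt N5799 F44158) (tt N7077 (iv F55634)) (tt N4725 F44159) (tt N5799 F44160) (tt N4724 F44161) (tt N7079 D12015) (tt N4723 (iv D9396)) (tt N7080 D12016) (tt N7036 (iv F55150)))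
theorem Q5801 : ∀ i, i < 5801 → P i := stepQ 5800 Q5800 (allL N5800 (tt N5108 F44162) (tt N5800 F44163) (tt N7078 (iv F55638)) (tt N4726 F44164) (tt N5800 F44165) (tt N5800 F44166) (tt N6936 (iv F54488)) (tt N7080 (iv F55650)) (tt N4723 (iv D9397)) (tt N7081 D12017))
theorem Q5802 : ∀ i, i < 5802 → P i := stepQ 5801 Q5801 (allL N5801 (tt N5109 F44167) (tt N5801 F44168) (tt N7071 (iv F55542)) (tt N7079 (iv F55643)) (tt N4727 F44169) (tt N7073 (iv F55611)) (tt N4725 (iv D9398)) (tt N6937 (iv F54492)) (tt N7082 D12018) (tt N7038 (iv F55158)))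
theorem Q5803 : ∀ i, i < 5803 → P i := stepQ 5802 Q5802 (allL N5802 (tt N5110 F44170) (tt N5802 F44171) (tt N7060 F132532) (tt N7080 (iv F55647)) (tt N4728 F44172) (tt N5802 F44173) (tt N7082 (iv F55659)) (tt N4726 F44174) (tt N4725 (iv D9399)) (tt N7083 D12019))
theorem Q5804 : ∀ i, i < 5804 → P i := stepQ 5803 Q5803 (allL N5803 (tt N5111 F44175) (tt N5803 F44176) (tt N7072 (iv F55550)) (tt N7081 (iv F55653)) (tt N4729 F44177) (tt N5803 F44178) (tt N6939 (iv F54500)) (tt N7083 (iv F55664)) (tt N7040 (iv F55166)) (tt N4726 (iv D9400)))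
theorem Q5805 : ∀ i, i < 5805 → P i := stepQ 5804 Q5804 (allL N5804 (tt N5112 F44179) (tt N5804 F44180) (tt N6890 (iv F131962)) (tt N5804 F44181) (tt N7082 (iv F55658)) (tt N6889 F132453) (tt N4728 F44182) (tt N6940 (iv F54505)) (tt N4727 (iv D9401)) (tt N7084 D12021))
theorem Q5806 : ∀ i, i < 5806 → P i := stepQ 5805 Q5805 (allL N5805 (tt N5113 F44183) (tt N5805 F44184) (tt N6979 F132507) (tt N5805 F44185) (tt N7083 (iv F55662)) (tt N4733 F44186) (tt N7084 (iv F55673)) (tt N4729 F44187) (tt N7042 (iv F55176)) (tt N4728 (iv D9402)))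
theorem Q5807 : ∀ i, i < 5807 → P i := stepQ 5806 Q5806 (allL N5806 (tt N6966 (iv F54771)) (tt N4736 F44415) (tt N5806 F44416) (tt N5806 F44417) (tt N7085 D12072) (tt N4734 (iv D9446)) (tt N7086 D12073) (tt N5806 F44418) (tt N5806 F44419) (tt N5806 F44420))
theorem Q5808 : ∀ i, i < 5808 → P i := stepQ 5807 Q5807 (allL N5807 (tt N5036 F44421) (tt N6955 (iv F54684)) (tt N4737 F44422) (tt N5807 F44423) (tt N7087 D12074) (tt N4735 (iv D9447)) (tt N7045 (iv F132851)) (tt N5032 F44424) (tt N5033 F44425) (tt N5807 F44426))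
theorem Q5809 : ∀ i, i < 5809 → P i := stepQ 5808 Q5808 (allL N5808 (tt N6582 (iv F52638)) (tt N7085 (iv F55928)) (tt N4738 F44427) (tt N7088 D12076) (tt N4736 (iv D9448)) (tt N4750 F44428) (tt N7089 D12077) (tt N5808 F44429) (tt N5808 F44430) (tt N5808 F44431))
theorem Q5810 : ∀ i, i < 5810 → P i := stepQ 5809 Q5809 (allL N5809 (tt N6583 (iv F52645)) (tt N7086 (iv F55934)) (tt N4739 F44432) (tt N5809 F44433) (tt N7089 (iv F55958)) (tt N7045 F133460) (tt N4736 (iv D9449)) (tt N7044 (iv F134285)) (tt N5809 F44434) (tt N5809 F44435))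
theorem Q5811 : ∀ i, i < 5811 → P i := stepQ 5810 Q5810 (allL N5810 (tt N5351 F44436) (tt N5810 F44437) (tt N7087 (iv F55940)) (tt N7024 F133224) (tt N4737 (iv D9450)) (tt N4756 F44438) (tt N7028 F133225) (tt N5347 F44439) (tt N5348 F44440) (tt N5810 F44441))
theorem Q5812 : ∀ i, i < 5812 → P i := stepQ 5811 Q5811 (allL N5811 (tt N6584 (iv F52652)) (tt N5811 F44448) (tt N7089 (iv F55957)) (tt N5811 F44449) (tt N4739 F44450) (tt N7090 D12082) (tt N4738 (iv D9452)) (tt N7046 (iv F134681)) (tt N5811 F44451) (tt N5811 F44452))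
theorem Q5813 : ∀ i, i < 5813 → P i := stepQ 5812 Q5812 (allL N5812 (tt N6585 (iv F52665)) (tt N7091 D12090) (tt N4740 (iv D9459)) (tt N5812 F44492) (tt N4770 F44493) (tt N6992 F133013) (tt N5812 F44494) (tt N6989 (iv F133795)) (tt N5812 F44495) (tt N5812 F44496))
theorem Q5814 : ∀ i, i < 5814 → P i := stepQ 5813 Q5813 (allL N5813 (tt N4744 F44497) (tt N6586 (iv F52674)) (tt N5813 F44498) (tt N4827 F44499) (tt N7092 D12091) (tt N4741 (iv D9460)) (tt N7093 D12092) (tt N5813 F44500) (tt N4773 F44501) (tt N5813 F44502))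
theorem Q5815 : ∀ i, i < 5815 → P i := stepQ 5814 Q5814 (allL N5814 (tt N6769 (iv F53668)) (tt N4747 F44503) (tt N5814 F44504) (tt N4831 F44505) (tt N6760 (iv F53621)) (tt N7094 D12093) (tt N4775 F44506) (tt N6759 (iv F53615)) (tt N4742 (iv D9461)) (tt N6771 (iv F53686)))
theorem Q5816 : ∀ i, i < 5816 → P i := stepQ 5815 Q5815 (allL N5815 (tt N6963 (iv F54757)) (tt N4749 F44507) (tt N5815 F44508) (tt N4833 F44509) (tt N7095 D12094) (tt N4743 (iv D9462)) (tt N7096 D12095) (tt N6954 (iv F54681)) (tt N7094 (iv F56055)) (tt N5815 F44510))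
theorem Q5817 : ∀ i, i < 5817 → P i := stepQ 5816 Q5816 (allL N5816 (tt N7092 (iv F56042)) (tt N4750 F44511) (tt N5816 F44512) (tt N7097 D12096) (tt N4744 (iv D9463)) (tt N7085 (iv F55930)) (tt N7098 D12097) (tt N5816 F44513) (tt N4777 F44514) (tt N5816 F44515))
theorem Q5818 : ∀ i, i < 5818 → P i := stepQ 5817 Q5817 (allL N5817 (tt N7093 (iv F56047)) (tt N4751 F44516) (tt N5817 F44517) (tt N4835 F44518) (tt N7098 (iv F56071)) (tt N7096 (iv F56062)) (tt N4744 (iv D9464)) (tt N7099 D12098) (tt N4778 F44519) (tt N5817 F44520))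
theorem Q5819 : ∀ i, i < 5819 → P i := stepQ 5818 Q5818 (allL N5818 (tt N4890 F44521) (tt N6760 (iv F53618)) (tt N4752 F44522) (tt N6761 (iv F53628)) (tt N4747 F44523) (tt N7100 D12099) (tt N4780 F44524) (tt N4884 F44525) (tt N4745 (iv D9465)) (tt N6616 (iv F52857)))
theorem Q5820 : ∀ i, i < 5820 → P i := stepQ 5819 Q5819 (allL N5819 (tt N4889 F44526) (tt N6759 (iv F53610)) (tt N4753 F44527) (tt N4839 F44528) (tt N4884 F44529) (tt N7101 D12100) (tt N6698 (iv F53313)) (tt N4747 F44530) (tt N4746 (iv D9466)) (tt N6697 (iv F53307)))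
theorem Q5821 : ∀ i, i < 5821 → P i := stepQ 5820 Q5820 (allL N5820 (tt N6589 (iv F52692)) (tt N7094 (iv F56052)) (tt N4754 F44531) (tt N4841 F44532) (tt N7102 D12101) (tt N4747 (iv D9467)) (tt N7103 D12102) (tt N7101 (iv F56087)) (tt N4749 F44533) (tt N6790 (iv F53768)))
theorem Q5822 : ∀ i, i < 5822 → P i := stepQ 5821 Q5821 (allL N5821 (tt N5035 F44534) (tt N6954 (iv F54678)) (tt N4755 F44535) (tt N4842 F44536) (tt N7104 D12103) (tt N4748 (iv D9468)) (tt N7105 D12104) (tt N4749 F44537) (tt N7101 (iv F56088)) (tt N5821 F44538))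
theorem Q5823 : ∀ i, i < 5823 → P i := stepQ 5822 Q5822 (allL N5822 (tt N6590 (iv F52699)) (tt N7095 (iv F56056)) (tt N4756 F44539) (tt N7106 D12105) (tt N4749 (iv D9469)) (tt N7087 (iv F55941)) (tt N7107 D12106) (tt N7104 (iv F56098)) (tt N7102 (iv F56090)) (tt N5822 F44540))
theorem Q5824 : ∀ i, i < 5824 → P i := stepQ 5823 Q5823 (allL N5823 (tt N6591 (iv F52705)) (tt N7096 (iv F56059)) (tt N4757 F44541) (tt N4844 F44542) (tt N7107 (iv F56108)) (tt N4751 F44543) (tt N4749 (iv D9470)) (tt N7108 D12107) (tt N7103 (iv F56094)) (tt N5823 F44544))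
theorem Q5825 : ∀ i, i < 5825 → P i := stepQ 5824 Q5824 (allL N5824 (tt N6592 (iv F52711)) (tt N7097 (iv F56064)) (tt N5824 F44545) (tt N4750 (iv D9471)) (tt N4845 F44546) (tt N7088 (iv F55953)) (tt N7109 D12108) (tt N5824 F44547) (tt N4784 F44548) (tt N5824 F44549))
theorem Q5826 : ∀ i, i < 5826 → P i := stepQ 5825 Q5825 (allL N5825 (tt N6593 (iv F52717)) (tt N7098 (iv F56069)) (tt N4758 F44550) (tt N7109 (iv F56115)) (tt N4751 F44551) (tt N7110 D12109) (tt N4750 (iv D9472)) (tt N7111 D12110) (tt N4785 F44552) (tt N5825 F44553))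
theorem Q5827 : ∀ i, i < 5827 → P i := stepQ 5826 Q5826 (allL N5826 (tt N6594 (iv F52722)) (tt N7099 (iv F56074)) (tt N4759 F44554) (tt N4847 F44555) (tt N7111 (iv F56122)) (tt N7108 (iv F56112)) (tt N5826 F44556) (tt N4751 (iv D9473)) (tt N4786 F44557) (tt N5826 F44558))
theorem Q5828 : ∀ i, i < 5828 → P i := stepQ 5827 Q5827 (allL N5827 (tt N5194 F44559) (tt N5827 F44560) (tt N7100 (iv F56081)) (tt N5827 F44561) (tt N7112 D12111) (tt N4752 (iv D9474)) (tt N7113 D12112) (tt N5187 F44562) (tt N5188 F44563) (tt N6809 (iv F53851)))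
theorem Q5829 : ∀ i, i < 5829 → P i := stepQ 5828 Q5828 (allL N5828 (tt N5193 F44564) (tt N5828 F44565) (tt N7101 (iv F56085)) (tt N4760 F44566) (tt N7114 D12113) (tt N4753 (iv D9475)) (tt N7115 D12114) (tt N4754 F44567) (tt N4755 F44568) (tt N6715 (iv F53398)))
theorem Q5830 : ∀ i, i < 5830 → P i := stepQ 5829 Q5829 (allL N5829 (tt N6595 (iv F52728)) (tt N5829 F44569) (tt N7102 (iv F56089)) (tt N7116 D12115) (tt N4754 (iv D9476)) (tt N7112 (iv F56128)) (tt N7117 D12116) (tt N7114 (iv F56139)) (tt N4756 F44570) (tt N6817 (iv F53890)))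
theorem Q5831 : ∀ i, i < 5831 → P i := stepQ 5830 Q5830 (allL N5830 (tt N6596 (iv F52734)) (tt N5830 F44571) (tt N7103 (iv F56091)) (tt N4762 F44572) (tt N7117 (iv F56149)) (tt N4789 F44573) (tt N4754 (iv D9477)) (tt N7118 D12117) (tt N4757 F44574) (tt N6818 (iv F53896)))
theorem Q5832 : ∀ i, i < 5832 → P i := stepQ 5831 Q5831 (allL N5831 (tt N5349 F44575) (tt N5831 F44576) (tt N7104 (iv F56096)) (tt N7023 (iv F134020)) (tt N4755 (iv D9478)) (tt N5347 F44577) (tt N7119 D12119) (tt N4756 F44578) (tt N7114 (iv F56140)) (tt N5831 F44579))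
theorem Q5833 : ∀ i, i < 5833 → P i := stepQ 5832 Q5832 (allL N5832 (tt N5350 F44580) (tt N5832 F44581) (tt N7105 (iv F56101)) (tt N4764 F44582) (tt N7119 (iv F56163)) (tt N5832 F44583) (tt N4755 (iv D9479)) (tt N7120 D12120) (tt N7115 (iv F56144)) (tt N5832 F44584))
theorem Q5834 : ∀ i, i < 5834 → P i := stepQ 5833 Q5833 (allL N5833 (tt N6597 (iv F52740)) (tt N5833 F44585) (tt N7121 D12121) (tt N4756 (iv D9480)) (tt N4765 F44586) (tt N7024 F133504) (tt N7122 D12122) (tt N7023 (iv F134021)) (tt N7116 (iv F56147)) (tt N5833 F44587))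
theorem Q5835 : ∀ i, i < 5835 → P i := stepQ 5834 Q5834 (allL N5834 (tt N6598 (iv F52746)) (tt N5834 F44588) (tt N7107 (iv F56107)) (tt N7122 (iv F56174)) (tt N4757 F44589) (tt N7123 D12123) (tt N4756 (iv D9481)) (tt N7124 D12124) (tt N7117 (iv F56150)) (tt N5834 F44590))
theorem Q5836 : ∀ i, i < 5836 → P i := stepQ 5835 Q5835 (allL N5835 (tt N6599 (iv F52750)) (tt N5835 F44591) (tt N7108 (iv F56110)) (tt N4767 F44592) (tt N7124 (iv F56181)) (tt N4759 F44593) (tt N7120 (iv F56169)) (tt N4757 (iv D9482)) (tt N7118 (iv F56154)) (tt N5835 F44594))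
theorem Q5837 : ∀ i, i < 5837 → P i := stepQ 5836 Q5836 (allL N5836 (tt N6600 (iv F52756)) (tt N5836 F44595) (tt N7110 (iv F56119)) (tt N5836 F44596) (tt N7123 (iv F56178)) (tt N4758 (iv D9483)) (tt N7090 (iv F55987)) (tt N7125 D12125) (tt N7126 D12126) (tt N5836 F44597))
theorem Q5838 : ∀ i, i < 5838 → P i := stepQ 5837 Q5837 (allL N5837 (tt N6601 (iv F52759)) (tt N5837 F44598) (tt N7111 (iv F56121)) (tt N5837 F44599) (tt N4759 F44600) (tt N7125 (iv F56185)) (tt N5837 F44601) (tt N4758 (iv D9484)) (tt N4794 F44602) (tt N5837 F44603))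
theorem Q5839 : ∀ i, i < 5839 → P i := stepQ 5838 Q5838 (allL N5838 (tt N6602 (iv F52765)) (tt N5838 F44604) (tt N4866 F44605) (tt N7127 D12127) (tt N4760 (iv D9485)) (tt N5838 F44606) (tt N7128 D12128) (tt N4761 F44607) (tt N4763 F44608) (tt N6733 (iv F53486)))
theorem Q5840 : ∀ i, i < 5840 → P i := stepQ 5839 Q5839 (allL N5839 (tt N6603 (iv F52772)) (tt N5839 F44609) (tt N4867 F44610) (tt N7115 (iv F56143)) (tt N7128 (iv F56196)) (tt N6736 (iv F53503)) (tt N4760 (iv D9486)) (tt N7129 D12129) (tt N4764 F44611) (tt N6734 (iv F53492)))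
theorem Q5841 : ∀ i, i < 5841 → P i := stepQ 5840 Q5840 (allL N5840 (tt N6604 (iv F52779)) (tt N5840 F44612) (tt N7130 D12130) (tt N4761 (iv D9487)) (tt N7116 (iv F56146)) (tt N5840 F44613) (tt N7131 D12131) (tt N7127 (iv F56192)) (tt N4765 F44614) (tt N6842 (iv F54012)))
theorem Q5842 : ∀ i, i < 5842 → P i := stepQ 5841 Q5841 (allL N5841 (tt N6605 (iv F52784)) (tt N5841 F44615) (tt N4871 F44616) (tt N7131 (iv F56206)) (tt N4762 F44617) (tt N7132 D12132) (tt N4761 (iv D9488)) (tt N7133 D12133) (tt N4766 F44618) (tt N6843 (iv F54018)))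
theorem Q5843 : ∀ i, i < 5843 → P i := stepQ 5842 Q5842 (allL N5842 (tt N6606 (iv F52790)) (tt N5842 F44619) (tt N4872 F44620) (tt N7118 (iv F56152)) (tt N7133 (iv F56215)) (tt N4797 F44621) (tt N7129 (iv F56200)) (tt N4762 (iv D9489)) (tt N4767 F44622) (tt N6844 (iv F54024)))
theorem Q5844 : ∀ i, i < 5844 → P i := stepQ 5843 Q5843 (allL N5843 (tt N6607 (iv F52796)) (tt N5843 F44623) (tt N7134 D12134) (tt N4763 (iv D9490)) (tt N7023 F134644) (tt N4768 F44624) (tt N7135 D12135) (tt N4765 F44625) (tt N7127 (iv F56193)) (tt N5843 F44626))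
theorem Q5845 : ∀ i, i < 5845 → P i := stepQ 5844 Q5844 (allL N5844 (tt N6608 (iv F52802)) (tt N5844 F44627) (tt N4874 F44628) (tt N7135 (iv F56222)) (tt N4764 F44629) (tt N7136 D12136) (tt N4763 (iv D9491)) (tt N7137 D12137) (tt N7128 (iv F56197)) (tt N5844 F44630))
theorem Q5846 : ∀ i, i < 5846 → P i := stepQ 5845 Q5845 (allL N5845 (tt N6609 (iv F52807)) (tt N5845 F44631) (tt N4875 F44632) (tt N7120 (iv F56167)) (tt N7137 (iv F56231)) (tt N5845 F44633) (tt N4767 F44634) (tt N4764 (iv D9492)) (tt N7129 (iv F56201)) (tt N5845 F44635))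
theorem Q5847 : ∀ i, i < 5847 → P i := stepQ 5846 Q5846 (allL N5846 (tt N6610 (iv F52814)) (tt N7138 D12138) (tt N4765 (iv D9493)) (tt N4876 F44636) (tt N7121 (iv F56171)) (tt N4770 F44637) (tt N7139 D12139) (tt N7134 (iv F56219)) (tt N7130 (iv F56204)) (tt N5846 F44638))
theorem Q5848 : ∀ i, i < 5848 → P i := stepQ 5847 Q5847 (allL N5847 (tt N6611 (iv F52818)) (tt N5847 F44639) (tt N7139 (iv F56238)) (tt N4766 F44640) (tt N7122 (iv F56175)) (tt N5847 F44641) (tt N4765 (iv D9494)) (tt N7140 D12140) (tt N7131 (iv F56207)) (tt N5847 F44642))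
theorem Q5849 : ∀ i, i < 5849 → P i := stepQ 5848 Q5848 (allL N5848 (tt N6612 (iv F52822)) (tt N5848 F44643) (tt N4878 F44644) (tt N7140 (iv F56243)) (tt N4767 F44645) (tt N5848 F44646) (tt N7137 (iv F56232)) (tt N4766 (iv D9495)) (tt N7133 (iv F56216)) (tt N5848 F44647))
theorem Q5850 : ∀ i, i < 5850 → P i := stepQ 5849 Q5849 (allL N5849 (tt N6613 (iv F52827)) (tt N7141 D12141) (tt N4768 (iv D9496)) (tt N4879 F44648) (tt N6989 F134450) (tt N7134 (iv F56218)) (tt N6988 (iv F135118)) (tt N4770 F44649) (tt N5849 F44650) (tt N5849 F44651))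
theorem Q5851 : ∀ i, i < 5851 → P i := stepQ 5850 Q5850 (allL N5850 (tt N6614 (iv F52840)) (tt N5850 F44657) (tt N4881 F44658) (tt N7013 (iv F135116)) (tt N5850 F44659) (tt N4769 (iv D9498)) (tt N7136 (iv F56227)) (tt N5850 F44660) (tt N7142 D12144) (tt N5850 F44661))
theorem Q5852 : ∀ i, i < 5852 → P i := stepQ 5851 Q5851 (allL N5851 (tt N7143 D12145) (tt N4770 (iv D9499)) (tt N5851 F44662) (tt N4882 F44663) (tt N7091 (iv F56038)) (tt N7138 (iv F56236)) (tt N5851 F44664) (tt N7141 (iv F56248)) (tt N5851 F44665) (tt N5851 F44666))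
theorem Q5853 : ∀ i, i < 5853 → P i := stepQ 5852 Q5852 (allL N5852 (tt N4775 F44667) (tt N6616 (iv F52851)) (tt N5852 F44668) (tt N4884 F44669) (tt N6771 (iv F53683)) (tt N7144 D12146) (tt N6769 (iv F53673)) (tt N6761 (iv F53631)) (tt N4771 (iv D9500)) (tt N6760 (iv F53624)))
theorem Q5854 : ∀ i, i < 5854 → P i := stepQ 5853 Q5853 (allL N5853 (tt N4776 F44670) (tt N6617 (iv F52859)) (tt N5853 F44671) (tt N4886 F44672) (tt N7145 D12147) (tt N4772 (iv D9501)) (tt N7146 D12148) (tt N6866 (iv F54169)) (tt N7144 (iv F56273)) (tt N4802 F44673))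
theorem Q5855 : ∀ i, i < 5855 → P i := stepQ 5854 Q5854 (allL N5854 (tt N4777 F44674) (tt N6618 (iv F52865)) (tt N5854 F44675) (tt N7147 D12149) (tt N4773 (iv D9502)) (tt N5854 F44676) (tt N7148 D12150) (tt N5854 F44677) (tt N7092 (iv F56045)) (tt N4803 F44678))
theorem Q5856 : ∀ i, i < 5856 → P i := stepQ 5855 Q5855 (allL N5855 (tt N4778 F44679) (tt N6619 (iv F52870)) (tt N5855 F44680) (tt N4888 F44681) (tt N7148 (iv F56290)) (tt N7146 (iv F56281)) (tt N4773 (iv D9503)) (tt N7149 D12151) (tt N7093 (iv F56050)) (tt N4804 F44682))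
theorem Q5857 : ∀ i, i < 5857 → P i := stepQ 5856 Q5856 (allL N5856 (tt N6771 (iv F53679)) (tt N4780 F44683) (tt N5856 F44684) (tt N6694 (iv F53284)) (tt N4775 F44685) (tt N7150 D12152) (tt N6760 (iv F53622)) (tt N6693 (iv F53279)) (tt N4774 (iv D9504)) (tt N6769 (iv F53675)))
theorem Q5858 : ∀ i, i < 5858 → P i := stepQ 5857 Q5857 (allL N5857 (tt N7144 (iv F56270)) (tt N4781 F44686) (tt N5857 F44687) (tt N4892 F44688) (tt N7151 D12153) (tt N4775 (iv D9505)) (tt N7152 D12154) (tt N6773 (iv F53696)) (tt N4776 F44689) (tt N6772 (iv F53692)))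
theorem Q5859 : ∀ i, i < 5859 → P i := stepQ 5858 Q5858 (allL N5858 (tt N7145 (iv F56274)) (tt N4782 F44690) (tt N5858 F44691) (tt N7153 D12155) (tt N4776 (iv D9506)) (tt N5858 F44692) (tt N7154 D12156) (tt N6877 (iv F54228)) (tt N7151 (iv F56302)) (tt N4805 F44693))
theorem Q5860 : ∀ i, i < 5860 → P i := stepQ 5859 Q5859 (allL N5859 (tt N7146 (iv F56278)) (tt N4783 F44694) (tt N5859 F44695) (tt N4895 F44696) (tt N7154 (iv F56313)) (tt N4778 F44697) (tt N4776 (iv D9507)) (tt N7155 D12157) (tt N7152 (iv F56306)) (tt N4806 F44698))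
theorem Q5861 : ∀ i, i < 5861 → P i := stepQ 5860 Q5860 (allL N5860 (tt N7147 (iv F56283)) (tt N4784 F44699) (tt N6952 (iv F132812)) (tt N4777 (iv D9508)) (tt N4896 F44700) (tt N5860 F44701) (tt N7156 D12159) (tt N5860 F44702) (tt N7097 (iv F56067)) (tt N4807 F44703))
theorem Q5862 : ∀ i, i < 5862 → P i := stepQ 5861 Q5861 (allL N5861 (tt N7148 (iv F56288)) (tt N4785 F44704) (tt N5861 F44705) (tt N7156 (iv F56327)) (tt N4778 F44706) (tt N7157 D12160) (tt N4777 (iv D9509)) (tt N7158 D12161) (tt N7098 (iv F56072)) (tt N4808 F44707))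
theorem Q5863 : ∀ i, i < 5863 → P i := stepQ 5862 Q5862 (allL N5862 (tt N7149 (iv F56292)) (tt N4786 F44708) (tt N5862 F44709) (tt N4898 F44710) (tt N7158 (iv F56336)) (tt N7155 (iv F56318)) (tt N5862 F44711) (tt N4778 (iv D9510)) (tt N7099 (iv F56078)) (tt N4809 F44712))
theorem Q5864 : ∀ i, i < 5864 → P i := stepQ 5863 Q5863 (allL N5863 (tt N6626 (iv F52901)) (tt N6694 (iv F53282)) (tt N5863 F44713) (tt N4780 F44714) (tt N4900 F44715) (tt N7159 D12162) (tt N6761 (iv F53630)) (tt N6686 (iv F53241)) (tt N4779 (iv D9511)) (tt N6682 (iv F53216)))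
theorem Q5865 : ∀ i, i < 5865 → P i := stepQ 5864 Q5864 (allL N5864 (tt N6627 (iv F52909)) (tt N7150 (iv F56297)) (tt N4787 F44716) (tt N7159 (iv F56340)) (tt N7160 D12163) (tt N4780 (iv D9512)) (tt N7161 D12164) (tt N6787 (iv F53754)) (tt N5864 F44717) (tt N6786 (iv F53751)))
theorem Q5866 : ∀ i, i < 5866 → P i := stepQ 5865 Q5865 (allL N5865 (tt N6628 (iv F52915)) (tt N7151 (iv F56300)) (tt N4788 F44718) (tt N7162 D12165) (tt N4781 (iv D9513)) (tt N7160 (iv F56343)) (tt N7163 D12166) (tt N6793 (iv F53781)) (tt N4782 F44719) (tt N6791 (iv F53773)))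
theorem Q5867 : ∀ i, i < 5867 → P i := stepQ 5866 Q5866 (allL N5866 (tt N6629 (iv F52920)) (tt N7152 (iv F56303)) (tt N4789 F44720) (tt N4908 F44721) (tt N7163 (iv F56350)) (tt N7103 (iv F56093)) (tt N4781 (iv D9514)) (tt N7164 D12167) (tt N4783 F44722) (tt N6792 (iv F53778)))
theorem Q5868 : ∀ i, i < 5868 → P i := stepQ 5867 Q5867 (allL N5867 (tt N6630 (iv F52925)) (tt N7153 (iv F56307)) (tt N7165 D12168) (tt N4782 (iv D9515)) (tt N4911 F44723) (tt N5867 F44724) (tt N7166 D12169) (tt N6894 (iv F54297)) (tt N7162 (iv F56348)) (tt N4810 F44725))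
theorem Q5869 : ∀ i, i < 5869 → P i := stepQ 5868 Q5868 (allL N5868 (tt N6631 (iv F52930)) (tt N7154 (iv F56311)) (tt N4791 F44726) (tt N7166 (iv F56359)) (tt N4783 F44727) (tt N7167 D12170) (tt N4782 (iv D9516)) (tt N7168 D12171) (tt N7163 (iv F56351)) (tt N4811 F44728))
theorem Q5870 : ∀ i, i < 5870 → P i := stepQ 5869 Q5869 (allL N5869 (tt N6632 (iv F52934)) (tt N7155 (iv F56315)) (tt N4792 F44729) (tt N4913 F44730) (tt N7168 (iv F56367)) (tt N4786 F44731) (tt N6896 (iv F54307)) (tt N4783 (iv D9517)) (tt N7164 (iv F56354)) (tt N4812 F44732))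
theorem Q5871 : ∀ i, i < 5871 → P i := stepQ 5870 Q5870 (allL N5870 (tt N6633 (iv F52940)) (tt N7156 (iv F56326)) (tt N5870 F44733) (tt N4785 F44734) (tt N4914 F44735) (tt N7169 D12172) (tt N4784 (iv D9518)) (tt N7170 D12173) (tt N7109 (iv F56117)) (tt N4813 F44736))
theorem Q5872 : ∀ i, i < 5872 → P i := stepQ 5871 Q5871 (allL N5871 (tt N6634 (iv F52945)) (tt N7157 (iv F56330)) (tt N4793 F44737) (tt N7169 (iv F56370)) (tt N7167 (iv F56363)) (tt N4785 (iv D9519)) (tt N5871 F44738) (tt N7171 D12174) (tt N7172 D12175) (tt N4814 F44739))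
theorem Q5873 : ∀ i, i < 5873 → P i := stepQ 5872 Q5872 (allL N5872 (tt N6635 (iv F52949)) (tt N7158 (iv F56334)) (tt N4794 F44740) (tt N7170 (iv F56374)) (tt N4786 F44741) (tt N7171 (iv F56379)) (tt N5872 F44742) (tt N4785 (iv D9520)) (tt N7111 (iv F56124)) (tt N4815 F44743))
theorem Q5874 : ∀ i, i < 5874 → P i := stepQ 5873 Q5873 (allL N5873 (tt N6636 (iv F52954)) (tt N5873 F44744) (tt N7160 (iv F56342)) (tt N7173 D12176) (tt N4787 (iv D9521)) (tt N4788 F44745) (tt N7174 D12177) (tt N6812 (iv F53866)) (tt N5873 F44746) (tt N6810 (iv F53857)))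
theorem Q5875 : ∀ i, i < 5875 → P i := stepQ 5874 Q5874 (allL N5874 (tt N6637 (iv F52960)) (tt N5874 F44747) (tt N7161 (iv F56345)) (tt N5874 F44748) (tt N7174 (iv F56388)) (tt N7113 (iv F56134)) (tt N4787 (iv D9522)) (tt N7175 D12178) (tt N5874 F44749) (tt N6811 (iv F53862)))
theorem Q5876 : ∀ i, i < 5876 → P i := stepQ 5875 Q5875 (allL N5875 (tt N6638 (iv F52966)) (tt N5875 F44750) (tt N7176 D12179) (tt N4788 (iv D9523)) (tt N4795 F44751) (tt N7173 (iv F56385)) (tt N7177 D12180) (tt N6822 (iv F53917)) (tt N4790 F44752) (tt N6819 (iv F53902)))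
theorem Q5877 : ∀ i, i < 5877 → P i := stepQ 5876 Q5876 (allL N5876 (tt N6639 (iv F52972)) (tt N5876 F44753) (tt N7163 (iv F56349)) (tt N7177 (iv F56396)) (tt N4789 F44754) (tt N7178 D12181) (tt N4788 (iv D9524)) (tt N7179 D12182) (tt N4791 F44755) (tt N6820 (iv F53907)))
theorem Q5878 : ∀ i, i < 5878 → P i := stepQ 5877 Q5877 (allL N5877 (tt N6640 (iv F52977)) (tt N5877 F44756) (tt N7164 (iv F56352)) (tt N4797 F44757) (tt N7179 (iv F56401)) (tt N7118 (iv F56153)) (tt N6824 (iv F53928)) (tt N4789 (iv D9525)) (tt N4792 F44758) (tt N6821 (iv F53913)))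
theorem Q5879 : ∀ i, i < 5879 → P i := stepQ 5878 Q5878 (allL N5878 (tt N6641 (iv F52983)) (tt N7180 D12183) (tt N4790 (iv D9526)) (tt N7165 (iv F56355)) (tt N4798 F44759) (tt N5878 F44760) (tt N7181 D12184) (tt N6917 (iv F54392)) (tt N7176 (iv F56394)) (tt N4816 F44761))
theorem Q5880 : ∀ i, i < 5880 → P i := stepQ 5879 Q5879 (allL N5879 (tt N6642 (iv F52988)) (tt N5879 F44762) (tt N7181 (iv F56407)) (tt N4791 F44763) (tt N4799 F44764) (tt N7182 D12185) (tt N4790 (iv D9527)) (tt N7183 D12186) (tt N7177 (iv F56398)) (tt N4817 F44765))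
theorem Q5881 : ∀ i, i < 5881 → P i := stepQ 5880 Q5880 (allL N5880 (tt N6643 (iv F52993)) (tt N5880 F44766) (tt N7167 (iv F56362)) (tt N7182 (iv F56411)) (tt N4793 F44767) (tt N4791 (iv D9528)) (tt N5880 F44768) (tt N7184 D12187) (tt N7185 D12188) (tt N4818 F44769))
theorem Q5882 : ∀ i, i < 5882 → P i := stepQ 5881 Q5881 (allL N5881 (tt N6644 (iv F52998)) (tt N5881 F44770) (tt N7168 (iv F56366)) (tt N7183 (iv F56416)) (tt N4792 F44771) (tt N7184 (iv F56421)) (tt N6920 (iv F54407)) (tt N4791 (iv D9529)) (tt N7179 (iv F56402)) (tt N4819 F44772))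
theorem Q5883 : ∀ i, i < 5883 → P i := stepQ 5882 Q5882 (allL N5882 (tt N6645 (iv F53003)) (tt N5882 F44773) (tt N7171 (iv F56378)) (tt N5882 F44774) (tt N7184 (iv F56420)) (tt N4794 F44775) (tt N7186 D12189) (tt N4793 (iv D9530)) (tt N7187 D12190) (tt N4820 F44776))
theorem Q5884 : ∀ i, i < 5884 → P i := stepQ 5883 Q5883 (allL N5883 (tt N6646 (iv F53007)) (tt N5883 F44777) (tt N7172 (iv F56381)) (tt N5883 F44778) (tt N7185 (iv F56424)) (tt N7126 (iv F56189)) (tt N5883 F44779) (tt N7187 (iv F56433)) (tt N4793 (iv D9531)) (tt N7188 D12191))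
theorem Q5885 : ∀ i, i < 5885 → P i := stepQ 5884 Q5884 (allL N5884 (tt N6647 (iv F53010)) (tt N7189 D12192) (tt N4795 (iv D9532)) (tt N4947 F44780) (tt N7176 (iv F56393)) (tt N5884 F44781) (tt N7190 D12193) (tt N6849 (iv F54051)) (tt N4798 F44782) (tt N6845 (iv F54030)))
theorem Q5886 : ∀ i, i < 5886 → P i := stepQ 5885 Q5885 (allL N5885 (tt N6648 (iv F53016)) (tt N5885 F44783) (tt N7190 (iv F56442)) (tt N4796 F44784) (tt N7177 (iv F56397)) (tt N7191 D12194) (tt N4795 (iv D9533)) (tt N7192 D12195) (tt N4799 F44785) (tt N6846 (iv F54035)))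
theorem Q5887 : ∀ i, i < 5887 → P i := stepQ 5886 Q5886 (allL N5886 (tt N6649 (iv F53021)) (tt N5886 F44786) (tt N4949 F44787) (tt N7191 (iv F56446)) (tt N7132 (iv F56210)) (tt N4796 (iv D9534)) (tt N5886 F44788) (tt N7193 D12196) (tt N5886 F44789) (tt N6847 (iv F54040)))
theorem Q5888 : ∀ i, i < 5888 → P i := stepQ 5887 Q5887 (allL N5887 (tt N6650 (iv F53027)) (tt N5887 F44790) (tt N4950 F44791) (tt N7192 (iv F56450)) (tt N4797 F44792) (tt N7193 (iv F56454)) (tt N6852 (iv F54068)) (tt N4796 (iv D9535)) (tt N4800 F44793) (tt N6848 (iv F54047)))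
theorem Q5889 : ∀ i, i < 5889 → P i := stepQ 5888 Q5888 (allL N5888 (tt N7008 F132185) (tt N4798 (iv D9536)) (tt N5888 F44794) (tt N4955 F44795) (tt N7180 (iv F56404)) (tt N4801 F44796) (tt N7194 D12198) (tt N5060 F132186) (tt N7189 (iv F56441)) (tt N4822 F44797))
theorem Q5890 : ∀ i, i < 5890 → P i := stepQ 5889 Q5889 (allL N5889 (tt N6651 (iv F53039)) (tt N7194 (iv F56460)) (tt N4799 F44798) (tt N4956 F44799) (tt N7181 (iv F56408)) (tt N5889 F44800) (tt N4798 (iv D9537)) (tt N7195 D12199) (tt N7190 (iv F56444)) (tt N4823 F44801))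
theorem Q5891 : ∀ i, i < 5891 → P i := stepQ 5890 Q5890 (allL N5890 (tt N6652 (iv F53044)) (tt N5890 F44802) (tt N7195 (iv F56465)) (tt N4800 F44803) (tt N7183 (iv F56417)) (tt N5890 F44804) (tt N6944 (iv F54528)) (tt N4799 (iv D9538)) (tt N7192 (iv F56451)) (tt N4824 F44805))
theorem Q5892 : ∀ i, i < 5892 → P i := stepQ 5891 Q5891 (allL N5891 (tt N4805 F44812) (tt N6653 (iv F53059)) (tt N5891 F44813) (tt N7196 D12200) (tt N4802 (iv D9540)) (tt N5891 F44814) (tt N7197 D12201) (tt N6867 (iv F54175)) (tt N6869 (iv F54188)) (tt N7145 (iv F56277)))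
theorem Q5893 : ∀ i, i < 5893 → P i := stepQ 5892 Q5892 (allL N5892 (tt N4806 F44815) (tt N6654 (iv F53065)) (tt N5892 F44816) (tt N4963 F44817) (tt N7197 (iv F56474)) (tt N4804 F44818) (tt N4802 (iv D9541)) (tt N7198 D12202) (tt N6870 (iv F54194)) (tt N7146 (iv F56282)))
theorem Q5894 : ∀ i, i < 5894 → P i := stepQ 5893 Q5893 (allL N5893 (tt N4807 F44819) (tt N6655 (iv F53071)) (tt N5031 (iv F132794)) (tt N4803 (iv D9542)) (tt N4964 F44820) (tt N5893 F44821) (tt N7199 D12204) (tt N5893 F44822) (tt N5893 F44823) (tt N7147 (iv F56287)))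
theorem Q5895 : ∀ i, i < 5895 → P i := stepQ 5894 Q5894 (allL N5894 (tt N4808 F44824) (tt N6656 (iv F53077)) (tt N5894 F44825) (tt N7199 (iv F56486)) (tt N4804 F44826) (tt N7200 D12205) (tt N4803 (iv D9543)) (tt N7201 D12206) (tt N5894 F44827) (tt N7148 (iv F56291)))
theorem Q5896 : ∀ i, i < 5896 → P i := stepQ 5895 Q5895 (allL N5895 (tt N4809 F44828) (tt N6657 (iv F53081)) (tt N5895 F44829) (tt N4966 F44830) (tt N7201 (iv F56494)) (tt N7198 (iv F56478)) (tt N5895 F44831) (tt N4804 (iv D9544)) (tt N5895 F44832) (tt N7149 (iv F56296)))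
theorem Q5897 : ∀ i, i < 5897 → P i := stepQ 5896 Q5896 (allL N5896 (tt N7196 (iv F56469)) (tt N4810 F44833) (tt N7202 D12207) (tt N4805 (iv D9545)) (tt N4972 F44834) (tt N5896 F44835) (tt N7203 D12208) (tt N6879 (iv F54238)) (tt N6882 (iv F54254)) (tt N7153 (iv F56310)))
theorem Q5898 : ∀ i, i < 5898 → P i := stepQ 5897 Q5897 (allL N5897 (tt N7197 (iv F56472)) (tt N4811 F44836) (tt N5897 F44837) (tt N7203 (iv F56501)) (tt N4806 F44838) (tt N7204 D12209) (tt N4805 (iv D9546)) (tt N7205 D12210) (tt N6883 (iv F54258)) (tt N7154 (iv F56314)))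
theorem Q5899 : ∀ i, i < 5899 → P i := stepQ 5898 Q5898 (allL N5898 (tt N7198 (iv F56475)) (tt N4812 F44839) (tt N5898 F44840) (tt N4974 F44841) (tt N7205 (iv F56509)) (tt N4809 F44842) (tt N6881 (iv F54248)) (tt N4806 (iv D9547)) (tt N6884 (iv F54264)) (tt N7155 (iv F56319)))
theorem Q5900 : ∀ i, i < 5900 → P i := stepQ 5899 Q5899 (allL N5899 (tt N7199 (iv F56485)) (tt N4813 F44849) (tt N6948 (iv F132802)) (tt N4808 F44850) (tt N4975 F44851) (tt N7206 D12212) (tt N4807 (iv D9549)) (tt N7207 D12213) (tt N5899 F44852) (tt N7156 (iv F56329)))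
theorem Q5901 : ∀ i, i < 5901 → P i := stepQ 5900 Q5900 (allL N5900 (tt N7200 (iv F56489)) (tt N4814 F44853) (tt N5900 F44854) (tt N7206 (iv F56516)) (tt N7204 (iv F56505)) (tt N4808 (iv D9550)) (tt N5900 F44855) (tt N7208 D12214) (tt N7209 D12215) (tt N7157 (iv F56333)))
theorem Q5902 : ∀ i, i < 5902 → P i := stepQ 5901 Q5901 (allL N5901 (tt N7201 (iv F56492)) (tt N4815 F44856) (tt N5901 F44857) (tt N7207 (iv F56519)) (tt N4809 F44858) (tt N7208 (iv F56525)) (tt N5901 F44859) (tt N4808 (iv D9551)) (tt N5901 F44860) (tt N7158 (iv F56338)))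
theorem Q5903 : ∀ i, i < 5903 → P i := stepQ 5902 Q5902 (allL N5902 (tt N6665 (iv F53115)) (tt N7210 D12216) (tt N4810 (iv D9552)) (tt N4816 F44861) (tt N4986 F44862) (tt N5902 F44863) (tt N7211 D12217) (tt N6897 (iv F54313)) (tt N6901 (iv F54333)) (tt N7165 (iv F56358)))
theorem Q5904 : ∀ i, i < 5904 → P i := stepQ 5903 Q5903 (allL N5903 (tt N6666 (iv F53121)) (tt N7203 (iv F56500)) (tt N7211 (iv F56533)) (tt N4811 F44864) (tt N4987 F44865) (tt N7212 D12218) (tt N4810 (iv D9553)) (tt N7213 D12219) (tt N6902 (iv F54337)) (tt N7166 (iv F56361)))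
theorem Q5905 : ∀ i, i < 5905 → P i := stepQ 5904 Q5904 (allL N5904 (tt N6667 (iv F53125)) (tt N7204 (iv F56503)) (tt N4818 F44866) (tt N7212 (iv F56536)) (tt N4814 F44867) (tt N4811 (iv D9554)) (tt N5904 F44868) (tt N7214 D12220) (tt N7215 D12221) (tt N7167 (iv F56365)))
theorem Q5906 : ∀ i, i < 5906 → P i := stepQ 5905 Q5905 (allL N5905 (tt N6668 (iv F53129)) (tt N7205 (iv F56507)) (tt N4819 F44869) (tt N7213 (iv F56538)) (tt N4812 F44870) (tt N7214 (iv F56542)) (tt N6900 (iv F54326)) (tt N4811 (iv D9555)) (tt N6904 (iv F54346)) (tt N7168 (iv F56368)))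
theorem Q5907 : ∀ i, i < 5907 → P i := stepQ 5906 Q5906 (allL N5906 (tt N6669 (iv F53134)) (tt N7206 (iv F56515)) (tt N5906 F44871) (tt N4814 F44872) (tt N7216 D12222) (tt N4813 (iv D9556)) (tt N5906 F44873) (tt N7217 D12223) (tt N7218 D12224) (tt N7169 (iv F56372)))
theorem Q5908 : ∀ i, i < 5908 → P i := stepQ 5907 Q5907 (allL N5907 (tt N6670 (iv F53138)) (tt N7207 (iv F56518)) (tt N5907 F44874) (tt N4815 F44875) (tt N4991 F44876) (tt N7217 (iv F56551)) (tt N5907 F44877) (tt N4813 (iv D9557)) (tt N5907 F44878) (tt N7170 (iv F56377)))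
theorem Q5909 : ∀ i, i < 5909 → P i := stepQ 5908 Q5908 (allL N5908 (tt N6671 (iv F53144)) (tt N7208 (iv F56523)) (tt N4820 F44879) (tt N7217 (iv F56550)) (tt N7214 (iv F56541)) (tt N4815 F44880) (tt N7219 D12225) (tt N4814 (iv D9558)) (tt N7220 D12226) (tt N7171 (iv F56380)))
theorem Q5910 : ∀ i, i < 5910 → P i := stepQ 5909 Q5909 (allL N5909 (tt N6672 (iv F53147)) (tt N7209 (iv F56526)) (tt N4821 F44881) (tt N7218 (iv F56553)) (tt N7215 (iv F56544)) (tt N5909 F44882) (tt N5909 F44883) (tt N7220 (iv F56561)) (tt N4814 (iv D9559)) (tt N7221 D12227))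
theorem Q5911 : ∀ i, i < 5911 → P i := stepQ 5910 Q5910 (allL N5910 (tt N7059 F132166) (tt N4816 (iv D9560)) (tt N5910 F44884) (tt N7210 (iv F56530)) (tt N4822 F44885) (tt N5910 F44886) (tt N7222 D12229) (tt N5102 F132182) (tt N6926 (iv F54441)) (tt N7180 (iv F56406)))
theorem Q5912 : ∀ i, i < 5912 → P i := stepQ 5911 Q5911 (allL N5911 (tt N6673 (iv F53156)) (tt N7222 (iv F56568)) (tt N4817 F44887) (tt N7211 (iv F56534)) (tt N4823 F44888) (tt N7223 D12230) (tt N4816 (iv D9561)) (tt N7224 D12231) (tt N6927 (iv F54445)) (tt N7181 (iv F56409)))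
theorem Q5913 : ∀ i, i < 5913 → P i := stepQ 5912 Q5912 (allL N5912 (tt N6674 (iv F53160)) (tt N5912 F44889) (tt N7223 (iv F56571)) (tt N4818 F44890) (tt N5912 F44891) (tt N4817 (iv D9562)) (tt N5912 F44892) (tt N7225 D12232) (tt N7226 D12233) (tt N7182 (iv F56414)))
theorem Q5914 : ∀ i, i < 5914 → P i := stepQ 5913 Q5913 (allL N5913 (tt N6675 (iv F53165)) (tt N5913 F44893) (tt N7224 (iv F56574)) (tt N4819 F44894) (tt N4824 F44895) (tt N7225 (iv F56579)) (tt N6923 (iv F54426)) (tt N4817 (iv D9563)) (tt N6928 (iv F54455)) (tt N7183 (iv F56418)))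
theorem Q5915 : ∀ i, i < 5915 → P i := stepQ 5914 Q5914 (allL N5914 (tt N6676 (iv F53171)) (tt N5914 F44896) (tt N7214 (iv F56540)) (tt N7225 (iv F56577)) (tt N4820 F44897) (tt N4819 F44898) (tt N7227 D12234) (tt N4818 (iv D9564)) (tt N7228 D12235) (tt N7184 (iv F56422)))
theorem Q5916 : ∀ i, i < 5916 → P i := stepQ 5915 Q5915 (allL N5915 (tt N6677 (iv F53175)) (tt N5915 F44899) (tt N7215 (iv F56543)) (tt N7226 (iv F56581)) (tt N4821 F44900) (tt N6930 (iv F54463)) (tt N5915 F44901) (tt N7228 (iv F56589)) (tt N4818 (iv D9565)) (tt N7229 D12236))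
theorem Q5917 : ∀ i, i < 5917 → P i := stepQ 5916 Q5916 (allL N5916 (tt N6678 (iv F53180)) (tt N5916 F44902) (tt N7219 (iv F56556)) (tt N5916 F44903) (tt N7227 (iv F56585)) (tt N5916 F44904) (tt N4820 (iv D9566)) (tt N5916 F44905) (tt N7230 D12237) (tt N7186 (iv F56430)))
theorem Q5918 : ∀ i, i < 5918 → P i := stepQ 5917 Q5917 (allL N5917 (tt N6679 (iv F53184)) (tt N5917 F44906) (tt N7220 (iv F56559)) (tt N5917 F44907) (tt N7228 (iv F56588)) (tt N5917 F44908) (tt N7230 (iv F56595)) (tt N4821 F44909) (tt N4820 (iv D9567)) (tt N7231 D12238))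
theorem Q5919 : ∀ i, i < 5919 → P i := stepQ 5918 Q5918 (allL N5918 (tt N6680 (iv F53188)) (tt N5918 F44910) (tt N7221 (iv F56562)) (tt N5918 F44911) (tt N7229 (iv F56591)) (tt N5918 F44912) (tt N5918 F44913) (tt N7231 (iv F56600)) (tt N7188 (iv F56437)) (tt N4821 (iv D9568)))
theorem Q5920 : ∀ i, i < 5920 → P i := stepQ 5919 Q5919 (allL N5919 (tt N6893 F132183) (tt N4823 F44917) (tt N5919 F44918) (tt N5025 F44919) (tt N7222 (iv F56570)) (tt N5919 F44920) (tt N4822 (iv D9570)) (tt N7232 D12240) (tt N6875 F132184) (tt N7194 (iv F56464)))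
theorem Q5921 : ∀ i, i < 5921 → P i := stepQ 5920 Q5920 (allL N5920 (tt N6681 (iv F53203)) (tt N7232 (iv F56605)) (tt N4824 F44921) (tt N5026 F44922) (tt N7224 (iv F56575)) (tt N5920 F44923) (tt N6947 (iv F54561)) (tt N4823 (iv D9571)) (tt N6950 (iv F54593)) (tt N7195 (iv F56468)))
theorem Q5922 : ∀ i, i < 5922 → P i := stepQ 5921 Q5921 (allL N5921 (tt N4831 F44924) (tt N6682 (iv F53210)) (tt N5116 F44925) (tt N6769 (iv F53671)) (tt N6698 (iv F53312)) (tt N7233 D12241) (tt N4884 F44926) (tt N6695 (iv F53295)) (tt N4825 (iv D9572)) (tt N6694 (iv F53288)))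
theorem Q5923 : ∀ i, i < 5923 → P i := stepQ 5922 Q5922 (allL N5922 (tt N4833 F44927) (tt N6683 (iv F53218)) (tt N5118 F44928) (tt N6963 (iv F54760)) (tt N7234 D12242) (tt N4826 (iv D9573)) (tt N7235 D12243) (tt N6962 (iv F54755)) (tt N7233 (iv F56611)) (tt N5922 F44929))
theorem Q5924 : ∀ i, i < 5924 → P i := stepQ 5923 Q5923 (allL N5923 (tt N4834 F44930) (tt N6684 (iv F53224)) (tt N5119 F44931) (tt N7236 D12244) (tt N4827 (iv D9574)) (tt N5923 F44932) (tt N7237 D12245) (tt N5923 F44933) (tt N4887 F44934) (tt N5923 F44935))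
theorem Q5925 : ∀ i, i < 5925 → P i := stepQ 5924 Q5924 (allL N5924 (tt N4835 F44936) (tt N6685 (iv F53231)) (tt N5120 F44937) (tt N7093 (iv F56049)) (tt N7237 (iv F56627)) (tt N7235 (iv F56618)) (tt N4827 (iv D9575)) (tt N7238 D12246) (tt N4888 F44938) (tt N5924 F44939))
theorem Q5926 : ∀ i, i < 5926 → P i := stepQ 5925 Q5925 (allL N5925 (tt N6698 (iv F53308)) (tt N4837 F44940) (tt N4852 F44941) (tt N6697 (iv F53303)) (tt N4831 F44942) (tt N7239 D12247) (tt N4889 F44943) (tt N4840 F44944) (tt N4828 (iv D9576)) (tt N4839 F44945))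
theorem Q5927 : ∀ i, i < 5927 → P i := stepQ 5926 Q5926 (allL N5926 (tt N6695 (iv F53289)) (tt N4839 F44946) (tt N4849 F44947) (tt N6759 (iv F53612)) (tt N4840 F44948) (tt N7240 D12248) (tt N4902 F44949) (tt N4831 F44950) (tt N4829 (iv D9577)) (tt N4837 F44951))
theorem Q5928 : ∀ i, i < 5928 → P i := stepQ 5927 Q5927 (allL N5927 (tt N6694 (iv F53281)) (tt N4840 F44952) (tt N4848 F44953) (tt N6771 (iv F53682)) (tt N4839 F44954) (tt N7241 D12249) (tt N4891 F44955) (tt N4837 F44956) (tt N4830 (iv D9578)) (tt N4831 F44957))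
theorem Q5929 : ∀ i, i < 5929 → P i := stepQ 5928 Q5928 (allL N5928 (tt N7233 (iv F56609)) (tt N4841 F44958) (tt N5121 F44959) (tt N7094 (iv F56054)) (tt N7242 D12250) (tt N4831 (iv D9579)) (tt N7243 D12251) (tt N7240 (iv F56642)) (tt N4833 F44960) (tt N7241 (iv F56649)))
theorem Q5930 : ∀ i, i < 5930 → P i := stepQ 5929 Q5929 (allL N5929 (tt N6962 (iv F54751)) (tt N4842 F44961) (tt N5122 F44962) (tt N6954 (iv F54680)) (tt N7244 D12252) (tt N4832 (iv D9580)) (tt N7245 D12253) (tt N4833 F44963) (tt N7240 (iv F56643)) (tt N5929 F44964))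
theorem Q5931 : ∀ i, i < 5931 → P i := stepQ 5930 Q5930 (allL N5930 (tt N7234 (iv F56612)) (tt N4843 F44965) (tt N5123 F44966) (tt N7246 D12254) (tt N4833 (iv D9581)) (tt N5930 F44967) (tt N7247 D12255) (tt N7244 (iv F56660)) (tt N7242 (iv F56652)) (tt N5930 F44968))
theorem Q5932 : ∀ i, i < 5932 → P i := stepQ 5931 Q5931 (allL N5931 (tt N7235 (iv F56616)) (tt N4844 F44969) (tt N5124 F44970) (tt N7096 (iv F56061)) (tt N7247 (iv F56671)) (tt N4835 F44971) (tt N4833 (iv D9582)) (tt N7248 D12256) (tt N7243 (iv F56656)) (tt N5931 F44972))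
theorem Q5933 : ∀ i, i < 5933 → P i := stepQ 5932 Q5932 (allL N5932 (tt N7236 (iv F56620)) (tt N4845 F44973) (tt N6953 (iv F132813)) (tt N4834 (iv D9583)) (tt N7097 (iv F56065)) (tt N5932 F44974) (tt N7249 D12258) (tt N5932 F44975) (tt N4896 F44976) (tt N5932 F44977))
theorem Q5934 : ∀ i, i < 5934 → P i := stepQ 5933 Q5933 (allL N5933 (tt N7237 (iv F56625)) (tt N4846 F44978) (tt N5125 F44979) (tt N7249 (iv F56684)) (tt N4835 F44980) (tt N7250 D12259) (tt N4834 (iv D9584)) (tt N7251 D12260) (tt N4897 F44981) (tt N5933 F44982))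
theorem Q5935 : ∀ i, i < 5935 → P i := stepQ 5934 Q5934 (allL N5934 (tt N7238 (iv F56630)) (tt N4847 F44983) (tt N5126 F44984) (tt N7099 (iv F56076)) (tt N7251 (iv F56693)) (tt N7248 (iv F56675)) (tt N5934 F44985) (tt N4835 (iv D9585)) (tt N4898 F44986) (tt N5934 F44987))
theorem Q5936 : ∀ i, i < 5936 → P i := stepQ 5935 Q5935 (allL N5935 (tt N6693 (iv F53273)) (tt N6697 (iv F53301)) (tt N5935 F44988) (tt N4837 F44989) (tt N6761 (iv F53629)) (tt N7252 D12261) (tt N4900 F44990) (tt N6771 (iv F53685)) (tt N4836 (iv D9586)) (tt N6759 (iv F53616)))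
theorem Q5937 : ∀ i, i < 5937 → P i := stepQ 5936 Q5936 (allL N5936 (tt N6696 (iv F53297)) (tt N7239 (iv F56635)) (tt N4850 F44991) (tt N7252 (iv F56698)) (tt N7253 D12262) (tt N4837 (iv D9587)) (tt N7254 D12263) (tt N7241 (iv F56647)) (tt N5936 F44992) (tt N7240 (iv F56644)))
theorem Q5938 : ∀ i, i < 5938 → P i := stepQ 5937 Q5937 (allL N5937 (tt N6697 (iv F53300)) (tt N4902 F44993) (tt N4851 F44994) (tt N6698 (iv F53311)) (tt N4891 F44995) (tt N7255 D12264) (tt N4839 F44996) (tt N4904 F44997) (tt N4838 (iv D9588)) (tt N4889 F44998))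
theorem Q5939 : ∀ i, i < 5939 → P i := stepQ 5938 Q5938 (allL N5938 (tt N6699 (iv F53316)) (tt N7240 (iv F56640)) (tt N4853 F44999) (tt N7101 (iv F56086)) (tt N7256 D12265) (tt N4839 (iv D9589)) (tt N7257 D12266) (tt N4841 F45000) (tt N4842 F45001) (tt N7239 (iv F56639)))
theorem Q5940 : ∀ i, i < 5940 → P i := stepQ 5939 Q5939 (allL N5939 (tt N6700 (iv F53322)) (tt N7241 (iv F56645)) (tt N4854 F45002) (tt N6790 (iv F53766)) (tt N7258 D12267) (tt N4840 (iv D9590)) (tt N7259 D12268) (tt N7239 (iv F56637)) (tt N5939 F45003) (tt N4841 F45004))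
theorem Q5941 : ∀ i, i < 5941 → P i := stepQ 5940 Q5940 (allL N5940 (tt N6701 (iv F53327)) (tt N7242 (iv F56650)) (tt N4855 F45005) (tt N7260 D12269) (tt N4841 (iv D9591)) (tt N7253 (iv F56701)) (tt N7261 D12270) (tt N7256 (iv F56712)) (tt N4843 F45006) (tt N7258 (iv F56718)))
theorem Q5942 : ∀ i, i < 5942 → P i := stepQ 5941 Q5941 (allL N5941 (tt N6702 (iv F53330)) (tt N7243 (iv F56653)) (tt N4856 F45007) (tt N7103 (iv F56092)) (tt N7261 (iv F56725)) (tt N4908 F45008) (tt N4841 (iv D9592)) (tt N7262 D12271) (tt N4844 F45009) (tt N7259 (iv F56722)))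
theorem Q5943 : ∀ i, i < 5943 → P i := stepQ 5942 Q5942 (allL N5942 (tt N6703 (iv F53334)) (tt N7244 (iv F56657)) (tt N4857 F45010) (tt N7263 D12272) (tt N4842 (iv D9593)) (tt N5942 F45011) (tt N7264 D12273) (tt N4843 F45012) (tt N7256 (iv F56713)) (tt N5942 F45013))
theorem Q5944 : ∀ i, i < 5944 → P i := stepQ 5943 Q5943 (allL N5943 (tt N6704 (iv F53340)) (tt N7245 (iv F56662)) (tt N4858 F45014) (tt N7105 (iv F56102)) (tt N7264 (iv F56734)) (tt N5943 F45015) (tt N4842 (iv D9594)) (tt N7265 D12274) (tt N7257 (iv F56715)) (tt N5943 F45016))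
theorem Q5945 : ∀ i, i < 5945 → P i := stepQ 5944 Q5944 (allL N5944 (tt N6705 (iv F53346)) (tt N7246 (iv F56666)) (tt N7266 D12275) (tt N4843 (iv D9595)) (tt N7106 (iv F56105)) (tt N5944 F45017) (tt N7267 D12276) (tt N7263 (iv F56731)) (tt N7260 (iv F56723)) (tt N5944 F45018))
theorem Q5946 : ∀ i, i < 5946 → P i := stepQ 5945 Q5945 (allL N5945 (tt N6706 (iv F53349)) (tt N7247 (iv F56669)) (tt N4860 F45019) (tt N7267 (iv F56743)) (tt N4844 F45020) (tt N7268 D12277) (tt N4843 (iv D9596)) (tt N7269 D12278) (tt N7261 (iv F56726)) (tt N5945 F45021))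
theorem Q5947 : ∀ i, i < 5947 → P i := stepQ 5946 Q5946 (allL N5946 (tt N6707 (iv F53353)) (tt N7248 (iv F56673)) (tt N4861 F45022) (tt N7108 (iv F56111)) (tt N7269 (iv F56750)) (tt N4847 F45023) (tt N7265 (iv F56738)) (tt N4844 (iv D9597)) (tt N7262 (iv F56729)) (tt N5946 F45024))
theorem Q5948 : ∀ i, i < 5948 → P i := stepQ 5947 Q5947 (allL N5947 (tt N6708 (iv F53357)) (tt N7249 (iv F56683)) (tt N5947 F45025) (tt N4846 F45026) (tt N7109 (iv F56116)) (tt N7270 D12279) (tt N4845 (iv D9598)) (tt N7271 D12280) (tt N4914 F45027) (tt N5947 F45028))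
theorem Q5949 : ∀ i, i < 5949 → P i := stepQ 5948 Q5948 (allL N5948 (tt N6709 (iv F53362)) (tt N7250 (iv F56687)) (tt N4862 F45029) (tt N7270 (iv F56753)) (tt N7268 (iv F56746)) (tt N4846 (iv D9599)) (tt N5948 F45030) (tt N7272 D12281) (tt N7273 D12282) (tt N5948 F45031))
theorem Q5950 : ∀ i, i < 5950 → P i := stepQ 5949 Q5949 (allL N5949 (tt N6710 (iv F53366)) (tt N7251 (iv F56691)) (tt N4863 F45032) (tt N7271 (iv F56757)) (tt N4847 F45033) (tt N7272 (iv F56762)) (tt N5949 F45034) (tt N4846 (iv D9600)) (tt N4916 F45035) (tt N5949 F45036))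
theorem Q5951 : ∀ i, i < 5951 → P i := stepQ 5950 Q5950 (allL N5950 (tt N6711 (iv F53372)) (tt N5129 F45037) (tt N7241 (iv F56646)) (tt N5950 F45038) (tt N7274 D12283) (tt N4848 (iv D9601)) (tt N7275 D12284) (tt N4850 F45039) (tt N5950 F45040) (tt N5121 F45041))
theorem Q5952 : ∀ i, i < 5952 → P i := stepQ 5951 Q5951 (allL N5951 (tt N6712 (iv F53378)) (tt N5128 F45042) (tt N7240 (iv F56641)) (tt N5951 F45043) (tt N7276 D12285) (tt N4849 (iv D9602)) (tt N7277 D12286) (tt N5121 F45044) (tt N5122 F45045) (tt N4850 F45046))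
theorem Q5953 : ∀ i, i < 5953 → P i := stepQ 5952 Q5952 (allL N5952 (tt N6713 (iv F53384)) (tt N5140 F45047) (tt N7253 (iv F56700)) (tt N7278 D12287) (tt N4850 (iv D9603)) (tt N4855 F45048) (tt N7279 D12288) (tt N7274 (iv F56769)) (tt N5952 F45049) (tt N7276 (iv F56781)))
theorem Q5954 : ∀ i, i < 5954 → P i := stepQ 5953 Q5953 (allL N5953 (tt N6714 (iv F53388)) (tt N5141 F45050) (tt N7254 (iv F56703)) (tt N5953 F45051) (tt N7279 (iv F56792)) (tt N4921 F45052) (tt N4850 (iv D9604)) (tt N7280 D12289) (tt N5953 F45053) (tt N7277 (iv F56786)))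
theorem Q5955 : ∀ i, i < 5955 → P i := stepQ 5954 Q5954 (allL N5954 (tt N6715 (iv F53393)) (tt N5142 F45054) (tt N7255 (iv F56707)) (tt N4864 F45055) (tt N7281 D12290) (tt N4851 (iv D9605)) (tt N7282 D12291) (tt N4922 F45056) (tt N5954 F45057) (tt N5193 F45058))
theorem Q5956 : ∀ i, i < 5956 → P i := stepQ 5955 Q5955 (allL N5955 (tt N6716 (iv F53399)) (tt N5127 F45059) (tt N7239 (iv F56636)) (tt N4865 F45060) (tt N7283 D12292) (tt N4852 (iv D9606)) (tt N7284 D12293) (tt N4854 F45061) (tt N5955 F45062) (tt N4853 F45063))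
theorem Q5957 : ∀ i, i < 5957 → P i := stepQ 5956 Q5956 (allL N5956 (tt N6717 (iv F53405)) (tt N5143 F45064) (tt N7256 (iv F56711)) (tt N7285 D12294) (tt N4853 (iv D9607)) (tt N7274 (iv F56768)) (tt N7286 D12295) (tt N4855 F45065) (tt N4857 F45066) (tt N7283 (iv F56812)))
theorem Q5958 : ∀ i, i < 5958 → P i := stepQ 5957 Q5957 (allL N5957 (tt N6718 (iv F53409)) (tt N5144 F45067) (tt N7257 (iv F56714)) (tt N4867 F45068) (tt N7286 (iv F56823)) (tt N7282 (iv F56805)) (tt N4853 (iv D9608)) (tt N7287 D12296) (tt N4858 F45069) (tt N7284 (iv F56817)))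
theorem Q5959 : ∀ i, i < 5959 → P i := stepQ 5958 Q5958 (allL N5958 (tt N6719 (iv F53413)) (tt N5145 F45070) (tt N7258 (iv F56716)) (tt N7288 D12297) (tt N4854 (iv D9609)) (tt N7276 (iv F56778)) (tt N7289 D12298) (tt N7283 (iv F56810)) (tt N5958 F45071) (tt N4855 F45072))
theorem Q5960 : ∀ i, i < 5960 → P i := stepQ 5959 Q5959 (allL N5959 (tt N6720 (iv F53417)) (tt N5146 F45073) (tt N7259 (iv F56719)) (tt N4869 F45074) (tt N7289 (iv F56834)) (tt N4926 F45075) (tt N4854 (iv D9610)) (tt N7290 D12299) (tt N5959 F45076) (tt N4856 F45077))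
theorem Q5961 : ∀ i, i < 5961 → P i := stepQ 5960 Q5960 (allL N5960 (tt N6721 (iv F53423)) (tt N5147 F45078) (tt N7291 D12300) (tt N4855 (iv D9611)) (tt N4870 F45079) (tt N7278 (iv F56789)) (tt N7292 D12301) (tt N7285 (iv F56820)) (tt N4859 F45080) (tt N7288 (iv F56832)))
theorem Q5962 : ∀ i, i < 5962 → P i := stepQ 5961 Q5961 (allL N5961 (tt N6722 (iv F53427)) (tt N5148 F45081) (tt N7261 (iv F56724)) (tt N7292 (iv F56845)) (tt N4856 F45082) (tt N7293 D12302) (tt N4855 (iv D9612)) (tt N7294 D12303) (tt N4860 F45083) (tt N7289 (iv F56836)))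
theorem Q5963 : ∀ i, i < 5963 → P i := stepQ 5962 Q5962 (allL N5962 (tt N6723 (iv F53431)) (tt N5149 F45084) (tt N7262 (iv F56727)) (tt N4872 F45085) (tt N7294 (iv F56851)) (tt N4929 F45086) (tt N7287 (iv F56827)) (tt N4856 (iv D9613)) (tt N4861 F45087) (tt N7290 (iv F56841)))
theorem Q5964 : ∀ i, i < 5964 → P i := stepQ 5963 Q5963 (allL N5963 (tt N6724 (iv F53436)) (tt N5150 F45088) (tt N7295 D12304) (tt N4857 (iv D9614)) (tt N4873 F45089) (tt N5963 F45090) (tt N7296 D12305) (tt N4859 F45091) (tt N7285 (iv F56821)) (tt N5963 F45092))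
theorem Q5965 : ∀ i, i < 5965 → P i := stepQ 5964 Q5964 (allL N5964 (tt N6725 (iv F53442)) (tt N5151 F45093) (tt N7264 (iv F56733)) (tt N7296 (iv F56858)) (tt N4858 F45094) (tt N7297 D12306) (tt N4857 (iv D9615)) (tt N7298 D12307) (tt N7286 (iv F56824)) (tt N5964 F45095))
theorem Q5966 : ∀ i, i < 5966 → P i := stepQ 5965 Q5965 (allL N5965 (tt N6726 (iv F53446)) (tt N5152 F45096) (tt N7265 (iv F56736)) (tt N4875 F45097) (tt N7298 (iv F56866)) (tt N5965 F45098) (tt N4861 F45099) (tt N4858 (iv D9616)) (tt N7287 (iv F56828)) (tt N5965 F45100))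
theorem Q5967 : ∀ i, i < 5967 → P i := stepQ 5966 Q5966 (allL N5966 (tt N6727 (iv F53452)) (tt N7299 D12308) (tt N4859 (iv D9617)) (tt N7266 (iv F56740)) (tt N4876 F45101) (tt N5966 F45102) (tt N7300 D12309) (tt N7295 (iv F56855)) (tt N7291 (iv F56843)) (tt N5966 F45103))
theorem Q5968 : ∀ i, i < 5968 → P i := stepQ 5967 Q5967 (allL N5967 (tt N6728 (iv F53456)) (tt N5154 F45104) (tt N7300 (iv F56873)) (tt N4860 F45105) (tt N4877 F45106) (tt N7301 D12310) (tt N4859 (iv D9618)) (tt N7302 D12311) (tt N7292 (iv F56847)) (tt N5967 F45107))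
theorem Q5969 : ∀ i, i < 5969 → P i := stepQ 5968 Q5968 (allL N5968 (tt N6729 (iv F53461)) (tt N5155 F45108) (tt N7268 (iv F56745)) (tt N7301 (iv F56877)) (tt N4862 F45109) (tt N4860 (iv D9619)) (tt N5968 F45110) (tt N7303 D12312) (tt N7304 D12313) (tt N5968 F45111))
theorem Q5970 : ∀ i, i < 5970 → P i := stepQ 5969 Q5969 (allL N5969 (tt N6730 (iv F53466)) (tt N5156 F45112) (tt N7269 (iv F56749)) (tt N7302 (iv F56882)) (tt N4861 F45113) (tt N7303 (iv F56887)) (tt N7298 (iv F56867)) (tt N4860 (iv D9620)) (tt N7294 (iv F56852)) (tt N5969 F45114))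
theorem Q5971 : ∀ i, i < 5971 → P i := stepQ 5970 Q5970 (allL N5970 (tt N6731 (iv F53470)) (tt N5157 F45115) (tt N7272 (iv F56761)) (tt N5970 F45116) (tt N7303 (iv F56886)) (tt N4863 F45117) (tt N7305 D12314) (tt N4862 (iv D9621)) (tt N7306 D12315) (tt N5970 F45118))
theorem Q5972 : ∀ i, i < 5972 → P i := stepQ 5971 Q5971 (allL N5971 (tt N6732 (iv F53475)) (tt N5158 F45119) (tt N7273 (iv F56764)) (tt N5971 F45120) (tt N7304 (iv F56890)) (tt N4938 F45121) (tt N5971 F45122) (tt N7306 (iv F56900)) (tt N4862 (iv D9622)) (tt N7307 D12316))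
theorem Q5973 : ∀ i, i < 5973 → P i := stepQ 5972 Q5972 (allL N5972 (tt N6733 (iv F53480)) (tt N5160 F45123) (tt N6735 (iv F53495)) (tt N7308 D12317) (tt N4864 (iv D9623)) (tt N5972 F45124) (tt N7309 D12318) (tt N4939 F45125) (tt N5972 F45126) (tt N6602 (iv F52771)))
theorem Q5974 : ∀ i, i < 5974 → P i := stepQ 5973 Q5973 (allL N5973 (tt N6734 (iv F53487)) (tt N5161 F45127) (tt N6736 (iv F53502)) (tt N7282 (iv F56804)) (tt N7309 (iv F56911)) (tt N4867 F45128) (tt N4864 (iv D9624)) (tt N7310 D12319) (tt N5973 F45129) (tt N6603 (iv F52778)))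
theorem Q5975 : ∀ i, i < 5975 → P i := stepQ 5974 Q5974 (allL N5974 (tt N6735 (iv F53493)) (tt N5162 F45130) (tt N6733 (iv F53482)) (tt N7311 D12320) (tt N4865 (iv D9625)) (tt N5974 F45131) (tt N7312 D12321) (tt N4868 F45132) (tt N5974 F45133) (tt N4866 F45134))
theorem Q5976 : ∀ i, i < 5976 → P i := stepQ 5975 Q5975 (allL N5975 (tt N6736 (iv F53500)) (tt N5163 F45135) (tt N6734 (iv F53489)) (tt N7284 (iv F56814)) (tt N7312 (iv F56923)) (tt N6603 (iv F52776)) (tt N4865 (iv D9626)) (tt N7313 D12322) (tt N5975 F45136) (tt N4867 F45137))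
theorem Q5977 : ∀ i, i < 5977 → P i := stepQ 5976 Q5976 (allL N5976 (tt N6737 (iv F53506)) (tt N5164 F45138) (tt N7314 D12323) (tt N4866 (iv D9627)) (tt N7285 (iv F56819)) (tt N5976 F45139) (tt N7315 D12324) (tt N4870 F45140) (tt N4873 F45141) (tt N7311 (iv F56921)))
theorem Q5978 : ∀ i, i < 5978 → P i := stepQ 5977 Q5977 (allL N5977 (tt N6738 (iv F53511)) (tt N5165 F45142) (tt N7128 (iv F56195)) (tt N7315 (iv F56934)) (tt N4867 F45143) (tt N7316 D12325) (tt N4866 (iv D9628)) (tt N7317 D12326) (tt N4874 F45144) (tt N7312 (iv F56925)))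
theorem Q5979 : ∀ i, i < 5979 → P i := stepQ 5978 Q5978 (allL N5978 (tt N6739 (iv F53515)) (tt N5166 F45145) (tt N7129 (iv F56199)) (tt N7287 (iv F56826)) (tt N7317 (iv F56939)) (tt N7310 (iv F56914)) (tt N4872 F45146) (tt N4867 (iv D9629)) (tt N4875 F45147) (tt N7313 (iv F56929)))
theorem Q5980 : ∀ i, i < 5980 → P i := stepQ 5979 Q5979 (allL N5979 (tt N6740 (iv F53519)) (tt N5167 F45148) (tt N7318 D12327) (tt N4868 (iv D9630)) (tt N7288 (iv F56830)) (tt N5979 F45149) (tt N7319 D12328) (tt N7311 (iv F56919)) (tt N5979 F45150) (tt N4870 F45151))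
theorem Q5981 : ∀ i, i < 5981 → P i := stepQ 5980 Q5980 (allL N5980 (tt N6741 (iv F53524)) (tt N5168 F45152) (tt N6843 (iv F54015)) (tt N7319 (iv F56946)) (tt N4869 F45153) (tt N7320 D12329) (tt N4868 (iv D9631)) (tt N7321 D12330) (tt N5980 F45154) (tt N4871 F45155))
theorem Q5982 : ∀ i, i < 5982 → P i := stepQ 5981 Q5981 (allL N5981 (tt N6742 (iv F53530)) (tt N5169 F45156) (tt N6844 (iv F54021)) (tt N7290 (iv F56838)) (tt N7321 (iv F56954)) (tt N4946 F45157) (tt N7313 (iv F56927)) (tt N4869 (iv D9632)) (tt N5981 F45158) (tt N4872 F45159))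
theorem Q5983 : ∀ i, i < 5983 → P i := stepQ 5982 Q5982 (allL N5982 (tt N6743 (iv F53536)) (tt N7322 D12331) (tt N4870 (iv D9633)) (tt N7130 (iv F56202)) (tt N7291 (iv F56842)) (tt N5982 F45160) (tt N7323 D12332) (tt N7314 (iv F56931)) (tt N4876 F45161) (tt N7318 (iv F56944)))
theorem Q5984 : ∀ i, i < 5984 → P i := stepQ 5983 Q5983 (allL N5983 (tt N6744 (iv F53539)) (tt N5171 F45162) (tt N7323 (iv F56960)) (tt N4871 F45163) (tt N7292 (iv F56846)) (tt N7324 D12333) (tt N4870 (iv D9634)) (tt N7325 D12334) (tt N4877 F45164) (tt N7319 (iv F56948)))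
theorem Q5985 : ∀ i, i < 5985 → P i := stepQ 5984 Q5984 (allL N5984 (tt N6745 (iv F53543)) (tt N5172 F45165) (tt N7132 (iv F56209)) (tt N7324 (iv F56963)) (tt N4949 F45166) (tt N4871 (iv D9635)) (tt N5984 F45167) (tt N7326 D12335) (tt N5984 F45168) (tt N7320 (iv F56952)))
theorem Q5986 : ∀ i, i < 5986 → P i := stepQ 5985 Q5985 (allL N5985 (tt N6746 (iv F53548)) (tt N5173 F45169) (tt N7133 (iv F56214)) (tt N7325 (iv F56967)) (tt N4872 F45170) (tt N7326 (iv F56971)) (tt N7317 (iv F56940)) (tt N4871 (iv D9636)) (tt N4878 F45171) (tt N7321 (iv F56956)))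
theorem Q5987 : ∀ i, i < 5987 → P i := stepQ 5986 Q5986 (allL N5986 (tt N6747 (iv F53552)) (tt N7327 D12336) (tt N4873 (iv D9637)) (tt N7134 (iv F56217)) (tt N7295 (iv F56853)) (tt N4879 F45172) (tt N7328 D12337) (tt N4876 F45173) (tt N7314 (iv F56932)) (tt N5986 F45174))
theorem Q5988 : ∀ i, i < 5988 → P i := stepQ 5987 Q5987 (allL N5987 (tt N6748 (iv F53556)) (tt N5175 F45175) (tt N7328 (iv F56977)) (tt N4874 F45176) (tt N7296 (iv F56859)) (tt N7329 D12338) (tt N4873 (iv D9638)) (tt N7330 D12339) (tt N7315 (iv F56935)) (tt N5987 F45177))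
theorem Q5989 : ∀ i, i < 5989 → P i := stepQ 5988 Q5988 (allL N5988 (tt N6749 (iv F53560)) (tt N5176 F45178) (tt N7136 (iv F56225)) (tt N7329 (iv F56980)) (tt N5988 F45179) (tt N4874 (iv D9639)) (tt N4881 F45180) (tt N7331 D12340) (tt N7332 D12341) (tt N5988 F45181))
theorem Q5990 : ∀ i, i < 5990 → P i := stepQ 5989 Q5989 (allL N5989 (tt N6750 (iv F53565)) (tt N5177 F45182) (tt N7137 (iv F56230)) (tt N7330 (iv F56984)) (tt N4875 F45183) (tt N7331 (iv F56989)) (tt N4878 F45184) (tt N4874 (iv D9640)) (tt N7317 (iv F56941)) (tt N5989 F45185))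
theorem Q5991 : ∀ i, i < 5991 → P i := stepQ 5990 Q5990 (allL N5990 (tt N7333 D12342) (tt N4876 (iv D9641)) (tt N5178 F45186) (tt N7138 (iv F56235)) (tt N7299 (iv F56870)) (tt N4882 F45187) (tt N7334 D12343) (tt N7327 (iv F56975)) (tt N7322 (iv F56959)) (tt N5990 F45188))
theorem Q5992 : ∀ i, i < 5992 → P i := stepQ 5991 Q5991 (allL N5991 (tt N6752 (iv F53573)) (tt N7334 (iv F56998)) (tt N4877 F45189) (tt N7139 (iv F56239)) (tt N7300 (iv F56874)) (tt N5991 F45190) (tt N4876 (iv D9642)) (tt N7335 D12344) (tt N7323 (iv F56961)) (tt N5991 F45191))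
theorem Q5993 : ∀ i, i < 5993 → P i := stepQ 5992 Q5992 (allL N5992 (tt N6753 (iv F53577)) (tt N5180 F45192) (tt N7335 (iv F57002)) (tt N4878 F45193) (tt N7302 (iv F56883)) (tt N5992 F45194) (tt N7330 (iv F56985)) (tt N4877 (iv D9643)) (tt N7325 (iv F56968)) (tt N5992 F45195))
theorem Q5994 : ∀ i, i < 5994 → P i := stepQ 5993 Q5993 (allL N5993 (tt N7336 D12345) (tt N4879 (iv D9644)) (tt N5181 F45196) (tt N7141 (iv F56247)) (tt N5993 F45197) (tt N7327 (iv F56974)) (tt N7337 D12346) (tt N4882 F45198) (tt N5993 F45199) (tt N5993 F45200))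
theorem Q5995 : ∀ i, i < 5995 → P i := stepQ 5994 Q5994 (allL N5994 (tt N6755 (iv F53587)) (tt N7337 (iv F57010)) (tt N4880 F45201) (tt N6988 (iv F135117)) (tt N5994 F45202) (tt N7338 D12347) (tt N4879 (iv D9645)) (tt N5994 F45203) (tt N5994 F45204) (tt N5994 F45205))
theorem Q5996 : ∀ i, i < 5996 → P i := stepQ 5995 Q5995 (allL N5995 (tt N6756 (iv F53593)) (tt N5183 F45206) (tt N7338 (iv F57016)) (tt N4881 F45207) (tt N7339 D12348) (tt N4880 (iv D9646)) (tt N7329 (iv F56981)) (tt N5995 F45208) (tt N7340 D12349) (tt N5995 F45209))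
theorem Q5997 : ∀ i, i < 5997 → P i := stepQ 5996 Q5996 (allL N5996 (tt N6757 (iv F53598)) (tt N5184 F45210) (tt N7142 (iv F56261)) (tt N7340 (iv F57025)) (tt N5996 F45211) (tt N5996 F45212) (tt N7332 (iv F56994)) (tt N5996 F45213) (tt N4881 (iv D9647)) (tt N7341 D12350))
theorem Q5998 : ∀ i, i < 5998 → P i := stepQ 5997 Q5997 (allL N5997 (tt N4882 (iv D9648)) (tt N6758 (iv F53603)) (tt N5185 F45214) (tt N7143 (iv F56266)) (tt N5997 F45215) (tt N7333 (iv F56996)) (tt N5997 F45216) (tt N7336 (iv F57007)) (tt N5997 F45217) (tt N5997 F45218))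
theorem Q5999 : ∀ i, i < 5999 → P i := stepQ 5998 Q5998 (allL N5998 (tt N4891 F45219) (tt N6761 (iv F53626)) (tt N5186 F45220) (tt N6760 (iv F53620)) (tt N6697 (iv F53304)) (tt N7342 D12351) (tt N6694 (iv F53286)) (tt N6616 (iv F52856)) (tt N4883 (iv D9649)) (tt N4884 F45221))
theorem Q6000 : ∀ i, i < 6000 → P i := stepQ 5999 Q5999 (allL N5999 (tt N4892 F45222) (tt N6762 (iv F53634)) (tt N5187 F45223) (tt N7144 (iv F56272)) (tt N7343 D12352) (tt N4884 (iv D9650)) (tt N7344 D12353) (tt N7100 (iv F56082)) (tt N4886 F45224) (tt N7342 (iv F57036)))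
theorem Q6001 : ∀ i, i < 6001 → P i := stepQ 6000 Q6000 (allL N6000 (tt N4893 F45225) (tt N6763 (iv F53638)) (tt N5188 F45226) (tt N6866 (iv F54168)) (tt N7345 D12354) (tt N4885 (iv D9651)) (tt N7346 D12355) (tt N4886 F45227) (tt N7100 (iv F56083)) (tt N4961 F45228))
theorem Q6002 : ∀ i, i < 6002 → P i := stepQ 6001 Q6001 (allL N6001 (tt N4894 F45229) (tt N6764 (iv F53644)) (tt N5189 F45230) (tt N7347 D12356) (tt N4886 (iv D9652)) (tt N5034 F45231) (tt N7348 D12357) (tt N7345 (iv F57046)) (tt N7343 (iv F57039)) (tt N4962 F45232))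
theorem Q6003 : ∀ i, i < 6003 → P i := stepQ 6002 Q6002 (allL N6002 (tt N4895 F45233) (tt N6765 (iv F53649)) (tt N5190 F45234) (tt N7146 (iv F56280)) (tt N7348 (iv F57057)) (tt N4888 F45235) (tt N4886 (iv D9653)) (tt N7349 D12358) (tt N7344 (iv F57042)) (tt N4963 F45236))
theorem Q6004 : ∀ i, i < 6004 → P i := stepQ 6003 Q6003 (allL N6003 (tt N4896 F45237) (tt N6766 (iv F53654)) (tt N5029 (iv F132801)) (tt N4887 (iv D9654)) (tt N7147 (iv F56284)) (tt N5028 F132249) (tt N7350 D12360) (tt N6003 F45239) (tt N7236 (iv F56623)) (tt N4964 F45240))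
theorem Q6005 : ∀ i, i < 6005 → P i := stepQ 6004 Q6004 (allL N6004 (tt N4897 F45241) (tt N6767 (iv F53659)) (tt N5191 F45242) (tt N7350 (iv F57069)) (tt N4888 F45243) (tt N6859 (iv F132770)) (tt N4887 (iv D9655)) (tt N7351 D12362) (tt N7237 (iv F56628)) (tt N4965 F45244))
theorem Q6006 : ∀ i, i < 6006 → P i := stepQ 6005 Q6005 (allL N6005 (tt N4898 F45245) (tt N6768 (iv F53664)) (tt N5192 F45246) (tt N7149 (iv F56294)) (tt N7351 (iv F57077)) (tt N7349 (iv F57061)) (tt N6005 F45247) (tt N4888 (iv D9656)) (tt N7238 (iv F56633)) (tt N4966 F45248))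
theorem Q6007 : ∀ i, i < 6007 → P i := stepQ 6006 Q6006 (allL N6006 (tt N7101 (iv F56084)) (tt N4903 F45249) (tt N5193 F45250) (tt N6699 (iv F53319)) (tt N7352 D12363) (tt N4889 (iv D9657)) (tt N7353 D12364) (tt N6589 (iv F52696)) (tt N5035 F45251) (tt N7255 (iv F56710)))
theorem Q6008 : ∀ i, i < 6008 → P i := stepQ 6007 Q6007 (allL N6007 (tt N7100 (iv F56080)) (tt N4905 F45252) (tt N5194 F45253) (tt N6773 (iv F53695)) (tt N7354 D12365) (tt N4890 (iv D9658)) (tt N7355 D12366) (tt N4892 F45254) (tt N4893 F45255) (tt N6620 (iv F52878)))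
theorem Q6009 : ∀ i, i < 6009 → P i := stepQ 6008 Q6008 (allL N6008 (tt N7342 (iv F57033)) (tt N4906 F45256) (tt N5195 F45257) (tt N6772 (iv F53689)) (tt N7356 D12367) (tt N4891 (iv D9659)) (tt N7357 D12368) (tt N6620 (iv F52876)) (tt N4967 F45258) (tt N4892 F45259))
theorem Q6010 : ∀ i, i < 6010 → P i := stepQ 6009 Q6009 (allL N6009 (tt N7343 (iv F57037)) (tt N4907 F45260) (tt N5196 F45261) (tt N7358 D12369) (tt N4892 (iv D9660)) (tt N7352 (iv F57082)) (tt N7359 D12370) (tt N7354 (iv F57089)) (tt N4894 F45262) (tt N7356 (iv F57097)))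
theorem Q6011 : ∀ i, i < 6011 → P i := stepQ 6010 Q6010 (allL N6010 (tt N7344 (iv F57040)) (tt N4908 F45263) (tt N5197 F45264) (tt N7152 (iv F56305)) (tt N7359 (iv F57106)) (tt N7243 (iv F56655)) (tt N4892 (iv D9661)) (tt N7360 D12371) (tt N4895 F45265) (tt N7357 (iv F57101)))
theorem Q6012 : ∀ i, i < 6012 → P i := stepQ 6011 Q6011 (allL N6011 (tt N7345 (iv F57043)) (tt N4909 F45266) (tt N5198 F45267) (tt N7361 D12372) (tt N4893 (iv D9662)) (tt N5039 F45268) (tt N7362 D12373) (tt N4894 F45269) (tt N7354 (iv F57090)) (tt N4970 F45270))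
theorem Q6013 : ∀ i, i < 6013 → P i := stepQ 6012 Q6012 (allL N6012 (tt N7346 (iv F57048)) (tt N4910 F45271) (tt N5199 F45272) (tt N6878 (iv F54232)) (tt N7362 (iv F57117)) (tt N6012 F45273) (tt N4893 (iv D9663)) (tt N7363 D12374) (tt N7355 (iv F57093)) (tt N4971 F45274))
theorem Q6014 : ∀ i, i < 6014 → P i := stepQ 6013 Q6013 (allL N6013 (tt N7347 (iv F57052)) (tt N4911 F45275) (tt N7364 D12375) (tt N4894 (iv D9664)) (tt N7153 (iv F56308)) (tt N5041 F45276) (tt N7365 D12376) (tt N7361 (iv F57113)) (tt N7358 (iv F57103)) (tt N4972 F45277))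
theorem Q6015 : ∀ i, i < 6015 → P i := stepQ 6014 Q6014 (allL N6014 (tt N7348 (iv F57055)) (tt N4912 F45278) (tt N5200 F45279) (tt N7365 (iv F57128)) (tt N4895 F45280) (tt N7366 D12377) (tt N4894 (iv D9665)) (tt N7367 D12378) (tt N7359 (iv F57107)) (tt N4973 F45281))
theorem Q6016 : ∀ i, i < 6016 → P i := stepQ 6015 Q6015 (allL N6015 (tt N7349 (iv F57059)) (tt N4913 F45282) (tt N5201 F45283) (tt N7155 (iv F56317)) (tt N7367 (iv F57137)) (tt N4898 F45284) (tt N7363 (iv F57122)) (tt N4895 (iv D9666)) (tt N7360 (iv F57110)) (tt N4974 F45285))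
theorem Q6017 : ∀ i, i < 6017 → P i := stepQ 6016 Q6016 (allL N6016 (tt N7350 (iv F57068)) (tt N4914 F45291) (tt N6943 (iv F132804)) (tt N4897 F45292) (tt N7156 (iv F56328)) (tt N6942 (iv F132774)) (tt N4896 (iv D9668)) (tt N7368 D12381) (tt N7249 (iv F56685)) (tt N4975 F45293))
theorem Q6018 : ∀ i, i < 6018 → P i := stepQ 6017 Q6017 (allL N6017 (tt N6859 (iv F132768)) (tt N4915 F45294) (tt N4952 (iv F132596)) (tt N6942 (iv F132773)) (tt N7366 (iv F57132)) (tt N4897 (iv D9669)) (tt N4951 F132228) (tt N7369 D12382) (tt N7370 D12383) (tt N4976 F45297))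
theorem Q6019 : ∀ i, i < 6019 → P i := stepQ 6018 Q6018 (allL N6018 (tt N7351 (iv F57075)) (tt N4916 F45298) (tt N5202 F45299) (tt N7368 (iv F57148)) (tt N4898 F45300) (tt N7369 (iv F57153)) (tt N6018 F45301) (tt N4897 (iv D9670)) (tt N7251 (iv F56695)) (tt N4977 F45302))
theorem Q6020 : ∀ i, i < 6020 → P i := stepQ 6019 Q6019 (allL N6019 (tt N6686 (iv F53235)) (tt N6698 (iv F53309)) (tt N6019 F45303) (tt N4902 F45304) (tt N6682 (iv F53213)) (tt N7371 D12384) (tt N6759 (iv F53614)) (tt N6626 (iv F52907)) (tt N4899 (iv D9671)) (tt N4900 F45305))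
theorem Q6021 : ∀ i, i < 6021 → P i := stepQ 6020 Q6020 (allL N6020 (tt N6785 (iv F53743)) (tt N6699 (iv F53317)) (tt N6020 F45306) (tt N4903 F45307) (tt N7372 D12385) (tt N4900 (iv D9672)) (tt N7373 D12386) (tt N6687 (iv F53246)) (tt N5043 F45308) (tt N7371 (iv F57161)))
theorem Q6022 : ∀ i, i < 6022 → P i := stepQ 6021 Q6021 (allL N6021 (tt N6786 (iv F53747)) (tt N6589 (iv F52693)) (tt N4918 F45309) (tt N6687 (iv F53245)) (tt N7374 D12387) (tt N4901 (iv D9673)) (tt N7375 D12388) (tt N4903 F45310) (tt N5044 F45311) (tt N6627 (iv F52914)))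
theorem Q6023 : ∀ i, i < 6023 → P i := stepQ 6022 Q6022 (allL N6022 (tt N6787 (iv F53752)) (tt N7255 (iv F56706)) (tt N4919 F45312) (tt N7371 (iv F57159)) (tt N7376 D12389) (tt N4902 (iv D9674)) (tt N7377 D12390) (tt N6627 (iv F52912)) (tt N6022 F45313) (tt N4903 F45314))
theorem Q6024 : ∀ i, i < 6024 → P i := stepQ 6023 Q6023 (allL N6023 (tt N6788 (iv F53757)) (tt N7352 (iv F57080)) (tt N4920 F45315) (tt N7378 D12391) (tt N4903 (iv D9675)) (tt N4907 F45316) (tt N7379 D12392) (tt N7374 (iv F57169)) (tt N5045 F45317) (tt N7376 (iv F57176)))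
theorem Q6025 : ∀ i, i < 6025 → P i := stepQ 6024 Q6024 (allL N6024 (tt N6789 (iv F53761)) (tt N7353 (iv F57084)) (tt N4921 F45318) (tt N7373 (iv F57165)) (tt N7379 (iv F57183)) (tt N7254 (iv F56704)) (tt N4903 (iv D9676)) (tt N7380 D12393) (tt N5046 F45319) (tt N7377 (iv F57179)))
theorem Q6026 : ∀ i, i < 6026 → P i := stepQ 6025 Q6025 (allL N6025 (tt N6790 (iv F53764)) (tt N6627 (iv F52910)) (tt N4922 F45320) (tt N6700 (iv F53324)) (tt N7381 D12394) (tt N4904 (iv D9677)) (tt N7382 D12395) (tt N7255 (iv F56708)) (tt N6025 F45321) (tt N6589 (iv F52698)))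
theorem Q6027 : ∀ i, i < 6027 → P i := stepQ 6026 Q6026 (allL N6026 (tt N6791 (iv F53769)) (tt N7354 (iv F57087)) (tt N4923 F45322) (tt N7383 D12396) (tt N4905 (iv D9678)) (tt N7374 (iv F57168)) (tt N7384 D12397) (tt N4907 F45323) (tt N4909 F45324) (tt N6628 (iv F52919)))
theorem Q6028 : ∀ i, i < 6028 → P i := stepQ 6027 Q6027 (allL N6027 (tt N6792 (iv F53774)) (tt N7355 (iv F57091)) (tt N4924 F45325) (tt N6794 (iv F53786)) (tt N7384 (iv F57195)) (tt N7382 (iv F57190)) (tt N4905 (iv D9679)) (tt N7385 D12398) (tt N4910 F45326) (tt N6629 (iv F52924)))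
theorem Q6029 : ∀ i, i < 6029 → P i := stepQ 6028 Q6028 (allL N6028 (tt N6793 (iv F53779)) (tt N7356 (iv F57094)) (tt N4925 F45327) (tt N7386 D12399) (tt N4906 (iv D9680)) (tt N7376 (iv F57174)) (tt N7387 D12400) (tt N6628 (iv F52917)) (tt N4978 F45328) (tt N4907 F45329))
theorem Q6030 : ∀ i, i < 6030 → P i := stepQ 6029 Q6029 (allL N6029 (tt N6794 (iv F53784)) (tt N7357 (iv F57098)) (tt N4926 F45330) (tt N6792 (iv F53776)) (tt N7387 (iv F57203)) (tt N7259 (iv F56720)) (tt N4906 (iv D9681)) (tt N7388 D12401) (tt N4979 F45331) (tt N4908 F45332))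
theorem Q6031 : ∀ i, i < 6031 → P i := stepQ 6030 Q6030 (allL N6030 (tt N6795 (iv F53789)) (tt N7358 (iv F57102)) (tt N7389 D12402) (tt N4907 (iv D9682)) (tt N7162 (iv F56347)) (tt N7378 (iv F57180)) (tt N7390 D12403) (tt N7383 (iv F57192)) (tt N4911 F45333) (tt N7386 (iv F57201)))
theorem Q6032 : ∀ i, i < 6032 → P i := stepQ 6031 Q6031 (allL N6031 (tt N6796 (iv F53791)) (tt N7359 (iv F57104)) (tt N4928 F45334) (tt N7390 (iv F57211)) (tt N4908 F45335) (tt N7391 D12404) (tt N4907 (iv D9683)) (tt N7392 D12405) (tt N4912 F45336) (tt N7387 (iv F57205)))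
theorem Q6033 : ∀ i, i < 6033 → P i := stepQ 6032 Q6032 (allL N6032 (tt N6797 (iv F53795)) (tt N7360 (iv F57108)) (tt N4929 F45337) (tt N7164 (iv F56353)) (tt N7392 (iv F57215)) (tt N7262 (iv F56728)) (tt N7385 (iv F57198)) (tt N4908 (iv D9684)) (tt N4913 F45338) (tt N7388 (iv F57208)))
theorem Q6034 : ∀ i, i < 6034 → P i := stepQ 6033 Q6033 (allL N6033 (tt N6798 (iv F53798)) (tt N7361 (iv F57111)) (tt N7393 D12406) (tt N4909 (iv D9685)) (tt N6894 (iv F54295)) (tt N5053 F45339) (tt N7394 D12407) (tt N4911 F45340) (tt N7383 (iv F57193)) (tt N4983 F45341))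
theorem Q6035 : ∀ i, i < 6035 → P i := stepQ 6034 Q6034 (allL N6034 (tt N6799 (iv F53803)) (tt N7362 (iv F57115)) (tt N4931 F45342) (tt N7394 (iv F57221)) (tt N4910 F45343) (tt N7395 D12408) (tt N4909 (iv D9686)) (tt N7396 D12409) (tt N7384 (iv F57196)) (tt N4984 F45344))
theorem Q6036 : ∀ i, i < 6036 → P i := stepQ 6035 Q6035 (allL N6035 (tt N6800 (iv F53807)) (tt N7363 (iv F57119)) (tt N4932 F45345) (tt N6896 (iv F54305)) (tt N7396 (iv F57228)) (tt N6035 F45346) (tt N4913 F45347) (tt N4910 (iv D9687)) (tt N7385 (iv F57199)) (tt N4985 F45348))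
theorem Q6037 : ∀ i, i < 6037 → P i := stepQ 6036 Q6036 (allL N6036 (tt N6801 (iv F53813)) (tt N7397 D12410) (tt N4911 (iv D9688)) (tt N4933 F45349) (tt N7165 (iv F56356)) (tt N5056 F45350) (tt N7398 D12411) (tt N7393 (iv F57219)) (tt N7389 (iv F57210)) (tt N4986 F45351))
theorem Q6038 : ∀ i, i < 6038 → P i := stepQ 6037 Q6037 (allL N6037 (tt N6802 (iv F53817)) (tt N7365 (iv F57127)) (tt N7398 (iv F57234)) (tt N4912 F45352) (tt N7166 (iv F56360)) (tt N7399 D12412) (tt N4911 (iv D9689)) (tt N7400 D12413) (tt N7390 (iv F57212)) (tt N4987 F45353))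
theorem Q6039 : ∀ i, i < 6039 → P i := stepQ 6038 Q6038 (allL N6038 (tt N6803 (iv F53820)) (tt N7366 (iv F57130)) (tt N4935 F45354) (tt N7399 (iv F57237)) (tt N4915 F45355) (tt N4912 (iv D9690)) (tt N5058 F45356) (tt N7401 D12414) (tt N7402 D12415) (tt N4988 F45357))
theorem Q6040 : ∀ i, i < 6040 → P i := stepQ 6039 Q6039 (allL N6039 (tt N6804 (iv F53825)) (tt N7367 (iv F57135)) (tt N4936 F45358) (tt N7400 (iv F57240)) (tt N4913 F45359) (tt N7401 (iv F57244)) (tt N7396 (iv F57229)) (tt N4912 (iv D9691)) (tt N7392 (iv F57216)) (tt N4989 F45360))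
theorem Q6041 : ∀ i, i < 6041 → P i := stepQ 6040 Q6040 (allL N6040 (tt N6805 (iv F53829)) (tt N6942 (iv F132772)) (tt N6040 F45361) (tt N4915 F45362) (tt N7403 D12416) (tt N4914 (iv D9692)) (tt N5060 F45363) (tt N7404 D12417) (tt N7405 D12418) (tt N4990 F45364))
theorem Q6042 : ∀ i, i < 6042 → P i := stepQ 6041 Q6041 (allL N6041 (tt N6806 (iv F53834)) (tt N7368 (iv F57147)) (tt N6041 F45365) (tt N4916 F45366) (tt N7170 (iv F56375)) (tt N7404 (iv F57254)) (tt N6041 F45367) (tt N4914 (iv D9693)) (tt N7271 (iv F56759)) (tt N4991 F45368))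
theorem Q6043 : ∀ i, i < 6043 → P i := stepQ 6042 Q6042 (allL N6042 (tt N6807 (iv F53839)) (tt N7369 (iv F57151)) (tt N4937 F45369) (tt N7404 (iv F57253)) (tt N7401 (iv F57243)) (tt N4916 F45370) (tt N7406 D12419) (tt N4915 (iv D9694)) (tt N7407 D12420) (tt N4992 F45371))
theorem Q6044 : ∀ i, i < 6044 → P i := stepQ 6043 Q6043 (allL N6043 (tt N6808 (iv F53843)) (tt N7370 (iv F57155)) (tt N4938 F45372) (tt N7405 (iv F57257)) (tt N7402 (iv F57247)) (tt N7273 (iv F56765)) (tt N5061 F45373) (tt N7407 (iv F57264)) (tt N4915 (iv D9695)) (tt N7408 D12421))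
theorem Q6045 : ∀ i, i < 6045 → P i := stepQ 6044 Q6044 (allL N6044 (tt N6809 (iv F53846)) (tt N5207 F45374) (tt N6620 (iv F52874)) (tt N6044 F45375) (tt N7409 D12422) (tt N4917 (iv D9696)) (tt N7410 D12423) (tt N5195 F45376) (tt N5283 F45377) (tt N5194 F45378))
theorem Q6046 : ∀ i, i < 6046 → P i := stepQ 6045 Q6045 (allL N6045 (tt N6810 (iv F53852)) (tt N5225 F45379) (tt N7374 (iv F57167)) (tt N7411 D12424) (tt N4918 (iv D9697)) (tt N4923 F45380) (tt N7412 D12425) (tt N4920 F45381) (tt N5063 F45382) (tt N6636 (iv F52959)))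
theorem Q6047 : ∀ i, i < 6047 → P i := stepQ 6046 Q6046 (allL N6046 (tt N6811 (iv F53858)) (tt N5226 F45383) (tt N7375 (iv F57171)) (tt N6046 F45384) (tt N7412 (iv F57284)) (tt N7410 (iv F57275)) (tt N4918 (iv D9698)) (tt N7413 D12426) (tt N5064 F45385) (tt N6637 (iv F52965)))
theorem Q6048 : ∀ i, i < 6048 → P i := stepQ 6047 Q6047 (allL N6047 (tt N6812 (iv F53863)) (tt N5227 F45386) (tt N7376 (iv F57173)) (tt N7414 D12427) (tt N4919 (iv D9699)) (tt N4925 F45387) (tt N7415 D12428) (tt N6636 (iv F52957)) (tt N6047 F45388) (tt N4920 F45389))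
theorem Q6049 : ∀ i, i < 6049 → P i := stepQ 6048 Q6048 (allL N6048 (tt N6813 (iv F53869)) (tt N5228 F45390) (tt N7377 (iv F57177)) (tt N6048 F45391) (tt N7415 (iv F57296)) (tt N7277 (iv F56784)) (tt N4919 (iv D9700)) (tt N7416 D12429) (tt N6048 F45392) (tt N4921 F45393))
theorem Q6050 : ∀ i, i < 6050 → P i := stepQ 6049 Q6049 (allL N6049 (tt N6814 (iv F53874)) (tt N5229 F45394) (tt N7417 D12430) (tt N4920 (iv D9701)) (tt N6049 F45395) (tt N4927 F45396) (tt N7418 D12431) (tt N7411 (iv F57281)) (tt N5065 F45397) (tt N7414 (iv F57294)))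
theorem Q6051 : ∀ i, i < 6051 → P i := stepQ 6050 Q6050 (allL N6050 (tt N6815 (iv F53879)) (tt N5230 F45398) (tt N7379 (iv F57182)) (tt N7418 (iv F57307)) (tt N4921 F45399) (tt N7419 D12432) (tt N4920 (iv D9702)) (tt N7420 D12433) (tt N5066 F45400) (tt N7415 (iv F57298)))
theorem Q6052 : ∀ i, i < 6052 → P i := stepQ 6051 Q6051 (allL N6051 (tt N6816 (iv F53883)) (tt N5231 F45401) (tt N7380 (iv F57185)) (tt N6051 F45402) (tt N7420 (iv F57313)) (tt N7280 (iv F56796)) (tt N7413 (iv F57288)) (tt N4921 (iv D9703)) (tt N5067 F45403) (tt N7416 (iv F57302)))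
theorem Q6053 : ∀ i, i < 6053 → P i := stepQ 6052 Q6052 (allL N6052 (tt N6817 (iv F53887)) (tt N5232 F45404) (tt N7381 (iv F57187)) (tt N7421 D12434) (tt N4922 (iv D9704)) (tt N7409 (iv F57269)) (tt N7422 D12435) (tt N7281 (iv F56800)) (tt N6052 F45405) (tt N6595 (iv F52733)))
theorem Q6054 : ∀ i, i < 6054 → P i := stepQ 6053 Q6053 (allL N6053 (tt N6818 (iv F53891)) (tt N5233 F45406) (tt N7382 (iv F57189)) (tt N4940 F45407) (tt N7422 (iv F57319)) (tt N4924 F45408) (tt N4922 (iv D9705)) (tt N7423 D12436) (tt N6053 F45409) (tt N6596 (iv F52739)))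
theorem Q6055 : ∀ i, i < 6055 → P i := stepQ 6054 Q6054 (allL N6054 (tt N6819 (iv F53897)) (tt N5236 F45410) (tt N7424 D12437) (tt N4923 (iv D9706)) (tt N4941 F45411) (tt N7411 (iv F57280)) (tt N7425 D12438) (tt N4927 F45412) (tt N4930 F45413) (tt N6638 (iv F52971)))
theorem Q6056 : ∀ i, i < 6056 → P i := stepQ 6055 Q6055 (allL N6055 (tt N6820 (iv F53903)) (tt N5237 F45414) (tt N7384 (iv F57194)) (tt N7425 (iv F57329)) (tt N4924 F45415) (tt N7426 D12439) (tt N4923 (iv D9707)) (tt N7427 D12440) (tt N4931 F45416) (tt N6639 (iv F52976)))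
theorem Q6057 : ∀ i, i < 6057 → P i := stepQ 6056 Q6056 (allL N6056 (tt N6821 (iv F53908)) (tt N5238 F45417) (tt N7385 (iv F57197)) (tt N4943 F45418) (tt N7427 (iv F57334)) (tt N7423 (iv F57323)) (tt N4929 F45419) (tt N4924 (iv D9708)) (tt N4932 F45420) (tt N6640 (iv F52982)))
theorem Q6058 : ∀ i, i < 6058 → P i := stepQ 6057 Q6057 (allL N6057 (tt N6822 (iv F53914)) (tt N5239 F45421) (tt N7428 D12441) (tt N4925 (iv D9709)) (tt N4944 F45422) (tt N7414 (iv F57292)) (tt N7429 D12442) (tt N6638 (iv F52969)) (tt N4994 F45423) (tt N4927 F45424))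
theorem Q6059 : ∀ i, i < 6059 → P i := stepQ 6058 Q6058 (allL N6058 (tt N6823 (iv F53920)) (tt N5240 F45425) (tt N7387 (iv F57202)) (tt N7429 (iv F57341)) (tt N4926 F45426) (tt N7430 D12443) (tt N4925 (iv D9710)) (tt N7431 D12444) (tt N4995 F45427) (tt N4928 F45428))
theorem Q6060 : ∀ i, i < 6060 → P i := stepQ 6059 Q6059 (allL N6059 (tt N6824 (iv F53925)) (tt N5241 F45429) (tt N7388 (iv F57206)) (tt N4946 F45430) (tt N7431 (iv F57348)) (tt N7290 (iv F56839)) (tt N6640 (iv F52980)) (tt N4926 (iv D9711)) (tt N4996 F45431) (tt N4929 F45432))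
theorem Q6061 : ∀ i, i < 6061 → P i := stepQ 6060 Q6060 (allL N6060 (tt N6825 (iv F53931)) (tt N7432 D12445) (tt N4927 (iv D9712)) (tt N7389 (iv F57209)) (tt N4947 F45433) (tt N7417 (iv F57304)) (tt N7433 D12446) (tt N7424 (iv F57326)) (tt N4933 F45434) (tt N7428 (iv F57339)))
theorem Q6062 : ∀ i, i < 6062 → P i := stepQ 6061 Q6061 (allL N6061 (tt N6826 (iv F53934)) (tt N5243 F45435) (tt N7433 (iv F57354)) (tt N4928 F45436) (tt N4948 F45437) (tt N7434 D12447) (tt N4927 (iv D9713)) (tt N7435 D12448) (tt N4934 F45438) (tt N7429 (iv F57344)))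
theorem Q6063 : ∀ i, i < 6063 → P i := stepQ 6062 Q6062 (allL N6062 (tt N6827 (iv F53939)) (tt N5244 F45439) (tt N7391 (iv F57213)) (tt N7434 (iv F57358)) (tt N7293 (iv F56849)) (tt N4928 (iv D9714)) (tt N7419 (iv F57311)) (tt N7436 D12449) (tt N7437 D12450) (tt N7430 (iv F57346)))
theorem Q6064 : ∀ i, i < 6064 → P i := stepQ 6063 Q6063 (allL N6063 (tt N6828 (iv F53941)) (tt N5245 F45440) (tt N7392 (iv F57214)) (tt N7435 (iv F57360)) (tt N4929 F45441) (tt N7436 (iv F57364)) (tt N7427 (iv F57335)) (tt N4928 (iv D9715)) (tt N4936 F45442) (tt N7431 (iv F57350)))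
theorem Q6065 : ∀ i, i < 6065 → P i := stepQ 6064 Q6064 (allL N6064 (tt N6829 (iv F53945)) (tt N5058 (iv F132749)) (tt N4930 (iv D9716)) (tt N7393 (iv F57217)) (tt N4951 F45443) (tt N5042 F132212) (tt N7366 (iv F132752)) (tt N4933 F45445) (tt N7424 (iv F57327)) (tt N5001 F45446))
theorem Q6066 : ∀ i, i < 6066 → P i := stepQ 6065 Q6065 (allL N6065 (tt N6830 (iv F53950)) (tt N5220 F133079) (tt N7366 F133080) (tt N4931 F45448) (tt N4952 F45449) (tt N5200 F133081) (tt N4930 (iv D9717)) (tt N7438 D12454) (tt N7425 (iv F57331)) (tt N5002 F45450))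
theorem Q6067 : ∀ i, i < 6067 → P i := stepQ 6066 Q6066 (allL N6066 (tt N6831 (iv F53955)) (tt N5219 F133077) (tt N7395 (iv F57223)) (tt N5200 F133078) (tt N6066 F45452) (tt N4931 (iv D9718)) (tt N5077 F45453) (tt N7439 D12455) (tt N7440 D12456) (tt N5003 F45454))
theorem Q6068 : ∀ i, i < 6068 → P i := stepQ 6067 Q6067 (allL N6067 (tt N6832 (iv F53960)) (tt N5246 F45455) (tt N7396 (iv F57227)) (tt N7438 (iv F57380)) (tt N4932 F45456) (tt N7439 (iv F57386)) (tt N4936 F45457) (tt N4931 (iv D9719)) (tt N7427 (iv F57336)) (tt N5004 F45458))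
theorem Q6069 : ∀ i, i < 6069 → P i := stepQ 6068 Q6068 (allL N6068 (tt N7005 (iv F132753)) (tt N4933 (iv D9720)) (tt N5082 (iv F132589)) (tt N7397 (iv F57231)) (tt N4955 F45460) (tt N5059 F132213) (tt N7441 D12458) (tt N5058 (iv F132750)) (tt N7432 (iv F57353)) (tt N5005 F45462))
theorem Q6070 : ∀ i, i < 6070 → P i := stepQ 6069 Q6069 (allL N6069 (tt N6834 (iv F53969)) (tt N7441 (iv F57395)) (tt N4934 F45463) (tt N7398 (iv F57235)) (tt N4956 F45464) (tt N7442 D12459) (tt N4933 (iv D9721)) (tt N7443 D12460) (tt N7433 (iv F57356)) (tt N5006 F45465))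
theorem Q6071 : ∀ i, i < 6071 → P i := stepQ 6070 Q6070 (allL N6070 (tt N6835 (iv F53973)) (tt N5248 F45466) (tt N7442 (iv F57399)) (tt N4935 F45467) (tt N6070 F45468) (tt N4934 (iv D9722)) (tt N5080 F45469) (tt N7444 D12461) (tt N7445 D12462) (tt N5007 F45470))
theorem Q6072 : ∀ i, i < 6072 → P i := stepQ 6071 Q6071 (allL N6071 (tt N6836 (iv F53979)) (tt N5249 F45471) (tt N7443 (iv F57403)) (tt N4936 F45472) (tt N4957 F45473) (tt N7444 (iv F57409)) (tt N7438 (iv F57382)) (tt N4934 (iv D9723)) (tt N7435 (iv F57362)) (tt N5008 F45474))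
theorem Q6073 : ∀ i, i < 6073 → P i := stepQ 6072 Q6072 (allL N6072 (tt N6837 (iv F53984)) (tt N5250 F45475) (tt N7401 (iv F57242)) (tt N7444 (iv F57407)) (tt N4937 F45476) (tt N4936 F45477) (tt N7446 D12463) (tt N4935 (iv D9724)) (tt N7447 D12464) (tt N5009 F45478))
theorem Q6074 : ∀ i, i < 6074 → P i := stepQ 6073 Q6073 (allL N6073 (tt N6838 (iv F53989)) (tt N5251 F45479) (tt N7402 (iv F57246)) (tt N7445 (iv F57412)) (tt N4938 F45480) (tt N7437 (iv F57366)) (tt N5083 F45481) (tt N7447 (iv F57421)) (tt N4935 (iv D9725)) (tt N7448 D12465))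
theorem Q6075 : ∀ i, i < 6075 → P i := stepQ 6074 Q6074 (allL N6074 (tt N6839 (iv F53993)) (tt N5252 F45482) (tt N7406 (iv F57259)) (tt N6074 F45483) (tt N7446 (iv F57416)) (tt N6074 F45484) (tt N4937 (iv D9726)) (tt N5084 F45485) (tt N7449 D12466) (tt N5011 F45486))
theorem Q6076 : ∀ i, i < 6076 → P i := stepQ 6075 Q6075 (allL N6075 (tt N6840 (iv F53999)) (tt N5253 F45487) (tt N7407 (iv F57263)) (tt N6075 F45488) (tt N7447 (iv F57420)) (tt N7306 (iv F56899)) (tt N7449 (iv F57428)) (tt N4938 F45489) (tt N4937 (iv D9727)) (tt N7450 D12467))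
theorem Q6077 : ∀ i, i < 6077 → P i := stepQ 6076 Q6076 (allL N6076 (tt N6841 (iv F54003)) (tt N5254 F45490) (tt N7408 (iv F57265)) (tt N6076 F45491) (tt N7448 (iv F57423)) (tt N7307 (iv F56903)) (tt N5086 F45492) (tt N7450 (iv F57432)) (tt N5013 F45493) (tt N4938 (iv D9728)))
theorem Q6078 : ∀ i, i < 6078 → P i := stepQ 6077 Q6077 (allL N6077 (tt N6842 (iv F54008)) (tt N5257 F45494) (tt N7451 D12468) (tt N4939 (iv D9729)) (tt N7421 (iv F57316)) (tt N6077 F45495) (tt N7452 D12469) (tt N7308 (iv F56908)) (tt N6077 F45496) (tt N6604 (iv F52783)))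
theorem Q6079 : ∀ i, i < 6079 → P i := stepQ 6078 Q6078 (allL N6078 (tt N6843 (iv F54013)) (tt N5258 F45497) (tt N6741 (iv F53526)) (tt N7452 (iv F57437)) (tt N4940 F45498) (tt N7453 D12470) (tt N4939 (iv D9730)) (tt N7454 D12471) (tt N6078 F45499) (tt N6605 (iv F52789)))
theorem Q6080 : ∀ i, i < 6080 → P i := stepQ 6079 Q6079 (allL N6079 (tt N6844 (iv F54019)) (tt N5259 F45500) (tt N6742 (iv F53532)) (tt N7423 (iv F57322)) (tt N7454 (iv F57443)) (tt N4943 F45501) (tt N7310 (iv F56915)) (tt N4940 (iv D9731)) (tt N6079 F45502) (tt N6606 (iv F52795)))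
theorem Q6081 : ∀ i, i < 6081 → P i := stepQ 6080 Q6080 (allL N6080 (tt N6845 (iv F54025)) (tt N5061 (iv F132762)) (tt N4941 (iv D9732)) (tt N6849 (iv F54049)) (tt N7424 (iv F57325)) (tt N6080 F45503) (tt N7370 (iv F132766)) (tt N4947 F45504) (tt N4951 F45505) (tt N6647 (iv F53015)))
theorem Q6082 : ∀ i, i < 6082 → P i := stepQ 6081 Q6081 (allL N6081 (tt N6846 (iv F54031)) (tt N5224 F133132) (tt N7370 F133133) (tt N4942 F45507) (tt N7425 (iv F57330)) (tt N7455 D12474) (tt N4941 (iv D9733)) (tt N7456 D12475) (tt N4952 F45508) (tt N6648 (iv F53020)))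
theorem Q6083 : ∀ i, i < 6083 → P i := stepQ 6082 Q6082 (allL N6082 (tt N6847 (iv F54036)) (tt N5263 F45509) (tt N6851 (iv F54061)) (tt N7455 (iv F57452)) (tt N7453 (iv F57440)) (tt N4942 (iv D9734)) (tt N6082 F45510) (tt N7457 D12476) (tt N7458 D12477) (tt N6649 (iv F53026)))
theorem Q6084 : ∀ i, i < 6084 → P i := stepQ 6083 Q6083 (allL N6083 (tt N6848 (iv F54041)) (tt N5264 F45511) (tt N6852 (iv F54066)) (tt N7456 (iv F57455)) (tt N4943 F45512) (tt N7457 (iv F57459)) (tt N4950 F45513) (tt N4942 (iv D9735)) (tt N4954 F45514) (tt N6650 (iv F53033)))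
theorem Q6085 : ∀ i, i < 6085 → P i := stepQ 6084 Q6084 (allL N6084 (tt N6849 (iv F54048)) (tt N7459 D12478) (tt N4944 (iv D9736)) (tt N6845 (iv F54026)) (tt N7428 (iv F57337)) (tt N6084 F45515) (tt N7460 D12479) (tt N6647 (iv F53013)) (tt N5014 F45516) (tt N4947 F45517))
theorem Q6086 : ∀ i, i < 6086 → P i := stepQ 6085 Q6085 (allL N6085 (tt N6850 (iv F54054)) (tt N5266 F45518) (tt N7460 (iv F57468)) (tt N4945 F45519) (tt N7429 (iv F57342)) (tt N7461 D12480) (tt N4944 (iv D9737)) (tt N7462 D12481) (tt N5015 F45520) (tt N4948 F45521))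
theorem Q6087 : ∀ i, i < 6087 → P i := stepQ 6086 Q6086 (allL N6086 (tt N6851 (iv F54059)) (tt N5267 F45522) (tt N6847 (iv F54038)) (tt N7461 (iv F57472)) (tt N7320 (iv F56950)) (tt N4945 (iv D9738)) (tt N6086 F45523) (tt N7463 D12482) (tt N7464 D12483) (tt N4949 F45524))
theorem Q6088 : ∀ i, i < 6088 → P i := stepQ 6087 Q6087 (allL N6087 (tt N6852 (iv F54064)) (tt N5268 F45525) (tt N6848 (iv F54043)) (tt N7462 (iv F57476)) (tt N4946 F45526) (tt N7463 (iv F57480)) (tt N6650 (iv F53031)) (tt N4945 (iv D9739)) (tt N5017 F45527) (tt N4950 F45528))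
theorem Q6089 : ∀ i, i < 6089 → P i := stepQ 6088 Q6088 (allL N6088 (tt N7011 (iv F132760)) (tt N4947 (iv D9740)) (tt N5085 (iv F132591)) (tt N7189 (iv F56439)) (tt N7432 (iv F57352)) (tt N6088 F45530) (tt N7465 D12485) (tt N5061 (iv F132763)) (tt N4955 F45531) (tt N7459 (iv F57467)))
theorem Q6090 : ∀ i, i < 6090 → P i := stepQ 6089 Q6089 (allL N6089 (tt N6854 (iv F54074)) (tt N7465 (iv F57489)) (tt N4948 F45532) (tt N7190 (iv F56443)) (tt N7433 (iv F57355)) (tt N7466 D12486) (tt N4947 (iv D9741)) (tt N7467 D12487) (tt N4956 F45533) (tt N7460 (iv F57470)))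
theorem Q6091 : ∀ i, i < 6091 → P i := stepQ 6090 Q6090 (allL N6090 (tt N6855 (iv F54077)) (tt N5270 F45534) (tt N7466 (iv F57492)) (tt N4949 F45535) (tt N7468 D12488) (tt N4948 (iv D9742)) (tt N6090 F45536) (tt N7469 D12489) (tt N6090 F45537) (tt N7461 (iv F57474)))
theorem Q6092 : ∀ i, i < 6092 → P i := stepQ 6091 Q6091 (allL N6091 (tt N6856 (iv F54082)) (tt N5271 F45538) (tt N7467 (iv F57495)) (tt N4950 F45539) (tt N7435 (iv F57361)) (tt N7469 (iv F57502)) (tt N7456 (iv F57456)) (tt N4948 (iv D9743)) (tt N4957 F45540) (tt N7462 (iv F57478)))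
theorem Q6093 : ∀ i, i < 6093 → P i := stepQ 6092 Q6092 (allL N6092 (tt N6857 (iv F54086)) (tt N5272 F45541) (tt N7193 (iv F56453)) (tt N7469 (iv F57501)) (tt N7326 (iv F56970)) (tt N4950 F45542) (tt N7470 D12490) (tt N4949 (iv D9744)) (tt N6092 F45543) (tt N7463 (iv F57481)))
theorem Q6094 : ∀ i, i < 6094 → P i := stepQ 6093 Q6093 (allL N6093 (tt N6860 (iv F54104)) (tt N5223 F133139) (tt N7369 F133140) (tt N4954 F45555) (tt N7438 (iv F57381)) (tt N5202 F133141) (tt N4957 F45556) (tt N4952 (iv D9748)) (tt N7456 (iv F57457)) (tt N5023 F45557))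
theorem Q6095 : ∀ i, i < 6095 → P i := stepQ 6094 Q6094 (allL N6094 (tt N6861 (iv F54109)) (tt N5222 F133219) (tt N6945 (iv F54532)) (tt N5202 F133220) (tt N6094 F45559) (tt N4954 F45560) (tt N6094 F45561) (tt N4953 (iv D9749)) (tt N7471 D12498) (tt N5024 F45562))
theorem Q6096 : ∀ i, i < 6096 → P i := stepQ 6095 Q6095 (allL N6095 (tt N6862 (iv F54116)) (tt N5137 F133221) (tt N6946 (iv F54539)) (tt N5125 F133222) (tt N6095 F45564) (tt N7458 (iv F57461)) (tt N4958 F45565) (tt N7471 (iv F57536)) (tt N4953 (iv D9750)) (tt N6095 F45566))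
theorem Q6097 : ∀ i, i < 6097 → P i := stepQ 6096 Q6096 (allL N6096 (tt N7010 (iv F132756)) (tt N4956 F45570) (tt N5084 (iv F132593)) (tt N7194 (iv F56462)) (tt N7441 (iv F57397)) (tt N6096 F45572) (tt N4955 (iv D9752)) (tt N7406 (iv F132758)) (tt N7465 (iv F57491)) (tt N5025 F45573))
theorem Q6098 : ∀ i, i < 6098 → P i := stepQ 6097 Q6097 (allL N6097 (tt N6865 (iv F54130)) (tt N7406 F133321) (tt N4957 F45574) (tt N7195 (iv F56466)) (tt N7443 (iv F57404)) (tt N6097 F45575) (tt N7369 F133322) (tt N4956 (iv D9753)) (tt N7467 (iv F57496)) (tt N5026 F45576))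
theorem Q6099 : ∀ i, i < 6099 → P i := stepQ 6098 Q6098 (allL N6098 (tt N4967 F45601) (tt N6866 (iv F54166)) (tt N5275 F45602) (tt N6763 (iv F53640)) (tt N7472 D12506) (tt N4959 (iv D9759)) (tt N7473 D12507) (tt N6617 (iv F52862)) (tt N7342 (iv F57035)) (tt N4960 F45603))
theorem Q6100 : ∀ i, i < 6100 → P i := stepQ 6099 Q6099 (allL N6099 (tt N4968 F45604) (tt N6867 (iv F54172)) (tt N5276 F45605) (tt N7474 D12508) (tt N4960 (iv D9760)) (tt N6099 F45606) (tt N7475 D12509) (tt N6653 (iv F53062)) (tt N4962 F45607) (tt N7472 (iv F57572)))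
theorem Q6101 : ∀ i, i < 6101 → P i := stepQ 6100 Q6100 (allL N6100 (tt N4969 F45608) (tt N6868 (iv F54178)) (tt N5277 F45609) (tt N6870 (iv F54192)) (tt N7475 (iv F57582)) (tt N6100 F45610) (tt N4960 (iv D9761)) (tt N7476 D12510) (tt N4963 F45611) (tt N7473 (iv F57576)))
theorem Q6102 : ∀ i, i < 6102 → P i := stepQ 6101 Q6101 (allL N6101 (tt N4970 F45612) (tt N6869 (iv F54184)) (tt N5278 F45613) (tt N7477 D12511) (tt N4961 (iv D9762)) (tt N5090 F45614) (tt N7478 D12512) (tt N4962 F45615) (tt N6653 (iv F53063)) (tt N7345 (iv F57047)))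
theorem Q6103 : ∀ i, i < 6103 → P i := stepQ 6102 Q6102 (allL N6102 (tt N4971 F45616) (tt N6870 (iv F54190)) (tt N5279 F45617) (tt N6868 (iv F54180)) (tt N7478 (iv F57593)) (tt N6102 F45618) (tt N4961 (iv D9763)) (tt N7479 D12513) (tt N6654 (iv F53069)) (tt N7346 (iv F57051)))
theorem Q6104 : ∀ i, i < 6104 → P i := stepQ 6103 Q6103 (allL N6103 (tt N4972 F45619) (tt N6871 (iv F54196)) (tt N7061 (iv F132781)) (tt N4962 (iv D9764)) (tt N7196 (iv F56470)) (tt N5091 F45620) (tt N7480 D12515) (tt N7477 (iv F57590)) (tt N7474 (iv F57579)) (tt N7347 (iv F57054)))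
theorem Q6105 : ∀ i, i < 6105 → P i := stepQ 6104 Q6104 (allL N6104 (tt N4973 F45621) (tt N6872 (iv F54199)) (tt N5280 F45622) (tt N7480 (iv F57602)) (tt N4963 F45623) (tt N6927 (iv F132787)) (tt N4962 (iv D9765)) (tt N7481 D12517) (tt N7475 (iv F57583)) (tt N7348 (iv F57058)))
theorem Q6106 : ∀ i, i < 6106 → P i := stepQ 6105 Q6105 (allL N6105 (tt N4974 F45624) (tt N6873 (iv F54203)) (tt N5281 F45625) (tt N7198 (iv F56477)) (tt N7481 (iv F57609)) (tt N4966 F45626) (tt N7479 (iv F57597)) (tt N4963 (iv D9766)) (tt N7476 (iv F57587)) (tt N7349 (iv F57062)))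
theorem Q6107 : ∀ i, i < 6107 → P i := stepQ 6106 Q6106 (allL N6106 (tt N4975 F45632) (tt N6874 (iv F54212)) (tt N5020 (iv F132796)) (tt N4965 F45633) (tt N7199 (iv F56487)) (tt N5019 (iv F132797)) (tt N4964 (iv D9768)) (tt N7482 D12521) (tt N6106 F45634) (tt N7350 (iv F57070)))
theorem Q6108 : ∀ i, i < 6108 → P i := stepQ 6107 Q6107 (allL N6107 (tt N4977 F45638) (tt N6876 (iv F54220)) (tt N5282 F45639) (tt N7482 (iv F57623)) (tt N4966 F45640) (tt N6950 (iv F132800)) (tt N6107 F45641) (tt N4965 (iv D9770)) (tt N6107 F45642) (tt N7351 (iv F57079)))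
theorem Q6109 : ∀ i, i < 6109 → P i := stepQ 6108 Q6108 (allL N6108 (tt N7472 (iv F57569)) (tt N4978 F45643) (tt N5286 F45644) (tt N7483 D12524) (tt N4967 (iv D9771)) (tt N6108 F45645) (tt N7484 D12525) (tt N6621 (iv F52882)) (tt N7356 (iv F57096)) (tt N4968 F45646))
theorem Q6110 : ∀ i, i < 6110 → P i := stepQ 6109 Q6109 (allL N6109 (tt N7473 (iv F57573)) (tt N4979 F45647) (tt N5287 F45648) (tt N6777 (iv F53712)) (tt N7484 (iv F57638)) (tt N6109 F45649) (tt N4967 (iv D9772)) (tt N7485 D12526) (tt N7357 (iv F57100)) (tt N4969 F45650))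
theorem Q6111 : ∀ i, i < 6111 → P i := stepQ 6110 Q6110 (allL N6110 (tt N7474 (iv F57577)) (tt N4980 F45651) (tt N7486 D12527) (tt N4968 (iv D9773)) (tt N6882 (iv F54251)) (tt N6110 F45652) (tt N7487 D12528) (tt N6658 (iv F53088)) (tt N4972 F45653) (tt N7483 (iv F57635)))
theorem Q6112 : ∀ i, i < 6112 → P i := stepQ 6111 Q6111 (allL N6111 (tt N7475 (iv F57580)) (tt N4981 F45654) (tt N5288 F45655) (tt N7487 (iv F57648)) (tt N4969 F45656) (tt N7488 D12529) (tt N4968 (iv D9774)) (tt N7489 D12530) (tt N4973 F45657) (tt N7484 (iv F57639)))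
theorem Q6113 : ∀ i, i < 6113 → P i := stepQ 6112 Q6112 (allL N6112 (tt N7476 (iv F57584)) (tt N4982 F45658) (tt N5289 F45659) (tt N6884 (iv F54261)) (tt N7489 (iv F57656)) (tt N6112 F45660) (tt N6660 (iv F53098)) (tt N4969 (iv D9775)) (tt N4974 F45661) (tt N7485 (iv F57643)))
theorem Q6114 : ∀ i, i < 6114 → P i := stepQ 6113 Q6113 (allL N6113 (tt N7477 (iv F57588)) (tt N4983 F45662) (tt N7490 D12531) (tt N4970 (iv D9776)) (tt N6879 (iv F54236)) (tt N5092 F45663) (tt N7491 D12532) (tt N4972 F45664) (tt N6658 (iv F53089)) (tt N7361 (iv F57114)))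
theorem Q6115 : ∀ i, i < 6115 → P i := stepQ 6114 Q6114 (allL N6114 (tt N7478 (iv F57591)) (tt N4984 F45665) (tt N5290 F45666) (tt N7491 (iv F57662)) (tt N4971 F45667) (tt N7492 D12533) (tt N4970 (iv D9777)) (tt N7493 D12534) (tt N6659 (iv F53093)) (tt N7362 (iv F57118)))
theorem Q6116 : ∀ i, i < 6116 → P i := stepQ 6115 Q6115 (allL N6115 (tt N7479 (iv F57594)) (tt N4985 F45668) (tt N5291 F45669) (tt N6881 (iv F54246)) (tt N7493 (iv F57669)) (tt N6115 F45670) (tt N4974 F45671) (tt N4971 (iv D9778)) (tt N6660 (iv F53099)) (tt N7363 (iv F57123)))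
theorem Q6117 : ∀ i, i < 6117 → P i := stepQ 6116 Q6116 (allL N6116 (tt N7061 (iv F132780)) (tt N7494 D12535) (tt N4972 (iv D9779)) (tt N5096 (iv F132722)) (tt N7202 (iv F56498)) (tt N5094 F45673) (tt N7495 D12536) (tt N7490 (iv F57660)) (tt N7486 (iv F57646)) (tt N7364 (iv F57126)))
theorem Q6118 : ∀ i, i < 6118 → P i := stepQ 6117 Q6117 (allL N6117 (tt N7480 (iv F57601)) (tt N4987 F45674) (tt N7495 (iv F57674)) (tt N4973 F45675) (tt N7203 (iv F56502)) (tt N7496 D12537) (tt N4972 (iv D9780)) (tt N7497 D12538) (tt N7487 (iv F57649)) (tt N7365 (iv F57129)))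
theorem Q6119 : ∀ i, i < 6119 → P i := stepQ 6118 Q6118 (allL N6118 (tt N6927 (iv F132785)) (tt N4988 F45676) (tt N5002 (iv F132612)) (tt N7496 (iv F57677)) (tt N4976 F45678) (tt N4973 (iv D9781)) (tt N5001 F132254) (tt N7498 D12539) (tt N6673 (iv F132811)) (tt N7366 (iv F57134)))
theorem Q6120 : ∀ i, i < 6120 → P i := stepQ 6119 Q6119 (allL N6119 (tt N7481 (iv F57607)) (tt N4989 F45680) (tt N5292 F45681) (tt N7497 (iv F57680)) (tt N4974 F45682) (tt N7498 (iv F57684)) (tt N7493 (iv F57670)) (tt N4973 (iv D9782)) (tt N7489 (iv F57657)) (tt N7367 (iv F57138)))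
theorem Q6121 : ∀ i, i < 6121 → P i := stepQ 6120 Q6120 (allL N6120 (tt N7482 (iv F57622)) (tt N4991 F45690) (tt N6949 (iv F132803)) (tt N4977 F45691) (tt N7207 (iv F56520)) (tt N6947 (iv F132808)) (tt N6120 F45692) (tt N4975 (iv D9785)) (tt N6120 F45693) (tt N7368 (iv F57150)))
theorem Q6122 : ∀ i, i < 6122 → P i := stepQ 6121 Q6121 (allL N6121 (tt N6950 (iv F132798)) (tt N4992 F45694) (tt N5023 (iv F132642)) (tt N6947 (iv F132807)) (tt N7498 (iv F57683)) (tt N4977 F45696) (tt N5026 (iv F132845)) (tt N4976 (iv D9786)) (tt N6681 (iv F132847)) (tt N7369 (iv F57154)))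
theorem Q6123 : ∀ i, i < 6123 → P i := stepQ 6122 Q6122 (allL N6122 (tt N6894 (iv F54294)) (tt N7483 (iv F57633)) (tt N7499 D12549) (tt N4978 (iv D9788)) (tt N6798 (iv F53799)) (tt N6122 F45701) (tt N7500 D12550) (tt N6630 (iv F52928)) (tt N7386 (iv F57200)) (tt N4980 F45702))
theorem Q6124 : ∀ i, i < 6124 → P i := stepQ 6123 Q6123 (allL N6123 (tt N6895 (iv F54299)) (tt N7484 (iv F57636)) (tt N4995 F45703) (tt N7500 (iv F57722)) (tt N4979 F45704) (tt N7501 D12551) (tt N4978 (iv D9789)) (tt N7502 D12552) (tt N7387 (iv F57204)) (tt N4981 F45705))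
theorem Q6125 : ∀ i, i < 6125 → P i := stepQ 6124 Q6124 (allL N6124 (tt N6896 (iv F54303)) (tt N7485 (iv F57640)) (tt N4996 F45706) (tt N6800 (iv F53809)) (tt N7502 (iv F57729)) (tt N6124 F45707) (tt N6632 (iv F52938)) (tt N4979 (iv D9790)) (tt N7388 (iv F57207)) (tt N4982 F45708))
theorem Q6126 : ∀ i, i < 6126 → P i := stepQ 6125 Q6125 (allL N6125 (tt N6897 (iv F54309)) (tt N7503 D12553) (tt N4980 (iv D9791)) (tt N4997 F45709) (tt N6901 (iv F54330)) (tt N6125 F45710) (tt N7504 D12554) (tt N6665 (iv F53119)) (tt N4986 F45711) (tt N7499 (iv F57721)))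
theorem Q6127 : ∀ i, i < 6127 → P i := stepQ 6126 Q6126 (allL N6126 (tt N6898 (iv F54315)) (tt N7487 (iv F57647)) (tt N7504 (iv F57734)) (tt N4981 F45712) (tt N6902 (iv F54336)) (tt N7505 D12555) (tt N4980 (iv D9792)) (tt N7506 D12556) (tt N4987 F45713) (tt N7500 (iv F57723)))
theorem Q6128 : ∀ i, i < 6128 → P i := stepQ 6127 Q6127 (allL N6127 (tt N6899 (iv F54319)) (tt N7488 (iv F57650)) (tt N4999 F45714) (tt N7505 (iv F57737)) (tt N6127 F45715) (tt N4981 (iv D9793)) (tt N6127 F45716) (tt N7507 D12557) (tt N7508 D12558) (tt N7501 (iv F57727)))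
theorem Q6129 : ∀ i, i < 6129 → P i := stepQ 6128 Q6128 (allL N6128 (tt N6900 (iv F54323)) (tt N7489 (iv F57654)) (tt N5000 F45717) (tt N7506 (iv F57739)) (tt N4982 F45718) (tt N7507 (iv F57743)) (tt N6668 (iv F53132)) (tt N4981 (iv D9794)) (tt N4989 F45719) (tt N7502 (iv F57730)))
theorem Q6130 : ∀ i, i < 6130 → P i := stepQ 6129 Q6129 (allL N6129 (tt N6901 (iv F54328)) (tt N5100 (iv F132822)) (tt N4983 (iv D9795)) (tt N5001 F45720) (tt N6897 (iv F54311)) (tt N5095 F132271) (tt N7496 (iv F132809)) (tt N4986 F45722) (tt N6665 (iv F53120)) (tt N7393 (iv F57220)))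
theorem Q6131 : ∀ i, i < 6131 → P i := stepQ 6130 Q6130 (allL N6130 (tt N6902 (iv F54334)) (tt N7491 (iv F57661)) (tt N7496 F133346) (tt N4984 F45723) (tt N6898 (iv F54317)) (tt N7495 F133347) (tt N4983 (iv D9796)) (tt N7509 D12562) (tt N6666 (iv F53124)) (tt N7394 (iv F57222)))
theorem Q6132 : ∀ i, i < 6132 → P i := stepQ 6131 Q6131 (allL N6131 (tt N6903 (iv F54338)) (tt N7492 (iv F57663)) (tt N5003 F45724) (tt N7495 F133155) (tt N6131 F45725) (tt N4984 (iv D9797)) (tt N5096 F45726) (tt N7510 D12563) (tt N7511 D12564) (tt N7395 (iv F57226)))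
theorem Q6133 : ∀ i, i < 6133 → P i := stepQ 6132 Q6132 (allL N6132 (tt N6904 (iv F54342)) (tt N7493 (iv F57667)) (tt N5004 F45727) (tt N7509 (iv F57755)) (tt N4985 F45728) (tt N7510 (iv F57759)) (tt N4989 F45729) (tt N4984 (iv D9798)) (tt N6668 (iv F53133)) (tt N7396 (iv F57230)))
theorem Q6134 : ∀ i, i < 6134 → P i := stepQ 6133 Q6133 (allL N6133 (tt N7069 (iv F132826)) (tt N4986 (iv D9799)) (tt N7494 (iv F57671)) (tt N5005 F45730) (tt N7210 (iv F56531)) (tt N5098 F45731) (tt N7512 D12566) (tt N5100 (iv F132823)) (tt N7503 (iv F57733)) (tt N7397 (iv F57233)))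
theorem Q6135 : ∀ i, i < 6135 → P i := stepQ 6134 Q6134 (allL N6134 (tt N6906 (iv F54349)) (tt N7512 (iv F57765)) (tt N4987 F45732) (tt N5006 F45733) (tt N7211 (iv F56535)) (tt N7513 D12567) (tt N4986 (iv D9800)) (tt N7514 D12568) (tt N7504 (iv F57736)) (tt N7398 (iv F57236)))
theorem Q6136 : ∀ i, i < 6136 → P i := stepQ 6135 Q6135 (allL N6135 (tt N6907 (iv F54352)) (tt N7496 (iv F57676)) (tt N7513 (iv F57767)) (tt N4988 F45734) (tt N7515 D12569) (tt N4987 (iv D9801)) (tt N5100 F45735) (tt N7516 D12570) (tt N7517 D12571) (tt N7399 (iv F57239)))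
theorem Q6137 : ∀ i, i < 6137 → P i := stepQ 6136 Q6136 (allL N6136 (tt N6908 (iv F54355)) (tt N7497 (iv F57679)) (tt N7514 (iv F57770)) (tt N4989 F45736) (tt N7213 (iv F56539)) (tt N7516 (iv F57775)) (tt N7509 (iv F57756)) (tt N4987 (iv D9802)) (tt N7506 (iv F57740)) (tt N7400 (iv F57241)))
theorem Q6138 : ∀ i, i < 6138 → P i := stepQ 6137 Q6137 (allL N6137 (tt N6909 (iv F54357)) (tt N7498 (iv F57681)) (tt N5009 F45737) (tt N7516 (iv F57774)) (tt N4992 F45738) (tt N4989 F45739) (tt N7518 D12572) (tt N4988 (iv D9803)) (tt N7519 D12573) (tt N7401 (iv F57245)))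
theorem Q6139 : ∀ i, i < 6139 → P i := stepQ 6138 Q6138 (allL N6138 (tt N6910 (iv F54361)) (tt N6673 (iv F132810)) (tt N5010 F45740) (tt N7517 (iv F57776)) (tt N4993 F45741) (tt N7508 (iv F57746)) (tt N5101 F45742) (tt N7519 (iv F57783)) (tt N4988 (iv D9804)) (tt N7520 D12574))
theorem Q6140 : ∀ i, i < 6140 → P i := stepQ 6139 Q6139 (allL N6139 (tt N6911 (iv F54365)) (tt N6921 (iv F132805)) (tt N6139 F45743) (tt N7515 (iv F57772)) (tt N4990 (iv D9805)) (tt N7216 (iv F56547)) (tt N5102 F45744) (tt N7521 D12575) (tt N6932 (iv F132915)) (tt N7403 (iv F57251)))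
theorem Q6141 : ∀ i, i < 6141 → P i := stepQ 6140 Q6140 (allL N6140 (tt N6912 (iv F54368)) (tt N6947 (iv F132806)) (tt N6140 F45745) (tt N4992 F45746) (tt N7521 (iv F57788)) (tt N4991 F45747) (tt N7232 (iv F132743)) (tt N4990 (iv D9806)) (tt N6951 (iv F132917)) (tt N7404 (iv F57255)))
theorem Q6142 : ∀ i, i < 6142 → P i := stepQ 6141 Q6141 (allL N6141 (tt N6914 (iv F54377)) (tt N5026 (iv F132844)) (tt N5011 F45752) (tt N7232 (iv F132742)) (tt N7518 (iv F57779)) (tt N6141 F45753) (tt N4992 (iv D9808)) (tt N5025 F132294) (tt N7522 D12580) (tt N7406 (iv F57262)))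
theorem Q6143 : ∀ i, i < 6143 → P i := stepQ 6142 Q6142 (allL N6142 (tt N6915 (iv F54381)) (tt N6681 (iv F132846)) (tt N5012 F45755) (tt N6951 (iv F132916)) (tt N7519 (iv F57782)) (tt N6142 F45756) (tt N7522 (iv F57805)) (tt N4993 F45757) (tt N4992 (iv D9809)) (tt N7523 D12581))
theorem Q6144 : ∀ i, i < 6144 → P i := stepQ 6143 Q6143 (allL N6143 (tt N6916 (iv F54385)) (tt N6651 (iv F132848)) (tt N5013 F45758) (tt N6864 (iv F132918)) (tt N7520 (iv F57785)) (tt N6143 F45759) (tt N5103 F45760) (tt N7523 (iv F57809)) (tt N7408 (iv F57267)) (tt N4993 (iv D9810)))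
theorem Q6145 : ∀ i, i < 6145 → P i := stepQ 6144 Q6144 (allL N6144 (tt N6917 (iv F54389)) (tt N7524 D12582) (tt N4994 (iv D9811)) (tt N7499 (iv F57719)) (tt N5014 F45761) (tt N6144 F45762) (tt N7525 D12583) (tt N6641 (iv F52986)) (tt N7428 (iv F57338)) (tt N4997 F45763))
theorem Q6146 : ∀ i, i < 6146 → P i := stepQ 6145 Q6145 (allL N6145 (tt N6918 (iv F54394)) (tt N5319 F45764) (tt N7525 (iv F57814)) (tt N4995 F45765) (tt N5015 F45766) (tt N7526 D12584) (tt N4994 (iv D9812)) (tt N7527 D12585) (tt N7429 (iv F57343)) (tt N4998 F45767))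
theorem Q6147 : ∀ i, i < 6147 → P i := stepQ 6146 Q6146 (allL N6146 (tt N6919 (iv F54399)) (tt N5320 F45768) (tt N7501 (iv F57724)) (tt N7526 (iv F57818)) (tt N6146 F45769) (tt N4995 (iv D9813)) (tt N6146 F45770) (tt N7528 D12586) (tt N7529 D12587) (tt N4999 F45771))
theorem Q6148 : ∀ i, i < 6148 → P i := stepQ 6147 Q6147 (allL N6147 (tt N6920 (iv F54404)) (tt N5321 F45772) (tt N7502 (iv F57728)) (tt N7527 (iv F57822)) (tt N4996 F45773) (tt N7528 (iv F57827)) (tt N6644 (iv F53001)) (tt N4995 (iv D9814)) (tt N7431 (iv F57349)) (tt N5000 F45774))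
theorem Q6149 : ∀ i, i < 6149 → P i := stepQ 6148 Q6148 (allL N6148 (tt N7060 F132257) (tt N4997 (iv D9815)) (tt N5110 (iv F132637)) (tt N7503 (iv F57731)) (tt N5018 F45776) (tt N6148 F45777) (tt N7530 D12589) (tt N5101 F132272) (tt N5005 F45778) (tt N7524 (iv F57813)))
theorem Q6150 : ∀ i, i < 6150 → P i := stepQ 6149 Q6149 (allL N6149 (tt N6921 (iv F54414)) (tt N7530 (iv F57836)) (tt N4998 F45779) (tt N7504 (iv F57735)) (tt N5019 F45780) (tt N7531 D12590) (tt N4997 (iv D9816)) (tt N7532 D12591) (tt N5006 F45781) (tt N7525 (iv F57816)))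
theorem Q6151 : ∀ i, i < 6151 → P i := stepQ 6150 Q6150 (allL N6150 (tt N6922 (iv F54418)) (tt N5323 F45782) (tt N7531 (iv F57840)) (tt N4999 F45783) (tt N7533 D12592) (tt N4998 (iv D9817)) (tt N6150 F45784) (tt N7534 D12593) (tt N7535 D12594) (tt N7526 (iv F57820)))
theorem Q6152 : ∀ i, i < 6152 → P i := stepQ 6151 Q6151 (allL N6151 (tt N6923 (iv F54422)) (tt N5324 F45785) (tt N7532 (iv F57842)) (tt N5000 F45786) (tt N5021 F45787) (tt N7534 (iv F57851)) (tt N6675 (iv F53169)) (tt N4998 (iv D9818)) (tt N5008 F45788) (tt N7527 (iv F57824)))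
theorem Q6153 : ∀ i, i < 6153 → P i := stepQ 6152 Q6152 (allL N6152 (tt N6924 (iv F54428)) (tt N5325 F45789) (tt N7507 (iv F57741)) (tt N7534 (iv F57850)) (tt N6152 F45790) (tt N5000 F45791) (tt N7536 D12595) (tt N4999 (iv D9819)) (tt N7537 D12596) (tt N7528 (iv F57828)))
theorem Q6154 : ∀ i, i < 6154 → P i := stepQ 6153 Q6153 (allL N6153 (tt N6925 (iv F54432)) (tt N5326 F45792) (tt N7508 (iv F57744)) (tt N7535 (iv F57853)) (tt N6153 F45793) (tt N5010 F45794) (tt N6153 F45795) (tt N7537 (iv F57862)) (tt N4999 (iv D9820)) (tt N7538 D12597))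
theorem Q6155 : ∀ i, i < 6155 → P i := stepQ 6154 Q6154 (allL N6154 (tt N6928 (iv F54450)) (tt N5309 F133158) (tt N7498 F133159) (tt N5004 F45806) (tt N5023 F45807) (tt N5292 F133160) (tt N5008 F45808) (tt N5002 (iv D9824)) (tt N6675 (iv F53170)) (tt N7438 (iv F57383)))
theorem Q6156 : ∀ i, i < 6156 → P i := stepQ 6155 Q6155 (allL N6155 (tt N6929 (iv F54456)) (tt N5308 F133156) (tt N7510 (iv F57757)) (tt N5292 F133157) (tt N6155 F45810) (tt N5004 F45811) (tt N7539 D12605) (tt N5003 (iv D9825)) (tt N7540 D12606) (tt N7439 (iv F57387)))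
theorem Q6157 : ∀ i, i < 6157 → P i := stepQ 6156 Q6156 (allL N6156 (tt N6930 (iv F54460)) (tt N5302 F133147) (tt N7511 (iv F57760)) (tt N5288 F133148) (tt N6156 F45813) (tt N6677 (iv F53178)) (tt N5105 F45814) (tt N7540 (iv F57895)) (tt N5003 (iv D9826)) (tt N7541 D12607))
theorem Q6158 : ∀ i, i < 6158 → P i := stepQ 6157 Q6157 (allL N6157 (tt N7071 (iv F132828)) (tt N5006 F45818) (tt N5109 (iv F132639)) (tt N7512 (iv F57766)) (tt N5025 F45820) (tt N7542 D12609) (tt N5005 (iv D9828)) (tt N7518 (iv F132832)) (tt N7530 (iv F57839)) (tt N7441 (iv F57398)))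
theorem Q6159 : ∀ i, i < 6159 → P i := stepQ 6158 Q6158 (allL N6158 (tt N6933 (iv F54472)) (tt N7542 (iv F57902)) (tt N5007 F45821) (tt N7513 (iv F57768)) (tt N6158 F45822) (tt N5006 (iv D9829)) (tt N5106 F45823) (tt N7543 D12611) (tt N7544 D12612) (tt N7442 (iv F57402)))
theorem Q6160 : ∀ i, i < 6160 → P i := stepQ 6159 Q6159 (allL N6159 (tt N6934 (iv F54476)) (tt N7518 F133411) (tt N5008 F45824) (tt N7514 (iv F57771)) (tt N5026 F45825) (tt N7543 (iv F57911)) (tt N7498 F133412) (tt N5006 (iv D9830)) (tt N7532 (iv F57844)) (tt N7443 (iv F57405)))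
theorem Q6161 : ∀ i, i < 6161 → P i := stepQ 6160 Q6160 (allL N6160 (tt N6935 (iv F54479)) (tt N5328 F45826) (tt N7543 (iv F57909)) (tt N5009 F45827) (tt N6160 F45828) (tt N5008 F45829) (tt N7545 D12613) (tt N5007 (iv D9831)) (tt N7546 D12614) (tt N7444 (iv F57410)))
theorem Q6162 : ∀ i, i < 6162 → P i := stepQ 6161 Q6161 (allL N6161 (tt N6936 (iv F54484)) (tt N5329 F45830) (tt N7544 (iv F57912)) (tt N5010 F45831) (tt N6161 F45832) (tt N7535 (iv F57854)) (tt N5108 F45833) (tt N7546 (iv F57922)) (tt N5007 (iv D9832)) (tt N7547 D12615))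
theorem Q6163 : ∀ i, i < 6163 → P i := stepQ 6162 Q6162 (allL N6162 (tt N6937 (iv F54489)) (tt N5327 F133195) (tt N7518 (iv F57778)) (tt N7545 (iv F57916)) (tt N5011 F45835) (tt N7539 (iv F57891)) (tt N5009 (iv D9833)) (tt N5109 F45836) (tt N7548 D12616) (tt N7446 (iv F57418)))
theorem Q6164 : ∀ i, i < 6164 → P i := stepQ 6163 Q6163 (allL N6163 (tt N6938 (iv F54493)) (tt N5330 F45837) (tt N7519 (iv F57781)) (tt N7546 (iv F57920)) (tt N5012 F45838) (tt N7537 (iv F57861)) (tt N7548 (iv F57929)) (tt N5010 F45839) (tt N5009 (iv D9834)) (tt N7549 D12617))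
theorem Q6165 : ∀ i, i < 6165 → P i := stepQ 6164 Q6164 (allL N6164 (tt N6939 (iv F54497)) (tt N5331 F45840) (tt N7520 (iv F57784)) (tt N7547 (iv F57924)) (tt N5013 F45841) (tt N7538 (iv F57865)) (tt N5111 F45842) (tt N7549 (iv F57933)) (tt N7448 (iv F57425)) (tt N5010 (iv D9835)))
theorem Q6166 : ∀ i, i < 6166 → P i := stepQ 6165 Q6165 (allL N6165 (tt N6940 (iv F54501)) (tt N5332 F45843) (tt N7522 (iv F57804)) (tt N6165 F45844) (tt N7548 (iv F57928)) (tt N7550 D12618) (tt N5012 F45845) (tt N5112 F45846) (tt N5011 (iv D9836)) (tt N7551 D12619))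
theorem Q6167 : ∀ i, i < 6167 → P i := stepQ 6166 Q6166 (allL N6166 (tt N6941 (iv F54506)) (tt N5333 F45847) (tt N7523 (iv F57807)) (tt N6166 F45848) (tt N7549 (iv F57932)) (tt N6166 F45849) (tt N7551 (iv F57941)) (tt N5013 F45850) (tt N7450 (iv F57433)) (tt N5012 (iv D9837)))
theorem Q6168 : ∀ i, i < 6168 → P i := stepQ 6167 Q6167 (allL N6167 (tt N6979 F132274) (tt N5014 (iv D9838)) (tt N5113 (iv F132654)) (tt N6858 (iv F54091)) (tt N7524 (iv F57811)) (tt N5027 F45852) (tt N7552 D12621) (tt N5103 F132281) (tt N7459 (iv F57466)) (tt N5018 F45853))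
theorem Q6169 : ∀ i, i < 6169 → P i := stepQ 6168 Q6168 (allL N6168 (tt N6942 (iv F54516)) (tt N7552 (iv F57946)) (tt N5015 F45854) (tt N6859 (iv F54097)) (tt N7525 (iv F57815)) (tt N7350 F133333) (tt N5014 (iv D9839)) (tt N7553 D12623) (tt N7460 (iv F57469)) (tt N5019 F45855))
theorem Q6170 : ∀ i, i < 6170 → P i := stepQ 6169 Q6169 (allL N6169 (tt N6943 (iv F54520)) (tt N5336 F45856) (tt N7350 F133396) (tt N5016 F45857) (tt N7554 D12624) (tt N5015 (iv D9840)) (tt N5029 F45858) (tt N7555 D12625) (tt N7556 D12626) (tt N5020 F45859))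
theorem Q6171 : ∀ i, i < 6171 → P i := stepQ 6170 Q6170 (allL N6170 (tt N6944 (iv F54525)) (tt N5337 F45860) (tt N7553 (iv F57952)) (tt N5017 F45861) (tt N7527 (iv F57823)) (tt N7555 (iv F57960)) (tt N6652 (iv F53048)) (tt N5015 (iv D9841)) (tt N7462 (iv F57477)) (tt N5021 F45862))
theorem Q6172 : ∀ i, i < 6172 → P i := stepQ 6171 Q6171 (allL N6171 (tt N6945 (iv F54530)) (tt N5338 F45863) (tt N6861 (iv F54111)) (tt N7555 (iv F57959)) (tt N6171 F45864) (tt N5017 F45865) (tt N6171 F45866) (tt N5016 (iv D9842)) (tt N7557 D12627) (tt N5022 F45867))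
theorem Q6173 : ∀ i, i < 6173 → P i := stepQ 6172 Q6172 (allL N6172 (tt N6946 (iv F54537)) (tt N5339 F45868) (tt N6862 (iv F54118)) (tt N7556 (iv F57964)) (tt N6172 F45869) (tt N7464 (iv F57483)) (tt N5030 F45870) (tt N7557 (iv F57970)) (tt N5016 (iv D9843)) (tt N6172 F45871))
theorem Q6174 : ∀ i, i < 6174 → P i := stepQ 6173 Q6173 (allL N6173 (tt N6890 F132279) (tt N5019 F45875) (tt N5112 (iv F132656)) (tt N6875 F132280) (tt N7530 (iv F57838)) (tt N6874 (iv F132795)) (tt N5018 (iv D9845)) (tt N7522 (iv F132836)) (tt N5025 F45877) (tt N7552 (iv F57948)))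
theorem Q6175 : ∀ i, i < 6175 → P i := stepQ 6174 Q6174 (allL N6174 (tt N6947 (iv F54558)) (tt N7522 (iv F132835)) (tt N5021 F45881) (tt N6950 (iv F54591)) (tt N7532 (iv F57843)) (tt N7482 F133397) (tt N6681 (iv F53207)) (tt N5019 (iv D9847)) (tt N5026 F45882) (tt N7553 (iv F57953)))
theorem Q6176 : ∀ i, i < 6176 → P i := stepQ 6175 Q6175 (allL N6175 (tt N6948 (iv F54563)) (tt N5341 F45883) (tt N7199 F133391) (tt N6175 F45884) (tt N5020 (iv D9848)) (tt N7533 (iv F57847)) (tt N5031 F45885) (tt N7558 D12633) (tt N6175 F45886) (tt N7554 (iv F57957)))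
theorem Q6177 : ∀ i, i < 6177 → P i := stepQ 6176 Q6176 (allL N6176 (tt N6949 (iv F54568)) (tt N5342 F45887) (tt N7482 F133395) (tt N5022 F45888) (tt N7558 (iv F57991)) (tt N5021 F45889) (tt N6176 F45890) (tt N5020 (iv D9849)) (tt N6176 F45891) (tt N7555 (iv F57962)))
theorem Q6178 : ∀ i, i < 6178 → P i := stepQ 6177 Q6177 (allL N6177 (tt N6952 (iv F54648)) (tt N5344 F45943) (tt N7147 F133393) (tt N6177 F45944) (tt N5029 (iv D9864)) (tt N6177 F45945) (tt N7554 (iv F57956)) (tt N6177 F45946) (tt N7559 D12648) (tt N5031 F45947))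
theorem Q6179 : ∀ i, i < 6179 → P i := stepQ 6178 Q6178 (allL N6178 (tt N6953 (iv F54654)) (tt N5345 F45948) (tt N7236 F133398) (tt N5030 F45949) (tt N7559 (iv F58051)) (tt N6178 F45950) (tt N7556 (iv F57965)) (tt N6178 F45951) (tt N5029 (iv D9865)) (tt N6178 F45952))
theorem Q6180 : ∀ i, i < 6180 → P i := stepQ 6179 Q6179 (allL N6179 (tt N5037 F45966) (tt N6956 (iv F54691)) (tt N5347 F45967) (tt N7560 D12652) (tt N5032 (iv D9869)) (tt N7104 (iv F56097)) (tt N7022 (iv F132873)) (tt N7087 (iv F55942)) (tt N5034 F45968) (tt N6179 F45969))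
theorem Q6181 : ∀ i, i < 6181 → P i := stepQ 6180 Q6180 (allL N6180 (tt N5039 F45976) (tt N6958 (iv F54703)) (tt N5348 F45977) (tt N7561 D12655) (tt N5033 (iv D9871)) (tt N7345 (iv F57045)) (tt N7035 (iv F132859)) (tt N5034 F45978) (tt N7087 (iv F55943)) (tt N5090 F45979))
theorem Q6182 : ∀ i, i < 6182 → P i := stepQ 6181 Q6181 (allL N6181 (tt N5041 F45985) (tt N6960 (iv F54714)) (tt N6998 (iv F132877)) (tt N5034 (iv D9873)) (tt N6181 F45986) (tt N7347 (iv F57053)) (tt N6997 (iv F132880)) (tt N7561 (iv F58084)) (tt N7560 (iv F58069)) (tt N5091 F45987))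
theorem Q6183 : ∀ i, i < 6183 → P i := stepQ 6182 Q6182 (allL N6182 (tt N7104 (iv F56095)) (tt N5045 F46017) (tt N5349 F46018) (tt N7562 D12668) (tt N5035 (iv D9880)) (tt N5037 F46019) (tt N7563 D12669) (tt N6590 (iv F52703)) (tt N7352 (iv F57083)) (tt N6182 F46020))
theorem Q6184 : ∀ i, i < 6184 → P i := stepQ 6183 Q6183 (allL N6183 (tt N7105 (iv F56100)) (tt N5046 F46021) (tt N5350 F46022) (tt N6704 (iv F53343)) (tt N7563 (iv F58145)) (tt N6183 F46023) (tt N5035 (iv D9881)) (tt N7564 D12670) (tt N7353 (iv F57086)) (tt N6183 F46024))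
theorem Q6185 : ∀ i, i < 6185 → P i := stepQ 6184 Q6184 (allL N6184 (tt N7087 (iv F55939)) (tt N5048 F46025) (tt N5351 F46026) (tt N7565 D12671) (tt N5036 (iv D9882)) (tt N6590 (iv F52702)) (tt N7566 D12672) (tt N5037 F46027) (tt N5039 F46028) (tt N6184 F46029))
theorem Q6186 : ∀ i, i < 6186 → P i := stepQ 6185 Q6185 (allL N6185 (tt N7045 (iv F132849)) (tt N5049 F46030) (tt N5089 (iv F132683)) (tt N6185 F46032) (tt N7566 (iv F58158)) (tt N6583 (iv F52649)) (tt N5036 (iv D9883)) (tt N5087 (iv F132870)) (tt N5040 F46033) (tt N6185 F46034))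
theorem Q6187 : ∀ i, i < 6187 → P i := stepQ 6186 Q6186 (allL N6186 (tt N7560 (iv F58067)) (tt N5050 F46035) (tt N7567 D12674) (tt N5037 (iv D9884)) (tt N6186 F46036) (tt N7562 (iv F58141)) (tt N7568 D12675) (tt N7565 (iv F58153)) (tt N5041 F46037) (tt N6186 F46038))
theorem Q6188 : ∀ i, i < 6188 → P i := stepQ 6187 Q6187 (allL N6187 (tt N7022 (iv F132871)) (tt N5051 F46039) (tt N5070 (iv F132689)) (tt N7568 (iv F58172)) (tt N5038 F46041) (tt N7569 D12676) (tt N5037 (iv D9885)) (tt N5073 (iv F132875)) (tt N5042 F46042) (tt N6187 F46043))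
theorem Q6189 : ∀ i, i < 6189 → P i := stepQ 6188 Q6188 (allL N6188 (tt N7561 (iv F58082)) (tt N5053 F46050) (tt N7570 D12678) (tt N5039 (iv D9887)) (tt N6188 F46051) (tt N7361 (iv F57112)) (tt N7571 D12679) (tt N5041 F46052) (tt N7565 (iv F58154)) (tt N5092 F46053))
theorem Q6190 : ∀ i, i < 6190 → P i := stepQ 6189 Q6189 (allL N6189 (tt N7035 (iv F132857)) (tt N5054 F46054) (tt N5081 F132306) (tt N7571 (iv F58190)) (tt N5040 F46056) (tt N7572 D12680) (tt N5039 (iv D9888)) (tt N5079 (iv F132716)) (tt N7566 (iv F58159)) (tt N5093 F46057))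
theorem Q6191 : ∀ i, i < 6191 → P i := stepQ 6190 Q6190 (allL N6190 (tt N6998 (iv F132876)) (tt N7571 (iv F132864)) (tt N5041 (iv D9890)) (tt N5054 (iv F132711)) (tt N6190 F46065) (tt N7364 (iv F57125)) (tt N5053 (iv F132885)) (tt N7570 (iv F58187)) (tt N7567 (iv F58169)) (tt N5094 F46066))
theorem Q6192 : ∀ i, i < 6192 → P i := stepQ 6191 Q6191 (allL N6191 (tt N6997 (iv F132878)) (tt N5057 F46067) (tt N5053 (iv F132884)) (tt N5042 F46068) (tt N6191 F46069) (tt N7393 (iv F132751)) (tt N5041 (iv D9891)) (tt N5056 (iv F132886)) (tt N7568 (iv F58174)) (tt N5095 F46070))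
theorem Q6193 : ∀ i, i < 6193 → P i := stepQ 6192 Q6192 (allL N6192 (tt N6981 (iv F54854)) (tt N6703 (iv F53335)) (tt N6192 F46101) (tt N7573 D12696) (tt N5043 (iv D9899)) (tt N6192 F46102) (tt N7574 D12697) (tt N6688 (iv F53251)) (tt N7372 (iv F57163)) (tt N6192 F46103))
theorem Q6194 : ∀ i, i < 6194 → P i := stepQ 6193 Q6193 (allL N6193 (tt N6982 (iv F54858)) (tt N6704 (iv F53341)) (tt N6193 F46104) (tt N5046 F46105) (tt N7574 (iv F58262)) (tt N6193 F46106) (tt N5043 (iv D9900)) (tt N7575 D12698) (tt N7373 (iv F57166)) (tt N6193 F46107))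
theorem Q6195 : ∀ i, i < 6195 → P i := stepQ 6194 Q6194 (allL N6194 (tt N6983 (iv F54863)) (tt N6590 (iv F52700)) (tt N5063 F46108) (tt N7576 D12699) (tt N5044 (iv D9901)) (tt N5048 F46109) (tt N7577 D12700) (tt N5045 F46110) (tt N7374 (iv F57170)) (tt N6194 F46111))
theorem Q6196 : ∀ i, i < 6196 → P i := stepQ 6195 Q6195 (allL N6195 (tt N6984 (iv F54868)) (tt N6591 (iv F52706)) (tt N5064 F46112) (tt N6689 (iv F53255)) (tt N7577 (iv F58272)) (tt N6588 (iv F52689)) (tt N5044 (iv D9902)) (tt N7578 D12701) (tt N7375 (iv F57172)) (tt N6195 F46113))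
theorem Q6197 : ∀ i, i < 6197 → P i := stepQ 6196 Q6196 (allL N6196 (tt N6985 (iv F54871)) (tt N7562 (iv F58140)) (tt N7579 D12702) (tt N5045 (iv D9903)) (tt N7573 (iv F58258)) (tt N5050 F46114) (tt N7580 D12703) (tt N7576 (iv F58269)) (tt N7378 (iv F57181)) (tt N6196 F46115))
theorem Q6198 : ∀ i, i < 6198 → P i := stepQ 6197 Q6197 (allL N6197 (tt N6986 (iv F54874)) (tt N7563 (iv F58143)) (tt N5066 F46116) (tt N7580 (iv F58280)) (tt N5046 F46117) (tt N7581 D12704) (tt N5045 (iv D9904)) (tt N7582 D12705) (tt N7379 (iv F57184)) (tt N6197 F46118))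
theorem Q6199 : ∀ i, i < 6199 → P i := stepQ 6198 Q6198 (allL N6198 (tt N6987 (iv F54878)) (tt N7564 (iv F58147)) (tt N5067 F46119) (tt N7575 (iv F58265)) (tt N7582 (iv F58287)) (tt N6198 F46120) (tt N7578 (iv F58275)) (tt N5046 (iv D9905)) (tt N7380 (iv F57186)) (tt N6198 F46121))
theorem Q6200 : ∀ i, i < 6200 → P i := stepQ 6199 Q6199 (allL N6199 (tt N6988 (iv F54882)) (tt N6582 (iv F52639)) (tt N5068 F46122) (tt N6755 F134435) (tt N5047 (iv D9906)) (tt N6587 (iv F52682)) (tt N6613 F134436) (tt N6199 F46123) (tt N6199 F46124) (tt N6199 F46125))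
theorem Q6201 : ∀ i, i < 6201 → P i := stepQ 6200 Q6200 (allL N6200 (tt N6989 (iv F54887)) (tt N6583 (iv F52646)) (tt N5069 F46126) (tt N6200 F46127) (tt N6613 (iv F134288)) (tt N5049 F46128) (tt N5047 (iv D9907)) (tt N6585 F133462) (tt N6200 F46129) (tt N6200 F46130))
theorem Q6202 : ∀ i, i < 6202 → P i := stepQ 6201 Q6201 (allL N6201 (tt N6990 (iv F54893)) (tt N7565 (iv F58151)) (tt N7568 F133473) (tt N5048 (iv D9908)) (tt N6201 F46131) (tt N7576 (iv F58268)) (tt N7567 F133474) (tt N5050 F46132) (tt N5053 F46133) (tt N6201 F46134))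
theorem Q6203 : ∀ i, i < 6203 → P i := stepQ 6202 Q6202 (allL N6202 (tt N6991 (iv F54898)) (tt N7566 (iv F58156)) (tt N5071 F46135) (tt N7567 F133235) (tt N5049 F46136) (tt N7583 D12711) (tt N5048 (iv D9909)) (tt N7584 D12712) (tt N5054 F46137) (tt N6202 F46138))
theorem Q6204 : ∀ i, i < 6204 → P i := stepQ 6203 Q6203 (allL N6203 (tt N6992 (iv F54903)) (tt N5087 (iv F132869)) (tt N5072 F46139) (tt N6203 F46140) (tt N7584 (iv F58315)) (tt N6585 (iv F132888)) (tt N5052 F46141) (tt N5049 (iv D9910)) (tt N5055 F46142) (tt N6203 F46143))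
theorem Q6205 : ∀ i, i < 6205 → P i := stepQ 6204 Q6204 (allL N6204 (tt N6993 (iv F54909)) (tt N7585 D12713) (tt N5050 (iv D9911)) (tt N5073 F46144) (tt N6204 F46145) (tt N7579 (iv F58278)) (tt N7586 D12714) (tt N7568 F133488) (tt N5056 F46146) (tt N6204 F46147))
theorem Q6206 : ∀ i, i < 6206 → P i := stepQ 6205 Q6205 (allL N6205 (tt N6994 (iv F54914)) (tt N7568 (iv F58171)) (tt N7586 (iv F58323)) (tt N5051 F46148) (tt N6205 F46149) (tt N7587 D12715) (tt N5050 (iv D9912)) (tt N7585 F133487) (tt N5057 F46150) (tt N6205 F46151))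
theorem Q6207 : ∀ i, i < 6207 → P i := stepQ 6206 Q6206 (allL N6206 (tt N6995 (iv F54919)) (tt N7569 (iv F58176)) (tt N5075 F46152) (tt N7587 (iv F58328)) (tt N6206 F46153) (tt N5051 (iv D9913)) (tt N7581 (iv F58284)) (tt N7588 D12717) (tt N7589 D12718) (tt N6206 F46154))
theorem Q6208 : ∀ i, i < 6208 → P i := stepQ 6207 Q6207 (allL N6207 (tt N6996 (iv F54923)) (tt N5073 (iv F132874)) (tt N5076 F46155) (tt N7585 (iv F132889)) (tt N5052 F46156) (tt N7588 (iv F58336)) (tt N7584 (iv F58316)) (tt N5051 (iv D9914)) (tt N5059 F46157) (tt N6207 F46158))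
theorem Q6209 : ∀ i, i < 6209 → P i := stepQ 6208 Q6208 (allL N6208 (tt N6999 (iv F54937)) (tt N7572 (iv F58193)) (tt N5077 F46166) (tt N7364 F133154) (tt N6208 F46167) (tt N5054 (iv D9917)) (tt N7395 (iv F57225)) (tt N7590 D12723) (tt N7591 D12724) (tt N5096 F46168))
theorem Q6210 : ∀ i, i < 6210 → P i := stepQ 6209 Q6209 (allL N6209 (tt N7000 (iv F54941)) (tt N5079 (iv F132715)) (tt N5078 F46169) (tt N7570 (iv F132861)) (tt N5055 F46170) (tt N7590 (iv F58357)) (tt N5059 F46171) (tt N5054 (iv D9918)) (tt N7584 (iv F58317)) (tt N5097 F46172))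
theorem Q6211 : ∀ i, i < 6211 → P i := stepQ 6210 Q6210 (allL N6210 (tt N7004 (iv F132891)) (tt N5056 (iv D9919)) (tt N7571 (iv F132865)) (tt N5059 F132326) (tt N6210 F46174) (tt N7397 (iv F57232)) (tt N7570 (iv F132882)) (tt N5057 (iv F132883)) (tt N7585 (iv F58321)) (tt N5098 F46175))
theorem Q6212 : ∀ i, i < 6212 → P i := stepQ 6211 Q6211 (allL N6211 (tt N7002 (iv F54949)) (tt N7570 (iv F132881)) (tt N5057 F46176) (tt N5079 F46177) (tt N6211 F46178) (tt N7592 D12727) (tt N5056 (iv D9920)) (tt N7571 (iv F132863)) (tt N7586 (iv F58326)) (tt N5099 F46179))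
theorem Q6213 : ∀ i, i < 6213 → P i := stepQ 6212 Q6212 (allL N6212 (tt N7003 (iv F54954)) (tt N7393 F133297) (tt N7592 (iv F58368)) (tt N5058 F46180) (tt N7593 D12729) (tt N5057 (iv D9921)) (tt N7399 (iv F57238)) (tt N7397 F133298) (tt N7594 D12731) (tt N5100 F46181))
theorem Q6214 : ∀ i, i < 6214 → P i := stepQ 6213 Q6213 (allL N6213 (tt N7006 (iv F54966)) (tt N7424 F133302) (tt N5083 F46189) (tt N7594 (iv F58381)) (tt N5061 F46190) (tt N7589 (iv F58340)) (tt N7402 (iv F57248)) (tt N7432 F133303) (tt N5058 (iv D9924)) (tt N7595 D12734))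
theorem Q6215 : ∀ i, i < 6215 → P i := stepQ 6214 Q6214 (allL N6214 (tt N7007 (iv F54969)) (tt N6917 (iv F132771)) (tt N6214 F46191) (tt N7593 (iv F58375)) (tt N5060 (iv D9925)) (tt N6214 F46192) (tt N7403 (iv F57250)) (tt N7180 (iv F132732)) (tt N7596 D12736) (tt N5102 F46193))
theorem Q6216 : ∀ i, i < 6216 → P i := stepQ 6215 Q6215 (allL N6215 (tt N7009 (iv F54978)) (tt N6849 (iv F132765)) (tt N6215 F46198) (tt N5061 F46199) (tt N7596 (iv F58396)) (tt N6215 F46200) (tt N7405 (iv F57258)) (tt N7189 (iv F132739)) (tt N5060 (iv D9927)) (tt N6853 (iv F132894)))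
theorem Q6217 : ∀ i, i < 6217 → P i := stepQ 6216 Q6216 (allL N6216 (tt N7012 (iv F54990)) (tt N6647 (iv F132767)) (tt N5086 F46207) (tt N6853 (iv F132893)) (tt N7595 (iv F58389)) (tt N6216 F46208) (tt N7408 (iv F57266)) (tt N7459 (iv F132764)) (tt N5103 F46209) (tt N5061 (iv D9930)))
theorem Q6218 : ∀ i, i < 6218 → P i := stepQ 6217 Q6217 (allL N6217 (tt N7013 (iv F54994)) (tt N5364 F46210) (tt N6587 (iv F52681)) (tt N6614 F134434) (tt N5062 (iv D9931)) (tt N5068 F46211) (tt N7597 D12743) (tt N6217 F46212) (tt N6565 (iv F52547)) (tt N6217 F46213))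
theorem Q6219 : ∀ i, i < 6219 → P i := stepQ 6218 Q6218 (allL N6218 (tt N7014 (iv F54999)) (tt N5365 F46214) (tt N6588 (iv F52687)) (tt N6218 F46215) (tt N7597 (iv F58421)) (tt N5064 F46216) (tt N5062 (iv D9932)) (tt N7598 D12744) (tt N6566 (iv F52553)) (tt N6218 F46217))
theorem Q6220 : ∀ i, i < 6220 → P i := stepQ 6219 Q6219 (allL N6219 (tt N7015 (iv F55004)) (tt N5363 F133236) (tt N7569 F133237) (tt N5063 (iv D9933)) (tt N6219 F46219) (tt N5070 F46220) (tt N7599 D12746) (tt N5065 F46221) (tt N7411 (iv F57282)) (tt N6219 F46222))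
theorem Q6221 : ∀ i, i < 6221 → P i := stepQ 6220 Q6220 (allL N6220 (tt N7016 (iv F55010)) (tt N5366 F46223) (tt N7577 (iv F58271)) (tt N7599 (iv F58433)) (tt N5064 F46224) (tt N7600 D12747) (tt N5063 (iv D9934)) (tt N7601 D12748) (tt N7412 (iv F57285)) (tt N6220 F46225))
theorem Q6222 : ∀ i, i < 6222 → P i := stepQ 6221 Q6221 (allL N6221 (tt N7017 (iv F55014)) (tt N5367 F46226) (tt N7578 (iv F58274)) (tt N6221 F46227) (tt N7601 (iv F58440)) (tt N7598 (iv F58425)) (tt N5067 F46228) (tt N5064 (iv D9935)) (tt N7413 (iv F57289)) (tt N6221 F46229))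
theorem Q6223 : ∀ i, i < 6223 → P i := stepQ 6222 Q6222 (allL N6222 (tt N7018 (iv F55019)) (tt N7588 F133489) (tt N5065 (iv D9936)) (tt N7579 (iv F58277)) (tt N6222 F46230) (tt N5073 F46231) (tt N7602 D12750) (tt N7569 F133490) (tt N7417 (iv F57305)) (tt N6222 F46232))
theorem Q6224 : ∀ i, i < 6224 → P i := stepQ 6223 Q6223 (allL N6223 (tt N7019 (iv F55023)) (tt N5369 F46233) (tt N7602 (iv F58447)) (tt N5066 F46234) (tt N6223 F46235) (tt N7603 D12751) (tt N5065 (iv D9937)) (tt N7604 D12752) (tt N7418 (iv F57309)) (tt N6223 F46236))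
theorem Q6225 : ∀ i, i < 6225 → P i := stepQ 6224 Q6224 (allL N6224 (tt N7020 (iv F55028)) (tt N5370 F46237) (tt N7581 (iv F58282)) (tt N7603 (iv F58451)) (tt N6224 F46238) (tt N5066 (iv D9938)) (tt N5075 F46239) (tt N7605 D12753) (tt N7606 D12754) (tt N6224 F46240))
theorem Q6226 : ∀ i, i < 6226 → P i := stepQ 6225 Q6225 (allL N6225 (tt N7021 (iv F55033)) (tt N5371 F46241) (tt N7582 (iv F58286)) (tt N7604 (iv F58455)) (tt N5067 F46242) (tt N7605 (iv F58460)) (tt N7601 (iv F58441)) (tt N5066 (iv D9939)) (tt N7420 (iv F57314)) (tt N6225 F46243))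
theorem Q6227 : ∀ i, i < 6227 → P i := stepQ 6226 Q6226 (allL N6226 (tt N7023 (iv F55066)) (tt N5356 F133229) (tt N7583 (iv F58312)) (tt N5349 F133230) (tt N6607 (iv F134024)) (tt N5071 (iv D9945)) (tt N7600 (iv F58437)) (tt N6597 F133231) (tt N7607 D12764) (tt N6226 F46269))
theorem Q6228 : ∀ i, i < 6228 → P i := stepQ 6227 Q6227 (allL N6227 (tt N7024 (iv F55069)) (tt N5361 (iv F132698)) (tt N7584 (iv F58314)) (tt N5351 (iv F132680)) (tt N5072 F46271) (tt N6597 (iv F132896)) (tt N5076 F46272) (tt N5071 (iv D9946)) (tt N5078 F46273) (tt N6227 F46274))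
theorem Q6229 : ∀ i, i < 6229 → P i := stepQ 6228 Q6228 (allL N6228 (tt N7026 (iv F55079)) (tt N7584 F133257) (tt N5074 F46279) (tt N7586 (iv F58324)) (tt N5087 F46280) (tt N7608 D12767) (tt N5073 (iv D9948)) (tt N7566 F133258) (tt N5079 F46281) (tt N6228 F46282))
theorem Q6230 : ∀ i, i < 6230 → P i := stepQ 6229 Q6229 (allL N6229 (tt N7027 (iv F55084)) (tt N5375 F46283) (tt N7608 (iv F58515)) (tt N5075 F46284) (tt N7609 D12769) (tt N5074 (iv D9949)) (tt N7603 (iv F58452)) (tt N7610 D12770) (tt N7611 D12771) (tt N6229 F46285))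
theorem Q6231 : ∀ i, i < 6231 → P i := stepQ 6230 Q6230 (allL N6230 (tt N7028 (iv F55088)) (tt N5362 (iv F132700)) (tt N7566 (iv F132854)) (tt N5076 F46287) (tt N5089 F46288) (tt N7610 (iv F58527)) (tt N5351 (iv F132681)) (tt N5074 (iv D9950)) (tt N5081 F46289) (tt N6230 F46290))
theorem Q6232 : ∀ i, i < 6232 → P i := stepQ 6231 Q6231 (allL N6231 (tt N7029 (iv F55094)) (tt N5368 F133256) (tt N7588 (iv F58334)) (tt N7610 (iv F58526)) (tt N6231 F46292) (tt N5076 F46293) (tt N7612 D12772) (tt N5075 (iv D9951)) (tt N7613 D12773) (tt N6231 F46294))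
theorem Q6233 : ∀ i, i < 6233 → P i := stepQ 6232 Q6232 (allL N6232 (tt N7030 (iv F55099)) (tt N5376 F46295) (tt N7589 (iv F58338)) (tt N7611 (iv F58530)) (tt N6232 F46296) (tt N5083 F46297) (tt N7606 (iv F58464)) (tt N7613 (iv F58538)) (tt N5075 (iv D9952)) (tt N7614 D12774))
theorem Q6234 : ∀ i, i < 6234 → P i := stepQ 6233 Q6233 (allL N6233 (tt N7031 (iv F55121)) (tt N5215 (iv F132569)) (tt N7590 (iv F58355)) (tt N5198 (iv F132564)) (tt N6233 F46314) (tt N5078 F46315) (tt N7615 D12782) (tt N5077 (iv D9957)) (tt N7616 D12783) (tt N5104 F46316))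
theorem Q6235 : ∀ i, i < 6235 → P i := stepQ 6234 Q6234 (allL N6234 (tt N7032 (iv F55126)) (tt N5212 F133082) (tt N7591 (iv F58359)) (tt N5196 F133083) (tt N6234 F46318) (tt N7607 (iv F58505)) (tt N7440 (iv F57390)) (tt N7616 (iv F58573)) (tt N5077 (iv D9958)) (tt N7617 D12784))
theorem Q6236 : ∀ i, i < 6236 → P i := stepQ 6235 Q6235 (allL N6235 (tt N7034 (iv F55137)) (tt N7590 (iv F132890)) (tt N5080 F46326) (tt N7592 (iv F58369)) (tt N6235 F46327) (tt N5079 (iv D9961)) (tt N7442 (iv F57401)) (tt N7572 (iv F132868)) (tt N7618 D12789) (tt N5106 F46328))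
theorem Q6237 : ∀ i, i < 6237 → P i := stepQ 6236 Q6236 (allL N6236 (tt N7036 (iv F55145)) (tt N5218 (iv F132571)) (tt N7572 (iv F132867)) (tt N5082 F46333) (tt N6236 F46334) (tt N5081 F46335) (tt N7619 D12790) (tt N5080 (iv D9963)) (tt N7620 D12791) (tt N5107 F46336))
theorem Q6238 : ∀ i, i < 6238 → P i := stepQ 6237 Q6237 (allL N6237 (tt N7037 (iv F55151)) (tt N5377 F46337) (tt N7618 (iv F58593)) (tt N5083 F46338) (tt N6237 F46339) (tt N7611 (iv F58531)) (tt N7445 (iv F57414)) (tt N7620 (iv F58602)) (tt N5080 (iv D9964)) (tt N7621 D12792))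
theorem Q6239 : ∀ i, i < 6239 → P i := stepQ 6238 Q6238 (allL N6238 (tt N7038 (iv F55155)) (tt N5247 F133124) (tt N7441 F133125) (tt N7619 (iv F58596)) (tt N5084 F46341) (tt N7615 (iv F58569)) (tt N5082 (iv D9965)) (tt N7446 (iv F57417)) (tt N7622 D12793) (tt N5109 F46342))
theorem Q6240 : ∀ i, i < 6240 → P i := stepQ 6239 Q6239 (allL N6239 (tt N7039 (iv F55159)) (tt N5242 F133122) (tt N7432 F133123) (tt N7620 (iv F58600)) (tt N5085 F46344) (tt N7613 (iv F58537)) (tt N7622 (iv F58609)) (tt N5083 F46345) (tt N5082 (iv D9966)) (tt N7623 D12794))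
theorem Q6241 : ∀ i, i < 6241 → P i := stepQ 6240 Q6240 (allL N6240 (tt N7040 (iv F55163)) (tt N5378 F46346) (tt N7595 (iv F58388)) (tt N7621 (iv F58604)) (tt N5086 F46347) (tt N7614 (iv F58541)) (tt N7448 (iv F57424)) (tt N7623 (iv F58612)) (tt N5111 F46348) (tt N5083 (iv D9967)))
theorem Q6242 : ∀ i, i < 6242 → P i := stepQ 6241 Q6241 (allL N6241 (tt N7041 (iv F55167)) (tt N5269 F133128) (tt N7465 F133129) (tt N6241 F46350) (tt N7622 (iv F58608)) (tt N7624 D12795) (tt N5085 F46351) (tt N7449 (iv F57429)) (tt N5084 (iv D9968)) (tt N7625 D12796))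
theorem Q6243 : ∀ i, i < 6243 → P i := stepQ 6242 Q6242 (allL N6242 (tt N7042 (iv F55171)) (tt N5265 F133130) (tt N7459 F133131) (tt N6242 F46353) (tt N7623 (iv F58611)) (tt N6242 F46354) (tt N7625 (iv F58620)) (tt N5086 F46355) (tt N5113 F46356) (tt N5085 (iv D9969)))
theorem Q6244 : ∀ i, i < 6244 → P i := stepQ 6243 Q6243 (allL N6243 (tt N7044 (iv F55244)) (tt N6585 (iv F132887)) (tt N5088 F46415) (tt N6243 F46416) (tt N6615 (iv F133520)) (tt N5087 (iv D9982)) (tt N6243 F46417) (tt N6583 F133472) (tt N6243 F46418) (tt N6243 F46419))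
theorem Q6245 : ∀ i, i < 6245 → P i := stepQ 6244 Q6244 (allL N6244 (tt N7046 (iv F55255)) (tt N5379 F46424) (tt N6615 F134051) (tt N6244 F46425) (tt N5088 (iv D9984)) (tt N7609 (iv F58523)) (tt N6244 F46426) (tt N6584 F134052) (tt N6244 F46427) (tt N6244 F46428))
theorem Q6246 : ∀ i, i < 6246 → P i := stepQ 6245 Q6245 (allL N6245 (tt N5092 F46516) (tt N7047 (iv F55365)) (tt N7062 (iv F132526)) (tt N5090 (iv D10004)) (tt N6245 F46517) (tt N7477 (iv F57589)) (tt N7067 (iv F132529)) (tt N5091 F46518) (tt N6245 F46519) (tt N7561 (iv F58085)))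
theorem Q6247 : ∀ i, i < 6247 → P i := stepQ 6246 Q6246 (allL N6246 (tt N7062 (iv F132525)) (tt N5099 (iv F132355)) (tt N5092 (iv D10017)) (tt N5097 F132350) (tt N6246 F46569) (tt N7490 (iv F57659)) (tt N5098 F132338) (tt N5094 F46570) (tt N6246 F46571) (tt N7570 (iv F58188)))
theorem Q6248 : ∀ i, i < 6248 → P i := stepQ 6247 Q6247 (allL N6247 (tt N7067 (iv F132527)) (tt N5094 F132340) (tt N5098 F132341) (tt N5093 F46573) (tt N6247 F46574) (tt N7494 (iv F132792)) (tt N5092 (iv D10018)) (tt N5099 F132339) (tt N6247 F46575) (tt N7571 (iv F58192)))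
theorem Q6249 : ∀ i, i < 6249 → P i := stepQ 6248 Q6248 (allL N6248 (tt N7077 (iv F132534)) (tt N5096 F46576) (tt N5107 F132342) (tt N7494 (iv F132791)) (tt N6248 F46578) (tt N5093 (iv D10019)) (tt N7492 (iv F57666)) (tt N5106 (iv F132365)) (tt N7626 D12863) (tt N7572 (iv F58196)))
theorem Q6250 : ∀ i, i < 6250 → P i := stepQ 6249 Q6249 (allL N6249 (tt N7063 (iv F55508)) (tt N5106 (iv F132364)) (tt N5104 F46646) (tt N7490 (iv F132778)) (tt N6249 F46647) (tt N5097 F46648) (tt N7542 (iv F132831)) (tt N5096 (iv D10039)) (tt N7627 D12892) (tt N7590 (iv F58358)))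
theorem Q6251 : ∀ i, i < 6251 → P i := stepQ 6250 Q6250 (allL N6250 (tt N7064 (iv F55512)) (tt N7626 (iv F58905)) (tt N5105 F46649) (tt N7486 F133153) (tt N6250 F46650) (tt N6250 F46651) (tt N7511 (iv F57762)) (tt N7627 (iv F59005)) (tt N5096 (iv D10040)) (tt N7628 D12893))
theorem Q6252 : ∀ i, i < 6252 → P i := stepQ 6251 Q6251 (allL N6251 (tt N7066 (iv F55524)) (tt N7490 (iv F132784)) (tt N5100 F46659) (tt N5106 F46660) (tt N7629 D12897) (tt N5099 (iv D10043)) (tt N7513 (iv F57769)) (tt N7494 (iv F132783)) (tt N7630 D12899) (tt N7592 (iv F58370)))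
theorem Q6253 : ∀ i, i < 6253 → P i := stepQ 6252 Q6252 (allL N6252 (tt N7068 (iv F55532)) (tt N6897 (iv F132824)) (tt N7629 (iv F59019)) (tt N5102 F46665) (tt N5100 (iv D10045)) (tt N6252 F46666) (tt N7515 (iv F57773)) (tt N7210 (iv F132727)) (tt N6905 (iv F132912)) (tt N7593 (iv F58377)))
theorem Q6254 : ∀ i, i < 6254 → P i := stepQ 6253 Q6253 (allL N6253 (tt N7070 (iv F55538)) (tt N6665 (iv F132825)) (tt N7630 (iv F59025)) (tt N5101 F46669) (tt N6905 (iv F132911)) (tt N6253 F46670) (tt N7517 (iv F57777)) (tt N7503 (iv F132793)) (tt N5100 (iv D10047)) (tt N7631 D12904))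
theorem Q6255 : ∀ i, i < 6255 → P i := stepQ 6254 Q6254 (allL N6254 (tt N7072 (iv F55549)) (tt N6641 (iv F132843)) (tt N5111 F46677) (tt N7631 (iv F59037)) (tt N5103 F46678) (tt N6254 F46679) (tt N7520 (iv F57786)) (tt N7524 (iv F132819)) (tt N7595 (iv F58390)) (tt N5101 (iv D10050)))
theorem Q6256 : ∀ i, i < 6256 → P i := stepQ 6255 Q6255 (allL N6255 (tt N7073 (iv F55608)) (tt N5305 (iv F132618)) (tt N7542 (iv F132830)) (tt N5290 (iv F132601)) (tt N6255 F46723) (tt N5109 F46724) (tt N5104 (iv D10065)) (tt N7539 (iv F57892)) (tt N7632 D12926) (tt N7615 (iv F58570)))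
theorem Q6257 : ∀ i, i < 6257 → P i := stepQ 6256 Q6256 (allL N6256 (tt N7074 (iv F55612)) (tt N5295 (iv F132379)) (tt N7627 (iv F59002)) (tt N5284 (iv F132374)) (tt N6256 F46726) (tt N6256 F46727) (tt N7632 (iv F59104)) (tt N5105 F46728) (tt N5104 (iv D10066)) (tt N7633 D12927))
theorem Q6258 : ∀ i, i < 6258 → P i := stepQ 6257 Q6257 (allL N6257 (tt N7075 (iv F55617)) (tt N5298 F133149) (tt N7628 (iv F59006)) (tt N5286 F133150) (tt N6257 F46730) (tt N6257 F46731) (tt N7541 (iv F57898)) (tt N7633 (iv F59108)) (tt N7617 (iv F58576)) (tt N5105 (iv D10067)))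
theorem Q6259 : ∀ i, i < 6259 → P i := stepQ 6258 Q6258 (allL N6258 (tt N7078 (iv F55637)) (tt N7627 (iv F132907)) (tt N5108 F46746) (tt N7630 (iv F59026)) (tt N6258 F46747) (tt N6258 F46748) (tt N7544 (iv F57914)) (tt N7626 (iv F132906)) (tt N5106 (iv D10072)) (tt N7634 D12934))
theorem Q6260 : ∀ i, i < 6260 → P i := stepQ 6259 Q6259 (allL N6259 (tt N7079 (iv F55641)) (tt N5306 (iv F132619)) (tt N7492 (iv F132903)) (tt N5109 F46750) (tt N6259 F46751) (tt N5290 (iv F132602)) (tt N5107 (iv D10073)) (tt N7545 (iv F57918)) (tt N7635 D12935) (tt N7619 (iv F58598)))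
theorem Q6261 : ∀ i, i < 6261 → P i := stepQ 6260 Q6260 (allL N6260 (tt N7080 (iv F55645)) (tt N5301 (iv F132614)) (tt N7626 (iv F132905)) (tt N5110 F46753) (tt N6260 F46754) (tt N6260 F46755) (tt N7635 (iv F59136)) (tt N5108 F46756) (tt N5107 (iv D10074)) (tt N7636 D12936))
theorem Q6262 : ∀ i, i < 6262 → P i := stepQ 6261 Q6261 (allL N6261 (tt N7081 (iv F55651)) (tt N5380 F46757) (tt N7634 (iv F59130)) (tt N5111 F46758) (tt N6261 F46759) (tt N6261 F46760) (tt N7547 (iv F57926)) (tt N7636 (iv F59141)) (tt N7621 (iv F58606)) (tt N5108 (iv D10075)))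
theorem Q6263 : ∀ i, i < 6263 → P i := stepQ 6262 Q6262 (allL N6262 (tt N7082 (iv F55656)) (tt N5322 F133189) (tt N7530 F133190) (tt N7635 (iv F59134)) (tt N5112 F46762) (tt N7637 D12937) (tt N5110 F46763) (tt N7548 (iv F57930)) (tt N5109 (iv D10076)) (tt N7638 D12938))
theorem Q6264 : ∀ i, i < 6264 → P i := stepQ 6263 Q6263 (allL N6263 (tt N7083 (iv F55660)) (tt N5318 F133187) (tt N7524 F133188) (tt N7636 (iv F59138)) (tt N5113 F46765) (tt N6263 F46766) (tt N7638 (iv F59146)) (tt N5111 F46767) (tt N7623 (iv F58613)) (tt N5110 (iv D10077)))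
theorem Q6265 : ∀ i, i < 6265 → P i := stepQ 6264 Q6264 (allL N6264 (tt N6889 F132367) (tt N5340 (iv F132657)) (tt N6874 F132368) (tt N6264 F46769) (tt N7639 D12939) (tt N5112 (iv D10078)) (tt N5114 F46770) (tt N7550 (iv F57937)) (tt N6264 F46771) (tt N7640 D12940))
theorem Q6266 : ∀ i, i < 6266 → P i := stepQ 6265 Q6265 (allL N6265 (tt N7084 (iv F55670)) (tt N5335 F133204) (tt N7552 F133205) (tt N6265 F46773) (tt N7638 (iv F59145)) (tt N7640 (iv F59152)) (tt N5113 F46774) (tt N7551 (iv F57942)) (tt N7625 (iv F58621)) (tt N5112 (iv D10079)))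
theorem Q6267 : ∀ i, i < 6267 → P i := stepQ 6266 Q6266 (allL N6266 (tt N6661 F132370) (tt N5346 (iv F132673)) (tt N6655 F132371) (tt N7341 (iv F132933)) (tt N5114 (iv D10128)) (tt N6266 F46989) (tt N7639 (iv F59148)) (tt N6266 F46990) (tt N6266 F46991) (tt N7340 (iv F132935)))
theorem Q6268 : ∀ i, i < 6268 → P i := stepQ 6267 Q6267 (allL N6267 (tt N6781 F132372) (tt N5343 (iv F132669)) (tt N6766 F132373) (tt N6267 F46993) (tt N7340 (iv F132934)) (tt N5115 F46994) (tt N7640 (iv F59153)) (tt N6267 F46995) (tt N7339 (iv F132936)) (tt N5114 (iv D10129)))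
theorem Q6269 : ∀ i, i < 6269 → P i := stepQ 6268 Q6268 (allL N6268 (tt N5121 F46996) (tt N6268 F46997) (tt N7233 (iv F56610)) (tt N6268 F46998) (tt N7641 D13002) (tt N5116 (iv D10130)) (tt N7642 D13003) (tt N6712 (iv F53381)) (tt N5118 F46999) (tt N6711 (iv F53377)))
theorem Q6270 : ∀ i, i < 6270 → P i := stepQ 6269 Q6269 (allL N6269 (tt N5122 F47000) (tt N6269 F47001) (tt N6962 (iv F54753)) (tt N6269 F47002) (tt N7643 D13004) (tt N5117 (iv D10131)) (tt N7644 D13005) (tt N5118 F47003) (tt N6712 (iv F53382)) (tt N6269 F47004))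
theorem Q6271 : ∀ i, i < 6271 → P i := stepQ 6270 Q6270 (allL N6270 (tt N5123 F47005) (tt N6270 F47006) (tt N7234 (iv F56613)) (tt N7645 D13006) (tt N5118 (iv D10132)) (tt N6270 F47007) (tt N7646 D13007) (tt N7643 (iv F59438)) (tt N7641 (iv F59429)) (tt N6270 F47008))
theorem Q6272 : ∀ i, i < 6272 → P i := stepQ 6271 Q6271 (allL N6271 (tt N5124 F47009) (tt N6271 F47010) (tt N7235 (iv F56617)) (tt N6271 F47011) (tt N7646 (iv F59452)) (tt N5120 F47012) (tt N5118 (iv D10133)) (tt N7647 D13008) (tt N7642 (iv F59434)) (tt N6271 F47013))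
theorem Q6273 : ∀ i, i < 6273 → P i := stepQ 6272 Q6272 (allL N6272 (tt N5125 F47021) (tt N6272 F47022) (tt N7237 (iv F56626)) (tt N6862 (iv F133993)) (tt N5120 F47023) (tt N7648 D13011) (tt N5119 (iv D10135)) (tt N7649 D13012) (tt N5191 F47024) (tt N6272 F47025))
theorem Q6274 : ∀ i, i < 6274 → P i := stepQ 6273 Q6273 (allL N6273 (tt N5126 F47026) (tt N6273 F47027) (tt N7238 (iv F56631)) (tt N6273 F47028) (tt N7649 (iv F59477)) (tt N7647 (iv F59457)) (tt N6273 F47029) (tt N5120 (iv D10136)) (tt N5192 F47030) (tt N6273 F47031))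
theorem Q6275 : ∀ i, i < 6275 → P i := stepQ 6274 Q6274 (allL N6274 (tt N7641 (iv F59427)) (tt N5130 F47032) (tt N7242 (iv F56651)) (tt N7650 D13013) (tt N5121 (iv D10137)) (tt N7283 (iv F56809)) (tt N7651 D13014) (tt N7276 (iv F56779)) (tt N5123 F47033) (tt N7274 (iv F56771)))
theorem Q6276 : ∀ i, i < 6276 → P i := stepQ 6275 Q6275 (allL N6275 (tt N7642 (iv F59430)) (tt N5131 F47034) (tt N7243 (iv F56654)) (tt N6275 F47035) (tt N7651 (iv F59485)) (tt N5197 F47036) (tt N5121 (iv D10138)) (tt N7652 D13015) (tt N5124 F47037) (tt N7275 (iv F56776)))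
theorem Q6277 : ∀ i, i < 6277 → P i := stepQ 6276 Q6276 (allL N6276 (tt N7643 (iv F59435)) (tt N5132 F47038) (tt N7244 (iv F56658)) (tt N7653 D13016) (tt N5122 (iv D10139)) (tt N6276 F47039) (tt N7654 D13017) (tt N5123 F47040) (tt N7276 (iv F56780)) (tt N6276 F47041))
theorem Q6278 : ∀ i, i < 6278 → P i := stepQ 6277 Q6277 (allL N6277 (tt N7644 (iv F59440)) (tt N5133 F47042) (tt N7245 (iv F56663)) (tt N6277 F47043) (tt N7654 (iv F59497)) (tt N6277 F47044) (tt N5122 (iv D10140)) (tt N7655 D13018) (tt N7277 (iv F56785)) (tt N6277 F47045))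
theorem Q6279 : ∀ i, i < 6279 → P i := stepQ 6278 Q6278 (allL N6278 (tt N7645 (iv F59445)) (tt N5134 F47046) (tt N7656 D13019) (tt N5123 (iv D10141)) (tt N6278 F47047) (tt N6278 F47048) (tt N7657 D13020) (tt N7653 (iv F59494)) (tt N7650 (iv F59483)) (tt N6278 F47049))
theorem Q6280 : ∀ i, i < 6280 → P i := stepQ 6279 Q6279 (allL N6279 (tt N7646 (iv F59450)) (tt N5135 F47050) (tt N7247 (iv F56670)) (tt N7657 (iv F59508)) (tt N5124 F47051) (tt N7658 D13021) (tt N5123 (iv D10142)) (tt N7659 D13022) (tt N7651 (iv F59486)) (tt N6279 F47052))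
theorem Q6281 : ∀ i, i < 6281 → P i := stepQ 6280 Q6280 (allL N6280 (tt N7647 (iv F59454)) (tt N5136 F47053) (tt N7248 (iv F56674)) (tt N6280 F47054) (tt N7659 (iv F59516)) (tt N5126 F47055) (tt N7655 (iv F59502)) (tt N5124 (iv D10143)) (tt N7652 (iv F59490)) (tt N6280 F47056))
theorem Q6282 : ∀ i, i < 6282 → P i := stepQ 6281 Q6281 (allL N6281 (tt N7648 (iv F59471)) (tt N5138 F47068) (tt N7250 (iv F56688)) (tt N7458 (iv F134018)) (tt N7658 (iv F59512)) (tt N5125 (iv D10146)) (tt N6281 F47069) (tt N7660 D13026) (tt N7455 (iv F133949)) (tt N6281 F47070))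
theorem Q6283 : ∀ i, i < 6283 → P i := stepQ 6282 Q6282 (allL N6282 (tt N7649 (iv F59475)) (tt N5139 F47071) (tt N7251 (iv F56692)) (tt N7471 (iv F134016)) (tt N5126 F47072) (tt N7660 (iv F59534)) (tt N6282 F47073) (tt N5125 (iv D10147)) (tt N5202 F47074) (tt N6282 F47075))
theorem Q6284 : ∀ i, i < 6284 → P i := stepQ 6283 Q6283 (allL N6283 (tt N6283 F47076) (tt N7283 (iv F56808)) (tt N5140 F47077) (tt N7661 D13028) (tt N5127 (iv D10148)) (tt N5130 F47078) (tt N7662 D13029) (tt N5145 F47079) (tt N6283 F47080) (tt N5143 F47081))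
theorem Q6285 : ∀ i, i < 6285 → P i := stepQ 6284 Q6284 (allL N6284 (tt N6284 F47082) (tt N7284 (iv F56813)) (tt N5141 F47083) (tt N5163 F47084) (tt N7662 (iv F59547)) (tt N5205 F47085) (tt N5127 (iv D10149)) (tt N7663 D13030) (tt N6284 F47086) (tt N5144 F47087))
theorem Q6286 : ∀ i, i < 6286 → P i := stepQ 6285 Q6285 (allL N6285 (tt N6285 F47088) (tt N7276 (iv F56777)) (tt N5143 F47089) (tt N7664 D13031) (tt N5128 (iv D10150)) (tt N5145 F47090) (tt N7665 D13032) (tt N5130 F47091) (tt N5132 F47092) (tt N5140 F47093))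
theorem Q6287 : ∀ i, i < 6287 → P i := stepQ 6286 Q6286 (allL N6286 (tt N6286 F47094) (tt N7277 (iv F56782)) (tt N5144 F47095) (tt N6286 F47096) (tt N7665 (iv F59565)) (tt N5228 F47097) (tt N5128 (iv D10151)) (tt N7666 D13033) (tt N5133 F47098) (tt N5141 F47099))
theorem Q6288 : ∀ i, i < 6288 → P i := stepQ 6287 Q6287 (allL N6287 (tt N6287 F47100) (tt N7274 (iv F56767)) (tt N5145 F47101) (tt N7667 D13034) (tt N5129 (iv D10152)) (tt N5143 F47102) (tt N7668 D13035) (tt N5140 F47103) (tt N6287 F47104) (tt N5130 F47105))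
theorem Q6289 : ∀ i, i < 6289 → P i := stepQ 6288 Q6288 (allL N6288 (tt N6288 F47106) (tt N7275 (iv F56772)) (tt N5146 F47107) (tt N6288 F47108) (tt N7668 (iv F59583)) (tt N5211 F47109) (tt N5129 (iv D10153)) (tt N7669 D13036) (tt N6288 F47110) (tt N5131 F47111))
theorem Q6290 : ∀ i, i < 6290 → P i := stepQ 6289 Q6289 (allL N6289 (tt N6289 F47112) (tt N7650 (iv F59481)) (tt N7670 D13037) (tt N5130 (iv D10154)) (tt N6289 F47113) (tt N7661 (iv F59541)) (tt N7671 D13038) (tt N7664 (iv F59560)) (tt N5134 F47114) (tt N7667 (iv F59580)))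
theorem Q6291 : ∀ i, i < 6291 → P i := stepQ 6290 Q6290 (allL N6290 (tt N6290 F47115) (tt N7651 (iv F59484)) (tt N5148 F47116) (tt N7671 (iv F59598)) (tt N5131 F47117) (tt N7672 D13039) (tt N5130 (iv D10155)) (tt N7673 D13040) (tt N5135 F47118) (tt N7668 (iv F59585)))
theorem Q6292 : ∀ i, i < 6292 → P i := stepQ 6291 Q6291 (allL N6291 (tt N6291 F47119) (tt N7652 (iv F59487)) (tt N5149 F47120) (tt N6291 F47121) (tt N7673 (iv F59606)) (tt N5214 F47122) (tt N7666 (iv F59572)) (tt N5131 (iv D10156)) (tt N5136 F47123) (tt N7669 (iv F59592)))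
theorem Q6293 : ∀ i, i < 6293 → P i := stepQ 6292 Q6292 (allL N6292 (tt N6292 F47124) (tt N7653 (iv F59491)) (tt N7674 D13041) (tt N5132 (iv D10157)) (tt N6292 F47125) (tt N6292 F47126) (tt N7675 D13042) (tt N5134 F47127) (tt N7664 (iv F59561)) (tt N6292 F47128))
theorem Q6294 : ∀ i, i < 6294 → P i := stepQ 6293 Q6293 (allL N6293 (tt N6293 F47129) (tt N7654 (iv F59496)) (tt N5151 F47130) (tt N7675 (iv F59615)) (tt N5133 F47131) (tt N7676 D13043) (tt N5132 (iv D10158)) (tt N7677 D13044) (tt N7665 (iv F59566)) (tt N6293 F47132))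
theorem Q6295 : ∀ i, i < 6295 → P i := stepQ 6294 Q6294 (allL N6294 (tt N6294 F47133) (tt N7655 (iv F59499)) (tt N5152 F47134) (tt N6294 F47135) (tt N7677 (iv F59625)) (tt N6294 F47136) (tt N5136 F47137) (tt N5133 (iv D10159)) (tt N7666 (iv F59573)) (tt N6294 F47138))
theorem Q6296 : ∀ i, i < 6296 → P i := stepQ 6295 Q6295 (allL N6295 (tt N6295 F47139) (tt N7678 D13045) (tt N5134 (iv D10160)) (tt N5153 F47140) (tt N6295 F47141) (tt N6295 F47142) (tt N7679 D13046) (tt N7674 (iv F59612)) (tt N7670 (iv F59596)) (tt N6295 F47143))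
theorem Q6297 : ∀ i, i < 6297 → P i := stepQ 6296 Q6296 (allL N6296 (tt N6296 F47144) (tt N7657 (iv F59507)) (tt N7679 (iv F59633)) (tt N5135 F47145) (tt N6296 F47146) (tt N7680 D13047) (tt N5134 (iv D10161)) (tt N7681 D13048) (tt N7671 (iv F59600)) (tt N6296 F47147))
theorem Q6298 : ∀ i, i < 6298 → P i := stepQ 6297 Q6297 (allL N6297 (tt N6297 F47148) (tt N7658 (iv F59511)) (tt N5155 F47149) (tt N7680 (iv F59638)) (tt N5138 F47150) (tt N5135 (iv D10162)) (tt N6297 F47151) (tt N7682 D13049) (tt N7683 D13050) (tt N6297 F47152))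
theorem Q6299 : ∀ i, i < 6299 → P i := stepQ 6298 Q6298 (allL N6298 (tt N6298 F47153) (tt N7659 (iv F59515)) (tt N5156 F47154) (tt N7681 (iv F59642)) (tt N5136 F47155) (tt N7682 (iv F59648)) (tt N7677 (iv F59626)) (tt N5135 (iv D10163)) (tt N7673 (iv F59607)) (tt N6298 F47156))
theorem Q6300 : ∀ i, i < 6300 → P i := stepQ 6299 Q6299 (allL N6299 (tt N6299 F47157) (tt N7458 (iv F134017)) (tt N6299 F47158) (tt N5138 F47159) (tt N7684 D13051) (tt N5137 (iv D10164)) (tt N6299 F47160) (tt N7685 D13052) (tt N5263 (iv F133954)) (tt N6299 F47161))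
theorem Q6301 : ∀ i, i < 6301 → P i := stepQ 6300 Q6300 (allL N6300 (tt N6300 F47162) (tt N7471 (iv F134015)) (tt N6300 F47163) (tt N5139 F47164) (tt N6300 F47165) (tt N7685 (iv F59662)) (tt N6300 F47166) (tt N5137 (iv D10165)) (tt N5222 F47167) (tt N6300 F47168))
theorem Q6302 : ∀ i, i < 6302 → P i := stepQ 6301 Q6301 (allL N6301 (tt N6301 F47169) (tt N7660 (iv F59533)) (tt N5157 F47170) (tt N7685 (iv F59661)) (tt N7682 (iv F59647)) (tt N5139 F47171) (tt N7686 D13054) (tt N5138 (iv D10166)) (tt N7687 D13055) (tt N6301 F47172))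
theorem Q6303 : ∀ i, i < 6303 → P i := stepQ 6302 Q6302 (allL N6302 (tt N6302 F47173) (tt N7455 (iv F133947)) (tt N5158 F47174) (tt N5263 (iv F133953)) (tt N7683 (iv F59652)) (tt N5224 F47175) (tt N6302 F47176) (tt N7687 (iv F59677)) (tt N5138 (iv D10167)) (tt N7688 D13056))
theorem Q6304 : ∀ i, i < 6304 → P i := stepQ 6303 Q6303 (allL N6303 (tt N6303 F47177) (tt N7278 (iv F56787)) (tt N7689 D13057) (tt N5140 (iv D10168)) (tt N6303 F47178) (tt N5147 F47179) (tt N7690 D13058) (tt N7667 (iv F59578)) (tt N6303 F47180) (tt N7664 (iv F59562)))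
theorem Q6305 : ∀ i, i < 6305 → P i := stepQ 6304 Q6304 (allL N6304 (tt N6304 F47181) (tt N7279 (iv F56791)) (tt N7662 (iv F59546)) (tt N7690 (iv F59688)) (tt N5141 F47182) (tt N7691 D13059) (tt N5140 (iv D10169)) (tt N7692 D13060) (tt N6304 F47183) (tt N7665 (iv F59567)))
theorem Q6306 : ∀ i, i < 6306 → P i := stepQ 6305 Q6305 (allL N6305 (tt N6305 F47184) (tt N7280 (iv F56794)) (tt N7663 (iv F59551)) (tt N6305 F47185) (tt N7692 (iv F59695)) (tt N5231 F47186) (tt N7669 (iv F59590)) (tt N5141 (iv D10170)) (tt N6305 F47187) (tt N7666 (iv F59574)))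
theorem Q6307 : ∀ i, i < 6307 → P i := stepQ 6306 Q6306 (allL N6306 (tt N6306 F47188) (tt N7281 (iv F56798)) (tt N5227 F47189) (tt N7693 D13061) (tt N5142 (iv D10171)) (tt N5210 F47190) (tt N7694 D13062) (tt N5232 F47191) (tt N6306 F47192) (tt N5204 F47193))
theorem Q6308 : ∀ i, i < 6308 → P i := stepQ 6307 Q6307 (allL N6307 (tt N6307 F47194) (tt N7282 (iv F56803)) (tt N5228 F47195) (tt N5161 F47196) (tt N7694 (iv F59705)) (tt N5144 F47197) (tt N5142 (iv D10172)) (tt N7695 D13063) (tt N6307 F47198) (tt N5205 F47199))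
theorem Q6309 : ∀ i, i < 6309 → P i := stepQ 6308 Q6308 (allL N6308 (tt N6308 F47200) (tt N7285 (iv F56818)) (tt N7696 D13064) (tt N5143 (iv D10173)) (tt N5164 F47201) (tt N7667 (iv F59577)) (tt N7697 D13065) (tt N5147 F47202) (tt N5150 F47203) (tt N7661 (iv F59544)))
theorem Q6310 : ∀ i, i < 6310 → P i := stepQ 6309 Q6309 (allL N6309 (tt N6309 F47204) (tt N7286 (iv F56822)) (tt N7665 (iv F59564)) (tt N7697 (iv F59720)) (tt N5144 F47205) (tt N7698 D13066) (tt N5143 (iv D10174)) (tt N7699 D13067) (tt N5151 F47206) (tt N7662 (iv F59549)))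
theorem Q6311 : ∀ i, i < 6311 → P i := stepQ 6310 Q6310 (allL N6310 (tt N6310 F47207) (tt N7287 (iv F56825)) (tt N7666 (iv F59569)) (tt N5166 F47208) (tt N7699 (iv F59725)) (tt N7695 (iv F59711)) (tt N5149 F47209) (tt N5144 (iv D10175)) (tt N5152 F47210) (tt N7663 (iv F59556)))
theorem Q6312 : ∀ i, i < 6312 → P i := stepQ 6311 Q6311 (allL N6311 (tt N6311 F47211) (tt N7288 (iv F56829)) (tt N7700 D13068) (tt N5145 (iv D10176)) (tt N5167 F47212) (tt N7664 (iv F59559)) (tt N7701 D13069) (tt N7661 (iv F59542)) (tt N6311 F47213) (tt N5147 F47214))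
theorem Q6313 : ∀ i, i < 6313 → P i := stepQ 6312 Q6312 (allL N6312 (tt N6312 F47215) (tt N7289 (iv F56833)) (tt N7668 (iv F59582)) (tt N7701 (iv F59733)) (tt N5146 F47216) (tt N7702 D13070) (tt N5145 (iv D10177)) (tt N7703 D13071) (tt N6312 F47217) (tt N5148 F47218))
theorem Q6314 : ∀ i, i < 6314 → P i := stepQ 6313 Q6313 (allL N6313 (tt N6313 F47219) (tt N7290 (iv F56837)) (tt N7669 (iv F59587)) (tt N5169 F47220) (tt N7703 (iv F59741)) (tt N5241 F47221) (tt N7663 (iv F59554)) (tt N5146 (iv D10178)) (tt N6313 F47222) (tt N5149 F47223))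
theorem Q6315 : ∀ i, i < 6315 → P i := stepQ 6314 Q6314 (allL N6314 (tt N6314 F47224) (tt N7704 D13072) (tt N5147 (iv D10179)) (tt N7670 (iv F59594)) (tt N5170 F47225) (tt N7689 (iv F59685)) (tt N7705 D13073) (tt N7696 (iv F59717)) (tt N5153 F47226) (tt N7700 (iv F59731)))
theorem Q6316 : ∀ i, i < 6316 → P i := stepQ 6315 Q6315 (allL N6315 (tt N6315 F47227) (tt N7292 (iv F56844)) (tt N7705 (iv F59747)) (tt N5148 F47228) (tt N5171 F47229) (tt N7706 D13074) (tt N5147 (iv D10180)) (tt N7707 D13075) (tt N5154 F47230) (tt N7701 (iv F59736)))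
theorem Q6317 : ∀ i, i < 6317 → P i := stepQ 6316 Q6316 (allL N6316 (tt N6316 F47231) (tt N7293 (iv F56848)) (tt N7672 (iv F59602)) (tt N7706 (iv F59751)) (tt N5244 F47232) (tt N5148 (iv D10181)) (tt N7691 (iv F59693)) (tt N7708 D13076) (tt N7709 D13077) (tt N7702 (iv F59739)))
theorem Q6318 : ∀ i, i < 6318 → P i := stepQ 6317 Q6317 (allL N6317 (tt N6317 F47233) (tt N7294 (iv F56850)) (tt N7673 (iv F59605)) (tt N7707 (iv F59753)) (tt N5149 F47234) (tt N7708 (iv F59758)) (tt N7699 (iv F59726)) (tt N5148 (iv D10182)) (tt N5156 F47235) (tt N7703 (iv F59743)))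
theorem Q6319 : ∀ i, i < 6319 → P i := stepQ 6318 Q6318 (allL N6318 (tt N6318 F47236) (tt N7710 D13078) (tt N5150 (iv D10183)) (tt N7674 (iv F59609)) (tt N5174 F47237) (tt N6318 F47238) (tt N7711 D13079) (tt N5153 F47239) (tt N7696 (iv F59718)) (tt N6318 F47240))
theorem Q6320 : ∀ i, i < 6320 → P i := stepQ 6319 Q6319 (allL N6319 (tt N6319 F47241) (tt N7296 (iv F56857)) (tt N7711 (iv F59767)) (tt N5151 F47242) (tt N5175 F47243) (tt N7712 D13080) (tt N5150 (iv D10184)) (tt N7713 D13081) (tt N7697 (iv F59722)) (tt N6319 F47244))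
theorem Q6321 : ∀ i, i < 6321 → P i := stepQ 6320 Q6320 (allL N6320 (tt N6320 F47245) (tt N7297 (iv F56861)) (tt N7676 (iv F59619)) (tt N7712 (iv F59771)) (tt N6320 F47246) (tt N5151 (iv D10185)) (tt N6320 F47247) (tt N7714 D13082) (tt N7715 D13083) (tt N6320 F47248))
theorem Q6322 : ∀ i, i < 6322 → P i := stepQ 6321 Q6321 (allL N6321 (tt N6321 F47249) (tt N7298 (iv F56865)) (tt N7677 (iv F59624)) (tt N7713 (iv F59775)) (tt N5152 F47250) (tt N7714 (iv F59781)) (tt N5156 F47251) (tt N5151 (iv D10186)) (tt N7699 (iv F59727)) (tt N6321 F47252))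
theorem Q6323 : ∀ i, i < 6323 → P i := stepQ 6322 Q6322 (allL N6322 (tt N7716 D13084) (tt N5153 (iv D10187)) (tt N7299 (iv F56869)) (tt N7678 (iv F59628)) (tt N5178 F47253) (tt N6322 F47254) (tt N7717 D13085) (tt N7710 (iv F59764)) (tt N7704 (iv F59745)) (tt N6322 F47255))
theorem Q6324 : ∀ i, i < 6324 → P i := stepQ 6323 Q6323 (allL N6323 (tt N6323 F47256) (tt N7717 (iv F59790)) (tt N5154 F47257) (tt N7679 (iv F59634)) (tt N5179 F47258) (tt N7718 D13086) (tt N5153 (iv D10188)) (tt N7719 D13087) (tt N7705 (iv F59749)) (tt N6323 F47259))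
theorem Q6325 : ∀ i, i < 6325 → P i := stepQ 6324 Q6324 (allL N6324 (tt N6324 F47260) (tt N7301 (iv F56876)) (tt N7718 (iv F59794)) (tt N5155 F47261) (tt N6324 F47262) (tt N5154 (iv D10189)) (tt N6324 F47263) (tt N7720 D13088) (tt N7721 D13089) (tt N6324 F47264))
theorem Q6326 : ∀ i, i < 6326 → P i := stepQ 6325 Q6325 (allL N6325 (tt N6325 F47265) (tt N7302 (iv F56881)) (tt N7719 (iv F59799)) (tt N5156 F47266) (tt N5180 F47267) (tt N7720 (iv F59805)) (tt N7713 (iv F59777)) (tt N5154 (iv D10190)) (tt N7707 (iv F59755)) (tt N6325 F47268))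
theorem Q6327 : ∀ i, i < 6327 → P i := stepQ 6326 Q6326 (allL N6326 (tt N6326 F47269) (tt N7303 (iv F56885)) (tt N7682 (iv F59646)) (tt N7720 (iv F59803)) (tt N5157 F47270) (tt N5156 F47271) (tt N7722 D13090) (tt N5155 (iv D10191)) (tt N7723 D13091) (tt N6326 F47272))
theorem Q6328 : ∀ i, i < 6328 → P i := stepQ 6327 Q6327 (allL N6327 (tt N6327 F47273) (tt N7304 (iv F56889)) (tt N7683 (iv F59651)) (tt N7721 (iv F59808)) (tt N5158 F47274) (tt N7709 (iv F59761)) (tt N6327 F47275) (tt N7723 (iv F59817)) (tt N5155 (iv D10192)) (tt N7724 D13092))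
theorem Q6329 : ∀ i, i < 6329 → P i := stepQ 6328 Q6328 (allL N6328 (tt N6328 F47276) (tt N7305 (iv F56892)) (tt N7686 (iv F59670)) (tt N6328 F47277) (tt N7722 (iv F59812)) (tt N6328 F47278) (tt N5157 (iv D10193)) (tt N6328 F47279) (tt N7725 D13093) (tt N6328 F47280))
theorem Q6330 : ∀ i, i < 6330 → P i := stepQ 6329 Q6329 (allL N6329 (tt N6329 F47281) (tt N7306 (iv F56897)) (tt N7687 (iv F59675)) (tt N6329 F47282) (tt N7723 (iv F59816)) (tt N5253 F47283) (tt N7725 (iv F59824)) (tt N5158 F47284) (tt N5157 (iv D10194)) (tt N7726 D13094))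
theorem Q6331 : ∀ i, i < 6331 → P i := stepQ 6330 Q6330 (allL N6330 (tt N6330 F47285) (tt N7307 (iv F56901)) (tt N7688 (iv F59679)) (tt N6330 F47286) (tt N7724 (iv F59819)) (tt N5254 F47287) (tt N6330 F47288) (tt N7726 (iv F59829)) (tt N6330 F47289) (tt N5158 (iv D10195)))
theorem Q6332 : ∀ i, i < 6332 → P i := stepQ 6331 Q6331 (allL N6331 (tt N6331 F47290) (tt N6602 (iv F52766)) (tt N6331 F47291) (tt N7727 D13095) (tt N5159 (iv D10196)) (tt N6331 F47292) (tt N7728 D13096) (tt N5255 F47293) (tt N5352 F47294) (tt N5160 F47295))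
theorem Q6333 : ∀ i, i < 6333 → P i := stepQ 6332 Q6332 (allL N6332 (tt N6332 F47296) (tt N6603 (iv F52773)) (tt N6332 F47297) (tt N5205 F47298) (tt N7728 (iv F59839)) (tt N5163 F47299) (tt N5159 (iv D10197)) (tt N7729 D13097) (tt N5353 F47300) (tt N5161 F47301))
theorem Q6334 : ∀ i, i < 6334 → P i := stepQ 6333 Q6333 (allL N6333 (tt N6333 F47302) (tt N7308 (iv F56906)) (tt N7730 D13098) (tt N5160 (iv D10198)) (tt N7693 (iv F59698)) (tt N6333 F47303) (tt N7731 D13099) (tt N5257 F47304) (tt N6333 F47305) (tt N7727 (iv F59836)))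
theorem Q6335 : ∀ i, i < 6335 → P i := stepQ 6334 Q6334 (allL N6334 (tt N6334 F47306) (tt N7309 (iv F56910)) (tt N6334 F47307) (tt N7731 (iv F59855)) (tt N5161 F47308) (tt N7732 D13100) (tt N5160 (iv D10199)) (tt N7733 D13101) (tt N6334 F47309) (tt N7728 (iv F59841)))
theorem Q6336 : ∀ i, i < 6336 → P i := stepQ 6335 Q6335 (allL N6335 (tt N6335 F47310) (tt N7310 (iv F56913)) (tt N6335 F47311) (tt N7695 (iv F59710)) (tt N7733 (iv F59863)) (tt N5166 F47312) (tt N5259 F47313) (tt N5161 (iv D10200)) (tt N6335 F47314) (tt N7729 (iv F59848)))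
theorem Q6337 : ∀ i, i < 6337 → P i := stepQ 6336 Q6336 (allL N6336 (tt N6336 F47315) (tt N7311 (iv F56917)) (tt N7734 D13102) (tt N5162 (iv D10201)) (tt N7661 (iv F59540)) (tt N6336 F47316) (tt N7735 D13103) (tt N5167 F47317) (tt N6336 F47318) (tt N5164 F47319))
theorem Q6338 : ∀ i, i < 6338 → P i := stepQ 6337 Q6337 (allL N6337 (tt N6337 F47320) (tt N7312 (iv F56922)) (tt N6337 F47321) (tt N7735 (iv F59873)) (tt N5163 F47322) (tt N7736 D13104) (tt N5162 (iv D10202)) (tt N7737 D13105) (tt N6337 F47323) (tt N5165 F47324))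
theorem Q6339 : ∀ i, i < 6339 → P i := stepQ 6338 Q6338 (allL N6338 (tt N6338 F47325) (tt N7313 (iv F56926)) (tt N6338 F47326) (tt N7663 (iv F59552)) (tt N7737 (iv F59882)) (tt N7729 (iv F59845)) (tt N5169 F47327) (tt N5163 (iv D10203)) (tt N6338 F47328) (tt N5166 F47329))
theorem Q6340 : ∀ i, i < 6340 → P i := stepQ 6339 Q6339 (allL N6339 (tt N6339 F47330) (tt N7738 D13106) (tt N5164 (iv D10204)) (tt N6339 F47331) (tt N7696 (iv F59716)) (tt N6339 F47332) (tt N7739 D13107) (tt N5170 F47333) (tt N5174 F47334) (tt N7734 (iv F59871)))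
theorem Q6341 : ∀ i, i < 6341 → P i := stepQ 6340 Q6340 (allL N6340 (tt N6340 F47335) (tt N7315 (iv F56933)) (tt N7739 (iv F59891)) (tt N5165 F47336) (tt N7697 (iv F59721)) (tt N7740 D13108) (tt N5164 (iv D10205)) (tt N7741 D13109) (tt N5175 F47337) (tt N7735 (iv F59875)))
theorem Q6342 : ∀ i, i < 6342 → P i := stepQ 6341 Q6341 (allL N6341 (tt N6341 F47338) (tt N7316 (iv F56936)) (tt N6341 F47339) (tt N7740 (iv F59895)) (tt N7732 (iv F59859)) (tt N5165 (iv D10206)) (tt N6341 F47340) (tt N7742 D13110) (tt N7743 D13111) (tt N7736 (iv F59879)))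
theorem Q6343 : ∀ i, i < 6343 → P i := stepQ 6342 Q6342 (allL N6342 (tt N6342 F47341) (tt N7317 (iv F56938)) (tt N6342 F47342) (tt N7741 (iv F59898)) (tt N5166 F47343) (tt N7742 (iv F59903)) (tt N5173 F47344) (tt N5165 (iv D10207)) (tt N5177 F47345) (tt N7737 (iv F59885)))
theorem Q6344 : ∀ i, i < 6344 → P i := stepQ 6343 Q6343 (allL N6343 (tt N6343 F47346) (tt N7744 D13112) (tt N5167 (iv D10208)) (tt N6343 F47347) (tt N7700 (iv F59729)) (tt N6343 F47348) (tt N7745 D13113) (tt N7734 (iv F59869)) (tt N6343 F47349) (tt N5170 F47350))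
theorem Q6345 : ∀ i, i < 6345 → P i := stepQ 6344 Q6344 (allL N6344 (tt N6344 F47351) (tt N7319 (iv F56945)) (tt N7745 (iv F59913)) (tt N5168 F47352) (tt N7701 (iv F59734)) (tt N7746 D13114) (tt N5167 (iv D10209)) (tt N7747 D13115) (tt N6344 F47353) (tt N5171 F47354))
theorem Q6346 : ∀ i, i < 6346 → P i := stepQ 6345 Q6345 (allL N6345 (tt N6345 F47355) (tt N7320 (iv F56949)) (tt N6345 F47356) (tt N7746 (iv F59918)) (tt N5267 F47357) (tt N5168 (iv D10210)) (tt N6345 F47358) (tt N7748 D13116) (tt N7749 D13117) (tt N5172 F47359))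
theorem Q6347 : ∀ i, i < 6347 → P i := stepQ 6346 Q6346 (allL N6346 (tt N6346 F47360) (tt N7321 (iv F56953)) (tt N6346 F47361) (tt N7747 (iv F59922)) (tt N5169 F47362) (tt N7748 (iv F59928)) (tt N7737 (iv F59883)) (tt N5168 (iv D10211)) (tt N6346 F47363) (tt N5173 F47364))
theorem Q6348 : ∀ i, i < 6348 → P i := stepQ 6347 Q6347 (allL N6347 (tt N7750 D13118) (tt N5170 (iv D10212)) (tt N7322 (iv F56957)) (tt N6347 F47365) (tt N7704 (iv F59744)) (tt N6347 F47366) (tt N7751 D13119) (tt N7738 (iv F59888)) (tt N5178 F47367) (tt N7744 (iv F59911)))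
theorem Q6349 : ∀ i, i < 6349 → P i := stepQ 6348 Q6348 (allL N6348 (tt N6348 F47368) (tt N7751 (iv F59940)) (tt N5171 F47369) (tt N6348 F47370) (tt N7705 (iv F59748)) (tt N7752 D13120) (tt N5170 (iv D10213)) (tt N7753 D13121) (tt N5179 F47371) (tt N7745 (iv F59916)))
theorem Q6350 : ∀ i, i < 6350 → P i := stepQ 6349 Q6349 (allL N6349 (tt N6349 F47372) (tt N7324 (iv F56962)) (tt N7752 (iv F59944)) (tt N5172 F47373) (tt N7754 D13122) (tt N5171 (iv D10214)) (tt N6349 F47374) (tt N7755 D13123) (tt N6349 F47375) (tt N7746 (iv F59920)))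
theorem Q6351 : ∀ i, i < 6351 → P i := stepQ 6350 Q6350 (allL N6350 (tt N6350 F47376) (tt N7325 (iv F56966)) (tt N7753 (iv F59949)) (tt N5173 F47377) (tt N7707 (iv F59754)) (tt N7755 (iv F59958)) (tt N7741 (iv F59899)) (tt N5171 (iv D10215)) (tt N5180 F47378) (tt N7747 (iv F59924)))
theorem Q6352 : ∀ i, i < 6352 → P i := stepQ 6351 Q6351 (allL N6351 (tt N6351 F47379) (tt N7326 (iv F56969)) (tt N6351 F47380) (tt N7755 (iv F59957)) (tt N5272 F47381) (tt N5173 F47382) (tt N7756 D13124) (tt N5172 (iv D10216)) (tt N6351 F47383) (tt N7748 (iv F59929)))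
theorem Q6353 : ∀ i, i < 6353 → P i := stepQ 6352 Q6352 (allL N6352 (tt N7757 D13125) (tt N5174 (iv D10217)) (tt N7327 (iv F56973)) (tt N6352 F47384) (tt N7710 (iv F59762)) (tt N5181 F47385) (tt N7758 D13126) (tt N5178 F47386) (tt N7738 (iv F59889)) (tt N6352 F47387))
theorem Q6354 : ∀ i, i < 6354 → P i := stepQ 6353 Q6353 (allL N6353 (tt N6353 F47388) (tt N7758 (iv F59970)) (tt N5175 F47389) (tt N6353 F47390) (tt N7711 (iv F59768)) (tt N7759 D13127) (tt N5174 (iv D10218)) (tt N7760 D13128) (tt N7739 (iv F59893)) (tt N6353 F47391))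
theorem Q6355 : ∀ i, i < 6355 → P i := stepQ 6354 Q6354 (allL N6354 (tt N6354 F47392) (tt N7329 (iv F56979)) (tt N7759 (iv F59974)) (tt N5176 F47393) (tt N7761 D13129) (tt N5175 (iv D10219)) (tt N5183 F47394) (tt N7762 D13130) (tt N7763 D13131) (tt N6354 F47395))
theorem Q6356 : ∀ i, i < 6356 → P i := stepQ 6355 Q6355 (allL N6355 (tt N6355 F47396) (tt N7330 (iv F56983)) (tt N7760 (iv F59995)) (tt N5177 F47397) (tt N7713 (iv F59776)) (tt N7762 (iv F60007)) (tt N5180 F47398) (tt N5175 (iv D10220)) (tt N7741 (iv F59900)) (tt N6355 F47399))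
theorem Q6357 : ∀ i, i < 6357 → P i := stepQ 6356 Q6356 (allL N6356 (tt N6356 F47400) (tt N7331 (iv F56987)) (tt N6356 F47401) (tt N7762 (iv F60006)) (tt N6356 F47402) (tt N5177 F47403) (tt N6356 F47404) (tt N5176 (iv D10221)) (tt N7764 D13132) (tt N6356 F47405))
theorem Q6358 : ∀ i, i < 6358 → P i := stepQ 6357 Q6357 (allL N6357 (tt N6357 F47406) (tt N7332 (iv F56992)) (tt N6357 F47407) (tt N7763 (iv F60012)) (tt N6357 F47408) (tt N7743 (iv F59906)) (tt N5184 F47409) (tt N7764 (iv F60020)) (tt N5176 (iv D10222)) (tt N7765 D13133))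
theorem Q6359 : ∀ i, i < 6359 → P i := stepQ 6358 Q6358 (allL N6358 (tt N5178 (iv D10223)) (tt N6358 F47410) (tt N7333 (iv F56995)) (tt N6358 F47411) (tt N7716 (iv F59787)) (tt N5185 F47412) (tt N7766 D13134) (tt N7757 (iv F59968)) (tt N7750 (iv F59939)) (tt N6358 F47413))
theorem Q6360 : ∀ i, i < 6360 → P i := stepQ 6359 Q6359 (allL N6359 (tt N7766 (iv F60027)) (tt N5179 F47414) (tt N7334 (iv F56999)) (tt N6359 F47415) (tt N7717 (iv F59791)) (tt N6359 F47416) (tt N5178 (iv D10224)) (tt N7767 D13135) (tt N7751 (iv F59942)) (tt N6359 F47417))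
theorem Q6361 : ∀ i, i < 6361 → P i := stepQ 6360 Q6360 (allL N6360 (tt N6360 F47418) (tt N7767 (iv F60032)) (tt N5180 F47419) (tt N6360 F47420) (tt N7719 (iv F59800)) (tt N6360 F47421) (tt N7760 (iv F59997)) (tt N5179 (iv D10225)) (tt N7753 (iv F59951)) (tt N6360 F47422))
theorem Q6362 : ∀ i, i < 6362 → P i := stepQ 6361 Q6361 (allL N6361 (tt N5181 (iv D10226)) (tt N6361 F47423) (tt N7336 (iv F57005)) (tt N6361 F47424) (tt N6361 F47425) (tt N7757 (iv F59967)) (tt N7768 D13136) (tt N5185 F47426) (tt N6361 F47427) (tt N6361 F47428))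
theorem Q6363 : ∀ i, i < 6363 → P i := stepQ 6362 Q6362 (allL N6362 (tt N7768 (iv F60036)) (tt N5182 F47429) (tt N7337 (iv F57011)) (tt N6362 F47430) (tt N6362 F47431) (tt N7559 (iv F59993)) (tt N5181 (iv D10227)) (tt N6362 F47432) (tt N6362 F47433) (tt N6362 F47434))
theorem Q6364 : ∀ i, i < 6364 → P i := stepQ 6363 Q6363 (allL N6363 (tt N6363 F47435) (tt N7559 F59979) (tt N5183 F47436) (tt N6363 F47437) (tt N5345 F59980) (tt N5182 (iv D10228)) (tt N7759 (iv F59976)) (tt N6363 F47438) (tt N5344 F59981) (tt N6363 F47439))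
theorem Q6365 : ∀ i, i < 6365 → P i := stepQ 6364 Q6364 (allL N6364 (tt N6364 F47440) (tt N7339 (iv F57019)) (tt N5345 F59991) (tt N6364 F47441) (tt N5183 (iv D10229)) (tt N6364 F47442) (tt N7761 (iv F60002)) (tt N6364 F47443) (tt N5343 F59992) (tt N6364 F47444))
theorem Q6366 : ∀ i, i < 6366 → P i := stepQ 6365 Q6365 (allL N6365 (tt N6365 F47445) (tt N7340 (iv F57024)) (tt N5344 F59983) (tt N5184 F47446) (tt N5343 F59984) (tt N6365 F47447) (tt N7763 (iv F60014)) (tt N6365 F47448) (tt N5183 (iv D10230)) (tt N5346 F59985))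
theorem Q6367 : ∀ i, i < 6367 → P i := stepQ 6366 Q6366 (allL N6366 (tt N6366 F47449) (tt N7341 (iv F57028)) (tt N6366 F47450) (tt N5346 F59987) (tt N6366 F47451) (tt N6366 F47452) (tt N7765 (iv F60025)) (tt N6366 F47453) (tt N6366 F47454) (tt N5184 (iv D10231)))
theorem Q6368 : ∀ i, i < 6368 → P i := stepQ 6367 Q6367 (allL N6367 (tt N5195 F47455) (tt N6367 F47456) (tt N7342 (iv F57034)) (tt N6367 F47457) (tt N7769 D13137) (tt N5186 (iv D10232)) (tt N7770 D13138) (tt N6809 (iv F53849)) (tt N5275 F47458) (tt N5187 F47459))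
theorem Q6369 : ∀ i, i < 6369 → P i := stepQ 6368 Q6368 (allL N6368 (tt N5196 F47460) (tt N6368 F47461) (tt N7343 (iv F57038)) (tt N7032 (iv F133883)) (tt N5187 (iv D10233)) (tt N7114 (iv F56138)) (tt N7771 D13140) (tt N7112 (iv F56129)) (tt N5189 F47462) (tt N7769 (iv F60046)))
theorem Q6370 : ∀ i, i < 6370 → P i := stepQ 6369 Q6369 (allL N6369 (tt N5197 F47463) (tt N6369 F47464) (tt N7344 (iv F57041)) (tt N6369 F47465) (tt N7771 (iv F60058)) (tt N7642 (iv F59433)) (tt N5187 (iv D10234)) (tt N7772 D13141) (tt N5190 F47466) (tt N7770 (iv F60051)))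
theorem Q6371 : ∀ i, i < 6371 → P i := stepQ 6370 Q6370 (allL N6370 (tt N5198 F47467) (tt N6370 F47468) (tt N7345 (iv F57044)) (tt N7031 F133071) (tt N5188 (iv D10235)) (tt N5348 F47469) (tt N7773 D13143) (tt N5189 F47470) (tt N7112 (iv F56130)) (tt N5278 F47471))
theorem Q6372 : ∀ i, i < 6372 → P i := stepQ 6371 Q6371 (allL N6371 (tt N5199 F47472) (tt N6371 F47473) (tt N7346 (iv F57049)) (tt N6371 F47474) (tt N7773 (iv F60072)) (tt N6371 F47475) (tt N5188 (iv D10236)) (tt N7774 D13144) (tt N7113 (iv F56135)) (tt N5279 F47476))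
theorem Q6373 : ∀ i, i < 6373 → P i := stepQ 6372 Q6372 (allL N6372 (tt N5200 F47482) (tt N6372 F47483) (tt N7348 (iv F57056)) (tt N6831 (iv F133882)) (tt N5190 F47484) (tt N6830 (iv F133884)) (tt N5189 (iv D10238)) (tt N7775 D13148) (tt N7771 (iv F60059)) (tt N5280 F47485))
theorem Q6374 : ∀ i, i < 6374 → P i := stepQ 6373 Q6373 (allL N6373 (tt N5201 F47486) (tt N6373 F47487) (tt N7349 (iv F57060)) (tt N6373 F47488) (tt N7775 (iv F60096)) (tt N5192 F47489) (tt N7774 (iv F60078)) (tt N5190 (iv D10239)) (tt N7772 (iv F60063)) (tt N5281 F47490))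
theorem Q6375 : ∀ i, i < 6375 → P i := stepQ 6374 Q6374 (allL N6374 (tt N5202 F47505) (tt N6374 F47506) (tt N7351 (iv F57076)) (tt N6861 (iv F133992)) (tt N5192 F47507) (tt N6860 (iv F133957)) (tt N6374 F47508) (tt N5191 (iv D10243)) (tt N7649 (iv F59479)) (tt N5282 F47509))
theorem Q6376 : ∀ i, i < 6376 → P i := stepQ 6375 Q6375 (allL N6375 (tt N7114 (iv F56136)) (tt N5204 F47510) (tt N7352 (iv F57081)) (tt N7607 (iv F133897)) (tt N5193 (iv D10244)) (tt N5196 F47511) (tt N7776 D13156) (tt N6595 (iv F52731)) (tt N5349 F47512) (tt N7281 (iv F56802)))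
theorem Q6377 : ∀ i, i < 6377 → P i := stepQ 6376 Q6376 (allL N6376 (tt N7115 (iv F56141)) (tt N5205 F47513) (tt N7353 (iv F57085)) (tt N6603 (iv F52775)) (tt N7776 (iv F60130)) (tt N7284 (iv F56815)) (tt N5193 (iv D10245)) (tt N7777 D13157) (tt N5350 F47514) (tt N7282 (iv F56807)))
theorem Q6378 : ∀ i, i < 6378 → P i := stepQ 6377 Q6377 (allL N6377 (tt N7112 (iv F56126)) (tt N5208 F47515) (tt N7354 (iv F57088)) (tt N7616 F133072) (tt N5194 (iv D10246)) (tt N6595 (iv F52730)) (tt N7778 D13159) (tt N5196 F47516) (tt N5198 F47517) (tt N7409 (iv F57272)))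
theorem Q6379 : ∀ i, i < 6379 → P i := stepQ 6378 Q6378 (allL N6378 (tt N7113 (iv F56131)) (tt N5209 F47518) (tt N7355 (iv F57092)) (tt N6378 F47519) (tt N7778 (iv F60139)) (tt N6637 (iv F52963)) (tt N5194 (iv D10247)) (tt N7779 D13160) (tt N5199 F47520) (tt N7410 (iv F57277)))
theorem Q6380 : ∀ i, i < 6380 → P i := stepQ 6379 Q6379 (allL N6379 (tt N7769 (iv F60043)) (tt N5210 F47521) (tt N7356 (iv F57095)) (tt N7617 (iv F133900)) (tt N5195 (iv D10248)) (tt N7281 (iv F56799)) (tt N7780 D13162) (tt N7409 (iv F57270)) (tt N5286 F47522) (tt N5196 F47523))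
theorem Q6381 : ∀ i, i < 6381 → P i := stepQ 6380 Q6380 (allL N6380 (tt N7770 (iv F60047)) (tt N5211 F47524) (tt N7357 (iv F57099)) (tt N6380 F47525) (tt N7780 (iv F60150)) (tt N7275 (iv F56774)) (tt N5195 (iv D10249)) (tt N7781 D13163) (tt N5287 F47526) (tt N5197 F47527))
theorem Q6382 : ∀ i, i < 6382 → P i := stepQ 6381 Q6381 (allL N6381 (tt N7771 (iv F60056)) (tt N5213 F47531) (tt N7359 (iv F57105)) (tt N7440 (iv F133889)) (tt N5197 F47532) (tt N7782 D13166) (tt N5196 (iv D10251)) (tt N7783 D13167) (tt N5200 F47533) (tt N7780 (iv F60152)))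
theorem Q6383 : ∀ i, i < 6383 → P i := stepQ 6382 Q6382 (allL N6382 (tt N7772 (iv F60060)) (tt N5214 F47534) (tt N7360 (iv F57109)) (tt N6382 F47535) (tt N7783 (iv F60165)) (tt N7652 (iv F59489)) (tt N7779 (iv F60143)) (tt N5197 (iv D10252)) (tt N5201 F47536) (tt N7781 (iv F60156)))
theorem Q6384 : ∀ i, i < 6384 → P i := stepQ 6383 Q6383 (allL N6383 (tt N7773 (iv F60070)) (tt N5216 F47542) (tt N7362 (iv F57116)) (tt N7615 F133073) (tt N5199 F47543) (tt N7619 F133074) (tt N5198 (iv D10254)) (tt N7784 D13171) (tt N7778 (iv F60140)) (tt N5290 F47544))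
theorem Q6385 : ∀ i, i < 6385 → P i := stepQ 6384 Q6384 (allL N6384 (tt N7774 (iv F60074)) (tt N5217 F47545) (tt N7363 (iv F57120)) (tt N6384 F47546) (tt N7784 (iv F60180)) (tt N6384 F47547) (tt N5201 F47548) (tt N5199 (iv D10255)) (tt N7779 (iv F60144)) (tt N5291 F47549))
theorem Q6386 : ∀ i, i < 6386 → P i := stepQ 6385 Q6385 (allL N6385 (tt N7775 (iv F60094)) (tt N5221 F47561) (tt N7367 (iv F57136)) (tt N7439 (iv F133887)) (tt N5201 F47562) (tt N7438 (iv F133892)) (tt N7784 (iv F60181)) (tt N5200 (iv D10259)) (tt N7783 (iv F60166)) (tt N5292 F47563))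
theorem Q6387 : ∀ i, i < 6387 → P i := stepQ 6386 Q6386 (allL N6386 (tt N6386 F47582) (tt N6595 (iv F52729)) (tt N5225 F47583) (tt N7785 D13186) (tt N5203 (iv D10265)) (tt N5208 F47584) (tt N7786 D13187) (tt N5204 F47585) (tt N5354 F47586) (tt N5232 F47587))
theorem Q6388 : ∀ i, i < 6388 → P i := stepQ 6387 Q6387 (allL N6387 (tt N6387 F47588) (tt N6596 (iv F52735)) (tt N5226 F47589) (tt N5256 F47590) (tt N7786 (iv F60242)) (tt N5235 F47591) (tt N5203 (iv D10266)) (tt N7787 D13188) (tt N5355 F47592) (tt N5233 F47593))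
theorem Q6389 : ∀ i, i < 6389 → P i := stepQ 6388 Q6388 (allL N6388 (tt N6388 F47594) (tt N7607 (iv F133896)) (tt N7788 D13189) (tt N5204 (iv D10267)) (tt N7727 (iv F59832)) (tt N5212 F47595) (tt N7789 D13190) (tt N7785 (iv F60237)) (tt N5356 F47596) (tt N7693 (iv F59702)))
theorem Q6390 : ∀ i, i < 6390 → P i := stepQ 6389 Q6389 (allL N6389 (tt N6389 F47597) (tt N7776 (iv F60129)) (tt N5230 F47598) (tt N7789 (iv F60257)) (tt N5205 F47599) (tt N7790 D13191) (tt N5204 (iv D10268)) (tt N7791 D13192) (tt N5357 F47600) (tt N7694 (iv F59707)))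
theorem Q6391 : ∀ i, i < 6391 → P i := stepQ 6390 Q6390 (allL N6390 (tt N6390 F47601) (tt N7777 (iv F60132)) (tt N5231 F47602) (tt N7729 (iv F59844)) (tt N7791 (iv F60264)) (tt N7663 (iv F59553)) (tt N7787 (iv F60249)) (tt N5205 (iv D10269)) (tt N5358 F47603) (tt N7695 (iv F59714)))
theorem Q6392 : ∀ i, i < 6392 → P i := stepQ 6391 Q6391 (allL N6391 (tt N6391 F47604) (tt N6636 (iv F52955)) (tt N5232 F47605) (tt N7792 D13193) (tt N5206 (iv D10270)) (tt N5234 F47606) (tt N7793 D13194) (tt N5227 F47607) (tt N6391 F47608) (tt N5225 F47609))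
theorem Q6393 : ∀ i, i < 6393 → P i := stepQ 6392 Q6392 (allL N6392 (tt N6392 F47610) (tt N6637 (iv F52961)) (tt N5233 F47611) (tt N6392 F47612) (tt N7793 (iv F60274)) (tt N5209 F47613) (tt N5206 (iv D10271)) (tt N7794 D13195) (tt N6392 F47614) (tt N5226 F47615))
theorem Q6394 : ∀ i, i < 6394 → P i := stepQ 6393 Q6393 (allL N6393 (tt N6393 F47616) (tt N7409 (iv F57268)) (tt N5234 F47617) (tt N7795 D13196) (tt N5207 (iv D10272)) (tt N5232 F47618) (tt N7796 D13197) (tt N5210 F47619) (tt N5293 F47620) (tt N5208 F47621))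
theorem Q6395 : ∀ i, i < 6395 → P i := stepQ 6394 Q6394 (allL N6394 (tt N6394 F47622) (tt N7410 (iv F57273)) (tt N5235 F47623) (tt N6394 F47624) (tt N7796 (iv F60292)) (tt N5226 F47625) (tt N5207 (iv D10273)) (tt N7797 D13198) (tt N5294 F47626) (tt N5209 F47627))
theorem Q6396 : ∀ i, i < 6396 → P i := stepQ 6395 Q6395 (allL N6395 (tt N6395 F47628) (tt N7616 F133087) (tt N5377 F133091) (tt N5208 (iv D10274)) (tt N6395 F47629) (tt N7785 (iv F60236)) (tt N7798 D13200) (tt N5212 F47630) (tt N5215 F47631) (tt N7795 (iv F60289)))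
theorem Q6397 : ∀ i, i < 6397 → P i := stepQ 6396 Q6396 (allL N6396 (tt N6396 F47632) (tt N7778 (iv F60138)) (tt N5237 F47633) (tt N7798 (iv F60308)) (tt N5209 F47634) (tt N7799 D13201) (tt N5208 (iv D10275)) (tt N7800 D13202) (tt N5216 F47635) (tt N7796 (iv F60294)))
theorem Q6398 : ∀ i, i < 6398 → P i := stepQ 6397 Q6397 (allL N6397 (tt N6397 F47636) (tt N7779 (iv F60141)) (tt N5238 F47637) (tt N6397 F47638) (tt N7800 (iv F60315)) (tt N7794 (iv F60280)) (tt N5214 F47639) (tt N5209 (iv D10276)) (tt N5217 F47640) (tt N7797 (iv F60301)))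
theorem Q6399 : ∀ i, i < 6399 → P i := stepQ 6398 Q6398 (allL N6398 (tt N6398 F47641) (tt N7617 (iv F133899)) (tt N7801 D13203) (tt N5210 (iv D10277)) (tt N6398 F47642) (tt N7693 (iv F59699)) (tt N7802 D13204) (tt N7795 (iv F60287)) (tt N5298 F47643) (tt N5212 F47644))
theorem Q6400 : ∀ i, i < 6400 → P i := stepQ 6399 Q6399 (allL N6399 (tt N6399 F47645) (tt N7780 (iv F60149)) (tt N5240 F47646) (tt N7802 (iv F60324)) (tt N5211 F47647) (tt N7803 D13205) (tt N5210 (iv D10278)) (tt N7804 D13206) (tt N5299 F47648) (tt N5213 F47649))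
theorem Q6401 : ∀ i, i < 6401 → P i := stepQ 6400 Q6400 (allL N6400 (tt N6400 F47650) (tt N7781 (iv F60153)) (tt N5241 F47651) (tt N6400 F47652) (tt N7804 (iv F60333)) (tt N7669 (iv F59589)) (tt N7797 (iv F60299)) (tt N5211 (iv D10279)) (tt N5300 F47653) (tt N5214 F47654))
theorem Q6402 : ∀ i, i < 6402 → P i := stepQ 6401 Q6401 (allL N6401 (tt N6401 F47655) (tt N7620 F133089) (tt N5212 (iv D10280)) (tt N5242 F47656) (tt N6401 F47657) (tt N7788 (iv F60254)) (tt N7805 D13208) (tt N5377 F133090) (tt N5218 F47658) (tt N7801 (iv F60322)))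
theorem Q6403 : ∀ i, i < 6403 → P i := stepQ 6402 Q6402 (allL N6402 (tt N6402 F47659) (tt N7440 (iv F133888)) (tt N7805 (iv F60340)) (tt N5213 F47660) (tt N6402 F47661) (tt N7806 D13209) (tt N5212 (iv D10281)) (tt N7807 D13210) (tt N5219 F47662) (tt N7802 (iv F60327)))
theorem Q6404 : ∀ i, i < 6404 → P i := stepQ 6403 Q6403 (allL N6403 (tt N6403 F47663) (tt N7782 (iv F60163)) (tt N5244 F47664) (tt N7806 (iv F60345)) (tt N7672 (iv F59603)) (tt N5213 (iv D10282)) (tt N7790 (iv F60261)) (tt N7808 D13211) (tt N7809 D13212) (tt N7803 (iv F60330)))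
theorem Q6405 : ∀ i, i < 6405 → P i := stepQ 6404 Q6404 (allL N6404 (tt N6404 F47665) (tt N7783 (iv F60164)) (tt N5245 F47666) (tt N7807 (iv F60347)) (tt N5214 F47667) (tt N7808 (iv F60352)) (tt N7800 (iv F60316)) (tt N5213 (iv D10283)) (tt N5221 F47668) (tt N7804 (iv F60335)))
theorem Q6406 : ∀ i, i < 6406 → P i := stepQ 6405 Q6405 (allL N6405 (tt N6405 F47675) (tt N7615 F133095) (tt N5248 F133099) (tt N5216 F47676) (tt N6405 F47677) (tt N5247 F133100) (tt N5215 (iv D10285)) (tt N7810 D13216) (tt N7798 (iv F60310)) (tt N5305 F47678))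
theorem Q6407 : ∀ i, i < 6407 → P i := stepQ 6406 Q6406 (allL N6406 (tt N6406 F47679) (tt N7619 F133096) (tt N5219 F133101) (tt N5247 F133102) (tt N6406 F47681) (tt N5216 (iv D10286)) (tt N5218 F133103) (tt N7811 D13217) (tt N7805 (iv F133912)) (tt N5306 F47683))
theorem Q6408 : ∀ i, i < 6408 → P i := stepQ 6407 Q6407 (allL N6407 (tt N6407 F47684) (tt N7784 (iv F60179)) (tt N5246 F47685) (tt N7810 (iv F60371)) (tt N5217 F47686) (tt N7811 (iv F60378)) (tt N5221 F47687) (tt N5216 (iv D10287)) (tt N7800 (iv F60317)) (tt N5307 F47688))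
theorem Q6409 : ∀ i, i < 6409 → P i := stepQ 6408 Q6408 (allL N6408 (tt N6408 F47702) (tt N7439 (iv F133886)) (tt N7811 (iv F133920)) (tt N5221 F47703) (tt N6408 F47704) (tt N5246 (iv F133917)) (tt N7810 (iv F60373)) (tt N5219 (iv D10291)) (tt N7807 (iv F60349)) (tt N5308 F47705))
theorem Q6410 : ∀ i, i < 6410 → P i := stepQ 6409 Q6409 (allL N6409 (tt N6409 F47706) (tt N7438 (iv F133890)) (tt N5250 F47707) (tt N5246 (iv F133916)) (tt N5223 F47708) (tt N5221 F47709) (tt N5249 (iv F133923)) (tt N5220 (iv D10292)) (tt N7812 D13227) (tt N5309 F47710))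
theorem Q6411 : ∀ i, i < 6411 → P i := stepQ 6410 Q6410 (allL N6410 (tt N6410 F47711) (tt N7425 (iv F133893)) (tt N5251 F47712) (tt N5237 (iv F133905)) (tt N5224 F47713) (tt N7809 (iv F60355)) (tt N5236 F133109) (tt N7812 (iv F60423)) (tt N5220 (iv D10293)) (tt N7813 D13228))
theorem Q6412 : ∀ i, i < 6412 → P i := stepQ 6411 Q6411 (allL N6411 (tt N6411 F47734) (tt N7456 (iv F133950)) (tt N5253 F47735) (tt N5264 (iv F133955)) (tt N7812 (iv F60422)) (tt N7687 (iv F59676)) (tt N5271 (iv F133940)) (tt N5224 F47736) (tt N5223 (iv D10298)) (tt N7814 D13235))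
theorem Q6413 : ∀ i, i < 6413 → P i := stepQ 6412 Q6412 (allL N6412 (tt N6412 F47737) (tt N6648 (iv F133952)) (tt N5254 F47738) (tt N5261 (iv F133956)) (tt N7813 (iv F60426)) (tt N7688 (iv F59680)) (tt N5260 F133135) (tt N7814 (iv F60459)) (tt N5312 F47740) (tt N5224 (iv D10299)))
theorem Q6414 : ∀ i, i < 6414 → P i := stepQ 6413 Q6413 (allL N6413 (tt N6413 F47741) (tt N7411 (iv F57278)) (tt N5376 (iv F133925)) (tt N5225 (iv D10300)) (tt N6413 F47742) (tt N5236 F47743) (tt N7815 D13237) (tt N5229 F47744) (tt N5363 F133108) (tt N7792 (iv F60271)))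
theorem Q6415 : ∀ i, i < 6415 → P i := stepQ 6414 Q6414 (allL N6414 (tt N6414 F47746) (tt N7412 (iv F57283)) (tt N7786 (iv F60241)) (tt N7815 (iv F60467)) (tt N5226 F47747) (tt N7816 D13238) (tt N5225 (iv D10301)) (tt N7817 D13239) (tt N5366 F47748) (tt N7793 (iv F60276)))
theorem Q6416 : ∀ i, i < 6416 → P i := stepQ 6415 Q6415 (allL N6415 (tt N6415 F47749) (tt N7413 (iv F57286)) (tt N7787 (iv F60246)) (tt N6415 F47750) (tt N7817 (iv F60473)) (tt N7797 (iv F60298)) (tt N5231 F47751) (tt N5226 (iv D10302)) (tt N5367 F47752) (tt N7794 (iv F60283)))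
theorem Q6417 : ∀ i, i < 6417 → P i := stepQ 6416 Q6416 (allL N6416 (tt N6416 F47753) (tt N7414 (iv F57290)) (tt N7818 D13240) (tt N5227 (iv D10303)) (tt N6416 F47754) (tt N5239 F47755) (tt N7819 D13241) (tt N7792 (iv F60269)) (tt N6416 F47756) (tt N5229 F47757))
theorem Q6418 : ∀ i, i < 6418 → P i := stepQ 6417 Q6417 (allL N6417 (tt N6417 F47758) (tt N7415 (iv F57295)) (tt N7694 (iv F59704)) (tt N7819 (iv F60482)) (tt N5228 F47759) (tt N7820 D13242) (tt N5227 (iv D10304)) (tt N7821 D13243) (tt N6417 F47760) (tt N5230 F47761))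
theorem Q6419 : ∀ i, i < 6419 → P i := stepQ 6418 Q6418 (allL N6418 (tt N6418 F47762) (tt N7416 (iv F57299)) (tt N7695 (iv F59709)) (tt N6418 F47763) (tt N7821 (iv F60490)) (tt N7666 (iv F59571)) (tt N7794 (iv F60281)) (tt N5228 (iv D10305)) (tt N6418 F47764) (tt N5231 F47765))
theorem Q6420 : ∀ i, i < 6420 → P i := stepQ 6419 Q6419 (allL N6419 (tt N6419 F47766) (tt N7613 (iv F133930)) (tt N5229 (iv D10306)) (tt N7788 (iv F60253)) (tt N6419 F47767) (tt N5242 F47768) (tt N7822 D13245) (tt N5376 (iv F133926)) (tt N5368 F47769) (tt N7818 (iv F60480)))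
theorem Q6421 : ∀ i, i < 6421 → P i := stepQ 6420 Q6420 (allL N6420 (tt N6420 F47770) (tt N7418 (iv F57306)) (tt N7822 (iv F60497)) (tt N5230 F47771) (tt N6420 F47772) (tt N7823 D13246) (tt N5229 (iv D10307)) (tt N7824 D13247) (tt N5369 F47773) (tt N7819 (iv F60485)))
theorem Q6422 : ∀ i, i < 6422 → P i := stepQ 6421 Q6421 (allL N6421 (tt N6421 F47774) (tt N7419 (iv F57310)) (tt N7790 (iv F60260)) (tt N7823 (iv F60501)) (tt N7691 (iv F59692)) (tt N5230 (iv D10308)) (tt N5244 F47775) (tt N7825 D13248) (tt N7826 D13249) (tt N7820 (iv F60488)))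
theorem Q6423 : ∀ i, i < 6423 → P i := stepQ 6422 Q6422 (allL N6422 (tt N6422 F47776) (tt N7420 (iv F57312)) (tt N7791 (iv F60263)) (tt N7824 (iv F60504)) (tt N5231 F47777) (tt N7825 (iv F60508)) (tt N7817 (iv F60474)) (tt N5230 (iv D10309)) (tt N5371 F47778) (tt N7821 (iv F60492)))
theorem Q6424 : ∀ i, i < 6424 → P i := stepQ 6423 Q6423 (allL N6423 (tt N6423 F47779) (tt N7421 (iv F57315)) (tt N7827 D13250) (tt N5232 (iv D10310)) (tt N5257 F47780) (tt N7795 (iv F60286)) (tt N7828 D13251) (tt N7693 (iv F59700)) (tt N6423 F47781) (tt N7785 (iv F60239)))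
theorem Q6425 : ∀ i, i < 6425 → P i := stepQ 6424 Q6424 (allL N6424 (tt N6424 F47782) (tt N7422 (iv F57318)) (tt N7793 (iv F60273)) (tt N7828 (iv F60516)) (tt N5233 F47783) (tt N7829 D13252) (tt N5232 (iv D10311)) (tt N7830 D13253) (tt N6424 F47784) (tt N7786 (iv F60244)))
theorem Q6426 : ∀ i, i < 6426 → P i := stepQ 6425 Q6425 (allL N6425 (tt N6425 F47785) (tt N7423 (iv F57321)) (tt N7794 (iv F60278)) (tt N5259 F47786) (tt N7830 (iv F60522)) (tt N5238 F47787) (tt N7695 (iv F59712)) (tt N5233 (iv D10312)) (tt N6425 F47788) (tt N7787 (iv F60251)))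
theorem Q6427 : ∀ i, i < 6427 → P i := stepQ 6426 Q6426 (allL N6426 (tt N6426 F47789) (tt N6638 (iv F52967)) (tt N5378 F133121) (tt N5234 (iv D10313)) (tt N5260 F47790) (tt N7792 (iv F60268)) (tt N7813 (iv F133929)) (tt N5239 F47791) (tt N5313 F47792) (tt N5236 F47793))
theorem Q6428 : ∀ i, i < 6428 → P i := stepQ 6427 Q6427 (allL N6427 (tt N6427 F47794) (tt N6639 (iv F52973)) (tt N7796 (iv F60291)) (tt N7813 F134509) (tt N5235 F47795) (tt N7831 D13256) (tt N5234 (iv D10314)) (tt N7832 D13257) (tt N5314 F47796) (tt N5237 F47797))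
theorem Q6429 : ∀ i, i < 6429 → P i := stepQ 6428 Q6428 (allL N6428 (tt N6428 F47798) (tt N6640 (iv F52978)) (tt N7797 (iv F60296)) (tt N5262 F47799) (tt N7832 (iv F60537)) (tt N7787 (iv F60248)) (tt N5241 F47800) (tt N5235 (iv D10315)) (tt N5315 F47801) (tt N5238 F47802))
theorem Q6430 : ∀ i, i < 6430 → P i := stepQ 6429 Q6429 (allL N6429 (tt N6429 F47811) (tt N7426 (iv F57332)) (tt N7799 (iv F60312)) (tt N7809 F134506) (tt N7829 (iv F60520)) (tt N5237 (iv D10318)) (tt N7816 (iv F60471)) (tt N7833 D13262) (tt N7806 F134507) (tt N7831 (iv F60535)))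
theorem Q6431 : ∀ i, i < 6431 → P i := stepQ 6430 Q6430 (allL N6430 (tt N6430 F47812) (tt N7427 (iv F57333)) (tt N7800 (iv F60314)) (tt N7812 F134508) (tt N5238 F47813) (tt N7833 (iv F60556)) (tt N5245 F47814) (tt N5237 (iv D10319)) (tt N5246 F47815) (tt N7832 (iv F60540)))
theorem Q6432 : ∀ i, i < 6432 → P i := stepQ 6431 Q6431 (allL N6431 (tt N6431 F47816) (tt N7623 (iv F133935)) (tt N5239 (iv D10320)) (tt N7801 (iv F60319)) (tt N5265 F47817) (tt N7818 (iv F60478)) (tt N7834 D13265) (tt N5378 F133112) (tt N5318 F47818) (tt N5242 F47819))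
theorem Q6433 : ∀ i, i < 6433 → P i := stepQ 6432 Q6432 (allL N6432 (tt N6432 F47820) (tt N7429 (iv F57340)) (tt N7834 (iv F60563)) (tt N5240 F47821) (tt N5266 F47822) (tt N7835 D13266) (tt N5239 (iv D10321)) (tt N7836 D13267) (tt N5319 F47823) (tt N5243 F47824))
theorem Q6434 : ∀ i, i < 6434 → P i := stepQ 6433 Q6433 (allL N6433 (tt N6433 F47825) (tt N7430 (iv F57345)) (tt N7803 (iv F60329)) (tt N7835 (iv F60568)) (tt N7702 (iv F59738)) (tt N5240 (iv D10322)) (tt N7820 (iv F60487)) (tt N7837 D13268) (tt N7838 D13269) (tt N5244 F47826))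
theorem Q6435 : ∀ i, i < 6435 → P i := stepQ 6434 Q6434 (allL N6434 (tt N6434 F47827) (tt N7431 (iv F57347)) (tt N7804 (iv F60332)) (tt N7836 (iv F60571)) (tt N5241 F47828) (tt N7837 (iv F60576)) (tt N7832 (iv F60538)) (tt N5240 (iv D10323)) (tt N5321 F47829) (tt N5245 F47830))
theorem Q6436 : ∀ i, i < 6436 → P i := stepQ 6435 Q6435 (allL N6435 (tt N6435 F47833) (tt N7622 (iv F133932)) (tt N5243 F47834) (tt N7805 (iv F60341)) (tt N5269 F47835) (tt N7839 D13272) (tt N5242 (iv D10325)) (tt N7840 D13273) (tt N5247 F47836) (tt N7834 (iv F60566)))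
theorem Q6437 : ∀ i, i < 6437 → P i := stepQ 6436 Q6436 (allL N6436 (tt N6436 F47837) (tt N7434 (iv F57357)) (tt N7839 (iv F60587)) (tt N5244 F47838) (tt N7841 D13274) (tt N5243 (iv D10326)) (tt N7823 (iv F60502)) (tt N7842 D13275) (tt N7843 D13276) (tt N7835 (iv F60569)))
theorem Q6438 : ∀ i, i < 6438 → P i := stepQ 6437 Q6437 (allL N6437 (tt N6437 F47839) (tt N7435 (iv F57359)) (tt N7840 (iv F60589)) (tt N5245 F47840) (tt N5271 F47841) (tt N7842 (iv F60596)) (tt N7812 F134525) (tt N5243 (iv D10327)) (tt N5249 F47842) (tt N7836 (iv F60574)))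
theorem Q6439 : ∀ i, i < 6439 → P i := stepQ 6438 Q6438 (allL N6438 (tt N6438 F47843) (tt N7436 (iv F57363)) (tt N7808 (iv F60351)) (tt N7842 (iv F60595)) (tt N7708 (iv F59757)) (tt N5245 F47844) (tt N7844 D13277) (tt N5244 (iv D10328)) (tt N7845 D13278) (tt N7837 (iv F60577)))
theorem Q6440 : ∀ i, i < 6440 → P i := stepQ 6439 Q6439 (allL N6439 (tt N6439 F47845) (tt N7437 (iv F57365)) (tt N7809 (iv F60354)) (tt N7843 (iv F60598)) (tt N7709 (iv F59760)) (tt N5251 F47846) (tt N7826 (iv F60511)) (tt N7845 (iv F60603)) (tt N5244 (iv D10329)) (tt N7846 D13279))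
theorem Q6441 : ∀ i, i < 6441 → P i := stepQ 6440 Q6440 (allL N6440 (tt N6440 F47883) (tt N7446 (iv F133937)) (tt N5249 F47884) (tt N7811 (iv F133921)) (tt N5252 F133126) (tt N7810 (iv F133919)) (tt N5250 (iv F133922)) (tt N5247 (iv D10339)) (tt N7840 (iv F60591)) (tt N5327 F47886))
theorem Q6442 : ∀ i, i < 6442 → P i := stepQ 6441 Q6441 (allL N6441 (tt N6441 F47887) (tt N7444 (iv F57406)) (tt N7810 (iv F133918)) (tt N5250 F47888) (tt N6441 F47889) (tt N5249 F47890) (tt N7811 (iv F133915)) (tt N5248 (iv D10340)) (tt N7847 D13296) (tt N5328 F47891))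
theorem Q6443 : ∀ i, i < 6443 → P i := stepQ 6442 Q6442 (allL N6442 (tt N6442 F47892) (tt N7445 (iv F57411)) (tt N7798 (iv F133906)) (tt N5251 F47893) (tt N6442 F47894) (tt N7843 (iv F60599)) (tt N5377 F47895) (tt N7847 (iv F60675)) (tt N5248 (iv D10341)) (tt N7848 D13297))
theorem Q6444 : ∀ i, i < 6444 → P i := stepQ 6443 Q6443 (allL N6443 (tt N6443 F47900) (tt N7447 (iv F57419)) (tt N7812 (iv F60421)) (tt N7847 (iv F60673)) (tt N5253 F47901) (tt N7845 (iv F60602)) (tt N7840 F134524) (tt N5251 F47902) (tt N5250 (iv D10343)) (tt N7849 D13299))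
theorem Q6445 : ∀ i, i < 6445 → P i := stepQ 6444 Q6444 (allL N6444 (tt N6444 F47903) (tt N7448 (iv F57422)) (tt N7813 (iv F60425)) (tt N7848 (iv F60677)) (tt N5254 F47904) (tt N7846 (iv F60605)) (tt N5378 F47905) (tt N7849 (iv F60687)) (tt N5331 F47906) (tt N5251 (iv D10344)))
theorem Q6446 : ∀ i, i < 6446 → P i := stepQ 6445 Q6445 (allL N6445 (tt N6445 F47907) (tt N7449 (iv F57426)) (tt N5271 (iv F133939)) (tt N6445 F47908) (tt N7840 (iv F133934)) (tt N7850 D13300) (tt N5253 F47909) (tt N5269 F133127) (tt N5252 (iv D10345)) (tt N7851 D13301))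
theorem Q6447 : ∀ i, i < 6447 → P i := stepQ 6446 Q6446 (allL N6446 (tt N6446 F47911) (tt N7450 (iv F57430)) (tt N7814 (iv F60458)) (tt N6446 F47912) (tt N7849 (iv F60686)) (tt N7726 (iv F59828)) (tt N7851 (iv F60695)) (tt N5254 F47913) (tt N5333 F47914) (tt N5253 (iv D10346)))
theorem Q6448 : ∀ i, i < 6448 → P i := stepQ 6447 Q6447 (allL N6447 (tt N6447 F47915) (tt N6604 (iv F52780)) (tt N7852 D13302) (tt N5255 (iv D10347)) (tt N7785 (iv F60235)) (tt N6447 F47916) (tt N7853 D13303) (tt N7727 (iv F59834)) (tt N6561 (iv F52512)) (tt N5257 F47917))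
theorem Q6449 : ∀ i, i < 6449 → P i := stepQ 6448 Q6448 (allL N6448 (tt N6448 F47918) (tt N6605 (iv F52785)) (tt N6448 F47919) (tt N7853 (iv F60703)) (tt N5256 F47920) (tt N7854 D13304) (tt N5255 (iv D10348)) (tt N7855 D13305) (tt N6562 (iv F52519)) (tt N5258 F47921))
theorem Q6450 : ∀ i, i < 6450 → P i := stepQ 6449 Q6449 (allL N6449 (tt N6449 F47922) (tt N6606 (iv F52791)) (tt N6449 F47923) (tt N7787 (iv F60247)) (tt N7855 (iv F60713)) (tt N5262 F47924) (tt N7729 (iv F59846)) (tt N5256 (iv D10349)) (tt N6563 (iv F52527)) (tt N5259 F47925))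
theorem Q6451 : ∀ i, i < 6451 → P i := stepQ 6450 Q6450 (allL N6450 (tt N6450 F47926) (tt N7856 D13306) (tt N5257 (iv D10350)) (tt N6450 F47927) (tt N7827 (iv F60513)) (tt N6450 F47928) (tt N7857 D13307) (tt N7730 (iv F59852)) (tt N6450 F47929) (tt N7852 (iv F60701)))
theorem Q6452 : ∀ i, i < 6452 → P i := stepQ 6451 Q6451 (allL N6451 (tt N6451 F47930) (tt N7452 (iv F57436)) (tt N7857 (iv F60719)) (tt N5258 F47931) (tt N7828 (iv F60517)) (tt N7858 D13308) (tt N5257 (iv D10351)) (tt N7859 D13309) (tt N6451 F47932) (tt N7853 (iv F60704)))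
theorem Q6453 : ∀ i, i < 6453 → P i := stepQ 6452 Q6452 (allL N6452 (tt N6452 F47933) (tt N7453 (iv F57439)) (tt N6452 F47934) (tt N7858 (iv F60723)) (tt N5263 F47935) (tt N5258 (iv D10352)) (tt N6452 F47936) (tt N7860 D13310) (tt N7684 F134562) (tt N7854 (iv F60710)))
theorem Q6454 : ∀ i, i < 6454 → P i := stepQ 6453 Q6453 (allL N6453 (tt N6453 F47937) (tt N7454 (iv F57442)) (tt N6453 F47938) (tt N7859 (iv F60726)) (tt N5259 F47939) (tt N7860 (iv F60731)) (tt N7733 (iv F59864)) (tt N5258 (iv D10353)) (tt N6453 F47940) (tt N7855 (iv F60714)))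
theorem Q6455 : ∀ i, i < 6455 → P i := stepQ 6454 Q6454 (allL N6454 (tt N6454 F47951) (tt N6649 (iv F53022)) (tt N6454 F47952) (tt N7688 F134565) (tt N7854 (iv F60707)) (tt N5261 (iv D10356)) (tt N6454 F47953) (tt N7861 D13316) (tt N6454 F47954) (tt N5263 F47955))
theorem Q6456 : ∀ i, i < 6456 → P i := stepQ 6455 Q6455 (allL N6455 (tt N6455 F47956) (tt N6650 (iv F53028)) (tt N6455 F47957) (tt N7814 F134566) (tt N5262 F47958) (tt N7861 (iv F60760)) (tt N5268 F47959) (tt N5261 (iv D10357)) (tt N5334 F47960) (tt N5264 F47961))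
theorem Q6457 : ∀ i, i < 6457 → P i := stepQ 6456 Q6456 (allL N6456 (tt N6456 F47977) (tt N7457 (iv F57458)) (tt N6456 F47978) (tt N7687 F134563) (tt N7860 (iv F60730)) (tt N5264 F47979) (tt N7862 D13324) (tt N5263 (iv D10362)) (tt N7685 F134564) (tt N7861 (iv F60762)))
theorem Q6458 : ∀ i, i < 6458 → P i := stepQ 6457 Q6457 (allL N6457 (tt N6457 F47989) (tt N7625 (iv F133945)) (tt N5266 F47990) (tt N6457 F47991) (tt N7834 (iv F60564)) (tt N7863 D13328) (tt N5265 (iv D10365)) (tt N7851 (iv F133942)) (tt N5335 F47992) (tt N5269 F47993))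
theorem Q6459 : ∀ i, i < 6459 → P i := stepQ 6458 Q6458 (allL N6458 (tt N6458 F47994) (tt N7461 (iv F57471)) (tt N7863 (iv F60809)) (tt N5267 F47995) (tt N7864 D13330) (tt N5266 (iv D10366)) (tt N6458 F47996) (tt N7865 D13331) (tt N7866 D13332) (tt N5270 F47997))
theorem Q6460 : ∀ i, i < 6460 → P i := stepQ 6459 Q6459 (allL N6459 (tt N6459 F47998) (tt N7462 (iv F57475)) (tt N7851 F134544) (tt N5268 F47999) (tt N7836 (iv F60572)) (tt N7865 (iv F60823)) (tt N7814 F134545) (tt N5266 (iv D10367)) (tt N5337 F48000) (tt N5271 F48001))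
theorem Q6461 : ∀ i, i < 6461 → P i := stepQ 6460 Q6460 (allL N6460 (tt N6460 F48002) (tt N7463 (iv F57479)) (tt N6460 F48003) (tt N7865 (iv F60822)) (tt N7748 (iv F59927)) (tt N5268 F48004) (tt N7867 D13333) (tt N5267 (iv D10368)) (tt N7868 D13334) (tt N5272 F48005))
theorem Q6462 : ∀ i, i < 6462 → P i := stepQ 6461 Q6461 (allL N6461 (tt N6461 F48006) (tt N7464 (iv F57482)) (tt N6461 F48007) (tt N7866 (iv F60826)) (tt N7749 (iv F59932)) (tt N5339 F48008) (tt N6461 F48009) (tt N7868 (iv F60837)) (tt N5267 (iv D10369)) (tt N6461 F48010))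
theorem Q6463 : ∀ i, i < 6463 → P i := stepQ 6462 Q6462 (allL N6462 (tt N6462 F48018) (tt N7624 (iv F133943)) (tt N5270 F48019) (tt N6462 F48020) (tt N7869 D13338) (tt N5269 (iv D10372)) (tt N6462 F48021) (tt N7850 (iv F133941)) (tt N6462 F48022) (tt N7863 (iv F60812)))
theorem Q6464 : ∀ i, i < 6464 → P i := stepQ 6463 Q6463 (allL N6463 (tt N6463 F48027) (tt N7468 (iv F57497)) (tt N7869 (iv F60851)) (tt N7754 (iv F59953)) (tt N5270 (iv D10374)) (tt N7841 (iv F60593)) (tt N6463 F48028) (tt N7870 D13340) (tt N6463 F48029) (tt N7864 (iv F60820)))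
theorem Q6465 : ∀ i, i < 6465 → P i := stepQ 6464 Q6464 (allL N6464 (tt N6464 F48030) (tt N7469 (iv F57500)) (tt N7850 F134543) (tt N5272 F48031) (tt N7870 (iv F60860)) (tt N5271 F48032) (tt N7871 D13341) (tt N5270 (iv D10375)) (tt N6464 F48033) (tt N7865 (iv F60824)))
theorem Q6466 : ∀ i, i < 6466 → P i := stepQ 6465 Q6465 (allL N6465 (tt N6465 F48034) (tt N7470 (iv F57504)) (tt N6465 F48035) (tt N7871 (iv F60863)) (tt N7756 (iv F59962)) (tt N7862 (iv F60792)) (tt N5272 (iv D10376)) (tt N6465 F48036) (tt N6465 F48037) (tt N7867 (iv F60833)))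
theorem Q6467 : ∀ i, i < 6467 → P i := stepQ 6466 Q6466 (allL N6466 (tt N5283 F48111) (tt N6466 F48112) (tt N6617 (iv F52860)) (tt N6466 F48113) (tt N7872 D13358) (tt N5273 (iv D10392)) (tt N7873 D13359) (tt N5275 F48114) (tt N6809 (iv F53850)) (tt N5274 F48115))
theorem Q6468 : ∀ i, i < 6468 → P i := stepQ 6467 Q6467 (allL N6467 (tt N5284 F48116) (tt N6467 F48117) (tt N6653 (iv F53060)) (tt N7074 (iv F132920)) (tt N5274 (iv D10393)) (tt N6467 F48118) (tt N7874 D13361) (tt N5276 F48119) (tt N5278 F48120) (tt N7872 (iv F60948)))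
theorem Q6469 : ∀ i, i < 6469 → P i := stepQ 6468 Q6468 (allL N6468 (tt N5285 F48121) (tt N6468 F48122) (tt N6654 (iv F53066)) (tt N6468 F48123) (tt N7874 (iv F60961)) (tt N6573 (iv F52596)) (tt N5274 (iv D10394)) (tt N7875 D13362) (tt N5279 F48124) (tt N7873 (iv F60952)))
theorem Q6470 : ∀ i, i < 6470 → P i := stepQ 6469 Q6469 (allL N6469 (tt N5286 F48125) (tt N6469 F48126) (tt N7472 (iv F57570)) (tt N7075 (iv F133959)) (tt N5275 (iv D10395)) (tt N6469 F48127) (tt N7876 D13364) (tt N7872 (iv F60947)) (tt N7769 (iv F60045)) (tt N5276 F48128))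
theorem Q6471 : ∀ i, i < 6471 → P i := stepQ 6470 Q6470 (allL N6470 (tt N5287 F48129) (tt N6470 F48130) (tt N7473 (iv F57574)) (tt N6470 F48131) (tt N7876 (iv F60975)) (tt N6470 F48132) (tt N5275 (iv D10396)) (tt N7877 D13365) (tt N7770 (iv F60050)) (tt N5277 F48133))
theorem Q6472 : ∀ i, i < 6472 → P i := stepQ 6471 Q6471 (allL N6471 (tt N5288 F48139) (tt N6471 F48140) (tt N7475 (iv F57581)) (tt N6930 (iv F133958)) (tt N5277 F48141) (tt N7226 (iv F133961)) (tt N5276 (iv D10398)) (tt N7878 D13369) (tt N5280 F48142) (tt N7876 (iv F60976)))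
theorem Q6473 : ∀ i, i < 6473 → P i := stepQ 6472 Q6472 (allL N6472 (tt N5289 F48143) (tt N6472 F48144) (tt N7476 (iv F57585)) (tt N6472 F48145) (tt N7878 (iv F60997)) (tt N6472 F48146) (tt N7875 (iv F60966)) (tt N5277 (iv D10399)) (tt N5281 F48147) (tt N7877 (iv F60981)))
theorem Q6474 : ∀ i, i < 6474 → P i := stepQ 6473 Q6473 (allL N6473 (tt N5290 F48153) (tt N6473 F48154) (tt N7478 (iv F57592)) (tt N7073 F133054) (tt N5279 F48155) (tt N7079 F133055) (tt N5278 (iv D10401)) (tt N7879 D13373) (tt N7874 (iv F60962)) (tt N7773 (iv F60073)))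
theorem Q6475 : ∀ i, i < 6475 → P i := stepQ 6474 Q6474 (allL N6474 (tt N5291 F48156) (tt N6474 F48157) (tt N7479 (iv F57595)) (tt N6474 F48158) (tt N7879 (iv F61013)) (tt N6474 F48159) (tt N5281 F48160) (tt N5279 (iv D10402)) (tt N7875 (iv F60967)) (tt N7774 (iv F60079)))
theorem Q6476 : ∀ i, i < 6476 → P i := stepQ 6475 Q6475 (allL N6475 (tt N5292 F48172) (tt N6475 F48173) (tt N7481 (iv F57608)) (tt N6929 (iv F133974)) (tt N5281 F48174) (tt N6928 (iv F133975)) (tt N7879 (iv F61014)) (tt N5280 (iv D10406)) (tt N7878 (iv F60998)) (tt N7775 (iv F60097)))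
theorem Q6477 : ∀ i, i < 6477 → P i := stepQ 6476 Q6476 (allL N6476 (tt N7872 (iv F60944)) (tt N5293 F48202) (tt N6621 (iv F52880)) (tt N7633 (iv F132924)) (tt N5283 (iv D10413)) (tt N6476 F48203) (tt N7880 D13390) (tt N5286 F48204) (tt N7409 (iv F57271)) (tt N5284 F48205))
theorem Q6478 : ∀ i, i < 6478 → P i := stepQ 6477 Q6477 (allL N6477 (tt N7873 (iv F60949)) (tt N5294 F48206) (tt N6622 (iv F52885)) (tt N6477 F48207) (tt N7880 (iv F61081)) (tt N6566 (iv F52552)) (tt N5283 (iv D10414)) (tt N7881 D13391) (tt N7410 (iv F57276)) (tt N5285 F48208))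
theorem Q6479 : ∀ i, i < 6479 → P i := stepQ 6478 Q6478 (allL N6478 (tt N7874 (iv F60959)) (tt N5296 F48214) (tt N6659 (iv F53091)) (tt N7632 (iv F132922)) (tt N5285 F48215) (tt N7882 D13394) (tt N5284 (iv D10416)) (tt N7883 D13395) (tt N5290 F48216) (tt N7880 (iv F61082)))
theorem Q6480 : ∀ i, i < 6480 → P i := stepQ 6479 Q6479 (allL N6479 (tt N7875 (iv F60963)) (tt N5297 F48217) (tt N6660 (iv F53095)) (tt N6479 F48218) (tt N7883 (iv F61098)) (tt N6576 (iv F52610)) (tt N5289 F48219) (tt N5285 (iv D10417)) (tt N5291 F48220) (tt N7881 (iv F61086)))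
theorem Q6481 : ∀ i, i < 6481 → P i := stepQ 6480 Q6480 (allL N6480 (tt N7876 (iv F60973)) (tt N5299 F48225) (tt N7484 (iv F57637)) (tt N7541 (iv F133970)) (tt N5287 F48226) (tt N7884 D13398) (tt N5286 (iv D10419)) (tt N7885 D13399) (tt N7780 (iv F60151)) (tt N5288 F48227))
theorem Q6482 : ∀ i, i < 6482 → P i := stepQ 6481 Q6481 (allL N6481 (tt N7877 (iv F60977)) (tt N5300 F48228) (tt N7485 (iv F57641)) (tt N6481 F48229) (tt N7885 (iv F61113)) (tt N6481 F48230) (tt N7881 (iv F61085)) (tt N5287 (iv D10420)) (tt N7781 (iv F60155)) (tt N5289 F48231))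
theorem Q6483 : ∀ i, i < 6483 → P i := stepQ 6482 Q6482 (allL N6482 (tt N7226 (iv F133960)) (tt N5303 F48239) (tt N7488 (iv F57651)) (tt N6677 (iv F133966)) (tt N6482 F48240) (tt N5288 (iv D10423)) (tt N6482 F48241) (tt N7886 D13404) (tt N6674 (iv F133972)) (tt N7884 (iv F61111)))
theorem Q6484 : ∀ i, i < 6484 → P i := stepQ 6483 Q6483 (allL N6483 (tt N7878 (iv F60995)) (tt N5304 F48242) (tt N7489 (iv F57655)) (tt N7540 (iv F133968)) (tt N5289 F48243) (tt N7886 (iv F61131)) (tt N7883 (iv F61099)) (tt N5288 (iv D10424)) (tt N5292 F48244) (tt N7885 (iv F61114)))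
theorem Q6485 : ∀ i, i < 6485 → P i := stepQ 6484 Q6484 (allL N6484 (tt N7879 (iv F61011)) (tt N5307 F48254) (tt N7493 (iv F57668)) (tt N7539 F133144) (tt N5291 F48255) (tt N7545 F133145) (tt N5292 F48256) (tt N5290 (iv D10428)) (tt N7883 (iv F61100)) (tt N7784 (iv F60182)))
theorem Q6486 : ∀ i, i < 6486 → P i := stepQ 6485 Q6485 (allL N6485 (tt N6485 F48301) (tt N7633 (iv F132923)) (tt N5380 (iv F132723)) (tt N5293 (iv D10443)) (tt N6485 F48302) (tt N6485 F48303) (tt N7887 D13433) (tt N5298 F48304) (tt N7795 (iv F60288)) (tt N5295 F48305))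
theorem Q6487 : ∀ i, i < 6487 → P i := stepQ 6486 Q6486 (allL N6486 (tt N6486 F48306) (tt N7880 (iv F61080)) (tt N5314 F48307) (tt N7887 (iv F61226)) (tt N5294 F48308) (tt N7888 D13434) (tt N5293 (iv D10444)) (tt N7889 D13435) (tt N7796 (iv F60293)) (tt N5296 F48309))
theorem Q6488 : ∀ i, i < 6488 → P i := stepQ 6487 Q6487 (allL N6487 (tt N6487 F48310) (tt N7881 (iv F61083)) (tt N5315 F48311) (tt N6487 F48312) (tt N7889 (iv F61235)) (tt N6569 (iv F52570)) (tt N5300 F48313) (tt N5294 (iv D10445)) (tt N7797 (iv F60300)) (tt N5297 F48314))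
theorem Q6489 : ∀ i, i < 6489 → P i := stepQ 6488 Q6488 (allL N6488 (tt N6488 F48321) (tt N7632 (iv F132921)) (tt N5329 (iv F132648)) (tt N5296 F48322) (tt N6488 F48323) (tt N7890 D13438) (tt N5295 (iv D10447)) (tt N7891 D13439) (tt N5305 F48324) (tt N7887 (iv F61228)))
theorem Q6490 : ∀ i, i < 6490 → P i := stepQ 6489 Q6489 (allL N6489 (tt N6489 F48325) (tt N7882 (iv F61095)) (tt N5316 F48326) (tt N7890 (iv F61249)) (tt N6578 (iv F52620)) (tt N5296 (iv D10448)) (tt N6489 F48327) (tt N7892 D13440) (tt N7893 D13441) (tt N7888 (iv F61232)))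
theorem Q6491 : ∀ i, i < 6491 → P i := stepQ 6490 Q6490 (allL N6490 (tt N6490 F48328) (tt N7883 (iv F61097)) (tt N5317 F48329) (tt N7891 (iv F61252)) (tt N5297 F48330) (tt N7892 (iv F61258)) (tt N5304 F48331) (tt N5296 (iv D10449)) (tt N5307 F48332) (tt N7889 (iv F61237)))
theorem Q6492 : ∀ i, i < 6492 → P i := stepQ 6491 Q6491 (allL N6491 (tt N6491 F48333) (tt N7636 F133163) (tt N5298 (iv D10450)) (tt N5318 F48334) (tt N6491 F48335) (tt N6491 F48336) (tt N7894 D13443) (tt N5380 F133164) (tt N7801 (iv F60321)) (tt N5301 F48337))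
theorem Q6493 : ∀ i, i < 6493 → P i := stepQ 6492 Q6492 (allL N6492 (tt N6492 F48338) (tt N7541 (iv F133969)) (tt N7894 (iv F61268)) (tt N5299 F48339) (tt N6492 F48340) (tt N7895 D13444) (tt N5298 (iv D10451)) (tt N7896 D13445) (tt N7802 (iv F60326)) (tt N5302 F48341))
theorem Q6494 : ∀ i, i < 6494 → P i := stepQ 6493 Q6493 (allL N6493 (tt N6493 F48342) (tt N7884 (iv F61108)) (tt N5320 F48343) (tt N7895 (iv F61273)) (tt N6493 F48344) (tt N5299 (iv D10452)) (tt N6493 F48345) (tt N7897 D13446) (tt N7898 D13447) (tt N5303 F48346))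
theorem Q6495 : ∀ i, i < 6495 → P i := stepQ 6494 Q6494 (allL N6494 (tt N6494 F48347) (tt N7885 (iv F61112)) (tt N5321 F48348) (tt N7896 (iv F61277)) (tt N5300 F48349) (tt N7897 (iv F61283)) (tt N7889 (iv F61236)) (tt N5299 (iv D10453)) (tt N7804 (iv F60334)) (tt N5304 F48350))
theorem Q6496 : ∀ i, i < 6496 → P i := stepQ 6495 Q6495 (allL N6495 (tt N6495 F48355) (tt N7635 F133162) (tt N5302 F48356) (tt N5322 F48357) (tt N6495 F48358) (tt N7893 (iv F133984)) (tt N5301 (iv D10455)) (tt N7899 D13451) (tt N5306 F133165) (tt N7894 (iv F61271)))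
theorem Q6497 : ∀ i, i < 6497 → P i := stepQ 6496 Q6496 (allL N6496 (tt N6496 F48360) (tt N6677 (iv F133965)) (tt N7893 (iv F133982)) (tt N5303 F48361) (tt N6581 (iv F133986)) (tt N5302 (iv D10456)) (tt N6496 F48362) (tt N7900 D13453) (tt N5316 (iv F133988)) (tt N7895 (iv F61275)))
theorem Q6498 : ∀ i, i < 6498 → P i := stepQ 6497 Q6497 (allL N6497 (tt N6497 F48363) (tt N7540 (iv F133967)) (tt N7899 (iv F61303)) (tt N5304 F48364) (tt N6497 F48365) (tt N7900 (iv F61313)) (tt N7891 (iv F61254)) (tt N5302 (iv D10457)) (tt N5308 F48366) (tt N7896 (iv F61279)))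
theorem Q6499 : ∀ i, i < 6499 → P i := stepQ 6498 Q6498 (allL N6498 (tt N6498 F48367) (tt N7886 (iv F61129)) (tt N5325 F48368) (tt N7900 (iv F61312)) (tt N6498 F48369) (tt N5304 F48370) (tt N7901 D13455) (tt N5303 (iv D10458)) (tt N7902 D13456) (tt N7897 (iv F61284)))
theorem Q6500 : ∀ i, i < 6500 → P i := stepQ 6499 Q6499 (allL N6499 (tt N6499 F48371) (tt N6674 (iv F133971)) (tt N5326 F48372) (tt N5316 (iv F133987)) (tt N6499 F48373) (tt N5310 F48374) (tt N6499 F48375) (tt N7902 (iv F61326)) (tt N5303 (iv D10459)) (tt N7903 D13457))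
theorem Q6501 : ∀ i, i < 6501 → P i := stepQ 6500 Q6500 (allL N6500 (tt N6500 F48387) (tt N7539 F133168) (tt N5328 F133174) (tt N5307 F48388) (tt N6500 F48389) (tt N5327 F133175) (tt N5308 F48390) (tt N5305 (iv D10463)) (tt N7891 (iv F61255)) (tt N7810 (iv F60374)))
theorem Q6502 : ∀ i, i < 6502 → P i := stepQ 6501 Q6501 (allL N6501 (tt N6501 F48391) (tt N7545 F133169) (tt N5308 F133176) (tt N5327 F133177) (tt N6501 F48393) (tt N5307 F48394) (tt N5328 F133170) (tt N5306 (iv D10464)) (tt N7899 (iv F133985)) (tt N7811 (iv F60379)))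
theorem Q6503 : ∀ i, i < 6503 → P i := stepQ 6502 Q6502 (allL N6502 (tt N6502 F48428) (tt N6675 (iv F133977)) (tt N5330 F48429) (tt N5317 (iv F133989)) (tt N5311 F48430) (tt N7902 (iv F61325)) (tt N5324 (iv F133991)) (tt N5310 F48431) (tt N5309 (iv D10474)) (tt N7904 D13480))
theorem Q6504 : ∀ i, i < 6504 → P i := stepQ 6503 Q6503 (allL N6503 (tt N6503 F48432) (tt N6642 (iv F133978)) (tt N5331 F48433) (tt N5314 (iv F133990)) (tt N5312 F48434) (tt N7903 (iv F61330)) (tt N5313 F133184) (tt N7904 (iv F61420)) (tt N7813 (iv F60428)) (tt N5310 (iv D10475)))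
theorem Q6505 : ∀ i, i < 6505 → P i := stepQ 6504 Q6504 (allL N6504 (tt N6504 F48463) (tt N6652 (iv F134008)) (tt N5333 F48464) (tt N5334 (iv F134009)) (tt N7904 (iv F61419)) (tt N6504 F48465) (tt N5337 (iv F134012)) (tt N5312 F48466) (tt N7814 (iv F60460)) (tt N5311 (iv D10482)))
theorem Q6506 : ∀ i, i < 6506 → P i := stepQ 6505 Q6505 (allL N6505 (tt N6505 F48476) (tt N6643 (iv F52994)) (tt N7888 (iv F61230)) (tt N7903 F134606) (tt N6570 (iv F52577)) (tt N5314 (iv D10485)) (tt N6505 F48477) (tt N7905 D13493) (tt N7906 D13494) (tt N5316 F48478))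
theorem Q6507 : ∀ i, i < 6507 → P i := stepQ 6506 Q6506 (allL N6506 (tt N6506 F48479) (tt N6644 (iv F52999)) (tt N7889 (iv F61234)) (tt N7904 F134607) (tt N5315 F48480) (tt N7905 (iv F61475)) (tt N5321 F48481) (tt N5314 (iv D10486)) (tt N7832 (iv F60539)) (tt N5317 F48482))
theorem Q6508 : ∀ i, i < 6508 → P i := stepQ 6507 Q6507 (allL N6507 (tt N6507 F48500) (tt N6676 (iv F53172)) (tt N7892 (iv F61257)) (tt N7902 F134604) (tt N6580 (iv F52630)) (tt N5317 F48501) (tt N7907 D13501) (tt N5316 (iv D10491)) (tt N7900 F134605) (tt N7905 (iv F61476)))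
theorem Q6509 : ∀ i, i < 6509 → P i := stepQ 6508 Q6508 (allL N6508 (tt N6508 F48508) (tt N7638 (iv F133994)) (tt N5319 F48509) (tt N7894 (iv F61269)) (tt N5335 F48510) (tt N7908 D13506) (tt N5318 (iv D10494)) (tt N7909 D13507) (tt N7834 (iv F60565)) (tt N5322 F48511))
theorem Q6510 : ∀ i, i < 6510 → P i := stepQ 6509 Q6509 (allL N6509 (tt N6509 F48512) (tt N7526 (iv F57817)) (tt N7908 (iv F61522)) (tt N5320 F48513) (tt N7910 D13508) (tt N5319 (iv D10495)) (tt N6509 F48514) (tt N7911 D13509) (tt N7912 D13510) (tt N5323 F48515))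
theorem Q6511 : ∀ i, i < 6511 → P i := stepQ 6510 Q6510 (allL N6510 (tt N6510 F48516) (tt N7527 (iv F57821)) (tt N7909 (iv F61526)) (tt N5321 F48517) (tt N5337 F48518) (tt N7911 (iv F61536)) (tt N7904 F134609) (tt N5319 (iv D10496)) (tt N7836 (iv F60573)) (tt N5324 F48519))
theorem Q6512 : ∀ i, i < 6512 → P i := stepQ 6511 Q6511 (allL N6511 (tt N6511 F48520) (tt N7528 (iv F57825)) (tt N7897 (iv F61281)) (tt N7911 (iv F61535)) (tt N6511 F48521) (tt N5321 F48522) (tt N7913 D13511) (tt N5320 (iv D10497)) (tt N7914 D13512) (tt N5325 F48523))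
theorem Q6513 : ∀ i, i < 6513 → P i := stepQ 6512 Q6512 (allL N6512 (tt N6512 F48524) (tt N7529 (iv F57829)) (tt N7898 (iv F61286)) (tt N7912 (iv F61539)) (tt N6512 F48525) (tt N7838 (iv F60579)) (tt N6512 F48526) (tt N7914 (iv F61547)) (tt N5320 (iv D10498)) (tt N7915 D13513))
theorem Q6514 : ∀ i, i < 6514 → P i := stepQ 6513 Q6513 (allL N6513 (tt N6513 F48534) (tt N7637 (iv F134000)) (tt N5323 F48535) (tt N7893 (iv F133983)) (tt N7916 D13517) (tt N5322 (iv D10501)) (tt N6513 F48536) (tt N7917 D13518) (tt N7890 F133186) (tt N7908 (iv F61524)))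
theorem Q6515 : ∀ i, i < 6515 → P i := stepQ 6514 Q6514 (allL N6514 (tt N6514 F48537) (tt N7548 (iv F134002)) (tt N5324 F48538) (tt N7899 (iv F61304)) (tt N5332 F133191) (tt N7917 (iv F61567)) (tt N5330 F133192) (tt N5322 (iv D10502)) (tt N5327 F48540) (tt N7909 (iv F61528)))
theorem Q6516 : ∀ i, i < 6516 → P i := stepQ 6515 Q6515 (allL N6515 (tt N6515 F48541) (tt N7533 (iv F57845)) (tt N7916 (iv F61562)) (tt N6515 F48542) (tt N5323 (iv D10503)) (tt N5341 F48543) (tt N6515 F48544) (tt N7918 D13520) (tt N7919 D13521) (tt N7910 (iv F61533)))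
theorem Q6517 : ∀ i, i < 6517 → P i := stepQ 6516 Q6516 (allL N6516 (tt N6516 F48545) (tt N7534 (iv F57849)) (tt N7917 (iv F61566)) (tt N5325 F48546) (tt N7918 (iv F61574)) (tt N5324 F48547) (tt N7920 D13522) (tt N5323 (iv D10504)) (tt N7921 D13523) (tt N7911 (iv F61537)))
theorem Q6518 : ∀ i, i < 6518 → P i := stepQ 6517 Q6517 (allL N6517 (tt N6517 F48548) (tt N7535 (iv F57852)) (tt N7890 F133194) (tt N5326 F48549) (tt N7919 (iv F61578)) (tt N5329 F48550) (tt N6517 F48551) (tt N7921 (iv F61587)) (tt N5323 (iv D10505)) (tt N7922 D13524))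
theorem Q6519 : ∀ i, i < 6519 → P i := stepQ 6518 Q6518 (allL N6518 (tt N6518 F48552) (tt N7536 (iv F57856)) (tt N7901 (iv F61319)) (tt N7920 (iv F61582)) (tt N6518 F48553) (tt N7907 (iv F61506)) (tt N5325 (iv D10506)) (tt N6518 F48554) (tt N7923 D13525) (tt N7913 (iv F61544)))
theorem Q6520 : ∀ i, i < 6520 → P i := stepQ 6519 Q6519 (allL N6519 (tt N6519 F48555) (tt N7537 (iv F57859)) (tt N7902 (iv F61323)) (tt N7921 (iv F61585)) (tt N6519 F48556) (tt N5330 F48557) (tt N7923 (iv F61594)) (tt N5326 F48558) (tt N5325 (iv D10507)) (tt N7924 D13526))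
theorem Q6521 : ∀ i, i < 6521 → P i := stepQ 6520 Q6520 (allL N6520 (tt N6520 F48559) (tt N7538 (iv F57863)) (tt N7903 (iv F61328)) (tt N7922 (iv F61589)) (tt N6520 F48560) (tt N5331 F48561) (tt N6520 F48562) (tt N7924 (iv F61599)) (tt N7915 (iv F61551)) (tt N5326 (iv D10508)))
theorem Q6522 : ∀ i, i < 6522 → P i := stepQ 6521 Q6521 (allL N6521 (tt N6521 F48616) (tt N7546 (iv F57919)) (tt N7891 F133196) (tt N5330 F48617) (tt N6521 F48618) (tt N7921 (iv F61586)) (tt N7899 (iv F133980)) (tt N5329 F48619) (tt N5328 (iv D10525)) (tt N7925 D13548))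
theorem Q6523 : ∀ i, i < 6523 → P i := stepQ 6522 Q6522 (allL N6522 (tt N6522 F48620) (tt N7547 (iv F57923)) (tt N7887 F133201) (tt N5331 F48621) (tt N6522 F48622) (tt N7922 (iv F61590)) (tt N5380 F48623) (tt N7925 (iv F61677)) (tt N7848 (iv F60680)) (tt N5329 (iv D10526)))
theorem Q6524 : ∀ i, i < 6524 → P i := stepQ 6523 Q6523 (allL N6523 (tt N6523 F48628) (tt N7549 (iv F57931)) (tt N7904 (iv F61418)) (tt N7925 (iv F61675)) (tt N5333 F48629) (tt N7924 (iv F61598)) (tt N7909 (iv F133997)) (tt N5331 F48630) (tt N7849 (iv F60688)) (tt N5330 (iv D10528)))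
theorem Q6525 : ∀ i, i < 6525 → P i := stepQ 6524 Q6524 (allL N6524 (tt N6524 F48631) (tt N7550 (iv F57934)) (tt N5342 (iv F134010)) (tt N6524 F48632) (tt N7926 D13551) (tt N5332 (iv D10529)) (tt N6524 F48633) (tt N5340 F133202) (tt N6524 F48635) (tt N7927 D13552))
theorem Q6526 : ∀ i, i < 6526 → P i := stepQ 6525 Q6525 (allL N6525 (tt N6525 F48636) (tt N7551 (iv F57939)) (tt N5337 (iv F134011)) (tt N6525 F48637) (tt N7909 (iv F133996)) (tt N7927 (iv F61690)) (tt N5333 F48638) (tt N5335 F133203) (tt N7851 (iv F60697)) (tt N5332 (iv D10530)))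
theorem Q6527 : ∀ i, i < 6527 → P i := stepQ 6526 Q6526 (allL N6526 (tt N6526 F48676) (tt N7640 F133206) (tt N5336 F48677) (tt N6526 F48678) (tt N7763 (iv F60013)) (tt N5335 (iv D10539)) (tt N5343 F48679) (tt N7927 (iv F134014)) (tt N7761 F60004) (tt N5340 F48680))
theorem Q6528 : ∀ i, i < 6528 → P i := stepQ 6527 Q6527 (allL N6527 (tt N6527 F48685) (tt N7554 (iv F57954)) (tt N7763 (iv F60011)) (tt N6527 F48686) (tt N5336 (iv D10541)) (tt N7910 (iv F61531)) (tt N5344 F48687) (tt N7928 D13562) (tt N7759 (iv F59982)) (tt N5341 F48688))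
theorem Q6529 : ∀ i, i < 6529 → P i := stepQ 6528 Q6528 (allL N6528 (tt N6528 F48689) (tt N7555 (iv F57958)) (tt N7927 F134636) (tt N5338 F48690) (tt N7928 (iv F61737)) (tt N5337 F48691) (tt N6528 F48692) (tt N5336 (iv D10542)) (tt N7929 D13563) (tt N5342 F48693))
theorem Q6530 : ∀ i, i < 6530 → P i := stepQ 6529 Q6529 (allL N6529 (tt N6529 F48694) (tt N7556 (iv F57963)) (tt N7761 (iv F60000)) (tt N5339 F48695) (tt N7759 F59978) (tt N7866 (iv F60827)) (tt N5345 F48696) (tt N7929 (iv F61743)) (tt N5336 (iv D10543)) (tt N6529 F48697))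
theorem Q6531 : ∀ i, i < 6531 → P i := stepQ 6530 Q6530 (allL N6530 (tt N6530 F48698) (tt N7557 (iv F57967)) (tt N6530 F48699) (tt N7929 (iv F61741)) (tt N6530 F48700) (tt N7868 (iv F60836)) (tt N6530 F48701) (tt N5339 F48702) (tt N5338 (iv D10544)) (tt N6530 F48703))
theorem Q6532 : ∀ i, i < 6532 → P i := stepQ 6531 Q6531 (allL N6531 (tt N6531 F48715) (tt N7639 F133215) (tt N5341 F48716) (tt N7765 (iv F60023)) (tt N5340 (iv D10548)) (tt N7916 (iv F61563)) (tt N5346 F48717) (tt N7926 (iv F134013)) (tt N6531 F48718) (tt N7763 F60015))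
theorem Q6533 : ∀ i, i < 6533 → P i := stepQ 6532 Q6532 (allL N6532 (tt N6532 F48725) (tt N7558 (iv F57989)) (tt N7926 F134635) (tt N6532 F48726) (tt N5342 F48727) (tt N7918 (iv F61575)) (tt N6532 F48728) (tt N5341 (iv D10550)) (tt N6532 F48729) (tt N7928 (iv F61739)))
theorem Q6534 : ∀ i, i < 6534 → P i := stepQ 6533 Q6533 (allL N6533 (tt N7119 (iv F56161)) (tt N5357 F48902) (tt N7563 (iv F58144)) (tt N7600 (iv F134026)) (tt N5350 F48903) (tt N7599 (iv F134029)) (tt N5349 (iv D10587)) (tt N7930 D13605) (tt N7776 (iv F60131)) (tt N6533 F48904))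
theorem Q6535 : ∀ i, i < 6535 → P i := stepQ 6534 Q6534 (allL N6534 (tt N7120 (iv F56165)) (tt N5358 F48905) (tt N7564 (iv F58148)) (tt N6609 (iv F52810)) (tt N7930 (iv F61925)) (tt N6534 F48906) (tt N6599 (iv F52754)) (tt N5350 (iv D10588)) (tt N7777 (iv F60133)) (tt N6534 F48907))
theorem Q6536 : ∀ i, i < 6536 → P i := stepQ 6535 Q6535 (allL N6535 (tt N6535 F48998) (tt N6607 (iv F52797)) (tt N7931 D13642) (tt N5352 (iv D10614)) (tt N5356 F48999) (tt N5373 (iv F133873)) (tt N7932 D13643) (tt N6561 (iv F52511)) (tt N7727 (iv F59835)) (tt N6535 F49001))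
theorem Q6537 : ∀ i, i < 6537 → P i := stepQ 6536 Q6536 (allL N6536 (tt N6536 F49002) (tt N6608 (iv F52803)) (tt N6536 F49003) (tt N7932 (iv F62059)) (tt N5353 F49004) (tt N7933 D13644) (tt N5352 (iv D10615)) (tt N7934 D13645) (tt N7728 (iv F59840)) (tt N6536 F49005))
theorem Q6538 : ∀ i, i < 6538 → P i := stepQ 6537 Q6537 (allL N6537 (tt N6537 F49006) (tt N6609 (iv F52808)) (tt N6537 F49007) (tt N5358 F49008) (tt N7934 (iv F62069)) (tt N6537 F49009) (tt N6563 (iv F52526)) (tt N5353 (iv D10616)) (tt N7729 (iv F59847)) (tt N6537 F49010))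
theorem Q6539 : ∀ i, i < 6539 → P i := stepQ 6538 Q6538 (allL N6538 (tt N6538 F49011) (tt N6597 (iv F52741)) (tt N5375 F133247) (tt N5354 (iv D10617)) (tt N6561 (iv F52509)) (tt N5361 F49012) (tt N7935 D13647) (tt N5356 F49013) (tt N7785 (iv F60238)) (tt N6538 F49014))
theorem Q6540 : ∀ i, i < 6540 → P i := stepQ 6539 Q6539 (allL N6539 (tt N6539 F49015) (tt N6598 (iv F52747)) (tt N5366 F49016) (tt N7935 (iv F62077)) (tt N5355 F49017) (tt N7936 D13648) (tt N5354 (iv D10618)) (tt N7937 D13649) (tt N7786 (iv F60243)) (tt N6539 F49018))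
theorem Q6541 : ∀ i, i < 6541 → P i := stepQ 6540 Q6540 (allL N6540 (tt N6540 F49019) (tt N6599 (iv F52751)) (tt N5367 F49020) (tt N6563 (iv F52524)) (tt N7937 (iv F62085)) (tt N6560 (iv F52503)) (tt N5358 F49021) (tt N5355 (iv D10619)) (tt N7787 (iv F60250)) (tt N6540 F49022))
theorem Q6542 : ∀ i, i < 6542 → P i := stepQ 6541 Q6541 (allL N6541 (tt N6541 F49023) (tt N7610 F133245) (tt N5356 (iv D10620)) (tt N5368 F49024) (tt N7931 (iv F62055)) (tt N5362 F133251) (tt N7936 (iv F134039)) (tt N5375 F133246) (tt N7788 (iv F60255)) (tt N6541 F49026))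
theorem Q6543 : ∀ i, i < 6543 → P i := stepQ 6542 Q6542 (allL N6542 (tt N6542 F49027) (tt N7600 (iv F134025)) (tt N7936 (iv F134037)) (tt N5357 F49028) (tt N7932 (iv F62060)) (tt N5366 (iv F134034)) (tt N5356 (iv D10621)) (tt N7938 D13653) (tt N7789 (iv F60258)) (tt N6542 F49029))
theorem Q6544 : ∀ i, i < 6544 → P i := stepQ 6543 Q6543 (allL N6543 (tt N6543 F49030) (tt N7599 (iv F134027)) (tt N5370 F49031) (tt N5366 (iv F134033)) (tt N6543 F49032) (tt N5357 (iv D10622)) (tt N5363 F49033) (tt N7939 D13654) (tt N7815 (iv F133927)) (tt N6543 F49034))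
theorem Q6545 : ∀ i, i < 6545 → P i := stepQ 6544 Q6544 (allL N6544 (tt N6544 F49035) (tt N7930 (iv F61924)) (tt N5371 F49036) (tt N7938 (iv F62100)) (tt N5358 F49037) (tt N7939 (iv F62105)) (tt N7937 (iv F62086)) (tt N5357 (iv D10623)) (tt N7791 (iv F60265)) (tt N6544 F49038))
theorem Q6546 : ∀ i, i < 6546 → P i := stepQ 6545 Q6545 (allL N6545 (tt N6545 F49039) (tt N6584 (iv F52653)) (tt N5373 F49040) (tt N6545 F49041) (tt N5360 F49042) (tt N7931 (iv F134042)) (tt N5359 (iv D10624)) (tt N5379 F133249) (tt N6545 F49043) (tt N6545 F49044))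
theorem Q6547 : ∀ i, i < 6547 → P i := stepQ 6546 Q6546 (allL N6546 (tt N6546 F49194) (tt N6614 F134468) (tt N6546 F49195) (tt N5364 (iv D10659)) (tt N6546 F49196) (tt N5372 F49197) (tt N7933 (iv F135150)) (tt N6546 F49198) (tt N6567 (iv F52560)) (tt N6546 F49199))
theorem Q6548 : ∀ i, i < 6548 → P i := stepQ 6547 Q6547 (allL N6547 (tt N6547 F49200) (tt N7597 (iv F58420)) (tt N6559 (iv F52494)) (tt N7933 (iv F135149)) (tt N5365 F49201) (tt N7932 F134667) (tt N5364 (iv D10660)) (tt N7940 D13707) (tt N6568 (iv F52565)) (tt N6547 F49202))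
theorem Q6549 : ∀ i, i < 6549 → P i := stepQ 6548 Q6548 (allL N6548 (tt N6548 F49203) (tt N7598 (iv F58423)) (tt N6560 (iv F52501)) (tt N6548 F49204) (tt N7940 (iv F62333)) (tt N5367 F49205) (tt N6548 F49206) (tt N5365 (iv D10661)) (tt N6569 (iv F52572)) (tt N6548 F49207))
theorem Q6550 : ∀ i, i < 6550 → P i := stepQ 6549 Q6549 (allL N6549 (tt N6549 F49220) (tt N7601 (iv F58439)) (tt N7937 (iv F62084)) (tt N7939 F134661) (tt N5367 F49221) (tt N7938 F134662) (tt N5371 F49222) (tt N5366 (iv D10665)) (tt N7817 (iv F60475)) (tt N6549 F49223))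
theorem Q6551 : ∀ i, i < 6551 → P i := stepQ 6550 Q6550 (allL N6550 (tt N6550 F49227) (tt N7612 (iv F134043)) (tt N5369 F49228) (tt N7936 (iv F134038)) (tt N6550 F49229) (tt N7935 (iv F134036)) (tt N5368 (iv D10667)) (tt N7941 D13717) (tt N7822 (iv F60499)) (tt N6550 F49230))
theorem Q6552 : ∀ i, i < 6552 → P i := stepQ 6551 Q6551 (allL N6551 (tt N6551 F49231) (tt N7603 (iv F58450)) (tt N7935 (iv F134035)) (tt N5370 F49232) (tt N7942 D13718) (tt N5369 (iv D10668)) (tt N5375 F49233) (tt N7943 D13719) (tt N7944 D13720) (tt N6551 F49234))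
theorem Q6553 : ∀ i, i < 6553 → P i := stepQ 6552 Q6552 (allL N6552 (tt N6552 F49235) (tt N7604 (iv F58454)) (tt N7941 (iv F62370)) (tt N5371 F49236) (tt N6552 F49237) (tt N7943 (iv F62380)) (tt N7939 F134669) (tt N5369 (iv D10669)) (tt N7824 (iv F60506)) (tt N6552 F49238))
theorem Q6554 : ∀ i, i < 6554 → P i := stepQ 6553 Q6553 (allL N6553 (tt N6553 F49239) (tt N7605 (iv F58458)) (tt N7939 (iv F62103)) (tt N7943 (iv F62379)) (tt N6553 F49240) (tt N5371 F49241) (tt N7941 F134668) (tt N5370 (iv D10670)) (tt N7945 D13722) (tt N6553 F49242))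
theorem Q6555 : ∀ i, i < 6555 → P i := stepQ 6554 Q6554 (allL N6554 (tt N6554 F49243) (tt N7606 (iv F58462)) (tt N7815 F134530) (tt N7944 (iv F62383)) (tt N6554 F49244) (tt N7826 (iv F60510)) (tt N5376 F49245) (tt N7945 (iv F62391)) (tt N5370 (iv D10671)) (tt N7946 D13723))
theorem Q6556 : ∀ i, i < 6556 → P i := stepQ 6555 Q6555 (allL N6555 (tt N6555 F49299) (tt N7609 (iv F58521)) (tt N6561 (iv F134030)) (tt N6555 F49300) (tt N5375 (iv D10685)) (tt N5379 F49301) (tt N7942 (iv F62376)) (tt N7931 (iv F134040)) (tt N7852 (iv F134046)) (tt N6555 F49302))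
theorem Q6557 : ∀ i, i < 6557 → P i := stepQ 6556 Q6556 (allL N6556 (tt N6556 F49307) (tt N7611 (iv F58529)) (tt N7785 (iv F133904)) (tt N5376 F49308) (tt N7852 (iv F134045)) (tt N5377 F49309) (tt N7944 (iv F62384)) (tt N7788 (iv F133908)) (tt N5375 (iv D10687)) (tt N7827 (iv F134050)))
theorem Q6558 : ∀ i, i < 6558 → P i := stepQ 6557 Q6557 (allL N6557 (tt N6557 F49317) (tt N7614 (iv F58539)) (tt N7792 (iv F133928)) (tt N7827 (iv F134048)) (tt N6557 F49318) (tt N5378 F49319) (tt N7946 (iv F62394)) (tt N7818 (iv F133924)) (tt N6557 F49320) (tt N5376 (iv D10690)))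
theorem Q6559 : ∀ i, i < 6559 → P i := stepQ 6558 Q6558 (allL N6558 (tt N6558 F49382) (tt N7621 (iv F58603)) (tt N7795 F133259) (tt N5378 F49383) (tt N6558 F49384) (tt N7827 (iv F134049)) (tt N7848 (iv F60679)) (tt N7801 (iv F133911)) (tt N5380 F49385) (tt N5377 (iv D10708)))
theorem Q6560 : ∀ i, i < 6560 → P i := stepQ 6559 Q6559 (allL N6559 (tt N6559 F52492) (tt N5414 F52493) (tt N6547 F52494) (tt N6559 F52495) (tt N5382 F52496) (tt N7947 D14562) (tt N5381 (iv D11375)) (tt N7948 D14563) (tt N5391 F52497) (tt N6559 F52498))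
theorem Q6561 : ∀ i, i < 6561 → P i := stepQ 6560 Q6560 (allL N6560 (tt N6560 F52499) (tt N5415 F52500) (tt N6548 F52501) (tt N5385 F52502) (tt N7948 (iv F66403)) (tt N6540 F52503) (tt N6560 F52504) (tt N5382 (iv D11376)) (tt N5392 F52505) (tt N6560 F52506))
theorem Q6562 : ∀ i, i < 6562 → P i := stepQ 6561 Q6561 (allL N6561 (tt N6561 F52507) (tt N5421 F52508) (tt N6555 F134030) (tt N5383 (iv D11377)) (tt N6538 F52509) (tt N5386 F52510) (tt N7949 D14565) (tt N6535 F52511) (tt N6447 F52512) (tt N6561 F52513))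
theorem Q6563 : ∀ i, i < 6563 → P i := stepQ 6562 Q6562 (allL N6562 (tt N6562 F52514) (tt N5422 F52515) (tt N6562 F52516) (tt N7949 (iv F66416)) (tt N5384 F52517) (tt N6562 F52518) (tt N5383 (iv D11378)) (tt N7950 D14566) (tt N6448 F52519) (tt N6562 F52520))
theorem Q6564 : ∀ i, i < 6564 → P i := stepQ 6563 Q6563 (allL N6563 (tt N6563 F52521) (tt N5423 F52522) (tt N6563 F52523) (tt N6540 F52524) (tt N7950 (iv F66424)) (tt N5385 F52525) (tt N6537 F52526) (tt N5384 (iv D11379)) (tt N6449 F52527) (tt N6563 F52528))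
theorem Q6565 : ∀ i, i < 6565 → P i := stepQ 6564 Q6564 (allL N6564 (tt N5388 F52536) (tt N6564 F52537) (tt N5429 F52538) (tt N6564 F52539) (tt N7951 D14568) (tt N5387 (iv D11381)) (tt N7952 D14569) (tt N6564 F52540) (tt N5734 F52541) (tt N5393 F52542))
theorem Q6566 : ∀ i, i < 6566 → P i := stepQ 6565 Q6565 (allL N6565 (tt N7951 (iv F66436)) (tt N5389 F52543) (tt N5432 F52544) (tt N7953 D14570) (tt N5388 (iv D11382)) (tt N6565 F52545) (tt N7954 D14571) (tt N6565 F52546) (tt N6217 F52547) (tt N5394 F52548))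
theorem Q6567 : ∀ i, i < 6567 → P i := stepQ 6566 Q6566 (allL N6566 (tt N7952 (iv F66443)) (tt N5390 F52549) (tt N5433 F52550) (tt N6566 F52551) (tt N7954 (iv F66458)) (tt N6477 F52552) (tt N5388 (iv D11383)) (tt N7955 D14572) (tt N6218 F52553) (tt N5395 F52554))
theorem Q6568 : ∀ i, i < 6568 → P i := stepQ 6567 Q6567 (allL N6567 (tt N6567 F52555) (tt N7953 (iv F66450)) (tt N6567 F52556) (tt N5389 (iv D11384)) (tt N6567 F52557) (tt N6567 F52558) (tt N7956 D14573) (tt N6567 F52559) (tt N6546 F52560) (tt N5396 F52561))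
theorem Q6569 : ∀ i, i < 6569 → P i := stepQ 6568 Q6568 (allL N6568 (tt N6568 F52562) (tt N7954 (iv F66456)) (tt N5391 F52563) (tt N7956 (iv F66470)) (tt N5390 F52564) (tt N7957 D14574) (tt N5389 (iv D11385)) (tt N7958 D14575) (tt N6547 F52565) (tt N5397 F52566))
theorem Q6570 : ∀ i, i < 6570 → P i := stepQ 6569 Q6569 (allL N6569 (tt N6569 F52567) (tt N7955 (iv F66461)) (tt N5392 F52568) (tt N6569 F52569) (tt N7958 (iv F66481)) (tt N6487 F52570) (tt N6569 F52571) (tt N5390 (iv D11386)) (tt N6548 F52572) (tt N5398 F52573))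
theorem Q6571 : ∀ i, i < 6571 → P i := stepQ 6570 Q6570 (allL N6570 (tt N6570 F52574) (tt N5448 F52575) (tt N7957 (iv F66475)) (tt N6570 F52576) (tt N6505 F52577) (tt N5391 (iv D11387)) (tt N6570 F52578) (tt N7959 D14576) (tt N7960 D14577) (tt N5399 F52579))
theorem Q6572 : ∀ i, i < 6572 → P i := stepQ 6571 Q6571 (allL N6571 (tt N6571 F52580) (tt N5449 F52581) (tt N7958 (iv F66480)) (tt N6571 F52582) (tt N5392 F52583) (tt N7959 (iv F66489)) (tt N6571 F52584) (tt N5391 (iv D11388)) (tt N7948 (iv F66405)) (tt N5400 F52585))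
theorem Q6573 : ∀ i, i < 6573 → P i := stepQ 6572 Q6572 (allL N6572 (tt N5394 F52586) (tt N6572 F52587) (tt N5457 F52588) (tt N7961 D14578) (tt N5393 (iv D11389)) (tt N6572 F52589) (tt N7962 D14579) (tt N6572 F52590) (tt N6572 F52591) (tt N7951 (iv F66442)))
theorem Q6574 : ∀ i, i < 6574 → P i := stepQ 6573 Q6573 (allL N6573 (tt N5395 F52592) (tt N6573 F52593) (tt N5458 F52594) (tt N6573 F52595) (tt N7962 (iv F66505)) (tt N6468 F52596) (tt N5393 (iv D11390)) (tt N7963 D14580) (tt N6573 F52597) (tt N7952 (iv F66449)))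
theorem Q6575 : ∀ i, i < 6575 → P i := stepQ 6574 Q6574 (allL N6574 (tt N7961 (iv F66496)) (tt N5396 F52598) (tt N7964 D14581) (tt N5394 (iv D11391)) (tt N6574 F52599) (tt N6574 F52600) (tt N7965 D14582) (tt N6574 F52601) (tt N6574 F52602) (tt N7953 (iv F66455)))
theorem Q6576 : ∀ i, i < 6576 → P i := stepQ 6575 Q6575 (allL N6575 (tt N7962 (iv F66502)) (tt N5397 F52603) (tt N5462 F52604) (tt N7965 (iv F66521)) (tt N5395 F52605) (tt N7966 D14583) (tt N5394 (iv D11392)) (tt N7967 D14584) (tt N6575 F52606) (tt N7954 (iv F66460)))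
theorem Q6577 : ∀ i, i < 6577 → P i := stepQ 6576 Q6576 (allL N6576 (tt N7963 (iv F66507)) (tt N5398 F52607) (tt N5463 F52608) (tt N6576 F52609) (tt N7967 (iv F66530)) (tt N6479 F52610) (tt N6576 F52611) (tt N5395 (iv D11393)) (tt N6576 F52612) (tt N7955 (iv F66467)))
theorem Q6578 : ∀ i, i < 6578 → P i := stepQ 6577 Q6577 (allL N6577 (tt N6577 F52613) (tt N7965 (iv F66520)) (tt N6577 F52614) (tt N5397 F52615) (tt N6577 F52616) (tt N7968 D14585) (tt N5396 (iv D11394)) (tt N7969 D14586) (tt N6577 F52617) (tt N7956 (iv F66473)))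
theorem Q6579 : ∀ i, i < 6579 → P i := stepQ 6578 Q6578 (allL N6578 (tt N6578 F52618) (tt N7966 (iv F66524)) (tt N5399 F52619) (tt N7968 (iv F66535)) (tt N6489 F52620) (tt N5397 (iv D11395)) (tt N6578 F52621) (tt N7970 D14587) (tt N7971 D14588) (tt N7957 (iv F66478)))
theorem Q6580 : ∀ i, i < 6580 → P i := stepQ 6579 Q6579 (allL N6579 (tt N6579 F52622) (tt N7967 (iv F66528)) (tt N5400 F52623) (tt N7969 (iv F66539)) (tt N5398 F52624) (tt N7970 (iv F66546)) (tt N6579 F52625) (tt N5397 (iv D11396)) (tt N6579 F52626) (tt N7958 (iv F66484)))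
theorem Q6581 : ∀ i, i < 6581 → P i := stepQ 6580 Q6580 (allL N6580 (tt N6580 F52627) (tt N5474 F52628) (tt N7970 (iv F66544)) (tt N6580 F52629) (tt N6507 F52630) (tt N5400 F52631) (tt N7972 D14589) (tt N5399 (iv D11397)) (tt N7973 D14590) (tt N7959 (iv F66490)))
theorem Q6582 : ∀ i, i < 6582 → P i := stepQ 6581 Q6581 (allL N6581 (tt N6581 F52632) (tt N5475 F52633) (tt N7971 (iv F66548)) (tt N6581 F52634) (tt N6496 F133986) (tt N6581 F52636) (tt N6581 F52637) (tt N7973 (iv F66563)) (tt N5399 (iv D11398)) (tt N7974 D14591))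
theorem Q6583 : ∀ i, i < 6583 → P i := stepQ 6582 Q6582 (allL N6582 (tt N5808 F52638) (tt N6199 F52639) (tt N5402 F52640) (tt N7975 D14592) (tt N5401 (iv D11399)) (tt N5409 F52641) (tt N7976 D14593) (tt N6582 F52642) (tt N6582 F52643) (tt N6582 F52644))
theorem Q6584 : ∀ i, i < 6584 → P i := stepQ 6583 Q6583 (allL N6583 (tt N5809 F52645) (tt N6200 F52646) (tt N5403 F52647) (tt N6583 F52648) (tt N7976 (iv F66581)) (tt N6185 F52649) (tt N5401 (iv D11400)) (tt N6243 (iv F133472)) (tt N6583 F52650) (tt N6583 F52651))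
theorem Q6585 : ∀ i, i < 6585 → P i := stepQ 6584 Q6584 (allL N6584 (tt N5811 F52652) (tt N6545 F52653) (tt N7976 (iv F66580)) (tt N6584 F52654) (tt N5403 F52655) (tt N7977 D14595) (tt N5402 (iv D11401)) (tt N6244 (iv F134052)) (tt N6584 F52656) (tt N6584 F52657))
theorem Q6586 : ∀ i, i < 6586 → P i := stepQ 6585 Q6585 (allL N6585 (tt N5812 F52665) (tt N6243 F132887) (tt N5404 (iv D11403)) (tt N6585 F52666) (tt N5426 F52667) (tt N6203 F132888) (tt N6585 F52669) (tt N6200 (iv F133462)) (tt N6585 F52671) (tt N6585 F52672))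
theorem Q6587 : ∀ i, i < 6587 → P i := stepQ 6586 Q6586 (allL N6586 (tt N5406 F52673) (tt N5813 F52674) (tt N5734 F52675) (tt N5480 F52676) (tt N7978 D14598) (tt N5405 (iv D11404)) (tt N7979 D14599) (tt N6586 F52677) (tt N5429 F52678) (tt N6586 F52679))
theorem Q6588 : ∀ i, i < 6588 → P i := stepQ 6587 Q6587 (allL N6587 (tt N7978 (iv F66613)) (tt N5409 F52680) (tt N6217 F52681) (tt N7980 D14600) (tt N5406 (iv D11405)) (tt N6199 F52682) (tt N7981 D14601) (tt N6587 F52683) (tt N5432 F52684) (tt N6587 F52685))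
theorem Q6589 : ∀ i, i < 6589 → P i := stepQ 6588 Q6588 (allL N6588 (tt N7979 (iv F66620)) (tt N5410 F52686) (tt N6218 F52687) (tt N5485 F52688) (tt N7981 (iv F66635)) (tt N6195 F52689) (tt N5406 (iv D11406)) (tt N7982 D14602) (tt N5433 F52690) (tt N6588 F52691))
theorem Q6590 : ∀ i, i < 6590 → P i := stepQ 6589 Q6589 (allL N6589 (tt N5820 F52692) (tt N6021 F52693) (tt N5411 F52694) (tt N5494 F52695) (tt N7983 D14603) (tt N5407 (iv D11407)) (tt N7984 D14604) (tt N6006 F52696) (tt N5408 F52697) (tt N6025 F52698))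
theorem Q6591 : ∀ i, i < 6591 → P i := stepQ 6590 Q6590 (allL N6590 (tt N5822 F52699) (tt N6194 F52700) (tt N5412 F52701) (tt N7985 D14605) (tt N5408 (iv D11408)) (tt N6184 F52702) (tt N7986 D14606) (tt N6182 F52703) (tt N7983 (iv F66650)) (tt N6590 F52704))
theorem Q6592 : ∀ i, i < 6592 → P i := stepQ 6591 Q6591 (allL N6591 (tt N5823 F52705) (tt N6195 F52706) (tt N5413 F52707) (tt N5497 F52708) (tt N7986 (iv F66668)) (tt N5410 F52709) (tt N5408 (iv D11409)) (tt N7987 D14607) (tt N7984 (iv F66657)) (tt N6591 F52710))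
theorem Q6593 : ∀ i, i < 6593 → P i := stepQ 6592 Q6592 (allL N6592 (tt N5824 F52711) (tt N7980 (iv F66627)) (tt N6592 F52712) (tt N5409 (iv D11410)) (tt N5498 F52713) (tt N7975 (iv F66574)) (tt N7988 D14608) (tt N6592 F52714) (tt N5439 F52715) (tt N6592 F52716))
theorem Q6594 : ∀ i, i < 6594 → P i := stepQ 6593 Q6593 (allL N6593 (tt N5825 F52717) (tt N7981 (iv F66633)) (tt N5414 F52718) (tt N7988 (iv F66679)) (tt N5410 F52719) (tt N7989 D14609) (tt N5409 (iv D11411)) (tt N7990 D14610) (tt N5440 F52720) (tt N6593 F52721))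
theorem Q6595 : ∀ i, i < 6595 → P i := stepQ 6594 Q6594 (allL N6594 (tt N5826 F52722) (tt N7982 (iv F66638)) (tt N5415 F52723) (tt N5500 F52724) (tt N7990 (iv F66688)) (tt N7987 (iv F66674)) (tt N6594 F52725) (tt N5410 (iv D11412)) (tt N5441 F52726) (tt N6594 F52727))
theorem Q6596 : ∀ i, i < 6596 → P i := stepQ 6595 Q6595 (allL N6595 (tt N5829 F52728) (tt N6386 F52729) (tt N7983 (iv F66647)) (tt N7991 D14611) (tt N5411 (iv D11413)) (tt N6377 F52730) (tt N7992 D14612) (tt N6375 F52731) (tt N5412 F52732) (tt N6052 F52733))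
theorem Q6597 : ∀ i, i < 6597 → P i := stepQ 6596 Q6596 (allL N6596 (tt N5830 F52734) (tt N6387 F52735) (tt N7984 (iv F66654)) (tt N5418 F52736) (tt N7992 (iv F66701)) (tt N5444 F52737) (tt N5411 (iv D11414)) (tt N7993 D14613) (tt N5413 F52738) (tt N6053 F52739))
theorem Q6598 : ∀ i, i < 6598 → P i := stepQ 6597 Q6597 (allL N6597 (tt N5833 F52740) (tt N6538 F52741) (tt N7994 D14614) (tt N5412 (iv D11415)) (tt N5421 F52742) (tt N6227 F132896) (tt N7995 D14615) (tt N6226 (iv F133231)) (tt N7991 (iv F66697)) (tt N6597 F52745))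
theorem Q6599 : ∀ i, i < 6599 → P i := stepQ 6598 Q6598 (allL N6598 (tt N5834 F52746) (tt N6539 F52747) (tt N7986 (iv F66667)) (tt N7995 (iv F66718)) (tt N5413 F52748) (tt N7996 D14616) (tt N5412 (iv D11416)) (tt N7997 D14617) (tt N7992 (iv F66702)) (tt N6598 F52749))
theorem Q6600 : ∀ i, i < 6600 → P i := stepQ 6599 Q6599 (allL N6599 (tt N5835 F52750) (tt N6540 F52751) (tt N7987 (iv F66672)) (tt N5423 F52752) (tt N7997 (iv F66728)) (tt N5415 F52753) (tt N6534 F52754) (tt N5413 (iv D11417)) (tt N7993 (iv F66709)) (tt N6599 F52755))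
theorem Q6601 : ∀ i, i < 6601 → P i := stepQ 6600 Q6600 (allL N6600 (tt N5836 F52756) (tt N7947 (iv F66393)) (tt N7989 (iv F66684)) (tt N6600 F52757) (tt N7996 (iv F66723)) (tt N5414 (iv D11418)) (tt N7977 (iv F66596)) (tt N7998 D14618) (tt N7999 D14619) (tt N6600 F52758))
theorem Q6602 : ∀ i, i < 6602 → P i := stepQ 6601 Q6601 (allL N6601 (tt N5837 F52759) (tt N7948 (iv F66400)) (tt N7990 (iv F66687)) (tt N6601 F52760) (tt N5415 F52761) (tt N7998 (iv F66733)) (tt N6601 F52762) (tt N5414 (iv D11419)) (tt N5449 F52763) (tt N6601 F52764))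
theorem Q6603 : ∀ i, i < 6603 → P i := stepQ 6602 Q6602 (allL N6602 (tt N5838 F52765) (tt N6331 F52766) (tt N5519 F52767) (tt N8000 D14620) (tt N5416 (iv D11420)) (tt N6602 F52768) (tt N8001 D14621) (tt N5417 F52769) (tt N5419 F52770) (tt N5972 F52771))
theorem Q6604 : ∀ i, i < 6604 → P i := stepQ 6603 Q6603 (allL N6603 (tt N5839 F52772) (tt N6332 F52773) (tt N5520 F52774) (tt N6376 F52775) (tt N8001 (iv F66748)) (tt N5975 F52776) (tt N5416 (iv D11421)) (tt N8002 D14622) (tt N5420 F52777) (tt N5973 F52778))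
theorem Q6605 : ∀ i, i < 6605 → P i := stepQ 6604 Q6604 (allL N6604 (tt N5840 F52779) (tt N6447 F52780) (tt N8003 D14623) (tt N5417 (iv D11422)) (tt N7991 (iv F66694)) (tt N6604 F52781) (tt N8004 D14624) (tt N8000 (iv F66742)) (tt N5421 F52782) (tt N6077 F52783))
theorem Q6606 : ∀ i, i < 6606 → P i := stepQ 6605 Q6605 (allL N6605 (tt N5841 F52784) (tt N6448 F52785) (tt N5524 F52786) (tt N8004 (iv F66766)) (tt N5418 F52787) (tt N8005 D14625) (tt N5417 (iv D11423)) (tt N8006 D14626) (tt N5422 F52788) (tt N6078 F52789))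
theorem Q6607 : ∀ i, i < 6607 → P i := stepQ 6606 Q6606 (allL N6606 (tt N5842 F52790) (tt N6449 F52791) (tt N5525 F52792) (tt N7993 (iv F66706)) (tt N8006 (iv F66779)) (tt N5452 F52793) (tt N8002 (iv F66756)) (tt N5418 (iv D11424)) (tt N5423 F52794) (tt N6079 F52795))
theorem Q6608 : ∀ i, i < 6608 → P i := stepQ 6607 Q6607 (allL N6607 (tt N5843 F52796) (tt N6535 F52797) (tt N8007 D14627) (tt N5419 (iv D11425)) (tt N6226 F134024) (tt N5424 F52799) (tt N8008 D14628) (tt N5421 F52800) (tt N8000 (iv F66743)) (tt N6607 F52801))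
theorem Q6609 : ∀ i, i < 6609 → P i := stepQ 6608 Q6608 (allL N6608 (tt N5844 F52802) (tt N6536 F52803) (tt N5527 F52804) (tt N8008 (iv F66790)) (tt N5420 F52805) (tt N8009 D14629) (tt N5419 (iv D11426)) (tt N8010 D14630) (tt N8001 (iv F66749)) (tt N6608 F52806))
theorem Q6610 : ∀ i, i < 6610 → P i := stepQ 6609 Q6609 (allL N6609 (tt N5845 F52807) (tt N6537 F52808) (tt N5528 F52809) (tt N6534 F52810) (tt N8010 (iv F66802)) (tt N6609 F52811) (tt N5423 F52812) (tt N5420 (iv D11427)) (tt N8002 (iv F66757)) (tt N6609 F52813))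
theorem Q6611 : ∀ i, i < 6611 → P i := stepQ 6610 Q6610 (allL N6610 (tt N5846 F52814) (tt N8011 D14631) (tt N5421 (iv D11428)) (tt N5529 F52815) (tt N7994 (iv F66712)) (tt N5426 F52816) (tt N8012 D14632) (tt N8007 (iv F66786)) (tt N8003 (iv F66762)) (tt N6610 F52817))
theorem Q6612 : ∀ i, i < 6612 → P i := stepQ 6611 Q6611 (allL N6611 (tt N5847 F52818) (tt N7949 (iv F66415)) (tt N8012 (iv F66809)) (tt N5422 F52819) (tt N7995 (iv F66719)) (tt N6611 F52820) (tt N5421 (iv D11429)) (tt N8013 D14633) (tt N8004 (iv F66767)) (tt N6611 F52821))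
theorem Q6613 : ∀ i, i < 6613 → P i := stepQ 6612 Q6612 (allL N6612 (tt N5848 F52822) (tt N7950 (iv F66422)) (tt N5531 F52823) (tt N8013 (iv F66814)) (tt N5423 F52824) (tt N6612 F52825) (tt N8010 (iv F66803)) (tt N5422 (iv D11430)) (tt N8006 (iv F66780)) (tt N6612 F52826))
theorem Q6614 : ∀ i, i < 6614 → P i := stepQ 6613 Q6613 (allL N6613 (tt N5849 F52827) (tt N7976 F134287) (tt N5424 (iv D11431)) (tt N5532 F52828) (tt N6200 F134288) (tt N8007 (iv F66785)) (tt N6199 (iv F134436)) (tt N5426 F52830) (tt N6613 F52831) (tt N6613 F52832))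
theorem Q6615 : ∀ i, i < 6615 → P i := stepQ 6614 Q6614 (allL N6614 (tt N5850 F52840) (tt N6546 (iv F134468)) (tt N5534 F52842) (tt N6217 (iv F134434)) (tt N6614 F52843) (tt N5425 (iv D11433)) (tt N8009 (iv F66797)) (tt N6614 F52844) (tt N7953 F134414) (tt N6614 F52845))
theorem Q6616 : ∀ i, i < 6616 → P i := stepQ 6615 Q6615 (allL N6615 (tt N8014 D14638) (tt N5426 (iv D11434)) (tt N6244 (iv F134051)) (tt N5535 F52846) (tt N6243 F133520) (tt N8011 (iv F66806)) (tt N6615 F52847) (tt N7976 (iv F133463)) (tt N6615 F52848) (tt N6615 F52849))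
theorem Q6617 : ∀ i, i < 6617 → P i := stepQ 6616 Q6616 (allL N6616 (tt N5430 F52850) (tt N5852 F52851) (tt N5573 F52852) (tt N5539 F52853) (tt N5560 F52854) (tt N8015 D14639) (tt N5557 F52855) (tt N5998 F52856) (tt N5427 (iv D11435)) (tt N5818 F52857))
theorem Q6618 : ∀ i, i < 6618 → P i := stepQ 6617 Q6617 (allL N6617 (tt N5431 F52858) (tt N5853 F52859) (tt N6466 F52860) (tt N5541 F52861) (tt N8016 D14640) (tt N5428 (iv D11436)) (tt N8017 D14641) (tt N6098 F52862) (tt N8015 (iv F66851)) (tt N5456 F52863))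
theorem Q6619 : ∀ i, i < 6619 → P i := stepQ 6618 Q6618 (allL N6618 (tt N5432 F52864) (tt N5854 F52865) (tt N7951 (iv F66438)) (tt N8018 D14642) (tt N5429 (iv D11437)) (tt N6618 F52866) (tt N8019 D14643) (tt N6618 F52867) (tt N7978 (iv F66618)) (tt N5457 F52868))
theorem Q6620 : ∀ i, i < 6620 → P i := stepQ 6619 Q6619 (allL N6619 (tt N5433 F52869) (tt N5855 F52870) (tt N7952 (iv F66445)) (tt N5543 F52871) (tt N8019 (iv F66873)) (tt N8017 (iv F66863)) (tt N5429 (iv D11438)) (tt N8020 D14644) (tt N7979 (iv F66625)) (tt N5458 F52872))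
theorem Q6621 : ∀ i, i < 6621 → P i := stepQ 6620 Q6620 (allL N6620 (tt N8015 (iv F66846)) (tt N5436 F52873) (tt N6044 F52874) (tt N5549 F52875) (tt N8021 D14645) (tt N5430 (iv D11439)) (tt N8022 D14646) (tt N6008 F52876) (tt N5431 F52877) (tt N6007 F52878))
theorem Q6622 : ∀ i, i < 6622 → P i := stepQ 6621 Q6621 (allL N6621 (tt N8016 (iv F66853)) (tt N5437 F52879) (tt N6476 F52880) (tt N8023 D14647) (tt N5431 (iv D11440)) (tt N6621 F52881) (tt N8024 D14648) (tt N6108 F52882) (tt N8021 (iv F66884)) (tt N5459 F52883))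
theorem Q6623 : ∀ i, i < 6623 → P i := stepQ 6622 Q6622 (allL N6622 (tt N8017 (iv F66859)) (tt N5438 F52884) (tt N6477 F52885) (tt N5552 F52886) (tt N8024 (iv F66899)) (tt N5433 F52887) (tt N5431 (iv D11441)) (tt N8025 D14649) (tt N8022 (iv F66890)) (tt N5460 F52888))
theorem Q6624 : ∀ i, i < 6624 → P i := stepQ 6623 Q6623 (allL N6623 (tt N8018 (iv F66865)) (tt N5439 F52889) (tt N8026 D14650) (tt N5432 (iv D11442)) (tt N5553 F52890) (tt N6623 F52891) (tt N8027 D14651) (tt N6623 F52892) (tt N7980 (iv F66631)) (tt N5461 F52893))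
theorem Q6625 : ∀ i, i < 6625 → P i := stepQ 6624 Q6624 (allL N6624 (tt N8019 (iv F66871)) (tt N5440 F52894) (tt N7954 (iv F66457)) (tt N8027 (iv F66913)) (tt N5433 F52895) (tt N8028 D14652) (tt N5432 (iv D11443)) (tt N8029 D14653) (tt N7981 (iv F66636)) (tt N5462 F52896))
theorem Q6626 : ∀ i, i < 6626 → P i := stepQ 6625 Q6625 (allL N6625 (tt N8020 (iv F66875)) (tt N5441 F52897) (tt N7955 (iv F66462)) (tt N5555 F52898) (tt N8029 (iv F66920)) (tt N8025 (iv F66904)) (tt N6625 F52899) (tt N5433 (iv D11444)) (tt N7982 (iv F66643)) (tt N5463 F52900))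
theorem Q6627 : ∀ i, i < 6627 → P i := stepQ 6626 Q6626 (allL N6626 (tt N5863 F52901) (tt N5493 F52902) (tt N6626 F52903) (tt N5435 F52904) (tt N5556 F52905) (tt N8030 D14654) (tt N5548 F52906) (tt N6019 F52907) (tt N5434 (iv D11445)) (tt N5482 F52908))
theorem Q6628 : ∀ i, i < 6628 → P i := stepQ 6627 Q6627 (allL N6627 (tt N5864 F52909) (tt N6025 F52910) (tt N5442 F52911) (tt N8030 (iv F66926)) (tt N8031 D14655) (tt N5435 (iv D11446)) (tt N8032 D14656) (tt N6022 F52912) (tt N6627 F52913) (tt N6021 F52914))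
theorem Q6629 : ∀ i, i < 6629 → P i := stepQ 6628 Q6628 (allL N6628 (tt N5865 F52915) (tt N8021 (iv F66880)) (tt N5443 F52916) (tt N8033 D14657) (tt N5436 (iv D11447)) (tt N8031 (iv F66933)) (tt N8034 D14658) (tt N6028 F52917) (tt N5437 F52918) (tt N6026 F52919))
theorem Q6630 : ∀ i, i < 6630 → P i := stepQ 6629 Q6629 (allL N6629 (tt N5866 F52920) (tt N8022 (iv F66886)) (tt N5444 F52921) (tt N5564 F52922) (tt N8034 (iv F66950)) (tt N7984 (iv F66656)) (tt N5436 (iv D11448)) (tt N8035 D14659) (tt N5438 F52923) (tt N6027 F52924))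
theorem Q6631 : ∀ i, i < 6631 → P i := stepQ 6630 Q6630 (allL N6630 (tt N5867 F52925) (tt N8023 (iv F66892)) (tt N8036 D14660) (tt N5437 (iv D11449)) (tt N5567 F52926) (tt N6630 F52927) (tt N8037 D14661) (tt N6122 F52928) (tt N8033 (iv F66946)) (tt N5464 F52929))
theorem Q6632 : ∀ i, i < 6632 → P i := stepQ 6631 Q6631 (allL N6631 (tt N5868 F52930) (tt N8024 (iv F66897)) (tt N5446 F52931) (tt N8037 (iv F66966)) (tt N5438 F52932) (tt N8038 D14662) (tt N5437 (iv D11450)) (tt N8039 D14663) (tt N8034 (iv F66951)) (tt N5465 F52933))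
theorem Q6633 : ∀ i, i < 6633 → P i := stepQ 6632 Q6632 (allL N6632 (tt N5869 F52934) (tt N8025 (iv F66901)) (tt N5447 F52935) (tt N5569 F52936) (tt N8039 (iv F66976)) (tt N5441 F52937) (tt N6124 F52938) (tt N5438 (iv D11451)) (tt N8035 (iv F66957)) (tt N5466 F52939))
theorem Q6634 : ∀ i, i < 6634 → P i := stepQ 6633 Q6633 (allL N6633 (tt N5870 F52940) (tt N8027 (iv F66912)) (tt N6633 F52941) (tt N5440 F52942) (tt N5570 F52943) (tt N8040 D14664) (tt N5439 (iv D11452)) (tt N8041 D14665) (tt N7988 (iv F66681)) (tt N5467 F52944))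
theorem Q6635 : ∀ i, i < 6635 → P i := stepQ 6634 Q6634 (allL N6634 (tt N5871 F52945) (tt N8028 (iv F66916)) (tt N5448 F52946) (tt N8040 (iv F66981)) (tt N8038 (iv F66971)) (tt N5440 (iv D11453)) (tt N6634 F52947) (tt N8042 D14666) (tt N8043 D14667) (tt N5468 F52948))
theorem Q6636 : ∀ i, i < 6636 → P i := stepQ 6635 Q6635 (allL N6635 (tt N5872 F52949) (tt N8029 (iv F66919)) (tt N5449 F52950) (tt N8041 (iv F66986)) (tt N5441 F52951) (tt N8042 (iv F66992)) (tt N6635 F52952) (tt N5440 (iv D11454)) (tt N7990 (iv F66690)) (tt N5469 F52953))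
theorem Q6637 : ∀ i, i < 6637 → P i := stepQ 6636 Q6636 (allL N6636 (tt N5873 F52954) (tt N6391 F52955) (tt N8031 (iv F66932)) (tt N8044 D14668) (tt N5442 (iv D11455)) (tt N5443 F52956) (tt N8045 D14669) (tt N6047 F52957) (tt N6636 F52958) (tt N6045 F52959))
theorem Q6638 : ∀ i, i < 6638 → P i := stepQ 6637 Q6637 (allL N6637 (tt N5874 F52960) (tt N6392 F52961) (tt N8032 (iv F66939)) (tt N6637 F52962) (tt N8045 (iv F67006)) (tt N6378 F52963) (tt N5442 (iv D11456)) (tt N8046 D14670) (tt N6637 F52964) (tt N6046 F52965))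
theorem Q6639 : ∀ i, i < 6639 → P i := stepQ 6638 Q6638 (allL N6638 (tt N5875 F52966) (tt N6426 F52967) (tt N8047 D14671) (tt N5443 (iv D11457)) (tt N5450 F52968) (tt N8044 (iv F67000)) (tt N8048 D14672) (tt N6057 F52969) (tt N5445 F52970) (tt N6054 F52971))
theorem Q6640 : ∀ i, i < 6640 → P i := stepQ 6639 Q6639 (allL N6639 (tt N5876 F52972) (tt N6427 F52973) (tt N8034 (iv F66949)) (tt N8048 (iv F67023)) (tt N5444 F52974) (tt N8049 D14673) (tt N5443 (iv D11458)) (tt N8050 D14674) (tt N5446 F52975) (tt N6055 F52976))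
theorem Q6641 : ∀ i, i < 6641 → P i := stepQ 6640 Q6640 (allL N6640 (tt N5877 F52977) (tt N6428 F52978) (tt N8035 (iv F66954)) (tt N5452 F52979) (tt N8050 (iv F67032)) (tt N7993 (iv F66707)) (tt N6059 F52980) (tt N5444 (iv D11459)) (tt N5447 F52981) (tt N6056 F52982))
theorem Q6642 : ∀ i, i < 6642 → P i := stepQ 6641 Q6641 (allL N6641 (tt N5878 F52983) (tt N6254 F132843) (tt N5445 (iv D11460)) (tt N8036 (iv F66960)) (tt N5453 F52984) (tt N6641 F52985) (tt N8051 D14676) (tt N6144 F52986) (tt N8047 (iv F67019)) (tt N5470 F52987))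
theorem Q6643 : ∀ i, i < 6643 → P i := stepQ 6642 Q6642 (allL N6642 (tt N5879 F52988) (tt N6503 F133978) (tt N8051 (iv F67042)) (tt N5446 F52990) (tt N5454 F52991) (tt N8052 D14677) (tt N5445 (iv D11461)) (tt N8053 D14678) (tt N8048 (iv F67025)) (tt N5471 F52992))
theorem Q6644 : ∀ i, i < 6644 → P i := stepQ 6643 Q6643 (allL N6643 (tt N5880 F52993) (tt N6505 F52994) (tt N8038 (iv F66970)) (tt N8052 (iv F67047)) (tt N5448 F52995) (tt N5446 (iv D11462)) (tt N6643 F52996) (tt N8054 D14679) (tt N8055 D14680) (tt N5472 F52997))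
theorem Q6645 : ∀ i, i < 6645 → P i := stepQ 6644 Q6644 (allL N6644 (tt N5881 F52998) (tt N6506 F52999) (tt N8039 (iv F66975)) (tt N8053 (iv F67053)) (tt N5447 F53000) (tt N8054 (iv F67060)) (tt N6147 F53001) (tt N5446 (iv D11463)) (tt N8050 (iv F67034)) (tt N5473 F53002))
theorem Q6646 : ∀ i, i < 6646 → P i := stepQ 6645 Q6645 (allL N6645 (tt N5882 F53003) (tt N7959 (iv F66486)) (tt N8042 (iv F66991)) (tt N6645 F53004) (tt N8054 (iv F67059)) (tt N5449 F53005) (tt N8056 D14681) (tt N5448 (iv D11464)) (tt N8057 D14682) (tt N5474 F53006))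
theorem Q6647 : ∀ i, i < 6647 → P i := stepQ 6646 Q6646 (allL N6646 (tt N5883 F53007) (tt N7960 (iv F66492)) (tt N8043 (iv F66995)) (tt N6646 F53008) (tt N8055 (iv F67064)) (tt N7999 (iv F66737)) (tt N6646 F53009) (tt N8057 (iv F67073)) (tt N5448 (iv D11465)) (tt N8058 D14683))
theorem Q6648 : ∀ i, i < 6648 → P i := stepQ 6647 Q6647 (allL N6647 (tt N5884 F53010) (tt N6216 F132767) (tt N5450 (iv D11466)) (tt N5603 F53011) (tt N8047 (iv F67017)) (tt N6647 F53012) (tt N8059 D14685) (tt N6084 F53013) (tt N5453 F53014) (tt N6080 F53015))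
theorem Q6649 : ∀ i, i < 6649 → P i := stepQ 6648 Q6648 (allL N6648 (tt N5885 F53016) (tt N6412 F133952) (tt N8059 (iv F67085)) (tt N5451 F53018) (tt N8048 (iv F67024)) (tt N8060 D14686) (tt N5450 (iv D11467)) (tt N8061 D14687) (tt N5454 F53019) (tt N6081 F53020))
theorem Q6650 : ∀ i, i < 6650 → P i := stepQ 6649 Q6649 (allL N6649 (tt N5886 F53021) (tt N6454 F53022) (tt N5605 F53023) (tt N8060 (iv F67091)) (tt N8005 (iv F66772)) (tt N5451 (iv D11468)) (tt N6649 F53024) (tt N8062 D14688) (tt N6649 F53025) (tt N6082 F53026))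
theorem Q6651 : ∀ i, i < 6651 → P i := stepQ 6650 Q6650 (allL N6650 (tt N5887 F53027) (tt N6455 F53028) (tt N5606 F53029) (tt N8061 (iv F67097)) (tt N5452 F53030) (tt N8062 (iv F67104)) (tt N6087 F53031) (tt N5451 (iv D11469)) (tt N5455 F53032) (tt N6083 F53033))
theorem Q6652 : ∀ i, i < 6652 → P i := stepQ 6651 Q6651 (allL N6651 (tt N5889 F53039) (tt N6143 F132848) (tt N5454 F53040) (tt N5612 F53041) (tt N8051 (iv F67043)) (tt N6651 F53042) (tt N5453 (iv D11471)) (tt N8063 D14691) (tt N8059 (iv F67087)) (tt N5476 F53043))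
theorem Q6653 : ∀ i, i < 6653 → P i := stepQ 6652 Q6652 (allL N6652 (tt N5890 F53044) (tt N6504 F134008) (tt N8063 (iv F67119)) (tt N5455 F53046) (tt N8053 (iv F67054)) (tt N6652 F53047) (tt N6170 F53048) (tt N5454 (iv D11472)) (tt N8061 (iv F67099)) (tt N5477 F53049))
theorem Q6654 : ∀ i, i < 6654 → P i := stepQ 6653 Q6653 (allL N6653 (tt N5459 F53058) (tt N5891 F53059) (tt N6467 F53060) (tt N8064 D14692) (tt N5456 (iv D11474)) (tt N6653 F53061) (tt N8065 D14693) (tt N6099 F53062) (tt N6101 F53063) (tt N8016 (iv F66858)))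
theorem Q6655 : ∀ i, i < 6655 → P i := stepQ 6654 Q6654 (allL N6654 (tt N5460 F53064) (tt N5892 F53065) (tt N6468 F53066) (tt N5621 F53067) (tt N8065 (iv F67133)) (tt N5458 F53068) (tt N5456 (iv D11475)) (tt N8066 D14694) (tt N6102 F53069) (tt N8017 (iv F66864)))
theorem Q6656 : ∀ i, i < 6656 → P i := stepQ 6655 Q6655 (allL N6655 (tt N5461 F53070) (tt N5893 F53071) (tt N6266 (iv F132371)) (tt N5457 (iv D11476)) (tt N5622 F53072) (tt N6655 F53073) (tt N8067 D14696) (tt N6655 F53074) (tt N6655 F53075) (tt N8018 (iv F66870)))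
theorem Q6657 : ∀ i, i < 6657 → P i := stepQ 6656 Q6656 (allL N6656 (tt N5462 F53076) (tt N5894 F53077) (tt N7962 (iv F66504)) (tt N8067 (iv F67149)) (tt N5458 F53078) (tt N8068 D14697) (tt N5457 (iv D11477)) (tt N8069 D14698) (tt N6656 F53079) (tt N8019 (iv F66874)))
theorem Q6658 : ∀ i, i < 6658 → P i := stepQ 6657 Q6657 (allL N6657 (tt N5463 F53080) (tt N5895 F53081) (tt N7963 (iv F66509)) (tt N5624 F53082) (tt N8069 (iv F67157)) (tt N8066 (iv F67139)) (tt N6657 F53083) (tt N5458 (iv D11478)) (tt N6657 F53084) (tt N8020 (iv F66879)))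
theorem Q6659 : ∀ i, i < 6659 → P i := stepQ 6658 Q6658 (allL N6658 (tt N8064 (iv F67124)) (tt N5464 F53085) (tt N8070 D14699) (tt N5459 (iv D11479)) (tt N5630 F53086) (tt N6658 F53087) (tt N8071 D14700) (tt N6110 F53088) (tt N6113 F53089) (tt N8023 (iv F66896)))
theorem Q6660 : ∀ i, i < 6660 → P i := stepQ 6659 Q6659 (allL N6659 (tt N8065 (iv F67130)) (tt N5465 F53090) (tt N6478 F53091) (tt N8071 (iv F67166)) (tt N5460 F53092) (tt N8072 D14701) (tt N5459 (iv D11480)) (tt N8073 D14702) (tt N6114 F53093) (tt N8024 (iv F66900)))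
theorem Q6661 : ∀ i, i < 6661 → P i := stepQ 6660 Q6660 (allL N6660 (tt N8066 (iv F67135)) (tt N5466 F53094) (tt N6479 F53095) (tt N5632 F53096) (tt N8073 (iv F67175)) (tt N5463 F53097) (tt N6112 F53098) (tt N5460 (iv D11481)) (tt N6115 F53099) (tt N8025 (iv F66906)))
theorem Q6662 : ∀ i, i < 6662 → P i := stepQ 6661 Q6661 (allL N6661 (tt N6266 (iv F132370)) (tt N6661 F53100) (tt N5461 (iv D11482)) (tt N7964 (iv F66515)) (tt N5633 F53101) (tt N6661 F53102) (tt N8074 D14703) (tt N6661 F53103) (tt N6661 F53104) (tt N8026 (iv F66911)))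
theorem Q6663 : ∀ i, i < 6663 → P i := stepQ 6662 Q6662 (allL N6662 (tt N8067 (iv F67147)) (tt N5467 F53105) (tt N8074 (iv F67179)) (tt N5462 F53106) (tt N5634 F53107) (tt N8075 D14704) (tt N5461 (iv D11483)) (tt N8076 D14705) (tt N6662 F53108) (tt N8027 (iv F66915)))
theorem Q6664 : ∀ i, i < 6664 → P i := stepQ 6663 Q6663 (allL N6663 (tt N8068 (iv F67152)) (tt N5468 F53109) (tt N7966 (iv F66525)) (tt N8075 (iv F67183)) (tt N8072 (iv F67171)) (tt N5462 (iv D11484)) (tt N6663 F53110) (tt N8077 D14706) (tt N8078 D14707) (tt N8028 (iv F66918)))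
theorem Q6665 : ∀ i, i < 6665 → P i := stepQ 6664 Q6664 (allL N6664 (tt N8069 (iv F67155)) (tt N5469 F53111) (tt N7967 (iv F66529)) (tt N8076 (iv F67186)) (tt N5463 F53112) (tt N8077 (iv F67191)) (tt N6664 F53113) (tt N5462 (iv D11485)) (tt N6664 F53114) (tt N8029 (iv F66922)))
theorem Q6666 : ∀ i, i < 6666 → P i := stepQ 6665 Q6665 (allL N6665 (tt N5902 F53115) (tt N6253 F132825) (tt N5464 (iv D11486)) (tt N5470 F53116) (tt N5645 F53117) (tt N6665 F53118) (tt N8079 D14709) (tt N6125 F53119) (tt N6129 F53120) (tt N8036 (iv F66964)))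
theorem Q6667 : ∀ i, i < 6667 → P i := stepQ 6666 Q6666 (allL N6666 (tt N5903 F53121) (tt N8071 (iv F67165)) (tt N8079 (iv F67201)) (tt N5465 F53122) (tt N5646 F53123) (tt N8080 D14710) (tt N5464 (iv D11487)) (tt N8081 D14711) (tt N6130 F53124) (tt N8037 (iv F66968)))
theorem Q6668 : ∀ i, i < 6668 → P i := stepQ 6667 Q6667 (allL N6667 (tt N5904 F53125) (tt N8072 (iv F67169)) (tt N5472 F53126) (tt N8080 (iv F67206)) (tt N5468 F53127) (tt N5465 (iv D11488)) (tt N6667 F53128) (tt N8082 D14712) (tt N8083 D14713) (tt N8038 (iv F66973)))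
theorem Q6669 : ∀ i, i < 6669 → P i := stepQ 6668 Q6668 (allL N6668 (tt N5905 F53129) (tt N8073 (iv F67173)) (tt N5473 F53130) (tt N8081 (iv F67209)) (tt N5466 F53131) (tt N8082 (iv F67216)) (tt N6128 F53132) (tt N5465 (iv D11489)) (tt N6132 F53133) (tt N8039 (iv F66978)))
theorem Q6670 : ∀ i, i < 6670 → P i := stepQ 6669 Q6669 (allL N6669 (tt N5906 F53134) (tt N8075 (iv F67182)) (tt N6669 F53135) (tt N5468 F53136) (tt N8084 D14714) (tt N5467 (iv D11490)) (tt N6669 F53137) (tt N8085 D14715) (tt N8086 D14716) (tt N8040 (iv F66983)))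
theorem Q6671 : ∀ i, i < 6671 → P i := stepQ 6670 Q6670 (allL N6670 (tt N5907 F53138) (tt N8076 (iv F67185)) (tt N6670 F53139) (tt N5469 F53140) (tt N5650 F53141) (tt N8085 (iv F67229)) (tt N6670 F53142) (tt N5467 (iv D11491)) (tt N6670 F53143) (tt N8041 (iv F66989)))
theorem Q6672 : ∀ i, i < 6672 → P i := stepQ 6671 Q6671 (allL N6671 (tt N5908 F53144) (tt N8077 (iv F67190)) (tt N5474 F53145) (tt N8085 (iv F67228)) (tt N8082 (iv F67215)) (tt N5469 F53146) (tt N8087 D14717) (tt N5468 (iv D11492)) (tt N8088 D14718) (tt N8042 (iv F66993)))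
theorem Q6673 : ∀ i, i < 6673 → P i := stepQ 6672 Q6672 (allL N6672 (tt N5909 F53147) (tt N8078 (iv F67192)) (tt N5475 F53148) (tt N8086 (iv F67232)) (tt N8083 (iv F67219)) (tt N6672 F53149) (tt N6672 F53150) (tt N8088 (iv F67242)) (tt N5468 (iv D11493)) (tt N8089 D14719))
theorem Q6674 : ∀ i, i < 6674 → P i := stepQ 6673 Q6673 (allL N6673 (tt N5911 F53156) (tt N6138 F132810) (tt N5471 F53157) (tt N8079 (iv F67202)) (tt N5476 F53158) (tt N8090 D14722) (tt N5470 (iv D11495)) (tt N8091 D14723) (tt N6118 F132811) (tt N8051 (iv F67044)))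
theorem Q6675 : ∀ i, i < 6675 → P i := stepQ 6674 Q6674 (allL N6674 (tt N5912 F53160) (tt N6499 F133971) (tt N8090 (iv F67258)) (tt N5472 F53162) (tt N6674 F53163) (tt N5471 (iv D11496)) (tt N6674 F53164) (tt N8092 D14724) (tt N6482 F133972) (tt N8052 (iv F67050)))
theorem Q6676 : ∀ i, i < 6676 → P i := stepQ 6675 Q6675 (allL N6675 (tt N5913 F53165) (tt N6502 F133977) (tt N8091 (iv F67262)) (tt N5473 F53167) (tt N5477 F53168) (tt N8092 (iv F67270)) (tt N6151 F53169) (tt N5471 (iv D11497)) (tt N6154 F53170) (tt N8053 (iv F67056)))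
theorem Q6677 : ∀ i, i < 6677 → P i := stepQ 6676 Q6676 (allL N6676 (tt N5914 F53171) (tt N6507 F53172) (tt N8082 (iv F67214)) (tt N8092 (iv F67268)) (tt N5474 F53173) (tt N5473 F53174) (tt N8093 D14726) (tt N5472 (iv D11498)) (tt N8094 D14727) (tt N8054 (iv F67061)))
theorem Q6678 : ∀ i, i < 6678 → P i := stepQ 6677 Q6677 (allL N6677 (tt N5915 F53175) (tt N6496 F133965) (tt N8083 (iv F67218)) (tt N6482 F133966) (tt N5475 F53177) (tt N6156 F53178) (tt N6677 F53179) (tt N8094 (iv F67286)) (tt N5472 (iv D11499)) (tt N8095 D14728))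
theorem Q6679 : ∀ i, i < 6679 → P i := stepQ 6678 Q6678 (allL N6678 (tt N5916 F53180) (tt N7972 (iv F66553)) (tt N8087 (iv F67236)) (tt N6678 F53181) (tt N8093 (iv F67279)) (tt N6678 F53182) (tt N5474 (iv D11500)) (tt N6678 F53183) (tt N8096 D14729) (tt N8056 (iv F67070)))
theorem Q6680 : ∀ i, i < 6680 → P i := stepQ 6679 Q6679 (allL N6679 (tt N5917 F53184) (tt N7973 (iv F66559)) (tt N8088 (iv F67240)) (tt N6679 F53185) (tt N8094 (iv F67284)) (tt N6679 F53186) (tt N8096 (iv F67294)) (tt N5475 F53187) (tt N5474 (iv D11501)) (tt N8097 D14730))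
theorem Q6681 : ∀ i, i < 6681 → P i := stepQ 6680 Q6680 (allL N6680 (tt N5918 F53188) (tt N7974 (iv F66565)) (tt N8089 (iv F67244)) (tt N6680 F53189) (tt N8095 (iv F67289)) (tt N6680 F53190) (tt N6680 F53191) (tt N8097 (iv F67299)) (tt N8058 (iv F67077)) (tt N5475 (iv D11502)))
theorem Q6682 : ∀ i, i < 6682 → P i := stepQ 6681 Q6681 (allL N6681 (tt N5920 F53203) (tt N6142 F132846) (tt N5477 F53204) (tt N5687 F53205) (tt N8091 (iv F67263)) (tt N6681 F53206) (tt N6174 F53207) (tt N5476 (iv D11505)) (tt N6121 F132847) (tt N8063 (iv F67123)))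
theorem Q6683 : ∀ i, i < 6683 → P i := stepQ 6682 Q6682 (allL N6682 (tt N5482 F53209) (tt N5921 F53210) (tt N6682 F53211) (tt N5557 F53212) (tt N6019 F53213) (tt N8098 D14733) (tt N5539 F53214) (tt N5556 F53215) (tt N5478 (iv D11506)) (tt N5863 F53216))
theorem Q6684 : ∀ i, i < 6684 → P i := stepQ 6683 Q6683 (allL N6683 (tt N5483 F53217) (tt N5922 F53218) (tt N6683 F53219) (tt N5714 F53220) (tt N8099 D14734) (tt N5479 (iv D11507)) (tt N8100 D14735) (tt N5713 F53221) (tt N8098 (iv F67317)) (tt N6683 F53222))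
theorem Q6685 : ∀ i, i < 6685 → P i := stepQ 6684 Q6684 (allL N6684 (tt N5484 F53223) (tt N5923 F53224) (tt N6684 F53225) (tt N8101 D14736) (tt N5480 (iv D11508)) (tt N6684 F53226) (tt N8102 D14737) (tt N6684 F53227) (tt N5542 F53228) (tt N6684 F53229))
theorem Q6686 : ∀ i, i < 6686 → P i := stepQ 6685 Q6685 (allL N6685 (tt N5485 F53230) (tt N5924 F53231) (tt N6685 F53232) (tt N7979 (iv F66623)) (tt N8102 (iv F67340)) (tt N8100 (iv F67329)) (tt N5480 (iv D11509)) (tt N8103 D14738) (tt N5543 F53233) (tt N6685 F53234))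
theorem Q6687 : ∀ i, i < 6687 → P i := stepQ 6686 Q6686 (allL N6686 (tt N6019 F53235) (tt N5489 F53236) (tt N6686 F53237) (tt N5558 F53238) (tt N5482 F53239) (tt N8104 D14739) (tt N5545 F53240) (tt N5863 F53241) (tt N5481 (iv D11510)) (tt N5556 F53242))
theorem Q6688 : ∀ i, i < 6688 → P i := stepQ 6687 Q6687 (allL N6687 (tt N8098 (iv F67312)) (tt N5494 F53243) (tt N6687 F53244) (tt N6021 F53245) (tt N8105 D14740) (tt N5482 (iv D11511)) (tt N8106 D14741) (tt N6020 F53246) (tt N5483 F53247) (tt N8030 (iv F66929)))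
theorem Q6689 : ∀ i, i < 6689 → P i := stepQ 6688 Q6688 (allL N6688 (tt N8099 (iv F67319)) (tt N5496 F53248) (tt N6688 F53249) (tt N8107 D14742) (tt N5483 (iv D11512)) (tt N6688 F53250) (tt N8108 D14743) (tt N6192 F53251) (tt N8105 (iv F67359)) (tt N6688 F53252))
theorem Q6690 : ∀ i, i < 6690 → P i := stepQ 6689 Q6689 (allL N6689 (tt N8100 (iv F67325)) (tt N5497 F53253) (tt N6689 F53254) (tt N6195 F53255) (tt N8108 (iv F67372)) (tt N5485 F53256) (tt N5483 (iv D11513)) (tt N8109 D14744) (tt N8106 (iv F67364)) (tt N6689 F53257))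
theorem Q6691 : ∀ i, i < 6691 → P i := stepQ 6690 Q6690 (allL N6690 (tt N8101 (iv F67331)) (tt N5498 F53258) (tt N8110 D14745) (tt N5484 (iv D11514)) (tt N7980 (iv F66628)) (tt N6690 F53259) (tt N8111 D14746) (tt N6690 F53260) (tt N5553 F53261) (tt N6690 F53262))
theorem Q6692 : ∀ i, i < 6692 → P i := stepQ 6691 Q6691 (allL N6691 (tt N8102 (iv F67337)) (tt N5499 F53263) (tt N6691 F53264) (tt N8111 (iv F67387)) (tt N5485 F53265) (tt N8112 D14747) (tt N5484 (iv D11515)) (tt N8113 D14748) (tt N5554 F53266) (tt N6691 F53267))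
theorem Q6693 : ∀ i, i < 6693 → P i := stepQ 6692 Q6692 (allL N6692 (tt N8103 (iv F67343)) (tt N5500 F53268) (tt N6692 F53269) (tt N7982 (iv F66640)) (tt N8113 (iv F67396)) (tt N8109 (iv F67377)) (tt N6692 F53270) (tt N5485 (iv D11516)) (tt N5555 F53271) (tt N6692 F53272))
theorem Q6694 : ∀ i, i < 6694 → P i := stepQ 6693 Q6693 (allL N6693 (tt N5935 F53273) (tt N5558 F53274) (tt N6693 F53275) (tt N5489 F53276) (tt N5548 F53277) (tt N8114 D14749) (tt N5556 F53278) (tt N5856 F53279) (tt N5486 (iv D11517)) (tt N5545 F53280))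
theorem Q6695 : ∀ i, i < 6695 → P i := stepQ 6694 Q6694 (allL N6694 (tt N5927 F53281) (tt N5863 F53282) (tt N5501 F53283) (tt N5856 F53284) (tt N5492 F53285) (tt N8115 D14750) (tt N5998 F53286) (tt N5489 F53287) (tt N5487 (iv D11518)) (tt N5921 F53288))
theorem Q6696 : ∀ i, i < 6696 → P i := stepQ 6695 Q6695 (allL N6695 (tt N5926 F53289) (tt N5556 F53290) (tt N5502 F53291) (tt N5545 F53292) (tt N5493 F53293) (tt N8116 D14751) (tt N5558 F53294) (tt N5921 F53295) (tt N5488 (iv D11519)) (tt N5489 F53296))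
theorem Q6697 : ∀ i, i < 6697 → P i := stepQ 6696 Q6696 (allL N6696 (tt N5936 F53297) (tt N8104 (iv F67350)) (tt N5503 F53298) (tt N8114 (iv F67403)) (tt N8117 D14752) (tt N5489 (iv D11520)) (tt N8118 D14753) (tt N8115 (iv F67411)) (tt N6696 F53299) (tt N8116 (iv F67420)))
theorem Q6698 : ∀ i, i < 6698 → P i := stepQ 6697 Q6697 (allL N6697 (tt N5937 F53300) (tt N5935 F53301) (tt N5504 F53302) (tt N5925 F53303) (tt N5998 F53304) (tt N8119 D14754) (tt N5492 F53305) (tt N5560 F53306) (tt N5490 (iv D11521)) (tt N5819 F53307))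
theorem Q6699 : ∀ i, i < 6699 → P i := stepQ 6698 Q6698 (allL N6698 (tt N5925 F53308) (tt N6019 F53309) (tt N5505 F53310) (tt N5937 F53311) (tt N5921 F53312) (tt N8120 D14755) (tt N5819 F53313) (tt N5493 F53314) (tt N5491 (iv D11522)) (tt N5492 F53315))
theorem Q6700 : ∀ i, i < 6700 → P i := stepQ 6699 Q6699 (allL N6699 (tt N5938 F53316) (tt N6020 F53317) (tt N5506 F53318) (tt N6006 F53319) (tt N8121 D14756) (tt N5492 (iv D11523)) (tt N8122 D14757) (tt N5494 F53320) (tt N5495 F53321) (tt N8120 (iv F67442)))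
theorem Q6701 : ∀ i, i < 6701 → P i := stepQ 6700 Q6700 (allL N6700 (tt N5939 F53322) (tt N8030 (iv F66924)) (tt N5507 F53323) (tt N6025 F53324) (tt N8123 D14758) (tt N5493 (iv D11524)) (tt N8124 D14759) (tt N8120 (iv F67440)) (tt N6700 F53325) (tt N5494 F53326))
theorem Q6702 : ∀ i, i < 6702 → P i := stepQ 6701 Q6701 (allL N6701 (tt N5940 F53327) (tt N8105 (iv F67356)) (tt N5508 F53328) (tt N8125 D14760) (tt N5494 (iv D11525)) (tt N8117 (iv F67423)) (tt N8126 D14761) (tt N8121 (iv F67446)) (tt N5496 F53329) (tt N8123 (iv F67456)))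
theorem Q6703 : ∀ i, i < 6703 → P i := stepQ 6702 Q6702 (allL N6702 (tt N5941 F53330) (tt N8106 (iv F67360)) (tt N5509 F53331) (tt N7984 (iv F66655)) (tt N8126 (iv F67467)) (tt N5564 F53332) (tt N5494 (iv D11526)) (tt N8127 D14762) (tt N5497 F53333) (tt N8124 (iv F67462)))
theorem Q6704 : ∀ i, i < 6704 → P i := stepQ 6703 Q6703 (allL N6703 (tt N5942 F53334) (tt N6192 F53335) (tt N5510 F53336) (tt N8128 D14763) (tt N5495 (iv D11527)) (tt N6703 F53337) (tt N8129 D14764) (tt N5496 F53338) (tt N8121 (iv F67447)) (tt N6703 F53339))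
theorem Q6705 : ∀ i, i < 6705 → P i := stepQ 6704 Q6704 (allL N6704 (tt N5943 F53340) (tt N6193 F53341) (tt N5511 F53342) (tt N6183 F53343) (tt N8129 (iv F67482)) (tt N6704 F53344) (tt N5495 (iv D11528)) (tt N8130 D14765) (tt N8122 (iv F67452)) (tt N6704 F53345))
theorem Q6706 : ∀ i, i < 6706 → P i := stepQ 6705 Q6705 (allL N6705 (tt N5944 F53346) (tt N8107 (iv F67365)) (tt N8131 D14766) (tt N5496 (iv D11529)) (tt N7985 (iv F66661)) (tt N6705 F53347) (tt N8132 D14767) (tt N8128 (iv F67477)) (tt N8125 (iv F67464)) (tt N6705 F53348))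
theorem Q6707 : ∀ i, i < 6707 → P i := stepQ 6706 Q6706 (allL N6706 (tt N5945 F53349) (tt N8108 (iv F67370)) (tt N5513 F53350) (tt N8132 (iv F67496)) (tt N5497 F53351) (tt N8133 D14768) (tt N5496 (iv D11530)) (tt N8134 D14769) (tt N8126 (iv F67468)) (tt N6706 F53352))
theorem Q6708 : ∀ i, i < 6708 → P i := stepQ 6707 Q6707 (allL N6707 (tt N5946 F53353) (tt N8109 (iv F67374)) (tt N5514 F53354) (tt N7987 (iv F66673)) (tt N8134 (iv F67505)) (tt N5500 F53355) (tt N8130 (iv F67489)) (tt N5497 (iv D11531)) (tt N8127 (iv F67472)) (tt N6707 F53356))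
theorem Q6709 : ∀ i, i < 6709 → P i := stepQ 6708 Q6708 (allL N6708 (tt N5947 F53357) (tt N8111 (iv F67386)) (tt N6708 F53358) (tt N5499 F53359) (tt N7988 (iv F66680)) (tt N8135 D14770) (tt N5498 (iv D11532)) (tt N8136 D14771) (tt N5570 F53360) (tt N6708 F53361))
theorem Q6710 : ∀ i, i < 6710 → P i := stepQ 6709 Q6709 (allL N6709 (tt N5948 F53362) (tt N8112 (iv F67390)) (tt N5515 F53363) (tt N8135 (iv F67509)) (tt N8133 (iv F67500)) (tt N5499 (iv D11533)) (tt N6709 F53364) (tt N8137 D14772) (tt N8138 D14773) (tt N6709 F53365))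
theorem Q6711 : ∀ i, i < 6711 → P i := stepQ 6710 Q6710 (allL N6710 (tt N5949 F53366) (tt N8113 (iv F67394)) (tt N5516 F53367) (tt N8136 (iv F67514)) (tt N5500 F53368) (tt N8137 (iv F67520)) (tt N6710 F53369) (tt N5499 (iv D11534)) (tt N5572 F53370) (tt N6710 F53371))
theorem Q6712 : ∀ i, i < 6712 → P i := stepQ 6711 Q6711 (allL N6711 (tt N5950 F53372) (tt N6711 F53373) (tt N8115 (iv F67409)) (tt N6711 F53374) (tt N8139 D14774) (tt N5501 (iv D11535)) (tt N8140 D14775) (tt N5503 F53375) (tt N6711 F53376) (tt N6268 F53377))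
theorem Q6713 : ∀ i, i < 6713 → P i := stepQ 6712 Q6712 (allL N6712 (tt N5951 F53378) (tt N6712 F53379) (tt N8116 (iv F67416)) (tt N6712 F53380) (tt N8141 D14776) (tt N5502 (iv D11536)) (tt N8142 D14777) (tt N6268 F53381) (tt N6269 F53382) (tt N5503 F53383))
theorem Q6714 : ∀ i, i < 6714 → P i := stepQ 6713 Q6713 (allL N6713 (tt N5952 F53384) (tt N6713 F53385) (tt N8117 (iv F67422)) (tt N8143 D14778) (tt N5503 (iv D11537)) (tt N5508 F53386) (tt N8144 D14779) (tt N8139 (iv F67529)) (tt N6713 F53387) (tt N8141 (iv F67543)))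
theorem Q6715 : ∀ i, i < 6715 → P i := stepQ 6714 Q6714 (allL N6714 (tt N5953 F53388) (tt N6714 F53389) (tt N8118 (iv F67426)) (tt N6714 F53390) (tt N8144 (iv F67557)) (tt N5577 F53391) (tt N5503 (iv D11538)) (tt N8145 D14780) (tt N6714 F53392) (tt N8142 (iv F67549)))
theorem Q6716 : ∀ i, i < 6716 → P i := stepQ 6715 Q6715 (allL N6715 (tt N5954 F53393) (tt N6715 F53394) (tt N8119 (iv F67431)) (tt N5517 F53395) (tt N8146 D14781) (tt N5504 (iv D11539)) (tt N8147 D14782) (tt N5578 F53396) (tt N6715 F53397) (tt N5828 F53398))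
theorem Q6717 : ∀ i, i < 6717 → P i := stepQ 6716 Q6716 (allL N6716 (tt N5955 F53399) (tt N6716 F53400) (tt N8120 (iv F67438)) (tt N5518 F53401) (tt N8148 D14783) (tt N5505 (iv D11540)) (tt N8149 D14784) (tt N5507 F53402) (tt N6716 F53403) (tt N5506 F53404))
theorem Q6718 : ∀ i, i < 6718 → P i := stepQ 6717 Q6717 (allL N6717 (tt N5956 F53405) (tt N6717 F53406) (tt N8121 (iv F67445)) (tt N8150 D14785) (tt N5506 (iv D11541)) (tt N8139 (iv F67528)) (tt N8151 D14786) (tt N5508 F53407) (tt N5510 F53408) (tt N8148 (iv F67581)))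
theorem Q6719 : ∀ i, i < 6719 → P i := stepQ 6718 Q6718 (allL N6718 (tt N5957 F53409) (tt N6718 F53410) (tt N8122 (iv F67450)) (tt N5520 F53411) (tt N8151 (iv F67595)) (tt N8147 (iv F67573)) (tt N5506 (iv D11542)) (tt N8152 D14787) (tt N5511 F53412) (tt N8149 (iv F67587)))
theorem Q6720 : ∀ i, i < 6720 → P i := stepQ 6719 Q6719 (allL N6719 (tt N5958 F53413) (tt N6719 F53414) (tt N8123 (iv F67454)) (tt N8153 D14788) (tt N5507 (iv D11543)) (tt N8141 (iv F67540)) (tt N8154 D14789) (tt N8148 (iv F67579)) (tt N6719 F53415) (tt N5508 F53416))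
theorem Q6721 : ∀ i, i < 6721 → P i := stepQ 6720 Q6720 (allL N6720 (tt N5959 F53417) (tt N6720 F53418) (tt N8124 (iv F67458)) (tt N5522 F53419) (tt N8154 (iv F67609)) (tt N5582 F53420) (tt N5507 (iv D11544)) (tt N8155 D14790) (tt N6720 F53421) (tt N5509 F53422))
theorem Q6722 : ∀ i, i < 6722 → P i := stepQ 6721 Q6721 (allL N6721 (tt N5960 F53423) (tt N6721 F53424) (tt N8156 D14791) (tt N5508 (iv D11545)) (tt N5523 F53425) (tt N8143 (iv F67553)) (tt N8157 D14792) (tt N8150 (iv F67591)) (tt N5512 F53426) (tt N8153 (iv F67606)))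
theorem Q6723 : ∀ i, i < 6723 → P i := stepQ 6722 Q6722 (allL N6722 (tt N5961 F53427) (tt N6722 F53428) (tt N8126 (iv F67466)) (tt N8157 (iv F67623)) (tt N5509 F53429) (tt N8158 D14793) (tt N5508 (iv D11546)) (tt N8159 D14794) (tt N5513 F53430) (tt N8154 (iv F67611)))
theorem Q6724 : ∀ i, i < 6724 → P i := stepQ 6723 Q6723 (allL N6723 (tt N5962 F53431) (tt N6723 F53432) (tt N8127 (iv F67470)) (tt N5525 F53433) (tt N8159 (iv F67631)) (tt N5585 F53434) (tt N8152 (iv F67600)) (tt N5509 (iv D11547)) (tt N5514 F53435) (tt N8155 (iv F67617)))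
theorem Q6725 : ∀ i, i < 6725 → P i := stepQ 6724 Q6724 (allL N6724 (tt N5963 F53436) (tt N6724 F53437) (tt N8160 D14795) (tt N5510 (iv D11548)) (tt N5526 F53438) (tt N6724 F53439) (tt N8161 D14796) (tt N5512 F53440) (tt N8150 (iv F67592)) (tt N6724 F53441))
theorem Q6726 : ∀ i, i < 6726 → P i := stepQ 6725 Q6725 (allL N6725 (tt N5964 F53442) (tt N6725 F53443) (tt N8129 (iv F67481)) (tt N8161 (iv F67640)) (tt N5511 F53444) (tt N8162 D14797) (tt N5510 (iv D11549)) (tt N8163 D14798) (tt N8151 (iv F67596)) (tt N6725 F53445))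
theorem Q6727 : ∀ i, i < 6727 → P i := stepQ 6726 Q6726 (allL N6726 (tt N5965 F53446) (tt N6726 F53447) (tt N8130 (iv F67486)) (tt N5528 F53448) (tt N8163 (iv F67650)) (tt N6726 F53449) (tt N5514 F53450) (tt N5511 (iv D11550)) (tt N8152 (iv F67601)) (tt N6726 F53451))
theorem Q6728 : ∀ i, i < 6728 → P i := stepQ 6727 Q6727 (allL N6727 (tt N5966 F53452) (tt N8164 D14799) (tt N5512 (iv D11551)) (tt N8131 (iv F67492)) (tt N5529 F53453) (tt N6727 F53454) (tt N8165 D14800) (tt N8160 (iv F67636)) (tt N8156 (iv F67620)) (tt N6727 F53455))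
theorem Q6729 : ∀ i, i < 6729 → P i := stepQ 6728 Q6728 (allL N6728 (tt N5967 F53456) (tt N6728 F53457) (tt N8165 (iv F67658)) (tt N5513 F53458) (tt N5530 F53459) (tt N8166 D14801) (tt N5512 (iv D11552)) (tt N8167 D14802) (tt N8157 (iv F67625)) (tt N6728 F53460))
theorem Q6730 : ∀ i, i < 6730 → P i := stepQ 6729 Q6729 (allL N6729 (tt N5968 F53461) (tt N6729 F53462) (tt N8133 (iv F67499)) (tt N8166 (iv F67663)) (tt N5515 F53463) (tt N5513 (iv D11553)) (tt N6729 F53464) (tt N8168 D14803) (tt N8169 D14804) (tt N6729 F53465))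
theorem Q6731 : ∀ i, i < 6731 → P i := stepQ 6730 Q6730 (allL N6730 (tt N5969 F53466) (tt N6730 F53467) (tt N8134 (iv F67504)) (tt N8167 (iv F67669)) (tt N5514 F53468) (tt N8168 (iv F67675)) (tt N8163 (iv F67651)) (tt N5513 (iv D11554)) (tt N8159 (iv F67632)) (tt N6730 F53469))
theorem Q6732 : ∀ i, i < 6732 → P i := stepQ 6731 Q6731 (allL N6731 (tt N5970 F53470) (tt N6731 F53471) (tt N8137 (iv F67519)) (tt N6731 F53472) (tt N8168 (iv F67674)) (tt N5516 F53473) (tt N8170 D14805) (tt N5515 (iv D11555)) (tt N8171 D14806) (tt N6731 F53474))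
theorem Q6733 : ∀ i, i < 6733 → P i := stepQ 6732 Q6732 (allL N6732 (tt N5971 F53475) (tt N6732 F53476) (tt N8138 (iv F67523)) (tt N6732 F53477) (tt N8169 (iv F67679)) (tt N5594 F53478) (tt N6732 F53479) (tt N8171 (iv F67691)) (tt N5515 (iv D11556)) (tt N8172 D14807))
theorem Q6734 : ∀ i, i < 6734 → P i := stepQ 6733 Q6733 (allL N6733 (tt N5972 F53480) (tt N6733 F53481) (tt N5974 F53482) (tt N8173 D14808) (tt N5517 (iv D11557)) (tt N6733 F53483) (tt N8174 D14809) (tt N5595 F53484) (tt N6733 F53485) (tt N5838 F53486))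
theorem Q6735 : ∀ i, i < 6735 → P i := stepQ 6734 Q6734 (allL N6734 (tt N5973 F53487) (tt N6734 F53488) (tt N5975 F53489) (tt N8147 (iv F67572)) (tt N8174 (iv F67707)) (tt N5520 F53490) (tt N5517 (iv D11558)) (tt N8175 D14810) (tt N6734 F53491) (tt N5839 F53492))
theorem Q6736 : ∀ i, i < 6736 → P i := stepQ 6735 Q6735 (allL N6735 (tt N5974 F53493) (tt N6735 F53494) (tt N5972 F53495) (tt N8176 D14811) (tt N5518 (iv D11559)) (tt N6735 F53496) (tt N8177 D14812) (tt N5521 F53497) (tt N6735 F53498) (tt N5519 F53499))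
theorem Q6737 : ∀ i, i < 6737 → P i := stepQ 6736 Q6736 (allL N6736 (tt N5975 F53500) (tt N6736 F53501) (tt N5973 F53502) (tt N8149 (iv F67584)) (tt N8177 (iv F67726)) (tt N5839 F53503) (tt N5518 (iv D11560)) (tt N8178 D14813) (tt N6736 F53504) (tt N5520 F53505))
theorem Q6738 : ∀ i, i < 6738 → P i := stepQ 6737 Q6737 (allL N6737 (tt N5976 F53506) (tt N6737 F53507) (tt N8179 D14814) (tt N5519 (iv D11561)) (tt N8150 (iv F67590)) (tt N6737 F53508) (tt N8180 D14815) (tt N5523 F53509) (tt N5526 F53510) (tt N8176 (iv F67722)))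
theorem Q6739 : ∀ i, i < 6739 → P i := stepQ 6738 Q6738 (allL N6738 (tt N5977 F53511) (tt N6738 F53512) (tt N8001 (iv F66747)) (tt N8180 (iv F67742)) (tt N5520 F53513) (tt N8181 D14816) (tt N5519 (iv D11562)) (tt N8182 D14817) (tt N5527 F53514) (tt N8177 (iv F67728)))
theorem Q6740 : ∀ i, i < 6740 → P i := stepQ 6739 Q6739 (allL N6739 (tt N5978 F53515) (tt N6739 F53516) (tt N8002 (iv F66753)) (tt N8152 (iv F67599)) (tt N8182 (iv F67749)) (tt N8175 (iv F67713)) (tt N5525 F53517) (tt N5520 (iv D11563)) (tt N5528 F53518) (tt N8178 (iv F67735)))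
theorem Q6741 : ∀ i, i < 6741 → P i := stepQ 6740 Q6740 (allL N6740 (tt N5979 F53519) (tt N6740 F53520) (tt N8183 D14818) (tt N5521 (iv D11564)) (tt N8153 (iv F67604)) (tt N6740 F53521) (tt N8184 D14819) (tt N8176 (iv F67720)) (tt N6740 F53522) (tt N5523 F53523))
theorem Q6742 : ∀ i, i < 6742 → P i := stepQ 6741 Q6741 (allL N6741 (tt N5980 F53524) (tt N6741 F53525) (tt N6078 F53526) (tt N8184 (iv F67759)) (tt N5522 F53527) (tt N8185 D14820) (tt N5521 (iv D11565)) (tt N8186 D14821) (tt N6741 F53528) (tt N5524 F53529))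
theorem Q6743 : ∀ i, i < 6743 → P i := stepQ 6742 Q6742 (allL N6742 (tt N5981 F53530) (tt N6742 F53531) (tt N6079 F53532) (tt N8155 (iv F67614)) (tt N8186 (iv F67771)) (tt N5602 F53533) (tt N8178 (iv F67733)) (tt N5522 (iv D11566)) (tt N6742 F53534) (tt N5525 F53535))
theorem Q6744 : ∀ i, i < 6744 → P i := stepQ 6743 Q6743 (allL N6743 (tt N5982 F53536) (tt N8187 D14822) (tt N5523 (iv D11567)) (tt N8003 (iv F66760)) (tt N8156 (iv F67619)) (tt N6743 F53537) (tt N8188 D14823) (tt N8179 (iv F67738)) (tt N5529 F53538) (tt N8183 (iv F67756)))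
theorem Q6745 : ∀ i, i < 6745 → P i := stepQ 6744 Q6744 (allL N6744 (tt N5983 F53539) (tt N6744 F53540) (tt N8188 (iv F67778)) (tt N5524 F53541) (tt N8157 (iv F67624)) (tt N8189 D14824) (tt N5523 (iv D11568)) (tt N8190 D14825) (tt N5530 F53542) (tt N8184 (iv F67761)))
theorem Q6746 : ∀ i, i < 6746 → P i := stepQ 6745 Q6745 (allL N6745 (tt N5984 F53543) (tt N6745 F53544) (tt N8005 (iv F66771)) (tt N8189 (iv F67782)) (tt N5605 F53545) (tt N5524 (iv D11569)) (tt N6745 F53546) (tt N8191 D14826) (tt N6745 F53547) (tt N8185 (iv F67767)))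
theorem Q6747 : ∀ i, i < 6747 → P i := stepQ 6746 Q6746 (allL N6746 (tt N5985 F53548) (tt N6746 F53549) (tt N8006 (iv F66778)) (tt N8190 (iv F67787)) (tt N5525 F53550) (tt N8191 (iv F67792)) (tt N8182 (iv F67750)) (tt N5524 (iv D11570)) (tt N5531 F53551) (tt N8186 (iv F67773)))
theorem Q6748 : ∀ i, i < 6748 → P i := stepQ 6747 Q6747 (allL N6747 (tt N5986 F53552) (tt N8192 D14827) (tt N5526 (iv D11571)) (tt N8007 (iv F66783)) (tt N8160 (iv F67634)) (tt N5532 F53553) (tt N8193 D14828) (tt N5529 F53554) (tt N8179 (iv F67739)) (tt N6747 F53555))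
theorem Q6749 : ∀ i, i < 6749 → P i := stepQ 6748 Q6748 (allL N6748 (tt N5987 F53556) (tt N6748 F53557) (tt N8193 (iv F67799)) (tt N5527 F53558) (tt N8161 (iv F67641)) (tt N8194 D14829) (tt N5526 (iv D11572)) (tt N8195 D14830) (tt N8180 (iv F67743)) (tt N6748 F53559))
theorem Q6750 : ∀ i, i < 6750 → P i := stepQ 6749 Q6749 (allL N6749 (tt N5988 F53560) (tt N6749 F53561) (tt N8009 (iv F66795)) (tt N8194 (iv F67803)) (tt N6749 F53562) (tt N5527 (iv D11573)) (tt N5534 F53563) (tt N8196 D14831) (tt N8197 D14832) (tt N6749 F53564))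
theorem Q6751 : ∀ i, i < 6751 → P i := stepQ 6750 Q6750 (allL N6750 (tt N5989 F53565) (tt N6750 F53566) (tt N8010 (iv F66801)) (tt N8195 (iv F67808)) (tt N5528 F53567) (tt N8196 (iv F67814)) (tt N5531 F53568) (tt N5527 (iv D11574)) (tt N8182 (iv F67751)) (tt N6750 F53569))
theorem Q6752 : ∀ i, i < 6752 → P i := stepQ 6751 Q6751 (allL N6751 (tt N8198 D14833) (tt N5529 (iv D11575)) (tt N6751 F53570) (tt N8011 (iv F66805)) (tt N8164 (iv F67654)) (tt N5535 F53571) (tt N8199 D14834) (tt N8192 (iv F67796)) (tt N8187 (iv F67776)) (tt N6751 F53572))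
theorem Q6753 : ∀ i, i < 6753 → P i := stepQ 6752 Q6752 (allL N6752 (tt N5991 F53573) (tt N8199 (iv F67825)) (tt N5530 F53574) (tt N8012 (iv F66810)) (tt N8165 (iv F67659)) (tt N6752 F53575) (tt N5529 (iv D11576)) (tt N8200 D14835) (tt N8188 (iv F67779)) (tt N6752 F53576))
theorem Q6754 : ∀ i, i < 6754 → P i := stepQ 6753 Q6753 (allL N6753 (tt N5992 F53577) (tt N6753 F53578) (tt N8200 (iv F67830)) (tt N5531 F53579) (tt N8167 (iv F67670)) (tt N6753 F53580) (tt N8195 (iv F67809)) (tt N5530 (iv D11577)) (tt N8190 (iv F67788)) (tt N6753 F53581))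
theorem Q6755 : ∀ i, i < 6755 → P i := stepQ 6754 Q6754 (allL N6754 (tt N8201 D14836) (tt N5532 (iv D11578)) (tt N6754 F53582) (tt N7976 F134286) (tt N6754 F53583) (tt N8192 (iv F67795)) (tt N7975 (iv F134433)) (tt N5535 F53584) (tt N6754 F53585) (tt N6754 F53586))
theorem Q6756 : ∀ i, i < 6756 → P i := stepQ 6755 Q6755 (allL N6755 (tt N5994 F53587) (tt N7975 (iv F134432)) (tt N5533 F53588) (tt N6199 (iv F134435)) (tt N6755 F53589) (tt N7980 F133736) (tt N5532 (iv D11579)) (tt N6755 F53590) (tt N6755 F53591) (tt N6755 F53592))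
theorem Q6757 : ∀ i, i < 6757 → P i := stepQ 6756 Q6756 (allL N6756 (tt N5995 F53593) (tt N6756 F53594) (tt N7980 (iv F132984)) (tt N5534 F53595) (tt N8110 F132969) (tt N5533 (iv D11580)) (tt N8194 (iv F67804)) (tt N6756 F53596) (tt N8026 F132970) (tt N6756 F53597))
theorem Q6758 : ∀ i, i < 6758 → P i := stepQ 6757 Q6757 (allL N6757 (tt N5996 F53598) (tt N6757 F53599) (tt N7953 (iv F133690)) (tt N8026 F132966) (tt N6757 F53600) (tt N6757 F53601) (tt N8197 (iv F67820)) (tt N6757 F53602) (tt N5534 (iv D11581)) (tt N7964 F132967))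
theorem Q6759 : ∀ i, i < 6759 → P i := stepQ 6758 Q6758 (allL N6758 (tt N5535 (iv D11582)) (tt N5997 F53603) (tt N6758 F53604) (tt N8014 (iv F66842)) (tt N6758 F53605) (tt N8198 (iv F67823)) (tt N6758 F53606) (tt N8201 (iv F67836)) (tt N6758 F53607) (tt N6758 F53608))
theorem Q6760 : ∀ i, i < 6760 → P i := stepQ 6759 Q6759 (allL N6759 (tt N5545 F53609) (tt N5819 F53610) (tt N6759 F53611) (tt N5926 F53612) (tt N5539 F53613) (tt N8202 D14842) (tt N6019 F53614) (tt N5814 F53615) (tt N5536 (iv D11583)) (tt N5935 F53616))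
theorem Q6761 : ∀ i, i < 6761 → P i := stepQ 6760 Q6760 (allL N6760 (tt N5547 F53617) (tt N5818 F53618) (tt N6760 F53619) (tt N5998 F53620) (tt N5814 F53621) (tt N8203 D14843) (tt N5856 F53622) (tt N5539 F53623) (tt N5537 (iv D11584)) (tt N5852 F53624))
theorem Q6762 : ∀ i, i < 6762 → P i := stepQ 6761 Q6761 (allL N6761 (tt N5548 F53625) (tt N5998 F53626) (tt N6761 F53627) (tt N5818 F53628) (tt N5935 F53629) (tt N8204 D14844) (tt N5863 F53630) (tt N5852 F53631) (tt N5538 (iv D11585)) (tt N5539 F53632))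
theorem Q6763 : ∀ i, i < 6763 → P i := stepQ 6762 Q6762 (allL N6762 (tt N5549 F53633) (tt N5999 F53634) (tt N6762 F53635) (tt N8015 (iv F66849)) (tt N8205 D14845) (tt N5539 (iv D11586)) (tt N8206 D14846) (tt N8203 (iv F67881)) (tt N5541 F53636) (tt N8204 (iv F67890)))
theorem Q6764 : ∀ i, i < 6764 → P i := stepQ 6763 Q6763 (allL N6763 (tt N5550 F53637) (tt N6000 F53638) (tt N6763 F53639) (tt N6098 F53640) (tt N8207 D14847) (tt N5540 (iv D11587)) (tt N8208 D14848) (tt N5541 F53641) (tt N8203 (iv F67882)) (tt N5619 F53642))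
theorem Q6765 : ∀ i, i < 6765 → P i := stepQ 6764 Q6764 (allL N6764 (tt N5551 F53643) (tt N6001 F53644) (tt N6764 F53645) (tt N8209 D14849) (tt N5541 (iv D11588)) (tt N5695 F53646) (tt N8210 D14850) (tt N8207 (iv F67903)) (tt N8205 (iv F67894)) (tt N5620 F53647))
theorem Q6766 : ∀ i, i < 6766 → P i := stepQ 6765 Q6765 (allL N6765 (tt N5552 F53648) (tt N6002 F53649) (tt N6765 F53650) (tt N8017 (iv F66862)) (tt N8210 (iv F67918)) (tt N5543 F53651) (tt N5541 (iv D11589)) (tt N8211 D14851) (tt N8206 (iv F67898)) (tt N5621 F53652))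
theorem Q6767 : ∀ i, i < 6767 → P i := stepQ 6766 Q6766 (allL N6766 (tt N5553 F53653) (tt N6003 F53654) (tt N6267 (iv F132373)) (tt N5542 (iv D11590)) (tt N8018 (iv F66867)) (tt N5697 F53655) (tt N8212 D14853) (tt N6766 F53656) (tt N8101 (iv F67335)) (tt N5622 F53657))
theorem Q6768 : ∀ i, i < 6768 → P i := stepQ 6767 Q6767 (allL N6767 (tt N5554 F53658) (tt N6004 F53659) (tt N6767 F53660) (tt N8212 (iv F67932)) (tt N5543 F53661) (tt N8213 D14854) (tt N5542 (iv D11591)) (tt N8214 D14855) (tt N8102 (iv F67341)) (tt N5623 F53662))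
theorem Q6769 : ∀ i, i < 6769 → P i := stepQ 6768 Q6768 (allL N6768 (tt N5555 F53663) (tt N6005 F53664) (tt N6768 F53665) (tt N8020 (iv F66877)) (tt N8214 (iv F67942)) (tt N8211 (iv F67923)) (tt N6768 F53666) (tt N5543 (iv D11592)) (tt N8103 (iv F67347)) (tt N5624 F53667))
theorem Q6770 : ∀ i, i < 6770 → P i := stepQ 6769 Q6769 (allL N6769 (tt N5814 F53668) (tt N5557 F53669) (tt N6769 F53670) (tt N5921 F53671) (tt N5547 F53672) (tt N8215 D14856) (tt N5852 F53673) (tt N5545 F53674) (tt N5544 (iv D11593)) (tt N5856 F53675))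
theorem Q6771 : ∀ i, i < 6771 → P i := stepQ 6770 Q6770 (allL N6770 (tt N8202 (iv F67870)) (tt N5559 F53676) (tt N6770 F53677) (tt N8116 (iv F67417)) (tt N8216 D14857) (tt N5545 (iv D11594)) (tt N8217 D14858) (tt N8215 (iv F67949)) (tt N5700 F53678) (tt N8114 (iv F67406)))
theorem Q6772 : ∀ i, i < 6772 → P i := stepQ 6771 Q6771 (allL N6771 (tt N5856 F53679) (tt N5560 F53680) (tt N6771 F53681) (tt N5927 F53682) (tt N5852 F53683) (tt N8218 D14859) (tt N5547 F53684) (tt N5935 F53685) (tt N5546 (iv D11595)) (tt N5814 F53686))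
theorem Q6773 : ∀ i, i < 6773 → P i := stepQ 6772 Q6772 (allL N6772 (tt N8203 (iv F67877)) (tt N5561 F53687) (tt N6772 F53688) (tt N6008 F53689) (tt N8219 D14860) (tt N5547 (iv D11596)) (tt N8220 D14861) (tt N5549 F53690) (tt N5550 F53691) (tt N5857 F53692))
theorem Q6774 : ∀ i, i < 6774 → P i := stepQ 6773 Q6773 (allL N6773 (tt N8204 (iv F67884)) (tt N5562 F53693) (tt N6773 F53694) (tt N6007 F53695) (tt N8221 D14862) (tt N5548 (iv D11597)) (tt N8222 D14863) (tt N5857 F53696) (tt N5625 F53697) (tt N5549 F53698))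
theorem Q6775 : ∀ i, i < 6775 → P i := stepQ 6774 Q6774 (allL N6774 (tt N8205 (iv F67891)) (tt N5563 F53699) (tt N6774 F53700) (tt N8223 D14864) (tt N5549 (iv D11598)) (tt N8216 (iv F67954)) (tt N8224 D14865) (tt N8219 (iv F67968)) (tt N5551 F53701) (tt N8221 (iv F67980)))
theorem Q6776 : ∀ i, i < 6776 → P i := stepQ 6775 Q6775 (allL N6775 (tt N8206 (iv F67895)) (tt N5564 F53702) (tt N6775 F53703) (tt N8022 (iv F66888)) (tt N8224 (iv F67990)) (tt N8106 (iv F67363)) (tt N5549 (iv D11599)) (tt N8225 D14866) (tt N5552 F53704) (tt N8222 (iv F67985)))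
theorem Q6777 : ∀ i, i < 6777 → P i := stepQ 6776 Q6776 (allL N6776 (tt N8207 (iv F67899)) (tt N5565 F53705) (tt N6776 F53706) (tt N8226 D14867) (tt N5550 (iv D11600)) (tt N5705 F53707) (tt N8227 D14868) (tt N5551 F53708) (tt N8219 (iv F67969)) (tt N5628 F53709))
theorem Q6778 : ∀ i, i < 6778 → P i := stepQ 6777 Q6777 (allL N6777 (tt N8208 (iv F67905)) (tt N5566 F53710) (tt N6777 F53711) (tt N6109 F53712) (tt N8227 (iv F68002)) (tt N6777 F53713) (tt N5550 (iv D11601)) (tt N8228 D14869) (tt N8220 (iv F67974)) (tt N5629 F53714))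
theorem Q6779 : ∀ i, i < 6779 → P i := stepQ 6778 Q6778 (allL N6778 (tt N8209 (iv F67911)) (tt N5567 F53715) (tt N8229 D14870) (tt N5551 (iv D11602)) (tt N8023 (iv F66893)) (tt N5707 F53716) (tt N8230 D14871) (tt N8226 (iv F67998)) (tt N8223 (iv F67987)) (tt N5630 F53717))
theorem Q6780 : ∀ i, i < 6780 → P i := stepQ 6779 Q6779 (allL N6779 (tt N8210 (iv F67915)) (tt N5568 F53718) (tt N6779 F53719) (tt N8230 (iv F68014)) (tt N5552 F53720) (tt N8231 D14872) (tt N5551 (iv D11603)) (tt N8232 D14873) (tt N8224 (iv F67991)) (tt N5631 F53721))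
theorem Q6781 : ∀ i, i < 6781 → P i := stepQ 6780 Q6780 (allL N6780 (tt N8211 (iv F67920)) (tt N5569 F53722) (tt N6780 F53723) (tt N8025 (iv F66903)) (tt N8232 (iv F68023)) (tt N5555 F53724) (tt N8228 (iv F68008)) (tt N5552 (iv D11604)) (tt N8225 (iv F67994)) (tt N5632 F53725))
theorem Q6782 : ∀ i, i < 6782 → P i := stepQ 6781 Q6781 (allL N6781 (tt N6267 (iv F132372)) (tt N6781 F53726) (tt N5553 (iv D11605)) (tt N6781 F53727) (tt N8026 (iv F66908)) (tt N5710 F53728) (tt N8233 D14874) (tt N6781 F53729) (tt N8110 (iv F67384)) (tt N5633 F53730))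
theorem Q6783 : ∀ i, i < 6783 → P i := stepQ 6782 Q6782 (allL N6782 (tt N8212 (iv F67930)) (tt N5570 F53731) (tt N8233 (iv F68026)) (tt N5554 F53732) (tt N8027 (iv F66914)) (tt N8234 D14875) (tt N5553 (iv D11606)) (tt N8235 D14876) (tt N8111 (iv F67388)) (tt N5634 F53733))
theorem Q6784 : ∀ i, i < 6784 → P i := stepQ 6783 Q6783 (allL N6783 (tt N8213 (iv F67934)) (tt N5571 F53734) (tt N6783 F53735) (tt N8234 (iv F68030)) (tt N8231 (iv F68018)) (tt N5554 (iv D11607)) (tt N5712 F53736) (tt N8236 D14877) (tt N8237 D14878) (tt N5635 F53737))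
theorem Q6785 : ∀ i, i < 6785 → P i := stepQ 6784 Q6784 (allL N6784 (tt N8214 (iv F67939)) (tt N5572 F53738) (tt N6784 F53739) (tt N8235 (iv F68034)) (tt N5555 F53740) (tt N8236 (iv F68039)) (tt N6784 F53741) (tt N5554 (iv D11608)) (tt N8113 (iv F67398)) (tt N5636 F53742))
theorem Q6786 : ∀ i, i < 6786 → P i := stepQ 6785 Q6785 (allL N6785 (tt N6020 F53743) (tt N8116 (iv F67415)) (tt N6785 F53744) (tt N5559 F53745) (tt N8238 D14879) (tt N5556 (iv D11609)) (tt N8239 D14880) (tt N8098 (iv F67316)) (tt N5713 F53746) (tt N8104 (iv F67355)))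
theorem Q6787 : ∀ i, i < 6787 → P i := stepQ 6786 Q6786 (allL N6786 (tt N6021 F53747) (tt N8215 (iv F67946)) (tt N5574 F53748) (tt N8098 (iv F67315)) (tt N8240 D14881) (tt N5557 (iv D11610)) (tt N8241 D14882) (tt N5559 F53749) (tt N5714 F53750) (tt N5864 F53751))
theorem Q6788 : ∀ i, i < 6788 → P i := stepQ 6787 Q6787 (allL N6787 (tt N6022 F53752) (tt N8114 (iv F67401)) (tt N5575 F53753) (tt N8104 (iv F67352)) (tt N8242 D14883) (tt N5558 (iv D11611)) (tt N8243 D14884) (tt N5864 F53754) (tt N6787 F53755) (tt N5559 F53756))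
theorem Q6789 : ∀ i, i < 6789 → P i := stepQ 6788 Q6788 (allL N6788 (tt N6023 F53757) (tt N8216 (iv F67952)) (tt N5576 F53758) (tt N8244 D14885) (tt N5559 (iv D11612)) (tt N5563 F53759) (tt N8245 D14886) (tt N8240 (iv F68054)) (tt N5715 F53760) (tt N8242 (iv F68066)))
theorem Q6790 : ∀ i, i < 6790 → P i := stepQ 6789 Q6789 (allL N6789 (tt N6024 F53761) (tt N8217 (iv F67956)) (tt N5577 F53762) (tt N8239 (iv F68049)) (tt N8245 (iv F68076)) (tt N8118 (iv F67427)) (tt N5559 (iv D11613)) (tt N8246 D14887) (tt N5716 F53763) (tt N8243 (iv F68070)))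
theorem Q6791 : ∀ i, i < 6791 → P i := stepQ 6790 Q6790 (allL N6790 (tt N6025 F53764) (tt N8218 (iv F67960)) (tt N5578 F53765) (tt N5939 F53766) (tt N8247 D14888) (tt N5560 (iv D11614)) (tt N8248 D14889) (tt N8119 (iv F67433)) (tt N6790 F53767) (tt N5820 F53768))
theorem Q6792 : ∀ i, i < 6792 → P i := stepQ 6791 Q6791 (allL N6791 (tt N6026 F53769) (tt N8219 (iv F67966)) (tt N5579 F53770) (tt N8249 D14890) (tt N5561 (iv D11615)) (tt N8240 (iv F68053)) (tt N8250 D14891) (tt N5563 F53771) (tt N5565 F53772) (tt N5865 F53773))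
theorem Q6793 : ∀ i, i < 6793 → P i := stepQ 6792 Q6792 (allL N6792 (tt N6027 F53774) (tt N8220 (iv F67971)) (tt N5580 F53775) (tt N6029 F53776) (tt N8250 (iv F68098)) (tt N8248 (iv F68088)) (tt N5561 (iv D11616)) (tt N8251 D14892) (tt N5566 F53777) (tt N5866 F53778))
theorem Q6794 : ∀ i, i < 6794 → P i := stepQ 6793 Q6793 (allL N6793 (tt N6028 F53779) (tt N8221 (iv F67976)) (tt N5581 F53780) (tt N8252 D14893) (tt N5562 (iv D11617)) (tt N8242 (iv F68063)) (tt N8253 D14894) (tt N5865 F53781) (tt N5637 F53782) (tt N5563 F53783))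
theorem Q6795 : ∀ i, i < 6795 → P i := stepQ 6794 Q6794 (allL N6794 (tt N6029 F53784) (tt N8222 (iv F67981)) (tt N5582 F53785) (tt N6027 F53786) (tt N8253 (iv F68114)) (tt N8124 (iv F67460)) (tt N5562 (iv D11618)) (tt N8254 D14895) (tt N5638 F53787) (tt N5564 F53788))
theorem Q6796 : ∀ i, i < 6796 → P i := stepQ 6795 Q6795 (allL N6795 (tt N6030 F53789) (tt N8223 (iv F67986)) (tt N8255 D14896) (tt N5563 (iv D11619)) (tt N8033 (iv F66944)) (tt N8244 (iv F68072)) (tt N8256 D14897) (tt N8249 (iv F68093)) (tt N5567 F53790) (tt N8252 (iv F68111)))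
theorem Q6797 : ∀ i, i < 6797 → P i := stepQ 6796 Q6796 (allL N6796 (tt N6031 F53791) (tt N8224 (iv F67988)) (tt N5584 F53792) (tt N8256 (iv F68127)) (tt N5564 F53793) (tt N8257 D14898) (tt N5563 (iv D11620)) (tt N8258 D14899) (tt N5568 F53794) (tt N8253 (iv F68116)))
theorem Q6798 : ∀ i, i < 6798 → P i := stepQ 6797 Q6797 (allL N6797 (tt N6032 F53795) (tt N8225 (iv F67992)) (tt N5585 F53796) (tt N8035 (iv F66955)) (tt N8258 (iv F68133)) (tt N8127 (iv F67471)) (tt N8251 (iv F68104)) (tt N5564 (iv D11621)) (tt N5569 F53797) (tt N8254 (iv F68122)))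
theorem Q6799 : ∀ i, i < 6799 → P i := stepQ 6798 Q6798 (allL N6798 (tt N6033 F53798) (tt N8226 (iv F67995)) (tt N8259 D14900) (tt N5565 (iv D11622)) (tt N6122 F53799) (tt N5723 F53800) (tt N8260 D14901) (tt N5567 F53801) (tt N8249 (iv F68094)) (tt N5642 F53802))
theorem Q6800 : ∀ i, i < 6800 → P i := stepQ 6799 Q6799 (allL N6799 (tt N6034 F53803) (tt N8227 (iv F68000)) (tt N5587 F53804) (tt N8260 (iv F68142)) (tt N5566 F53805) (tt N8261 D14902) (tt N5565 (iv D11623)) (tt N8262 D14903) (tt N8250 (iv F68099)) (tt N5643 F53806))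
theorem Q6801 : ∀ i, i < 6801 → P i := stepQ 6800 Q6800 (allL N6800 (tt N6035 F53807) (tt N8228 (iv F68004)) (tt N5588 F53808) (tt N6124 F53809) (tt N8262 (iv F68152)) (tt N6800 F53810) (tt N5569 F53811) (tt N5566 (iv D11624)) (tt N8251 (iv F68105)) (tt N5644 F53812))
theorem Q6802 : ∀ i, i < 6802 → P i := stepQ 6801 Q6801 (allL N6801 (tt N6036 F53813) (tt N8263 D14904) (tt N5567 (iv D11625)) (tt N5589 F53814) (tt N8036 (iv F66961)) (tt N5726 F53815) (tt N8264 D14905) (tt N8259 (iv F68139)) (tt N8255 (iv F68125)) (tt N5645 F53816))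
theorem Q6803 : ∀ i, i < 6803 → P i := stepQ 6802 Q6802 (allL N6802 (tt N6037 F53817) (tt N8230 (iv F68013)) (tt N8264 (iv F68159)) (tt N5568 F53818) (tt N8037 (iv F66967)) (tt N8265 D14906) (tt N5567 (iv D11626)) (tt N8266 D14907) (tt N8256 (iv F68128)) (tt N5646 F53819))
theorem Q6804 : ∀ i, i < 6804 → P i := stepQ 6803 Q6803 (allL N6803 (tt N6038 F53820) (tt N8231 (iv F68016)) (tt N5591 F53821) (tt N8265 (iv F68163)) (tt N5571 F53822) (tt N5568 (iv D11627)) (tt N5728 F53823) (tt N8267 D14908) (tt N8268 D14909) (tt N5647 F53824))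
theorem Q6805 : ∀ i, i < 6805 → P i := stepQ 6804 Q6804 (allL N6804 (tt N6039 F53825) (tt N8232 (iv F68021)) (tt N5592 F53826) (tt N8266 (iv F68167)) (tt N5569 F53827) (tt N8267 (iv F68172)) (tt N8262 (iv F68153)) (tt N5568 (iv D11628)) (tt N8258 (iv F68134)) (tt N5648 F53828))
theorem Q6806 : ∀ i, i < 6806 → P i := stepQ 6805 Q6805 (allL N6805 (tt N6040 F53829) (tt N8234 (iv F68029)) (tt N6805 F53830) (tt N5571 F53831) (tt N8269 D14910) (tt N5570 (iv D11629)) (tt N5730 F53832) (tt N8270 D14911) (tt N8271 D14912) (tt N5649 F53833))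
theorem Q6807 : ∀ i, i < 6807 → P i := stepQ 6806 Q6806 (allL N6806 (tt N6041 F53834) (tt N8235 (iv F68033)) (tt N6806 F53835) (tt N5572 F53836) (tt N8041 (iv F66987)) (tt N8270 (iv F68185)) (tt N6806 F53837) (tt N5570 (iv D11630)) (tt N8136 (iv F67516)) (tt N5650 F53838))
theorem Q6808 : ∀ i, i < 6808 → P i := stepQ 6807 Q6807 (allL N6807 (tt N6042 F53839) (tt N8236 (iv F68037)) (tt N5593 F53840) (tt N8270 (iv F68184)) (tt N8267 (iv F68171)) (tt N5572 F53841) (tt N8272 D14913) (tt N5571 (iv D11631)) (tt N8273 D14914) (tt N5651 F53842))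
theorem Q6809 : ∀ i, i < 6809 → P i := stepQ 6808 Q6808 (allL N6808 (tt N6043 F53843) (tt N8237 (iv F68041)) (tt N5594 F53844) (tt N8271 (iv F68189)) (tt N8268 (iv F68176)) (tt N8138 (iv F67524)) (tt N5733 F53845) (tt N8273 (iv F68198)) (tt N5571 (iv D11632)) (tt N8274 D14915))
theorem Q6810 : ∀ i, i < 6810 → P i := stepQ 6809 Q6809 (allL N6809 (tt N6044 F53846) (tt N6809 F53847) (tt N8015 (iv F66848)) (tt N6809 F53848) (tt N8275 D14916) (tt N5573 (iv D11633)) (tt N8276 D14917) (tt N6367 F53849) (tt N6466 F53850) (tt N5827 F53851))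
theorem Q6811 : ∀ i, i < 6811 → P i := stepQ 6810 Q6810 (allL N6810 (tt N6045 F53852) (tt N6810 F53853) (tt N8240 (iv F68052)) (tt N8277 D14918) (tt N5574 (iv D11634)) (tt N5579 F53854) (tt N8278 D14919) (tt N5576 F53855) (tt N5735 F53856) (tt N5873 F53857))
theorem Q6812 : ∀ i, i < 6812 → P i := stepQ 6811 Q6811 (allL N6811 (tt N6046 F53858) (tt N6811 F53859) (tt N8241 (iv F68058)) (tt N6811 F53860) (tt N8278 (iv F68224)) (tt N8276 (iv F68212)) (tt N5574 (iv D11635)) (tt N8279 D14920) (tt N5736 F53861) (tt N5874 F53862))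
theorem Q6813 : ∀ i, i < 6813 → P i := stepQ 6812 Q6812 (allL N6812 (tt N6047 F53863) (tt N6812 F53864) (tt N8242 (iv F68062)) (tt N8280 D14921) (tt N5575 (iv D11636)) (tt N5581 F53865) (tt N8281 D14922) (tt N5873 F53866) (tt N6812 F53867) (tt N5576 F53868))
theorem Q6814 : ∀ i, i < 6814 → P i := stepQ 6813 Q6813 (allL N6813 (tt N6048 F53869) (tt N6813 F53870) (tt N8243 (iv F68068)) (tt N6813 F53871) (tt N8281 (iv F68242)) (tt N8142 (iv F67547)) (tt N5575 (iv D11637)) (tt N8282 D14923) (tt N6813 F53872) (tt N5577 F53873))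
theorem Q6815 : ∀ i, i < 6815 → P i := stepQ 6814 Q6814 (allL N6814 (tt N6049 F53874) (tt N6814 F53875) (tt N8283 D14924) (tt N5576 (iv D11638)) (tt N6814 F53876) (tt N5583 F53877) (tt N8284 D14925) (tt N8277 (iv F68219)) (tt N5737 F53878) (tt N8280 (iv F68239)))
theorem Q6816 : ∀ i, i < 6816 → P i := stepQ 6815 Q6815 (allL N6815 (tt N6050 F53879) (tt N6815 F53880) (tt N8245 (iv F68075)) (tt N8284 (iv F68257)) (tt N5577 F53881) (tt N8285 D14926) (tt N5576 (iv D11639)) (tt N8286 D14927) (tt N5738 F53882) (tt N8281 (iv F68244)))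
theorem Q6817 : ∀ i, i < 6817 → P i := stepQ 6816 Q6816 (allL N6816 (tt N6051 F53883) (tt N6816 F53884) (tt N8246 (iv F68079)) (tt N6816 F53885) (tt N8286 (iv F68265)) (tt N8145 (iv F67562)) (tt N8279 (iv F68230)) (tt N5577 (iv D11640)) (tt N5739 F53886) (tt N8282 (iv F68250)))
theorem Q6818 : ∀ i, i < 6818 → P i := stepQ 6817 Q6817 (allL N6817 (tt N6052 F53887) (tt N6817 F53888) (tt N8247 (iv F68082)) (tt N8287 D14928) (tt N5578 (iv D11641)) (tt N8275 (iv F68205)) (tt N8288 D14929) (tt N8146 (iv F67567)) (tt N6817 F53889) (tt N5829 F53890))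
theorem Q6819 : ∀ i, i < 6819 → P i := stepQ 6818 Q6818 (allL N6818 (tt N6053 F53891) (tt N6818 F53892) (tt N8248 (iv F68086)) (tt N5596 F53893) (tt N8288 (iv F68274)) (tt N5580 F53894) (tt N5578 (iv D11642)) (tt N8289 D14930) (tt N6818 F53895) (tt N5830 F53896))
theorem Q6820 : ∀ i, i < 6820 → P i := stepQ 6819 Q6819 (allL N6819 (tt N6054 F53897) (tt N6819 F53898) (tt N8290 D14931) (tt N5579 (iv D11643)) (tt N5597 F53899) (tt N8277 (iv F68218)) (tt N8291 D14932) (tt N5583 F53900) (tt N5586 F53901) (tt N5875 F53902))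
theorem Q6821 : ∀ i, i < 6821 → P i := stepQ 6820 Q6820 (allL N6820 (tt N6055 F53903) (tt N6820 F53904) (tt N8250 (iv F68097)) (tt N8291 (iv F68290)) (tt N5580 F53905) (tt N8292 D14933) (tt N5579 (iv D11644)) (tt N8293 D14934) (tt N5587 F53906) (tt N5876 F53907))
theorem Q6822 : ∀ i, i < 6822 → P i := stepQ 6821 Q6821 (allL N6821 (tt N6056 F53908) (tt N6821 F53909) (tt N8251 (iv F68102)) (tt N5599 F53910) (tt N8293 (iv F68299)) (tt N8289 (iv F68280)) (tt N5585 F53911) (tt N5580 (iv D11645)) (tt N5588 F53912) (tt N5877 F53913))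
theorem Q6823 : ∀ i, i < 6823 → P i := stepQ 6822 Q6822 (allL N6822 (tt N6057 F53914) (tt N6822 F53915) (tt N8294 D14935) (tt N5581 (iv D11646)) (tt N5600 F53916) (tt N8280 (iv F68236)) (tt N8295 D14936) (tt N5875 F53917) (tt N5653 F53918) (tt N5583 F53919))
theorem Q6824 : ∀ i, i < 6824 → P i := stepQ 6823 Q6823 (allL N6823 (tt N6058 F53920) (tt N6823 F53921) (tt N8253 (iv F68113)) (tt N8295 (iv F68310)) (tt N5582 F53922) (tt N8296 D14937) (tt N5581 (iv D11647)) (tt N8297 D14938) (tt N5654 F53923) (tt N5584 F53924))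
theorem Q6825 : ∀ i, i < 6825 → P i := stepQ 6824 Q6824 (allL N6824 (tt N6059 F53925) (tt N6824 F53926) (tt N8254 (iv F68118)) (tt N5602 F53927) (tt N8297 (iv F68319)) (tt N8155 (iv F67615)) (tt N5877 F53928) (tt N5582 (iv D11648)) (tt N5655 F53929) (tt N5585 F53930))
theorem Q6826 : ∀ i, i < 6826 → P i := stepQ 6825 Q6825 (allL N6825 (tt N6060 F53931) (tt N8298 D14939) (tt N5583 (iv D11649)) (tt N8255 (iv F68124)) (tt N5603 F53932) (tt N8283 (iv F68253)) (tt N8299 D14940) (tt N8290 (iv F68285)) (tt N5589 F53933) (tt N8294 (iv F68307)))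
theorem Q6827 : ∀ i, i < 6827 → P i := stepQ 6826 Q6826 (allL N6826 (tt N6061 F53934) (tt N6826 F53935) (tt N8299 (iv F68327)) (tt N5584 F53936) (tt N5604 F53937) (tt N8300 D14941) (tt N5583 (iv D11650)) (tt N8301 D14942) (tt N5590 F53938) (tt N8295 (iv F68313)))
theorem Q6828 : ∀ i, i < 6828 → P i := stepQ 6827 Q6827 (allL N6827 (tt N6062 F53939) (tt N6827 F53940) (tt N8257 (iv F68130)) (tt N8300 (iv F68332)) (tt N8158 (iv F67628)) (tt N5584 (iv D11651)) (tt N8285 (iv F68262)) (tt N8302 D14943) (tt N8303 D14944) (tt N8296 (iv F68316)))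
theorem Q6829 : ∀ i, i < 6829 → P i := stepQ 6828 Q6828 (allL N6828 (tt N6063 F53941) (tt N6828 F53942) (tt N8258 (iv F68132)) (tt N8301 (iv F68335)) (tt N5585 F53943) (tt N8302 (iv F68340)) (tt N8293 (iv F68300)) (tt N5584 (iv D11652)) (tt N5592 F53944) (tt N8297 (iv F68322)))
theorem Q6830 : ∀ i, i < 6830 → P i := stepQ 6829 Q6829 (allL N6829 (tt N6064 F53945) (tt N8304 D14945) (tt N5586 (iv D11653)) (tt N8259 (iv F68136)) (tt N5607 F53946) (tt N5749 F53947) (tt N8305 D14946) (tt N5589 F53948) (tt N8290 (iv F68286)) (tt N5660 F53949))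
theorem Q6831 : ∀ i, i < 6831 → P i := stepQ 6830 Q6830 (allL N6830 (tt N6065 F53950) (tt N6830 F53951) (tt N8305 (iv F68350)) (tt N5587 F53952) (tt N5608 F53953) (tt N6372 F133884) (tt N5586 (iv D11654)) (tt N8306 D14948) (tt N8291 (iv F68292)) (tt N5661 F53954))
theorem Q6832 : ∀ i, i < 6832 → P i := stepQ 6831 Q6831 (allL N6831 (tt N6066 F53955) (tt N6831 F53956) (tt N8261 (iv F68146)) (tt N6372 F133882) (tt N6831 F53957) (tt N5587 (iv D11655)) (tt N5750 F53958) (tt N8307 D14949) (tt N8308 D14950) (tt N5662 F53959))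
theorem Q6833 : ∀ i, i < 6833 → P i := stepQ 6832 Q6832 (allL N6832 (tt N6067 F53960) (tt N6832 F53961) (tt N8262 (iv F68151)) (tt N8306 (iv F68360)) (tt N5588 F53962) (tt N8307 (iv F68367)) (tt N5592 F53963) (tt N5587 (iv D11656)) (tt N8293 (iv F68301)) (tt N5663 F53964))
theorem Q6834 : ∀ i, i < 6834 → P i := stepQ 6833 Q6833 (allL N6833 (tt N8309 D14951) (tt N5589 (iv D11657)) (tt N6833 F53965) (tt N8263 (iv F68155)) (tt N5611 F53966) (tt N5752 F53967) (tt N8310 D14952) (tt N8304 (iv F68347)) (tt N8298 (iv F68325)) (tt N5664 F53968))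
theorem Q6835 : ∀ i, i < 6835 → P i := stepQ 6834 Q6834 (allL N6834 (tt N6069 F53969) (tt N8310 (iv F68378)) (tt N5590 F53970) (tt N8264 (iv F68160)) (tt N5612 F53971) (tt N8311 D14953) (tt N5589 (iv D11658)) (tt N8312 D14954) (tt N8299 (iv F68329)) (tt N5665 F53972))
theorem Q6836 : ∀ i, i < 6836 → P i := stepQ 6835 Q6835 (allL N6835 (tt N6070 F53973) (tt N6835 F53974) (tt N8311 (iv F68383)) (tt N5591 F53975) (tt N6835 F53976) (tt N5590 (iv D11659)) (tt N5754 F53977) (tt N8313 D14955) (tt N8314 D14956) (tt N5666 F53978))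
theorem Q6837 : ∀ i, i < 6837 → P i := stepQ 6836 Q6836 (allL N6836 (tt N6071 F53979) (tt N6836 F53980) (tt N8312 (iv F68388)) (tt N5592 F53981) (tt N5613 F53982) (tt N8313 (iv F68395)) (tt N8306 (iv F68362)) (tt N5590 (iv D11660)) (tt N8301 (iv F68337)) (tt N5667 F53983))
theorem Q6838 : ∀ i, i < 6838 → P i := stepQ 6837 Q6837 (allL N6837 (tt N6072 F53984) (tt N6837 F53985) (tt N8267 (iv F68170)) (tt N8313 (iv F68393)) (tt N5593 F53986) (tt N5592 F53987) (tt N8315 D14957) (tt N5591 (iv D11661)) (tt N8316 D14958) (tt N5668 F53988))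
theorem Q6839 : ∀ i, i < 6839 → P i := stepQ 6838 Q6838 (allL N6838 (tt N6073 F53989) (tt N6838 F53990) (tt N8268 (iv F68175)) (tt N8314 (iv F68399)) (tt N5594 F53991) (tt N8303 (iv F68343)) (tt N5757 F53992) (tt N8316 (iv F68410)) (tt N5591 (iv D11662)) (tt N8317 D14959))
theorem Q6840 : ∀ i, i < 6840 → P i := stepQ 6839 Q6839 (allL N6839 (tt N6074 F53993) (tt N6839 F53994) (tt N8272 (iv F68192)) (tt N6839 F53995) (tt N8315 (iv F68404)) (tt N6839 F53996) (tt N5593 (iv D11663)) (tt N5758 F53997) (tt N8318 D14960) (tt N5670 F53998))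
theorem Q6841 : ∀ i, i < 6841 → P i := stepQ 6840 Q6840 (allL N6840 (tt N6075 F53999) (tt N6840 F54000) (tt N8273 (iv F68197)) (tt N6840 F54001) (tt N8316 (iv F68409)) (tt N8171 (iv F67690)) (tt N8318 (iv F68419)) (tt N5594 F54002) (tt N5593 (iv D11664)) (tt N8319 D14961))
theorem Q6842 : ∀ i, i < 6842 → P i := stepQ 6841 Q6841 (allL N6841 (tt N6076 F54003) (tt N6841 F54004) (tt N8274 (iv F68200)) (tt N6841 F54005) (tt N8317 (iv F68413)) (tt N8172 (iv F67695)) (tt N5760 F54006) (tt N8319 (iv F68424)) (tt N5672 F54007) (tt N5594 (iv D11665)))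
theorem Q6843 : ∀ i, i < 6843 → P i := stepQ 6842 Q6842 (allL N6842 (tt N6077 F54008) (tt N6842 F54009) (tt N8320 D14962) (tt N5595 (iv D11666)) (tt N8287 (iv F68269)) (tt N6842 F54010) (tt N8321 D14963) (tt N8173 (iv F67701)) (tt N6842 F54011) (tt N5840 F54012))
theorem Q6844 : ∀ i, i < 6844 → P i := stepQ 6843 Q6843 (allL N6843 (tt N6078 F54013) (tt N6843 F54014) (tt N5980 F54015) (tt N8321 (iv F68433)) (tt N5596 F54016) (tt N8322 D14964) (tt N5595 (iv D11667)) (tt N8323 D14965) (tt N6843 F54017) (tt N5841 F54018))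
theorem Q6845 : ∀ i, i < 6845 → P i := stepQ 6844 Q6844 (allL N6844 (tt N6079 F54019) (tt N6844 F54020) (tt N5981 F54021) (tt N8289 (iv F68279)) (tt N8323 (iv F68445)) (tt N5599 F54022) (tt N8175 (iv F67714)) (tt N5596 (iv D11668)) (tt N6844 F54023) (tt N5842 F54024))
theorem Q6846 : ∀ i, i < 6846 → P i := stepQ 6845 Q6845 (allL N6845 (tt N6080 F54025) (tt N8324 D14966) (tt N5597 (iv D11669)) (tt N6084 F54026) (tt N8290 (iv F68284)) (tt N6845 F54027) (tt N8325 D14967) (tt N5603 F54028) (tt N5607 F54029) (tt N5884 F54030))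
theorem Q6847 : ∀ i, i < 6847 → P i := stepQ 6846 Q6846 (allL N6846 (tt N6081 F54031) (tt N6846 F54032) (tt N8325 (iv F68455)) (tt N5598 F54033) (tt N8291 (iv F68291)) (tt N8326 D14968) (tt N5597 (iv D11670)) (tt N8327 D14969) (tt N5608 F54034) (tt N5885 F54035))
theorem Q6848 : ∀ i, i < 6848 → P i := stepQ 6847 Q6847 (allL N6847 (tt N6082 F54036) (tt N6847 F54037) (tt N6086 F54038) (tt N8326 (iv F68461)) (tt N8322 (iv F68439)) (tt N5598 (iv D11671)) (tt N6847 F54039) (tt N8328 D14970) (tt N8329 D14971) (tt N5886 F54040))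
theorem Q6849 : ∀ i, i < 6849 → P i := stepQ 6848 Q6848 (allL N6848 (tt N6083 F54041) (tt N6848 F54042) (tt N6087 F54043) (tt N8327 (iv F68466)) (tt N5599 F54044) (tt N8328 (iv F68473)) (tt N5606 F54045) (tt N5598 (iv D11672)) (tt N5610 F54046) (tt N5887 F54047))
theorem Q6850 : ∀ i, i < 6850 → P i := stepQ 6849 Q6849 (allL N6849 (tt N6084 F54048) (tt N6215 F132765) (tt N5600 (iv D11673)) (tt N6080 F54049) (tt N8294 (iv F68304)) (tt N6849 F54050) (tt N8330 D14973) (tt N5884 F54051) (tt N5673 F54052) (tt N5603 F54053))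
theorem Q6851 : ∀ i, i < 6851 → P i := stepQ 6850 Q6850 (allL N6850 (tt N6085 F54054) (tt N6850 F54055) (tt N8330 (iv F68488)) (tt N5601 F54056) (tt N8295 (iv F68311)) (tt N8331 D14974) (tt N5600 (iv D11674)) (tt N8332 D14975) (tt N5674 F54057) (tt N5604 F54058))
theorem Q6852 : ∀ i, i < 6852 → P i := stepQ 6851 Q6851 (allL N6851 (tt N6086 F54059) (tt N6851 F54060) (tt N6082 F54061) (tt N8331 (iv F68494)) (tt N8185 (iv F67765)) (tt N5601 (iv D11675)) (tt N6851 F54062) (tt N8333 D14976) (tt N8334 D14977) (tt N5605 F54063))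
theorem Q6853 : ∀ i, i < 6853 → P i := stepQ 6852 Q6852 (allL N6852 (tt N6087 F54064) (tt N6852 F54065) (tt N6083 F54066) (tt N8332 (iv F68499)) (tt N5602 F54067) (tt N8333 (iv F68506)) (tt N5887 F54068) (tt N5601 (iv D11676)) (tt N5676 F54069) (tt N5606 F54070))
theorem Q6854 : ∀ i, i < 6854 → P i := stepQ 6853 Q6853 (allL N6853 (tt N8335 D14978) (tt N5603 (iv D11677)) (tt N6853 F54071) (tt N6216 F132893) (tt N8298 (iv F68324)) (tt N6853 F54072) (tt N8336 D14979) (tt N8324 (iv F68451)) (tt N5611 F54073) (tt N6215 F132894))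
theorem Q6855 : ∀ i, i < 6855 → P i := stepQ 6854 Q6854 (allL N6854 (tt N6089 F54074) (tt N8336 (iv F68518)) (tt N5604 F54075) (tt N8059 (iv F67086)) (tt N8299 (iv F68328)) (tt N8337 D14980) (tt N5603 (iv D11678)) (tt N8338 D14981) (tt N5612 F54076) (tt N8330 (iv F68491)))
theorem Q6856 : ∀ i, i < 6856 → P i := stepQ 6855 Q6855 (allL N6855 (tt N6090 F54077) (tt N6855 F54078) (tt N8337 (iv F68522)) (tt N5605 F54079) (tt N8339 D14982) (tt N5604 (iv D11679)) (tt N6855 F54080) (tt N8340 D14983) (tt N6855 F54081) (tt N8331 (iv F68496)))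
theorem Q6857 : ∀ i, i < 6857 → P i := stepQ 6856 Q6856 (allL N6856 (tt N6091 F54082) (tt N6856 F54083) (tt N8338 (iv F68526)) (tt N5606 F54084) (tt N8301 (iv F68336)) (tt N8340 (iv F68535)) (tt N8327 (iv F68467)) (tt N5604 (iv D11680)) (tt N5613 F54085) (tt N8332 (iv F68502)))
theorem Q6858 : ∀ i, i < 6858 → P i := stepQ 6857 Q6857 (allL N6857 (tt N6092 F54086) (tt N6857 F54087) (tt N8062 (iv F67103)) (tt N8340 (iv F68534)) (tt N8191 (iv F67791)) (tt N5606 F54088) (tt N8341 D14984) (tt N5605 (iv D11681)) (tt N6857 F54089) (tt N8333 (iv F68507)))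
theorem Q6859 : ∀ i, i < 6859 → P i := stepQ 6858 Q6858 (allL N6858 (tt N5712 (iv F132476)) (tt N5607 (iv D11682)) (tt N6858 F54090) (tt N6167 F54091) (tt N8304 (iv F68345)) (tt N5614 F54092) (tt N8213 (iv F132449)) (tt N5611 F54093) (tt N8324 (iv F68452)) (tt N5681 F54094))
theorem Q6860 : ∀ i, i < 6860 → P i := stepQ 6859 Q6859 (allL N6859 (tt N6017 F132768) (tt N8213 F132769) (tt N5608 F54096) (tt N6168 F54097) (tt N8305 (iv F68351)) (tt N6004 F132770) (tt N5607 (iv D11683)) (tt N8342 D14988) (tt N8325 (iv F68457)) (tt N5682 F54098))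
theorem Q6861 : ∀ i, i < 6861 → P i := stepQ 6860 Q6860 (allL N6860 (tt N6093 F54104) (tt N6860 F54105) (tt N8342 (iv F68557)) (tt N5610 F54106) (tt N8306 (iv F68361)) (tt N6374 F133957) (tt N5613 F54107) (tt N5608 (iv D11685)) (tt N8327 (iv F68468)) (tt N5683 F54108))
theorem Q6862 : ∀ i, i < 6862 → P i := stepQ 6861 Q6861 (allL N6861 (tt N6094 F54109) (tt N6861 F54110) (tt N6171 F54111) (tt N6374 F133992) (tt N6861 F54112) (tt N5610 F54113) (tt N6861 F54114) (tt N5609 (iv D11686)) (tt N8343 D14992) (tt N5684 F54115))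
theorem Q6863 : ∀ i, i < 6863 → P i := stepQ 6862 Q6862 (allL N6862 (tt N6095 F54116) (tt N6862 F54117) (tt N6172 F54118) (tt N6272 F133993) (tt N6862 F54119) (tt N8329 (iv F68478)) (tt N5615 F54120) (tt N8343 (iv F68582)) (tt N5609 (iv D11687)) (tt N6862 F54121))
theorem Q6864 : ∀ i, i < 6864 → P i := stepQ 6863 Q6863 (allL N6863 (tt N5611 (iv D11688)) (tt N5732 (iv F132230)) (tt N6863 F54123) (tt N5793 (iv F132369)) (tt N8309 (iv F68375)) (tt N5616 F54124) (tt N8344 D14993) (tt N5712 (iv F132477)) (tt N8335 (iv F68517)) (tt N5685 F54125))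
theorem Q6865 : ∀ i, i < 6865 → P i := stepQ 6864 Q6864 (allL N6864 (tt N8344 (iv F68584)) (tt N5612 F54126) (tt N6864 F54127) (tt N6143 F132918) (tt N8310 (iv F68380)) (tt N6864 F54128) (tt N5611 (iv D11689)) (tt N8345 D14994) (tt N8336 (iv F68520)) (tt N5686 F54129))
theorem Q6866 : ∀ i, i < 6866 → P i := stepQ 6865 Q6865 (allL N6865 (tt N6097 F54130) (tt N8345 (iv F68589)) (tt N5613 F54131) (tt N8063 (iv F67120)) (tt N8312 (iv F68389)) (tt N6865 F54132) (tt N8342 (iv F68559)) (tt N5612 (iv D11690)) (tt N8338 (iv F68527)) (tt N5687 F54133))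
theorem Q6867 : ∀ i, i < 6867 → P i := stepQ 6866 Q6866 (allL N6866 (tt N5625 F54165) (tt N6098 F54166) (tt N6866 F54167) (tt N6000 F54168) (tt N8346 D15000) (tt N5617 (iv D11696)) (tt N8347 D15001) (tt N5853 F54169) (tt N8204 (iv F67889)) (tt N5618 F54170))
theorem Q6868 : ∀ i, i < 6868 → P i := stepQ 6867 Q6867 (allL N6867 (tt N5626 F54171) (tt N6099 F54172) (tt N6867 F54173) (tt N8348 D15002) (tt N5618 (iv D11697)) (tt N6867 F54174) (tt N8349 D15003) (tt N5891 F54175) (tt N5620 F54176) (tt N8346 (iv F68628)))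
theorem Q6869 : ∀ i, i < 6869 → P i := stepQ 6868 Q6868 (allL N6868 (tt N5627 F54177) (tt N6100 F54178) (tt N6868 F54179) (tt N6102 F54180) (tt N8349 (iv F68644)) (tt N6868 F54181) (tt N5618 (iv D11698)) (tt N8350 D15004) (tt N5621 F54182) (tt N8347 (iv F68634)))
theorem Q6870 : ∀ i, i < 6870 → P i := stepQ 6869 Q6869 (allL N6869 (tt N5628 F54183) (tt N6101 F54184) (tt N6869 F54185) (tt N8351 D15005) (tt N5619 (iv D11699)) (tt N5768 F54186) (tt N8352 D15006) (tt N5620 F54187) (tt N5891 F54188) (tt N8207 (iv F67904)))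
theorem Q6871 : ∀ i, i < 6871 → P i := stepQ 6870 Q6870 (allL N6870 (tt N5629 F54189) (tt N6102 F54190) (tt N6870 F54191) (tt N6100 F54192) (tt N8352 (iv F68662)) (tt N6870 F54193) (tt N5619 (iv D11700)) (tt N8353 D15007) (tt N5892 F54194) (tt N8208 (iv F67910)))
theorem Q6872 : ∀ i, i < 6872 → P i := stepQ 6871 Q6871 (allL N6871 (tt N5630 F54195) (tt N6103 F54196) (tt N8354 D15008) (tt N5620 (iv D11701)) (tt N8064 (iv F67126)) (tt N5770 F54197) (tt N8355 D15009) (tt N8351 (iv F68657)) (tt N8348 (iv F68640)) (tt N8209 (iv F67914)))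
theorem Q6873 : ∀ i, i < 6873 → P i := stepQ 6872 Q6872 (allL N6872 (tt N5631 F54198) (tt N6104 F54199) (tt N6872 F54200) (tt N8355 (iv F68676)) (tt N5621 F54201) (tt N8356 D15010) (tt N5620 (iv D11702)) (tt N8357 D15011) (tt N8349 (iv F68645)) (tt N8210 (iv F67919)))
theorem Q6874 : ∀ i, i < 6874 → P i := stepQ 6873 Q6873 (allL N6873 (tt N5632 F54202) (tt N6105 F54203) (tt N6873 F54204) (tt N8066 (iv F67138)) (tt N8357 (iv F68685)) (tt N5624 F54205) (tt N8353 (iv F68669)) (tt N5621 (iv D11703)) (tt N8350 (iv F68652)) (tt N8211 (iv F67924)))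
theorem Q6875 : ∀ i, i < 6875 → P i := stepQ 6874 Q6874 (allL N6874 (tt N5634 F54211) (tt N6106 F54212) (tt N6264 (iv F132368)) (tt N5623 F54213) (tt N8067 (iv F67150)) (tt N6173 F132795) (tt N5622 (iv D11705)) (tt N8358 D15015) (tt N6874 F54214) (tt N8212 (iv F67933)))
theorem Q6876 : ∀ i, i < 6876 → P i := stepQ 6875 Q6875 (allL N6875 (tt N5635 F54215) (tt N5682 (iv F132247)) (tt N6875 F54217) (tt N6173 (iv F132280)) (tt N8356 (iv F68680)) (tt N5623 (iv D11706)) (tt N5681 F131927) (tt N8359 D15016) (tt N5919 (iv F132184)) (tt N8213 (iv F67938)))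
theorem Q6877 : ∀ i, i < 6877 → P i := stepQ 6876 Q6876 (allL N6876 (tt N5636 F54219) (tt N6107 F54220) (tt N6876 F54221) (tt N8358 (iv F68702)) (tt N5624 F54222) (tt N8359 (iv F68708)) (tt N6876 F54223) (tt N5623 (iv D11707)) (tt N6876 F54224) (tt N8214 (iv F67944)))
theorem Q6878 : ∀ i, i < 6878 → P i := stepQ 6877 Q6877 (allL N6877 (tt N8346 (iv F68623)) (tt N5637 F54225) (tt N6877 F54226) (tt N8360 D15018) (tt N5625 (iv D11708)) (tt N6877 F54227) (tt N8361 D15019) (tt N5858 F54228) (tt N8221 (iv F67979)) (tt N5626 F54229))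
theorem Q6879 : ∀ i, i < 6879 → P i := stepQ 6878 Q6878 (allL N6878 (tt N8347 (iv F68629)) (tt N5638 F54230) (tt N6878 F54231) (tt N6012 F54232) (tt N8361 (iv F68721)) (tt N6878 F54233) (tt N5625 (iv D11709)) (tt N8362 D15020) (tt N8222 (iv F67984)) (tt N5627 F54234))
theorem Q6880 : ∀ i, i < 6880 → P i := stepQ 6879 Q6879 (allL N6879 (tt N8348 (iv F68635)) (tt N5639 F54235) (tt N8363 D15021) (tt N5626 (iv D11710)) (tt N6113 F54236) (tt N6879 F54237) (tt N8364 D15022) (tt N5896 F54238) (tt N5630 F54239) (tt N8360 (iv F68718)))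
theorem Q6881 : ∀ i, i < 6881 → P i := stepQ 6880 Q6880 (allL N6880 (tt N8349 (iv F68641)) (tt N5640 F54240) (tt N6880 F54241) (tt N8364 (iv F68735)) (tt N5627 F54242) (tt N8365 D15023) (tt N5626 (iv D11711)) (tt N8366 D15024) (tt N5631 F54243) (tt N8361 (iv F68722)))
theorem Q6882 : ∀ i, i < 6882 → P i := stepQ 6881 Q6881 (allL N6881 (tt N8350 (iv F68646)) (tt N5641 F54244) (tt N6881 F54245) (tt N6115 F54246) (tt N8366 (iv F68744)) (tt N6881 F54247) (tt N5898 F54248) (tt N5627 (iv D11712)) (tt N5632 F54249) (tt N8362 (iv F68728)))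
theorem Q6883 : ∀ i, i < 6883 → P i := stepQ 6882 Q6882 (allL N6882 (tt N8351 (iv F68653)) (tt N5642 F54250) (tt N8367 D15025) (tt N5628 (iv D11713)) (tt N6110 F54251) (tt N5772 F54252) (tt N8368 D15026) (tt N5630 F54253) (tt N5896 F54254) (tt N8226 (iv F67999)))
theorem Q6884 : ∀ i, i < 6884 → P i := stepQ 6883 Q6883 (allL N6883 (tt N8352 (iv F68659)) (tt N5643 F54255) (tt N6883 F54256) (tt N8368 (iv F68753)) (tt N5629 F54257) (tt N8369 D15027) (tt N5628 (iv D11714)) (tt N8370 D15028) (tt N5897 F54258) (tt N8227 (iv F68003)))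
theorem Q6885 : ∀ i, i < 6885 → P i := stepQ 6884 Q6884 (allL N6884 (tt N8353 (iv F68664)) (tt N5644 F54259) (tt N6884 F54260) (tt N6112 F54261) (tt N8370 (iv F68762)) (tt N6884 F54262) (tt N5632 F54263) (tt N5629 (iv D11715)) (tt N5898 F54264) (tt N8228 (iv F68009)))
theorem Q6886 : ∀ i, i < 6886 → P i := stepQ 6885 Q6885 (allL N6885 (tt N8354 (iv F68671)) (tt N8371 D15029) (tt N5630 (iv D11716)) (tt N6885 F54265) (tt N8070 (iv F67161)) (tt N5775 F54266) (tt N8372 D15030) (tt N8367 (iv F68750)) (tt N8363 (iv F68733)) (tt N8229 (iv F68012)))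
theorem Q6887 : ∀ i, i < 6887 → P i := stepQ 6886 Q6886 (allL N6886 (tt N8355 (iv F68674)) (tt N5646 F54267) (tt N8372 (iv F68768)) (tt N5631 F54268) (tt N8071 (iv F67167)) (tt N8373 D15031) (tt N5630 (iv D11717)) (tt N8374 D15032) (tt N8364 (iv F68737)) (tt N8230 (iv F68015)))
theorem Q6888 : ∀ i, i < 6888 → P i := stepQ 6887 Q6887 (allL N6887 (tt N8356 (iv F68677)) (tt N5647 F54269) (tt N6887 F54270) (tt N8373 (iv F68771)) (tt N5635 F54271) (tt N5631 (iv D11718)) (tt N5777 F54272) (tt N8375 D15033) (tt N8376 D15034) (tt N8231 (iv F68020)))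
theorem Q6889 : ∀ i, i < 6889 → P i := stepQ 6888 Q6888 (allL N6888 (tt N8357 (iv F68682)) (tt N5648 F54273) (tt N6888 F54274) (tt N8374 (iv F68774)) (tt N5632 F54275) (tt N8375 (iv F68778)) (tt N8370 (iv F68763)) (tt N5631 (iv D11719)) (tt N8366 (iv F68746)) (tt N8232 (iv F68024)))
theorem Q6890 : ∀ i, i < 6890 → P i := stepQ 6889 Q6889 (allL N6889 (tt N6264 (iv F132367)) (tt N6889 F54276) (tt N5634 F54277) (tt N6889 F54278) (tt N8074 (iv F67180)) (tt N5804 (iv F132453)) (tt N5633 (iv D11720)) (tt N8377 D15036) (tt N6889 F54279) (tt N8233 (iv F68028)))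
theorem Q6891 : ∀ i, i < 6891 → P i := stepQ 6890 Q6890 (allL N6890 (tt N6173 (iv F132279)) (tt N5649 F54280) (tt N5804 F131962) (tt N5635 F54281) (tt N8378 D15037) (tt N5634 (iv D11721)) (tt N5779 F54282) (tt N8379 D15038) (tt N5792 F131963) (tt N8234 (iv F68032)))
theorem Q6892 : ∀ i, i < 6892 → P i := stepQ 6891 Q6891 (allL N6891 (tt N8358 (iv F68700)) (tt N5650 F54283) (tt N8377 (iv F68788)) (tt N5636 F54284) (tt N8076 (iv F67187)) (tt N8379 (iv F68796)) (tt N6891 F54285) (tt N5634 (iv D11722)) (tt N6891 F54286) (tt N8235 (iv F68036)))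
theorem Q6893 : ∀ i, i < 6893 → P i := stepQ 6892 Q6892 (allL N6892 (tt N8359 (iv F68705)) (tt N5651 F54287) (tt N6892 F54288) (tt N8379 (iv F68795)) (tt N8375 (iv F68777)) (tt N5636 F54289) (tt N8380 D15040) (tt N5635 (iv D11723)) (tt N8381 D15041) (tt N8236 (iv F68040)))
theorem Q6894 : ∀ i, i < 6894 → P i := stepQ 6893 Q6893 (allL N6893 (tt N5919 (iv F132183)) (tt N5652 F54290) (tt N6893 F54291) (tt N5792 F131968) (tt N8376 (iv F68781)) (tt N6893 F54292) (tt N5780 F54293) (tt N8381 (iv F68808)) (tt N5635 (iv D11724)) (tt N8382 D15042))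
theorem Q6895 : ∀ i, i < 6895 → P i := stepQ 6894 Q6894 (allL N6894 (tt N6122 F54294) (tt N8360 (iv F68714)) (tt N8383 D15043) (tt N5637 (iv D11725)) (tt N6033 F54295) (tt N6894 F54296) (tt N8384 D15044) (tt N5867 F54297) (tt N8252 (iv F68110)) (tt N5639 F54298))
theorem Q6896 : ∀ i, i < 6896 → P i := stepQ 6895 Q6895 (allL N6895 (tt N6123 F54299) (tt N8361 (iv F68719)) (tt N5654 F54300) (tt N8384 (iv F68820)) (tt N5638 F54301) (tt N8385 D15045) (tt N5637 (iv D11726)) (tt N8386 D15046) (tt N8253 (iv F68115)) (tt N5640 F54302))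
theorem Q6897 : ∀ i, i < 6897 → P i := stepQ 6896 Q6896 (allL N6896 (tt N6124 F54303) (tt N8362 (iv F68723)) (tt N5655 F54304) (tt N6035 F54305) (tt N8386 (iv F68830)) (tt N6896 F54306) (tt N5869 F54307) (tt N5638 (iv D11727)) (tt N8254 (iv F68121)) (tt N5641 F54308))
theorem Q6898 : ∀ i, i < 6898 → P i := stepQ 6897 Q6897 (allL N6897 (tt N6125 F54309) (tt N6252 F132824) (tt N5639 (iv D11728)) (tt N5656 F54310) (tt N6129 F54311) (tt N6897 F54312) (tt N8387 D15048) (tt N5902 F54313) (tt N5645 F54314) (tt N8383 (iv F68818)))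
theorem Q6899 : ∀ i, i < 6899 → P i := stepQ 6898 Q6898 (allL N6898 (tt N6126 F54315) (tt N8364 (iv F68734)) (tt N8387 (iv F68839)) (tt N5640 F54316) (tt N6130 F54317) (tt N8388 D15049) (tt N5639 (iv D11729)) (tt N8389 D15050) (tt N5646 F54318) (tt N8384 (iv F68822)))
theorem Q6900 : ∀ i, i < 6900 → P i := stepQ 6899 Q6899 (allL N6899 (tt N6127 F54319) (tt N8365 (iv F68738)) (tt N5658 F54320) (tt N8388 (iv F68844)) (tt N6899 F54321) (tt N5640 (iv D11730)) (tt N6899 F54322) (tt N8390 D15051) (tt N8391 D15052) (tt N8385 (iv F68827)))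
theorem Q6901 : ∀ i, i < 6901 → P i := stepQ 6900 Q6900 (allL N6900 (tt N6128 F54323) (tt N8366 (iv F68742)) (tt N5659 F54324) (tt N8389 (iv F68847)) (tt N5641 F54325) (tt N8390 (iv F68854)) (tt N5905 F54326) (tt N5640 (iv D11731)) (tt N5648 F54327) (tt N8386 (iv F68832)))
theorem Q6902 : ∀ i, i < 6902 → P i := stepQ 6901 Q6901 (allL N6901 (tt N6129 F54328) (tt N8392 D15053) (tt N5642 (iv D11732)) (tt N5660 F54329) (tt N6125 F54330) (tt N5781 F54331) (tt N8393 D15054) (tt N5645 F54332) (tt N5902 F54333) (tt N8259 (iv F68140)))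
theorem Q6903 : ∀ i, i < 6903 → P i := stepQ 6902 Q6902 (allL N6902 (tt N6130 F54334) (tt N8368 (iv F68752)) (tt N8393 (iv F68866)) (tt N5643 F54335) (tt N6126 F54336) (tt N8394 D15055) (tt N5642 (iv D11733)) (tt N8395 D15056) (tt N5903 F54337) (tt N8260 (iv F68144)))
theorem Q6904 : ∀ i, i < 6904 → P i := stepQ 6903 Q6903 (allL N6903 (tt N6131 F54338) (tt N8369 (iv F68756)) (tt N5662 F54339) (tt N8394 (iv F68871)) (tt N6903 F54340) (tt N5643 (iv D11734)) (tt N5783 F54341) (tt N8396 D15057) (tt N8397 D15058) (tt N8261 (iv F68149)))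
theorem Q6905 : ∀ i, i < 6905 → P i := stepQ 6904 Q6904 (allL N6904 (tt N6132 F54342) (tt N8370 (iv F68760)) (tt N5663 F54343) (tt N8395 (iv F68874)) (tt N5644 F54344) (tt N8396 (iv F68881)) (tt N5648 F54345) (tt N5643 (iv D11735)) (tt N5905 F54346) (tt N8262 (iv F68154)))
theorem Q6906 : ∀ i, i < 6906 → P i := stepQ 6905 Q6905 (allL N6905 (tt N8398 D15059) (tt N5645 (iv D11736)) (tt N8371 (iv F68765)) (tt N5664 F54347) (tt N6253 F132911) (tt N5785 F54348) (tt N8399 D15060) (tt N8392 (iv F68863)) (tt N6252 F132912) (tt N8263 (iv F68157)))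
theorem Q6907 : ∀ i, i < 6907 → P i := stepQ 6906 Q6906 (allL N6906 (tt N6134 F54349) (tt N8399 (iv F68890)) (tt N5646 F54350) (tt N5665 F54351) (tt N8079 (iv F67203)) (tt N8400 D15061) (tt N5645 (iv D11737)) (tt N8401 D15062) (tt N8387 (iv F68842)) (tt N8264 (iv F68161)))
theorem Q6908 : ∀ i, i < 6908 → P i := stepQ 6907 Q6907 (allL N6907 (tt N6135 F54352) (tt N8373 (iv F68770)) (tt N8400 (iv F68893)) (tt N5647 F54353) (tt N8402 D15063) (tt N5646 (iv D11738)) (tt N5787 F54354) (tt N8403 D15064) (tt N8404 D15065) (tt N8265 (iv F68165)))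
theorem Q6909 : ∀ i, i < 6909 → P i := stepQ 6908 Q6908 (allL N6908 (tt N6136 F54355) (tt N8374 (iv F68773)) (tt N8401 (iv F68897)) (tt N5648 F54356) (tt N8081 (iv F67210)) (tt N8403 (iv F68904)) (tt N8395 (iv F68876)) (tt N5646 (iv D11739)) (tt N8389 (iv F68850)) (tt N8266 (iv F68168)))
theorem Q6910 : ∀ i, i < 6910 → P i := stepQ 6909 Q6909 (allL N6909 (tt N6137 F54357) (tt N8375 (iv F68775)) (tt N5668 F54358) (tt N8403 (iv F68903)) (tt N5651 F54359) (tt N5648 F54360) (tt N8405 D15066) (tt N5647 (iv D11740)) (tt N8406 D15067) (tt N8267 (iv F68173)))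
theorem Q6911 : ∀ i, i < 6911 → P i := stepQ 6910 Q6910 (allL N6910 (tt N6138 F54361) (tt N8376 (iv F68779)) (tt N5669 F54362) (tt N8404 (iv F68906)) (tt N5652 F54363) (tt N8391 (iv F68858)) (tt N5790 F54364) (tt N8406 (iv F68915)) (tt N5647 (iv D11741)) (tt N8407 D15068))
theorem Q6912 : ∀ i, i < 6912 → P i := stepQ 6911 Q6911 (allL N6911 (tt N6139 F54365) (tt N8378 (iv F68792)) (tt N6911 F54366) (tt N8402 (iv F68900)) (tt N5649 (iv D11742)) (tt N8084 (iv F67224)) (tt N5791 F54367) (tt N8408 D15069) (tt N8409 D15070) (tt N8269 (iv F68181)))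
theorem Q6913 : ∀ i, i < 6913 → P i := stepQ 6912 Q6912 (allL N6912 (tt N6140 F54368) (tt N8379 (iv F68794)) (tt N6912 F54369) (tt N5651 F54370) (tt N8408 (iv F68922)) (tt N5650 F54371) (tt N8381 (iv F132465)) (tt N5649 (iv D11743)) (tt N8380 (iv F132463)) (tt N8270 (iv F68186)))
theorem Q6914 : ∀ i, i < 6914 → P i := stepQ 6913 Q6913 (allL N6913 (tt N5686 (iv F132357)) (tt N5792 F131922) (tt N6913 F54373) (tt N5652 F54374) (tt N8409 (iv F68925)) (tt N6913 F54375) (tt N5685 F131933) (tt N8380 (iv F132462)) (tt N5649 (iv D11744)) (tt N8344 (iv F132468)))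
theorem Q6915 : ∀ i, i < 6915 → P i := stepQ 6914 Q6914 (allL N6914 (tt N6141 F54377) (tt N8380 (iv F68801)) (tt N5670 F54378) (tt N8381 (iv F132464)) (tt N8405 (iv F68910)) (tt N6914 F54379) (tt N5651 (iv D11745)) (tt N5792 F54380) (tt N8379 (iv F132456)) (tt N8272 (iv F68195)))
theorem Q6916 : ∀ i, i < 6916 → P i := stepQ 6915 Q6915 (allL N6915 (tt N6142 F54381) (tt N8381 (iv F68805)) (tt N5671 F54382) (tt N8380 (iv F132461)) (tt N8406 (iv F68914)) (tt N6915 F54383) (tt N8379 (iv F132455)) (tt N5652 F54384) (tt N5651 (iv D11746)) (tt N8410 D15075))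
theorem Q6917 : ∀ i, i < 6917 → P i := stepQ 6916 Q6916 (allL N6916 (tt N6143 F54385) (tt N8382 (iv F68809)) (tt N5672 F54386) (tt N8344 F132919) (tt N8407 (iv F68918)) (tt N6916 F54387) (tt N5793 F54388) (tt N8410 (iv F68949)) (tt N8274 (iv F68202)) (tt N5652 (iv D11747)))
theorem Q6918 : ∀ i, i < 6918 → P i := stepQ 6917 Q6917 (allL N6917 (tt N6144 F54389) (tt N6214 F132771) (tt N5653 (iv D11748)) (tt N8383 (iv F68814)) (tt N5673 F54390) (tt N6917 F54391) (tt N8411 D15077) (tt N5878 F54392) (tt N8294 (iv F68306)) (tt N5656 F54393))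
theorem Q6919 : ∀ i, i < 6919 → P i := stepQ 6918 Q6918 (allL N6918 (tt N6145 F54394) (tt N6918 F54395) (tt N8411 (iv F68956)) (tt N5654 F54396) (tt N5674 F54397) (tt N8412 D15078) (tt N5653 (iv D11749)) (tt N8413 D15079) (tt N8295 (iv F68312)) (tt N5657 F54398))
theorem Q6920 : ∀ i, i < 6920 → P i := stepQ 6919 Q6919 (allL N6919 (tt N6146 F54399) (tt N6919 F54400) (tt N8385 (iv F68824)) (tt N8412 (iv F68961)) (tt N6919 F54401) (tt N5654 (iv D11750)) (tt N6919 F54402) (tt N8414 D15080) (tt N8415 D15081) (tt N5658 F54403))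
theorem Q6921 : ∀ i, i < 6921 → P i := stepQ 6920 Q6920 (allL N6920 (tt N6147 F54404) (tt N6920 F54405) (tt N8386 (iv F68829)) (tt N8413 (iv F68966)) (tt N5655 F54406) (tt N8414 (iv F68973)) (tt N5881 F54407) (tt N5654 (iv D11751)) (tt N8297 (iv F68321)) (tt N5659 F54408))
theorem Q6922 : ∀ i, i < 6922 → P i := stepQ 6921 Q6921 (allL N6921 (tt N6149 F54414) (tt N6139 F132805) (tt N5657 F54415) (tt N8387 (iv F68840)) (tt N5677 F54416) (tt N8416 D15084) (tt N5656 (iv D11753)) (tt N8417 D15085) (tt N5665 F54417) (tt N8411 (iv F68958)))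
theorem Q6923 : ∀ i, i < 6923 → P i := stepQ 6922 Q6922 (allL N6922 (tt N6150 F54418) (tt N6922 F54419) (tt N8416 (iv F68990)) (tt N5658 F54420) (tt N8418 D15086) (tt N5657 (iv D11754)) (tt N6922 F54421) (tt N8419 D15087) (tt N8420 D15088) (tt N8412 (iv F68963)))
theorem Q6924 : ∀ i, i < 6924 → P i := stepQ 6923 Q6923 (allL N6923 (tt N6151 F54422) (tt N6923 F54423) (tt N8417 (iv F68993)) (tt N5659 F54424) (tt N5679 F54425) (tt N8419 (iv F69005)) (tt N5913 F54426) (tt N5657 (iv D11755)) (tt N5667 F54427) (tt N8413 (iv F68969)))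
theorem Q6925 : ∀ i, i < 6925 → P i := stepQ 6924 Q6924 (allL N6924 (tt N6152 F54428) (tt N6924 F54429) (tt N8390 (iv F68852)) (tt N8419 (iv F69004)) (tt N6924 F54430) (tt N5659 F54431) (tt N8421 D15089) (tt N5658 (iv D11756)) (tt N8422 D15090) (tt N8414 (iv F68974)))
theorem Q6926 : ∀ i, i < 6926 → P i := stepQ 6925 Q6925 (allL N6925 (tt N6153 F54432) (tt N6925 F54433) (tt N8391 (iv F68856)) (tt N8420 (iv F69008)) (tt N6925 F54434) (tt N5669 F54435) (tt N6925 F54436) (tt N8422 (iv F69020)) (tt N5658 (iv D11757)) (tt N8423 D15091))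
theorem Q6927 : ∀ i, i < 6927 → P i := stepQ 6926 Q6926 (allL N6926 (tt N5777 (iv F132474)) (tt N5660 (iv D11758)) (tt N6926 F54437) (tt N8392 (iv F68860)) (tt N5681 F54438) (tt N5771 F131926) (tt N8356 (iv F132423)) (tt N5664 F54440) (tt N5910 F54441) (tt N8304 (iv F68348)))
theorem Q6928 : ∀ i, i < 6928 → P i := stepQ 6927 Q6927 (allL N6927 (tt N6118 F132785) (tt N8356 F132786) (tt N5661 F54443) (tt N8393 (iv F68867)) (tt N5682 F54444) (tt N6104 F132787) (tt N5660 (iv D11759)) (tt N8424 D15095) (tt N5911 F54445) (tt N8305 (iv F68352)))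
theorem Q6929 : ∀ i, i < 6929 → P i := stepQ 6928 Q6928 (allL N6928 (tt N6154 F54450) (tt N6928 F54451) (tt N8424 (iv F69040)) (tt N5663 F54452) (tt N5683 F54453) (tt N6475 F133975) (tt N5667 F54454) (tt N5661 (iv D11761)) (tt N5913 F54455) (tt N8306 (iv F68363)))
theorem Q6930 : ∀ i, i < 6930 → P i := stepQ 6929 Q6929 (allL N6929 (tt N6155 F54456) (tt N6929 F54457) (tt N8396 (iv F68879)) (tt N6475 F133974) (tt N6929 F54458) (tt N5663 F54459) (tt N8425 D15099) (tt N5662 (iv D11762)) (tt N8426 D15100) (tt N8307 (iv F68368)))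
theorem Q6931 : ∀ i, i < 6931 → P i := stepQ 6930 Q6930 (allL N6930 (tt N6156 F54460) (tt N6930 F54461) (tt N8397 (iv F68883)) (tt N6471 F133958) (tt N6930 F54462) (tt N5915 F54463) (tt N5795 F54464) (tt N8426 (iv F69067)) (tt N5662 (iv D11763)) (tt N8427 D15101))
theorem Q6932 : ∀ i, i < 6932 → P i := stepQ 6931 Q6931 (allL N6931 (tt N5664 (iv D11764)) (tt N5789 (iv F132292)) (tt N6931 F54466) (tt N8398 (iv F68888)) (tt N5685 F54467) (tt N5778 F131932) (tt N8409 (iv F132436)) (tt N5777 (iv F132475)) (tt N5791 (iv F132360)) (tt N8309 (iv F68377)))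
theorem Q6933 : ∀ i, i < 6933 → P i := stepQ 6932 Q6932 (allL N6932 (tt N8409 F132914) (tt N5665 F54469) (tt N6932 F54470) (tt N8399 (iv F68891)) (tt N5686 F54471) (tt N8428 D15103) (tt N5664 (iv D11765)) (tt N8429 D15104) (tt N6139 F132915) (tt N8310 (iv F68381)))
theorem Q6934 : ∀ i, i < 6934 → P i := stepQ 6933 Q6933 (allL N6933 (tt N6158 F54472) (tt N8428 (iv F69077)) (tt N5666 F54473) (tt N8400 (iv F68894)) (tt N6933 F54474) (tt N5665 (iv D11766)) (tt N5797 F54475) (tt N8430 D15105) (tt N8431 D15106) (tt N8311 (iv F68386)))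
theorem Q6935 : ∀ i, i < 6935 → P i := stepQ 6934 Q6934 (allL N6934 (tt N6159 F54476) (tt N8429 (iv F69081)) (tt N5667 F54477) (tt N8401 (iv F68898)) (tt N5687 F54478) (tt N8430 (iv F69087)) (tt N8424 (iv F69042)) (tt N5665 (iv D11767)) (tt N8417 (iv F68996)) (tt N8312 (iv F68390)))
theorem Q6936 : ∀ i, i < 6936 → P i := stepQ 6935 Q6935 (allL N6935 (tt N6160 F54479) (tt N6935 F54480) (tt N8430 (iv F69085)) (tt N5668 F54481) (tt N6935 F54482) (tt N5667 F54483) (tt N8432 D15107) (tt N5666 (iv D11768)) (tt N8433 D15108) (tt N8313 (iv F68396)))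
theorem Q6937 : ∀ i, i < 6937 → P i := stepQ 6936 Q6936 (allL N6936 (tt N6161 F54484) (tt N6936 F54485) (tt N8431 (iv F69089)) (tt N5669 F54486) (tt N6936 F54487) (tt N8420 (iv F69009)) (tt N5800 F54488) (tt N8433 (iv F69101)) (tt N5666 (iv D11769)) (tt N8434 D15109))
theorem Q6938 : ∀ i, i < 6938 → P i := stepQ 6937 Q6937 (allL N6937 (tt N6162 F54489) (tt N6937 F54490) (tt N8405 (iv F68909)) (tt N8432 (iv F69094)) (tt N5670 F54491) (tt N8425 (iv F69061)) (tt N5668 (iv D11770)) (tt N5801 F54492) (tt N8435 D15110) (tt N8315 (iv F68406)))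
theorem Q6939 : ∀ i, i < 6939 → P i := stepQ 6938 Q6938 (allL N6938 (tt N6163 F54493) (tt N6938 F54494) (tt N8406 (iv F68913)) (tt N8433 (iv F69099)) (tt N5671 F54495) (tt N8422 (iv F69019)) (tt N8435 (iv F69110)) (tt N5669 F54496) (tt N5668 (iv D11771)) (tt N8436 D15111))
theorem Q6940 : ∀ i, i < 6940 → P i := stepQ 6939 Q6939 (allL N6939 (tt N6164 F54497) (tt N6939 F54498) (tt N8407 (iv F68917)) (tt N8434 (iv F69104)) (tt N5672 F54499) (tt N8423 (iv F69024)) (tt N5803 F54500) (tt N8436 (iv F69115)) (tt N8317 (iv F68415)) (tt N5669 (iv D11772)))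
theorem Q6941 : ∀ i, i < 6941 → P i := stepQ 6940 Q6940 (allL N6940 (tt N6165 F54501) (tt N6940 F54502) (tt N8379 (iv F132454)) (tt N6940 F54503) (tt N8435 (iv F69109)) (tt N8377 F132972) (tt N5671 F54504) (tt N5804 F54505) (tt N5670 (iv D11773)) (tt N8437 D15113))
theorem Q6942 : ∀ i, i < 6942 → P i := stepQ 6941 Q6941 (allL N6941 (tt N6166 F54506) (tt N6941 F54507) (tt N8410 (iv F68947)) (tt N6941 F54508) (tt N8436 (iv F69114)) (tt N6941 F54509) (tt N8437 (iv F69125)) (tt N5672 F54510) (tt N8319 (iv F68425)) (tt N5671 (iv D11774)))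
theorem Q6943 : ∀ i, i < 6943 → P i := stepQ 6942 Q6942 (allL N6942 (tt N6168 F54516) (tt N6040 F132772) (tt N5674 F54517) (tt N6017 F132773) (tt N8411 (iv F68957)) (tt N6016 F132774) (tt N5673 (iv D11776)) (tt N8438 D15117) (tt N8330 (iv F68490)) (tt N5677 F54519))
theorem Q6944 : ∀ i, i < 6944 → P i := stepQ 6943 Q6943 (allL N6943 (tt N6169 F54520) (tt N6943 F54521) (tt N6016 F132804) (tt N5675 F54522) (tt N8439 D15118) (tt N5674 (iv D11777)) (tt N5688 F54523) (tt N8440 D15119) (tt N8441 D15120) (tt N5678 F54524))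
theorem Q6945 : ∀ i, i < 6945 → P i := stepQ 6944 Q6944 (allL N6944 (tt N6170 F54525) (tt N6944 F54526) (tt N8438 (iv F69143)) (tt N5676 F54527) (tt N8413 (iv F68967)) (tt N8440 (iv F69155)) (tt N5890 F54528) (tt N5674 (iv D11778)) (tt N8332 (iv F68501)) (tt N5679 F54529))
theorem Q6946 : ∀ i, i < 6946 → P i := stepQ 6945 Q6945 (allL N6945 (tt N6171 F54530) (tt N6945 F54531) (tt N6094 F54532) (tt N8440 (iv F69154)) (tt N6945 F54533) (tt N5676 F54534) (tt N6945 F54535) (tt N5675 (iv D11779)) (tt N8442 D15121) (tt N5680 F54536))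
theorem Q6947 : ∀ i, i < 6947 → P i := stepQ 6946 Q6946 (allL N6946 (tt N6172 F54537) (tt N6946 F54538) (tt N6095 F54539) (tt N8441 (iv F69160)) (tt N6946 F54540) (tt N8334 (iv F68511)) (tt N5689 F54541) (tt N8442 (iv F69168)) (tt N5675 (iv D11780)) (tt N6946 F54542))
theorem Q6948 : ∀ i, i < 6948 → P i := stepQ 6947 Q6947 (allL N6947 (tt N6174 F54558) (tt N6140 F132806) (tt N5679 F54559) (tt N6121 F132807) (tt N8417 (iv F68994)) (tt N6120 F132808) (tt N5920 F54561) (tt N5677 (iv D11784)) (tt N5687 F54562) (tt N8438 (iv F69146)))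
theorem Q6949 : ∀ i, i < 6949 → P i := stepQ 6948 Q6948 (allL N6948 (tt N6175 F54563) (tt N6948 F54564) (tt N5899 F132802) (tt N6948 F54565) (tt N5678 (iv D11785)) (tt N8418 (iv F69000)) (tt N5690 F54566) (tt N8443 D15127) (tt N6948 F54567) (tt N8439 (iv F69151)))
theorem Q6950 : ∀ i, i < 6950 → P i := stepQ 6949 Q6949 (allL N6949 (tt N6176 F54568) (tt N6949 F54569) (tt N6120 F132803) (tt N5680 F54570) (tt N8443 (iv F69198)) (tt N5679 F54571) (tt N6949 F54572) (tt N5678 (iv D11786)) (tt N6949 F54573) (tt N8440 (iv F69157)))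
theorem Q6951 : ∀ i, i < 6951 → P i := stepQ 6950 Q6950 (allL N6950 (tt N6121 F132798) (tt N8359 F132799) (tt N5683 F54590) (tt N6174 F54591) (tt N8424 (iv F69041)) (tt N6107 F132800) (tt N5687 F54592) (tt N5682 (iv D11790)) (tt N5920 F54593) (tt N8342 (iv F68560)))
theorem Q6952 : ∀ i, i < 6952 → P i := stepQ 6951 Q6951 (allL N6951 (tt N8380 (iv F132458)) (tt N5687 F54609) (tt N6951 F54610) (tt N6142 F132916) (tt N8429 (iv F69083)) (tt N6951 F54611) (tt N8359 (iv F132448)) (tt N5686 (iv D11794)) (tt N6140 F132917) (tt N8345 (iv F68592)))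
theorem Q6953 : ∀ i, i < 6953 → P i := stepQ 6952 Q6952 (allL N6952 (tt N6177 F54648) (tt N6952 F54649) (tt N5860 F132812) (tt N6952 F54650) (tt N5688 (iv D11801)) (tt N6952 F54651) (tt N8439 (iv F69150)) (tt N6952 F54652) (tt N8444 D15142) (tt N5690 F54653))
theorem Q6954 : ∀ i, i < 6954 → P i := stepQ 6953 Q6953 (allL N6953 (tt N6178 F54654) (tt N6953 F54655) (tt N5932 F132813) (tt N5689 F54656) (tt N8444 (iv F69280)) (tt N6953 F54657) (tt N8441 (iv F69161)) (tt N6953 F54658) (tt N5688 (iv D11802)) (tt N6953 F54659))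
theorem Q6955 : ∀ i, i < 6955 → P i := stepQ 6954 Q6954 (allL N6954 (tt N5700 F54677) (tt N5821 F54678) (tt N6954 F54679) (tt N5929 F54680) (tt N8445 D15146) (tt N5691 (iv D11806)) (tt N8446 D15147) (tt N5815 F54681) (tt N8202 (iv F67875)) (tt N6954 F54682))
theorem Q6956 : ∀ i, i < 6956 → P i := stepQ 6955 Q6955 (allL N6955 (tt N5702 F54683) (tt N5807 F54684) (tt N6955 F54685) (tt N6955 F54686) (tt N8447 D15148) (tt N5692 (iv D11807)) (tt N8448 D15149) (tt N5693 F54687) (tt N5694 F54688) (tt N6955 F54689))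
theorem Q6957 : ∀ i, i < 6957 → P i := stepQ 6956 Q6956 (allL N6956 (tt N5703 F54690) (tt N6179 F54691) (tt N6956 F54692) (tt N8449 D15150) (tt N5693 (iv D11808)) (tt N8445 (iv F69304)) (tt N8450 D15151) (tt N8447 (iv F69317)) (tt N5695 F54693) (tt N6956 F54694))
theorem Q6958 : ∀ i, i < 6958 → P i := stepQ 6957 Q6957 (allL N6957 (tt N5704 F54695) (tt N5761 (iv F132311)) (tt N6957 F54697) (tt N6957 F54698) (tt N8450 (iv F69335)) (tt N6957 F54699) (tt N5693 (iv D11809)) (tt N5762 (iv F132490)) (tt N5696 F54700) (tt N6957 F54701))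
theorem Q6959 : ∀ i, i < 6959 → P i := stepQ 6958 Q6958 (allL N6958 (tt N5705 F54702) (tt N6180 F54703) (tt N6958 F54704) (tt N8451 D15153) (tt N5694 (iv D11810)) (tt N8207 (iv F67902)) (tt N8452 D15154) (tt N5695 F54705) (tt N8447 (iv F69318)) (tt N5768 F54706))
theorem Q6960 : ∀ i, i < 6960 → P i := stepQ 6959 Q6959 (allL N6959 (tt N5706 F54707) (tt N5767 (iv F132308)) (tt N6959 F54709) (tt N6959 F54710) (tt N8452 (iv F69353)) (tt N6959 F54711) (tt N5694 (iv D11811)) (tt N5766 (iv F132492)) (tt N8448 (iv F69325)) (tt N5769 F54712))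
theorem Q6961 : ∀ i, i < 6961 → P i := stepQ 6960 Q6960 (allL N6960 (tt N5707 F54713) (tt N6181 F54714) (tt N8453 D15156) (tt N5695 (iv D11812)) (tt N6960 F54715) (tt N8209 (iv F67913)) (tt N8454 D15157) (tt N8451 (iv F69348)) (tt N8449 (iv F69330)) (tt N5770 F54716))
theorem Q6962 : ∀ i, i < 6962 → P i := stepQ 6961 Q6961 (allL N6961 (tt N5708 F54717) (tt N5749 (iv F132315)) (tt N6961 F54719) (tt N8454 (iv F69368)) (tt N5696 F54720) (tt N8304 (iv F132424)) (tt N5695 (iv D11813)) (tt N5752 (iv F132488)) (tt N8450 (iv F69336)) (tt N5771 F54721))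
theorem Q6963 : ∀ i, i < 6963 → P i := stepQ 6962 Q6962 (allL N6962 (tt N5929 F54751) (tt N5713 F54752) (tt N6269 F54753) (tt N5700 F54754) (tt N8455 D15166) (tt N5698 (iv D11819)) (tt N8456 D15167) (tt N5922 F54755) (tt N8116 (iv F67419)) (tt N6962 F54756))
theorem Q6964 : ∀ i, i < 6964 → P i := stepQ 6963 Q6963 (allL N6963 (tt N5815 F54757) (tt N5714 F54758) (tt N6963 F54759) (tt N5922 F54760) (tt N8457 D15168) (tt N5699 (iv D11820)) (tt N8458 D15169) (tt N5700 F54761) (tt N8215 (iv F67950)) (tt N6963 F54762))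
theorem Q6965 : ∀ i, i < 6965 → P i := stepQ 6964 Q6964 (allL N6964 (tt N8445 (iv F69301)) (tt N5715 F54763) (tt N6964 F54764) (tt N8459 D15170) (tt N5700 (iv D11821)) (tt N5703 F54765) (tt N8460 D15171) (tt N8457 (iv F69430)) (tt N8216 (iv F67955)) (tt N6964 F54766))
theorem Q6966 : ∀ i, i < 6966 → P i := stepQ 6965 Q6965 (allL N6965 (tt N8446 (iv F69307)) (tt N5716 F54767) (tt N6965 F54768) (tt N8456 (iv F69423)) (tt N8460 (iv F69443)) (tt N6965 F54769) (tt N5700 (iv D11822)) (tt N8461 D15172) (tt N8217 (iv F67958)) (tt N6965 F54770))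
theorem Q6967 : ∀ i, i < 6967 → P i := stepQ 6966 Q6966 (allL N6966 (tt N5806 F54771) (tt N5717 F54772) (tt N6966 F54773) (tt N6966 F54774) (tt N8462 D15173) (tt N5701 (iv D11823)) (tt N8463 D15174) (tt N6966 F54775) (tt N6966 F54776) (tt N6966 F54777))
theorem Q6968 : ∀ i, i < 6968 → P i := stepQ 6967 Q6967 (allL N6967 (tt N8447 (iv F69313)) (tt N5718 F54778) (tt N6967 F54779) (tt N8464 D15175) (tt N5702 (iv D11824)) (tt N8457 (iv F69429)) (tt N8465 D15176) (tt N5703 F54780) (tt N5705 F54781) (tt N6967 F54782))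
theorem Q6969 : ∀ i, i < 6969 → P i := stepQ 6968 Q6968 (allL N6968 (tt N8448 (iv F69320)) (tt N5719 F54783) (tt N6968 F54784) (tt N6968 F54785) (tt N8465 (iv F69470)) (tt N8463 (iv F69460)) (tt N5702 (iv D11825)) (tt N8466 D15177) (tt N5706 F54786) (tt N6968 F54787))
theorem Q6970 : ∀ i, i < 6970 → P i := stepQ 6969 Q6969 (allL N6969 (tt N8449 (iv F69327)) (tt N5720 F54788) (tt N8467 D15178) (tt N5703 (iv D11826)) (tt N6969 F54789) (tt N8459 (iv F69439)) (tt N8468 D15179) (tt N8464 (iv F69465)) (tt N5707 F54790) (tt N6969 F54791))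
theorem Q6971 : ∀ i, i < 6971 → P i := stepQ 6970 Q6970 (allL N6970 (tt N8450 (iv F69332)) (tt N5721 F54792) (tt N6970 F54793) (tt N8468 (iv F69484)) (tt N5704 F54794) (tt N8469 D15180) (tt N5703 (iv D11827)) (tt N8470 D15181) (tt N5708 F54795) (tt N6970 F54796))
theorem Q6972 : ∀ i, i < 6972 → P i := stepQ 6971 Q6971 (allL N6971 (tt N5762 (iv F132489)) (tt N5722 F54797) (tt N6971 F54798) (tt N6971 F54799) (tt N8470 (iv F69494)) (tt N6971 F54800) (tt N8466 (iv F69476)) (tt N5704 (iv D11828)) (tt N5709 F54801) (tt N6971 F54802))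
theorem Q6973 : ∀ i, i < 6973 → P i := stepQ 6972 Q6972 (allL N6972 (tt N8451 (iv F69345)) (tt N5723 F54803) (tt N8471 D15182) (tt N5705 (iv D11829)) (tt N6972 F54804) (tt N8226 (iv F67997)) (tt N8472 D15183) (tt N5707 F54805) (tt N8464 (iv F69466)) (tt N5772 F54806))
theorem Q6974 : ∀ i, i < 6974 → P i := stepQ 6973 Q6973 (allL N6973 (tt N8452 (iv F69350)) (tt N5724 F54807) (tt N6973 F54808) (tt N8472 (iv F69502)) (tt N5706 F54809) (tt N8473 D15184) (tt N5705 (iv D11830)) (tt N8474 D15185) (tt N8465 (iv F69471)) (tt N5773 F54810))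
theorem Q6975 : ∀ i, i < 6975 → P i := stepQ 6974 Q6974 (allL N6974 (tt N5766 (iv F132491)) (tt N5725 F54811) (tt N6974 F54812) (tt N6974 F54813) (tt N8474 (iv F69511)) (tt N6974 F54814) (tt N5709 F54815) (tt N5706 (iv D11831)) (tt N8466 (iv F69477)) (tt N5774 F54816))
theorem Q6976 : ∀ i, i < 6976 → P i := stepQ 6975 Q6975 (allL N6975 (tt N8453 (iv F69362)) (tt N8475 D15186) (tt N5707 (iv D11832)) (tt N6975 F54817) (tt N6975 F54818) (tt N8229 (iv F68011)) (tt N8476 D15187) (tt N8471 (iv F69499)) (tt N8467 (iv F69481)) (tt N5775 F54819))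
theorem Q6977 : ∀ i, i < 6977 → P i := stepQ 6976 Q6976 (allL N6976 (tt N8454 (iv F69366)) (tt N5727 F54820) (tt N8476 (iv F69518)) (tt N5708 F54821) (tt N6976 F54822) (tt N8477 D15188) (tt N5707 (iv D11833)) (tt N8478 D15189) (tt N8468 (iv F69486)) (tt N5776 F54823))
theorem Q6978 : ∀ i, i < 6978 → P i := stepQ 6977 Q6977 (allL N6977 (tt N8304 F132953) (tt N5728 F54824) (tt N6977 F54825) (tt N8477 (iv F69523)) (tt N5712 F54826) (tt N5708 (iv D11834)) (tt N8231 (iv F68019)) (tt N8309 F132954) (tt N8479 D15191) (tt N5777 F54827))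
theorem Q6979 : ∀ i, i < 6979 → P i := stepQ 6978 Q6978 (allL N6978 (tt N5752 (iv F132487)) (tt N5729 F54828) (tt N6978 F54829) (tt N8478 (iv F69526)) (tt N5709 F54830) (tt N8309 (iv F132437)) (tt N8474 (iv F69512)) (tt N5708 (iv D11835)) (tt N8470 (iv F69495)) (tt N5778 F54831))
theorem Q6980 : ∀ i, i < 6980 → P i := stepQ 6979 Q6979 (allL N6979 (tt N6167 (iv F132274)) (tt N5730 F54838) (tt N5805 (iv F132507)) (tt N5712 F54839) (tt N8480 D15194) (tt N5711 (iv D11837)) (tt N8234 (iv F68031)) (tt N5793 F131949) (tt N8481 D15196) (tt N5779 F54840))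
theorem Q6981 : ∀ i, i < 6981 → P i := stepQ 6980 Q6980 (allL N6980 (tt N8324 F132997) (tt N5733 F54851) (tt N6980 F54852) (tt N8481 (iv F69556)) (tt N8479 (iv F69536)) (tt N6980 F54853) (tt N8237 (iv F68043)) (tt N8335 F132998) (tt N5712 (iv D11840)) (tt N8482 D15199))
theorem Q6982 : ∀ i, i < 6982 → P i := stepQ 6981 Q6981 (allL N6981 (tt N6192 F54854) (tt N8455 (iv F69415)) (tt N6981 F54855) (tt N8483 D15200) (tt N5713 (iv D11841)) (tt N6981 F54856) (tt N8484 D15201) (tt N8099 (iv F67323)) (tt N8238 (iv F68046)) (tt N6981 F54857))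
theorem Q6983 : ∀ i, i < 6983 → P i := stepQ 6982 Q6982 (allL N6982 (tt N6193 F54858) (tt N8456 (iv F69421)) (tt N6982 F54859) (tt N5716 F54860) (tt N8484 (iv F69576)) (tt N6982 F54861) (tt N5713 (iv D11842)) (tt N8485 D15202) (tt N8239 (iv F68050)) (tt N6982 F54862))
theorem Q6984 : ∀ i, i < 6984 → P i := stepQ 6983 Q6983 (allL N6983 (tt N6194 F54863) (tt N8457 (iv F69427)) (tt N5735 F54864) (tt N8486 D15203) (tt N5714 (iv D11843)) (tt N5718 F54865) (tt N8487 D15204) (tt N5715 F54866) (tt N8240 (iv F68055)) (tt N6983 F54867))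
theorem Q6985 : ∀ i, i < 6985 → P i := stepQ 6984 Q6984 (allL N6984 (tt N6195 F54868) (tt N8458 (iv F69433)) (tt N5736 F54869) (tt N8100 (iv F67328)) (tt N8487 (iv F69589)) (tt N7979 (iv F66624)) (tt N5714 (iv D11844)) (tt N8488 D15205) (tt N8241 (iv F68059)) (tt N6984 F54870))
theorem Q6986 : ∀ i, i < 6986 → P i := stepQ 6985 Q6985 (allL N6985 (tt N6196 F54871) (tt N8459 (iv F69438)) (tt N8489 D15206) (tt N5715 (iv D11845)) (tt N8483 (iv F69571)) (tt N5720 F54872) (tt N8490 D15207) (tt N8486 (iv F69585)) (tt N8244 (iv F68073)) (tt N6985 F54873))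
theorem Q6987 : ∀ i, i < 6987 → P i := stepQ 6986 Q6986 (allL N6986 (tt N6197 F54874) (tt N8460 (iv F69441)) (tt N5738 F54875) (tt N8490 (iv F69600)) (tt N5716 F54876) (tt N8491 D15208) (tt N5715 (iv D11846)) (tt N8492 D15209) (tt N8245 (iv F68077)) (tt N6986 F54877))
theorem Q6988 : ∀ i, i < 6988 → P i := stepQ 6987 Q6987 (allL N6987 (tt N6198 F54878) (tt N8461 (iv F69445)) (tt N5739 F54879) (tt N8485 (iv F69580)) (tt N8492 (iv F69609)) (tt N6987 F54880) (tt N8488 (iv F69593)) (tt N5716 (iv D11847)) (tt N8246 (iv F68080)) (tt N6987 F54881))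
theorem Q6989 : ∀ i, i < 6989 → P i := stepQ 6988 Q6988 (allL N6988 (tt N6199 F54882) (tt N8462 (iv F69450)) (tt N5740 F54883) (tt N5994 F135117) (tt N5717 (iv D11848)) (tt N7978 (iv F66616)) (tt N5849 F135118) (tt N6988 F54884) (tt N6988 F54885) (tt N6988 F54886))
theorem Q6990 : ∀ i, i < 6990 → P i := stepQ 6989 Q6989 (allL N6989 (tt N6200 F54887) (tt N8463 (iv F69457)) (tt N5741 F54888) (tt N6989 F54889) (tt N5849 (iv F134450)) (tt N5719 F54890) (tt N5717 (iv D11849)) (tt N5812 F133795) (tt N6989 F54891) (tt N6989 F54892))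
theorem Q6991 : ∀ i, i < 6991 → P i := stepQ 6990 Q6990 (allL N6990 (tt N6201 F54893) (tt N8464 (iv F69463)) (tt N8493 D15213) (tt N5718 (iv D11850)) (tt N6990 F54894) (tt N8486 (iv F69584)) (tt N8494 D15214) (tt N5720 F54895) (tt N5723 F54896) (tt N6990 F54897))
theorem Q6992 : ∀ i, i < 6992 → P i := stepQ 6991 Q6991 (allL N6991 (tt N6202 F54898) (tt N8465 (iv F69468)) (tt N5743 F54899) (tt N8494 (iv F69635)) (tt N5719 F54900) (tt N8495 D15215) (tt N5718 (iv D11851)) (tt N8496 D15216) (tt N5724 F54901) (tt N6991 F54902))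
theorem Q6993 : ∀ i, i < 6993 → P i := stepQ 6992 Q6992 (allL N6992 (tt N6203 F54903) (tt N8466 (iv F69473)) (tt N5744 F54904) (tt N6992 F54905) (tt N8496 (iv F69644)) (tt N5812 (iv F133013)) (tt N5722 F54906) (tt N5719 (iv D11852)) (tt N5725 F54907) (tt N6992 F54908))
theorem Q6994 : ∀ i, i < 6994 → P i := stepQ 6993 Q6993 (allL N6993 (tt N6204 F54909) (tt N8497 D15217) (tt N5720 (iv D11853)) (tt N5745 F54910) (tt N6993 F54911) (tt N8489 (iv F69597)) (tt N8498 D15218) (tt N8493 (iv F69631)) (tt N5726 F54912) (tt N6993 F54913))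
theorem Q6995 : ∀ i, i < 6995 → P i := stepQ 6994 Q6994 (allL N6994 (tt N6205 F54914) (tt N8468 (iv F69483)) (tt N8498 (iv F69653)) (tt N5721 F54915) (tt N6994 F54916) (tt N8499 D15219) (tt N5720 (iv D11854)) (tt N8500 D15220) (tt N5727 F54917) (tt N6994 F54918))
theorem Q6996 : ∀ i, i < 6996 → P i := stepQ 6995 Q6995 (allL N6995 (tt N6206 F54919) (tt N8469 (iv F69488)) (tt N5747 F54920) (tt N8499 (iv F69659)) (tt N6995 F54921) (tt N5721 (iv D11855)) (tt N8491 (iv F69605)) (tt N8501 D15221) (tt N8502 D15222) (tt N6995 F54922))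
theorem Q6997 : ∀ i, i < 6997 → P i := stepQ 6996 Q6996 (allL N6996 (tt N6207 F54923) (tt N8470 (iv F69492)) (tt N5748 F54924) (tt N8500 (iv F69662)) (tt N5722 F54925) (tt N8501 (iv F69669)) (tt N8496 (iv F69645)) (tt N5721 (iv D11856)) (tt N5729 F54926) (tt N6996 F54927))
theorem Q6998 : ∀ i, i < 6998 → P i := stepQ 6997 Q6997 (allL N6997 (tt N6191 F132878) (tt N8454 F132879) (tt N5723 (iv D11857)) (tt N5749 F54929) (tt N6997 F54930) (tt N8259 (iv F68138)) (tt N6181 F132880) (tt N5726 F54931) (tt N8493 (iv F69632)) (tt N5781 F54932))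
theorem Q6999 : ∀ i, i < 6999 → P i := stepQ 6998 Q6998 (allL N6998 (tt N6190 F132876) (tt N8472 (iv F69501)) (tt N6181 F132877) (tt N5724 F54934) (tt N6998 F54935) (tt N8503 D15225) (tt N5723 (iv D11858)) (tt N8504 D15226) (tt N8494 (iv F69637)) (tt N5782 F54936))
theorem Q7000 : ∀ i, i < 7000 → P i := stepQ 6999 Q6999 (allL N6999 (tt N6208 F54937) (tt N8473 (iv F69505)) (tt N5750 F54938) (tt N8503 (iv F69685)) (tt N6999 F54939) (tt N5724 (iv D11859)) (tt N8261 (iv F68148)) (tt N8505 D15227) (tt N8506 D15228) (tt N5783 F54940))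
theorem Q7001 : ∀ i, i < 7001 → P i := stepQ 7000 Q7000 (allL N7000 (tt N6209 F54941) (tt N8474 (iv F69509)) (tt N5751 F54942) (tt N8504 (iv F69688)) (tt N5725 F54943) (tt N8505 (iv F69695)) (tt N5729 F54944) (tt N5724 (iv D11860)) (tt N8496 (iv F69646)) (tt N5784 F54945))
theorem Q7002 : ∀ i, i < 7002 → P i := stepQ 7001 Q7001 (allL N7001 (tt N8478 F133000) (tt N5726 (iv D11861)) (tt N8475 (iv F69514)) (tt N5752 F54946) (tt N7001 F54947) (tt N8263 (iv F68156)) (tt N8507 D15230) (tt N8454 F133001) (tt N8497 (iv F69650)) (tt N5785 F54948))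
theorem Q7003 : ∀ i, i < 7003 → P i := stepQ 7002 Q7002 (allL N7002 (tt N6211 F54949) (tt N8507 (iv F69704)) (tt N5727 F54950) (tt N5753 F54951) (tt N7002 F54952) (tt N8508 D15231) (tt N5726 (iv D11862)) (tt N8509 D15232) (tt N8498 (iv F69656)) (tt N5786 F54953))
theorem Q7004 : ∀ i, i < 7004 → P i := stepQ 7003 Q7003 (allL N7003 (tt N6212 F54954) (tt N8477 (iv F69522)) (tt N8508 (iv F69709)) (tt N5728 F54955) (tt N8510 D15233) (tt N5727 (iv D11863)) (tt N8265 (iv F68164)) (tt N8511 D15234) (tt N8512 D15235) (tt N5787 F54956))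
theorem Q7005 : ∀ i, i < 7005 → P i := stepQ 7004 Q7004 (allL N7004 (tt N6210 F132891) (tt N8478 (iv F69525)) (tt N8509 (iv F69713)) (tt N5729 F54958) (tt N7004 F54959) (tt N8511 (iv F69723)) (tt N8504 (iv F69690)) (tt N5727 (iv D11864)) (tt N8500 (iv F69664)) (tt N5788 F54960))
theorem Q7006 : ∀ i, i < 7006 → P i := stepQ 7005 Q7005 (allL N7005 (tt N6068 F132753) (tt N8309 F132754) (tt N5756 F54962) (tt N8511 (iv F69722)) (tt N5732 F54963) (tt N5729 F54964) (tt N8513 D15236) (tt N5728 (iv D11865)) (tt N8514 D15237) (tt N5789 F54965))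
theorem Q7007 : ∀ i, i < 7007 → P i := stepQ 7006 Q7006 (allL N7006 (tt N6213 F54966) (tt N8479 (iv F69534)) (tt N5757 F54967) (tt N8512 (iv F69726)) (tt N5733 F54968) (tt N8502 (iv F69674)) (tt N8268 (iv F68177)) (tt N8514 (iv F69734)) (tt N5728 (iv D11866)) (tt N8515 D15238))
theorem Q7008 : ∀ i, i < 7008 → P i := stepQ 7007 Q7007 (allL N7007 (tt N6214 F54969) (tt N8480 (iv F69548)) (tt N7007 F54970) (tt N8510 (iv F69718)) (tt N5730 (iv D11867)) (tt N7007 F54971) (tt N8269 (iv F68180)) (tt N8516 D15239) (tt N8517 D15240) (tt N5791 F54972))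
theorem Q7009 : ∀ i, i < 7009 → P i := stepQ 7008 Q7008 (allL N7008 (tt N5888 (iv F132185)) (tt N5793 F131950) (tt N7008 F54974) (tt N5732 F54975) (tt N8516 (iv F69741)) (tt N5731 F54976) (tt N8382 (iv F132467)) (tt N5730 (iv D11868)) (tt N8482 (iv F132515)) (tt N5780 F131951))
theorem Q7010 : ∀ i, i < 7010 → P i := stepQ 7009 Q7009 (allL N7009 (tt N6215 F54978) (tt N8481 (iv F69555)) (tt N7009 F54979) (tt N5733 F54980) (tt N8517 (iv F69746)) (tt N7009 F54981) (tt N8271 (iv F68190)) (tt N8482 (iv F132514)) (tt N5730 (iv D11869)) (tt N8335 F132892))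
theorem Q7011 : ∀ i, i < 7011 → P i := stepQ 7010 Q7010 (allL N7010 (tt N6096 F132756) (tt N8344 F132757) (tt N5758 F54983) (tt N8382 (iv F132466)) (tt N8513 (iv F69729)) (tt N7010 F54984) (tt N5732 (iv D11870)) (tt N8272 (iv F68194)) (tt N8518 D15244) (tt N5792 F54985))
theorem Q7012 : ∀ i, i < 7012 → P i := stepQ 7011 Q7011 (allL N7011 (tt N6088 F132760) (tt N8335 F132761) (tt N5759 F54987) (tt N8482 (iv F132513)) (tt N8514 (iv F69733)) (tt N7011 F54988) (tt N8518 (iv F69764)) (tt N5733 F54989) (tt N5732 (iv D11871)) (tt N8481 (iv F132510)))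
theorem Q7013 : ∀ i, i < 7013 → P i := stepQ 7012 Q7012 (allL N7012 (tt N6216 F54990) (tt N8482 (iv F69566)) (tt N5760 F54991) (tt N8335 F132929) (tt N8515 (iv F69737)) (tt N7012 F54992) (tt N8274 (iv F68201)) (tt N8481 (iv F132509)) (tt N5793 F54993) (tt N5733 (iv D11872)))
theorem Q7014 : ∀ i, i < 7014 → P i := stepQ 7013 Q7013 (allL N7013 (tt N6217 F54994) (tt N7013 F54995) (tt N7978 (iv F66615)) (tt N5850 F135116) (tt N5734 (iv D11873)) (tt N5740 F54996) (tt N8519 D15247) (tt N7013 F54997) (tt N7951 (iv F66441)) (tt N7013 F54998))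
theorem Q7015 : ∀ i, i < 7015 → P i := stepQ 7014 Q7014 (allL N7014 (tt N6218 F54999) (tt N7014 F55000) (tt N7979 (iv F66622)) (tt N7014 F55001) (tt N8519 (iv F69778)) (tt N5736 F55002) (tt N5734 (iv D11874)) (tt N8520 D15248) (tt N7952 (iv F66448)) (tt N7014 F55003))
theorem Q7016 : ∀ i, i < 7016 → P i := stepQ 7015 Q7015 (allL N7015 (tt N6219 F55004) (tt N7015 F55005) (tt N8521 D15249) (tt N5735 (iv D11875)) (tt N7015 F55006) (tt N5742 F55007) (tt N8522 D15250) (tt N5737 F55008) (tt N8277 (iv F68220)) (tt N7015 F55009))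
theorem Q7017 : ∀ i, i < 7017 → P i := stepQ 7016 Q7016 (allL N7016 (tt N6220 F55010) (tt N7016 F55011) (tt N8487 (iv F69588)) (tt N8522 (iv F69793)) (tt N5736 F55012) (tt N8523 D15251) (tt N5735 (iv D11876)) (tt N8524 D15252) (tt N8278 (iv F68225)) (tt N7016 F55013))
theorem Q7018 : ∀ i, i < 7018 → P i := stepQ 7017 Q7017 (allL N7017 (tt N6221 F55014) (tt N7017 F55015) (tt N8488 (iv F69592)) (tt N7017 F55016) (tt N8524 (iv F69802)) (tt N8520 (iv F69783)) (tt N5739 F55017) (tt N5736 (iv D11877)) (tt N8279 (iv F68231)) (tt N7017 F55018))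
theorem Q7019 : ∀ i, i < 7019 → P i := stepQ 7018 Q7018 (allL N7018 (tt N6222 F55019) (tt N8525 D15253) (tt N5737 (iv D11878)) (tt N8489 (iv F69596)) (tt N7018 F55020) (tt N5745 F55021) (tt N8526 D15254) (tt N8521 (iv F69789)) (tt N8283 (iv F68254)) (tt N7018 F55022))
theorem Q7020 : ∀ i, i < 7020 → P i := stepQ 7019 Q7019 (allL N7019 (tt N6223 F55023) (tt N7019 F55024) (tt N8526 (iv F69810)) (tt N5738 F55025) (tt N7019 F55026) (tt N8527 D15255) (tt N5737 (iv D11879)) (tt N8528 D15256) (tt N8284 (iv F68259)) (tt N7019 F55027))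
theorem Q7021 : ∀ i, i < 7021 → P i := stepQ 7020 Q7020 (allL N7020 (tt N6224 F55028) (tt N7020 F55029) (tt N8491 (iv F69603)) (tt N8527 (iv F69815)) (tt N7020 F55030) (tt N5738 (iv D11880)) (tt N5747 F55031) (tt N8529 D15257) (tt N8530 D15258) (tt N7020 F55032))
theorem Q7022 : ∀ i, i < 7022 → P i := stepQ 7021 Q7021 (allL N7021 (tt N6225 F55033) (tt N7021 F55034) (tt N8492 (iv F69608)) (tt N8528 (iv F69820)) (tt N5739 F55035) (tt N8529 (iv F69826)) (tt N8524 (iv F69803)) (tt N5738 (iv D11881)) (tt N8286 (iv F68266)) (tt N7021 F55036))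
theorem Q7023 : ∀ i, i < 7023 → P i := stepQ 7022 Q7022 (allL N7022 (tt N6187 F132871) (tt N8450 F132872) (tt N5742 (iv D11885)) (tt N8493 (iv F69629)) (tt N5761 F55056) (tt N8521 (iv F69788)) (tt N6179 F132873) (tt N5745 F55057) (tt N5749 F55058) (tt N7022 F55059))
theorem Q7024 : ∀ i, i < 7024 → P i := stepQ 7023 Q7023 (allL N7023 (tt N6226 F55066) (tt N7023 F55067) (tt N8495 (iv F69640)) (tt N5831 F134020) (tt N5843 (iv F134644)) (tt N5743 (iv D11887)) (tt N8523 (iv F69798)) (tt N5833 F134021) (tt N8531 D15268) (tt N7023 F55068))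
theorem Q7025 : ∀ i, i < 7025 → P i := stepQ 7024 Q7024 (allL N7024 (tt N6227 F55069) (tt N7024 F55070) (tt N8496 (iv F69643)) (tt N5810 (iv F133224)) (tt N5744 F55071) (tt N5833 (iv F133504)) (tt N5748 F55072) (tt N5743 (iv D11888)) (tt N5751 F55073) (tt N7024 F55074))
theorem Q7026 : ∀ i, i < 7026 → P i := stepQ 7025 Q7025 (allL N7025 (tt N8470 F133004) (tt N5745 (iv D11889)) (tt N7025 F55075) (tt N8497 (iv F69648)) (tt N5762 F55076) (tt N8525 (iv F69807)) (tt N8532 D15270) (tt N8450 F133005) (tt N5752 F55077) (tt N7025 F55078))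
theorem Q7027 : ∀ i, i < 7027 → P i := stepQ 7026 Q7026 (allL N7026 (tt N6228 F55079) (tt N8532 (iv F69886)) (tt N5746 F55080) (tt N8498 (iv F69654)) (tt N5763 F55081) (tt N8533 D15271) (tt N5745 (iv D11890)) (tt N8534 D15272) (tt N5753 F55082) (tt N7026 F55083))
theorem Q7028 : ∀ i, i < 7028 → P i := stepQ 7027 Q7027 (allL N7027 (tt N6229 F55084) (tt N7027 F55085) (tt N8533 (iv F69892)) (tt N5747 F55086) (tt N8535 D15273) (tt N5746 (iv D11891)) (tt N8527 (iv F69816)) (tt N8536 D15274) (tt N8537 D15275) (tt N7027 F55087))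
theorem Q7029 : ∀ i, i < 7029 → P i := stepQ 7028 Q7028 (allL N7028 (tt N6230 F55088) (tt N7028 F55089) (tt N8534 (iv F69895)) (tt N5748 F55090) (tt N5765 F55091) (tt N8536 (iv F69907)) (tt N5810 (iv F133225)) (tt N5746 (iv D11892)) (tt N5755 F55092) (tt N7028 F55093))
theorem Q7030 : ∀ i, i < 7030 → P i := stepQ 7029 Q7029 (allL N7029 (tt N6231 F55094) (tt N7029 F55095) (tt N8501 (iv F69667)) (tt N8536 (iv F69906)) (tt N7029 F55096) (tt N5748 F55097) (tt N8538 D15276) (tt N5747 (iv D11893)) (tt N8539 D15277) (tt N7029 F55098))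
theorem Q7031 : ∀ i, i < 7031 → P i := stepQ 7030 Q7030 (allL N7030 (tt N6232 F55099) (tt N7030 F55100) (tt N8502 (iv F69672)) (tt N8537 (iv F69911)) (tt N7030 F55101) (tt N5757 F55102) (tt N8530 (iv F69831)) (tt N8539 (iv F69921)) (tt N5747 (iv D11894)) (tt N8540 D15278))
theorem Q7032 : ∀ i, i < 7032 → P i := stepQ 7031 Q7031 (allL N7031 (tt N6233 F55121) (tt N7031 F55122) (tt N8505 (iv F69693)) (tt N6370 (iv F133071)) (tt N7031 F55123) (tt N5751 F55124) (tt N8541 D15286) (tt N5750 (iv D11899)) (tt N8542 D15287) (tt N5794 F55125))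
theorem Q7033 : ∀ i, i < 7033 → P i := stepQ 7032 Q7032 (allL N7032 (tt N6234 F55126) (tt N7032 F55127) (tt N8506 (iv F69698)) (tt N6368 F133883) (tt N7032 F55128) (tt N8531 (iv F69880)) (tt N8308 (iv F68372)) (tt N8542 (iv F69965)) (tt N5750 (iv D11900)) (tt N8543 D15288))
theorem Q7034 : ∀ i, i < 7034 → P i := stepQ 7033 Q7033 (allL N7033 (tt N8474 F133002) (tt N5753 F55133) (tt N7033 F55134) (tt N8507 (iv F69705)) (tt N5766 F55135) (tt N8544 D15290) (tt N5752 (iv D11902)) (tt N8452 F133003) (tt N8532 (iv F69889)) (tt N5796 F55136))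
theorem Q7035 : ∀ i, i < 7035 → P i := stepQ 7034 Q7034 (allL N7034 (tt N6235 F55137) (tt N8544 (iv F69975)) (tt N5754 F55138) (tt N8508 (iv F69710)) (tt N7034 F55139) (tt N5753 (iv D11903)) (tt N8311 (iv F68385)) (tt N8545 D15292) (tt N8546 D15293) (tt N5797 F55140))
theorem Q7036 : ∀ i, i < 7036 → P i := stepQ 7035 Q7035 (allL N7035 (tt N6189 F132857) (tt N8452 F132858) (tt N5755 F55142) (tt N8509 (iv F69714)) (tt N5767 F55143) (tt N8545 (iv F69986)) (tt N6180 F132859) (tt N5753 (iv D11904)) (tt N8534 (iv F69897)) (tt N5798 F55144))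
theorem Q7037 : ∀ i, i < 7037 → P i := stepQ 7036 Q7036 (allL N7036 (tt N6236 F55145) (tt N7036 F55146) (tt N8545 (iv F69984)) (tt N5756 F55147) (tt N7036 F55148) (tt N5755 F55149) (tt N8547 D15294) (tt N5754 (iv D11905)) (tt N8548 D15295) (tt N5799 F55150))
theorem Q7038 : ∀ i, i < 7038 → P i := stepQ 7037 Q7037 (allL N7037 (tt N6237 F55151) (tt N7037 F55152) (tt N8546 (iv F69989)) (tt N5757 F55153) (tt N7037 F55154) (tt N8537 (iv F69912)) (tt N8314 (iv F68401)) (tt N8548 (iv F70000)) (tt N5754 (iv D11906)) (tt N8549 D15296))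
theorem Q7039 : ∀ i, i < 7039 → P i := stepQ 7038 Q7038 (allL N7038 (tt N6238 F55155) (tt N7038 F55156) (tt N8513 (iv F69728)) (tt N8547 (iv F69993)) (tt N5758 F55157) (tt N8541 (iv F69960)) (tt N5756 (iv D11907)) (tt N8315 (iv F68405)) (tt N8550 D15297) (tt N5801 F55158))
theorem Q7040 : ∀ i, i < 7040 → P i := stepQ 7039 Q7039 (allL N7039 (tt N6239 F55159) (tt N7039 F55160) (tt N8514 (iv F69732)) (tt N8548 (iv F69998)) (tt N5759 F55161) (tt N8539 (iv F69920)) (tt N8550 (iv F70009)) (tt N5757 F55162) (tt N5756 (iv D11908)) (tt N8551 D15298))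
theorem Q7041 : ∀ i, i < 7041 → P i := stepQ 7040 Q7040 (allL N7040 (tt N6240 F55163) (tt N7040 F55164) (tt N8515 (iv F69736)) (tt N8549 (iv F70003)) (tt N5760 F55165) (tt N8540 (iv F69925)) (tt N8317 (iv F68414)) (tt N8551 (iv F70013)) (tt N5803 F55166) (tt N5757 (iv D11909)))
theorem Q7042 : ∀ i, i < 7042 → P i := stepQ 7041 Q7041 (allL N7041 (tt N6241 F55167) (tt N7041 F55168) (tt N8518 (iv F69763)) (tt N7041 F55169) (tt N8550 (iv F70008)) (tt N8552 D15299) (tt N5759 F55170) (tt N8318 (iv F68420)) (tt N5758 (iv D11910)) (tt N8553 D15300))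
theorem Q7043 : ∀ i, i < 7043 → P i := stepQ 7042 Q7042 (allL N7042 (tt N6242 F55171) (tt N7042 F55172) (tt N8481 F133020) (tt N7042 F55173) (tt N8551 (iv F70012)) (tt N7042 F55174) (tt N8553 (iv F70023)) (tt N5760 F55175) (tt N5805 F55176) (tt N5759 (iv D11911)))
theorem Q7044 : ∀ i, i < 7044 → P i := stepQ 7043 Q7043 (allL N7043 (tt N8466 F133007) (tt N5763 F55239) (tt N7043 F55240) (tt N7043 F55241) (tt N8532 (iv F69888)) (tt N8554 D15318) (tt N5762 (iv D11923)) (tt N8448 F133008) (tt N5766 F55242) (tt N7043 F55243))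
theorem Q7045 : ∀ i, i < 7045 → P i := stepQ 7044 Q7044 (allL N7044 (tt N6243 F55244) (tt N8554 (iv F70120)) (tt N5764 F55245) (tt N7044 F55246) (tt N8014 (iv F134369)) (tt N5763 (iv D11924)) (tt N7044 F55247) (tt N5809 F134285) (tt N7044 F55248) (tt N7044 F55249))
theorem Q7046 : ∀ i, i < 7046 → P i := stepQ 7045 Q7045 (allL N7045 (tt N6185 F132849) (tt N8448 F132850) (tt N5765 F55251) (tt N7045 F55252) (tt N8534 (iv F69896)) (tt N5809 (iv F133460)) (tt N5807 F132851) (tt N5763 (iv D11925)) (tt N5767 F55253) (tt N7045 F55254))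
theorem Q7047 : ∀ i, i < 7047 → P i := stepQ 7046 Q7046 (allL N7046 (tt N6244 F55255) (tt N7046 F55256) (tt N8014 F134680) (tt N7046 F55257) (tt N5764 (iv D11926)) (tt N8535 (iv F69902)) (tt N7046 F55258) (tt N5811 F134681) (tt N7046 F55259) (tt N7046 F55260))
theorem Q7048 : ∀ i, i < 7048 → P i := stepQ 7047 Q7047 (allL N7047 (tt N5772 F55364) (tt N6245 F55365) (tt N8555 D15344) (tt N5768 (iv D11946)) (tt N7047 F55366) (tt N8351 (iv F68656)) (tt N8556 D15345) (tt N5770 F55367) (tt N7047 F55368) (tt N8451 (iv F69349)))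
theorem Q7049 : ∀ i, i < 7049 → P i := stepQ 7048 Q7048 (allL N7048 (tt N5773 F55369) (tt N5798 (iv F132336)) (tt N7048 F55371) (tt N8556 (iv F70265)) (tt N5769 F55372) (tt N8557 D15346) (tt N5768 (iv D11947)) (tt N5796 (iv F132519)) (tt N7048 F55373) (tt N8452 (iv F69354)))
theorem Q7050 : ∀ i, i < 7050 → P i := stepQ 7049 Q7049 (allL N7049 (tt N5775 F55381) (tt N8558 D15348) (tt N5770 (iv D11949)) (tt N7049 F55382) (tt N7049 F55383) (tt N8354 (iv F68673)) (tt N8559 D15349) (tt N8555 (iv F70261)) (tt N7049 F55384) (tt N8453 (iv F69365)))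
theorem Q7051 : ∀ i, i < 7051 → P i := stepQ 7050 Q7050 (allL N7050 (tt N5776 F55385) (tt N5781 (iv F132348)) (tt N8559 (iv F70283)) (tt N5771 F55387) (tt N7050 F55388) (tt N8392 (iv F132422)) (tt N5770 (iv D11950)) (tt N5785 (iv F132521)) (tt N7050 F55389) (tt N8454 (iv F69370)))
theorem Q7052 : ∀ i, i < 7052 → P i := stepQ 7051 Q7051 (allL N7051 (tt N8555 (iv F70258)) (tt N8559 F133039) (tt N5772 (iv D11959)) (tt N7051 F55427) (tt N7051 F55428) (tt N8367 (iv F68749)) (tt N8558 (iv F133526)) (tt N5775 F55429) (tt N7051 F55430) (tt N8471 (iv F69500)))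
theorem Q7053 : ∀ i, i < 7053 → P i := stepQ 7052 Q7052 (allL N7052 (tt N8556 (iv F70263)) (tt N5782 F55431) (tt N8558 (iv F133525)) (tt N5773 F55432) (tt N7052 F55433) (tt N8560 D15365) (tt N5772 (iv D11960)) (tt N8561 D15366) (tt N7052 F55434) (tt N8472 (iv F69504)))
theorem Q7054 : ∀ i, i < 7054 → P i := stepQ 7053 Q7053 (allL N7053 (tt N8557 (iv F70268)) (tt N5783 F55435) (tt N7053 F55436) (tt N8560 (iv F70362)) (tt N7053 F55437) (tt N5773 (iv D11961)) (tt N8369 (iv F68759)) (tt N8562 D15367) (tt N8563 D15368) (tt N8473 (iv F69508)))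
theorem Q7055 : ∀ i, i < 7055 → P i := stepQ 7054 Q7054 (allL N7054 (tt N5796 (iv F132518)) (tt N5784 F55438) (tt N7054 F55439) (tt N8561 (iv F70364)) (tt N5774 F55440) (tt N8562 (iv F70371)) (tt N5778 F55441) (tt N5773 (iv D11962)) (tt N7054 F55442) (tt N8474 (iv F69513)))
theorem Q7056 : ∀ i, i < 7056 → P i := stepQ 7055 Q7055 (allL N7055 (tt N8564 D15369) (tt N5775 (iv D11963)) (tt N5785 F55443) (tt N7055 F55444) (tt N7055 F55445) (tt N8371 (iv F68767)) (tt N8565 D15370) (tt N8559 F133040) (tt N7055 F55446) (tt N8475 (iv F69517)))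
theorem Q7057 : ∀ i, i < 7057 → P i := stepQ 7056 Q7056 (allL N7056 (tt N8559 (iv F70282)) (tt N8565 (iv F70380)) (tt N5776 F55447) (tt N7056 F55448) (tt N7056 F55449) (tt N8566 D15371) (tt N5775 (iv D11964)) (tt N8564 F133038) (tt N7056 F55450) (tt N8476 (iv F69521)))
theorem Q7058 : ∀ i, i < 7058 → P i := stepQ 7057 Q7057 (allL N7057 (tt N8392 F132951) (tt N5787 F55451) (tt N8566 (iv F70385)) (tt N5777 F55452) (tt N8567 D15373) (tt N5776 (iv D11965)) (tt N8373 (iv F68772)) (tt N8398 F132952) (tt N8568 D15375) (tt N8477 (iv F69524)))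
theorem Q7059 : ∀ i, i < 7059 → P i := stepQ 7058 Q7058 (allL N7058 (tt N5785 (iv F132520)) (tt N5788 F55453) (tt N8564 (iv F132524)) (tt N5778 F55454) (tt N7058 F55455) (tt N8398 (iv F132435)) (tt N8561 (iv F70366)) (tt N5776 (iv D11966)) (tt N7058 F55456) (tt N8478 (iv F69528)))
theorem Q7060 : ∀ i, i < 7060 → P i := stepQ 7059 Q7059 (allL N7059 (tt N5910 (iv F132166)) (tt N5790 F55461) (tt N7059 F55462) (tt N8568 (iv F70398)) (tt N5780 F55463) (tt N7059 F55464) (tt N8376 (iv F68782)) (tt N5791 F131967) (tt N5777 (iv D11968)) (tt N8516 (iv F132512)))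
theorem Q7061 : ∀ i, i < 7061 → P i := stepQ 7060 Q7060 (allL N7060 (tt N6148 (iv F132257)) (tt N5791 F55474) (tt N5802 (iv F132532)) (tt N8567 (iv F70392)) (tt N5779 (iv D11971)) (tt N7060 F55475) (tt N8378 (iv F68793)) (tt N5790 F131965) (tt N5789 F131966) (tt N8480 (iv F69550)))
theorem Q7062 : ∀ i, i < 7062 → P i := stepQ 7061 Q7061 (allL N7061 (tt N6116 F132780) (tt N8560 (iv F70361)) (tt N6103 F132781) (tt N5783 F55502) (tt N8569 D15393) (tt N5782 (iv D11979)) (tt N8394 (iv F68872)) (tt N8570 D15394) (tt N8571 D15395) (tt N8503 (iv F69686)))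
theorem Q7063 : ∀ i, i < 7063 → P i := stepQ 7062 Q7062 (allL N7062 (tt N6246 F132525) (tt N8561 (iv F70363)) (tt N6245 F132526) (tt N5784 F55504) (tt N7062 F55505) (tt N8570 (iv F70476)) (tt N5788 F55506) (tt N5782 (iv D11980)) (tt N7062 F55507) (tt N8504 (iv F69691)))
theorem Q7064 : ∀ i, i < 7064 → P i := stepQ 7063 Q7063 (allL N7063 (tt N6249 F55508) (tt N8562 (iv F70368)) (tt N5794 F55509) (tt N8570 (iv F70475)) (tt N7063 F55510) (tt N5784 F55511) (tt N8572 D15396) (tt N5783 (iv D11981)) (tt N8573 D15397) (tt N8505 (iv F69696)))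
theorem Q7065 : ∀ i, i < 7065 → P i := stepQ 7064 Q7064 (allL N7064 (tt N6250 F55512) (tt N8563 (iv F70372)) (tt N5795 F55513) (tt N8571 (iv F70478)) (tt N7064 F55514) (tt N7064 F55515) (tt N8397 (iv F68886)) (tt N8573 (iv F70488)) (tt N5783 (iv D11982)) (tt N8574 D15398))
theorem Q7066 : ∀ i, i < 7066 → P i := stepQ 7065 Q7065 (allL N7065 (tt N8561 F133032) (tt N5786 F55520) (tt N8565 (iv F70381)) (tt N5796 F55521) (tt N7065 F55522) (tt N8575 D15400) (tt N5785 (iv D11984)) (tt N8556 F133033) (tt N7065 F55523) (tt N8507 (iv F69707)))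
theorem Q7067 : ∀ i, i < 7067 → P i := stepQ 7066 Q7066 (allL N7066 (tt N6251 F55524) (tt N8575 (iv F70498)) (tt N5787 F55525) (tt N5797 F55526) (tt N8576 D15402) (tt N5786 (iv D11985)) (tt N8400 (iv F68895)) (tt N8577 D15403) (tt N8578 D15404) (tt N8508 (iv F69711)))
theorem Q7068 : ∀ i, i < 7068 → P i := stepQ 7067 Q7067 (allL N7067 (tt N6247 F132527) (tt N8556 F132528) (tt N5788 F55528) (tt N5798 F55529) (tt N7067 F55530) (tt N8577 (iv F70511)) (tt N6245 F132529) (tt N5786 (iv D11986)) (tt N7067 F55531) (tt N8509 (iv F69716)))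
theorem Q7069 : ∀ i, i < 7069 → P i := stepQ 7068 Q7068 (allL N7068 (tt N6252 F55532) (tt N8567 (iv F70391)) (tt N8576 (iv F70505)) (tt N5791 F55533) (tt N5787 (iv D11987)) (tt N7068 F55534) (tt N8402 (iv F68901)) (tt N8568 (iv F132523)) (tt N8398 F132913) (tt N8510 (iv F69720)))
theorem Q7070 : ∀ i, i < 7070 → P i := stepQ 7069 Q7069 (allL N7069 (tt N6133 F132826) (tt N8398 F132827) (tt N8577 (iv F70509)) (tt N5789 F55536) (tt N8568 (iv F132522)) (tt N5788 F55537) (tt N8579 D15407) (tt N5787 (iv D11988)) (tt N8567 (iv F132531)) (tt N8511 (iv F69724)))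
theorem Q7071 : ∀ i, i < 7071 → P i := stepQ 7070 Q7070 (allL N7070 (tt N6253 F55538) (tt N8568 (iv F70397)) (tt N8578 (iv F70513)) (tt N5790 F55539) (tt N8398 F132910) (tt N7070 F55540) (tt N8404 (iv F68907)) (tt N8567 (iv F132530)) (tt N5787 (iv D11989)) (tt N8580 D15409))
theorem Q7072 : ∀ i, i < 7072 → P i := stepQ 7071 Q7071 (allL N7071 (tt N6157 F132828) (tt N8409 (iv F132438)) (tt N5801 F55542) (tt N8579 (iv F70524)) (tt N5792 F55543) (tt N8572 (iv F70483)) (tt N5789 (iv D11990)) (tt N8405 (iv F68911)) (tt N8378 (iv F132460)) (tt N8513 (iv F69730)))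
theorem Q7073 : ∀ i, i < 7073 → P i := stepQ 7072 Q7072 (allL N7072 (tt N6254 F55549) (tt N8516 (iv F132511)) (tt N5803 F55550) (tt N8580 (iv F70530)) (tt N5793 F55551) (tt N7072 F55552) (tt N8407 (iv F68919)) (tt N8480 (iv F132508)) (tt N8515 (iv F69738)) (tt N5790 (iv D11992)))
theorem Q7074 : ∀ i, i < 7074 → P i := stepQ 7073 Q7073 (allL N7073 (tt N6255 F55608) (tt N7073 F55609) (tt N8572 (iv F70481)) (tt N6473 (iv F133054)) (tt N7073 F55610) (tt N5801 F55611) (tt N5794 (iv D12007)) (tt N8425 (iv F69062)) (tt N8581 D15431) (tt N8541 (iv F69961)))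
theorem Q7075 : ∀ i, i < 7075 → P i := stepQ 7074 Q7074 (allL N7074 (tt N6256 F55612) (tt N7074 F55613) (tt N8573 (iv F70485)) (tt N6467 F132920) (tt N7074 F55614) (tt N7074 F55615) (tt N8581 (iv F70619)) (tt N5795 F55616) (tt N5794 (iv D12008)) (tt N8582 D15432))
theorem Q7076 : ∀ i, i < 7076 → P i := stepQ 7075 Q7075 (allL N7075 (tt N6257 F55617) (tt N7075 F55618) (tt N8574 (iv F70490)) (tt N6469 F133959) (tt N7075 F55619) (tt N7075 F55620) (tt N8427 (iv F69072)) (tt N8582 (iv F70624)) (tt N8543 (iv F69969)) (tt N5795 (iv D12009)))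
theorem Q7077 : ∀ i, i < 7077 → P i := stepQ 7076 Q7076 (allL N7076 (tt N8562 F133035) (tt N5797 F55626) (tt N7076 F55627) (tt N8575 (iv F70499)) (tt N7076 F55628) (tt N5796 (iv D12011)) (tt N8428 (iv F69080)) (tt N8557 F133036) (tt N8583 D15436) (tt N8544 (iv F69978)))
theorem Q7078 : ∀ i, i < 7078 → P i := stepQ 7077 Q7077 (allL N7077 (tt N6248 F132534) (tt N8557 F132535) (tt N5799 F55634) (tt N8577 (iv F70510)) (tt N7077 F55635) (tt N5798 F55636) (tt N8584 D15437) (tt N5797 (iv D12013)) (tt N8585 D15438) (tt N8545 (iv F69987)))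
theorem Q7079 : ∀ i, i < 7079 → P i := stepQ 7078 Q7078 (allL N7078 (tt N6258 F55637) (tt N8583 (iv F70638)) (tt N5800 F55638) (tt N8578 (iv F70514)) (tt N7078 F55639) (tt N7078 F55640) (tt N8431 (iv F69091)) (tt N8585 (iv F70649)) (tt N5797 (iv D12014)) (tt N8586 D15439))
theorem Q7080 : ∀ i, i < 7080 → P i := stepQ 7079 Q7079 (allL N7079 (tt N6259 F55641) (tt N7079 F55642) (tt N8584 (iv F70643)) (tt N5801 F55643) (tt N7079 F55644) (tt N6473 (iv F133055)) (tt N5799 (iv D12015)) (tt N8432 (iv F69096)) (tt N8587 D15440) (tt N8547 (iv F69995)))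
theorem Q7081 : ∀ i, i < 7081 → P i := stepQ 7080 Q7080 (allL N7080 (tt N6260 F55645) (tt N7080 F55646) (tt N8585 (iv F70646)) (tt N5802 F55647) (tt N7080 F55648) (tt N7080 F55649) (tt N8587 (iv F70658)) (tt N5800 F55650) (tt N5799 (iv D12016)) (tt N8588 D15441))
theorem Q7082 : ∀ i, i < 7082 → P i := stepQ 7081 Q7081 (allL N7081 (tt N6261 F55651) (tt N7081 F55652) (tt N8586 (iv F70651)) (tt N5803 F55653) (tt N7081 F55654) (tt N7081 F55655) (tt N8434 (iv F69106)) (tt N8588 (iv F70664)) (tt N8549 (iv F70005)) (tt N5800 (iv D12017)))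
theorem Q7083 : ∀ i, i < 7083 → P i := stepQ 7082 Q7082 (allL N7082 (tt N6262 F55656) (tt N7082 F55657) (tt N8378 (iv F132459)) (tt N8587 (iv F70656)) (tt N5804 F55658) (tt N8589 D15442) (tt N5802 F55659) (tt N8435 (iv F69111)) (tt N5801 (iv D12018)) (tt N8590 D15443))
theorem Q7084 : ∀ i, i < 7084 → P i := stepQ 7083 Q7083 (allL N7083 (tt N6263 F55660) (tt N7083 F55661) (tt N8480 F133019) (tt N8588 (iv F70661)) (tt N5805 F55662) (tt N7083 F55663) (tt N8590 (iv F70671)) (tt N5803 F55664) (tt N8551 (iv F70014)) (tt N5802 (iv D12019)))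
theorem Q7085 : ∀ i, i < 7085 → P i := stepQ 7084 Q7084 (allL N7084 (tt N6265 F55670) (tt N7084 F55671) (tt N8234 (iv F132457)) (tt N7084 F55672) (tt N8590 (iv F70670)) (tt N8233 F132973) (tt N5805 F55673) (tt N8437 (iv F69126)) (tt N8553 (iv F70024)) (tt N5804 (iv D12021)))
theorem Q7086 : ∀ i, i < 7086 → P i := stepQ 7085 Q7085 (allL N7085 (tt N8462 (iv F69449)) (tt N5808 F55928) (tt N7085 F55929) (tt N8591 D15499) (tt N5806 (iv D12072)) (tt N5816 F55930) (tt N8592 D15500) (tt N7085 F55931) (tt N7085 F55932) (tt N7085 F55933))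
theorem Q7087 : ∀ i, i < 7087 → P i := stepQ 7086 Q7086 (allL N7086 (tt N8463 (iv F69456)) (tt N5809 F55934) (tt N7086 F55935) (tt N7086 F55936) (tt N8592 (iv F70989)) (tt N8448 (iv F69324)) (tt N5806 (iv D12073)) (tt N8554 (iv F133772)) (tt N7086 F55937) (tt N7086 F55938))
theorem Q7088 : ∀ i, i < 7088 → P i := stepQ 7087 Q7087 (allL N7087 (tt N6184 F55939) (tt N8447 (iv F69314)) (tt N5810 F55940) (tt N8593 D15502) (tt N5807 (iv D12074)) (tt N5822 F55941) (tt N8534 (iv F133459)) (tt N6179 F55942) (tt N6180 F55943) (tt N7087 F55944))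
theorem Q7089 : ∀ i, i < 7089 → P i := stepQ 7088 Q7088 (allL N7088 (tt N7975 (iv F66570)) (tt N8591 (iv F70981)) (tt N7088 F55951) (tt N5808 (iv D12076)) (tt N7088 F55952) (tt N5824 F55953) (tt N8201 F134251) (tt N7088 F55954) (tt N7088 F55955) (tt N7088 F55956))
theorem Q7090 : ∀ i, i < 7090 → P i := stepQ 7089 Q7089 (allL N7089 (tt N7976 (iv F66578)) (tt N8592 (iv F70987)) (tt N5811 F55957) (tt N8201 (iv F133844)) (tt N5809 F55958) (tt N8594 D15506) (tt N5808 (iv D12077)) (tt N8014 F133027) (tt N7089 F55959) (tt N7089 F55960))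
theorem Q7091 : ∀ i, i < 7091 → P i := stepQ 7090 Q7090 (allL N7090 (tt N7977 (iv F66592)) (tt N7090 F55985) (tt N8594 (iv F71021)) (tt N7090 F55986) (tt N8536 F134348) (tt N5811 (iv D12082)) (tt N5836 F55987) (tt N8535 F134349) (tt N8595 D15513) (tt N7090 F55988))
theorem Q7092 : ∀ i, i < 7092 → P i := stepQ 7091 Q7091 (allL N7091 (tt N8554 F133011) (tt N5812 (iv D12090)) (tt N7091 F56036) (tt N7091 F56037) (tt N5851 F56038) (tt N8466 F133010) (tt N7091 F56039) (tt N8463 (iv F133767)) (tt N7091 F56040) (tt N7091 F56041))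
theorem Q7093 : ∀ i, i < 7093 → P i := stepQ 7092 Q7092 (allL N7092 (tt N5816 F56042) (tt N7978 (iv F66614)) (tt N7092 F56043) (tt N8596 D15522) (tt N5813 (iv D12091)) (tt N8462 (iv F69452)) (tt N8597 D15523) (tt N7092 F56044) (tt N5854 F56045) (tt N7092 F56046))
theorem Q7094 : ∀ i, i < 7094 → P i := stepQ 7093 Q7093 (allL N7093 (tt N5817 F56047) (tt N7979 (iv F66621)) (tt N7093 F56048) (tt N5924 F56049) (tt N8597 (iv F71119)) (tt N8458 (iv F69436)) (tt N5813 (iv D12092)) (tt N8598 D15524) (tt N5855 F56050) (tt N7093 F56051))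
theorem Q7095 : ∀ i, i < 7095 → P i := stepQ 7094 Q7094 (allL N7094 (tt N8215 (iv F67945)) (tt N5820 F56052) (tt N7094 F56053) (tt N5928 F56054) (tt N8599 D15525) (tt N5814 (iv D12093)) (tt N8600 D15526) (tt N8202 (iv F67874)) (tt N5815 F56055) (tt N8218 (iv F67965)))
theorem Q7096 : ∀ i, i < 7096 → P i := stepQ 7095 Q7095 (allL N7095 (tt N8457 (iv F69426)) (tt N5822 F56056) (tt N7095 F56057) (tt N8601 D15527) (tt N5815 (iv D12094)) (tt N8447 (iv F69316)) (tt N8602 D15528) (tt N8445 (iv F69305)) (tt N8599 (iv F71130)) (tt N7095 F56058))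
theorem Q7097 : ∀ i, i < 7097 → P i := stepQ 7096 Q7096 (allL N7096 (tt N8458 (iv F69432)) (tt N5823 F56059) (tt N7096 F56060) (tt N5931 F56061) (tt N8602 (iv F71141)) (tt N5817 F56062) (tt N5815 (iv D12095)) (tt N8603 D15529) (tt N8600 (iv F71135)) (tt N7096 F56063))
theorem Q7098 : ∀ i, i < 7098 → P i := stepQ 7097 Q7097 (allL N7097 (tt N8596 (iv F71112)) (tt N5824 F56064) (tt N8444 (iv F133417)) (tt N5816 (iv D12096)) (tt N5932 F56065) (tt N8591 (iv F70983)) (tt N8604 D15531) (tt N7097 F56066) (tt N5860 F56067) (tt N7097 F56068))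
theorem Q7099 : ∀ i, i < 7099 → P i := stepQ 7098 Q7098 (allL N7098 (tt N8597 (iv F71117)) (tt N5825 F56069) (tt N7098 F56070) (tt N8604 (iv F71155)) (tt N5817 F56071) (tt N8605 D15532) (tt N5816 (iv D12097)) (tt N8606 D15533) (tt N5861 F56072) (tt N7098 F56073))
theorem Q7100 : ∀ i, i < 7100 → P i := stepQ 7099 Q7099 (allL N7099 (tt N8598 (iv F71122)) (tt N5826 F56074) (tt N7099 F56075) (tt N5934 F56076) (tt N8606 (iv F71164)) (tt N8603 (iv F71146)) (tt N7099 F56077) (tt N5817 (iv D12098)) (tt N5862 F56078) (tt N7099 F56079))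
theorem Q7101 : ∀ i, i < 7101 → P i := stepQ 7100 Q7100 (allL N7100 (tt N6007 F56080) (tt N8203 (iv F67878)) (tt N5827 F56081) (tt N8204 (iv F67887)) (tt N8607 D15534) (tt N5818 (iv D12099)) (tt N8608 D15535) (tt N5999 F56082) (tt N6000 F56083) (tt N8015 (iv F66852)))
theorem Q7102 : ∀ i, i < 7102 → P i := stepQ 7101 Q7101 (allL N7101 (tt N6006 F56084) (tt N8202 (iv F67871)) (tt N5828 F56085) (tt N5938 F56086) (tt N8609 D15536) (tt N5819 (iv D12100)) (tt N8610 D15537) (tt N5820 F56087) (tt N5821 F56088) (tt N8119 (iv F67435)))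
theorem Q7103 : ∀ i, i < 7103 → P i := stepQ 7102 Q7102 (allL N7102 (tt N7983 (iv F66645)) (tt N8599 (iv F71128)) (tt N5829 F56089) (tt N8611 D15538) (tt N5820 (iv D12101)) (tt N8607 (iv F71170)) (tt N8612 D15539) (tt N8609 (iv F71180)) (tt N5822 F56090) (tt N8247 (iv F68084)))
theorem Q7104 : ∀ i, i < 7104 → P i := stepQ 7103 Q7103 (allL N7103 (tt N7984 (iv F66652)) (tt N8600 (iv F71131)) (tt N5830 F56091) (tt N5941 F56092) (tt N8612 (iv F71189)) (tt N5866 F56093) (tt N5820 (iv D12102)) (tt N8613 D15540) (tt N5823 F56094) (tt N8248 (iv F68090)))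
theorem Q7105 : ∀ i, i < 7105 → P i := stepQ 7104 Q7104 (allL N7104 (tt N6182 F56095) (tt N8445 (iv F69302)) (tt N5831 F56096) (tt N8614 D15541) (tt N5821 (iv D12103)) (tt N6179 F56097) (tt N8615 D15542) (tt N5822 F56098) (tt N8609 (iv F71181)) (tt N7104 F56099))
theorem Q7106 : ∀ i, i < 7106 → P i := stepQ 7105 Q7105 (allL N7105 (tt N6183 F56100) (tt N8446 (iv F69308)) (tt N5832 F56101) (tt N5943 F56102) (tt N8615 (iv F71202)) (tt N7105 F56103) (tt N5821 (iv D12104)) (tt N8616 D15543) (tt N8610 (iv F71185)) (tt N7105 F56104))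
theorem Q7107 : ∀ i, i < 7107 → P i := stepQ 7106 Q7106 (allL N7106 (tt N7985 (iv F66659)) (tt N8601 (iv F71136)) (tt N8617 D15544) (tt N5822 (iv D12105)) (tt N5944 F56105) (tt N8593 (iv F71000)) (tt N8618 D15545) (tt N8614 (iv F71198)) (tt N8611 (iv F71187)) (tt N7106 F56106))
theorem Q7108 : ∀ i, i < 7108 → P i := stepQ 7107 Q7107 (allL N7107 (tt N7986 (iv F66665)) (tt N8602 (iv F71139)) (tt N5834 F56107) (tt N8618 (iv F71213)) (tt N5823 F56108) (tt N8619 D15546) (tt N5822 (iv D12106)) (tt N8620 D15547) (tt N8612 (iv F71190)) (tt N7107 F56109))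
theorem Q7109 : ∀ i, i < 7109 → P i := stepQ 7108 Q7108 (allL N7108 (tt N7987 (iv F66670)) (tt N8603 (iv F71143)) (tt N5835 F56110) (tt N5946 F56111) (tt N8620 (iv F71220)) (tt N5826 F56112) (tt N8616 (iv F71208)) (tt N5823 (iv D12107)) (tt N8613 (iv F71194)) (tt N7108 F56113))
theorem Q7110 : ∀ i, i < 7110 → P i := stepQ 7109 Q7109 (allL N7109 (tt N7988 (iv F66677)) (tt N8604 (iv F71154)) (tt N7109 F56114) (tt N5825 F56115) (tt N5947 F56116) (tt N8621 D15548) (tt N5824 (iv D12108)) (tt N8622 D15549) (tt N5870 F56117) (tt N7109 F56118))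
theorem Q7111 : ∀ i, i < 7111 → P i := stepQ 7110 Q7110 (allL N7110 (tt N7989 (iv F66683)) (tt N8605 (iv F71159)) (tt N5836 F56119) (tt N8621 (iv F71223)) (tt N8619 (iv F71217)) (tt N5825 (iv D12109)) (tt N8594 (iv F71022)) (tt N8623 D15550) (tt N8624 D15551) (tt N7110 F56120))
theorem Q7112 : ∀ i, i < 7112 → P i := stepQ 7111 Q7111 (allL N7111 (tt N7990 (iv F66686)) (tt N8606 (iv F71162)) (tt N5837 F56121) (tt N8622 (iv F71226)) (tt N5826 F56122) (tt N8623 (iv F71232)) (tt N7111 F56123) (tt N5825 (iv D12110)) (tt N5872 F56124) (tt N7111 F56125))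
theorem Q7113 : ∀ i, i < 7113 → P i := stepQ 7112 Q7112 (allL N7112 (tt N6377 F56126) (tt N7112 F56127) (tt N8607 (iv F71169)) (tt N8542 F133878) (tt N5827 (iv D12111)) (tt N5829 F56128) (tt N8625 D15553) (tt N6368 F56129) (tt N6370 F56130) (tt N8275 (iv F68208)))
theorem Q7114 : ∀ i, i < 7114 → P i := stepQ 7113 Q7113 (allL N7113 (tt N6378 F56131) (tt N7113 F56132) (tt N8608 (iv F71174)) (tt N7113 F56133) (tt N8625 (iv F71244)) (tt N5874 F56134) (tt N5827 (iv D12112)) (tt N8626 D15554) (tt N6371 F56135) (tt N8276 (iv F68214)))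
theorem Q7115 : ∀ i, i < 7115 → P i := stepQ 7114 Q7114 (allL N7114 (tt N6375 F56136) (tt N7114 F56137) (tt N8609 (iv F71178)) (tt N8531 (iv F134475)) (tt N5828 (iv D12113)) (tt N6368 F56138) (tt N8627 D15556) (tt N5829 F56139) (tt N5831 F56140) (tt N8146 (iv F67569)))
theorem Q7116 : ∀ i, i < 7116 → P i := stepQ 7115 Q7115 (allL N7115 (tt N6376 F56141) (tt N7115 F56142) (tt N8610 (iv F71183)) (tt N5839 F56143) (tt N8627 (iv F71260)) (tt N8149 (iv F67585)) (tt N5828 (iv D12114)) (tt N8628 D15557) (tt N5832 F56144) (tt N8147 (iv F67575)))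
theorem Q7117 : ∀ i, i < 7117 → P i := stepQ 7116 Q7116 (allL N7116 (tt N7991 (iv F66692)) (tt N7116 F56145) (tt N8629 D15558) (tt N5829 (iv D12115)) (tt N5840 F56146) (tt N8542 F134338) (tt N8630 D15559) (tt N8531 (iv F134476)) (tt N5833 F56147) (tt N8287 (iv F68271)))
theorem Q7118 : ∀ i, i < 7118 → P i := stepQ 7117 Q7117 (allL N7117 (tt N7992 (iv F66699)) (tt N7117 F56148) (tt N8612 (iv F71188)) (tt N8630 (iv F71270)) (tt N5830 F56149) (tt N8631 D15560) (tt N5829 (iv D12116)) (tt N8632 D15561) (tt N5834 F56150) (tt N8288 (iv F68276)))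
theorem Q7119 : ∀ i, i < 7119 → P i := stepQ 7118 Q7118 (allL N7118 (tt N7993 (iv F66704)) (tt N7118 F56151) (tt N8613 (iv F71191)) (tt N5842 F56152) (tt N8632 (iv F71276)) (tt N5877 F56153) (tt N8628 (iv F71265)) (tt N5830 (iv D12117)) (tt N5835 F56154) (tt N8289 (iv F68282)))
theorem Q7120 : ∀ i, i < 7120 → P i := stepQ 7119 Q7119 (allL N7119 (tt N6533 F56161) (tt N7119 F56162) (tt N8615 (iv F71201)) (tt N8523 (iv F134645)) (tt N5832 F56163) (tt N8522 (iv F134646)) (tt N5831 (iv D12119)) (tt N8633 D15565) (tt N8627 (iv F71261)) (tt N7119 F56164))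
theorem Q7121 : ∀ i, i < 7121 → P i := stepQ 7120 Q7120 (allL N7120 (tt N6534 F56165) (tt N7120 F56166) (tt N8616 (iv F71205)) (tt N5845 F56167) (tt N8633 (iv F71295)) (tt N7120 F56168) (tt N5835 F56169) (tt N5832 (iv D12120)) (tt N8628 (iv F71266)) (tt N7120 F56170))
theorem Q7122 : ∀ i, i < 7122 → P i := stepQ 7121 Q7121 (allL N7121 (tt N7994 (iv F66711)) (tt N8634 D15566) (tt N5833 (iv D12121)) (tt N8617 (iv F71210)) (tt N5846 F56171) (tt N8496 F133012) (tt N8635 D15567) (tt N8495 (iv F133793)) (tt N8629 (iv F71268)) (tt N7121 F56172))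
theorem Q7123 : ∀ i, i < 7123 → P i := stepQ 7122 Q7122 (allL N7122 (tt N7995 (iv F66716)) (tt N7122 F56173) (tt N8635 (iv F71301)) (tt N5834 F56174) (tt N5847 F56175) (tt N8538 (iv F134447)) (tt N5833 (iv D12122)) (tt N8636 D15569) (tt N8630 (iv F71272)) (tt N7122 F56176))
theorem Q7124 : ∀ i, i < 7124 → P i := stepQ 7123 Q7123 (allL N7123 (tt N7996 (iv F66721)) (tt N7123 F56177) (tt N8619 (iv F71216)) (tt N8538 (iv F134446)) (tt N5836 F56178) (tt N5834 (iv D12123)) (tt N8536 F134354) (tt N8637 D15570) (tt N8638 D15571) (tt N7123 F56179))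
theorem Q7125 : ∀ i, i < 7125 → P i := stepQ 7124 Q7124 (allL N7124 (tt N7997 (iv F66726)) (tt N7124 F56180) (tt N8620 (iv F71219)) (tt N8636 (iv F71309)) (tt N5835 F56181) (tt N8637 (iv F71314)) (tt N8633 (iv F71296)) (tt N5834 (iv D12124)) (tt N8632 (iv F71277)) (tt N7124 F56182))
theorem Q7126 : ∀ i, i < 7126 → P i := stepQ 7125 Q7125 (allL N7125 (tt N7998 (iv F66731)) (tt N7125 F56183) (tt N8623 (iv F71231)) (tt N7125 F56184) (tt N8637 (iv F71313)) (tt N5837 F56185) (tt N8639 D15572) (tt N5836 (iv D12125)) (tt N8640 D15573) (tt N7125 F56186))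
theorem Q7127 : ∀ i, i < 7127 → P i := stepQ 7126 Q7126 (allL N7126 (tt N7999 (iv F66735)) (tt N7126 F56187) (tt N8624 (iv F71234)) (tt N7126 F56188) (tt N8638 (iv F71317)) (tt N5883 F56189) (tt N8595 (iv F71059)) (tt N8640 (iv F71325)) (tt N5836 (iv D12126)) (tt N8641 D15574))
theorem Q7128 : ∀ i, i < 7128 → P i := stepQ 7127 Q7127 (allL N7127 (tt N8000 (iv F66738)) (tt N7127 F56190) (tt N8642 D15575) (tt N5838 (iv D12127)) (tt N8531 F135155) (tt N7127 F56191) (tt N8643 D15576) (tt N5840 F56192) (tt N5843 F56193) (tt N8173 (iv F67703)))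
theorem Q7129 : ∀ i, i < 7129 → P i := stepQ 7128 Q7128 (allL N7128 (tt N8001 (iv F66745)) (tt N7128 F56194) (tt N5977 F56195) (tt N8643 (iv F71335)) (tt N5839 F56196) (tt N8644 D15577) (tt N5838 (iv D12128)) (tt N8645 D15578) (tt N5844 F56197) (tt N8174 (iv F67709)))
theorem Q7130 : ∀ i, i < 7130 → P i := stepQ 7129 Q7129 (allL N7129 (tt N8002 (iv F66751)) (tt N7129 F56198) (tt N5978 F56199) (tt N8628 (iv F71264)) (tt N8645 (iv F71342)) (tt N8178 (iv F67732)) (tt N5842 F56200) (tt N5839 (iv D12129)) (tt N5845 F56201) (tt N8175 (iv F67716)))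
theorem Q7131 : ∀ i, i < 7131 → P i := stepQ 7130 Q7130 (allL N7130 (tt N8003 (iv F66759)) (tt N8646 D15579) (tt N5840 (iv D12130)) (tt N5982 F56202) (tt N8629 (iv F71267)) (tt N7130 F56203) (tt N8647 D15580) (tt N8642 (iv F71332)) (tt N5846 F56204) (tt N8320 (iv F68430)))
theorem Q7132 : ∀ i, i < 7132 → P i := stepQ 7131 Q7131 (allL N7131 (tt N8004 (iv F66764)) (tt N7131 F56205) (tt N8647 (iv F71349)) (tt N5841 F56206) (tt N8630 (iv F71271)) (tt N8648 D15581) (tt N5840 (iv D12131)) (tt N8649 D15582) (tt N5847 F56207) (tt N8321 (iv F68435)))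
theorem Q7133 : ∀ i, i < 7133 → P i := stepQ 7132 Q7132 (allL N7132 (tt N8005 (iv F66769)) (tt N7132 F56208) (tt N5984 F56209) (tt N8648 (iv F71353)) (tt N5886 F56210) (tt N5841 (iv D12132)) (tt N7132 F56211) (tt N8650 D15583) (tt N7132 F56212) (tt N8322 (iv F68441)))
theorem Q7134 : ∀ i, i < 7134 → P i := stepQ 7133 Q7133 (allL N7133 (tt N8006 (iv F66776)) (tt N7133 F56213) (tt N5985 F56214) (tt N8649 (iv F71357)) (tt N5842 F56215) (tt N8650 (iv F71362)) (tt N8645 (iv F71343)) (tt N5841 (iv D12133)) (tt N5848 F56216) (tt N8323 (iv F68447)))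
theorem Q7135 : ∀ i, i < 7135 → P i := stepQ 7134 Q7134 (allL N7134 (tt N8007 (iv F66782)) (tt N8651 D15584) (tt N5843 (iv D12134)) (tt N5986 F56217) (tt N8495 F134448) (tt N5849 F56218) (tt N8652 D15585) (tt N5846 F56219) (tt N8642 (iv F71333)) (tt N7134 F56220))
theorem Q7136 : ∀ i, i < 7136 → P i := stepQ 7135 Q7135 (allL N7135 (tt N8008 (iv F66788)) (tt N7135 F56221) (tt N8652 (iv F71369)) (tt N5844 F56222) (tt N8523 F135335) (tt N8519 (iv F135369)) (tt N5843 (iv D12135)) (tt N8653 D15587) (tt N8643 (iv F71336)) (tt N7135 F56223))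
theorem Q7137 : ∀ i, i < 7137 → P i := stepQ 7136 Q7136 (allL N7136 (tt N8009 (iv F66793)) (tt N7136 F56224) (tt N5988 F56225) (tt N8519 (iv F135368)) (tt N7136 F56226) (tt N5844 (iv D12136)) (tt N5850 F56227) (tt N8654 D15588) (tt N8655 D15589) (tt N7136 F56228))
theorem Q7138 : ∀ i, i < 7138 → P i := stepQ 7137 Q7137 (allL N7137 (tt N8010 (iv F66799)) (tt N7137 F56229) (tt N5989 F56230) (tt N8653 (iv F71377)) (tt N5845 F56231) (tt N8654 (iv F71383)) (tt N5848 F56232) (tt N5844 (iv D12137)) (tt N8645 (iv F71344)) (tt N7137 F56233))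
theorem Q7139 : ∀ i, i < 7139 → P i := stepQ 7138 Q7138 (allL N7138 (tt N8656 D15590) (tt N5846 (iv D12138)) (tt N7138 F56234) (tt N5990 F56235) (tt N8634 (iv F71299)) (tt N5851 F56236) (tt N8657 D15591) (tt N8651 (iv F71367)) (tt N8646 (iv F71348)) (tt N7138 F56237))
theorem Q7140 : ∀ i, i < 7140 → P i := stepQ 7139 Q7139 (allL N7139 (tt N8012 (iv F66808)) (tt N8657 (iv F71394)) (tt N5847 F56238) (tt N5991 F56239) (tt N8635 (iv F71302)) (tt N7139 F56240) (tt N5846 (iv D12139)) (tt N8658 D15592) (tt N8647 (iv F71351)) (tt N7139 F56241))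
theorem Q7141 : ∀ i, i < 7141 → P i := stepQ 7140 Q7140 (allL N7140 (tt N8013 (iv F66813)) (tt N7140 F56242) (tt N8658 (iv F71399)) (tt N5848 F56243) (tt N8636 (iv F71310)) (tt N7140 F56244) (tt N8653 (iv F71378)) (tt N5847 (iv D12140)) (tt N8649 (iv F71358)) (tt N7140 F56245))
theorem Q7142 : ∀ i, i < 7142 → P i := stepQ 7141 Q7141 (allL N7141 (tt N8592 F134441) (tt N5849 (iv D12141)) (tt N7141 F56246) (tt N5993 F56247) (tt N8463 F134442) (tt N8651 (iv F71366)) (tt N8462 (iv F134612)) (tt N5851 F56248) (tt N7141 F56249) (tt N7141 F56250))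
theorem Q7143 : ∀ i, i < 7143 → P i := stepQ 7142 Q7142 (allL N7142 (tt N7953 F134388) (tt N7142 F56260) (tt N5996 F56261) (tt N7951 (iv F134610)) (tt N7142 F56262) (tt N7142 F56263) (tt N8655 (iv F71389)) (tt N7142 F56264) (tt N5850 (iv D12144)) (tt N7961 F134389))
theorem Q7144 : ∀ i, i < 7144 → P i := stepQ 7143 Q7143 (allL N7143 (tt N5851 (iv D12145)) (tt N8014 (iv F66841)) (tt N7143 F56265) (tt N5997 F56266) (tt N8554 F133843) (tt N8656 (iv F71392)) (tt N7143 F56267) (tt N8592 (iv F133771)) (tt N7143 F56268) (tt N7143 F56269))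
theorem Q7145 : ∀ i, i < 7145 → P i := stepQ 7144 Q7144 (allL N7144 (tt N5857 F56270) (tt N8015 (iv F66847)) (tt N7144 F56271) (tt N5999 F56272) (tt N8659 D15599) (tt N5852 (iv D12146)) (tt N8660 D15600) (tt N8204 (iv F67888)) (tt N5853 F56273) (tt N8203 (iv F67883)))
theorem Q7146 : ∀ i, i < 7146 → P i := stepQ 7145 Q7145 (allL N7145 (tt N5858 F56274) (tt N8016 (iv F66854)) (tt N7145 F56275) (tt N8661 D15601) (tt N5853 (iv D12147)) (tt N7145 F56276) (tt N8662 D15602) (tt N8346 (iv F68627)) (tt N8659 (iv F71434)) (tt N5891 F56277))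
theorem Q7147 : ∀ i, i < 7147 → P i := stepQ 7146 Q7146 (allL N7146 (tt N5859 F56278) (tt N8017 (iv F66860)) (tt N7146 F56279) (tt N6002 F56280) (tt N8662 (iv F71445)) (tt N5855 F56281) (tt N5853 (iv D12148)) (tt N8663 D15603) (tt N8660 (iv F71438)) (tt N5892 F56282))
theorem Q7148 : ∀ i, i < 7148 → P i := stepQ 7147 Q7147 (allL N7147 (tt N5860 F56283) (tt N8018 (iv F66866)) (tt N6177 (iv F133393)) (tt N5854 (iv D12149)) (tt N6003 F56284) (tt N7147 F56285) (tt N8664 D15605) (tt N7147 F56286) (tt N8596 (iv F71115)) (tt N5893 F56287))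
theorem Q7149 : ∀ i, i < 7149 → P i := stepQ 7148 Q7148 (allL N7148 (tt N5861 F56288) (tt N8019 (iv F66872)) (tt N7148 F56289) (tt N8664 (iv F71459)) (tt N5855 F56290) (tt N8665 D15606) (tt N5854 (iv D12150)) (tt N8666 D15607) (tt N8597 (iv F71120)) (tt N5894 F56291))
theorem Q7150 : ∀ i, i < 7150 → P i := stepQ 7149 Q7149 (allL N7149 (tt N5862 F56292) (tt N8020 (iv F66876)) (tt N7149 F56293) (tt N6005 F56294) (tt N8666 (iv F71468)) (tt N8663 (iv F71450)) (tt N7149 F56295) (tt N5855 (iv D12151)) (tt N8598 (iv F71126)) (tt N5895 F56296))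
theorem Q7151 : ∀ i, i < 7151 → P i := stepQ 7150 Q7150 (allL N7150 (tt N8218 (iv F67959)) (tt N5864 F56297) (tt N7150 F56298) (tt N8115 (iv F67410)) (tt N8667 D15608) (tt N5856 (iv D12152)) (tt N8668 D15609) (tt N8114 (iv F67404)) (tt N7150 F56299) (tt N8215 (iv F67951)))
theorem Q7152 : ∀ i, i < 7152 → P i := stepQ 7151 Q7151 (allL N7151 (tt N8659 (iv F71432)) (tt N5865 F56300) (tt N7151 F56301) (tt N8669 D15610) (tt N5857 (iv D12153)) (tt N8667 (iv F71473)) (tt N8670 D15611) (tt N8221 (iv F67978)) (tt N5858 F56302) (tt N8219 (iv F67970)))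
theorem Q7153 : ∀ i, i < 7153 → P i := stepQ 7152 Q7152 (allL N7152 (tt N8660 (iv F71435)) (tt N5866 F56303) (tt N7152 F56304) (tt N6010 F56305) (tt N8670 (iv F71483)) (tt N8600 (iv F71134)) (tt N5857 (iv D12154)) (tt N8671 D15612) (tt N5859 F56306) (tt N8220 (iv F67975)))
theorem Q7154 : ∀ i, i < 7154 → P i := stepQ 7153 Q7153 (allL N7153 (tt N8661 (iv F71439)) (tt N5867 F56307) (tt N8672 D15613) (tt N5858 (iv D12155)) (tt N6013 F56308) (tt N7153 F56309) (tt N8673 D15614) (tt N8360 (iv F68717)) (tt N8669 (iv F71480)) (tt N5896 F56310))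
theorem Q7155 : ∀ i, i < 7155 → P i := stepQ 7154 Q7154 (allL N7154 (tt N8662 (iv F71443)) (tt N5868 F56311) (tt N7154 F56312) (tt N8673 (iv F71494)) (tt N5859 F56313) (tt N8674 D15615) (tt N5858 (iv D12156)) (tt N8675 D15616) (tt N8670 (iv F71484)) (tt N5897 F56314))
theorem Q7156 : ∀ i, i < 7156 → P i := stepQ 7155 Q7155 (allL N7155 (tt N8663 (iv F71447)) (tt N5869 F56315) (tt N7155 F56316) (tt N6015 F56317) (tt N8675 (iv F71504)) (tt N5862 F56318) (tt N8362 (iv F68727)) (tt N5859 (iv D12157)) (tt N8671 (iv F71488)) (tt N5898 F56319))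
theorem Q7157 : ∀ i, i < 7157 → P i := stepQ 7156 Q7156 (allL N7156 (tt N8664 (iv F71458)) (tt N5870 F56326) (tt N8439 (iv F133401)) (tt N5861 F56327) (tt N6016 F56328) (tt N8676 D15618) (tt N5860 (iv D12159)) (tt N8677 D15619) (tt N8604 (iv F71157)) (tt N5899 F56329))
theorem Q7158 : ∀ i, i < 7158 → P i := stepQ 7157 Q7157 (allL N7157 (tt N8665 (iv F71462)) (tt N5871 F56330) (tt N7157 F56331) (tt N8676 (iv F71512)) (tt N8674 (iv F71499)) (tt N5861 (iv D12160)) (tt N7157 F56332) (tt N8678 D15620) (tt N8679 D15621) (tt N5900 F56333))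
theorem Q7159 : ∀ i, i < 7159 → P i := stepQ 7158 Q7158 (allL N7158 (tt N8666 (iv F71466)) (tt N5872 F56334) (tt N7158 F56335) (tt N8677 (iv F71516)) (tt N5862 F56336) (tt N8678 (iv F71522)) (tt N7158 F56337) (tt N5861 (iv D12161)) (tt N8606 (iv F71166)) (tt N5901 F56338))
theorem Q7160 : ∀ i, i < 7160 → P i := stepQ 7159 Q7159 (allL N7159 (tt N8030 (iv F66923)) (tt N8115 (iv F67408)) (tt N7159 F56339) (tt N5864 F56340) (tt N8680 D15622) (tt N5863 (iv D12162)) (tt N8681 D15623) (tt N8104 (iv F67353)) (tt N7159 F56341) (tt N8098 (iv F67318)))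
theorem Q7161 : ∀ i, i < 7161 → P i := stepQ 7160 Q7160 (allL N7160 (tt N8031 (iv F66930)) (tt N8667 (iv F71471)) (tt N5873 F56342) (tt N8682 D15624) (tt N5864 (iv D12163)) (tt N5865 F56343) (tt N8683 D15625) (tt N8242 (iv F68064)) (tt N7160 F56344) (tt N8240 (iv F68056)))
theorem Q7162 : ∀ i, i < 7162 → P i := stepQ 7161 Q7161 (allL N7161 (tt N8032 (iv F66937)) (tt N8668 (iv F71475)) (tt N5874 F56345) (tt N8681 (iv F71531)) (tt N8683 (iv F71536)) (tt N8608 (iv F71175)) (tt N5864 (iv D12164)) (tt N8684 D15626) (tt N7161 F56346) (tt N8241 (iv F68060)))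
theorem Q7163 : ∀ i, i < 7163 → P i := stepQ 7162 Q7162 (allL N7162 (tt N8033 (iv F66943)) (tt N8669 (iv F71478)) (tt N8685 D15627) (tt N5865 (iv D12165)) (tt N6030 F56347) (tt N8682 (iv F71533)) (tt N8686 D15628) (tt N8252 (iv F68109)) (tt N5867 F56348) (tt N8249 (iv F68095)))
theorem Q7164 : ∀ i, i < 7164 → P i := stepQ 7163 Q7163 (allL N7163 (tt N8034 (iv F66948)) (tt N8670 (iv F71481)) (tt N5876 F56349) (tt N8686 (iv F71543)) (tt N5866 F56350) (tt N8687 D15629) (tt N5865 (iv D12166)) (tt N8688 D15630) (tt N5868 F56351) (tt N8250 (iv F68100)))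
theorem Q7165 : ∀ i, i < 7165 → P i := stepQ 7164 Q7164 (allL N7164 (tt N8035 (iv F66953)) (tt N8671 (iv F71485)) (tt N5877 F56352) (tt N6032 F56353) (tt N8688 (iv F71548)) (tt N8613 (iv F71193)) (tt N8254 (iv F68120)) (tt N5866 (iv D12167)) (tt N5869 F56354) (tt N8251 (iv F68106)))
theorem Q7166 : ∀ i, i < 7166 → P i := stepQ 7165 Q7165 (allL N7165 (tt N8036 (iv F66959)) (tt N8689 D15631) (tt N5867 (iv D12168)) (tt N5878 F56355) (tt N6036 F56356) (tt N7165 F56357) (tt N8690 D15632) (tt N8383 (iv F68817)) (tt N8685 (iv F71542)) (tt N5902 F56358))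
theorem Q7167 : ∀ i, i < 7167 → P i := stepQ 7166 Q7166 (allL N7166 (tt N8037 (iv F66965)) (tt N8673 (iv F71493)) (tt N8690 (iv F71554)) (tt N5868 F56359) (tt N6037 F56360) (tt N8691 D15633) (tt N5867 (iv D12169)) (tt N8692 D15634) (tt N8686 (iv F71545)) (tt N5903 F56361))
theorem Q7168 : ∀ i, i < 7168 → P i := stepQ 7167 Q7167 (allL N7167 (tt N8038 (iv F66969)) (tt N8674 (iv F71497)) (tt N5880 F56362) (tt N8691 (iv F71558)) (tt N5871 F56363) (tt N5868 (iv D12170)) (tt N7167 F56364) (tt N8693 D15635) (tt N8694 D15636) (tt N5904 F56365))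
theorem Q7169 : ∀ i, i < 7169 → P i := stepQ 7168 Q7168 (allL N7168 (tt N8039 (iv F66974)) (tt N8675 (iv F71502)) (tt N5881 F56366) (tt N8692 (iv F71561)) (tt N5869 F56367) (tt N8693 (iv F71566)) (tt N8386 (iv F68831)) (tt N5868 (iv D12171)) (tt N8688 (iv F71549)) (tt N5905 F56368))
theorem Q7170 : ∀ i, i < 7170 → P i := stepQ 7169 Q7169 (allL N7169 (tt N8040 (iv F66979)) (tt N8676 (iv F71511)) (tt N7169 F56369) (tt N5871 F56370) (tt N8695 D15637) (tt N5870 (iv D12172)) (tt N7169 F56371) (tt N8696 D15638) (tt N8697 D15639) (tt N5906 F56372))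
theorem Q7171 : ∀ i, i < 7171 → P i := stepQ 7170 Q7170 (allL N7170 (tt N8041 (iv F66984)) (tt N8677 (iv F71515)) (tt N7170 F56373) (tt N5872 F56374) (tt N6041 F56375) (tt N8696 (iv F71577)) (tt N7170 F56376) (tt N5870 (iv D12173)) (tt N8622 (iv F71229)) (tt N5907 F56377))
theorem Q7172 : ∀ i, i < 7172 → P i := stepQ 7171 Q7171 (allL N7171 (tt N8042 (iv F66990)) (tt N8678 (iv F71520)) (tt N5882 F56378) (tt N8696 (iv F71576)) (tt N8693 (iv F71565)) (tt N5872 F56379) (tt N8698 D15640) (tt N5871 (iv D12174)) (tt N8699 D15641) (tt N5908 F56380))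
theorem Q7173 : ∀ i, i < 7173 → P i := stepQ 7172 Q7172 (allL N7172 (tt N8043 (iv F66994)) (tt N8679 (iv F71524)) (tt N5883 F56381) (tt N8697 (iv F71580)) (tt N8694 (iv F71569)) (tt N8624 (iv F71235)) (tt N7172 F56382) (tt N8699 (iv F71587)) (tt N5871 (iv D12175)) (tt N8700 D15642))
theorem Q7174 : ∀ i, i < 7174 → P i := stepQ 7173 Q7173 (allL N7173 (tt N8044 (iv F66997)) (tt N7173 F56383) (tt N8701 D15643) (tt N5873 (iv D12176)) (tt N7173 F56384) (tt N5875 F56385) (tt N8702 D15644) (tt N8280 (iv F68237)) (tt N7173 F56386) (tt N8277 (iv F68221)))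
theorem Q7175 : ∀ i, i < 7175 → P i := stepQ 7174 Q7174 (allL N7174 (tt N8045 (iv F67004)) (tt N7174 F56387) (tt N8683 (iv F71535)) (tt N8702 (iv F71595)) (tt N5874 F56388) (tt N8703 D15645) (tt N5873 (iv D12177)) (tt N8704 D15646) (tt N7174 F56389) (tt N8278 (iv F68226)))
theorem Q7176 : ∀ i, i < 7176 → P i := stepQ 7175 Q7175 (allL N7175 (tt N8046 (iv F67009)) (tt N7175 F56390) (tt N8684 (iv F71538)) (tt N7175 F56391) (tt N8704 (iv F71601)) (tt N8626 (iv F71249)) (tt N8282 (iv F68248)) (tt N5874 (iv D12178)) (tt N7175 F56392) (tt N8279 (iv F68232)))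
theorem Q7177 : ∀ i, i < 7177 → P i := stepQ 7176 Q7176 (allL N7176 (tt N8047 (iv F67016)) (tt N8705 D15647) (tt N5875 (iv D12179)) (tt N8685 (iv F71540)) (tt N5884 F56393) (tt N8701 (iv F71592)) (tt N8706 D15648) (tt N8294 (iv F68305)) (tt N5878 F56394) (tt N8290 (iv F68287)))
theorem Q7178 : ∀ i, i < 7178 → P i := stepQ 7177 Q7177 (allL N7177 (tt N8048 (iv F67021)) (tt N7177 F56395) (tt N8706 (iv F71606)) (tt N5876 F56396) (tt N5885 F56397) (tt N8707 D15649) (tt N5875 (iv D12180)) (tt N8708 D15650) (tt N5879 F56398) (tt N8291 (iv F68293)))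
theorem Q7179 : ∀ i, i < 7179 → P i := stepQ 7178 Q7178 (allL N7178 (tt N8049 (iv F67027)) (tt N7178 F56399) (tt N8687 (iv F71546)) (tt N8707 (iv F71610)) (tt N8631 (iv F71274)) (tt N5876 (iv D12181)) (tt N8703 (iv F71599)) (tt N8709 D15651) (tt N8710 D15652) (tt N8292 (iv F68296)))
theorem Q7180 : ∀ i, i < 7180 → P i := stepQ 7179 Q7179 (allL N7179 (tt N8050 (iv F67030)) (tt N7179 F56400) (tt N8688 (iv F71547)) (tt N8708 (iv F71612)) (tt N5877 F56401) (tt N8709 (iv F71616)) (tt N8297 (iv F68320)) (tt N5876 (iv D12182)) (tt N5881 F56402) (tt N8293 (iv F68302)))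
theorem Q7181 : ∀ i, i < 7181 → P i := stepQ 7180 Q7180 (allL N7180 (tt N8516 F132731) (tt N5878 (iv D12183)) (tt N7180 F56403) (tt N8689 (iv F71550)) (tt N5888 F56404) (tt N7180 F56405) (tt N8711 D15654) (tt N6214 F132732) (tt N8705 (iv F71605)) (tt N5910 F56406))
theorem Q7182 : ∀ i, i < 7182 → P i := stepQ 7181 Q7181 (allL N7181 (tt N8051 (iv F67041)) (tt N8711 (iv F71623)) (tt N5879 F56407) (tt N8690 (iv F71555)) (tt N5889 F56408) (tt N8712 D15655) (tt N5878 (iv D12184)) (tt N8713 D15656) (tt N8706 (iv F71608)) (tt N5911 F56409))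
theorem Q7183 : ∀ i, i < 7183 → P i := stepQ 7182 Q7182 (allL N7182 (tt N8052 (iv F67045)) (tt N7182 F56410) (tt N8712 (iv F71627)) (tt N5880 F56411) (tt N7182 F56412) (tt N5879 (iv D12185)) (tt N7182 F56413) (tt N8714 D15657) (tt N8715 D15658) (tt N5912 F56414))
theorem Q7184 : ∀ i, i < 7184 → P i := stepQ 7183 Q7183 (allL N7183 (tt N8053 (iv F67051)) (tt N7183 F56415) (tt N8713 (iv F71631)) (tt N5881 F56416) (tt N5890 F56417) (tt N8714 (iv F71637)) (tt N8413 (iv F68968)) (tt N5879 (iv D12186)) (tt N8708 (iv F71614)) (tt N5913 F56418))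
theorem Q7185 : ∀ i, i < 7185 → P i := stepQ 7184 Q7184 (allL N7184 (tt N8054 (iv F67057)) (tt N7184 F56419) (tt N8693 (iv F71564)) (tt N8714 (iv F71635)) (tt N5882 F56420) (tt N5881 F56421) (tt N8716 D15659) (tt N5880 (iv D12187)) (tt N8717 D15660) (tt N5914 F56422))
theorem Q7186 : ∀ i, i < 7186 → P i := stepQ 7185 Q7185 (allL N7185 (tt N8055 (iv F67062)) (tt N7185 F56423) (tt N8694 (iv F71568)) (tt N8715 (iv F71640)) (tt N5883 F56424) (tt N8710 (iv F71618)) (tt N7185 F56425) (tt N8717 (iv F71649)) (tt N5880 (iv D12188)) (tt N8718 D15661))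
theorem Q7187 : ∀ i, i < 7187 → P i := stepQ 7186 Q7186 (allL N7186 (tt N8056 (iv F67066)) (tt N7186 F56426) (tt N8698 (iv F71582)) (tt N7186 F56427) (tt N8716 (iv F71644)) (tt N7186 F56428) (tt N5882 (iv D12189)) (tt N7186 F56429) (tt N8719 D15662) (tt N5916 F56430))
theorem Q7188 : ∀ i, i < 7188 → P i := stepQ 7187 Q7187 (allL N7187 (tt N8057 (iv F67071)) (tt N7187 F56431) (tt N8699 (iv F71586)) (tt N7187 F56432) (tt N8717 (iv F71648)) (tt N8640 (iv F71324)) (tt N8719 (iv F71656)) (tt N5883 F56433) (tt N5882 (iv D12190)) (tt N8720 D15663))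
theorem Q7189 : ∀ i, i < 7189 → P i := stepQ 7188 Q7188 (allL N7188 (tt N8058 (iv F67074)) (tt N7188 F56434) (tt N8700 (iv F71588)) (tt N7188 F56435) (tt N8718 (iv F71651)) (tt N8641 (iv F71328)) (tt N7188 F56436) (tt N8720 (iv F71660)) (tt N5918 F56437) (tt N5883 (iv D12191)))
theorem Q7190 : ∀ i, i < 7190 → P i := stepQ 7189 Q7189 (allL N7189 (tt N8482 F132735) (tt N5884 (iv D12192)) (tt N7189 F56438) (tt N6088 F56439) (tt N8705 (iv F71604)) (tt N7189 F56440) (tt N8721 D15665) (tt N6215 F132739) (tt N5888 F56441) (tt N8324 (iv F68453)))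
theorem Q7191 : ∀ i, i < 7191 → P i := stepQ 7190 Q7190 (allL N7190 (tt N8059 (iv F67084)) (tt N8721 (iv F71666)) (tt N5885 F56442) (tt N6089 F56443) (tt N8706 (iv F71607)) (tt N8722 D15666) (tt N5884 (iv D12193)) (tt N8723 D15667) (tt N5889 F56444) (tt N8325 (iv F68458)))
theorem Q7192 : ∀ i, i < 7192 → P i := stepQ 7191 Q7191 (allL N7191 (tt N8060 (iv F67089)) (tt N7191 F56445) (tt N8722 (iv F71670)) (tt N5886 F56446) (tt N8724 D15668) (tt N5885 (iv D12194)) (tt N7191 F56447) (tt N8725 D15669) (tt N7191 F56448) (tt N8326 (iv F68463)))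
theorem Q7193 : ∀ i, i < 7193 → P i := stepQ 7192 Q7192 (allL N7192 (tt N8061 (iv F67095)) (tt N7192 F56449) (tt N8723 (iv F71674)) (tt N5887 F56450) (tt N8708 (iv F71613)) (tt N8725 (iv F71682)) (tt N8332 (iv F68500)) (tt N5885 (iv D12195)) (tt N5890 F56451) (tt N8327 (iv F68469)))
theorem Q7194 : ∀ i, i < 7194 → P i := stepQ 7193 Q7193 (allL N7193 (tt N8062 (iv F67101)) (tt N7193 F56452) (tt N6092 F56453) (tt N8725 (iv F71681)) (tt N8650 (iv F71361)) (tt N5887 F56454) (tt N8726 D15670) (tt N5886 (iv D12196)) (tt N7193 F56455) (tt N8328 (iv F68474)))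
theorem Q7195 : ∀ i, i < 7195 → P i := stepQ 7194 Q7194 (allL N7194 (tt N8382 F132734) (tt N5889 F56460) (tt N7194 F56461) (tt N6096 F56462) (tt N8711 (iv F71625)) (tt N7194 F56463) (tt N5888 (iv D12198)) (tt N8727 D15672) (tt N8721 (iv F71669)) (tt N5919 F56464))
theorem Q7196 : ∀ i, i < 7196 → P i := stepQ 7195 Q7195 (allL N7195 (tt N8063 (iv F67118)) (tt N8727 (iv F71693)) (tt N5890 F56465) (tt N6097 F56466) (tt N8713 (iv F71632)) (tt N7195 F56467) (tt N8438 (iv F69145)) (tt N5889 (iv D12199)) (tt N8723 (iv F71676)) (tt N5920 F56468))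
theorem Q7197 : ∀ i, i < 7197 → P i := stepQ 7196 Q7196 (allL N7196 (tt N5896 F56469) (tt N8064 (iv F67125)) (tt N8569 (iv F133362)) (tt N5891 (iv D12200)) (tt N6103 F56470) (tt N7196 F56471) (tt N8728 D15674) (tt N8348 (iv F68639)) (tt N8351 (iv F68658)) (tt N8661 (iv F71442)))
theorem Q7198 : ∀ i, i < 7198 → P i := stepQ 7197 Q7197 (allL N7197 (tt N5897 F56472) (tt N8065 (iv F67131)) (tt N7197 F56473) (tt N8728 (iv F71703)) (tt N5892 F56474) (tt N8729 D15675) (tt N5891 (iv D12201)) (tt N8730 D15676) (tt N8352 (iv F68663)) (tt N8662 (iv F71446)))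
theorem Q7199 : ∀ i, i < 7199 → P i := stepQ 7198 Q7198 (allL N7198 (tt N5898 F56475) (tt N8066 (iv F67136)) (tt N7198 F56476) (tt N6105 F56477) (tt N8730 (iv F71711)) (tt N5895 F56478) (tt N8350 (iv F68651)) (tt N5892 (iv D12202)) (tt N8353 (iv F68670)) (tt N8663 (iv F71451)))
theorem Q7200 : ∀ i, i < 7200 → P i := stepQ 7199 Q7199 (allL N7199 (tt N5899 F56485) (tt N8067 (iv F67148)) (tt N6175 (iv F133391)) (tt N5894 F56486) (tt N6106 F56487) (tt N8731 D15679) (tt N5893 (iv D12204)) (tt N8732 D15680) (tt N7199 F56488) (tt N8664 (iv F71461)))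
theorem Q7201 : ∀ i, i < 7201 → P i := stepQ 7200 Q7200 (allL N7200 (tt N5900 F56489) (tt N8068 (iv F67153)) (tt N7200 F56490) (tt N8731 (iv F71724)) (tt N8729 (iv F71707)) (tt N5894 (iv D12205)) (tt N7200 F56491) (tt N8733 D15681) (tt N8734 D15682) (tt N8665 (iv F71465)))
theorem Q7202 : ∀ i, i < 7202 → P i := stepQ 7201 Q7201 (allL N7201 (tt N5901 F56492) (tt N8069 (iv F67156)) (tt N7201 F56493) (tt N8732 (iv F71727)) (tt N5895 F56494) (tt N8733 (iv F71733)) (tt N7201 F56495) (tt N5894 (iv D12206)) (tt N7201 F56496) (tt N8666 (iv F71470)))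
theorem Q7203 : ∀ i, i < 7203 → P i := stepQ 7202 Q7202 (allL N7202 (tt N8569 (iv F133361)) (tt N8735 D15683) (tt N5896 (iv D12207)) (tt N7202 F56497) (tt N6116 F56498) (tt N7202 F56499) (tt N8736 D15684) (tt N8363 (iv F68732)) (tt N8367 (iv F68751)) (tt N8672 (iv F71492)))
theorem Q7204 : ∀ i, i < 7204 → P i := stepQ 7203 Q7203 (allL N7203 (tt N8728 (iv F71702)) (tt N5903 F56500) (tt N8736 (iv F71742)) (tt N5897 F56501) (tt N6117 F56502) (tt N8737 D15685) (tt N5896 (iv D12208)) (tt N8738 D15686) (tt N8368 (iv F68755)) (tt N8673 (iv F71496)))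
theorem Q7205 : ∀ i, i < 7205 → P i := stepQ 7204 Q7204 (allL N7204 (tt N8729 (iv F71705)) (tt N5904 F56503) (tt N7204 F56504) (tt N8737 (iv F71746)) (tt N5900 F56505) (tt N5897 (iv D12209)) (tt N7204 F56506) (tt N8739 D15687) (tt N8740 D15688) (tt N8674 (iv F71501)))
theorem Q7206 : ∀ i, i < 7206 → P i := stepQ 7205 Q7205 (allL N7205 (tt N8730 (iv F71709)) (tt N5905 F56507) (tt N7205 F56508) (tt N8738 (iv F71749)) (tt N5898 F56509) (tt N8739 (iv F71754)) (tt N8366 (iv F68745)) (tt N5897 (iv D12210)) (tt N8370 (iv F68764)) (tt N8675 (iv F71505)))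
theorem Q7207 : ∀ i, i < 7207 → P i := stepQ 7206 Q7206 (allL N7206 (tt N8731 (iv F71723)) (tt N5906 F56515) (tt N8418 (iv F133399)) (tt N5900 F56516) (tt N8416 (iv F133405)) (tt N5899 (iv D12212)) (tt N7206 F56517) (tt N8741 D15692) (tt N8742 D15693) (tt N8676 (iv F71514)))
theorem Q7208 : ∀ i, i < 7208 → P i := stepQ 7207 Q7207 (allL N7207 (tt N8732 (iv F71726)) (tt N5907 F56518) (tt N8443 (iv F133400)) (tt N5901 F56519) (tt N6120 F56520) (tt N8741 (iv F71774)) (tt N7207 F56521) (tt N5899 (iv D12213)) (tt N7207 F56522) (tt N8677 (iv F71519)))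
theorem Q7209 : ∀ i, i < 7209 → P i := stepQ 7208 Q7208 (allL N7208 (tt N8733 (iv F71731)) (tt N5908 F56523) (tt N7208 F56524) (tt N8741 (iv F71773)) (tt N8739 (iv F71753)) (tt N5901 F56525) (tt N8743 D15694) (tt N5900 (iv D12214)) (tt N8744 D15695) (tt N8678 (iv F71523)))
theorem Q7210 : ∀ i, i < 7210 → P i := stepQ 7209 Q7209 (allL N7209 (tt N8734 (iv F71734)) (tt N5909 F56526) (tt N7209 F56527) (tt N8742 (iv F71776)) (tt N8740 (iv F71757)) (tt N7209 F56528) (tt N7209 F56529) (tt N8744 (iv F71786)) (tt N5900 (iv D12215)) (tt N8745 D15696))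
theorem Q7211 : ∀ i, i < 7211 → P i := stepQ 7210 Q7210 (allL N7210 (tt N8568 F132724) (tt N5902 (iv D12216)) (tt N8735 (iv F71738)) (tt N5910 F56530) (tt N6133 F56531) (tt N7210 F56532) (tt N8746 D15698) (tt N6252 F132727) (tt N8392 (iv F68864)) (tt N8689 (iv F71553)))
theorem Q7212 : ∀ i, i < 7212 → P i := stepQ 7211 Q7211 (allL N7211 (tt N8079 (iv F67200)) (tt N8746 (iv F71794)) (tt N5903 F56533) (tt N5911 F56534) (tt N6134 F56535) (tt N8747 D15699) (tt N5902 (iv D12217)) (tt N8748 D15700) (tt N8393 (iv F68869)) (tt N8690 (iv F71557)))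
theorem Q7213 : ∀ i, i < 7213 → P i := stepQ 7212 Q7212 (allL N7212 (tt N8080 (iv F67205)) (tt N8737 (iv F71745)) (tt N8747 (iv F71797)) (tt N5904 F56536) (tt N8749 D15701) (tt N5903 (iv D12218)) (tt N7212 F56537) (tt N8750 D15702) (tt N8751 D15703) (tt N8691 (iv F71560)))
theorem Q7214 : ∀ i, i < 7214 → P i := stepQ 7213 Q7213 (allL N7213 (tt N8081 (iv F67208)) (tt N8738 (iv F71748)) (tt N8748 (iv F71800)) (tt N5905 F56538) (tt N6136 F56539) (tt N8750 (iv F71807)) (tt N8389 (iv F68849)) (tt N5903 (iv D12219)) (tt N8395 (iv F68877)) (tt N8692 (iv F71563)))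
theorem Q7215 : ∀ i, i < 7215 → P i := stepQ 7214 Q7214 (allL N7214 (tt N8082 (iv F67213)) (tt N8739 (iv F71751)) (tt N5914 F56540) (tt N8750 (iv F71806)) (tt N5908 F56541) (tt N5905 F56542) (tt N8752 D15704) (tt N5904 (iv D12220)) (tt N8753 D15705) (tt N8693 (iv F71567)))
theorem Q7216 : ∀ i, i < 7216 → P i := stepQ 7215 Q7215 (allL N7215 (tt N8083 (iv F67217)) (tt N8740 (iv F71755)) (tt N5915 F56543) (tt N8751 (iv F71808)) (tt N5909 F56544) (tt N8397 (iv F68885)) (tt N7215 F56545) (tt N8753 (iv F71815)) (tt N5904 (iv D12221)) (tt N8754 D15706))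
theorem Q7217 : ∀ i, i < 7217 → P i := stepQ 7216 Q7216 (allL N7216 (tt N8084 (iv F67222)) (tt N8416 (iv F133404)) (tt N7216 F56546) (tt N8749 (iv F71803)) (tt N5906 (iv D12222)) (tt N6139 F56547) (tt N7216 F56548) (tt N8755 D15707) (tt N8756 D15708) (tt N8695 (iv F71574)))
theorem Q7218 : ∀ i, i < 7218 → P i := stepQ 7217 Q7217 (allL N7217 (tt N8085 (iv F67226)) (tt N8741 (iv F71772)) (tt N7217 F56549) (tt N5908 F56550) (tt N8755 (iv F71820)) (tt N5907 F56551) (tt N8757 D15709) (tt N5906 (iv D12223)) (tt N8758 D15710) (tt N8696 (iv F71578)))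
theorem Q7219 : ∀ i, i < 7219 → P i := stepQ 7218 Q7218 (allL N7218 (tt N8086 (iv F67230)) (tt N8742 (iv F71775)) (tt N7218 F56552) (tt N5909 F56553) (tt N8756 (iv F71823)) (tt N7218 F56554) (tt N7218 F56555) (tt N8758 (iv F71832)) (tt N5906 (iv D12224)) (tt N8759 D15711))
theorem Q7220 : ∀ i, i < 7220 → P i := stepQ 7219 Q7219 (allL N7219 (tt N8087 (iv F67235)) (tt N8743 (iv F71779)) (tt N5916 F56556) (tt N8757 (iv F71826)) (tt N8752 (iv F71811)) (tt N7219 F56557) (tt N5908 (iv D12225)) (tt N7219 F56558) (tt N8760 D15712) (tt N8698 (iv F71585)))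
theorem Q7221 : ∀ i, i < 7221 → P i := stepQ 7220 Q7220 (allL N7220 (tt N8088 (iv F67239)) (tt N8744 (iv F71783)) (tt N5917 F56559) (tt N8758 (iv F71830)) (tt N8753 (iv F71814)) (tt N7220 F56560) (tt N8760 (iv F71838)) (tt N5909 F56561) (tt N5908 (iv D12226)) (tt N8761 D15713))
theorem Q7222 : ∀ i, i < 7222 → P i := stepQ 7221 Q7221 (allL N7221 (tt N8089 (iv F67243)) (tt N8745 (iv F71787)) (tt N5918 F56562) (tt N8759 (iv F71834)) (tt N8754 (iv F71817)) (tt N7221 F56563) (tt N7221 F56564) (tt N8761 (iv F71842)) (tt N8700 (iv F71590)) (tt N5909 (iv D12227)))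
theorem Q7223 : ∀ i, i < 7223 → P i := stepQ 7222 Q7222 (allL N7222 (tt N8376 F132728) (tt N5911 F56568) (tt N7222 F56569) (tt N8746 (iv F71795)) (tt N5919 F56570) (tt N8762 D15715) (tt N5910 (iv D12229)) (tt N8763 D15716) (tt N8356 F132729) (tt N8711 (iv F71626)))
theorem Q7224 : ∀ i, i < 7224 → P i := stepQ 7223 Q7223 (allL N7223 (tt N8090 (iv F67257)) (tt N8762 (iv F71846)) (tt N5912 F56571) (tt N8747 (iv F71798)) (tt N7223 F56572) (tt N5911 (iv D12230)) (tt N7223 F56573) (tt N8764 D15717) (tt N8765 D15718) (tt N8712 (iv F71630)))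
theorem Q7225 : ∀ i, i < 7225 → P i := stepQ 7224 Q7224 (allL N7224 (tt N8091 (iv F67261)) (tt N8763 (iv F71850)) (tt N5913 F56574) (tt N8748 (iv F71801)) (tt N5920 F56575) (tt N8764 (iv F71855)) (tt N8417 (iv F68995)) (tt N5911 (iv D12231)) (tt N8424 (iv F69043)) (tt N8713 (iv F71633)))
theorem Q7226 : ∀ i, i < 7226 → P i := stepQ 7225 Q7225 (allL N7225 (tt N8092 (iv F67266)) (tt N7225 F56576) (tt N8764 (iv F71853)) (tt N5914 F56577) (tt N7225 F56578) (tt N5913 F56579) (tt N8766 D15719) (tt N5912 (iv D12232)) (tt N8767 D15720) (tt N8714 (iv F71638)))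
theorem Q7227 : ∀ i, i < 7227 → P i := stepQ 7226 Q7226 (allL N7226 (tt N6482 F133960) (tt N7226 F56580) (tt N8765 (iv F71856)) (tt N5915 F56581) (tt N7226 F56582) (tt N6471 F133961) (tt N7226 F56583) (tt N8767 (iv F71866)) (tt N5912 (iv D12233)) (tt N8768 D15721))
theorem Q7228 : ∀ i, i < 7228 → P i := stepQ 7227 Q7227 (allL N7227 (tt N8093 (iv F67277)) (tt N7227 F56584) (tt N8752 (iv F71810)) (tt N8766 (iv F71860)) (tt N5916 F56585) (tt N8421 (iv F69014)) (tt N5914 (iv D12234)) (tt N7227 F56586) (tt N8769 D15722) (tt N8716 (iv F71646)))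
theorem Q7229 : ∀ i, i < 7229 → P i := stepQ 7228 Q7228 (allL N7228 (tt N8094 (iv F67282)) (tt N7228 F56587) (tt N8753 (iv F71813)) (tt N8767 (iv F71864)) (tt N5917 F56588) (tt N8426 (iv F69066)) (tt N8769 (iv F71873)) (tt N5915 F56589) (tt N5914 (iv D12235)) (tt N8770 D15723))
theorem Q7230 : ∀ i, i < 7230 → P i := stepQ 7229 Q7229 (allL N7229 (tt N8095 (iv F67287)) (tt N7229 F56590) (tt N8754 (iv F71816)) (tt N8768 (iv F71868)) (tt N5918 F56591) (tt N8427 (iv F69071)) (tt N7229 F56592) (tt N8770 (iv F71877)) (tt N8718 (iv F71653)) (tt N5915 (iv D12236)))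
theorem Q7231 : ∀ i, i < 7231 → P i := stepQ 7230 Q7230 (allL N7230 (tt N8096 (iv F67292)) (tt N7230 F56593) (tt N8760 (iv F71837)) (tt N7230 F56594) (tt N8769 (iv F71872)) (tt N8771 D15724) (tt N5917 F56595) (tt N7230 F56596) (tt N5916 (iv D12237)) (tt N8772 D15725))
theorem Q7232 : ∀ i, i < 7232 → P i := stepQ 7231 Q7231 (allL N7231 (tt N8097 (iv F67296)) (tt N7231 F56597) (tt N8761 (iv F71840)) (tt N7231 F56598) (tt N8770 (iv F71876)) (tt N7231 F56599) (tt N8772 (iv F71885)) (tt N5918 F56600) (tt N8720 (iv F71661)) (tt N5917 (iv D12238)))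
theorem Q7233 : ∀ i, i < 7233 → P i := stepQ 7232 Q7232 (allL N7232 (tt N8381 F132740) (tt N5920 F56605) (tt N7232 F56606) (tt N6141 F132742) (tt N8763 (iv F71852)) (tt N7232 F56608) (tt N6140 F132743) (tt N5919 (iv D12240)) (tt N8359 F132741) (tt N8727 (iv F71697)))
theorem Q7234 : ∀ i, i < 7234 → P i := stepQ 7233 Q7233 (allL N7233 (tt N5928 F56609) (tt N8098 (iv F67313)) (tt N6268 F56610) (tt N8215 (iv F67948)) (tt N8773 D15727) (tt N5921 (iv D12241)) (tt N8774 D15728) (tt N8116 (iv F67418)) (tt N5922 F56611) (tt N8115 (iv F67413)))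
theorem Q7235 : ∀ i, i < 7235 → P i := stepQ 7234 Q7234 (allL N7234 (tt N5930 F56612) (tt N8099 (iv F67320)) (tt N6270 F56613) (tt N8775 D15729) (tt N5922 (iv D12242)) (tt N7234 F56614) (tt N8776 D15730) (tt N8455 (iv F69418)) (tt N8773 (iv F71893)) (tt N7234 F56615))
theorem Q7236 : ∀ i, i < 7236 → P i := stepQ 7235 Q7235 (allL N7235 (tt N5931 F56616) (tt N8100 (iv F67326)) (tt N6271 F56617) (tt N8458 (iv F69435)) (tt N8776 (iv F71903)) (tt N5924 F56618) (tt N5922 (iv D12243)) (tt N8777 D15731) (tt N8774 (iv F71897)) (tt N7235 F56619))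
theorem Q7237 : ∀ i, i < 7237 → P i := stepQ 7236 Q7236 (allL N7236 (tt N5932 F56620) (tt N8101 (iv F67332)) (tt N6178 (iv F133398)) (tt N5923 (iv D12244)) (tt N8596 (iv F71113)) (tt N7236 F56621) (tt N8778 D15733) (tt N7236 F56622) (tt N6003 F56623) (tt N7236 F56624))
theorem Q7238 : ∀ i, i < 7238 → P i := stepQ 7237 Q7237 (allL N7237 (tt N5933 F56625) (tt N8102 (iv F67338)) (tt N6272 F56626) (tt N8778 (iv F71916)) (tt N5924 F56627) (tt N8779 D15734) (tt N5923 (iv D12245)) (tt N8780 D15735) (tt N6004 F56628) (tt N7237 F56629))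
theorem Q7239 : ∀ i, i < 7239 → P i := stepQ 7238 Q7238 (allL N7238 (tt N5934 F56630) (tt N8103 (iv F67344)) (tt N6273 F56631) (tt N8598 (iv F71124)) (tt N8780 (iv F71925)) (tt N8777 (iv F71907)) (tt N7238 F56632) (tt N5924 (iv D12246)) (tt N6005 F56633) (tt N7238 F56634))
theorem Q7240 : ∀ i, i < 7240 → P i := stepQ 7239 Q7239 (allL N7239 (tt N8120 (iv F67436)) (tt N5936 F56635) (tt N5955 F56636) (tt N8119 (iv F67432)) (tt N8781 D15736) (tt N5925 (iv D12247)) (tt N8782 D15737) (tt N5939 F56637) (tt N7239 F56638) (tt N5938 F56639))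
theorem Q7241 : ∀ i, i < 7241 → P i := stepQ 7240 Q7240 (allL N7240 (tt N8116 (iv F67414)) (tt N5938 F56640) (tt N5951 F56641) (tt N8202 (iv F67873)) (tt N8783 D15738) (tt N5926 (iv D12248)) (tt N8784 D15739) (tt N5928 F56642) (tt N5929 F56643) (tt N5936 F56644))
theorem Q7242 : ∀ i, i < 7242 → P i := stepQ 7241 Q7241 (allL N7241 (tt N8115 (iv F67407)) (tt N5939 F56645) (tt N5950 F56646) (tt N8218 (iv F67962)) (tt N8785 D15740) (tt N5927 (iv D12249)) (tt N8786 D15741) (tt N5936 F56647) (tt N7241 F56648) (tt N5928 F56649))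
theorem Q7243 : ∀ i, i < 7243 → P i := stepQ 7242 Q7242 (allL N7242 (tt N8773 (iv F71891)) (tt N5940 F56650) (tt N6274 F56651) (tt N8787 D15742) (tt N5928 (iv D12250)) (tt N8781 (iv F71931)) (tt N8788 D15743) (tt N8783 (iv F71943)) (tt N5930 F56652) (tt N8785 (iv F71956)))
theorem Q7244 : ∀ i, i < 7244 → P i := stepQ 7243 Q7243 (allL N7243 (tt N8774 (iv F71894)) (tt N5941 F56653) (tt N6275 F56654) (tt N8600 (iv F71133)) (tt N8788 (iv F71966)) (tt N6010 F56655) (tt N5928 (iv D12251)) (tt N8789 D15744) (tt N5931 F56656) (tt N8786 (iv F71961)))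
theorem Q7245 : ∀ i, i < 7245 → P i := stepQ 7244 Q7244 (allL N7244 (tt N8455 (iv F69414)) (tt N5942 F56657) (tt N6276 F56658) (tt N8790 D15745) (tt N5929 (iv D12252)) (tt N7244 F56659) (tt N8791 D15746) (tt N5930 F56660) (tt N8783 (iv F71944)) (tt N7244 F56661))
theorem Q7246 : ∀ i, i < 7246 → P i := stepQ 7245 Q7245 (allL N7245 (tt N8456 (iv F69420)) (tt N5943 F56662) (tt N6277 F56663) (tt N8446 (iv F69310)) (tt N8791 (iv F71978)) (tt N7245 F56664) (tt N5929 (iv D12253)) (tt N8792 D15747) (tt N8784 (iv F71949)) (tt N7245 F56665))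
theorem Q7247 : ∀ i, i < 7247 → P i := stepQ 7246 Q7246 (allL N7246 (tt N8775 (iv F71898)) (tt N5944 F56666) (tt N8793 D15748) (tt N5930 (iv D12254)) (tt N8601 (iv F71137)) (tt N7246 F56667) (tt N8794 D15749) (tt N8790 (iv F71974)) (tt N8787 (iv F71963)) (tt N7246 F56668))
theorem Q7248 : ∀ i, i < 7248 → P i := stepQ 7247 Q7247 (allL N7247 (tt N8776 (iv F71901)) (tt N5945 F56669) (tt N6279 F56670) (tt N8794 (iv F71989)) (tt N5931 F56671) (tt N8795 D15750) (tt N5930 (iv D12255)) (tt N8796 D15751) (tt N8788 (iv F71967)) (tt N7247 F56672))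
theorem Q7249 : ∀ i, i < 7249 → P i := stepQ 7248 Q7248 (allL N7248 (tt N8777 (iv F71905)) (tt N5946 F56673) (tt N6280 F56674) (tt N8603 (iv F71145)) (tt N8796 (iv F71998)) (tt N5934 F56675) (tt N8792 (iv F71983)) (tt N5931 (iv D12256)) (tt N8789 (iv F71971)) (tt N7248 F56676))
theorem Q7250 : ∀ i, i < 7250 → P i := stepQ 7249 Q7249 (allL N7249 (tt N8778 (iv F71915)) (tt N5947 F56683) (tt N8441 (iv F133403)) (tt N5933 F56684) (tt N8604 (iv F71156)) (tt N8797 D15753) (tt N5932 (iv D12258)) (tt N8798 D15754) (tt N6016 F56685) (tt N7249 F56686))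
theorem Q7251 : ∀ i, i < 7251 → P i := stepQ 7250 Q7250 (allL N7250 (tt N8779 (iv F71919)) (tt N5948 F56687) (tt N6281 F56688) (tt N8797 (iv F72006)) (tt N8795 (iv F71993)) (tt N5933 (iv D12259)) (tt N7250 F56689) (tt N8799 D15755) (tt N8800 D15756) (tt N7250 F56690))
theorem Q7252 : ∀ i, i < 7252 → P i := stepQ 7251 Q7251 (allL N7251 (tt N8780 (iv F71923)) (tt N5949 F56691) (tt N6282 F56692) (tt N8798 (iv F72010)) (tt N5934 F56693) (tt N8799 (iv F72016)) (tt N7251 F56694) (tt N5933 (iv D12260)) (tt N6018 F56695) (tt N7251 F56696))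
theorem Q7253 : ∀ i, i < 7253 → P i := stepQ 7252 Q7252 (allL N7252 (tt N8114 (iv F67400)) (tt N8119 (iv F67430)) (tt N7252 F56697) (tt N5936 F56698) (tt N8801 D15757) (tt N5935 (iv D12261)) (tt N8802 D15758) (tt N8218 (iv F67963)) (tt N7252 F56699) (tt N8202 (iv F67876)))
theorem Q7254 : ∀ i, i < 7254 → P i := stepQ 7253 Q7253 (allL N7253 (tt N8117 (iv F67421)) (tt N8781 (iv F71929)) (tt N5952 F56700) (tt N8803 D15759) (tt N5936 (iv D12262)) (tt N5940 F56701) (tt N8804 D15760) (tt N8785 (iv F71954)) (tt N7253 F56702) (tt N8783 (iv F71945)))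
theorem Q7255 : ∀ i, i < 7255 → P i := stepQ 7254 Q7254 (allL N7254 (tt N8118 (iv F67425)) (tt N8782 (iv F71935)) (tt N5953 F56703) (tt N8802 (iv F72025)) (tt N8804 (iv F72031)) (tt N6024 F56704) (tt N5936 (iv D12263)) (tt N8805 D15761) (tt N7254 F56705) (tt N8784 (iv F71950)))
theorem Q7256 : ∀ i, i < 7256 → P i := stepQ 7255 Q7255 (allL N7255 (tt N8119 (iv F67429)) (tt N6022 F56706) (tt N5954 F56707) (tt N8120 (iv F67439)) (tt N8806 D15762) (tt N5937 (iv D12264)) (tt N8807 D15763) (tt N6025 F56708) (tt N7255 F56709) (tt N6006 F56710))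
theorem Q7257 : ∀ i, i < 7257 → P i := stepQ 7256 Q7256 (allL N7256 (tt N8121 (iv F67443)) (tt N8783 (iv F71940)) (tt N5956 F56711) (tt N8808 D15764) (tt N5938 (iv D12265)) (tt N8785 (iv F71953)) (tt N8809 D15765) (tt N5940 F56712) (tt N5942 F56713) (tt N8781 (iv F71934)))
theorem Q7258 : ∀ i, i < 7258 → P i := stepQ 7257 Q7257 (allL N7257 (tt N8122 (iv F67448)) (tt N8784 (iv F71946)) (tt N5957 F56714) (tt N8610 (iv F71184)) (tt N8809 (iv F72050)) (tt N8807 (iv F72044)) (tt N5938 (iv D12266)) (tt N8810 D15766) (tt N5943 F56715) (tt N8782 (iv F71939)))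
theorem Q7259 : ∀ i, i < 7259 → P i := stepQ 7258 Q7258 (allL N7258 (tt N8123 (iv F67453)) (tt N8785 (iv F71951)) (tt N5958 F56716) (tt N8811 D15767) (tt N5939 (iv D12267)) (tt N8783 (iv F71942)) (tt N8812 D15768) (tt N8781 (iv F71932)) (tt N7258 F56717) (tt N5940 F56718))
theorem Q7260 : ∀ i, i < 7260 → P i := stepQ 7259 Q7259 (allL N7259 (tt N8124 (iv F67457)) (tt N8786 (iv F71957)) (tt N5959 F56719) (tt N8248 (iv F68087)) (tt N8812 (iv F72058)) (tt N6029 F56720) (tt N5939 (iv D12268)) (tt N8813 D15769) (tt N7259 F56721) (tt N5941 F56722))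
theorem Q7261 : ∀ i, i < 7261 → P i := stepQ 7260 Q7260 (allL N7260 (tt N8125 (iv F67463)) (tt N8787 (iv F71962)) (tt N8814 D15770) (tt N5940 (iv D12269)) (tt N8611 (iv F71186)) (tt N8803 (iv F72028)) (tt N8815 D15771) (tt N8808 (iv F72047)) (tt N5944 F56723) (tt N8811 (iv F72056)))
theorem Q7262 : ∀ i, i < 7262 → P i := stepQ 7261 Q7261 (allL N7261 (tt N8126 (iv F67465)) (tt N8788 (iv F71964)) (tt N5961 F56724) (tt N8815 (iv F72067)) (tt N5941 F56725) (tt N8816 D15772) (tt N5940 (iv D12270)) (tt N8817 D15773) (tt N5945 F56726) (tt N8812 (iv F72060)))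
theorem Q7263 : ∀ i, i < 7263 → P i := stepQ 7262 Q7262 (allL N7262 (tt N8127 (iv F67469)) (tt N8789 (iv F71968)) (tt N5962 F56727) (tt N8613 (iv F71192)) (tt N8817 (iv F72072)) (tt N6032 F56728) (tt N8810 (iv F72053)) (tt N5941 (iv D12271)) (tt N5946 F56729) (tt N8813 (iv F72064)))
theorem Q7264 : ∀ i, i < 7264 → P i := stepQ 7263 Q7263 (allL N7263 (tt N8128 (iv F67473)) (tt N8790 (iv F71972)) (tt N8818 D15774) (tt N5942 (iv D12272)) (tt N8614 (iv F71196)) (tt N7263 F56730) (tt N8819 D15775) (tt N5944 F56731) (tt N8808 (iv F72048)) (tt N7263 F56732))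
theorem Q7265 : ∀ i, i < 7265 → P i := stepQ 7264 Q7264 (allL N7264 (tt N8129 (iv F67479)) (tt N8791 (iv F71976)) (tt N5964 F56733) (tt N8819 (iv F72078)) (tt N5943 F56734) (tt N8820 D15776) (tt N5942 (iv D12273)) (tt N8821 D15777) (tt N8809 (iv F72051)) (tt N7264 F56735))
theorem Q7266 : ∀ i, i < 7266 → P i := stepQ 7265 Q7265 (allL N7265 (tt N8130 (iv F67484)) (tt N8792 (iv F71980)) (tt N5965 F56736) (tt N8616 (iv F71206)) (tt N8821 (iv F72085)) (tt N7265 F56737) (tt N5946 F56738) (tt N5943 (iv D12274)) (tt N8810 (iv F72054)) (tt N7265 F56739))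
theorem Q7267 : ∀ i, i < 7267 → P i := stepQ 7266 Q7266 (allL N7266 (tt N8131 (iv F67491)) (tt N8822 D15778) (tt N5944 (iv D12275)) (tt N5966 F56740) (tt N8617 (iv F71211)) (tt N7266 F56741) (tt N8823 D15779) (tt N8818 (iv F72076)) (tt N8814 (iv F72066)) (tt N7266 F56742))
theorem Q7268 : ∀ i, i < 7268 → P i := stepQ 7267 Q7267 (allL N7267 (tt N8132 (iv F67495)) (tt N8794 (iv F71988)) (tt N8823 (iv F72091)) (tt N5945 F56743) (tt N8618 (iv F71214)) (tt N8824 D15780) (tt N5944 (iv D12276)) (tt N8825 D15781) (tt N8815 (iv F72068)) (tt N7267 F56744))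
theorem Q7269 : ∀ i, i < 7269 → P i := stepQ 7268 Q7268 (allL N7268 (tt N8133 (iv F67498)) (tt N8795 (iv F71991)) (tt N5968 F56745) (tt N8824 (iv F72094)) (tt N5948 F56746) (tt N5945 (iv D12277)) (tt N7268 F56747) (tt N8826 D15782) (tt N8827 D15783) (tt N7268 F56748))
theorem Q7270 : ∀ i, i < 7270 → P i := stepQ 7269 Q7269 (allL N7269 (tt N8134 (iv F67503)) (tt N8796 (iv F71996)) (tt N5969 F56749) (tt N8825 (iv F72097)) (tt N5946 F56750) (tt N8826 (iv F72101)) (tt N8821 (iv F72086)) (tt N5945 (iv D12278)) (tt N8817 (iv F72073)) (tt N7269 F56751))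
theorem Q7271 : ∀ i, i < 7271 → P i := stepQ 7270 Q7270 (allL N7270 (tt N8135 (iv F67507)) (tt N8797 (iv F72005)) (tt N7270 F56752) (tt N5948 F56753) (tt N8828 D15784) (tt N5947 (iv D12279)) (tt N7270 F56754) (tt N8829 D15785) (tt N8830 D15786) (tt N7270 F56755))
theorem Q7272 : ∀ i, i < 7272 → P i := stepQ 7271 Q7271 (allL N7271 (tt N8136 (iv F67512)) (tt N8798 (iv F72009)) (tt N7271 F56756) (tt N5949 F56757) (tt N8622 (iv F71227)) (tt N8829 (iv F72111)) (tt N7271 F56758) (tt N5947 (iv D12280)) (tt N6041 F56759) (tt N7271 F56760))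
theorem Q7273 : ∀ i, i < 7273 → P i := stepQ 7272 Q7272 (allL N7272 (tt N8137 (iv F67518)) (tt N8799 (iv F72014)) (tt N5970 F56761) (tt N8829 (iv F72110)) (tt N8826 (iv F72100)) (tt N5949 F56762) (tt N8831 D15787) (tt N5948 (iv D12281)) (tt N8832 D15788) (tt N7272 F56763))
theorem Q7274 : ∀ i, i < 7274 → P i := stepQ 7273 Q7273 (allL N7273 (tt N8138 (iv F67522)) (tt N8800 (iv F72018)) (tt N5971 F56764) (tt N8830 (iv F72114)) (tt N8827 (iv F72104)) (tt N6043 F56765) (tt N7273 F56766) (tt N8832 (iv F72123)) (tt N5948 (iv D12282)) (tt N8833 D15789))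
theorem Q7275 : ∀ i, i < 7275 → P i := stepQ 7274 Q7274 (allL N7274 (tt N8139 (iv F67526)) (tt N6287 F56767) (tt N8785 (iv F71952)) (tt N8834 D15790) (tt N5950 (iv D12283)) (tt N5956 F56768) (tt N8835 D15791) (tt N5952 F56769) (tt N7274 F56770) (tt N6274 F56771))
theorem Q7276 : ∀ i, i < 7276 → P i := stepQ 7275 Q7275 (allL N7275 (tt N8140 (iv F67532)) (tt N6288 F56772) (tt N8786 (iv F71958)) (tt N7275 F56773) (tt N8835 (iv F72135)) (tt N6380 F56774) (tt N5950 (iv D12284)) (tt N8836 D15792) (tt N7275 F56775) (tt N6275 F56776))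
theorem Q7277 : ∀ i, i < 7277 → P i := stepQ 7276 Q7276 (allL N7276 (tt N8141 (iv F67538)) (tt N6285 F56777) (tt N8783 (iv F71941)) (tt N8837 D15793) (tt N5951 (iv D12285)) (tt N5958 F56778) (tt N8838 D15794) (tt N6274 F56779) (tt N6276 F56780) (tt N5952 F56781))
theorem Q7278 : ∀ i, i < 7278 → P i := stepQ 7277 Q7277 (allL N7277 (tt N8142 (iv F67544)) (tt N6286 F56782) (tt N8784 (iv F71947)) (tt N7277 F56783) (tt N8838 (iv F72151)) (tt N6048 F56784) (tt N5951 (iv D12286)) (tt N8839 D15795) (tt N6277 F56785) (tt N5953 F56786))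
theorem Q7279 : ∀ i, i < 7279 → P i := stepQ 7278 Q7278 (allL N7278 (tt N8143 (iv F67550)) (tt N6303 F56787) (tt N8840 D15796) (tt N5952 (iv D12287)) (tt N7278 F56788) (tt N5960 F56789) (tt N8841 D15797) (tt N8834 (iv F72131)) (tt N7278 F56790) (tt N8837 (iv F72149)))
theorem Q7280 : ∀ i, i < 7280 → P i := stepQ 7279 Q7279 (allL N7279 (tt N8144 (iv F67555)) (tt N6304 F56791) (tt N8804 (iv F72030)) (tt N8841 (iv F72164)) (tt N5953 F56792) (tt N8842 D15798) (tt N5952 (iv D12288)) (tt N8843 D15799) (tt N7279 F56793) (tt N8838 (iv F72153)))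
theorem Q7281 : ∀ i, i < 7281 → P i := stepQ 7280 Q7280 (allL N7280 (tt N8145 (iv F67559)) (tt N6305 F56794) (tt N8805 (iv F72033)) (tt N7280 F56795) (tt N8843 (iv F72171)) (tt N6051 F56796) (tt N8836 (iv F72141)) (tt N5953 (iv D12289)) (tt N7280 F56797) (tt N8839 (iv F72159)))
theorem Q7282 : ∀ i, i < 7282 → P i := stepQ 7281 Q7281 (allL N7281 (tt N8146 (iv F67564)) (tt N6306 F56798) (tt N8806 (iv F72037)) (tt N8844 D15800) (tt N5954 (iv D12290)) (tt N6379 F56799) (tt N8845 D15801) (tt N6052 F56800) (tt N7281 F56801) (tt N6375 F56802))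
theorem Q7283 : ∀ i, i < 7283 → P i := stepQ 7282 Q7282 (allL N7282 (tt N8147 (iv F67570)) (tt N6307 F56803) (tt N8807 (iv F72043)) (tt N5973 F56804) (tt N8845 (iv F72180)) (tt N5957 F56805) (tt N5954 (iv D12291)) (tt N8846 D15802) (tt N7282 F56806) (tt N6376 F56807))
theorem Q7284 : ∀ i, i < 7284 → P i := stepQ 7283 Q7283 (allL N7283 (tt N8148 (iv F67576)) (tt N6283 F56808) (tt N8781 (iv F71930)) (tt N8847 D15803) (tt N5955 (iv D12292)) (tt N6274 F56809) (tt N8848 D15804) (tt N5958 F56810) (tt N7283 F56811) (tt N5956 F56812))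
theorem Q7285 : ∀ i, i < 7285 → P i := stepQ 7284 Q7284 (allL N7284 (tt N8149 (iv F67582)) (tt N6284 F56813) (tt N8782 (iv F71936)) (tt N5975 F56814) (tt N8848 (iv F72196)) (tt N6376 F56815) (tt N5955 (iv D12293)) (tt N8849 D15805) (tt N7284 F56816) (tt N5957 F56817))
theorem Q7286 : ∀ i, i < 7286 → P i := stepQ 7285 Q7285 (allL N7285 (tt N8150 (iv F67588)) (tt N6308 F56818) (tt N8850 D15806) (tt N5956 (iv D12294)) (tt N5976 F56819) (tt N8834 (iv F72130)) (tt N8851 D15807) (tt N5960 F56820) (tt N5963 F56821) (tt N8847 (iv F72194)))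
theorem Q7287 : ∀ i, i < 7287 → P i := stepQ 7286 Q7286 (allL N7286 (tt N8151 (iv F67593)) (tt N6309 F56822) (tt N8809 (iv F72049)) (tt N8851 (iv F72209)) (tt N5957 F56823) (tt N8852 D15808) (tt N5956 (iv D12295)) (tt N8853 D15809) (tt N5964 F56824) (tt N8848 (iv F72198)))
theorem Q7288 : ∀ i, i < 7288 → P i := stepQ 7287 Q7287 (allL N7287 (tt N8152 (iv F67597)) (tt N6310 F56825) (tt N8810 (iv F72052)) (tt N5978 F56826) (tt N8853 (iv F72214)) (tt N8846 (iv F72185)) (tt N5962 F56827) (tt N5957 (iv D12296)) (tt N5965 F56828) (tt N8849 (iv F72204)))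
theorem Q7289 : ∀ i, i < 7289 → P i := stepQ 7288 Q7288 (allL N7288 (tt N8153 (iv F67602)) (tt N6311 F56829) (tt N8854 D15810) (tt N5958 (iv D12297)) (tt N5979 F56830) (tt N8837 (iv F72146)) (tt N8855 D15811) (tt N8847 (iv F72192)) (tt N7288 F56831) (tt N5960 F56832))
theorem Q7290 : ∀ i, i < 7290 → P i := stepQ 7289 Q7289 (allL N7289 (tt N8154 (iv F67607)) (tt N6312 F56833) (tt N8812 (iv F72057)) (tt N8855 (iv F72221)) (tt N5959 F56834) (tt N8856 D15812) (tt N5958 (iv D12298)) (tt N8857 D15813) (tt N7289 F56835) (tt N5961 F56836))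
theorem Q7291 : ∀ i, i < 7291 → P i := stepQ 7290 Q7290 (allL N7290 (tt N8155 (iv F67612)) (tt N6313 F56837) (tt N8813 (iv F72061)) (tt N5981 F56838) (tt N8857 (iv F72229)) (tt N6059 F56839) (tt N8849 (iv F72202)) (tt N5959 (iv D12299)) (tt N7290 F56840) (tt N5962 F56841))
theorem Q7292 : ∀ i, i < 7292 → P i := stepQ 7291 Q7291 (allL N7291 (tt N8156 (iv F67618)) (tt N8858 D15814) (tt N5960 (iv D12300)) (tt N8814 (iv F72065)) (tt N5982 F56842) (tt N8840 (iv F72161)) (tt N8859 D15815) (tt N8850 (iv F72206)) (tt N5966 F56843) (tt N8854 (iv F72219)))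
theorem Q7293 : ∀ i, i < 7293 → P i := stepQ 7292 Q7292 (allL N7292 (tt N8157 (iv F67621)) (tt N6315 F56844) (tt N8859 (iv F72235)) (tt N5961 F56845) (tt N5983 F56846) (tt N8860 D15816) (tt N5960 (iv D12301)) (tt N8861 D15817) (tt N5967 F56847) (tt N8855 (iv F72224)))
theorem Q7294 : ∀ i, i < 7294 → P i := stepQ 7293 Q7293 (allL N7293 (tt N8158 (iv F67626)) (tt N6316 F56848) (tt N8816 (iv F72069)) (tt N8860 (iv F72239)) (tt N6062 F56849) (tt N5961 (iv D12302)) (tt N8842 (iv F72169)) (tt N8862 D15818) (tt N8863 D15819) (tt N8856 (iv F72227)))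
theorem Q7295 : ∀ i, i < 7295 → P i := stepQ 7294 Q7294 (allL N7294 (tt N8159 (iv F67629)) (tt N6317 F56850) (tt N8817 (iv F72071)) (tt N8861 (iv F72241)) (tt N5962 F56851) (tt N8862 (iv F72246)) (tt N8853 (iv F72215)) (tt N5961 (iv D12303)) (tt N5969 F56852) (tt N8857 (iv F72231)))
theorem Q7296 : ∀ i, i < 7296 → P i := stepQ 7295 Q7295 (allL N7295 (tt N8160 (iv F67633)) (tt N8864 D15820) (tt N5963 (iv D12304)) (tt N8818 (iv F72074)) (tt N5986 F56853) (tt N7295 F56854) (tt N8865 D15821) (tt N5966 F56855) (tt N8850 (iv F72207)) (tt N7295 F56856))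
theorem Q7297 : ∀ i, i < 7297 → P i := stepQ 7296 Q7296 (allL N7296 (tt N8161 (iv F67638)) (tt N6319 F56857) (tt N8865 (iv F72255)) (tt N5964 F56858) (tt N5987 F56859) (tt N8866 D15822) (tt N5963 (iv D12305)) (tt N8867 D15823) (tt N8851 (iv F72211)) (tt N7296 F56860))
theorem Q7298 : ∀ i, i < 7298 → P i := stepQ 7297 Q7297 (allL N7297 (tt N8162 (iv F67643)) (tt N6320 F56861) (tt N8820 (iv F72080)) (tt N8866 (iv F72259)) (tt N7297 F56862) (tt N5964 (iv D12306)) (tt N7297 F56863) (tt N8868 D15824) (tt N8869 D15825) (tt N7297 F56864))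
theorem Q7299 : ∀ i, i < 7299 → P i := stepQ 7298 Q7298 (allL N7298 (tt N8163 (iv F67648)) (tt N6321 F56865) (tt N8821 (iv F72084)) (tt N8867 (iv F72263)) (tt N5965 F56866) (tt N8868 (iv F72269)) (tt N5969 F56867) (tt N5964 (iv D12307)) (tt N8853 (iv F72216)) (tt N7298 F56868))
theorem Q7300 : ∀ i, i < 7300 → P i := stepQ 7299 Q7299 (allL N7299 (tt N8870 D15826) (tt N5966 (iv D12308)) (tt N6322 F56869) (tt N8822 (iv F72088)) (tt N5990 F56870) (tt N7299 F56871) (tt N8871 D15827) (tt N8864 (iv F72253)) (tt N8858 (iv F72234)) (tt N7299 F56872))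
theorem Q7301 : ∀ i, i < 7301 → P i := stepQ 7300 Q7300 (allL N7300 (tt N8165 (iv F67657)) (tt N8871 (iv F72278)) (tt N5967 F56873) (tt N8823 (iv F72092)) (tt N5991 F56874) (tt N8872 D15828) (tt N5966 (iv D12309)) (tt N8873 D15829) (tt N8859 (iv F72237)) (tt N7300 F56875))
theorem Q7302 : ∀ i, i < 7302 → P i := stepQ 7301 Q7301 (allL N7301 (tt N8166 (iv F67661)) (tt N6324 F56876) (tt N8872 (iv F72282)) (tt N5968 F56877) (tt N7301 F56878) (tt N5967 (iv D12310)) (tt N7301 F56879) (tt N8874 D15830) (tt N8875 D15831) (tt N7301 F56880))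
theorem Q7303 : ∀ i, i < 7303 → P i := stepQ 7302 Q7302 (allL N7302 (tt N8167 (iv F67667)) (tt N6325 F56881) (tt N8873 (iv F72286)) (tt N5969 F56882) (tt N5992 F56883) (tt N8874 (iv F72292)) (tt N8867 (iv F72265)) (tt N5967 (iv D12311)) (tt N8861 (iv F72243)) (tt N7302 F56884))
theorem Q7304 : ∀ i, i < 7304 → P i := stepQ 7303 Q7303 (allL N7303 (tt N8168 (iv F67672)) (tt N6326 F56885) (tt N8826 (iv F72099)) (tt N8874 (iv F72290)) (tt N5970 F56886) (tt N5969 F56887) (tt N8876 D15832) (tt N5968 (iv D12312)) (tt N8877 D15833) (tt N7303 F56888))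
theorem Q7305 : ∀ i, i < 7305 → P i := stepQ 7304 Q7304 (allL N7304 (tt N8169 (iv F67677)) (tt N6327 F56889) (tt N8827 (iv F72103)) (tt N8875 (iv F72295)) (tt N5971 F56890) (tt N8863 (iv F72249)) (tt N7304 F56891) (tt N8877 (iv F72304)) (tt N5968 (iv D12313)) (tt N8878 D15834))
theorem Q7306 : ∀ i, i < 7306 → P i := stepQ 7305 Q7305 (allL N7305 (tt N8170 (iv F67681)) (tt N6328 F56892) (tt N8831 (iv F72117)) (tt N7305 F56893) (tt N8876 (iv F72299)) (tt N7305 F56894) (tt N5970 (iv D12314)) (tt N7305 F56895) (tt N8879 D15835) (tt N7305 F56896))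
theorem Q7307 : ∀ i, i < 7307 → P i := stepQ 7306 Q7306 (allL N7306 (tt N8171 (iv F67687)) (tt N6329 F56897) (tt N8832 (iv F72121)) (tt N7306 F56898) (tt N8877 (iv F72303)) (tt N6075 F56899) (tt N8879 (iv F72311)) (tt N5971 F56900) (tt N5970 (iv D12315)) (tt N8880 D15836))
theorem Q7308 : ∀ i, i < 7308 → P i := stepQ 7307 Q7307 (allL N7307 (tt N8172 (iv F67692)) (tt N6330 F56901) (tt N8833 (iv F72124)) (tt N7307 F56902) (tt N8878 (iv F72306)) (tt N6076 F56903) (tt N7307 F56904) (tt N8880 (iv F72316)) (tt N7307 F56905) (tt N5971 (iv D12316)))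
theorem Q7309 : ∀ i, i < 7309 → P i := stepQ 7308 Q7308 (allL N7308 (tt N8173 (iv F67698)) (tt N6333 F56906) (tt N8881 D15837) (tt N5972 (iv D12317)) (tt N8844 (iv F72174)) (tt N7308 F56907) (tt N8882 D15838) (tt N6077 F56908) (tt N7308 F56909) (tt N8000 (iv F66744)))
theorem Q7310 : ∀ i, i < 7310 → P i := stepQ 7309 Q7309 (allL N7309 (tt N8174 (iv F67704)) (tt N6334 F56910) (tt N8177 (iv F67725)) (tt N8882 (iv F72322)) (tt N5973 F56911) (tt N8883 D15839) (tt N5972 (iv D12318)) (tt N8884 D15840) (tt N7309 F56912) (tt N8001 (iv F66750)))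
theorem Q7311 : ∀ i, i < 7311 → P i := stepQ 7310 Q7310 (allL N7310 (tt N8175 (iv F67710)) (tt N6335 F56913) (tt N8178 (iv F67731)) (tt N8846 (iv F72184)) (tt N8884 (iv F72328)) (tt N5978 F56914) (tt N6079 F56915) (tt N5973 (iv D12319)) (tt N7310 F56916) (tt N8002 (iv F66758)))
theorem Q7312 : ∀ i, i < 7312 → P i := stepQ 7311 Q7311 (allL N7311 (tt N8176 (iv F67717)) (tt N6336 F56917) (tt N8885 D15841) (tt N5974 (iv D12320)) (tt N8847 (iv F72190)) (tt N7311 F56918) (tt N8886 D15842) (tt N5979 F56919) (tt N7311 F56920) (tt N5976 F56921))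
theorem Q7313 : ∀ i, i < 7313 → P i := stepQ 7312 Q7312 (allL N7312 (tt N8177 (iv F67723)) (tt N6337 F56922) (tt N8174 (iv F67706)) (tt N8886 (iv F72336)) (tt N5975 F56923) (tt N8887 D15843) (tt N5974 (iv D12321)) (tt N8888 D15844) (tt N7312 F56924) (tt N5977 F56925))
theorem Q7314 : ∀ i, i < 7314 → P i := stepQ 7313 Q7313 (allL N7313 (tt N8178 (iv F67729)) (tt N6338 F56926) (tt N8175 (iv F67712)) (tt N8849 (iv F72200)) (tt N8888 (iv F72343)) (tt N8002 (iv F66755)) (tt N5981 F56927) (tt N5975 (iv D12322)) (tt N7313 F56928) (tt N5978 F56929))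
theorem Q7315 : ∀ i, i < 7315 → P i := stepQ 7314 Q7314 (allL N7314 (tt N8179 (iv F67736)) (tt N8889 D15845) (tt N5976 (iv D12323)) (tt N8642 (iv F71330)) (tt N8850 (iv F72205)) (tt N7314 F56930) (tt N8890 D15846) (tt N5982 F56931) (tt N5986 F56932) (tt N8885 (iv F72334)))
theorem Q7316 : ∀ i, i < 7316 → P i := stepQ 7315 Q7315 (allL N7315 (tt N8180 (iv F67740)) (tt N6340 F56933) (tt N8890 (iv F72351)) (tt N5977 F56934) (tt N8851 (iv F72210)) (tt N8891 D15847) (tt N5976 (iv D12324)) (tt N8892 D15848) (tt N5987 F56935) (tt N8886 (iv F72338)))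
theorem Q7317 : ∀ i, i < 7317 → P i := stepQ 7316 Q7316 (allL N7316 (tt N8181 (iv F67744)) (tt N6341 F56936) (tt N8644 (iv F71338)) (tt N8891 (iv F72354)) (tt N8883 (iv F72325)) (tt N5977 (iv D12325)) (tt N7316 F56937) (tt N8893 D15849) (tt N8894 D15850) (tt N8887 (iv F72341)))
theorem Q7318 : ∀ i, i < 7318 → P i := stepQ 7317 Q7317 (allL N7317 (tt N8182 (iv F67747)) (tt N6342 F56938) (tt N8645 (iv F71341)) (tt N8892 (iv F72357)) (tt N5978 F56939) (tt N8893 (iv F72361)) (tt N5985 F56940) (tt N5977 (iv D12326)) (tt N5989 F56941) (tt N8888 (iv F72346)))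
theorem Q7319 : ∀ i, i < 7319 → P i := stepQ 7318 Q7318 (allL N7318 (tt N8183 (iv F67752)) (tt N8895 D15851) (tt N5979 (iv D12327)) (tt N8320 (iv F68427)) (tt N8854 (iv F72217)) (tt N7318 F56942) (tt N8896 D15852) (tt N8885 (iv F72332)) (tt N7318 F56943) (tt N5982 F56944))
theorem Q7320 : ∀ i, i < 7320 → P i := stepQ 7319 Q7319 (allL N7319 (tt N8184 (iv F67757)) (tt N6344 F56945) (tt N8896 (iv F72369)) (tt N5980 F56946) (tt N8855 (iv F72222)) (tt N8897 D15853) (tt N5979 (iv D12328)) (tt N8898 D15854) (tt N7319 F56947) (tt N5983 F56948))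
theorem Q7321 : ∀ i, i < 7321 → P i := stepQ 7320 Q7320 (allL N7320 (tt N8185 (iv F67762)) (tt N6345 F56949) (tt N8322 (iv F68438)) (tt N8897 (iv F72373)) (tt N6086 F56950) (tt N5980 (iv D12329)) (tt N7320 F56951) (tt N8899 D15855) (tt N8900 D15856) (tt N5984 F56952))
theorem Q7322 : ∀ i, i < 7322 → P i := stepQ 7321 Q7321 (allL N7321 (tt N8186 (iv F67768)) (tt N6346 F56953) (tt N8323 (iv F68444)) (tt N8898 (iv F72377)) (tt N5981 F56954) (tt N8899 (iv F72382)) (tt N8888 (iv F72344)) (tt N5980 (iv D12330)) (tt N7321 F56955) (tt N5985 F56956))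
theorem Q7323 : ∀ i, i < 7323 → P i := stepQ 7322 Q7322 (allL N7322 (tt N8901 D15857) (tt N5982 (iv D12331)) (tt N6347 F56957) (tt N8646 (iv F71346)) (tt N8858 (iv F72233)) (tt N7322 F56958) (tt N8902 D15858) (tt N8889 (iv F72349)) (tt N5990 F56959) (tt N8895 (iv F72368)))
theorem Q7324 : ∀ i, i < 7324 → P i := stepQ 7323 Q7323 (allL N7323 (tt N8188 (iv F67777)) (tt N8902 (iv F72392)) (tt N5983 F56960) (tt N8647 (iv F71350)) (tt N8859 (iv F72236)) (tt N8903 D15859) (tt N5982 (iv D12332)) (tt N8904 D15860) (tt N5991 F56961) (tt N8896 (iv F72371)))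
theorem Q7325 : ∀ i, i < 7325 → P i := stepQ 7324 Q7324 (allL N7324 (tt N8189 (iv F67780)) (tt N6349 F56962) (tt N8903 (iv F72395)) (tt N5984 F56963) (tt N8905 D15861) (tt N5983 (iv D12333)) (tt N7324 F56964) (tt N8906 D15862) (tt N7324 F56965) (tt N8897 (iv F72375)))
theorem Q7326 : ∀ i, i < 7326 → P i := stepQ 7325 Q7325 (allL N7325 (tt N8190 (iv F67785)) (tt N6350 F56966) (tt N8904 (iv F72398)) (tt N5985 F56967) (tt N8861 (iv F72242)) (tt N8906 (iv F72406)) (tt N8892 (iv F72358)) (tt N5983 (iv D12334)) (tt N5992 F56968) (tt N8898 (iv F72379)))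
theorem Q7327 : ∀ i, i < 7327 → P i := stepQ 7326 Q7326 (allL N7326 (tt N8191 (iv F67789)) (tt N6351 F56969) (tt N8650 (iv F71360)) (tt N8906 (iv F72405)) (tt N6092 F56970) (tt N5985 F56971) (tt N8907 D15863) (tt N5984 (iv D12335)) (tt N7326 F56972) (tt N8899 (iv F72383)))
theorem Q7328 : ∀ i, i < 7328 → P i := stepQ 7327 Q7327 (allL N7327 (tt N8908 D15864) (tt N5986 (iv D12336)) (tt N6352 F56973) (tt N8651 (iv F71365)) (tt N8864 (iv F72251)) (tt N5993 F56974) (tt N8909 D15865) (tt N5990 F56975) (tt N8889 (iv F72350)) (tt N7327 F56976))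
theorem Q7329 : ∀ i, i < 7329 → P i := stepQ 7328 Q7328 (allL N7328 (tt N8193 (iv F67798)) (tt N8909 (iv F72416)) (tt N5987 F56977) (tt N8652 (iv F71370)) (tt N8865 (iv F72256)) (tt N8910 D15866) (tt N5986 (iv D12337)) (tt N8911 D15867) (tt N8890 (iv F72352)) (tt N7328 F56978))
theorem Q7330 : ∀ i, i < 7330 → P i := stepQ 7329 Q7329 (allL N7329 (tt N8194 (iv F67801)) (tt N6354 F56979) (tt N8910 (iv F72419)) (tt N5988 F56980) (tt N8912 D15868) (tt N5987 (iv D12338)) (tt N5995 F56981) (tt N8913 D15869) (tt N8914 D15870) (tt N7329 F56982))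
theorem Q7331 : ∀ i, i < 7331 → P i := stepQ 7330 Q7330 (allL N7330 (tt N8195 (iv F67806)) (tt N6355 F56983) (tt N8911 (iv F72422)) (tt N5989 F56984) (tt N8867 (iv F72264)) (tt N8913 (iv F72432)) (tt N5992 F56985) (tt N5987 (iv D12339)) (tt N8892 (iv F72359)) (tt N7330 F56986))
theorem Q7332 : ∀ i, i < 7332 → P i := stepQ 7331 Q7331 (allL N7331 (tt N8196 (iv F67811)) (tt N6356 F56987) (tt N8654 (iv F71381)) (tt N8913 (iv F72431)) (tt N7331 F56988) (tt N5989 F56989) (tt N7331 F56990) (tt N5988 (iv D12340)) (tt N8915 D15871) (tt N7331 F56991))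
theorem Q7333 : ∀ i, i < 7333 → P i := stepQ 7332 Q7332 (allL N7332 (tt N8197 (iv F67817)) (tt N6357 F56992) (tt N8655 (iv F71387)) (tt N8914 (iv F72436)) (tt N7332 F56993) (tt N8894 (iv F72363)) (tt N5996 F56994) (tt N8915 (iv F72443)) (tt N5988 (iv D12341)) (tt N8916 D15872))
theorem Q7334 : ∀ i, i < 7334 → P i := stepQ 7333 Q7333 (allL N7333 (tt N5990 (iv D12342)) (tt N8198 (iv F67821)) (tt N6358 F56995) (tt N8656 (iv F71391)) (tt N8870 (iv F72275)) (tt N5997 F56996) (tt N8917 D15873) (tt N8908 (iv F72414)) (tt N8901 (iv F72391)) (tt N7333 F56997))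
theorem Q7335 : ∀ i, i < 7335 → P i := stepQ 7334 Q7334 (allL N7334 (tt N8917 (iv F72449)) (tt N5991 F56998) (tt N6359 F56999) (tt N8657 (iv F71396)) (tt N8871 (iv F72280)) (tt N7334 F57000) (tt N5990 (iv D12343)) (tt N8918 D15874) (tt N8902 (iv F72394)) (tt N7334 F57001))
theorem Q7336 : ∀ i, i < 7336 → P i := stepQ 7335 Q7335 (allL N7335 (tt N8200 (iv F67829)) (tt N8918 (iv F72453)) (tt N5992 F57002) (tt N8658 (iv F71400)) (tt N8873 (iv F72287)) (tt N7335 F57003) (tt N8911 (iv F72423)) (tt N5991 (iv D12344)) (tt N8904 (iv F72399)) (tt N7335 F57004))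
theorem Q7337 : ∀ i, i < 7337 → P i := stepQ 7336 Q7336 (allL N7336 (tt N5993 (iv D12345)) (tt N8201 (iv F67833)) (tt N6361 F57005) (tt N8592 F134253) (tt N7336 F57006) (tt N8908 (iv F72413)) (tt N8591 F134254) (tt N5997 F57007) (tt N7336 F57008) (tt N7336 F57009))
theorem Q7338 : ∀ i, i < 7338 → P i := stepQ 7337 Q7337 (allL N7337 (tt N8591 F134232) (tt N5994 F57010) (tt N6362 F57011) (tt N8462 (iv F134611)) (tt N7337 F57012) (tt N8596 F134233) (tt N5993 (iv D12346)) (tt N7337 F57013) (tt N7337 F57014) (tt N7337 F57015))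
theorem Q7339 : ∀ i, i < 7339 → P i := stepQ 7338 Q7338 (allL N7338 (tt N7980 F133732) (tt N8596 F133733) (tt N5995 F57016) (tt N7978 (iv F134431)) (tt N8101 F133734) (tt N5994 (iv D12347)) (tt N8910 (iv F72420)) (tt N7338 F57017) (tt N8018 F133735) (tt N7338 F57018))
theorem Q7340 : ∀ i, i < 7340 → P i := stepQ 7339 Q7339 (allL N7339 (tt N8110 F132932) (tt N6364 F57019) (tt N8101 (iv F132983)) (tt N7339 F57020) (tt N5995 (iv D12348)) (tt N7339 F57021) (tt N8912 (iv F72427)) (tt N7339 F57022) (tt N6267 F132936) (tt N7339 F57023))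
theorem Q7341 : ∀ i, i < 7341 → P i := stepQ 7340 Q7340 (allL N7340 (tt N8026 F132931) (tt N6365 F57024) (tt N8018 (iv F133392)) (tt N5996 F57025) (tt N6267 F132934) (tt N7340 F57026) (tt N8914 (iv F72438)) (tt N7340 F57027) (tt N5995 (iv D12349)) (tt N6266 F132935))
theorem Q7342 : ∀ i, i < 7342 → P i := stepQ 7341 Q7341 (allL N7341 (tt N7964 F132930) (tt N6366 F57028) (tt N7961 (iv F133559)) (tt N6266 F132933) (tt N7341 F57029) (tt N7341 F57030) (tt N8916 (iv F72447)) (tt N7341 F57031) (tt N7341 F57032) (tt N5996 (iv D12350)))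
theorem Q7343 : ∀ i, i < 7343 → P i := stepQ 7342 Q7342 (allL N7342 (tt N6008 F57033) (tt N8204 (iv F67885)) (tt N6367 F57034) (tt N8203 (iv F67880)) (tt N8919 D15879) (tt N5998 (iv D12351)) (tt N8920 D15880) (tt N8015 (iv F66850)) (tt N6098 F57035) (tt N5999 F57036))
theorem Q7344 : ∀ i, i < 7344 → P i := stepQ 7343 Q7343 (allL N7343 (tt N6009 F57037) (tt N8205 (iv F67892)) (tt N6368 F57038) (tt N8921 D15881) (tt N5999 (iv D12352)) (tt N8609 (iv F71179)) (tt N8922 D15882) (tt N8607 (iv F71171)) (tt N6001 F57039) (tt N8919 (iv F72484)))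
theorem Q7345 : ∀ i, i < 7345 → P i := stepQ 7344 Q7344 (allL N7344 (tt N6010 F57040) (tt N8206 (iv F67896)) (tt N6369 F57041) (tt N8660 (iv F71437)) (tt N8922 (iv F72493)) (tt N8774 (iv F71896)) (tt N5999 (iv D12353)) (tt N8923 D15883) (tt N6002 F57042) (tt N8920 (iv F72488)))
theorem Q7346 : ∀ i, i < 7346 → P i := stepQ 7345 Q7345 (allL N7345 (tt N6011 F57043) (tt N8207 (iv F67900)) (tt N6370 F57044) (tt N8924 D15884) (tt N6000 (iv D12354)) (tt N6180 F57045) (tt N8925 D15885) (tt N6001 F57046) (tt N8607 (iv F71172)) (tt N6101 F57047))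
theorem Q7347 : ∀ i, i < 7347 → P i := stepQ 7346 Q7346 (allL N7346 (tt N6012 F57048) (tt N8208 (iv F67906)) (tt N6371 F57049) (tt N8347 (iv F68632)) (tt N8925 (iv F72504)) (tt N7346 F57050) (tt N6000 (iv D12355)) (tt N8926 D15886) (tt N8608 (iv F71176)) (tt N6102 F57051))
theorem Q7348 : ∀ i, i < 7348 → P i := stepQ 7347 Q7347 (allL N7347 (tt N6013 F57052) (tt N8209 (iv F67912)) (tt N8503 (iv F133360)) (tt N6001 (iv D12356)) (tt N8661 (iv F71440)) (tt N6181 F57053) (tt N8927 D15888) (tt N8924 (iv F72500)) (tt N8921 (iv F72490)) (tt N6103 F57054))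
theorem Q7349 : ∀ i, i < 7349 → P i := stepQ 7348 Q7348 (allL N7348 (tt N6014 F57055) (tt N8210 (iv F67916)) (tt N6372 F57056) (tt N8927 (iv F72516)) (tt N6002 F57057) (tt N8305 (iv F133312)) (tt N6001 (iv D12357)) (tt N8928 D15890) (tt N8922 (iv F72494)) (tt N6104 F57058))
theorem Q7350 : ∀ i, i < 7350 → P i := stepQ 7349 Q7349 (allL N7349 (tt N6015 F57059) (tt N8211 (iv F67921)) (tt N6373 F57060) (tt N8663 (iv F71449)) (tt N8928 (iv F72525)) (tt N6005 F57061) (tt N8926 (iv F72509)) (tt N6002 (iv D12358)) (tt N8923 (iv F72497)) (tt N6105 F57062))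
theorem Q7351 : ∀ i, i < 7351 → P i := stepQ 7350 Q7350 (allL N7350 (tt N6016 F57068) (tt N8212 (iv F67931)) (tt N6169 (iv F133396)) (tt N6004 F57069) (tt N8664 (iv F71460)) (tt N6168 (iv F133333)) (tt N6003 (iv D12360)) (tt N8929 D15894) (tt N8778 (iv F71917)) (tt N6106 F57070))
theorem Q7352 : ∀ i, i < 7352 → P i := stepQ 7351 Q7351 (allL N7351 (tt N6018 F57075) (tt N8214 (iv F67940)) (tt N6374 F57076) (tt N8929 (iv F72541)) (tt N6005 F57077) (tt N8342 (iv F133336)) (tt N7351 F57078) (tt N6004 (iv D12362)) (tt N8780 (iv F71927)) (tt N6107 F57079))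
theorem Q7353 : ∀ i, i < 7353 → P i := stepQ 7352 Q7352 (allL N7352 (tt N8609 (iv F71177)) (tt N6023 F57080) (tt N6375 F57081) (tt N8930 D15897) (tt N6006 (iv D12363)) (tt N6009 F57082) (tt N8931 D15898) (tt N7983 (iv F66649)) (tt N6182 F57083) (tt N8806 (iv F72041)))
theorem Q7354 : ∀ i, i < 7354 → P i := stepQ 7353 Q7353 (allL N7353 (tt N8610 (iv F71182)) (tt N6024 F57084) (tt N6376 F57085) (tt N8122 (iv F67451)) (tt N8931 (iv F72556)) (tt N8782 (iv F71937)) (tt N6006 (iv D12364)) (tt N8932 D15899) (tt N6183 F57086) (tt N8807 (iv F72046)))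
theorem Q7355 : ∀ i, i < 7355 → P i := stepQ 7354 Q7354 (allL N7354 (tt N8607 (iv F71168)) (tt N6026 F57087) (tt N6377 F57088) (tt N8933 D15900) (tt N6007 (iv D12365)) (tt N7983 (iv F66648)) (tt N8934 D15901) (tt N6009 F57089) (tt N6011 F57090) (tt N8021 (iv F66885)))
theorem Q7356 : ∀ i, i < 7356 → P i := stepQ 7355 Q7355 (allL N7355 (tt N8608 (iv F71173)) (tt N6027 F57091) (tt N6378 F57092) (tt N8222 (iv F67983)) (tt N8934 (iv F72566)) (tt N8032 (iv F66940)) (tt N6007 (iv D12366)) (tt N8935 D15902) (tt N6012 F57093) (tt N8022 (iv F66891)))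
theorem Q7357 : ∀ i, i < 7357 → P i := stepQ 7356 Q7356 (allL N7356 (tt N8919 (iv F72481)) (tt N6028 F57094) (tt N6379 F57095) (tt N8936 D15903) (tt N6008 (iv D12367)) (tt N8806 (iv F72038)) (tt N8937 D15904) (tt N8021 (iv F66883)) (tt N6108 F57096) (tt N6009 F57097))
theorem Q7358 : ∀ i, i < 7358 → P i := stepQ 7357 Q7357 (allL N7357 (tt N8920 (iv F72485)) (tt N6029 F57098) (tt N6380 F57099) (tt N8220 (iv F67973)) (tt N8937 (iv F72577)) (tt N8786 (iv F71959)) (tt N6008 (iv D12368)) (tt N8938 D15905) (tt N6109 F57100) (tt N6010 F57101))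
theorem Q7359 : ∀ i, i < 7359 → P i := stepQ 7358 Q7358 (allL N7358 (tt N8921 (iv F72489)) (tt N6030 F57102) (tt N8939 D15906) (tt N6009 (iv D12369)) (tt N8669 (iv F71479)) (tt N8930 (iv F72552)) (tt N8940 D15907) (tt N8933 (iv F72562)) (tt N6013 F57103) (tt N8936 (iv F72574)))
theorem Q7360 : ∀ i, i < 7360 → P i := stepQ 7359 Q7359 (allL N7359 (tt N8922 (iv F72491)) (tt N6031 F57104) (tt N6381 F57105) (tt N8940 (iv F72587)) (tt N6010 F57106) (tt N8941 D15908) (tt N6009 (iv D12370)) (tt N8942 D15909) (tt N6014 F57107) (tt N8937 (iv F72579)))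
theorem Q7361 : ∀ i, i < 7361 → P i := stepQ 7360 Q7360 (allL N7360 (tt N8923 (iv F72495)) (tt N6032 F57108) (tt N6382 F57109) (tt N8671 (iv F71487)) (tt N8942 (iv F72593)) (tt N8789 (iv F71970)) (tt N8935 (iv F72570)) (tt N6010 (iv D12371)) (tt N6015 F57110) (tt N8938 (iv F72583)))
theorem Q7362 : ∀ i, i < 7362 → P i := stepQ 7361 Q7361 (allL N7361 (tt N8924 (iv F72498)) (tt N6033 F57111) (tt N8943 D15910) (tt N6011 (iv D12372)) (tt N8360 (iv F68715)) (tt N6188 F57112) (tt N8944 D15911) (tt N6013 F57113) (tt N8933 (iv F72563)) (tt N6113 F57114))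
theorem Q7363 : ∀ i, i < 7363 → P i := stepQ 7362 Q7362 (allL N7362 (tt N8925 (iv F72502)) (tt N6034 F57115) (tt N6383 F57116) (tt N8944 (iv F72600)) (tt N6012 F57117) (tt N8945 D15912) (tt N6011 (iv D12373)) (tt N8946 D15913) (tt N8934 (iv F72567)) (tt N6114 F57118))
theorem Q7364 : ∀ i, i < 7364 → P i := stepQ 7363 Q7363 (allL N7363 (tt N8926 (iv F72506)) (tt N6035 F57119) (tt N6384 F57120) (tt N8362 (iv F68725)) (tt N8946 (iv F72609)) (tt N7363 F57121) (tt N6015 F57122) (tt N6012 (iv D12374)) (tt N8935 (iv F72571)) (tt N6115 F57123))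
theorem Q7365 : ∀ i, i < 7365 → P i := stepQ 7364 Q7364 (allL N7364 (tt N8503 (iv F133359)) (tt N8947 D15914) (tt N6013 (iv D12375)) (tt N6208 (iv F133154)) (tt N8672 (iv F71490)) (tt N6190 F57125) (tt N8948 D15915) (tt N8943 (iv F72597)) (tt N8939 (iv F72585)) (tt N6116 F57126))
theorem Q7366 : ∀ i, i < 7366 → P i := stepQ 7365 Q7365 (allL N7365 (tt N8927 (iv F72515)) (tt N6037 F57127) (tt N8948 (iv F72616)) (tt N6014 F57128) (tt N8673 (iv F71495)) (tt N8949 D15916) (tt N6013 (iv D12376)) (tt N8950 D15917) (tt N8940 (iv F72588)) (tt N6117 F57129))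
theorem Q7367 : ∀ i, i < 7367 → P i := stepQ 7366 Q7366 (allL N7366 (tt N8305 (iv F133310)) (tt N6038 F57130) (tt N6065 (iv F133080)) (tt N8949 (iv F72620)) (tt N6017 F57132) (tt N6014 (iv D12377)) (tt N6064 F132752) (tt N8951 D15918) (tt N8952 D15919) (tt N6118 F57134))
theorem Q7368 : ∀ i, i < 7368 → P i := stepQ 7367 Q7367 (allL N7367 (tt N8928 (iv F72523)) (tt N6039 F57135) (tt N6385 F57136) (tt N8950 (iv F72624)) (tt N6015 F57137) (tt N8951 (iv F72629)) (tt N8946 (iv F72610)) (tt N6014 (iv D12378)) (tt N8942 (iv F72594)) (tt N6119 F57138))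
theorem Q7369 : ∀ i, i < 7369 → P i := stepQ 7368 Q7368 (allL N7368 (tt N8929 (iv F72540)) (tt N6041 F57147) (tt N8440 (iv F133402)) (tt N6018 F57148) (tt N8677 (iv F71517)) (tt N8438 (iv F133340)) (tt N7368 F57149) (tt N6016 (iv D12381)) (tt N8798 (iv F72012)) (tt N6120 F57150))
theorem Q7370 : ∀ i, i < 7370 → P i := stepQ 7369 Q7369 (allL N7369 (tt N8342 (iv F133334)) (tt N6042 F57151) (tt N6093 (iv F133140)) (tt N8438 (iv F133339)) (tt N8951 (iv F72628)) (tt N6018 F57153) (tt N6097 (iv F133322)) (tt N6017 (iv D12382)) (tt N8953 D15926) (tt N6121 F57154))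
theorem Q7371 : ∀ i, i < 7371 → P i := stepQ 7370 Q7370 (allL N7370 (tt N8325 (iv F133326)) (tt N6043 F57155) (tt N6081 (iv F133133)) (tt N8330 (iv F133330)) (tt N8952 (iv F72633)) (tt N8800 (iv F72020)) (tt N6080 F132766) (tt N8953 (iv F72662)) (tt N6017 (iv D12383)) (tt N8059 (iv F133332)))
theorem Q7372 : ∀ i, i < 7372 → P i := stepQ 7371 Q7371 (allL N7371 (tt N8104 (iv F67349)) (tt N8120 (iv F67437)) (tt N7371 F57158) (tt N6022 F57159) (tt N8954 D15928) (tt N6019 (iv D12384)) (tt N8955 D15929) (tt N8030 (iv F66927)) (tt N7371 F57160) (tt N6020 F57161))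
theorem Q7373 : ∀ i, i < 7373 → P i := stepQ 7372 Q7372 (allL N7372 (tt N8238 (iv F68044)) (tt N8121 (iv F67444)) (tt N7372 F57162) (tt N8956 D15930) (tt N6020 (iv D12385)) (tt N8680 (iv F71528)) (tt N8957 D15931) (tt N8105 (iv F67358)) (tt N6192 F57163) (tt N8954 (iv F72669)))
theorem Q7374 : ∀ i, i < 7374 → P i := stepQ 7373 Q7373 (allL N7373 (tt N8239 (iv F68047)) (tt N8122 (iv F67449)) (tt N7373 F57164) (tt N6024 F57165) (tt N8957 (iv F72677)) (tt N8802 (iv F72026)) (tt N6020 (iv D12386)) (tt N8958 D15932) (tt N6193 F57166) (tt N8955 (iv F72673)))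
theorem Q7375 : ∀ i, i < 7375 → P i := stepQ 7374 Q7374 (allL N7374 (tt N8240 (iv F68051)) (tt N7983 (iv F66646)) (tt N6045 F57167) (tt N8959 D15933) (tt N6021 (iv D12387)) (tt N6026 F57168) (tt N8960 D15934) (tt N6023 F57169) (tt N6194 F57170) (tt N8031 (iv F66936)))
theorem Q7376 : ∀ i, i < 7376 → P i := stepQ 7375 Q7375 (allL N7375 (tt N8241 (iv F68057)) (tt N7984 (iv F66653)) (tt N6046 F57171) (tt N8106 (iv F67362)) (tt N8960 (iv F72686)) (tt N8022 (iv F66889)) (tt N6021 (iv D12388)) (tt N8961 D15935) (tt N6195 F57172) (tt N8032 (iv F66942)))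
theorem Q7377 : ∀ i, i < 7377 → P i := stepQ 7376 Q7376 (allL N7376 (tt N8242 (iv F68061)) (tt N8806 (iv F72036)) (tt N6047 F57173) (tt N8962 D15936) (tt N6022 (iv D12389)) (tt N6028 F57174) (tt N8963 D15937) (tt N8031 (iv F66934)) (tt N7376 F57175) (tt N6023 F57176))
theorem Q7378 : ∀ i, i < 7378 → P i := stepQ 7377 Q7377 (allL N7377 (tt N8243 (iv F68067)) (tt N8807 (iv F72042)) (tt N6048 F57177) (tt N8955 (iv F72671)) (tt N8963 (iv F72695)) (tt N8784 (iv F71948)) (tt N6022 (iv D12390)) (tt N8964 D15938) (tt N7377 F57178) (tt N6024 F57179))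
theorem Q7379 : ∀ i, i < 7379 → P i := stepQ 7378 Q7378 (allL N7378 (tt N8244 (iv F68071)) (tt N8930 (iv F72551)) (tt N8965 D15939) (tt N6023 (iv D12391)) (tt N8956 (iv F72674)) (tt N6030 F57180) (tt N8966 D15940) (tt N8959 (iv F72683)) (tt N6196 F57181) (tt N8962 (iv F72693)))
theorem Q7380 : ∀ i, i < 7380 → P i := stepQ 7379 Q7379 (allL N7379 (tt N8245 (iv F68074)) (tt N8931 (iv F72554)) (tt N6050 F57182) (tt N8966 (iv F72704)) (tt N6024 F57183) (tt N8967 D15941) (tt N6023 (iv D12392)) (tt N8968 D15942) (tt N6197 F57184) (tt N8963 (iv F72697)))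
theorem Q7381 : ∀ i, i < 7381 → P i := stepQ 7380 Q7380 (allL N7380 (tt N8246 (iv F68078)) (tt N8932 (iv F72558)) (tt N6051 F57185) (tt N8958 (iv F72680)) (tt N8968 (iv F72709)) (tt N8805 (iv F72034)) (tt N8961 (iv F72689)) (tt N6024 (iv D12393)) (tt N6198 F57186) (tt N8964 (iv F72700)))
theorem Q7382 : ∀ i, i < 7382 → P i := stepQ 7381 Q7381 (allL N7381 (tt N8247 (iv F68081)) (tt N8031 (iv F66931)) (tt N6052 F57187) (tt N8969 D15943) (tt N6025 (iv D12394)) (tt N8021 (iv F66882)) (tt N8970 D15944) (tt N8806 (iv F72039)) (tt N7381 F57188) (tt N7983 (iv F66651)))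
theorem Q7383 : ∀ i, i < 7383 → P i := stepQ 7382 Q7382 (allL N7382 (tt N8248 (iv F68085)) (tt N8032 (iv F66938)) (tt N6053 F57189) (tt N8124 (iv F67459)) (tt N8970 (iv F72713)) (tt N6027 F57190) (tt N6025 (iv D12395)) (tt N8971 D15945) (tt N7382 F57191) (tt N7984 (iv F66658)))
theorem Q7384 : ∀ i, i < 7384 → P i := stepQ 7383 Q7383 (allL N7383 (tt N8249 (iv F68091)) (tt N8933 (iv F72561)) (tt N8972 D15946) (tt N6026 (iv D12396)) (tt N8252 (iv F68108)) (tt N8959 (iv F72682)) (tt N8973 D15947) (tt N6030 F57192) (tt N6033 F57193) (tt N8033 (iv F66947)))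
theorem Q7385 : ∀ i, i < 7385 → P i := stepQ 7384 Q7384 (allL N7384 (tt N8250 (iv F68096)) (tt N8934 (iv F72564)) (tt N6055 F57194) (tt N8973 (iv F72721)) (tt N6027 F57195) (tt N8974 D15948) (tt N6026 (iv D12397)) (tt N8975 D15949) (tt N6034 F57196) (tt N8034 (iv F66952)))
theorem Q7386 : ∀ i, i < 7386 → P i := stepQ 7385 Q7385 (allL N7385 (tt N8251 (iv F68101)) (tt N8935 (iv F72568)) (tt N6056 F57197) (tt N8254 (iv F68119)) (tt N8975 (iv F72725)) (tt N8971 (iv F72716)) (tt N6032 F57198) (tt N6027 (iv D12398)) (tt N6035 F57199) (tt N8035 (iv F66958)))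
theorem Q7387 : ∀ i, i < 7387 → P i := stepQ 7386 Q7386 (allL N7386 (tt N8252 (iv F68107)) (tt N8936 (iv F72572)) (tt N8976 D15950) (tt N6028 (iv D12399)) (tt N8249 (iv F68092)) (tt N8962 (iv F72691)) (tt N8977 D15951) (tt N8033 (iv F66945)) (tt N6122 F57200) (tt N6030 F57201))
theorem Q7388 : ∀ i, i < 7388 → P i := stepQ 7387 Q7387 (allL N7387 (tt N8253 (iv F68112)) (tt N8937 (iv F72575)) (tt N6058 F57202) (tt N8977 (iv F72731)) (tt N6029 F57203) (tt N8978 D15952) (tt N6028 (iv D12400)) (tt N8979 D15953) (tt N6123 F57204) (tt N6031 F57205))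
theorem Q7389 : ∀ i, i < 7389 → P i := stepQ 7388 Q7388 (allL N7388 (tt N8254 (iv F68117)) (tt N8938 (iv F72580)) (tt N6059 F57206) (tt N8251 (iv F68103)) (tt N8979 (iv F72737)) (tt N8813 (iv F72062)) (tt N8035 (iv F66956)) (tt N6029 (iv D12401)) (tt N6124 F57207) (tt N6032 F57208))
theorem Q7390 : ∀ i, i < 7390 → P i := stepQ 7389 Q7389 (allL N7389 (tt N8255 (iv F68123)) (tt N8980 D15954) (tt N6030 (iv D12402)) (tt N6060 F57209) (tt N8685 (iv F71541)) (tt N8965 (iv F72702)) (tt N8981 D15955) (tt N8972 (iv F72719)) (tt N6036 F57210) (tt N8976 (iv F72730)))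
theorem Q7391 : ∀ i, i < 7391 → P i := stepQ 7390 Q7390 (allL N7390 (tt N8256 (iv F68126)) (tt N8940 (iv F72586)) (tt N8981 (iv F72742)) (tt N6031 F57211) (tt N8686 (iv F71544)) (tt N8982 D15956) (tt N6030 (iv D12403)) (tt N8983 D15957) (tt N6037 F57212) (tt N8977 (iv F72733)))
theorem Q7392 : ∀ i, i < 7392 → P i := stepQ 7391 Q7391 (allL N7391 (tt N8257 (iv F68129)) (tt N8941 (iv F72589)) (tt N6062 F57213) (tt N8982 (iv F72745)) (tt N8816 (iv F72070)) (tt N6031 (iv D12404)) (tt N8967 (iv F72707)) (tt N8984 D15958) (tt N8985 D15959) (tt N8978 (iv F72735)))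
theorem Q7393 : ∀ i, i < 7393 → P i := stepQ 7392 Q7392 (allL N7392 (tt N8258 (iv F68131)) (tt N8942 (iv F72591)) (tt N6063 F57214) (tt N8983 (iv F72746)) (tt N6032 F57215) (tt N8984 (iv F72749)) (tt N8975 (iv F72726)) (tt N6031 (iv D12405)) (tt N6039 F57216) (tt N8979 (iv F72739)))
theorem Q7394 : ∀ i, i < 7394 → P i := stepQ 7393 Q7393 (allL N7393 (tt N8259 (iv F68135)) (tt N6212 (iv F133297)) (tt N6033 (iv D12406)) (tt N6064 F57217) (tt N8383 (iv F68815)) (tt N6191 F132751) (tt N8949 (iv F133314)) (tt N6036 F57219) (tt N8972 (iv F72720)) (tt N6129 F57220))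
theorem Q7395 : ∀ i, i < 7395 → P i := stepQ 7394 Q7394 (allL N7394 (tt N8260 (iv F68141)) (tt N8944 (iv F72599)) (tt N8949 F134090) (tt N6034 F57221) (tt N8384 (iv F68821)) (tt N8948 F134091) (tt N6033 (iv D12407)) (tt N8986 D15963) (tt N8973 (iv F72722)) (tt N6130 F57222))
theorem Q7396 : ∀ i, i < 7396 → P i := stepQ 7395 Q7395 (allL N7395 (tt N8261 (iv F68145)) (tt N8945 (iv F72602)) (tt N6066 F57223) (tt N8948 F133885) (tt N7395 F57224) (tt N6034 (iv D12408)) (tt N6208 F57225) (tt N8987 D15964) (tt N8988 D15965) (tt N6131 F57226))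
theorem Q7397 : ∀ i, i < 7397 → P i := stepQ 7396 Q7396 (allL N7396 (tt N8262 (iv F68150)) (tt N8946 (iv F72607)) (tt N6067 F57227) (tt N8986 (iv F72762)) (tt N6035 F57228) (tt N8987 (iv F72767)) (tt N6039 F57229) (tt N6034 (iv D12409)) (tt N8975 (iv F72727)) (tt N6132 F57230))
theorem Q7398 : ∀ i, i < 7398 → P i := stepQ 7397 Q7397 (allL N7397 (tt N8511 (iv F133295)) (tt N6036 (iv D12410)) (tt N8947 (iv F72612)) (tt N6068 F57231) (tt N8689 (iv F71551)) (tt N6210 F57232) (tt N8989 D15967) (tt N6212 (iv F133298)) (tt N8980 (iv F72741)) (tt N6133 F57233))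
theorem Q7399 : ∀ i, i < 7399 → P i := stepQ 7398 Q7398 (allL N7398 (tt N8264 (iv F68158)) (tt N8989 (iv F72775)) (tt N6037 F57234) (tt N6069 F57235) (tt N8690 (iv F71556)) (tt N8990 D15968) (tt N6036 (iv D12411)) (tt N8991 D15969) (tt N8981 (iv F72744)) (tt N6134 F57236))
theorem Q7400 : ∀ i, i < 7400 → P i := stepQ 7399 Q7399 (allL N7399 (tt N8265 (iv F68162)) (tt N8949 (iv F72619)) (tt N8990 (iv F72778)) (tt N6038 F57237) (tt N8992 D15970) (tt N6037 (iv D12412)) (tt N6212 F57238) (tt N8993 D15971) (tt N8994 D15972) (tt N6135 F57239))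
theorem Q7401 : ∀ i, i < 7401 → P i := stepQ 7400 Q7400 (allL N7400 (tt N8266 (iv F68166)) (tt N8950 (iv F72623)) (tt N8991 (iv F72782)) (tt N6039 F57240) (tt N8692 (iv F71562)) (tt N8993 (iv F72789)) (tt N8986 (iv F72763)) (tt N6037 (iv D12413)) (tt N8983 (iv F72747)) (tt N6136 F57241))
theorem Q7402 : ∀ i, i < 7402 → P i := stepQ 7401 Q7401 (allL N7401 (tt N8267 (iv F68169)) (tt N8951 (iv F72626)) (tt N6072 F57242) (tt N8993 (iv F72788)) (tt N6042 F57243) (tt N6039 F57244) (tt N8995 D15973) (tt N6038 (iv D12414)) (tt N8996 D15974) (tt N6137 F57245))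
theorem Q7403 : ∀ i, i < 7403 → P i := stepQ 7402 Q7402 (allL N7402 (tt N8268 (iv F68174)) (tt N8952 (iv F72631)) (tt N6073 F57246) (tt N8994 (iv F72791)) (tt N6043 F57247) (tt N8985 (iv F72751)) (tt N6213 F57248) (tt N8996 (iv F72799)) (tt N6038 (iv D12415)) (tt N8997 D15975))
theorem Q7404 : ∀ i, i < 7404 → P i := stepQ 7403 Q7403 (allL N7403 (tt N8269 (iv F68178)) (tt N8411 (iv F133337)) (tt N7403 F57249) (tt N8992 (iv F72785)) (tt N6040 (iv D12416)) (tt N8695 (iv F71572)) (tt N6214 F57250) (tt N8998 D15976) (tt N8999 D15977) (tt N6139 F57251))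
theorem Q7405 : ∀ i, i < 7405 → P i := stepQ 7404 Q7404 (allL N7404 (tt N8270 (iv F68182)) (tt N8438 (iv F133338)) (tt N7404 F57252) (tt N6042 F57253) (tt N8998 (iv F72805)) (tt N6041 F57254) (tt N8727 (iv F133280)) (tt N6040 (iv D12417)) (tt N9000 D15979) (tt N6140 F57255))
theorem Q7406 : ∀ i, i < 7406 → P i := stepQ 7405 Q7405 (allL N7405 (tt N8271 (iv F68187)) (tt N8330 (iv F133329)) (tt N7405 F57256) (tt N6043 F57257) (tt N8999 (iv F72808)) (tt N8830 (iv F72115)) (tt N6215 F57258) (tt N9000 (iv F72817)) (tt N6040 (iv D12418)) (tt N8336 (iv F133502)))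
theorem Q7407 : ∀ i, i < 7407 → P i := stepQ 7406 Q7406 (allL N7406 (tt N8272 (iv F68191)) (tt N6097 (iv F133321)) (tt N6074 F57259) (tt N8727 (iv F133279)) (tt N8995 (iv F72794)) (tt N7406 F57260) (tt N6042 (iv D12419)) (tt N6096 F132758) (tt N9001 D15981) (tt N6141 F57262))
theorem Q7408 : ∀ i, i < 7408 → P i := stepQ 7407 Q7407 (allL N7407 (tt N8273 (iv F68196)) (tt N8953 (iv F72660)) (tt N6075 F57263) (tt N9000 (iv F72816)) (tt N8996 (iv F72798)) (tt N8832 (iv F72122)) (tt N9001 (iv F72823)) (tt N6043 F57264) (tt N6042 (iv D12420)) (tt N9002 D15982))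
theorem Q7409 : ∀ i, i < 7409 → P i := stepQ 7408 Q7408 (allL N7408 (tt N8274 (iv F68199)) (tt N8059 (iv F133331)) (tt N6076 F57265) (tt N8336 (iv F133501)) (tt N8997 (iv F72801)) (tt N8833 (iv F72125)) (tt N6216 F57266) (tt N9002 (iv F72826)) (tt N6143 F57267) (tt N6043 (iv D12421)))
theorem Q7410 : ∀ i, i < 7410 → P i := stepQ 7409 Q7409 (allL N7409 (tt N8275 (iv F68203)) (tt N6393 F57268) (tt N8021 (iv F66881)) (tt N9003 D15983) (tt N6044 (iv D12422)) (tt N6052 F57269) (tt N9004 D15984) (tt N6379 F57270) (tt N6476 F57271) (tt N6377 F57272))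
theorem Q7411 : ∀ i, i < 7411 → P i := stepQ 7410 Q7410 (allL N7410 (tt N8276 (iv F68209)) (tt N6394 F57273) (tt N8022 (iv F66887)) (tt N7410 F57274) (tt N9004 (iv F72835)) (tt N6046 F57275) (tt N6044 (iv D12423)) (tt N9005 D15985) (tt N6477 F57276) (tt N6378 F57277))
theorem Q7412 : ∀ i, i < 7412 → P i := stepQ 7411 Q7411 (allL N7411 (tt N8277 (iv F68215)) (tt N6413 F57278) (tt N9006 D15986) (tt N6045 (iv D12424)) (tt N7411 F57279) (tt N6054 F57280) (tt N9007 D15987) (tt N6049 F57281) (tt N6219 F57282) (tt N8044 (iv F67003)))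
theorem Q7413 : ∀ i, i < 7413 → P i := stepQ 7412 Q7412 (allL N7412 (tt N8278 (iv F68222)) (tt N6414 F57283) (tt N8960 (iv F72685)) (tt N9007 (iv F72849)) (tt N6046 F57284) (tt N9008 D15988) (tt N6045 (iv D12425)) (tt N9009 D15989) (tt N6220 F57285) (tt N8045 (iv F67008)))
theorem Q7414 : ∀ i, i < 7414 → P i := stepQ 7413 Q7413 (allL N7413 (tt N8279 (iv F68227)) (tt N6415 F57286) (tt N8961 (iv F72688)) (tt N7413 F57287) (tt N9009 (iv F72855)) (tt N9005 (iv F72840)) (tt N6051 F57288) (tt N6046 (iv D12426)) (tt N6221 F57289) (tt N8046 (iv F67015)))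
theorem Q7415 : ∀ i, i < 7415 → P i := stepQ 7414 Q7414 (allL N7414 (tt N8280 (iv F68233)) (tt N6416 F57290) (tt N9010 D15990) (tt N6047 (iv D12427)) (tt N7414 F57291) (tt N6057 F57292) (tt N9011 D15991) (tt N8044 (iv F67001)) (tt N7414 F57293) (tt N6049 F57294))
theorem Q7416 : ∀ i, i < 7416 → P i := stepQ 7415 Q7415 (allL N7415 (tt N8281 (iv F68240)) (tt N6417 F57295) (tt N8963 (iv F72694)) (tt N9011 (iv F72863)) (tt N6048 F57296) (tt N9012 D15992) (tt N6047 (iv D12428)) (tt N9013 D15993) (tt N7415 F57297) (tt N6050 F57298))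
theorem Q7417 : ∀ i, i < 7417 → P i := stepQ 7416 Q7416 (allL N7416 (tt N8282 (iv F68245)) (tt N6418 F57299) (tt N8964 (iv F72698)) (tt N7416 F57300) (tt N9013 (iv F72871)) (tt N8839 (iv F72156)) (tt N8046 (iv F67013)) (tt N6048 (iv D12429)) (tt N7416 F57301) (tt N6051 F57302))
theorem Q7418 : ∀ i, i < 7418 → P i := stepQ 7417 Q7417 (allL N7417 (tt N8283 (iv F68251)) (tt N9014 D15994) (tt N6049 (iv D12430)) (tt N8965 (iv F72701)) (tt N7417 F57303) (tt N6060 F57304) (tt N9015 D15995) (tt N9006 (iv F72846)) (tt N6222 F57305) (tt N9010 (iv F72861)))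
theorem Q7419 : ∀ i, i < 7419 → P i := stepQ 7418 Q7418 (allL N7418 (tt N8284 (iv F68255)) (tt N6420 F57306) (tt N9015 (iv F72878)) (tt N6050 F57307) (tt N7418 F57308) (tt N9016 D15996) (tt N6049 (iv D12431)) (tt N9017 D15997) (tt N6223 F57309) (tt N9011 (iv F72866)))
theorem Q7420 : ∀ i, i < 7420 → P i := stepQ 7419 Q7419 (allL N7419 (tt N8285 (iv F68260)) (tt N6421 F57310) (tt N8967 (iv F72706)) (tt N9016 (iv F72882)) (tt N8842 (iv F72168)) (tt N6050 (iv D12432)) (tt N6062 F57311) (tt N9018 D15998) (tt N9019 D15999) (tt N9012 (iv F72869)))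
theorem Q7421 : ∀ i, i < 7421 → P i := stepQ 7420 Q7420 (allL N7420 (tt N8286 (iv F68263)) (tt N6422 F57312) (tt N8968 (iv F72708)) (tt N9017 (iv F72885)) (tt N6051 F57313) (tt N9018 (iv F72889)) (tt N9009 (iv F72856)) (tt N6050 (iv D12433)) (tt N6225 F57314) (tt N9013 (iv F72873)))
theorem Q7422 : ∀ i, i < 7422 → P i := stepQ 7421 Q7421 (allL N7421 (tt N8287 (iv F68267)) (tt N6423 F57315) (tt N9020 D16000) (tt N6052 (iv D12434)) (tt N6077 F57316) (tt N9003 (iv F72830)) (tt N9021 D16001) (tt N8844 (iv F72176)) (tt N7421 F57317) (tt N7991 (iv F66698)))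
theorem Q7423 : ∀ i, i < 7423 → P i := stepQ 7422 Q7422 (allL N7422 (tt N8288 (iv F68272)) (tt N6424 F57318) (tt N8970 (iv F72712)) (tt N9021 (iv F72896)) (tt N6053 F57319) (tt N9022 D16002) (tt N6052 (iv D12435)) (tt N9023 D16003) (tt N7422 F57320) (tt N7992 (iv F66703)))
theorem Q7424 : ∀ i, i < 7424 → P i := stepQ 7423 Q7423 (allL N7423 (tt N8289 (iv F68277)) (tt N6425 F57321) (tt N8971 (iv F72715)) (tt N6079 F57322) (tt N9023 (iv F72902)) (tt N6056 F57323) (tt N8846 (iv F72186)) (tt N6053 (iv D12436)) (tt N7423 F57324) (tt N7993 (iv F66710)))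
theorem Q7425 : ∀ i, i < 7425 → P i := stepQ 7424 Q7424 (allL N7424 (tt N8290 (iv F68283)) (tt N6213 (iv F133302)) (tt N6054 (iv D12437)) (tt N8972 (iv F72718)) (tt N6080 F57325) (tt N9006 (iv F72845)) (tt N8952 (iv F133315)) (tt N6060 F57326) (tt N6064 F57327) (tt N8047 (iv F67020)))
theorem Q7426 : ∀ i, i < 7426 → P i := stepQ 7425 Q7425 (allL N7425 (tt N8291 (iv F68288)) (tt N6410 F133893) (tt N8952 F133894) (tt N6055 F57329) (tt N6081 F57330) (tt N9024 D16006) (tt N6054 (iv D12438)) (tt N9025 D16007) (tt N6065 F57331) (tt N8048 (iv F67026)))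
theorem Q7427 : ∀ i, i < 7427 → P i := stepQ 7426 Q7426 (allL N7426 (tt N8292 (iv F68294)) (tt N6429 F57332) (tt N8974 (iv F72723)) (tt N9024 (iv F72912)) (tt N9022 (iv F72900)) (tt N6055 (iv D12439)) (tt N9008 (iv F72853)) (tt N9026 D16008) (tt N9027 D16009) (tt N8049 (iv F67029)))
theorem Q7428 : ∀ i, i < 7428 → P i := stepQ 7427 Q7427 (allL N7427 (tt N8293 (iv F68297)) (tt N6430 F57333) (tt N8975 (iv F72724)) (tt N9025 (iv F72914)) (tt N6056 F57334) (tt N9026 (iv F72919)) (tt N6063 F57335) (tt N6055 (iv D12440)) (tt N6067 F57336) (tt N8050 (iv F67035)))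
theorem Q7429 : ∀ i, i < 7429 → P i := stepQ 7428 Q7428 (allL N7428 (tt N8294 (iv F68303)) (tt N9028 D16010) (tt N6057 (iv D12441)) (tt N8976 (iv F72728)) (tt N6084 F57337) (tt N9010 (iv F72859)) (tt N9029 D16011) (tt N8047 (iv F67018)) (tt N6144 F57338) (tt N6060 F57339))
theorem Q7430 : ∀ i, i < 7430 → P i := stepQ 7429 Q7429 (allL N7429 (tt N8295 (iv F68308)) (tt N6432 F57340) (tt N9029 (iv F72926)) (tt N6058 F57341) (tt N6085 F57342) (tt N9030 D16012) (tt N6057 (iv D12442)) (tt N9031 D16013) (tt N6145 F57343) (tt N6061 F57344))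
theorem Q7431 : ∀ i, i < 7431 → P i := stepQ 7430 Q7430 (allL N7430 (tt N8296 (iv F68314)) (tt N6433 F57345) (tt N8978 (iv F72734)) (tt N9030 (iv F72931)) (tt N8856 (iv F72226)) (tt N6058 (iv D12443)) (tt N9012 (iv F72868)) (tt N9032 D16014) (tt N9033 D16015) (tt N6062 F57346))
theorem Q7432 : ∀ i, i < 7432 → P i := stepQ 7431 Q7431 (allL N7431 (tt N8297 (iv F68317)) (tt N6434 F57347) (tt N8979 (iv F72736)) (tt N9031 (iv F72934)) (tt N6059 F57348) (tt N9032 (iv F72939)) (tt N8050 (iv F67033)) (tt N6058 (iv D12444)) (tt N6147 F57349) (tt N6063 F57350))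
theorem Q7433 : ∀ i, i < 7433 → P i := stepQ 7432 Q7432 (allL N7432 (tt N8514 (iv F133299)) (tt N6060 (iv D12445)) (tt N6239 (iv F133123)) (tt N8980 (iv F72740)) (tt N6088 F57352) (tt N9014 (iv F72876)) (tt N9034 D16017) (tt N6213 (iv F133303)) (tt N6068 F57353) (tt N9028 (iv F72925)))
theorem Q7434 : ∀ i, i < 7434 → P i := stepQ 7433 Q7433 (allL N7433 (tt N8299 (iv F68326)) (tt N9034 (iv F72946)) (tt N6061 F57354) (tt N8981 (iv F72743)) (tt N6089 F57355) (tt N9035 D16018) (tt N6060 (iv D12446)) (tt N9036 D16019) (tt N6069 F57356) (tt N9029 (iv F72929)))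
theorem Q7435 : ∀ i, i < 7435 → P i := stepQ 7434 Q7434 (allL N7434 (tt N8300 (iv F68330)) (tt N6436 F57357) (tt N9035 (iv F72950)) (tt N6062 F57358) (tt N9037 D16020) (tt N6061 (iv D12447)) (tt N9016 (iv F72883)) (tt N9038 D16021) (tt N9039 D16022) (tt N9030 (iv F72932)))
theorem Q7436 : ∀ i, i < 7436 → P i := stepQ 7435 Q7435 (allL N7435 (tt N8301 (iv F68333)) (tt N6437 F57359) (tt N9036 (iv F72951)) (tt N6063 F57360) (tt N6091 F57361) (tt N9038 (iv F72958)) (tt N9025 (iv F72916)) (tt N6061 (iv D12448)) (tt N6071 F57362) (tt N9031 (iv F72937)))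
theorem Q7437 : ∀ i, i < 7437 → P i := stepQ 7436 Q7436 (allL N7436 (tt N8302 (iv F68338)) (tt N6438 F57363) (tt N8984 (iv F72748)) (tt N9038 (iv F72957)) (tt N8862 (iv F72245)) (tt N6063 F57364) (tt N9040 D16023) (tt N6062 (iv D12449)) (tt N9041 D16024) (tt N9032 (iv F72940)))
theorem Q7438 : ∀ i, i < 7438 → P i := stepQ 7437 Q7437 (allL N7437 (tt N8303 (iv F68341)) (tt N6439 F57365) (tt N8985 (iv F72750)) (tt N9039 (iv F72960)) (tt N8863 (iv F72248)) (tt N6073 F57366) (tt N9019 (iv F72892)) (tt N9041 (iv F72965)) (tt N6062 (iv D12450)) (tt N9042 D16025))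
theorem Q7439 : ∀ i, i < 7439 → P i := stepQ 7438 Q7438 (allL N7438 (tt N8306 (iv F68358)) (tt N6409 F133890) (tt N8951 F133891) (tt N6067 F57380) (tt N6093 F57381) (tt N6385 F133892) (tt N6071 F57382) (tt N6065 (iv D12454)) (tt N9025 (iv F72917)) (tt N6154 F57383))
theorem Q7440 : ∀ i, i < 7440 → P i := stepQ 7439 Q7439 (allL N7439 (tt N8307 (iv F68364)) (tt N6408 F133886) (tt N8987 (iv F72765)) (tt N6385 F133887) (tt N7439 F57385) (tt N6067 F57386) (tt N9043 D16033) (tt N6066 (iv D12455)) (tt N9044 D16034) (tt N6155 F57387))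
theorem Q7441 : ∀ i, i < 7441 → P i := stepQ 7440 Q7440 (allL N7440 (tt N8308 (iv F68369)) (tt N6402 F133888) (tt N8988 (iv F72769)) (tt N6381 F133889) (tt N7440 F57389) (tt N9027 (iv F72921)) (tt N6234 F57390) (tt N9044 (iv F73003)) (tt N6066 (iv D12456)) (tt N9045 D16035))
theorem Q7442 : ∀ i, i < 7442 → P i := stepQ 7441 Q7441 (allL N7441 (tt N8513 (iv F133304)) (tt N6069 F57395) (tt N6238 (iv F133125)) (tt N8989 (iv F72776)) (tt N6096 F57397) (tt N9046 D16037) (tt N6068 (iv D12458)) (tt N8995 (iv F133309)) (tt N9034 (iv F72949)) (tt N6157 F57398))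
theorem Q7443 : ∀ i, i < 7443 → P i := stepQ 7442 Q7442 (allL N7442 (tt N8311 (iv F68382)) (tt N9046 (iv F73012)) (tt N6070 F57399) (tt N8990 (iv F72779)) (tt N7442 F57400) (tt N6069 (iv D12459)) (tt N6235 F57401) (tt N9047 D16039) (tt N9048 D16040) (tt N6158 F57402))
theorem Q7444 : ∀ i, i < 7444 → P i := stepQ 7443 Q7443 (allL N7443 (tt N8312 (iv F68387)) (tt N8995 F134128) (tt N6071 F57403) (tt N8991 (iv F72783)) (tt N6097 F57404) (tt N9047 (iv F73023)) (tt N8951 F134129) (tt N6069 (iv D12460)) (tt N9036 (iv F72953)) (tt N6159 F57405))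
theorem Q7445 : ∀ i, i < 7445 → P i := stepQ 7444 Q7444 (allL N7444 (tt N8313 (iv F68391)) (tt N6441 F57406) (tt N9047 (iv F73021)) (tt N6072 F57407) (tt N7444 F57408) (tt N6071 F57409) (tt N9049 D16041) (tt N6070 (iv D12461)) (tt N9050 D16042) (tt N6160 F57410))
theorem Q7446 : ∀ i, i < 7446 → P i := stepQ 7445 Q7445 (allL N7445 (tt N8314 (iv F68397)) (tt N6442 F57411) (tt N9048 (iv F73025)) (tt N6073 F57412) (tt N7445 F57413) (tt N9039 (iv F72961)) (tt N6237 F57414) (tt N9050 (iv F73036)) (tt N6070 (iv D12462)) (tt N9051 D16043))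
theorem Q7447 : ∀ i, i < 7447 → P i := stepQ 7446 Q7446 (allL N7446 (tt N8315 (iv F68402)) (tt N6440 F133937) (tt N8995 (iv F72793)) (tt N9049 (iv F73029)) (tt N6074 F57416) (tt N9043 (iv F72998)) (tt N6072 (iv D12463)) (tt N6238 F57417) (tt N9052 D16044) (tt N6162 F57418))
theorem Q7448 : ∀ i, i < 7448 → P i := stepQ 7447 Q7447 (allL N7447 (tt N8316 (iv F68407)) (tt N6443 F57419) (tt N8996 (iv F72797)) (tt N9050 (iv F73034)) (tt N6075 F57420) (tt N9041 (iv F72964)) (tt N9052 (iv F73044)) (tt N6073 F57421) (tt N6072 (iv D12464)) (tt N9053 D16045))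
theorem Q7449 : ∀ i, i < 7449 → P i := stepQ 7448 Q7448 (allL N7448 (tt N8317 (iv F68411)) (tt N6444 F57422) (tt N8997 (iv F72800)) (tt N9051 (iv F73038)) (tt N6076 F57423) (tt N9042 (iv F72967)) (tt N6240 F57424) (tt N9053 (iv F73048)) (tt N6164 F57425) (tt N6073 (iv D12465)))
theorem Q7450 : ∀ i, i < 7450 → P i := stepQ 7449 Q7449 (allL N7449 (tt N8318 (iv F68416)) (tt N6445 F57426) (tt N9001 (iv F72822)) (tt N7449 F57427) (tt N9052 (iv F73043)) (tt N9054 D16046) (tt N6075 F57428) (tt N6241 F57429) (tt N6074 (iv D12466)) (tt N9055 D16047))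
theorem Q7451 : ∀ i, i < 7451 → P i := stepQ 7450 Q7450 (allL N7450 (tt N8319 (iv F68421)) (tt N6446 F57430) (tt N9002 (iv F72825)) (tt N7450 F57431) (tt N9053 (iv F73047)) (tt N8880 (iv F72315)) (tt N9055 (iv F73056)) (tt N6076 F57432) (tt N6166 F57433) (tt N6075 (iv D12467)))
theorem Q7452 : ∀ i, i < 7452 → P i := stepQ 7451 Q7451 (allL N7451 (tt N8320 (iv F68426)) (tt N9056 D16048) (tt N6077 (iv D12468)) (tt N8183 (iv F67753)) (tt N9020 (iv F72893)) (tt N7451 F57434) (tt N9057 D16049) (tt N8881 (iv F72319)) (tt N7451 F57435) (tt N8003 (iv F66763)))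
theorem Q7453 : ∀ i, i < 7453 → P i := stepQ 7452 Q7452 (allL N7452 (tt N8321 (iv F68431)) (tt N6451 F57436) (tt N9057 (iv F73062)) (tt N6078 F57437) (tt N9021 (iv F72897)) (tt N9058 D16050) (tt N6077 (iv D12469)) (tt N9059 D16051) (tt N7452 F57438) (tt N8004 (iv F66768)))
theorem Q7454 : ∀ i, i < 7454 → P i := stepQ 7453 Q7453 (allL N7453 (tt N8322 (iv F68436)) (tt N6452 F57439) (tt N8185 (iv F67764)) (tt N9058 (iv F73065)) (tt N6082 F57440) (tt N6078 (iv D12470)) (tt N7453 F57441) (tt N9060 D16052) (tt N9061 D16053) (tt N8005 (iv F66775)))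
theorem Q7455 : ∀ i, i < 7455 → P i := stepQ 7454 Q7454 (allL N7454 (tt N8323 (iv F68442)) (tt N6453 F57442) (tt N8186 (iv F67770)) (tt N9059 (iv F73068)) (tt N6079 F57443) (tt N9060 (iv F73072)) (tt N8884 (iv F72329)) (tt N6078 (iv D12471)) (tt N7454 F57444) (tt N8006 (iv F66781)))
theorem Q7456 : ∀ i, i < 7456 → P i := stepQ 7455 Q7455 (allL N7455 (tt N8326 (iv F68459)) (tt N6302 F133947) (tt N8800 F133948) (tt N6082 F57452) (tt N9062 D16058) (tt N6081 (iv D12474)) (tt N7455 F57453) (tt N9063 D16059) (tt N6281 F133949) (tt N8060 (iv F67094)))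
theorem Q7457 : ∀ i, i < 7457 → P i := stepQ 7456 Q7456 (allL N7456 (tt N8327 (iv F68464)) (tt N6411 F133950) (tt N8953 F133951) (tt N6083 F57455) (tt N9025 (iv F72915)) (tt N9063 (iv F73094)) (tt N6091 F57456) (tt N6081 (iv D12475)) (tt N6093 F57457) (tt N8061 (iv F67100)))
theorem Q7458 : ∀ i, i < 7458 → P i := stepQ 7457 Q7457 (allL N7457 (tt N8328 (iv F68470)) (tt N6456 F57458) (tt N8333 (iv F68505)) (tt N9063 (iv F73093)) (tt N9060 (iv F73071)) (tt N6083 F57459) (tt N9064 D16061) (tt N6082 (iv D12476)) (tt N9065 D16062) (tt N8062 (iv F67106)))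
theorem Q7459 : ∀ i, i < 7459 → P i := stepQ 7458 Q7458 (allL N7458 (tt N8329 (iv F68475)) (tt N6299 F134017) (tt N8334 (iv F68510)) (tt N6281 F134018) (tt N9061 (iv F73074)) (tt N6095 F57461) (tt N7458 F57462) (tt N9065 (iv F73105)) (tt N6082 (iv D12477)) (tt N7458 F57463))
theorem Q7460 : ∀ i, i < 7460 → P i := stepQ 7459 Q7459 (allL N7459 (tt N8481 F132755) (tt N6084 (iv D12478)) (tt N6242 (iv F133131)) (tt N8324 (iv F68449)) (tt N9028 (iv F72923)) (tt N7459 F57465) (tt N9066 D16064) (tt N6216 F132764) (tt N6167 F57466) (tt N6088 F57467))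
theorem Q7461 : ∀ i, i < 7461 → P i := stepQ 7460 Q7460 (allL N7460 (tt N8330 (iv F68487)) (tt N9066 (iv F73111)) (tt N6085 F57468) (tt N8325 (iv F68456)) (tt N9029 (iv F72927)) (tt N9067 D16065) (tt N6084 (iv D12479)) (tt N9068 D16066) (tt N6168 F57469) (tt N6089 F57470))
theorem Q7462 : ∀ i, i < 7462 → P i := stepQ 7461 Q7461 (allL N7461 (tt N8331 (iv F68492)) (tt N6458 F57471) (tt N9067 (iv F73115)) (tt N6086 F57472) (tt N9069 D16067) (tt N6085 (iv D12480)) (tt N7461 F57473) (tt N9070 D16068) (tt N9071 D16069) (tt N6090 F57474))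
theorem Q7463 : ∀ i, i < 7463 → P i := stepQ 7462 Q7462 (allL N7462 (tt N8332 (iv F68497)) (tt N6459 F57475) (tt N9068 (iv F73118)) (tt N6087 F57476) (tt N9031 (iv F72935)) (tt N9070 (iv F73126)) (tt N8061 (iv F67098)) (tt N6085 (iv D12481)) (tt N6170 F57477) (tt N6091 F57478))
theorem Q7464 : ∀ i, i < 7464 → P i := stepQ 7463 Q7463 (allL N7463 (tt N8333 (iv F68503)) (tt N6460 F57479) (tt N8328 (iv F68472)) (tt N9070 (iv F73125)) (tt N8899 (iv F72381)) (tt N6087 F57480) (tt N9072 D16070) (tt N6086 (iv D12482)) (tt N9073 D16071) (tt N6092 F57481))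
theorem Q7465 : ∀ i, i < 7465 → P i := stepQ 7464 Q7464 (allL N7464 (tt N8334 (iv F68508)) (tt N6461 F57482) (tt N8329 (iv F68477)) (tt N9071 (iv F73129)) (tt N8900 (iv F72385)) (tt N6172 F57483) (tt N7464 F57484) (tt N9073 (iv F73138)) (tt N6086 (iv D12483)) (tt N7464 F57485))
theorem Q7466 : ∀ i, i < 7466 → P i := stepQ 7465 Q7465 (allL N7465 (tt N8518 (iv F133320)) (tt N6089 F57489) (tt N6241 (iv F133129)) (tt N8721 (iv F71668)) (tt N9034 (iv F72948)) (tt N9074 D16073) (tt N6088 (iv D12485)) (tt N9001 (iv F133323)) (tt N6096 F57491) (tt N9066 (iv F73114)))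
theorem Q7467 : ∀ i, i < 7467 → P i := stepQ 7466 Q7466 (allL N7466 (tt N8337 (iv F68521)) (tt N9074 (iv F73143)) (tt N6090 F57492) (tt N8722 (iv F71671)) (tt N9075 D16075) (tt N6089 (iv D12486)) (tt N7466 F57493) (tt N9076 D16076) (tt N7466 F57494) (tt N9067 (iv F73117)))
theorem Q7468 : ∀ i, i < 7468 → P i := stepQ 7467 Q7467 (allL N7467 (tt N8338 (iv F68525)) (tt N9001 F134082) (tt N6091 F57495) (tt N8723 (iv F71675)) (tt N9036 (iv F72952)) (tt N9076 (iv F73154)) (tt N8953 F134083) (tt N6089 (iv D12487)) (tt N6097 F57496) (tt N9068 (iv F73120)))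
theorem Q7469 : ∀ i, i < 7469 → P i := stepQ 7468 Q7468 (allL N7468 (tt N8339 (iv F68528)) (tt N6463 F57497) (tt N9075 (iv F73150)) (tt N8905 (iv F72401)) (tt N6090 (iv D12488)) (tt N9037 (iv F72955)) (tt N7468 F57498) (tt N9077 D16077) (tt N7468 F57499) (tt N9069 (iv F73123)))
theorem Q7470 : ∀ i, i < 7470 → P i := stepQ 7469 Q7469 (allL N7469 (tt N8340 (iv F68532)) (tt N6464 F57500) (tt N9076 (iv F73153)) (tt N6092 F57501) (tt N9077 (iv F73157)) (tt N6091 F57502) (tt N9078 D16078) (tt N6090 (iv D12489)) (tt N7469 F57503) (tt N9070 (iv F73127)))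
theorem Q7471 : ∀ i, i < 7471 → P i := stepQ 7470 Q7470 (allL N7470 (tt N8341 (iv F68537)) (tt N6465 F57504) (tt N8726 (iv F71685)) (tt N9078 (iv F73160)) (tt N8907 (iv F72409)) (tt N9064 (iv F73101)) (tt N6092 (iv D12490)) (tt N7470 F57505) (tt N7470 F57506) (tt N9072 (iv F73135)))
theorem Q7472 : ∀ i, i < 7472 → P i := stepQ 7471 Q7471 (allL N7471 (tt N8343 (iv F68577)) (tt N6300 F134015) (tt N8442 (iv F69165)) (tt N6282 F134016) (tt N7471 F57534) (tt N9065 (iv F73104)) (tt N7471 F57535) (tt N6095 F57536) (tt N6094 (iv D12498)) (tt N7471 F57537))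
theorem Q7473 : ∀ i, i < 7473 → P i := stepQ 7472 Q7472 (allL N7472 (tt N6108 F57569) (tt N8346 (iv F68624)) (tt N6469 F57570) (tt N9079 D16095) (tt N6098 (iv D12506)) (tt N7472 F57571) (tt N9080 D16096) (tt N8016 (iv F66857)) (tt N8919 (iv F72483)) (tt N6099 F57572))
theorem Q7474 : ∀ i, i < 7474 → P i := stepQ 7473 Q7473 (allL N7473 (tt N6109 F57573) (tt N8347 (iv F68630)) (tt N6470 F57574) (tt N8208 (iv F67908)) (tt N9080 (iv F73236)) (tt N7473 F57575) (tt N6098 (iv D12507)) (tt N9081 D16097) (tt N8920 (iv F72487)) (tt N6100 F57576))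
theorem Q7475 : ∀ i, i < 7475 → P i := stepQ 7474 Q7474 (allL N7474 (tt N6110 F57577) (tt N8348 (iv F68636)) (tt N8571 (iv F133367)) (tt N6099 (iv D12508)) (tt N8351 (iv F68655)) (tt N7474 F57578) (tt N9082 D16099) (tt N8064 (iv F67128)) (tt N6103 F57579) (tt N9079 (iv F73233)))
theorem Q7476 : ∀ i, i < 7476 → P i := stepQ 7475 Q7475 (allL N7475 (tt N6111 F57580) (tt N8349 (iv F68642)) (tt N6471 F57581) (tt N9082 (iv F73247)) (tt N6100 F57582) (tt N8765 (iv F133378)) (tt N6099 (iv D12509)) (tt N9083 D16101) (tt N6104 F57583) (tt N9080 (iv F73237)))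
theorem Q7477 : ∀ i, i < 7477 → P i := stepQ 7476 Q7476 (allL N7476 (tt N6112 F57584) (tt N8350 (iv F68647)) (tt N6472 F57585) (tt N8353 (iv F68667)) (tt N9083 (iv F73255)) (tt N7476 F57586) (tt N8066 (iv F67140)) (tt N6100 (iv D12510)) (tt N6105 F57587) (tt N9081 (iv F73241)))
theorem Q7478 : ∀ i, i < 7478 → P i := stepQ 7477 Q7477 (allL N7477 (tt N6113 F57588) (tt N8351 (iv F68654)) (tt N8570 F132776) (tt N6101 (iv D12511)) (tt N8348 (iv F68637)) (tt N6245 F57589) (tt N9084 D16103) (tt N6103 F57590) (tt N8064 (iv F67129)) (tt N8924 (iv F72501)))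
theorem Q7479 : ∀ i, i < 7479 → P i := stepQ 7478 Q7478 (allL N7478 (tt N6114 F57591) (tt N8352 (iv F68660)) (tt N6473 F57592) (tt N9084 (iv F73262)) (tt N6102 F57593) (tt N8584 F132775) (tt N6101 (iv D12512)) (tt N9085 D16105) (tt N8065 (iv F67134)) (tt N8925 (iv F72505)))
theorem Q7480 : ∀ i, i < 7480 → P i := stepQ 7479 Q7479 (allL N7479 (tt N6115 F57594) (tt N8353 (iv F68665)) (tt N6474 F57595) (tt N8350 (iv F68649)) (tt N9085 (iv F73269)) (tt N7479 F57596) (tt N6105 F57597) (tt N6102 (iv D12513)) (tt N8066 (iv F67141)) (tt N8926 (iv F72510)))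
theorem Q7481 : ∀ i, i < 7481 → P i := stepQ 7480 Q7480 (allL N7480 (tt N6117 F57601) (tt N8355 (iv F68675)) (tt N8394 (iv F133365)) (tt N6104 F57602) (tt N8728 (iv F71704)) (tt N8393 (iv F133371)) (tt N6103 (iv D12515)) (tt N9086 D16109) (tt N9082 (iv F73248)) (tt N8927 (iv F72517)))
theorem Q7482 : ∀ i, i < 7482 → P i := stepQ 7481 Q7481 (allL N7481 (tt N6119 F57607) (tt N8357 (iv F68683)) (tt N6475 F57608) (tt N9086 (iv F73280)) (tt N6105 F57609) (tt N8424 (iv F133377)) (tt N9085 (iv F73270)) (tt N6104 (iv D12517)) (tt N9083 (iv F73256)) (tt N8928 (iv F72526)))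
theorem Q7483 : ∀ i, i < 7483 → P i := stepQ 7482 Q7482 (allL N7482 (tt N6120 F57622) (tt N8358 (iv F68701)) (tt N6176 (iv F133395)) (tt N6107 F57623) (tt N8732 (iv F71728)) (tt N6174 (iv F133397)) (tt N7482 F57624) (tt N6106 (iv D12521)) (tt N7482 F57625) (tt N8929 (iv F72543)))
theorem Q7484 : ∀ i, i < 7484 → P i := stepQ 7483 Q7483 (allL N7483 (tt N9079 (iv F73231)) (tt N6122 F57633) (tt N9087 D16121) (tt N6108 (iv D12524)) (tt N8226 (iv F67996)) (tt N7483 F57634) (tt N9088 D16122) (tt N8023 (iv F66895)) (tt N8936 (iv F72573)) (tt N6110 F57635))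
theorem Q7485 : ∀ i, i < 7485 → P i := stepQ 7484 Q7484 (allL N7484 (tt N9080 (iv F73234)) (tt N6123 F57636) (tt N6480 F57637) (tt N9088 (iv F73327)) (tt N6109 F57638) (tt N9089 D16123) (tt N6108 (iv D12525)) (tt N9090 D16124) (tt N8937 (iv F72578)) (tt N6111 F57639))
theorem Q7486 : ∀ i, i < 7486 → P i := stepQ 7485 Q7485 (allL N7485 (tt N9081 (iv F73238)) (tt N6124 F57640) (tt N6481 F57641) (tt N8228 (iv F68006)) (tt N9090 (iv F73336)) (tt N7485 F57642) (tt N8025 (iv F66905)) (tt N6109 (iv D12526)) (tt N8938 (iv F72582)) (tt N6112 F57643))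
theorem Q7487 : ∀ i, i < 7487 → P i := stepQ 7486 Q7486 (allL N7486 (tt N8571 (iv F133366)) (tt N9091 D16125) (tt N6110 (iv D12527)) (tt N6250 (iv F133153)) (tt N8367 (iv F68748)) (tt N7486 F57645) (tt N9092 D16126) (tt N8070 (iv F67163)) (tt N6116 F57646) (tt N9087 (iv F73325)))
theorem Q7488 : ∀ i, i < 7488 → P i := stepQ 7487 Q7487 (allL N7487 (tt N9082 (iv F73246)) (tt N6126 F57647) (tt N9092 (iv F73342)) (tt N6111 F57648) (tt N8368 (iv F68754)) (tt N9093 D16127) (tt N6110 (iv D12528)) (tt N9094 D16128) (tt N6117 F57649) (tt N9088 (iv F73328)))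
theorem Q7489 : ∀ i, i < 7489 → P i := stepQ 7488 Q7488 (allL N7488 (tt N8765 F133962) (tt N6127 F57650) (tt N6482 F57651) (tt N9093 (iv F73346)) (tt N7488 F57652) (tt N6111 (iv D12529)) (tt N7488 F57653) (tt N9095 D16129) (tt N8090 F133963) (tt N9089 (iv F73333)))
theorem Q7490 : ∀ i, i < 7490 → P i := stepQ 7489 Q7489 (allL N7489 (tt N9083 (iv F73253)) (tt N6128 F57654) (tt N6483 F57655) (tt N9094 (iv F73349)) (tt N6112 F57656) (tt N9095 (iv F73354)) (tt N8073 (iv F67176)) (tt N6111 (iv D12530)) (tt N6119 F57657) (tt N9090 (iv F73337)))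
theorem Q7491 : ∀ i, i < 7491 → P i := stepQ 7490 Q7490 (allL N7490 (tt N8570 F132777) (tt N6251 F132784) (tt N6113 (iv D12531)) (tt N6249 F132778) (tt N8363 (iv F68730)) (tt N6246 F57659) (tt N9096 D16132) (tt N6116 F57660) (tt N8070 (iv F67164)) (tt N8943 (iv F72598)))
theorem Q7492 : ∀ i, i < 7492 → P i := stepQ 7491 Q7491 (allL N7491 (tt N9084 (iv F73261)) (tt N6130 F57661) (tt N9096 (iv F73364)) (tt N6114 F57662) (tt N8364 (iv F68736)) (tt N9097 D16133) (tt N6113 (iv D12532)) (tt N9098 D16134) (tt N8071 (iv F67168)) (tt N8944 (iv F72601)))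
theorem Q7493 : ∀ i, i < 7493 → P i := stepQ 7492 Q7492 (allL N7492 (tt N8584 F132902) (tt N6131 F57663) (tt N6259 F132903) (tt N9097 (iv F73367)) (tt N7492 F57665) (tt N6114 (iv D12533)) (tt N6248 F57666) (tt N9099 D16135) (tt N9100 D16136) (tt N8945 (iv F72606)))
theorem Q7494 : ∀ i, i < 7494 → P i := stepQ 7493 Q7493 (allL N7493 (tt N9085 (iv F73267)) (tt N6132 F57667) (tt N6484 F57668) (tt N9098 (iv F73370)) (tt N6115 F57669) (tt N9099 (iv F73375)) (tt N6119 F57670) (tt N6114 (iv D12534)) (tt N8073 (iv F67177)) (tt N8946 (iv F72611)))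
theorem Q7495 : ∀ i, i < 7495 → P i := stepQ 7494 Q7494 (allL N7494 (tt N8577 F132782) (tt N6116 (iv D12535)) (tt N6133 F57671) (tt N6248 F132791) (tt N8735 (iv F71740)) (tt N6247 F132792) (tt N9097 (iv F133353)) (tt N6251 F132783) (tt N9091 (iv F73341)) (tt N8947 (iv F72615)))
theorem Q7496 : ∀ i, i < 7496 → P i := stepQ 7495 Q7495 (allL N7495 (tt N8394 (iv F133364)) (tt N9097 (iv F133351)) (tt N6117 F57674) (tt N6131 (iv F133155)) (tt N8736 (iv F71744)) (tt N6130 (iv F133347)) (tt N6116 (iv D12536)) (tt N9101 D16140) (tt N9092 (iv F73344)) (tt N8948 (iv F72618)))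
theorem Q7497 : ∀ i, i < 7497 → P i := stepQ 7496 Q7496 (allL N7496 (tt N8393 (iv F133369)) (tt N6135 F57676) (tt N6130 (iv F133346)) (tt N6118 F57677) (tt N8387 (iv F133407)) (tt N6117 (iv D12537)) (tt N6129 F132809) (tt N9102 D16142) (tt N8079 (iv F133410)) (tt N8949 (iv F72622)))
theorem Q7498 : ∀ i, i < 7498 → P i := stepQ 7497 Q7497 (allL N7497 (tt N9086 (iv F73279)) (tt N6136 F57679) (tt N9101 (iv F73389)) (tt N6119 F57680) (tt N8738 (iv F71750)) (tt N9102 (iv F73396)) (tt N9098 (iv F73371)) (tt N6117 (iv D12538)) (tt N9094 (iv F73350)) (tt N8950 (iv F72625)))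
theorem Q7499 : ∀ i, i < 7499 → P i := stepQ 7498 Q7498 (allL N7498 (tt N8424 (iv F133375)) (tt N6137 F57681) (tt N6154 (iv F133159)) (tt N9102 (iv F73395)) (tt N6121 F57683) (tt N6119 F57684) (tt N6159 (iv F133412)) (tt N6118 (iv D12539)) (tt N8091 (iv F133414)) (tt N8951 (iv F72630)))
theorem Q7500 : ∀ i, i < 7500 → P i := stepQ 7499 Q7499 (allL N7499 (tt N8383 (iv F68813)) (tt N9103 D16157) (tt N6122 (iv D12549)) (tt N6144 F57719) (tt N8259 (iv F68137)) (tt N7499 F57720) (tt N9104 D16158) (tt N8036 (iv F66963)) (tt N8976 (iv F72729)) (tt N6125 F57721))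
theorem Q7501 : ∀ i, i < 7501 → P i := stepQ 7500 Q7500 (allL N7500 (tt N8384 (iv F68819)) (tt N9088 (iv F73326)) (tt N9104 (iv F73452)) (tt N6123 F57722) (tt N8260 (iv F68143)) (tt N9105 D16159) (tt N6122 (iv D12550)) (tt N9106 D16160) (tt N8977 (iv F72732)) (tt N6126 F57723))
theorem Q7502 : ∀ i, i < 7502 → P i := stepQ 7501 Q7501 (allL N7501 (tt N8385 (iv F68823)) (tt N9089 (iv F73329)) (tt N6146 F57724) (tt N9105 (iv F73455)) (tt N7501 F57725) (tt N6123 (iv D12551)) (tt N7501 F57726) (tt N9107 D16161) (tt N9108 D16162) (tt N6127 F57727))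
theorem Q7503 : ∀ i, i < 7503 → P i := stepQ 7502 Q7502 (allL N7502 (tt N8386 (iv F68828)) (tt N9090 (iv F73334)) (tt N6147 F57728) (tt N9106 (iv F73458)) (tt N6124 F57729) (tt N9107 (iv F73462)) (tt N8039 (iv F66977)) (tt N6123 (iv D12552)) (tt N8979 (iv F72738)) (tt N6128 F57730))
theorem Q7504 : ∀ i, i < 7504 → P i := stepQ 7503 Q7503 (allL N7503 (tt N8567 F132788) (tt N6125 (iv D12553)) (tt N9091 (iv F73338)) (tt N6148 F57731) (tt N8392 (iv F68861)) (tt N7503 F57732) (tt N9109 D16164) (tt N6253 F132793) (tt N6133 F57733) (tt N9103 (iv F73451)))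
theorem Q7505 : ∀ i, i < 7505 → P i := stepQ 7504 Q7504 (allL N7504 (tt N8387 (iv F68838)) (tt N9109 (iv F73470)) (tt N6126 F57734) (tt N6149 F57735) (tt N8393 (iv F68868)) (tt N9110 D16165) (tt N6125 (iv D12554)) (tt N9111 D16166) (tt N6134 F57736) (tt N9104 (iv F73454)))
theorem Q7506 : ∀ i, i < 7506 → P i := stepQ 7505 Q7505 (allL N7505 (tt N8388 (iv F68843)) (tt N9093 (iv F73345)) (tt N9110 (iv F73473)) (tt N6127 F57737) (tt N9112 D16167) (tt N6126 (iv D12555)) (tt N7505 F57738) (tt N9113 D16168) (tt N9114 D16169) (tt N9105 (iv F73457)))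
theorem Q7507 : ∀ i, i < 7507 → P i := stepQ 7506 Q7506 (allL N7506 (tt N8389 (iv F68846)) (tt N9094 (iv F73348)) (tt N9111 (iv F73476)) (tt N6128 F57739) (tt N8395 (iv F68875)) (tt N9113 (iv F73482)) (tt N8081 (iv F67211)) (tt N6126 (iv D12556)) (tt N6136 F57740) (tt N9106 (iv F73459)))
theorem Q7508 : ∀ i, i < 7508 → P i := stepQ 7507 Q7507 (allL N7507 (tt N8390 (iv F68851)) (tt N9095 (iv F73351)) (tt N6152 F57741) (tt N9113 (iv F73481)) (tt N7507 F57742) (tt N6128 F57743) (tt N9115 D16170) (tt N6127 (iv D12557)) (tt N9116 D16171) (tt N9107 (iv F73463)))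
theorem Q7509 : ∀ i, i < 7509 → P i := stepQ 7508 Q7508 (allL N7508 (tt N8391 (iv F68855)) (tt N8090 (iv F133415)) (tt N6153 F57744) (tt N9114 (iv F73483)) (tt N7508 F57745) (tt N6138 F57746) (tt N7508 F57747) (tt N9116 (iv F73492)) (tt N6127 (iv D12558)) (tt N9117 D16172))
theorem Q7510 : ∀ i, i < 7510 → P i := stepQ 7509 Q7509 (allL N7509 (tt N8395 (iv F68873)) (tt N9098 (iv F73369)) (tt N9102 F134164) (tt N6132 F57755) (tt N8389 (iv F68848)) (tt N9101 F134165) (tt N6136 F57756) (tt N6130 (iv D12562)) (tt N8081 (iv F67212)) (tt N8986 (iv F72764)))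
theorem Q7511 : ∀ i, i < 7511 → P i := stepQ 7510 Q7510 (allL N7510 (tt N8396 (iv F68878)) (tt N9099 (iv F73372)) (tt N6155 F57757) (tt N9101 F133976) (tt N7510 F57758) (tt N6132 F57759) (tt N9118 D16180) (tt N6131 (iv D12563)) (tt N9119 D16181) (tt N8987 (iv F72768)))
theorem Q7512 : ∀ i, i < 7512 → P i := stepQ 7511 Q7511 (allL N7511 (tt N8397 (iv F68882)) (tt N9100 (iv F73376)) (tt N6156 F57760) (tt N9092 F133964) (tt N7511 F57761) (tt N8083 (iv F67220)) (tt N6250 F57762) (tt N9119 (iv F73520)) (tt N6131 (iv D12564)) (tt N9120 D16182))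
theorem Q7513 : ∀ i, i < 7513 → P i := stepQ 7512 Q7512 (allL N7512 (tt N8579 (iv F133385)) (tt N6134 F57765) (tt N9097 (iv F133352)) (tt N6157 F57766) (tt N8746 (iv F71796)) (tt N9096 (iv F133350)) (tt N6133 (iv D12566)) (tt N9121 D16185) (tt N9109 (iv F73472)) (tt N8989 (iv F72777)))
theorem Q7514 : ∀ i, i < 7514 → P i := stepQ 7513 Q7513 (allL N7513 (tt N8400 (iv F68892)) (tt N9096 (iv F133348)) (tt N6135 F57767) (tt N6158 F57768) (tt N9122 D16186) (tt N6134 (iv D12567)) (tt N6251 F57769) (tt N9123 D16187) (tt N9124 D16188) (tt N8990 (iv F72781)))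
theorem Q7515 : ∀ i, i < 7515 → P i := stepQ 7514 Q7514 (allL N7514 (tt N8401 (iv F68896)) (tt N9121 (iv F73529)) (tt N6136 F57770) (tt N6159 F57771) (tt N8748 (iv F71802)) (tt N9123 (iv F73536)) (tt N9102 F134059) (tt N6134 (iv D12568)) (tt N9111 (iv F73478)) (tt N8991 (iv F72784)))
theorem Q7516 : ∀ i, i < 7516 → P i := stepQ 7515 Q7515 (allL N7515 (tt N8402 (iv F68899)) (tt N8387 (iv F133406)) (tt N9122 (iv F73531)) (tt N6139 F57772) (tt N6135 (iv D12569)) (tt N8749 (iv F71804)) (tt N6252 F57773) (tt N9125 D16189) (tt N8399 (iv F133439)) (tt N8992 (iv F72787)))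
theorem Q7517 : ∀ i, i < 7517 → P i := stepQ 7516 Q7516 (allL N7516 (tt N8403 (iv F68902)) (tt N9102 (iv F73394)) (tt N9123 (iv F73534)) (tt N6137 F57774) (tt N9125 (iv F73541)) (tt N6136 F57775) (tt N9121 F134224) (tt N6135 (iv D12570)) (tt N9126 D16192) (tt N8993 (iv F72790)))
theorem Q7518 : ∀ i, i < 7518 → P i := stepQ 7517 Q7517 (allL N7517 (tt N8404 (iv F68905)) (tt N8079 (iv F133409)) (tt N9124 (iv F73537)) (tt N6138 F57776) (tt N8399 (iv F133438)) (tt N9114 (iv F73484)) (tt N6253 F57777) (tt N9126 (iv F73548)) (tt N6135 (iv D12571)) (tt N9127 D16193))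
theorem Q7519 : ∀ i, i < 7519 → P i := stepQ 7518 Q7518 (allL N7518 (tt N8405 (iv F68908)) (tt N6159 (iv F133411)) (tt N6162 F57778) (tt N9121 (iv F133387)) (tt N6141 F57779) (tt N9118 (iv F73516)) (tt N6137 (iv D12572)) (tt N6157 F132832) (tt N9128 D16194) (tt N8995 (iv F72796)))
theorem Q7520 : ∀ i, i < 7520 → P i := stepQ 7519 Q7519 (allL N7519 (tt N8406 (iv F68912)) (tt N8091 (iv F133413)) (tt N6163 F57781) (tt N9126 (iv F73547)) (tt N6142 F57782) (tt N9116 (iv F73491)) (tt N9128 (iv F73553)) (tt N6138 F57783) (tt N6137 (iv D12573)) (tt N9129 D16195))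
theorem Q7521 : ∀ i, i < 7521 → P i := stepQ 7520 Q7520 (allL N7520 (tt N8407 (iv F68916)) (tt N8051 (iv F133416)) (tt N6164 F57784) (tt N9127 (iv F73549)) (tt N6143 F57785) (tt N9117 (iv F73495)) (tt N6254 F57786) (tt N9129 (iv F73557)) (tt N8997 (iv F72803)) (tt N6138 (iv D12574)))
theorem Q7522 : ∀ i, i < 7522 → P i := stepQ 7521 Q7521 (allL N7521 (tt N8408 (iv F68920)) (tt N8417 (iv F133408)) (tt N7521 F57787) (tt N9125 (iv F73540)) (tt N6140 F57788) (tt N8755 (iv F71821)) (tt N8763 (iv F133274)) (tt N6139 (iv D12575)) (tt N8429 (iv F133536)) (tt N8998 (iv F72806)))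
theorem Q7523 : ∀ i, i < 7523 → P i := stepQ 7522 Q7522 (allL N7522 (tt N8379 F132833) (tt N6174 F132835) (tt N6165 F57804) (tt N8359 F132834) (tt N9128 (iv F73552)) (tt N8358 (iv F132963)) (tt N6142 F57805) (tt N6173 F132836) (tt N6141 (iv D12580)) (tt N9130 D16203))
theorem Q7524 : ∀ i, i < 7524 → P i := stepQ 7523 Q7523 (allL N7523 (tt N8410 (iv F68946)) (tt N8063 (iv F133453)) (tt N6166 F57807) (tt N8345 (iv F133537)) (tt N9129 (iv F73556)) (tt N7523 F57808) (tt N9130 (iv F73582)) (tt N6143 F57809) (tt N9002 (iv F72827)) (tt N6142 (iv D12581)))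
theorem Q7525 : ∀ i, i < 7525 → P i := stepQ 7524 Q7524 (allL N7524 (tt N8480 F132815) (tt N6144 (iv D12582)) (tt N6263 (iv F133188)) (tt N9103 (iv F73449)) (tt N6167 F57811) (tt N7524 F57812) (tt N9131 D16205) (tt N6254 F132819) (tt N9028 (iv F72924)) (tt N6148 F57813))
theorem Q7526 : ∀ i, i < 7526 → P i := stepQ 7525 Q7525 (allL N7525 (tt N8411 (iv F68955)) (tt N9131 (iv F73588)) (tt N6145 F57814) (tt N9104 (iv F73453)) (tt N6168 F57815) (tt N9132 D16206) (tt N6144 (iv D12583)) (tt N9133 D16207) (tt N9029 (iv F72928)) (tt N6149 F57816))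
theorem Q7527 : ∀ i, i < 7527 → P i := stepQ 7526 Q7526 (allL N7526 (tt N8412 (iv F68959)) (tt N6509 F57817) (tt N9132 (iv F73592)) (tt N6146 F57818) (tt N9134 D16208) (tt N6145 (iv D12584)) (tt N7526 F57819) (tt N9135 D16209) (tt N9136 D16210) (tt N6150 F57820))
theorem Q7528 : ∀ i, i < 7528 → P i := stepQ 7527 Q7527 (allL N7527 (tt N8413 (iv F68964)) (tt N6510 F57821) (tt N9133 (iv F73595)) (tt N6147 F57822) (tt N6170 F57823) (tt N9135 (iv F73605)) (tt N8053 (iv F67055)) (tt N6145 (iv D12585)) (tt N9031 (iv F72936)) (tt N6151 F57824))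
theorem Q7529 : ∀ i, i < 7529 → P i := stepQ 7528 Q7528 (allL N7528 (tt N8414 (iv F68970)) (tt N6511 F57825) (tt N9107 (iv F73460)) (tt N9135 (iv F73604)) (tt N7528 F57826) (tt N6147 F57827) (tt N9137 D16211) (tt N6146 (iv D12586)) (tt N9138 D16212) (tt N6152 F57828))
theorem Q7530 : ∀ i, i < 7530 → P i := stepQ 7529 Q7529 (allL N7529 (tt N8415 (iv F68975)) (tt N6512 F57829) (tt N9108 (iv F73464)) (tt N9136 (iv F73608)) (tt N7529 F57830) (tt N9033 (iv F72942)) (tt N7529 F57831) (tt N9138 (iv F73616)) (tt N6146 (iv D12587)) (tt N9139 D16213))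
theorem Q7531 : ∀ i, i < 7531 → P i := stepQ 7530 Q7530 (allL N7530 (tt N8378 F132814) (tt N6149 F57836) (tt N6262 (iv F133190)) (tt N9109 (iv F73471)) (tt N6173 F57838) (tt N9140 D16215) (tt N6148 (iv D12589)) (tt N9128 (iv F133420)) (tt N6157 F57839) (tt N9131 (iv F73591)))
theorem Q7532 : ∀ i, i < 7532 → P i := stepQ 7531 Q7531 (allL N7531 (tt N8416 (iv F68989)) (tt N9140 (iv F73625)) (tt N6150 F57840) (tt N9110 (iv F73474)) (tt N8731 F134229) (tt N6149 (iv D12590)) (tt N7531 F57841) (tt N9141 D16218) (tt N9142 D16219) (tt N9132 (iv F73594)))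
theorem Q7533 : ∀ i, i < 7533 → P i := stepQ 7532 Q7532 (allL N7532 (tt N8417 (iv F68992)) (tt N9128 (iv F133419)) (tt N6151 F57842) (tt N9111 (iv F73477)) (tt N6174 F57843) (tt N9141 (iv F73636)) (tt N8091 (iv F67264)) (tt N6149 (iv D12591)) (tt N6159 F57844) (tt N9133 (iv F73597)))
theorem Q7534 : ∀ i, i < 7534 → P i := stepQ 7533 Q7533 (allL N7533 (tt N8418 (iv F68997)) (tt N6515 F57845) (tt N8731 F134226) (tt N7533 F57846) (tt N6150 (iv D12592)) (tt N6175 F57847) (tt N7533 F57848) (tt N9143 D16220) (tt N9144 D16221) (tt N9134 (iv F73602)))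
theorem Q7535 : ∀ i, i < 7535 → P i := stepQ 7534 Q7534 (allL N7534 (tt N8419 (iv F69002)) (tt N6516 F57849) (tt N9141 (iv F73635)) (tt N6152 F57850) (tt N9143 (iv F73642)) (tt N6151 F57851) (tt N9145 D16222) (tt N6150 (iv D12593)) (tt N9146 D16223) (tt N9135 (iv F73606)))
theorem Q7536 : ∀ i, i < 7536 → P i := stepQ 7535 Q7535 (allL N7535 (tt N8420 (iv F69006)) (tt N6517 F57852) (tt N9142 (iv F73637)) (tt N6153 F57853) (tt N9144 (iv F73646)) (tt N6161 F57854) (tt N7535 F57855) (tt N9146 (iv F73655)) (tt N6150 (iv D12594)) (tt N9147 D16224))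
theorem Q7537 : ∀ i, i < 7537 → P i := stepQ 7536 Q7536 (allL N7536 (tt N8421 (iv F69011)) (tt N6518 F57856) (tt N9115 (iv F73486)) (tt N9145 (iv F73650)) (tt N7536 F57857) (tt N8093 (iv F67280)) (tt N6152 (iv D12595)) (tt N7536 F57858) (tt N9148 D16225) (tt N9137 (iv F73613)))
theorem Q7538 : ∀ i, i < 7538 → P i := stepQ 7537 Q7537 (allL N7537 (tt N8422 (iv F69016)) (tt N6519 F57859) (tt N9116 (iv F73489)) (tt N9146 (iv F73653)) (tt N7537 F57860) (tt N6163 F57861) (tt N9148 (iv F73662)) (tt N6153 F57862) (tt N6152 (iv D12596)) (tt N9149 D16226))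
theorem Q7539 : ∀ i, i < 7539 → P i := stepQ 7538 Q7538 (allL N7538 (tt N8423 (iv F69021)) (tt N6520 F57863) (tt N9117 (iv F73493)) (tt N9147 (iv F73657)) (tt N7538 F57864) (tt N6164 F57865) (tt N7538 F57866) (tt N9149 (iv F73667)) (tt N9139 (iv F73620)) (tt N6153 (iv D12597)))
theorem Q7540 : ∀ i, i < 7540 → P i := stepQ 7539 Q7539 (allL N7539 (tt N8425 (iv F69058)) (tt N6500 (iv F133168)) (tt N9118 (iv F73514)) (tt N6484 (iv F133144)) (tt N7539 F57890) (tt N6162 F57891) (tt N6155 (iv D12605)) (tt N6255 F57892) (tt N9150 D16238) (tt N9043 (iv F73000)))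
theorem Q7541 : ∀ i, i < 7541 → P i := stepQ 7540 Q7540 (allL N7540 (tt N8426 (iv F69063)) (tt N6497 F133967) (tt N9119 (iv F73518)) (tt N6483 F133968) (tt N7540 F57894) (tt N8094 (iv F67285)) (tt N9150 (iv F73706)) (tt N6156 F57895) (tt N6155 (iv D12606)) (tt N9151 D16239))
theorem Q7542 : ∀ i, i < 7542 → P i := stepQ 7541 Q7541 (allL N7541 (tt N8427 (iv F69068)) (tt N6492 F133969) (tt N9120 (iv F73521)) (tt N6480 F133970) (tt N7541 F57897) (tt N8095 (iv F67290)) (tt N6257 F57898) (tt N9151 (iv F73710)) (tt N9045 (iv F73007)) (tt N6156 (iv D12607)))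
theorem Q7543 : ∀ i, i < 7543 → P i := stepQ 7542 Q7542 (allL N7542 (tt N8572 F132829) (tt N6158 F57902) (tt N6255 F132830) (tt N9096 (iv F133349)) (tt N7542 F57904) (tt N6157 (iv D12609)) (tt N6249 F132831) (tt N9118 (iv F133389)) (tt N9152 D16243) (tt N9046 (iv F73016)))
theorem Q7544 : ∀ i, i < 7544 → P i := stepQ 7543 Q7543 (allL N7543 (tt N8430 (iv F69084)) (tt N9118 (iv F133388)) (tt N6160 F57909) (tt N9123 (iv F73535)) (tt N7543 F57910) (tt N6159 F57911) (tt N9099 (iv F133358)) (tt N6158 (iv D12611)) (tt N9153 D16245) (tt N9047 (iv F73024)))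
theorem Q7545 : ∀ i, i < 7545 → P i := stepQ 7544 Q7544 (allL N7544 (tt N8431 (iv F69088)) (tt N9152 (iv F73722)) (tt N6161 F57912) (tt N9124 (iv F73538)) (tt N7544 F57913) (tt N9142 (iv F73638)) (tt N6258 F57914) (tt N9153 (iv F73731)) (tt N6158 (iv D12612)) (tt N9154 D16246))
theorem Q7546 : ∀ i, i < 7546 → P i := stepQ 7545 Q7545 (allL N7545 (tt N8432 (iv F69092)) (tt N6501 (iv F133169)) (tt N9099 (iv F133357)) (tt N6162 F57916) (tt N7545 F57917) (tt N6484 (iv F133145)) (tt N6160 (iv D12613)) (tt N6259 F57918) (tt N9155 D16247) (tt N9049 (iv F73032)))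
theorem Q7547 : ∀ i, i < 7547 → P i := stepQ 7546 Q7546 (allL N7546 (tt N8433 (iv F69097)) (tt N6521 F57919) (tt N9153 (iv F73729)) (tt N6163 F57920) (tt N7546 F57921) (tt N9146 (iv F73654)) (tt N9155 (iv F73738)) (tt N6161 F57922) (tt N6160 (iv D12614)) (tt N9156 D16248))
theorem Q7548 : ∀ i, i < 7548 → P i := stepQ 7547 Q7547 (allL N7547 (tt N8434 (iv F69102)) (tt N6522 F57923) (tt N9154 (iv F73732)) (tt N6164 F57924) (tt N7547 F57925) (tt N9147 (iv F73658)) (tt N6261 F57926) (tt N9156 (iv F73743)) (tt N9051 (iv F73041)) (tt N6161 (iv D12615)))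
theorem Q7549 : ∀ i, i < 7549 → P i := stepQ 7548 Q7548 (allL N7548 (tt N8435 (iv F69107)) (tt N6514 F134002) (tt N9128 (iv F73551)) (tt N9155 (iv F73736)) (tt N6165 F57928) (tt N9157 D16249) (tt N6163 F57929) (tt N6262 F57930) (tt N6162 (iv D12616)) (tt N9158 D16250))
theorem Q7550 : ∀ i, i < 7550 → P i := stepQ 7549 Q7549 (allL N7549 (tt N8436 (iv F69112)) (tt N6523 F57931) (tt N9129 (iv F73555)) (tt N9156 (iv F73741)) (tt N6166 F57932) (tt N9149 (iv F73666)) (tt N9158 (iv F73748)) (tt N6164 F57933) (tt N9053 (iv F73049)) (tt N6163 (iv D12617)))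
theorem Q7551 : ∀ i, i < 7551 → P i := stepQ 7550 Q7550 (allL N7550 (tt N8377 F132837) (tt N6524 F57934) (tt N8358 (iv F132962)) (tt N7550 F57935) (tt N9159 D16251) (tt N6165 (iv D12618)) (tt N7550 F57936) (tt N6264 F57937) (tt N7550 F57938) (tt N9160 D16252))
theorem Q7552 : ∀ i, i < 7552 → P i := stepQ 7551 Q7551 (allL N7551 (tt N8437 (iv F69122)) (tt N6525 F57939) (tt N9130 (iv F73581)) (tt N7551 F57940) (tt N9158 (iv F73747)) (tt N9160 (iv F73756)) (tt N6166 F57941) (tt N6265 F57942) (tt N9055 (iv F73058)) (tt N6165 (iv D12619)))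
theorem Q7553 : ∀ i, i < 7553 → P i := stepQ 7552 Q7552 (allL N7552 (tt N8234 F132838) (tt N6168 F57946) (tt N6265 (iv F133205)) (tt N8213 F132839) (tt N9131 (iv F73590)) (tt N8212 (iv F133394)) (tt N6167 (iv D12621)) (tt N9130 (iv F133444)) (tt N9066 (iv F73113)) (tt N6173 F57948))
theorem Q7554 : ∀ i, i < 7554 → P i := stepQ 7553 Q7553 (allL N7553 (tt N8438 (iv F69142)) (tt N9130 (iv F133443)) (tt N6170 F57952) (tt N8342 (iv F68558)) (tt N9133 (iv F73596)) (tt N8929 F134157) (tt N8063 (iv F67122)) (tt N6168 (iv D12623)) (tt N9068 (iv F73119)) (tt N6174 F57953))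
theorem Q7555 : ∀ i, i < 7555 → P i := stepQ 7554 Q7554 (allL N7554 (tt N8439 (iv F69147)) (tt N6527 F57954) (tt N8664 F134228) (tt N7554 F57955) (tt N6169 (iv D12624)) (tt N9134 (iv F73600)) (tt N6177 F57956) (tt N9161 D16259) (tt N9162 D16260) (tt N6175 F57957))
theorem Q7556 : ∀ i, i < 7556 → P i := stepQ 7555 Q7555 (allL N7555 (tt N8440 (iv F69152)) (tt N6528 F57958) (tt N8929 F134234) (tt N6171 F57959) (tt N9161 (iv F73781)) (tt N6170 F57960) (tt N7555 F57961) (tt N6169 (iv D12625)) (tt N9163 D16261) (tt N6176 F57962))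
theorem Q7557 : ∀ i, i < 7557 → P i := stepQ 7556 Q7556 (allL N7556 (tt N8441 (iv F69158)) (tt N6529 F57963) (tt N8778 F134235) (tt N6172 F57964) (tt N9162 (iv F73786)) (tt N9071 (iv F73130)) (tt N6178 F57965) (tt N9163 (iv F73793)) (tt N6169 (iv D12626)) (tt N7556 F57966))
theorem Q7558 : ∀ i, i < 7558 → P i := stepQ 7557 Q7557 (allL N7557 (tt N8442 (iv F69163)) (tt N6530 F57967) (tt N8343 (iv F68579)) (tt N9163 (iv F73791)) (tt N7557 F57968) (tt N9073 (iv F73137)) (tt N7557 F57969) (tt N6172 F57970) (tt N6171 (iv D12627)) (tt N7557 F57971))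
theorem Q7559 : ∀ i, i < 7559 → P i := stepQ 7558 Q7558 (allL N7558 (tt N8443 (iv F69195)) (tt N6532 F57989) (tt N8732 F134227) (tt N7558 F57990) (tt N6176 F57991) (tt N9143 (iv F73643)) (tt N7558 F57992) (tt N6175 (iv D12633)) (tt N7558 F57993) (tt N9161 (iv F73783)))
theorem Q7560 : ∀ i, i < 7560 → P i := stepQ 7559 Q7559 (allL N7559 (tt N8444 (iv F69277)) (tt N6363 (iv F59979)) (tt N8596 F134231) (tt N7559 F58050) (tt N6178 F58051) (tt N6362 F59993) (tt N9162 (iv F73787)) (tt N7559 F58052) (tt N6177 (iv D12648)) (tt N7559 F58053))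
theorem Q7561 : ∀ i, i < 7561 → P i := stepQ 7560 Q7560 (allL N7560 (tt N6186 F58067) (tt N8449 (iv F69328)) (tt N8494 (iv F133481)) (tt N6179 (iv D12652)) (tt N7560 F58068) (tt N8614 (iv F71197)) (tt N8493 (iv F133484)) (tt N8593 (iv F71001)) (tt N6181 F58069) (tt N7560 F58070))
theorem Q7562 : ∀ i, i < 7562 → P i := stepQ 7561 Q7561 (allL N7561 (tt N6188 F58082) (tt N8451 (iv F69346)) (tt N8504 F132855) (tt N6180 (iv D12655)) (tt N7561 F58083) (tt N8924 (iv F72499)) (tt N8509 F132856) (tt N6181 F58084) (tt N8593 (iv F71002)) (tt N6245 F58085))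
theorem Q7563 : ∀ i, i < 7563 → P i := stepQ 7562 Q7562 (allL N7562 (tt N8614 (iv F71195)) (tt N6196 F58140) (tt N9164 D16303) (tt N6182 (iv D12668)) (tt N8128 (iv F67475)) (tt N6186 F58141) (tt N9165 D16304) (tt N7985 (iv F66663)) (tt N8930 (iv F72553)) (tt N7562 F58142))
theorem Q7564 : ∀ i, i < 7564 → P i := stepQ 7563 Q7563 (allL N7563 (tt N8615 (iv F71200)) (tt N6197 F58143) (tt N6533 F58144) (tt N9165 (iv F73970)) (tt N6183 F58145) (tt N9166 D16305) (tt N6182 (iv D12669)) (tt N9167 D16306) (tt N8931 (iv F72557)) (tt N7563 F58146))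
theorem Q7565 : ∀ i, i < 7565 → P i := stepQ 7564 Q7564 (allL N7564 (tt N8616 (iv F71204)) (tt N6198 F58147) (tt N6534 F58148) (tt N8130 (iv F67487)) (tt N9167 (iv F73979)) (tt N7564 F58149) (tt N7987 (iv F66675)) (tt N6183 (iv D12670)) (tt N8932 (iv F72560)) (tt N7564 F58150))
theorem Q7566 : ∀ i, i < 7566 → P i := stepQ 7565 Q7565 (allL N7565 (tt N8593 (iv F70998)) (tt N6201 F58151) (tt N9168 D16307) (tt N6184 (iv D12671)) (tt N7565 F58152) (tt N7985 (iv F66662)) (tt N9169 D16308) (tt N6186 F58153) (tt N6188 F58154) (tt N7565 F58155))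
theorem Q7567 : ∀ i, i < 7567 → P i := stepQ 7566 Q7566 (allL N7566 (tt N8534 (iv F133457)) (tt N6202 F58156) (tt N6230 F132854) (tt N9169 (iv F73987)) (tt N6185 F58158) (tt N9170 D16309) (tt N6184 (iv D12672)) (tt N6228 (iv F133258)) (tt N6189 F58159) (tt N7566 F58160))
theorem Q7568 : ∀ i, i < 7568 → P i := stepQ 7567 Q7567 (allL N7567 (tt N8494 (iv F133480)) (tt N9169 (iv F133468)) (tt N6186 (iv D12674)) (tt N6202 (iv F133235)) (tt N7567 F58168) (tt N9164 (iv F73967)) (tt N6201 (iv F133474)) (tt N9168 (iv F73983)) (tt N6190 F58169) (tt N7567 F58170))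
theorem Q7569 : ∀ i, i < 7569 → P i := stepQ 7568 Q7568 (allL N7568 (tt N8493 (iv F133482)) (tt N6205 F58171) (tt N6201 (iv F133473)) (tt N6187 F58172) (tt N7568 F58173) (tt N9171 D16313) (tt N6186 (iv D12675)) (tt N6204 (iv F133488)) (tt N6191 F58174) (tt N7568 F58175))
theorem Q7570 : ∀ i, i < 7570 → P i := stepQ 7569 Q7569 (allL N7569 (tt N8521 (iv F133485)) (tt N6206 F58176) (tt N6219 (iv F133237)) (tt N9171 (iv F74011)) (tt N7569 F58178) (tt N6187 (iv D12676)) (tt N9166 (iv F73975)) (tt N6222 (iv F133490)) (tt N9006 (iv F133316)) (tt N7569 F58179))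
theorem Q7571 : ∀ i, i < 7571 → P i := stepQ 7570 Q7570 (allL N7570 (tt N8504 F132860) (tt N6211 F132881) (tt N6188 (iv D12678)) (tt N6209 F132861) (tt N7570 F58186) (tt N8943 (iv F72596)) (tt N6210 F132882) (tt N6190 F58187) (tt N9168 (iv F73984)) (tt N6246 F58188))
theorem Q7572 : ∀ i, i < 7572 → P i := stepQ 7571 Q7571 (allL N7571 (tt N8509 F132862) (tt N6190 F132864) (tt N6210 F132865) (tt N6189 F58190) (tt N7571 F58191) (tt N8947 (iv F133292)) (tt N6188 (iv D12679)) (tt N6211 F132863) (tt N9169 (iv F73989)) (tt N6247 F58192))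
theorem Q7573 : ∀ i, i < 7573 → P i := stepQ 7572 Q7572 (allL N7572 (tt N8545 F132866) (tt N6208 F58193) (tt N6236 F132867) (tt N8947 (iv F133291)) (tt N7572 F58195) (tt N6189 (iv D12680)) (tt N8945 (iv F72605)) (tt N6235 F132868) (tt N9172 D16322) (tt N6248 F58196))
theorem Q7574 : ∀ i, i < 7574 → P i := stepQ 7573 Q7573 (allL N7573 (tt N8483 (iv F69570)) (tt N8128 (iv F67474)) (tt N9173 D16343) (tt N6192 (iv D12696)) (tt N6196 F58258) (tt N7573 F58259) (tt N9174 D16344) (tt N8107 (iv F67368)) (tt N8956 (iv F72675)) (tt N7573 F58260))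
theorem Q7575 : ∀ i, i < 7575 → P i := stepQ 7574 Q7574 (allL N7574 (tt N8484 (iv F69574)) (tt N8129 (iv F67480)) (tt N7574 F58261) (tt N9174 (iv F74133)) (tt N6193 F58262) (tt N9175 D16345) (tt N6192 (iv D12697)) (tt N9176 D16346) (tt N8957 (iv F72678)) (tt N7574 F58263))
theorem Q7576 : ∀ i, i < 7576 → P i := stepQ 7575 Q7575 (allL N7575 (tt N8485 (iv F69578)) (tt N8130 (iv F67485)) (tt N7575 F58264) (tt N6198 F58265) (tt N9176 (iv F74141)) (tt N7575 F58266) (tt N8109 (iv F67378)) (tt N6193 (iv D12698)) (tt N8958 (iv F72681)) (tt N7575 F58267))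
theorem Q7577 : ∀ i, i < 7577 → P i := stepQ 7576 Q7576 (allL N7576 (tt N8486 (iv F69583)) (tt N7985 (iv F66660)) (tt N9171 F134290) (tt N6194 (iv D12699)) (tt N8107 (iv F67366)) (tt N6201 F58268) (tt N9177 D16348) (tt N6196 F58269) (tt N8959 (iv F72684)) (tt N7576 F58270))
theorem Q7578 : ∀ i, i < 7578 → P i := stepQ 7577 Q7577 (allL N7577 (tt N8487 (iv F69587)) (tt N7986 (iv F66666)) (tt N6220 F58271) (tt N9177 (iv F74147)) (tt N6195 F58272) (tt N9178 D16349) (tt N6194 (iv D12700)) (tt N9179 D16350) (tt N8960 (iv F72687)) (tt N7577 F58273))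
theorem Q7579 : ∀ i, i < 7579 → P i := stepQ 7578 Q7578 (allL N7578 (tt N8488 (iv F69591)) (tt N7987 (iv F66671)) (tt N6221 F58274) (tt N8109 (iv F67376)) (tt N9179 (iv F74153)) (tt N7982 (iv F66641)) (tt N6198 F58275) (tt N6195 (iv D12701)) (tt N8961 (iv F72690)) (tt N7578 F58276))
theorem Q7580 : ∀ i, i < 7580 → P i := stepQ 7579 Q7579 (allL N7579 (tt N8489 (iv F69595)) (tt N9180 D16351) (tt N6196 (iv D12702)) (tt N6222 F58277) (tt N9173 (iv F74130)) (tt N6204 F58278) (tt N9181 D16352) (tt N9171 F134312) (tt N8965 (iv F72703)) (tt N7579 F58279))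
theorem Q7581 : ∀ i, i < 7581 → P i := stepQ 7580 Q7580 (allL N7580 (tt N8490 (iv F69599)) (tt N9165 (iv F73969)) (tt N9181 (iv F74159)) (tt N6197 F58280) (tt N9174 (iv F74134)) (tt N9182 D16353) (tt N6196 (iv D12703)) (tt N9183 D16354) (tt N8966 (iv F72705)) (tt N7580 F58281))
theorem Q7582 : ∀ i, i < 7582 → P i := stepQ 7581 Q7581 (allL N7581 (tt N8491 (iv F69602)) (tt N9166 (iv F73972)) (tt N6224 F58282) (tt N9182 (iv F74162)) (tt N7581 F58283) (tt N6197 (iv D12704)) (tt N6206 F58284) (tt N9184 D16355) (tt N9185 D16356) (tt N7581 F58285))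
theorem Q7583 : ∀ i, i < 7583 → P i := stepQ 7582 Q7582 (allL N7582 (tt N8492 (iv F69607)) (tt N9167 (iv F73977)) (tt N6225 F58286) (tt N9183 (iv F74165)) (tt N6198 F58287) (tt N9184 (iv F74169)) (tt N9179 (iv F74154)) (tt N6197 (iv D12705)) (tt N8968 (iv F72710)) (tt N7582 F58288))
theorem Q7584 : ∀ i, i < 7584 → P i := stepQ 7583 Q7583 (allL N7583 (tt N8495 (iv F69639)) (tt N9170 (iv F73991)) (tt N6226 F58312) (tt N9164 F134022) (tt N8007 (iv F134648)) (tt N6202 (iv D12711)) (tt N9178 (iv F74150)) (tt N7994 F134023) (tt N9186 D16366) (tt N7583 F58313))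
theorem Q7585 : ∀ i, i < 7585 → P i := stepQ 7584 Q7584 (allL N7584 (tt N8496 (iv F69642)) (tt N6228 (iv F133257)) (tt N6227 F58314) (tt N9168 (iv F133465)) (tt N6203 F58315) (tt N7994 (iv F133491)) (tt N6207 F58316) (tt N6202 (iv D12712)) (tt N6209 F58317) (tt N7584 F58318))
theorem Q7586 : ∀ i, i < 7586 → P i := stepQ 7585 Q7585 (allL N7585 (tt N8500 (iv F133492)) (tt N6204 (iv D12713)) (tt N9169 (iv F133469)) (tt N6207 F132889) (tt N7585 F58320) (tt N9180 (iv F74157)) (tt N9168 (iv F133476)) (tt N6205 (iv F133487)) (tt N6210 F58321) (tt N7585 F58322))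
theorem Q7587 : ∀ i, i < 7587 → P i := stepQ 7586 Q7586 (allL N7586 (tt N8498 (iv F69652)) (tt N9168 (iv F133475)) (tt N6205 F58323) (tt N6228 F58324) (tt N7586 F58325) (tt N9187 D16369) (tt N6204 (iv D12714)) (tt N9169 (iv F133467)) (tt N6211 F58326) (tt N7586 F58327))
theorem Q7588 : ∀ i, i < 7588 → P i := stepQ 7587 Q7587 (allL N7587 (tt N8499 (iv F69658)) (tt N9171 (iv F74010)) (tt N9187 (iv F74223)) (tt N6206 F58328) (tt N9188 D16371) (tt N6205 (iv D12715)) (tt N9182 (iv F74163)) (tt N9180 F134310) (tt N9189 D16373) (tt N7587 F58329))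
theorem Q7589 : ∀ i, i < 7589 → P i := stepQ 7588 Q7588 (allL N7588 (tt N8501 (iv F69666)) (tt N6222 (iv F133489)) (tt N6231 F58334) (tt N9180 (iv F133493)) (tt N7588 F58335) (tt N6207 F58336) (tt N9190 D16374) (tt N6206 (iv D12717)) (tt N9014 (iv F133301)) (tt N7588 F58337))
theorem Q7590 : ∀ i, i < 7590 → P i := stepQ 7589 Q7589 (allL N7589 (tt N8502 (iv F69671)) (tt N9006 F134125) (tt N6232 F58338) (tt N9189 (iv F74237)) (tt N7589 F58339) (tt N6213 F58340) (tt N9185 (iv F74173)) (tt N9014 F134126) (tt N6206 (iv D12718)) (tt N9191 D16376))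
theorem Q7591 : ∀ i, i < 7591 → P i := stepQ 7590 Q7590 (allL N7590 (tt N8505 (iv F69692)) (tt N6235 F132890) (tt N6233 F58355) (tt N8943 (iv F133283)) (tt N7590 F58356) (tt N6209 F58357) (tt N9046 (iv F133308)) (tt N6208 (iv D12723)) (tt N9192 D16385) (tt N6249 F58358))
theorem Q7592 : ∀ i, i < 7592 → P i := stepQ 7591 Q7591 (allL N7591 (tt N8506 (iv F69697)) (tt N9172 (iv F74049)) (tt N6234 F58359) (tt N8939 F133895) (tt N7591 F58360) (tt N9186 (iv F74213)) (tt N8988 (iv F72771)) (tt N9192 (iv F74279)) (tt N6208 (iv D12724)) (tt N9193 D16386))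
theorem Q7593 : ∀ i, i < 7593 → P i := stepQ 7592 Q7592 (allL N7592 (tt N8508 (iv F69708)) (tt N8943 (iv F133290)) (tt N6212 F58368) (tt N6235 F58369) (tt N9194 D16390) (tt N6211 (iv D12727)) (tt N8990 (iv F72780)) (tt N8947 (iv F133289)) (tt N9195 D16392) (tt N6251 F58370))
theorem Q7594 : ∀ i, i < 7594 → P i := stepQ 7593 Q7593 (allL N7593 (tt N8510 (iv F69717)) (tt N8383 (iv F133313)) (tt N9194 (iv F74294)) (tt N6214 F58375) (tt N6212 (iv D12729)) (tt N7593 F58376) (tt N8992 (iv F72786)) (tt N8689 (iv F133268)) (tt N9196 D16394) (tt N6252 F58377))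
theorem Q7595 : ∀ i, i < 7595 → P i := stepQ 7594 Q7594 (allL N7594 (tt N8512 (iv F69725)) (tt N8972 F134118) (tt N9195 (iv F74302)) (tt N6213 F58381) (tt N9196 (iv F74309)) (tt N9189 (iv F74238)) (tt N8994 (iv F72792)) (tt N8980 F134119) (tt N6212 (iv D12731)) (tt N9197 D16397))
theorem Q7596 : ∀ i, i < 7596 → P i := stepQ 7595 Q7595 (allL N7595 (tt N8515 (iv F69735)) (tt N8047 (iv F133317)) (tt N6240 F58388) (tt N9197 (iv F74314)) (tt N6216 F58389) (tt N9191 (iv F74248)) (tt N8997 (iv F72802)) (tt N9028 (iv F133294)) (tt N6254 F58390) (tt N6213 (iv D12734)))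
theorem Q7597 : ∀ i, i < 7597 → P i := stepQ 7596 Q7596 (allL N7596 (tt N8517 (iv F69744)) (tt N8294 (iv F133328)) (tt N7596 F58395) (tt N9196 (iv F74308)) (tt N6215 F58396) (tt N9198 D16402) (tt N8999 (iv F72809)) (tt N8705 (iv F133275)) (tt N6214 (iv D12736)) (tt N8298 (iv F133499)))
theorem Q7598 : ∀ i, i < 7598 → P i := stepQ 7597 Q7597 (allL N7597 (tt N8519 (iv F69776)) (tt N6547 F58420) (tt N7981 (iv F66634)) (tt N8009 F135110) (tt N6218 F58421) (tt N8008 F135111) (tt N6217 (iv D12743)) (tt N9199 D16411) (tt N7954 (iv F66459)) (tt N7597 F58422))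
theorem Q7599 : ∀ i, i < 7599 → P i := stepQ 7598 Q7598 (allL N7598 (tt N8520 (iv F69780)) (tt N6548 F58423) (tt N7982 (iv F66639)) (tt N7598 F58424) (tt N9199 (iv F74363)) (tt N6221 F58425) (tt N7598 F58426) (tt N6218 (iv D12744)) (tt N7955 (iv F66466)) (tt N7598 F58427))
theorem Q7600 : ∀ i, i < 7600 → P i := stepQ 7599 Q7599 (allL N7599 (tt N8522 (iv F69791)) (tt N6543 F134027) (tt N9166 F134028) (tt N6220 F58433) (tt N7599 F58434) (tt N6533 F134029) (tt N6219 (iv D12746)) (tt N9200 D16415) (tt N9007 (iv F72851)) (tt N7599 F58435))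
theorem Q7601 : ∀ i, i < 7601 → P i := stepQ 7600 Q7600 (allL N7600 (tt N8523 (iv F69796)) (tt N6542 F134025) (tt N9178 (iv F74149)) (tt N6533 F134026) (tt N8008 (iv F134650)) (tt N6220 (iv D12747)) (tt N6226 F58437) (tt N9201 D16416) (tt N9202 D16417) (tt N7600 F58438))
theorem Q7602 : ∀ i, i < 7602 → P i := stepQ 7601 Q7601 (allL N7601 (tt N8524 (iv F69800)) (tt N6549 F58439) (tt N9179 (iv F74152)) (tt N9200 (iv F74379)) (tt N6221 F58440) (tt N9201 (iv F74384)) (tt N6225 F58441) (tt N6220 (iv D12748)) (tt N9009 (iv F72857)) (tt N7601 F58442))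
theorem Q7603 : ∀ i, i < 7603 → P i := stepQ 7602 Q7602 (allL N7602 (tt N8526 (iv F69809)) (tt N9190 F134313) (tt N6223 F58447) (tt N9181 (iv F74160)) (tt N7602 F58448) (tt N9203 D16420) (tt N6222 (iv D12750)) (tt N9204 D16421) (tt N9015 (iv F72880)) (tt N7602 F58449))
theorem Q7604 : ∀ i, i < 7604 → P i := stepQ 7603 Q7603 (allL N7603 (tt N8527 (iv F69813)) (tt N6551 F58450) (tt N9203 (iv F74396)) (tt N6224 F58451) (tt N9205 D16422) (tt N6223 (iv D12751)) (tt N6229 F58452) (tt N9206 D16423) (tt N9207 D16424) (tt N7603 F58453))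
theorem Q7605 : ∀ i, i < 7605 → P i := stepQ 7604 Q7604 (allL N7604 (tt N8528 (iv F69818)) (tt N6552 F58454) (tt N9204 (iv F74399)) (tt N6225 F58455) (tt N7604 F58456) (tt N9206 (iv F74409)) (tt N9200 (iv F74381)) (tt N6223 (iv D12752)) (tt N9017 (iv F72887)) (tt N7604 F58457))
theorem Q7606 : ∀ i, i < 7606 → P i := stepQ 7605 Q7605 (allL N7605 (tt N8529 (iv F69823)) (tt N6553 F58458) (tt N9184 (iv F74167)) (tt N9206 (iv F74408)) (tt N7605 F58459) (tt N6225 F58460) (tt N9208 D16425) (tt N6224 (iv D12753)) (tt N9209 D16426) (tt N7605 F58461))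
theorem Q7607 : ∀ i, i < 7607 → P i := stepQ 7606 Q7606 (allL N7606 (tt N8530 (iv F69828)) (tt N6554 F58462) (tt N9185 (iv F74171)) (tt N9207 (iv F74412)) (tt N7606 F58463) (tt N9019 (iv F72891)) (tt N6232 F58464) (tt N9209 (iv F74420)) (tt N6224 (iv D12754)) (tt N9210 D16427))
theorem Q7608 : ∀ i, i < 7608 → P i := stepQ 7607 Q7607 (allL N7607 (tt N8531 (iv F69878)) (tt N6388 F133896) (tt N9186 (iv F74212)) (tt N6375 F133897) (tt N8000 (iv F134497)) (tt N6234 F58505) (tt N9202 (iv F74387)) (tt N7991 F133898) (tt N6226 (iv D12764)) (tt N8844 (iv F134501)))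
theorem Q7609 : ∀ i, i < 7609 → P i := stepQ 7608 Q7608 (allL N7608 (tt N8533 (iv F69891)) (tt N7994 F133509) (tt N6229 F58515) (tt N9187 (iv F74224)) (tt N8011 (iv F133510)) (tt N6228 (iv D12767)) (tt N9203 (iv F74397)) (tt N9170 (iv F133471)) (tt N9211 D16448) (tt N7608 F58516))
theorem Q7610 : ∀ i, i < 7610 → P i := stepQ 7609 Q7609 (allL N7609 (tt N8535 (iv F69899)) (tt N6555 F58521) (tt N8011 F133511) (tt N7609 F58522) (tt N6229 (iv D12769)) (tt N6244 F58523) (tt N9205 (iv F74405)) (tt N7977 (iv F133513)) (tt N9212 D16450) (tt N7609 F58524))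
theorem Q7611 : ∀ i, i < 7611 → P i := stepQ 7610 Q7610 (allL N7610 (tt N8536 (iv F69904)) (tt N6541 (iv F133245)) (tt N9170 (iv F133470)) (tt N6231 F58526) (tt N7977 (iv F133512)) (tt N6230 F58527) (tt N7996 (iv F133515)) (tt N6229 (iv D12770)) (tt N9213 D16452) (tt N7610 F58528))
theorem Q7612 : ∀ i, i < 7612 → P i := stepQ 7611 Q7611 (allL N7611 (tt N8537 (iv F69909)) (tt N6556 F58529) (tt N9211 (iv F74501)) (tt N6232 F58530) (tt N9212 (iv F74510)) (tt N6237 F58531) (tt N9207 (iv F74413)) (tt N9213 (iv F74518)) (tt N6229 (iv D12771)) (tt N9214 D16453))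
theorem Q7613 : ∀ i, i < 7613 → P i := stepQ 7612 Q7612 (allL N7612 (tt N8538 (iv F69913)) (tt N6550 F134043) (tt N9190 (iv F74239)) (tt N7996 (iv F133514)) (tt N7612 F58533) (tt N7995 (iv F133505)) (tt N6231 (iv D12772)) (tt N9208 (iv F74416)) (tt N9215 D16454) (tt N7612 F58534))
theorem Q7614 : ∀ i, i < 7614 → P i := stepQ 7613 Q7613 (allL N7613 (tt N8539 (iv F69917)) (tt N6419 F133930) (tt N9014 F133931) (tt N9213 (iv F74516)) (tt N7613 F58536) (tt N6239 F58537) (tt N9215 (iv F74525)) (tt N6232 F58538) (tt N6231 (iv D12773)) (tt N9216 D16455))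
theorem Q7615 : ∀ i, i < 7615 → P i := stepQ 7614 Q7614 (allL N7614 (tt N8540 (iv F69922)) (tt N6557 F58539) (tt N9191 (iv F74246)) (tt N9214 (iv F74520)) (tt N7614 F58540) (tt N6240 F58541) (tt N9210 (iv F74423)) (tt N9216 (iv F74529)) (tt N7614 F58542) (tt N6232 (iv D12774)))
theorem Q7616 : ∀ i, i < 7616 → P i := stepQ 7615 Q7615 (allL N7615 (tt N8541 (iv F69957)) (tt N6405 (iv F133095)) (tt N9046 (iv F133307)) (tt N6383 (iv F133073)) (tt N7615 F58568) (tt N6238 F58569) (tt N6233 (iv D12782)) (tt N9043 (iv F72999)) (tt N9217 D16467) (tt N6255 F58570))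
theorem Q7617 : ∀ i, i < 7617 → P i := stepQ 7616 Q7616 (allL N7616 (tt N8542 (iv F69962)) (tt N6395 (iv F133087)) (tt N9192 (iv F74277)) (tt N6377 (iv F133072)) (tt N7616 F58572) (tt N7991 (iv F133506)) (tt N9217 (iv F74570)) (tt N6234 F58573) (tt N6233 (iv D12783)) (tt N9003 (iv F133518)))
theorem Q7618 : ∀ i, i < 7618 → P i := stepQ 7617 Q7617 (allL N7617 (tt N8543 (iv F69966)) (tt N6398 F133899) (tt N9193 (iv F74280)) (tt N6379 F133900) (tt N7617 F58575) (tt N8844 (iv F134500)) (tt N9045 (iv F73006)) (tt N9003 F133901) (tt N6257 F58576) (tt N6234 (iv D12784)))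
theorem Q7619 : ∀ i, i < 7619 → P i := stepQ 7618 Q7618 (allL N7618 (tt N8546 (iv F69988)) (tt N9192 (iv F133494)) (tt N6237 F58593) (tt N9195 (iv F74303)) (tt N7618 F58594) (tt N9211 (iv F74502)) (tt N9048 (iv F73027)) (tt N9172 (iv F133479)) (tt N6235 (iv D12789)) (tt N9218 D16475))
theorem Q7620 : ∀ i, i < 7620 → P i := stepQ 7619 Q7619 (allL N7619 (tt N8547 (iv F69991)) (tt N6406 (iv F133096)) (tt N8945 (iv F133355)) (tt N6238 F58596) (tt N7619 F58597) (tt N6383 (iv F133074)) (tt N6236 (iv D12790)) (tt N9049 (iv F73031)) (tt N9219 D16476) (tt N6259 F58598))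
theorem Q7621 : ∀ i, i < 7621 → P i := stepQ 7620 Q7620 (allL N7620 (tt N8548 (iv F69996)) (tt N6401 (iv F133089)) (tt N9172 (iv F133478)) (tt N6239 F58600) (tt N7620 F58601) (tt N9213 (iv F74517)) (tt N9219 (iv F74603)) (tt N6237 F58602) (tt N6236 (iv D12791)) (tt N9220 D16477))
theorem Q7622 : ∀ i, i < 7622 → P i := stepQ 7621 Q7621 (allL N7621 (tt N8549 (iv F70001)) (tt N6558 F58603) (tt N9218 (iv F74597)) (tt N6240 F58604) (tt N7621 F58605) (tt N9214 (iv F74521)) (tt N9051 (iv F73040)) (tt N9220 (iv F74607)) (tt N6261 F58606) (tt N6237 (iv D12792)))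
theorem Q7623 : ∀ i, i < 7623 → P i := stepQ 7622 Q7622 (allL N7622 (tt N8550 (iv F70006)) (tt N6435 F133932) (tt N9034 F133933) (tt N9219 (iv F74601)) (tt N6241 F58608) (tt N9221 D16478) (tt N6239 F58609) (tt N9052 (iv F73045)) (tt N6238 (iv D12793)) (tt N9222 D16479))
theorem Q7624 : ∀ i, i < 7624 → P i := stepQ 7623 Q7623 (allL N7623 (tt N8551 (iv F70010)) (tt N6431 F133935) (tt N9028 F133936) (tt N9220 (iv F74605)) (tt N6242 F58611) (tt N9216 (iv F74528)) (tt N9222 (iv F74612)) (tt N6240 F58612) (tt N6263 F58613) (tt N6239 (iv D12794)))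
theorem Q7625 : ∀ i, i < 7625 → P i := stepQ 7624 Q7624 (allL N7624 (tt N8552 (iv F70015)) (tt N6462 F133943) (tt N9074 F133944) (tt N7624 F58615) (tt N9223 D16480) (tt N6241 (iv D12795)) (tt N7624 F58616) (tt N9054 (iv F73052)) (tt N7624 F58617) (tt N9224 D16481))
theorem Q7626 : ∀ i, i < 7626 → P i := stepQ 7625 Q7625 (allL N7625 (tt N8553 (iv F70020)) (tt N6457 F133945) (tt N9066 F133946) (tt N7625 F58619) (tt N9222 (iv F74611)) (tt N9224 (iv F74619)) (tt N6242 F58620) (tt N9055 (iv F73057)) (tt N6265 F58621) (tt N6241 (iv D12796)))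
theorem Q7627 : ∀ i, i < 7627 → P i := stepQ 7626 Q7626 (allL N7626 (tt N8585 F132904) (tt N6250 F58905) (tt N6260 F132905) (tt N9091 (iv F133374)) (tt N7626 F58907) (tt N7626 F58908) (tt N9100 (iv F73379)) (tt N6258 F132906) (tt N6248 (iv D12863)) (tt N9225 D16572))
theorem Q7628 : ∀ i, i < 7628 → P i := stepQ 7627 Q7627 (allL N7627 (tt N8573 (iv F70484)) (tt N6258 F132907) (tt N6256 F59002) (tt N8070 (iv F132938)) (tt N7627 F59003) (tt N7627 F59004) (tt N9152 (iv F133433)) (tt N6250 F59005) (tt N6249 (iv D12892)) (tt N9226 D16612))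
theorem Q7629 : ∀ i, i < 7629 → P i := stepQ 7628 Q7628 (allL N7628 (tt N8574 (iv F70489)) (tt N9225 (iv F75012)) (tt N6257 F59006) (tt N9087 F133973) (tt N7628 F59007) (tt N7628 F59008) (tt N9120 (iv F73523)) (tt N9226 (iv F75154)) (tt N9193 (iv F74282)) (tt N6250 (iv D12893)))
theorem Q7630 : ∀ i, i < 7630 → P i := stepQ 7629 Q7629 (allL N7629 (tt N8576 (iv F70504)) (tt N8363 F132908) (tt N6252 F59019) (tt N7629 F59020) (tt N6251 (iv D12897)) (tt N7629 F59021) (tt N9122 (iv F73533)) (tt N8735 (iv F133263)) (tt N8371 (iv F133531)) (tt N9194 (iv F74297)))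
theorem Q7631 : ∀ i, i < 7631 → P i := stepQ 7630 Q7630 (allL N7630 (tt N8578 (iv F70512)) (tt N8070 F132909) (tt N6253 F59025) (tt N6258 F59026) (tt N8371 (iv F133530)) (tt N7630 F59027) (tt N9124 (iv F73539)) (tt N9091 (iv F133372)) (tt N6251 (iv D12899)) (tt N9227 D16622))
theorem Q7632 : ∀ i, i < 7632 → P i := stepQ 7631 Q7631 (allL N7631 (tt N8580 (iv F70529)) (tt N8036 (iv F133427)) (tt N9227 (iv F75183)) (tt N6254 F59037) (tt N8263 (iv F133534)) (tt N7631 F59038) (tt N9127 (iv F73550)) (tt N9103 (iv F133382)) (tt N9197 (iv F74315)) (tt N6253 (iv D12904)))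
theorem Q7633 : ∀ i, i < 7633 → P i := stepQ 7632 Q7632 (allL N7632 (tt N8581 (iv F70616)) (tt N6488 F132921) (tt N9152 (iv F133432)) (tt N6478 F132922) (tt N7632 F59103) (tt N9228 D16658) (tt N6256 F59104) (tt N9150 (iv F73707)) (tt N6255 (iv D12926)) (tt N9229 D16659))
theorem Q7634 : ∀ i, i < 7634 → P i := stepQ 7633 Q7633 (allL N7633 (tt N8582 (iv F70620)) (tt N6485 F132923) (tt N9226 (iv F75151)) (tt N6476 F132924) (tt N7633 F59106) (tt N7633 F59107) (tt N9229 (iv F75299)) (tt N6257 F59108) (tt N9003 (iv F133517)) (tt N6256 (iv D12927)))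
theorem Q7635 : ∀ i, i < 7635 → P i := stepQ 7634 Q7634 (allL N7634 (tt N8586 (iv F70650)) (tt N9226 (iv F133528)) (tt N6261 F59130) (tt N9227 (iv F75184)) (tt N7634 F59131) (tt N7634 F59132) (tt N9154 (iv F73734)) (tt N9225 (iv F133523)) (tt N9218 (iv F74599)) (tt N6258 (iv D12934)))
theorem Q7636 : ∀ i, i < 7636 → P i := stepQ 7635 Q7635 (allL N7635 (tt N8587 (iv F70654)) (tt N6495 (iv F133162)) (tt N9100 (iv F133384)) (tt N6262 F59134) (tt N7635 F59135) (tt N9230 D16667) (tt N6260 F59136) (tt N9155 (iv F73739)) (tt N6259 (iv D12935)) (tt N9231 D16668))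
theorem Q7637 : ∀ i, i < 7637 → P i := stepQ 7636 Q7636 (allL N7636 (tt N8588 (iv F70659)) (tt N6491 (iv F133163)) (tt N9225 (iv F133522)) (tt N6263 F59138) (tt N7636 F59139) (tt N7636 F59140) (tt N9231 (iv F75333)) (tt N6261 F59141) (tt N9220 (iv F74608)) (tt N6260 (iv D12936)))
theorem Q7638 : ∀ i, i < 7638 → P i := stepQ 7637 Q7637 (allL N7637 (tt N8589 (iv F70665)) (tt N6513 F134000) (tt N9140 F134001) (tt N9230 (iv F75328)) (tt N9232 D16669) (tt N6262 (iv D12937)) (tt N7637 F59143) (tt N9157 (iv F73745)) (tt N9228 (iv F75296)) (tt N9233 D16670))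
theorem Q7639 : ∀ i, i < 7639 → P i := stepQ 7638 Q7638 (allL N7638 (tt N8590 (iv F70668)) (tt N6508 F133994) (tt N9131 F133995) (tt N9231 (iv F75331)) (tt N6265 F59145) (tt N9233 (iv F75338)) (tt N6263 F59146) (tt N9158 (iv F73749)) (tt N9222 (iv F74613)) (tt N6262 (iv D12938)))
theorem Q7640 : ∀ i, i < 7640 → P i := stepQ 7639 Q7639 (allL N7639 (tt N8074 F132925) (tt N6531 (iv F133215)) (tt N8067 F132926) (tt N8916 (iv F133560)) (tt N6264 (iv D12939)) (tt N9232 (iv F75335)) (tt N6266 F59148) (tt N9159 (iv F73752)) (tt N7639 F59149) (tt N8914 (iv F133557)))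
theorem Q7641 : ∀ i, i < 7641 → P i := stepQ 7640 Q7640 (allL N7640 (tt N8233 F132927) (tt N6526 (iv F133206)) (tt N8212 F132928) (tt N7640 F59151) (tt N8914 (iv F133556)) (tt N6265 F59152) (tt N6267 F59153) (tt N9160 (iv F73758)) (tt N8912 (iv F133558)) (tt N6264 (iv D12940)))
theorem Q7642 : ∀ i, i < 7642 → P i := stepQ 7641 Q7641 (allL N7641 (tt N6274 F59427) (tt N7641 F59428) (tt N8773 (iv F71892)) (tt N9234 D16740) (tt N6268 (iv D13002)) (tt N8148 (iv F67578)) (tt N9235 D16741) (tt N8141 (iv F67541)) (tt N6270 F59429) (tt N8139 (iv F67531)))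
theorem Q7643 : ∀ i, i < 7643 → P i := stepQ 7642 Q7642 (allL N7642 (tt N6275 F59430) (tt N7642 F59431) (tt N8774 (iv F71895)) (tt N7642 F59432) (tt N9235 (iv F75686)) (tt N6369 F59433) (tt N6268 (iv D13003)) (tt N9236 D16742) (tt N6271 F59434) (tt N8140 (iv F67537)))
theorem Q7644 : ∀ i, i < 7644 → P i := stepQ 7643 Q7643 (allL N7643 (tt N6276 F59435) (tt N7643 F59436) (tt N8455 (iv F69416)) (tt N9237 D16743) (tt N6269 (iv D13004)) (tt N7643 F59437) (tt N9238 D16744) (tt N6270 F59438) (tt N8141 (iv F67542)) (tt N7643 F59439))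
theorem Q7645 : ∀ i, i < 7645 → P i := stepQ 7644 Q7644 (allL N7644 (tt N6277 F59440) (tt N7644 F59441) (tt N8456 (iv F69422)) (tt N7644 F59442) (tt N9238 (iv F75701)) (tt N7644 F59443) (tt N6269 (iv D13005)) (tt N9239 D16745) (tt N8142 (iv F67548)) (tt N7644 F59444))
theorem Q7646 : ∀ i, i < 7646 → P i := stepQ 7645 Q7645 (allL N7645 (tt N6278 F59445) (tt N7645 F59446) (tt N9240 D16746) (tt N6270 (iv D13006)) (tt N7645 F59447) (tt N7645 F59448) (tt N9241 D16747) (tt N9237 (iv F75697)) (tt N9234 (iv F75683)) (tt N7645 F59449))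
theorem Q7647 : ∀ i, i < 7647 → P i := stepQ 7646 Q7646 (allL N7646 (tt N6279 F59450) (tt N7646 F59451) (tt N8776 (iv F71902)) (tt N9241 (iv F75715)) (tt N6271 F59452) (tt N9242 D16748) (tt N6270 (iv D13007)) (tt N9243 D16749) (tt N9235 (iv F75687)) (tt N7646 F59453))
theorem Q7648 : ∀ i, i < 7648 → P i := stepQ 7647 Q7647 (allL N7647 (tt N6280 F59454) (tt N7647 F59455) (tt N8777 (iv F71906)) (tt N7647 F59456) (tt N9243 (iv F75725)) (tt N6273 F59457) (tt N9239 (iv F75707)) (tt N6271 (iv D13008)) (tt N9236 (iv F75692)) (tt N7647 F59458))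
theorem Q7649 : ∀ i, i < 7649 → P i := stepQ 7648 Q7648 (allL N7648 (tt N6281 F59471) (tt N7648 F59472) (tt N8779 (iv F71920)) (tt N8329 (iv F134614)) (tt N9242 (iv F75720)) (tt N6272 (iv D13011)) (tt N7648 F59473) (tt N9244 D16754) (tt N8326 (iv F134553)) (tt N7648 F59474))
theorem Q7650 : ∀ i, i < 7650 → P i := stepQ 7649 Q7649 (allL N7649 (tt N6282 F59475) (tt N7649 F59476) (tt N8780 (iv F71924)) (tt N8343 (iv F134613)) (tt N6273 F59477) (tt N9244 (iv F75753)) (tt N7649 F59478) (tt N6272 (iv D13012)) (tt N6374 F59479) (tt N7649 F59480))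
theorem Q7651 : ∀ i, i < 7651 → P i := stepQ 7650 Q7650 (allL N7650 (tt N9234 (iv F75680)) (tt N6289 F59481) (tt N9245 D16756) (tt N6274 (iv D13013)) (tt N7650 F59482) (tt N8847 (iv F72191)) (tt N9246 D16757) (tt N8837 (iv F72147)) (tt N6278 F59483) (tt N8834 (iv F72133)))
theorem Q7652 : ∀ i, i < 7652 → P i := stepQ 7651 Q7651 (allL N7651 (tt N9235 (iv F75684)) (tt N6290 F59484) (tt N8788 (iv F71965)) (tt N9246 (iv F75762)) (tt N6275 F59485) (tt N9247 D16758) (tt N6274 (iv D13014)) (tt N9248 D16759) (tt N6279 F59486) (tt N8835 (iv F72137)))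
theorem Q7653 : ∀ i, i < 7653 → P i := stepQ 7652 Q7652 (allL N7652 (tt N9236 (iv F75688)) (tt N6291 F59487) (tt N8789 (iv F71969)) (tt N7652 F59488) (tt N9248 (iv F75768)) (tt N6382 F59489) (tt N8839 (iv F72157)) (tt N6275 (iv D13015)) (tt N6280 F59490) (tt N8836 (iv F72143)))
theorem Q7654 : ∀ i, i < 7654 → P i := stepQ 7653 Q7653 (allL N7653 (tt N9237 (iv F75693)) (tt N6292 F59491) (tt N9249 D16760) (tt N6276 (iv D13016)) (tt N7653 F59492) (tt N7653 F59493) (tt N9250 D16761) (tt N6278 F59494) (tt N8837 (iv F72148)) (tt N7653 F59495))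
theorem Q7655 : ∀ i, i < 7655 → P i := stepQ 7654 Q7654 (allL N7654 (tt N9238 (iv F75699)) (tt N6293 F59496) (tt N8791 (iv F71977)) (tt N9250 (iv F75775)) (tt N6277 F59497) (tt N9251 D16762) (tt N6276 (iv D13017)) (tt N9252 D16763) (tt N8838 (iv F72152)) (tt N7654 F59498))
theorem Q7656 : ∀ i, i < 7656 → P i := stepQ 7655 Q7655 (allL N7655 (tt N9239 (iv F75703)) (tt N6294 F59499) (tt N8792 (iv F71981)) (tt N7655 F59500) (tt N9252 (iv F75783)) (tt N7655 F59501) (tt N6280 F59502) (tt N6277 (iv D13018)) (tt N8839 (iv F72158)) (tt N7655 F59503))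
theorem Q7657 : ∀ i, i < 7657 → P i := stepQ 7656 Q7656 (allL N7656 (tt N9240 (iv F75709)) (tt N9253 D16764) (tt N6278 (iv D13019)) (tt N8793 (iv F71985)) (tt N7656 F59504) (tt N7656 F59505) (tt N9254 D16765) (tt N9249 (iv F75772)) (tt N9245 (iv F75760)) (tt N7656 F59506))
theorem Q7658 : ∀ i, i < 7658 → P i := stepQ 7657 Q7657 (allL N7657 (tt N9241 (iv F75713)) (tt N6296 F59507) (tt N9254 (iv F75790)) (tt N6279 F59508) (tt N7657 F59509) (tt N9255 D16766) (tt N6278 (iv D13020)) (tt N9256 D16767) (tt N9246 (iv F75764)) (tt N7657 F59510))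
theorem Q7659 : ∀ i, i < 7659 → P i := stepQ 7658 Q7658 (allL N7658 (tt N9242 (iv F75718)) (tt N6297 F59511) (tt N8795 (iv F71992)) (tt N9255 (iv F75794)) (tt N6281 F59512) (tt N6279 (iv D13021)) (tt N7658 F59513) (tt N9257 D16768) (tt N9062 (iv F134556)) (tt N7658 F59514))
theorem Q7660 : ∀ i, i < 7660 → P i := stepQ 7659 Q7659 (allL N7659 (tt N9243 (iv F75723)) (tt N6298 F59515) (tt N8796 (iv F71997)) (tt N9256 (iv F75798)) (tt N6280 F59516) (tt N9257 (iv F75803)) (tt N9252 (iv F75784)) (tt N6279 (iv D13022)) (tt N9248 (iv F75769)) (tt N7659 F59517))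
theorem Q7661 : ∀ i, i < 7661 → P i := stepQ 7660 Q7660 (allL N7660 (tt N9244 (iv F75751)) (tt N6301 F59533) (tt N8799 (iv F72015)) (tt N9065 (iv F134642)) (tt N9257 (iv F75802)) (tt N6282 F59534) (tt N9258 D16775) (tt N6281 (iv D13026)) (tt N9063 (iv F134559)) (tt N7660 F59535))
theorem Q7662 : ∀ i, i < 7662 → P i := stepQ 7661 Q7661 (allL N7661 (tt N7661 F59539) (tt N8847 (iv F72189)) (tt N9259 D16778) (tt N6283 (iv D13028)) (tt N6336 F59540) (tt N6289 F59541) (tt N9260 D16779) (tt N6311 F59542) (tt N7661 F59543) (tt N6308 F59544))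
theorem Q7663 : ∀ i, i < 7663 → P i := stepQ 7662 Q7662 (allL N7662 (tt N7662 F59545) (tt N8848 (iv F72195)) (tt N6304 F59546) (tt N9260 (iv F75849)) (tt N6284 F59547) (tt N9261 D16780) (tt N6283 (iv D13029)) (tt N9262 D16781) (tt N7662 F59548) (tt N6309 F59549))
theorem Q7664 : ∀ i, i < 7664 → P i := stepQ 7663 Q7663 (allL N7663 (tt N7663 F59550) (tt N8849 (iv F72199)) (tt N6305 F59551) (tt N6338 F59552) (tt N9262 (iv F75860)) (tt N6390 F59553) (tt N6313 F59554) (tt N6284 (iv D13030)) (tt N7663 F59555) (tt N6310 F59556))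
theorem Q7665 : ∀ i, i < 7665 → P i := stepQ 7664 Q7664 (allL N7664 (tt N7664 F59557) (tt N8837 (iv F72144)) (tt N9263 D16782) (tt N6285 (iv D13031)) (tt N7664 F59558) (tt N6311 F59559) (tt N9264 D16783) (tt N6289 F59560) (tt N6292 F59561) (tt N6303 F59562))
theorem Q7666 : ∀ i, i < 7666 → P i := stepQ 7665 Q7665 (allL N7665 (tt N7665 F59563) (tt N8838 (iv F72150)) (tt N6309 F59564) (tt N9264 (iv F75872)) (tt N6286 F59565) (tt N9265 D16784) (tt N6285 (iv D13032)) (tt N9266 D16785) (tt N6293 F59566) (tt N6304 F59567))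
theorem Q7667 : ∀ i, i < 7667 → P i := stepQ 7666 Q7666 (allL N7666 (tt N7666 F59568) (tt N8839 (iv F72154)) (tt N6310 F59569) (tt N7666 F59570) (tt N9266 (iv F75883)) (tt N6418 F59571) (tt N6291 F59572) (tt N6286 (iv D13033)) (tt N6294 F59573) (tt N6305 F59574))
theorem Q7668 : ∀ i, i < 7668 → P i := stepQ 7667 Q7667 (allL N7667 (tt N7667 F59575) (tt N8834 (iv F72128)) (tt N9267 D16786) (tt N6287 (iv D13034)) (tt N7667 F59576) (tt N6308 F59577) (tt N9268 D16787) (tt N6303 F59578) (tt N7667 F59579) (tt N6289 F59580))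
theorem Q7669 : ∀ i, i < 7669 → P i := stepQ 7668 Q7668 (allL N7668 (tt N7668 F59581) (tt N8835 (iv F72134)) (tt N6312 F59582) (tt N9268 (iv F75895)) (tt N6288 F59583) (tt N9269 D16788) (tt N6287 (iv D13035)) (tt N9270 D16789) (tt N7668 F59584) (tt N6290 F59585))
theorem Q7670 : ∀ i, i < 7670 → P i := stepQ 7669 Q7669 (allL N7669 (tt N7669 F59586) (tt N8836 (iv F72138)) (tt N6313 F59587) (tt N7669 F59588) (tt N9270 (iv F75906)) (tt N6400 F59589) (tt N6305 F59590) (tt N6288 (iv D13036)) (tt N7669 F59591) (tt N6291 F59592))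
theorem Q7671 : ∀ i, i < 7671 → P i := stepQ 7670 Q7670 (allL N7670 (tt N7670 F59593) (tt N9271 D16790) (tt N6289 (iv D13037)) (tt N6314 F59594) (tt N7670 F59595) (tt N9259 (iv F75844)) (tt N9272 D16791) (tt N9263 (iv F75868)) (tt N6295 F59596) (tt N9267 (iv F75893)))
theorem Q7672 : ∀ i, i < 7672 → P i := stepQ 7671 Q7671 (allL N7671 (tt N7671 F59597) (tt N9246 (iv F75761)) (tt N9272 (iv F75914)) (tt N6290 F59598) (tt N7671 F59599) (tt N9273 D16792) (tt N6289 (iv D13038)) (tt N9274 D16793) (tt N6296 F59600) (tt N9268 (iv F75898)))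
theorem Q7673 : ∀ i, i < 7673 → P i := stepQ 7672 Q7672 (allL N7672 (tt N7672 F59601) (tt N9247 (iv F75765)) (tt N6316 F59602) (tt N9273 (iv F75919)) (tt N6403 F59603) (tt N6290 (iv D13039)) (tt N9261 (iv F75856)) (tt N9275 D16794) (tt N9276 D16795) (tt N9269 (iv F75903)))
theorem Q7674 : ∀ i, i < 7674 → P i := stepQ 7673 Q7673 (allL N7673 (tt N7673 F59604) (tt N9248 (iv F75767)) (tt N6317 F59605) (tt N9274 (iv F75921)) (tt N6291 F59606) (tt N9275 (iv F75927)) (tt N9266 (iv F75884)) (tt N6290 (iv D13040)) (tt N6298 F59607) (tt N9270 (iv F75909)))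
theorem Q7675 : ∀ i, i < 7675 → P i := stepQ 7674 Q7674 (allL N7674 (tt N7674 F59608) (tt N9277 D16796) (tt N6292 (iv D13041)) (tt N6318 F59609) (tt N7674 F59610) (tt N7674 F59611) (tt N9278 D16797) (tt N6295 F59612) (tt N9263 (iv F75869)) (tt N7674 F59613))
theorem Q7676 : ∀ i, i < 7676 → P i := stepQ 7675 Q7675 (allL N7675 (tt N7675 F59614) (tt N9250 (iv F75774)) (tt N9278 (iv F75938)) (tt N6293 F59615) (tt N7675 F59616) (tt N9279 D16798) (tt N6292 (iv D13042)) (tt N9280 D16799) (tt N9264 (iv F75874)) (tt N7675 F59617))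
theorem Q7677 : ∀ i, i < 7677 → P i := stepQ 7676 Q7676 (allL N7676 (tt N7676 F59618) (tt N9251 (iv F75778)) (tt N6320 F59619) (tt N9279 (iv F75943)) (tt N7676 F59620) (tt N6293 (iv D13043)) (tt N7676 F59621) (tt N9281 D16800) (tt N9282 D16801) (tt N7676 F59622))
theorem Q7678 : ∀ i, i < 7678 → P i := stepQ 7677 Q7677 (allL N7677 (tt N7677 F59623) (tt N9252 (iv F75782)) (tt N6321 F59624) (tt N9280 (iv F75947)) (tt N6294 F59625) (tt N9281 (iv F75954)) (tt N6298 F59626) (tt N6293 (iv D13044)) (tt N9266 (iv F75885)) (tt N7677 F59627))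
theorem Q7679 : ∀ i, i < 7679 → P i := stepQ 7678 Q7678 (allL N7678 (tt N9283 D16802) (tt N6295 (iv D13045)) (tt N9253 (iv F75786)) (tt N6322 F59628) (tt N7678 F59629) (tt N7678 F59630) (tt N9284 D16803) (tt N9277 (iv F75935)) (tt N9271 (iv F75912)) (tt N7678 F59631))
theorem Q7680 : ∀ i, i < 7680 → P i := stepQ 7679 Q7679 (allL N7679 (tt N7679 F59632) (tt N9284 (iv F75965)) (tt N6296 F59633) (tt N6323 F59634) (tt N7679 F59635) (tt N9285 D16804) (tt N6295 (iv D13046)) (tt N9286 D16805) (tt N9272 (iv F75917)) (tt N7679 F59636))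
theorem Q7681 : ∀ i, i < 7681 → P i := stepQ 7680 Q7680 (allL N7680 (tt N7680 F59637) (tt N9255 (iv F75793)) (tt N9285 (iv F75970)) (tt N6297 F59638) (tt N9287 D16806) (tt N6296 (iv D13047)) (tt N7680 F59639) (tt N9288 D16807) (tt N9289 D16808) (tt N7680 F59640))
theorem Q7682 : ∀ i, i < 7682 → P i := stepQ 7681 Q7681 (allL N7681 (tt N7681 F59641) (tt N9256 (iv F75797)) (tt N9286 (iv F75975)) (tt N6298 F59642) (tt N7681 F59643) (tt N9288 (iv F75986)) (tt N9280 (iv F75949)) (tt N6296 (iv D13048)) (tt N9274 (iv F75923)) (tt N7681 F59644))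
theorem Q7683 : ∀ i, i < 7683 → P i := stepQ 7682 Q7682 (allL N7682 (tt N7682 F59645) (tt N9257 (iv F75801)) (tt N6326 F59646) (tt N9288 (iv F75985)) (tt N6301 F59647) (tt N6298 F59648) (tt N9290 D16809) (tt N6297 (iv D13049)) (tt N9291 D16810) (tt N7682 F59649))
theorem Q7684 : ∀ i, i < 7684 → P i := stepQ 7683 Q7683 (allL N7683 (tt N7683 F59650) (tt N9062 (iv F134554)) (tt N6327 F59651) (tt N9289 (iv F75989)) (tt N6302 F59652) (tt N9276 (iv F75931)) (tt N7683 F59653) (tt N9291 (iv F75999)) (tt N6297 (iv D13050)) (tt N9292 D16811))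
theorem Q7685 : ∀ i, i < 7685 → P i := stepQ 7684 Q7684 (allL N7684 (tt N7684 F59654) (tt N9061 (iv F134643)) (tt N7684 F59655) (tt N9287 (iv F75980)) (tt N6299 (iv D13051)) (tt N7684 F59656) (tt N7684 F59657) (tt N9293 D16812) (tt N6452 (iv F134562)) (tt N7684 F59658))
theorem Q7686 : ∀ i, i < 7686 → P i := stepQ 7685 Q7685 (allL N7685 (tt N7685 F59659) (tt N9065 (iv F134641)) (tt N7685 F59660) (tt N6301 F59661) (tt N9293 (iv F76007)) (tt N6300 F59662) (tt N9294 D16814) (tt N6299 (iv D13052)) (tt N6456 (iv F134564)) (tt N7685 F59663))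
theorem Q7687 : ∀ i, i < 7687 → P i := stepQ 7686 Q7686 (allL N7686 (tt N7686 F59669) (tt N9258 (iv F75830)) (tt N6328 F59670) (tt N9294 (iv F76016)) (tt N9290 (iv F75993)) (tt N7686 F59671) (tt N6301 (iv D13054)) (tt N7686 F59672) (tt N9295 D16817) (tt N7686 F59673))
theorem Q7688 : ∀ i, i < 7688 → P i := stepQ 7687 Q7687 (allL N7687 (tt N7687 F59674) (tt N9063 (iv F134557)) (tt N6329 F59675) (tt N6456 (iv F134563)) (tt N9291 (iv F75998)) (tt N6411 F59676) (tt N9295 (iv F76033)) (tt N6302 F59677) (tt N6301 (iv D13055)) (tt N9296 D16818))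
theorem Q7689 : ∀ i, i < 7689 → P i := stepQ 7688 Q7688 (allL N7688 (tt N7688 F59678) (tt N8060 (iv F134560)) (tt N6330 F59679) (tt N6454 (iv F134565)) (tt N9292 (iv F76002)) (tt N6412 F59680) (tt N7688 F59681) (tt N9296 (iv F76038)) (tt N7688 F59682) (tt N6302 (iv D13056)))
theorem Q7690 : ∀ i, i < 7690 → P i := stepQ 7689 Q7689 (allL N7689 (tt N7689 F59683) (tt N9297 D16819) (tt N6303 (iv D13057)) (tt N9259 (iv F75842)) (tt N7689 F59684) (tt N6314 F59685) (tt N9298 D16820) (tt N9267 (iv F75891)) (tt N7689 F59686) (tt N9263 (iv F75870)))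
theorem Q7691 : ∀ i, i < 7691 → P i := stepQ 7690 Q7690 (allL N7690 (tt N7690 F59687) (tt N8841 (iv F72163)) (tt N9298 (iv F76044)) (tt N6304 F59688) (tt N7690 F59689) (tt N9299 D16821) (tt N6303 (iv D13058)) (tt N9300 D16822) (tt N7690 F59690) (tt N9264 (iv F75875)))
theorem Q7692 : ∀ i, i < 7692 → P i := stepQ 7691 Q7691 (allL N7691 (tt N7691 F59691) (tt N8842 (iv F72167)) (tt N9261 (iv F75854)) (tt N9299 (iv F76048)) (tt N6421 F59692) (tt N6304 (iv D13059)) (tt N6316 F59693) (tt N9301 D16823) (tt N9302 D16824) (tt N9265 (iv F75880)))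
theorem Q7693 : ∀ i, i < 7693 → P i := stepQ 7692 Q7692 (allL N7692 (tt N7692 F59694) (tt N8843 (iv F72170)) (tt N9262 (iv F75859)) (tt N9300 (iv F76051)) (tt N6305 F59695) (tt N9301 (iv F76056)) (tt N9270 (iv F75907)) (tt N6304 (iv D13060)) (tt N7692 F59696) (tt N9266 (iv F75886)))
theorem Q7694 : ∀ i, i < 7694 → P i := stepQ 7693 Q7693 (allL N7693 (tt N7693 F59697) (tt N8844 (iv F72173)) (tt N9303 D16825) (tt N6306 (iv D13061)) (tt N6333 F59698) (tt N6398 F59699) (tt N9304 D16826) (tt N6423 F59700) (tt N7693 F59701) (tt N6388 F59702))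
theorem Q7695 : ∀ i, i < 7695 → P i := stepQ 7694 Q7694 (allL N7694 (tt N7694 F59703) (tt N8845 (iv F72179)) (tt N6417 F59704) (tt N9304 (iv F76069)) (tt N6307 F59705) (tt N9305 D16827) (tt N6306 (iv D13062)) (tt N9306 D16828) (tt N7694 F59706) (tt N6389 F59707))
theorem Q7696 : ∀ i, i < 7696 → P i := stepQ 7695 Q7695 (allL N7695 (tt N7695 F59708) (tt N8846 (iv F72183)) (tt N6418 F59709) (tt N6335 F59710) (tt N9306 (iv F76080)) (tt N6310 F59711) (tt N6425 F59712) (tt N6307 (iv D13063)) (tt N7695 F59713) (tt N6390 F59714))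
theorem Q7697 : ∀ i, i < 7697 → P i := stepQ 7696 Q7696 (allL N7696 (tt N7696 F59715) (tt N9307 D16829) (tt N6308 (iv D13064)) (tt N9263 (iv F75865)) (tt N6339 F59716) (tt N9267 (iv F75890)) (tt N9308 D16830) (tt N6314 F59717) (tt N6318 F59718) (tt N9259 (iv F75847)))
theorem Q7698 : ∀ i, i < 7698 → P i := stepQ 7697 Q7697 (allL N7697 (tt N7697 F59719) (tt N8851 (iv F72208)) (tt N9308 (iv F76088)) (tt N6309 F59720) (tt N6340 F59721) (tt N9309 D16831) (tt N6308 (iv D13065)) (tt N9310 D16832) (tt N6319 F59722) (tt N9260 (iv F75852)))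
theorem Q7699 : ∀ i, i < 7699 → P i := stepQ 7698 Q7698 (allL N7698 (tt N7698 F59723) (tt N8852 (iv F72212)) (tt N9265 (iv F75877)) (tt N9309 (iv F76092)) (tt N9305 (iv F76075)) (tt N6309 (iv D13066)) (tt N9269 (iv F75902)) (tt N9311 D16833) (tt N9312 D16834) (tt N9261 (iv F75857)))
theorem Q7700 : ∀ i, i < 7700 → P i := stepQ 7699 Q7699 (allL N7699 (tt N7699 F59724) (tt N8853 (iv F72213)) (tt N9266 (iv F75882)) (tt N9310 (iv F76094)) (tt N6310 F59725) (tt N9311 (iv F76099)) (tt N6317 F59726) (tt N6309 (iv D13067)) (tt N6321 F59727) (tt N9262 (iv F75863)))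
theorem Q7701 : ∀ i, i < 7701 → P i := stepQ 7700 Q7700 (allL N7700 (tt N7700 F59728) (tt N9313 D16835) (tt N6311 (iv D13068)) (tt N9267 (iv F75888)) (tt N6343 F59729) (tt N9263 (iv F75867)) (tt N9314 D16836) (tt N9259 (iv F75845)) (tt N7700 F59730) (tt N6314 F59731))
theorem Q7702 : ∀ i, i < 7702 → P i := stepQ 7701 Q7701 (allL N7701 (tt N7701 F59732) (tt N8855 (iv F72220)) (tt N9314 (iv F76106)) (tt N6312 F59733) (tt N6344 F59734) (tt N9315 D16837) (tt N6311 (iv D13069)) (tt N9316 D16838) (tt N7701 F59735) (tt N6315 F59736))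
theorem Q7703 : ∀ i, i < 7703 → P i := stepQ 7702 Q7702 (allL N7702 (tt N7702 F59737) (tt N8856 (iv F72225)) (tt N9269 (iv F75900)) (tt N9315 (iv F76111)) (tt N6433 F59738) (tt N6312 (iv D13070)) (tt N9265 (iv F75879)) (tt N9317 D16839) (tt N9318 D16840) (tt N6316 F59739))
theorem Q7704 : ∀ i, i < 7704 → P i := stepQ 7703 Q7703 (allL N7703 (tt N7703 F59740) (tt N8857 (iv F72228)) (tt N9270 (iv F75905)) (tt N9316 (iv F76114)) (tt N6313 F59741) (tt N9317 (iv F76120)) (tt N9262 (iv F75861)) (tt N6312 (iv D13071)) (tt N7703 F59742) (tt N6317 F59743))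
theorem Q7705 : ∀ i, i < 7705 → P i := stepQ 7704 Q7704 (allL N7704 (tt N9319 D16841) (tt N6314 (iv D13072)) (tt N8858 (iv F72232)) (tt N9271 (iv F75910)) (tt N6347 F59744) (tt N9297 (iv F76041)) (tt N9320 D16842) (tt N9307 (iv F76085)) (tt N6322 F59745) (tt N9313 (iv F76104)))
theorem Q7706 : ∀ i, i < 7706 → P i := stepQ 7705 Q7705 (allL N7705 (tt N7705 F59746) (tt N9320 (iv F76128)) (tt N6315 F59747) (tt N9272 (iv F75915)) (tt N6348 F59748) (tt N9321 D16843) (tt N6314 (iv D13073)) (tt N9322 D16844) (tt N6323 F59749) (tt N9314 (iv F76109)))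
theorem Q7707 : ∀ i, i < 7707 → P i := stepQ 7706 Q7706 (allL N7706 (tt N7706 F59750) (tt N8860 (iv F72238)) (tt N9321 (iv F76132)) (tt N6316 F59751) (tt N9323 D16845) (tt N6315 (iv D13074)) (tt N9299 (iv F76049)) (tt N9324 D16846) (tt N9325 D16847) (tt N9315 (iv F76112)))
theorem Q7708 : ∀ i, i < 7708 → P i := stepQ 7707 Q7707 (allL N7707 (tt N7707 F59752) (tt N8861 (iv F72240)) (tt N9322 (iv F76134)) (tt N6317 F59753) (tt N6350 F59754) (tt N9324 (iv F76142)) (tt N9310 (iv F76096)) (tt N6315 (iv D13075)) (tt N6325 F59755) (tt N9316 (iv F76117)))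
theorem Q7709 : ∀ i, i < 7709 → P i := stepQ 7708 Q7708 (allL N7708 (tt N7708 F59756) (tt N8862 (iv F72244)) (tt N9275 (iv F75925)) (tt N9324 (iv F76141)) (tt N6438 F59757) (tt N6317 F59758) (tt N9326 D16848) (tt N6316 (iv D13076)) (tt N9327 D16849) (tt N9317 (iv F76121)))
theorem Q7710 : ∀ i, i < 7710 → P i := stepQ 7709 Q7709 (allL N7709 (tt N7709 F59759) (tt N8863 (iv F72247)) (tt N9276 (iv F75929)) (tt N9325 (iv F76144)) (tt N6439 F59760) (tt N6327 F59761) (tt N9302 (iv F76060)) (tt N9327 (iv F76151)) (tt N6316 (iv D13077)) (tt N9328 D16850))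
theorem Q7711 : ∀ i, i < 7711 → P i := stepQ 7710 Q7710 (allL N7710 (tt N9329 D16851) (tt N6318 (iv D13078)) (tt N8864 (iv F72250)) (tt N9277 (iv F75932)) (tt N6352 F59762) (tt N7710 F59763) (tt N9330 D16852) (tt N6322 F59764) (tt N9307 (iv F76086)) (tt N7710 F59765))
theorem Q7712 : ∀ i, i < 7712 → P i := stepQ 7711 Q7711 (allL N7711 (tt N7711 F59766) (tt N9330 (iv F76160)) (tt N6319 F59767) (tt N9278 (iv F75939)) (tt N6353 F59768) (tt N9331 D16853) (tt N6318 (iv D13079)) (tt N9332 D16854) (tt N9308 (iv F76090)) (tt N7711 F59769))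
theorem Q7713 : ∀ i, i < 7713 → P i := stepQ 7712 Q7712 (allL N7712 (tt N7712 F59770) (tt N8866 (iv F72258)) (tt N9331 (iv F76164)) (tt N6320 F59771) (tt N9333 D16855) (tt N6319 (iv D13080)) (tt N7712 F59772) (tt N9334 D16856) (tt N9335 D16857) (tt N7712 F59773))
theorem Q7714 : ∀ i, i < 7714 → P i := stepQ 7713 Q7713 (allL N7713 (tt N7713 F59774) (tt N8867 (iv F72262)) (tt N9332 (iv F76170)) (tt N6321 F59775) (tt N6355 F59776) (tt N9334 (iv F76183)) (tt N6325 F59777) (tt N6319 (iv D13081)) (tt N9310 (iv F76097)) (tt N7713 F59778))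
theorem Q7715 : ∀ i, i < 7715 → P i := stepQ 7714 Q7714 (allL N7714 (tt N7714 F59779) (tt N8868 (iv F72267)) (tt N9281 (iv F75952)) (tt N9334 (iv F76182)) (tt N7714 F59780) (tt N6321 F59781) (tt N9336 D16858) (tt N6320 (iv D13082)) (tt N9337 D16859) (tt N7714 F59782))
theorem Q7716 : ∀ i, i < 7716 → P i := stepQ 7715 Q7715 (allL N7715 (tt N7715 F59783) (tt N8869 (iv F72271)) (tt N9282 (iv F75957)) (tt N9335 (iv F76187)) (tt N7715 F59784) (tt N9312 (iv F76101)) (tt N7715 F59785) (tt N9337 (iv F76198)) (tt N6320 (iv D13083)) (tt N9338 D16860))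
theorem Q7717 : ∀ i, i < 7717 → P i := stepQ 7716 Q7716 (allL N7716 (tt N6322 (iv D13084)) (tt N7716 F59786) (tt N8870 (iv F72274)) (tt N9283 (iv F75961)) (tt N6358 F59787) (tt N7716 F59788) (tt N9339 D16861) (tt N9329 (iv F76158)) (tt N9319 (iv F76127)) (tt N7716 F59789))
theorem Q7718 : ∀ i, i < 7718 → P i := stepQ 7717 Q7717 (allL N7717 (tt N9339 (iv F76204)) (tt N6323 F59790) (tt N8871 (iv F72279)) (tt N9284 (iv F75966)) (tt N6359 F59791) (tt N9340 D16862) (tt N6322 (iv D13085)) (tt N9341 D16863) (tt N9320 (iv F76130)) (tt N7717 F59792))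
theorem Q7719 : ∀ i, i < 7719 → P i := stepQ 7718 Q7718 (allL N7718 (tt N7718 F59793) (tt N9340 (iv F76208)) (tt N6324 F59794) (tt N9285 (iv F75971)) (tt N7718 F59795) (tt N6323 (iv D13086)) (tt N7718 F59796) (tt N9342 D16864) (tt N9343 D16865) (tt N7718 F59797))
theorem Q7720 : ∀ i, i < 7720 → P i := stepQ 7719 Q7719 (allL N7719 (tt N7719 F59798) (tt N9341 (iv F76212)) (tt N6325 F59799) (tt N9286 (iv F75976)) (tt N6360 F59800) (tt N9342 (iv F76218)) (tt N9332 (iv F76172)) (tt N6323 (iv D13087)) (tt N9322 (iv F76136)) (tt N7719 F59801))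
theorem Q7721 : ∀ i, i < 7721 → P i := stepQ 7720 Q7720 (allL N7720 (tt N7720 F59802) (tt N8874 (iv F72289)) (tt N9342 (iv F76216)) (tt N6326 F59803) (tt N7720 F59804) (tt N6325 F59805) (tt N9344 D16866) (tt N6324 (iv D13088)) (tt N9345 D16867) (tt N7720 F59806))
theorem Q7722 : ∀ i, i < 7722 → P i := stepQ 7721 Q7721 (allL N7721 (tt N7721 F59807) (tt N8875 (iv F72294)) (tt N9343 (iv F76221)) (tt N6327 F59808) (tt N7721 F59809) (tt N9325 (iv F76145)) (tt N7721 F59810) (tt N9345 (iv F76232)) (tt N6324 (iv D13089)) (tt N9346 D16868))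
theorem Q7723 : ∀ i, i < 7723 → P i := stepQ 7722 Q7722 (allL N7722 (tt N7722 F59811) (tt N8876 (iv F72298)) (tt N9290 (iv F75992)) (tt N9344 (iv F76225)) (tt N6328 F59812) (tt N9336 (iv F76193)) (tt N6326 (iv D13090)) (tt N7722 F59813) (tt N9347 D16869) (tt N7722 F59814))
theorem Q7724 : ∀ i, i < 7724 → P i := stepQ 7723 Q7723 (allL N7723 (tt N7723 F59815) (tt N8877 (iv F72302)) (tt N9291 (iv F75997)) (tt N9345 (iv F76230)) (tt N6329 F59816) (tt N9327 (iv F76150)) (tt N9347 (iv F76240)) (tt N6327 F59817) (tt N6326 (iv D13091)) (tt N9348 D16870))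
theorem Q7725 : ∀ i, i < 7725 → P i := stepQ 7724 Q7724 (allL N7724 (tt N7724 F59818) (tt N8878 (iv F72305)) (tt N9292 (iv F76001)) (tt N9346 (iv F76234)) (tt N6330 F59819) (tt N9328 (iv F76154)) (tt N7724 F59820) (tt N9348 (iv F76244)) (tt N7724 F59821) (tt N6327 (iv D13092)))
theorem Q7726 : ∀ i, i < 7726 → P i := stepQ 7725 Q7725 (allL N7725 (tt N7725 F59822) (tt N8879 (iv F72309)) (tt N9295 (iv F76032)) (tt N7725 F59823) (tt N9347 (iv F76239)) (tt N9349 D16871) (tt N6329 F59824) (tt N7725 F59825) (tt N6328 (iv D13093)) (tt N9350 D16872))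
theorem Q7727 : ∀ i, i < 7727 → P i := stepQ 7726 Q7726 (allL N7726 (tt N7726 F59826) (tt N8880 (iv F72313)) (tt N9296 (iv F76036)) (tt N7726 F59827) (tt N9348 (iv F76243)) (tt N6446 F59828) (tt N9350 (iv F76253)) (tt N6330 F59829) (tt N7726 F59830) (tt N6329 (iv D13094)))
theorem Q7728 : ∀ i, i < 7728 → P i := stepQ 7727 Q7727 (allL N7727 (tt N7727 F59831) (tt N8000 (iv F66739)) (tt N9351 D16873) (tt N6331 (iv D13095)) (tt N6388 F59832) (tt N7727 F59833) (tt N9352 D16874) (tt N6447 F59834) (tt N6535 F59835) (tt N6333 F59836))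
theorem Q7729 : ∀ i, i < 7729 → P i := stepQ 7728 Q7728 (allL N7728 (tt N7728 F59837) (tt N8001 (iv F66746)) (tt N7728 F59838) (tt N9352 (iv F76264)) (tt N6332 F59839) (tt N9353 D16875) (tt N6331 (iv D13096)) (tt N9354 D16876) (tt N6536 F59840) (tt N6334 F59841))
theorem Q7730 : ∀ i, i < 7730 → P i := stepQ 7729 Q7729 (allL N7729 (tt N7729 F59842) (tt N8002 (iv F66752)) (tt N7729 F59843) (tt N6390 F59844) (tt N9354 (iv F76275)) (tt N6338 F59845) (tt N6449 F59846) (tt N6332 (iv D13097)) (tt N6537 F59847) (tt N6335 F59848))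
theorem Q7731 : ∀ i, i < 7731 → P i := stepQ 7730 Q7730 (allL N7730 (tt N7730 F59849) (tt N9355 D16877) (tt N6333 (iv D13098)) (tt N7730 F59850) (tt N9303 (iv F76063)) (tt N7730 F59851) (tt N9356 D16878) (tt N6450 F59852) (tt N7730 F59853) (tt N9351 (iv F76262)))
theorem Q7732 : ∀ i, i < 7732 → P i := stepQ 7731 Q7731 (allL N7731 (tt N7731 F59854) (tt N8882 (iv F72321)) (tt N9356 (iv F76284)) (tt N6334 F59855) (tt N9304 (iv F76070)) (tt N9357 D16879) (tt N6333 (iv D13099)) (tt N9358 D16880) (tt N7731 F59856) (tt N9352 (iv F76267)))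
theorem Q7733 : ∀ i, i < 7733 → P i := stepQ 7732 Q7732 (allL N7732 (tt N7732 F59857) (tt N8883 (iv F72324)) (tt N7732 F59858) (tt N9357 (iv F76288)) (tt N6341 F59859) (tt N6334 (iv D13100)) (tt N7732 F59860) (tt N9359 D16881) (tt N9360 D16882) (tt N9353 (iv F76272)))
theorem Q7734 : ∀ i, i < 7734 → P i := stepQ 7733 Q7733 (allL N7733 (tt N7733 F59861) (tt N8884 (iv F72327)) (tt N7733 F59862) (tt N9358 (iv F76291)) (tt N6335 F59863) (tt N9359 (iv F76297)) (tt N6453 F59864) (tt N6334 (iv D13101)) (tt N7733 F59865) (tt N9354 (iv F76278)))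
theorem Q7735 : ∀ i, i < 7735 → P i := stepQ 7734 Q7734 (allL N7734 (tt N7734 F59866) (tt N9361 D16883) (tt N6336 (iv D13102)) (tt N7734 F59867) (tt N9259 (iv F75843)) (tt N7734 F59868) (tt N9362 D16884) (tt N6343 F59869) (tt N7734 F59870) (tt N6339 F59871))
theorem Q7736 : ∀ i, i < 7736 → P i := stepQ 7735 Q7735 (allL N7735 (tt N7735 F59872) (tt N8886 (iv F72335)) (tt N9362 (iv F76309)) (tt N6337 F59873) (tt N9260 (iv F75850)) (tt N9363 D16885) (tt N6336 (iv D13103)) (tt N9364 D16886) (tt N7735 F59874) (tt N6340 F59875))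
theorem Q7737 : ∀ i, i < 7737 → P i := stepQ 7736 Q7736 (allL N7736 (tt N7736 F59876) (tt N8887 (iv F72339)) (tt N7736 F59877) (tt N9363 (iv F76314)) (tt N9353 (iv F76270)) (tt N6337 (iv D13104)) (tt N7736 F59878) (tt N9365 D16887) (tt N9366 D16888) (tt N6341 F59879))
theorem Q7738 : ∀ i, i < 7738 → P i := stepQ 7737 Q7737 (allL N7737 (tt N7737 F59880) (tt N8888 (iv F72342)) (tt N7737 F59881) (tt N9364 (iv F76318)) (tt N6338 F59882) (tt N9365 (iv F76324)) (tt N6346 F59883) (tt N6337 (iv D13105)) (tt N7737 F59884) (tt N6342 F59885))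
theorem Q7739 : ∀ i, i < 7739 → P i := stepQ 7738 Q7738 (allL N7738 (tt N9367 D16889) (tt N6339 (iv D13106)) (tt N8889 (iv F72347)) (tt N7738 F59886) (tt N9307 (iv F76084)) (tt N7738 F59887) (tt N9368 D16890) (tt N6347 F59888) (tt N6352 F59889) (tt N9361 (iv F76307)))
theorem Q7740 : ∀ i, i < 7740 → P i := stepQ 7739 Q7739 (allL N7739 (tt N7739 F59890) (tt N9368 (iv F76335)) (tt N6340 F59891) (tt N7739 F59892) (tt N9308 (iv F76089)) (tt N9369 D16891) (tt N6339 (iv D13107)) (tt N9370 D16892) (tt N6353 F59893) (tt N9362 (iv F76312)))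
theorem Q7741 : ∀ i, i < 7741 → P i := stepQ 7740 Q7740 (allL N7740 (tt N7740 F59894) (tt N8891 (iv F72353)) (tt N9369 (iv F76339)) (tt N6341 F59895) (tt N9371 D16893) (tt N6340 (iv D13108)) (tt N7740 F59896) (tt N9372 D16894) (tt N9373 D16895) (tt N9363 (iv F76316)))
theorem Q7742 : ∀ i, i < 7742 → P i := stepQ 7741 Q7741 (allL N7741 (tt N7741 F59897) (tt N8892 (iv F72356)) (tt N9370 (iv F76345)) (tt N6342 F59898) (tt N9310 (iv F76095)) (tt N9372 (iv F76355)) (tt N6350 F59899) (tt N6340 (iv D13109)) (tt N6355 F59900) (tt N9364 (iv F76321)))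
theorem Q7743 : ∀ i, i < 7743 → P i := stepQ 7742 Q7742 (allL N7742 (tt N7742 F59901) (tt N8893 (iv F72360)) (tt N7742 F59902) (tt N9372 (iv F76354)) (tt N9359 (iv F76296)) (tt N6342 F59903) (tt N9374 D16896) (tt N6341 (iv D13110)) (tt N9375 D16897) (tt N9365 (iv F76325)))
theorem Q7744 : ∀ i, i < 7744 → P i := stepQ 7743 Q7743 (allL N7743 (tt N7743 F59904) (tt N8894 (iv F72362)) (tt N7743 F59905) (tt N9373 (iv F76358)) (tt N9360 (iv F76300)) (tt N6357 F59906) (tt N7743 F59907) (tt N9375 (iv F76370)) (tt N6341 (iv D13111)) (tt N9376 D16898))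
theorem Q7745 : ∀ i, i < 7745 → P i := stepQ 7744 Q7744 (allL N7744 (tt N9377 D16899) (tt N6343 (iv D13112)) (tt N8895 (iv F72365)) (tt N7744 F59908) (tt N9313 (iv F76102)) (tt N7744 F59909) (tt N9378 D16900) (tt N9361 (iv F76305)) (tt N7744 F59910) (tt N6347 F59911))
theorem Q7746 : ∀ i, i < 7746 → P i := stepQ 7745 Q7745 (allL N7745 (tt N7745 F59912) (tt N9378 (iv F76381)) (tt N6344 F59913) (tt N7745 F59914) (tt N9314 (iv F76107)) (tt N9379 D16901) (tt N6343 (iv D13113)) (tt N9380 D16902) (tt N7745 F59915) (tt N6348 F59916))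
theorem Q7747 : ∀ i, i < 7747 → P i := stepQ 7746 Q7746 (allL N7746 (tt N7746 F59917) (tt N8897 (iv F72372)) (tt N9379 (iv F76386)) (tt N6345 F59918) (tt N9381 D16903) (tt N6344 (iv D13114)) (tt N7746 F59919) (tt N9382 D16904) (tt N9383 D16905) (tt N6349 F59920))
theorem Q7748 : ∀ i, i < 7748 → P i := stepQ 7747 Q7747 (allL N7747 (tt N7747 F59921) (tt N8898 (iv F72376)) (tt N9380 (iv F76391)) (tt N6346 F59922) (tt N9316 (iv F76115)) (tt N9382 (iv F76401)) (tt N9364 (iv F76319)) (tt N6344 (iv D13115)) (tt N7747 F59923) (tt N6350 F59924))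
theorem Q7749 : ∀ i, i < 7749 → P i := stepQ 7748 Q7748 (allL N7748 (tt N7748 F59925) (tt N8899 (iv F72380)) (tt N7748 F59926) (tt N9382 (iv F76400)) (tt N6460 F59927) (tt N6346 F59928) (tt N9384 D16906) (tt N6345 (iv D13116)) (tt N9385 D16907) (tt N6351 F59929))
theorem Q7750 : ∀ i, i < 7750 → P i := stepQ 7749 Q7749 (allL N7749 (tt N7749 F59930) (tt N8900 (iv F72384)) (tt N7749 F59931) (tt N9383 (iv F76404)) (tt N6461 F59932) (tt N7749 F59933) (tt N7749 F59934) (tt N9385 (iv F76417)) (tt N6345 (iv D13117)) (tt N7749 F59935))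
theorem Q7751 : ∀ i, i < 7751 → P i := stepQ 7750 Q7750 (allL N7750 (tt N6347 (iv D13118)) (tt N7750 F59936) (tt N8901 (iv F72389)) (tt N7750 F59937) (tt N9319 (iv F76126)) (tt N7750 F59938) (tt N9386 D16908) (tt N9367 (iv F76333)) (tt N6358 F59939) (tt N9377 (iv F76380)))
theorem Q7752 : ∀ i, i < 7752 → P i := stepQ 7751 Q7751 (allL N7751 (tt N9386 (iv F76419)) (tt N6348 F59940) (tt N8902 (iv F72393)) (tt N7751 F59941) (tt N9320 (iv F76129)) (tt N9387 D16909) (tt N6347 (iv D13119)) (tt N9388 D16910) (tt N6359 F59942) (tt N9378 (iv F76384)))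
theorem Q7753 : ∀ i, i < 7753 → P i := stepQ 7752 Q7752 (allL N7752 (tt N7752 F59943) (tt N9387 (iv F76423)) (tt N6349 F59944) (tt N7752 F59945) (tt N9389 D16911) (tt N6348 (iv D13120)) (tt N7752 F59946) (tt N9390 D16912) (tt N7752 F59947) (tt N9379 (iv F76389)))
theorem Q7754 : ∀ i, i < 7754 → P i := stepQ 7753 Q7753 (allL N7753 (tt N7753 F59948) (tt N9388 (iv F76427)) (tt N6350 F59949) (tt N7753 F59950) (tt N9322 (iv F76135)) (tt N9390 (iv F76437)) (tt N9370 (iv F76347)) (tt N6348 (iv D13121)) (tt N6360 F59951) (tt N9380 (iv F76394)))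
theorem Q7755 : ∀ i, i < 7755 → P i := stepQ 7754 Q7754 (allL N7754 (tt N7754 F59952) (tt N8905 (iv F72400)) (tt N9389 (iv F76431)) (tt N6463 F59953) (tt N6349 (iv D13122)) (tt N9323 (iv F76139)) (tt N7754 F59954) (tt N9391 D16913) (tt N7754 F59955) (tt N9381 (iv F76398)))
theorem Q7756 : ∀ i, i < 7756 → P i := stepQ 7755 Q7755 (allL N7755 (tt N7755 F59956) (tt N8906 (iv F72404)) (tt N9390 (iv F76435)) (tt N6351 F59957) (tt N9391 (iv F76441)) (tt N6350 F59958) (tt N9392 D16914) (tt N6349 (iv D13123)) (tt N7755 F59959) (tt N9382 (iv F76402)))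
theorem Q7757 : ∀ i, i < 7757 → P i := stepQ 7756 Q7756 (allL N7756 (tt N7756 F59960) (tt N8907 (iv F72408)) (tt N7756 F59961) (tt N9392 (iv F76444)) (tt N6465 F59962) (tt N9374 (iv F76365)) (tt N6351 (iv D13124)) (tt N7756 F59963) (tt N7756 F59964) (tt N9384 (iv F76412)))
theorem Q7758 : ∀ i, i < 7758 → P i := stepQ 7757 Q7757 (allL N7757 (tt N6352 (iv D13125)) (tt N7757 F59965) (tt N8908 (iv F72412)) (tt N7757 F59966) (tt N9329 (iv F76156)) (tt N6361 F59967) (tt N9393 D16915) (tt N6358 F59968) (tt N9367 (iv F76334)) (tt N7757 F59969))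
theorem Q7759 : ∀ i, i < 7759 → P i := stepQ 7758 Q7758 (allL N7758 (tt N9393 (iv F76447)) (tt N6353 F59970) (tt N8909 (iv F72417)) (tt N7758 F59971) (tt N9330 (iv F76161)) (tt N9162 F73789) (tt N6352 (iv D13126)) (tt N9394 D16916) (tt N9368 (iv F76337)) (tt N7758 F59972))
theorem Q7760 : ∀ i, i < 7760 → P i := stepQ 7759 Q7759 (allL N7759 (tt N7759 F59973) (tt N9162 (iv F73784)) (tt N6354 F59974) (tt N7759 F59975) (tt N6529 (iv F59978)) (tt N6353 (iv D13127)) (tt N6363 F59976) (tt N9395 D16917) (tt N6527 F59982) (tt N7759 F59977))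
theorem Q7761 : ∀ i, i < 7761 → P i := stepQ 7760 Q7760 (allL N7760 (tt N7760 F59994) (tt N9394 (iv F76451)) (tt N6355 F59995) (tt N7760 F59996) (tt N9332 (iv F76171)) (tt N9395 (iv F76459)) (tt N6360 F59997) (tt N6353 (iv D13128)) (tt N9370 (iv F76348)) (tt N7760 F59998))
theorem Q7762 : ∀ i, i < 7762 → P i := stepQ 7761 Q7761 (allL N7761 (tt N7761 F59999) (tt N8912 (iv F72425)) (tt N6529 F60000) (tt N7761 F60001) (tt N6354 (iv D13129)) (tt N9333 (iv F76177)) (tt N6364 F60002) (tt N9396 D16918) (tt N6526 (iv F60004)) (tt N7761 F60003))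
theorem Q7763 : ∀ i, i < 7763 → P i := stepQ 7762 Q7762 (allL N7762 (tt N7762 F60005) (tt N8913 (iv F72430)) (tt N9395 (iv F76456)) (tt N6356 F60006) (tt N9396 (iv F76466)) (tt N6355 F60007) (tt N7762 F60008) (tt N6354 (iv D13130)) (tt N9397 D16919) (tt N7762 F60009))
theorem Q7764 : ∀ i, i < 7764 → P i := stepQ 7763 Q7763 (allL N7763 (tt N7763 F60010) (tt N8914 (iv F72435)) (tt N6527 F60011) (tt N6357 F60012) (tt N6526 F60013) (tt N9373 (iv F76360)) (tt N6365 F60014) (tt N9397 (iv F76475)) (tt N6354 (iv D13131)) (tt N6531 (iv F60015)))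
theorem Q7765 : ∀ i, i < 7765 → P i := stepQ 7764 Q7764 (allL N7764 (tt N7764 F60016) (tt N8915 (iv F72440)) (tt N7764 F60017) (tt N9397 (iv F76472)) (tt N7764 F60018) (tt N9375 (iv F76369)) (tt N7764 F60019) (tt N6357 F60020) (tt N6356 (iv D13132)) (tt N9398 D16920))
theorem Q7766 : ∀ i, i < 7766 → P i := stepQ 7765 Q7765 (allL N7765 (tt N7765 F60021) (tt N8916 (iv F72444)) (tt N7765 F60022) (tt N6531 F60023) (tt N7765 F60024) (tt N9376 (iv F76374)) (tt N6366 F60025) (tt N9398 (iv F76482)) (tt N7765 F60026) (tt N6357 (iv D13133)))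
theorem Q7767 : ∀ i, i < 7767 → P i := stepQ 7766 Q7766 (allL N7766 (tt N6359 F60027) (tt N7766 F60028) (tt N8917 (iv F72450)) (tt N7766 F60029) (tt N9339 (iv F76206)) (tt N7766 F60030) (tt N6358 (iv D13134)) (tt N9399 D16921) (tt N9386 (iv F76422)) (tt N7766 F60031))
theorem Q7768 : ∀ i, i < 7768 → P i := stepQ 7767 Q7767 (allL N7767 (tt N9399 (iv F76484)) (tt N6360 F60032) (tt N8918 (iv F72454)) (tt N7767 F60033) (tt N9341 (iv F76213)) (tt N7767 F60034) (tt N9394 (iv F76453)) (tt N6359 (iv D13135)) (tt N9388 (iv F76429)) (tt N7767 F60035))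
theorem Q7769 : ∀ i, i < 7769 → P i := stepQ 7768 Q7768 (allL N7768 (tt N6362 F60036) (tt N7768 F60037) (tt N8591 F134252) (tt N7768 F60038) (tt N7768 F60039) (tt N8444 F69283) (tt N6361 (iv D13136)) (tt N7768 F60040) (tt N7768 F60041) (tt N7768 F60042))
theorem Q7770 : ∀ i, i < 7770 → P i := stepQ 7769 Q7769 (allL N7769 (tt N6379 F60043) (tt N7769 F60044) (tt N8919 (iv F72482)) (tt N8543 (iv F134477)) (tt N6367 (iv D13137)) (tt N8146 (iv F67566)) (tt N9400 D16923) (tt N8275 (iv F68206)) (tt N6469 F60045) (tt N6368 F60046))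
theorem Q7771 : ∀ i, i < 7771 → P i := stepQ 7770 Q7770 (allL N7770 (tt N6380 F60047) (tt N7770 F60048) (tt N8920 (iv F72486)) (tt N7770 F60049) (tt N9400 (iv F76496)) (tt N8140 (iv F67535)) (tt N6367 (iv D13138)) (tt N9401 D16924) (tt N6470 F60050) (tt N6369 F60051))
theorem Q7772 : ∀ i, i < 7772 → P i := stepQ 7771 Q7771 (allL N7771 (tt N6381 F60056) (tt N7771 F60057) (tt N8922 (iv F72492)) (tt N8308 (iv F134474)) (tt N6369 F60058) (tt N9402 D16927) (tt N6368 (iv D13140)) (tt N9403 D16928) (tt N6372 F60059) (tt N9400 (iv F76498)))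
theorem Q7773 : ∀ i, i < 7773 → P i := stepQ 7772 Q7772 (allL N7772 (tt N6382 F60060) (tt N7772 F60061) (tt N8923 (iv F72496)) (tt N7772 F60062) (tt N9403 (iv F76516)) (tt N9236 (iv F75691)) (tt N8626 (iv F71250)) (tt N6369 (iv D13141)) (tt N6373 F60063) (tt N9401 (iv F76503)))
theorem Q7774 : ∀ i, i < 7774 → P i := stepQ 7773 Q7773 (allL N7773 (tt N6383 F60070) (tt N7773 F60071) (tt N8925 (iv F72503)) (tt N8541 (iv F133519)) (tt N6371 F60072) (tt N8547 F133017) (tt N6370 (iv D13143)) (tt N9404 D16932) (tt N8625 (iv F71245)) (tt N6473 F60073))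
theorem Q7775 : ∀ i, i < 7775 → P i := stepQ 7774 Q7774 (allL N7774 (tt N6384 F60074) (tt N7774 F60075) (tt N8926 (iv F72507)) (tt N7774 F60076) (tt N9404 (iv F76535)) (tt N7774 F60077) (tt N6373 F60078) (tt N6371 (iv D13144)) (tt N8626 (iv F71251)) (tt N6474 F60079))
theorem Q7776 : ∀ i, i < 7776 → P i := stepQ 7775 Q7775 (allL N7775 (tt N6385 F60094) (tt N7775 F60095) (tt N8928 (iv F72524)) (tt N8307 (iv F134473)) (tt N6373 F60096) (tt N8306 (iv F134402)) (tt N9404 (iv F76536)) (tt N6372 (iv D13148)) (tt N9403 (iv F76517)) (tt N6475 F60097))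
theorem Q7777 : ∀ i, i < 7777 → P i := stepQ 7776 Q7776 (allL N7776 (tt N8627 (iv F71258)) (tt N6389 F60129) (tt N8931 (iv F72555)) (tt N9202 (iv F134499)) (tt N6376 F60130) (tt N9405 D16950) (tt N6375 (iv D13156)) (tt N9406 D16951) (tt N6533 F60131) (tt N8845 (iv F72182)))
theorem Q7778 : ∀ i, i < 7778 → P i := stepQ 7777 Q7777 (allL N7777 (tt N8628 (iv F71262)) (tt N6390 F60132) (tt N8932 (iv F72559)) (tt N8002 (iv F66754)) (tt N9406 (iv F76613)) (tt N8849 (iv F72201)) (tt N7993 (iv F66708)) (tt N6376 (iv D13157)) (tt N6534 F60133) (tt N8846 (iv F72188)))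
theorem Q7779 : ∀ i, i < 7779 → P i := stepQ 7778 Q7778 (allL N7778 (tt N8625 (iv F71242)) (tt N6396 F60138) (tt N8934 (iv F72565)) (tt N9217 F133879) (tt N6378 F60139) (tt N9407 D16954) (tt N6377 (iv D13159)) (tt N9408 D16955) (tt N6383 F60140) (tt N9004 (iv F72837)))
theorem Q7780 : ∀ i, i < 7780 → P i := stepQ 7779 Q7779 (allL N7779 (tt N8626 (iv F71246)) (tt N6397 F60141) (tt N8935 (iv F72569)) (tt N7779 F60142) (tt N9408 (iv F76624)) (tt N8046 (iv F67012)) (tt N6382 F60143) (tt N6378 (iv D13160)) (tt N6384 F60144) (tt N9005 (iv F72843)))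
theorem Q7781 : ∀ i, i < 7781 → P i := stepQ 7780 Q7780 (allL N7780 (tt N9400 (iv F76494)) (tt N6399 F60149) (tt N8937 (iv F72576)) (tt N9045 (iv F134486)) (tt N6380 F60150) (tt N9409 D16958) (tt N6379 (iv D13162)) (tt N9410 D16959) (tt N6480 F60151) (tt N6381 F60152))
theorem Q7782 : ∀ i, i < 7782 → P i := stepQ 7781 Q7781 (allL N7781 (tt N9401 (iv F76499)) (tt N6400 F60153) (tt N8938 (iv F72581)) (tt N7781 F60154) (tt N9410 (iv F76638)) (tt N8836 (iv F72140)) (tt N9005 (iv F72841)) (tt N6380 (iv D13163)) (tt N6481 F60155) (tt N6382 F60156))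
theorem Q7783 : ∀ i, i < 7783 → P i := stepQ 7782 Q7782 (allL N7782 (tt N9402 (iv F76512)) (tt N6403 F60163) (tt N8941 (iv F72590)) (tt N9027 (iv F134484)) (tt N9247 (iv F75766)) (tt N6381 (iv D13166)) (tt N9405 (iv F76611)) (tt N9411 D16964) (tt N9024 (iv F134491)) (tt N9409 (iv F76636)))
theorem Q7784 : ∀ i, i < 7784 → P i := stepQ 7783 Q7783 (allL N7783 (tt N9403 (iv F76514)) (tt N6404 F60164) (tt N8942 (iv F72592)) (tt N9044 (iv F134482)) (tt N6382 F60165) (tt N9411 (iv F76654)) (tt N9408 (iv F76625)) (tt N6381 (iv D13167)) (tt N6385 F60166) (tt N9410 (iv F76640)))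
theorem Q7785 : ∀ i, i < 7785 → P i := stepQ 7784 Q7784 (allL N7784 (tt N9404 (iv F76533)) (tt N6407 F60179) (tt N8946 (iv F72608)) (tt N9043 F133880) (tt N6384 F60180) (tt N9049 F133881) (tt N6385 F60181) (tt N6383 (iv D13171)) (tt N9408 (iv F76626)) (tt N6484 F60182))
theorem Q7786 : ∀ i, i < 7786 → P i := stepQ 7785 Q7785 (allL N7785 (tt N7785 F60234) (tt N7991 (iv F66693)) (tt N6556 F133904) (tt N6386 (iv D13186)) (tt N6447 F60235) (tt N6395 F60236) (tt N9412 D16993) (tt N6388 F60237) (tt N6538 F60238) (tt N6423 F60239))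
theorem Q7787 : ∀ i, i < 7787 → P i := stepQ 7786 Q7786 (allL N7786 (tt N7786 F60240) (tt N7992 (iv F66700)) (tt N6414 F60241) (tt N9412 (iv F76763)) (tt N6387 F60242) (tt N9413 D16994) (tt N6386 (iv D13187)) (tt N9414 D16995) (tt N6539 F60243) (tt N6424 F60244))
theorem Q7788 : ∀ i, i < 7788 → P i := stepQ 7787 Q7787 (allL N7787 (tt N7787 F60245) (tt N7993 (iv F66705)) (tt N6415 F60246) (tt N6449 F60247) (tt N9414 (iv F76774)) (tt N6428 F60248) (tt N6390 F60249) (tt N6387 (iv D13188)) (tt N6540 F60250) (tt N6425 F60251))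
theorem Q7789 : ∀ i, i < 7789 → P i := stepQ 7788 Q7788 (allL N7788 (tt N7788 F60252) (tt N9213 F133907) (tt N6388 (iv D13189)) (tt N6419 F60253) (tt N9351 (iv F76258)) (tt N6401 F60254) (tt N9415 D16997) (tt N6556 F133908) (tt N6541 F60255) (tt N9303 (iv F76067)))
theorem Q7790 : ∀ i, i < 7790 → P i := stepQ 7789 Q7789 (allL N7789 (tt N7789 F60256) (tt N9202 (iv F134498)) (tt N9415 (iv F76782)) (tt N6389 F60257) (tt N9352 (iv F76265)) (tt N9416 D16998) (tt N6388 (iv D13190)) (tt N9417 D16999) (tt N6542 F60258) (tt N9304 (iv F76072)))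
theorem Q7791 : ∀ i, i < 7791 → P i := stepQ 7790 Q7790 (allL N7790 (tt N7790 F60259) (tt N9405 (iv F76610)) (tt N6421 F60260) (tt N9416 (iv F76786)) (tt N9261 (iv F75855)) (tt N6389 (iv D13191)) (tt N6403 F60261) (tt N9418 D17000) (tt N9419 D17001) (tt N9305 (iv F76077)))
theorem Q7792 : ∀ i, i < 7792 → P i := stepQ 7791 Q7791 (allL N7791 (tt N7791 F60262) (tt N9406 (iv F76612)) (tt N6422 F60263) (tt N9417 (iv F76789)) (tt N6390 F60264) (tt N9418 (iv F76793)) (tt N9414 (iv F76775)) (tt N6389 (iv D13192)) (tt N6544 F60265) (tt N9306 (iv F76083)))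
theorem Q7793 : ∀ i, i < 7793 → P i := stepQ 7792 Q7792 (allL N7792 (tt N7792 F60266) (tt N8044 (iv F66998)) (tt N6557 F133928) (tt N6391 (iv D13193)) (tt N7792 F60267) (tt N6426 F60268) (tt N9420 D17003) (tt N6416 F60269) (tt N7792 F60270) (tt N6413 F60271))
theorem Q7794 : ∀ i, i < 7794 → P i := stepQ 7793 Q7793 (allL N7793 (tt N7793 F60272) (tt N8045 (iv F67005)) (tt N6424 F60273) (tt N9420 (iv F76806)) (tt N6392 F60274) (tt N9421 D17004) (tt N6391 (iv D13194)) (tt N9422 D17005) (tt N7793 F60275) (tt N6414 F60276))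
theorem Q7795 : ∀ i, i < 7795 → P i := stepQ 7794 Q7794 (allL N7794 (tt N7794 F60277) (tt N8046 (iv F67010)) (tt N6425 F60278) (tt N7794 F60279) (tt N9422 (iv F76817)) (tt N6397 F60280) (tt N6418 F60281) (tt N6392 (iv D13195)) (tt N7794 F60282) (tt N6415 F60283))
theorem Q7796 : ∀ i, i < 7796 → P i := stepQ 7795 Q7795 (allL N7795 (tt N7795 F60284) (tt N9003 (iv F72828)) (tt N6558 (iv F133259)) (tt N6393 (iv D13196)) (tt N7795 F60285) (tt N6423 F60286) (tt N9423 D17007) (tt N6398 F60287) (tt N6485 F60288) (tt N6395 F60289))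
theorem Q7797 : ∀ i, i < 7797 → P i := stepQ 7796 Q7796 (allL N7796 (tt N7796 F60290) (tt N9004 (iv F72834)) (tt N6427 F60291) (tt N9423 (iv F76829)) (tt N6394 F60292) (tt N9424 D17008) (tt N6393 (iv D13197)) (tt N9425 D17009) (tt N6486 F60293) (tt N6396 F60294))
theorem Q7798 : ∀ i, i < 7798 → P i := stepQ 7797 Q7797 (allL N7797 (tt N7797 F60295) (tt N9005 (iv F72838)) (tt N6428 F60296) (tt N7797 F60297) (tt N9425 (iv F76840)) (tt N6415 F60298) (tt N6400 F60299) (tt N6394 (iv D13198)) (tt N6487 F60300) (tt N6397 F60301))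
theorem Q7799 : ∀ i, i < 7799 → P i := stepQ 7798 Q7798 (allL N7798 (tt N7798 F60307) (tt N9217 F133903) (tt N6442 F133906) (tt N6396 F60308) (tt N7798 F60309) (tt N9426 D17012) (tt N6395 (iv D13200)) (tt N9427 D17013) (tt N6405 F60310) (tt N9423 (iv F76832)))
theorem Q7800 : ∀ i, i < 7800 → P i := stepQ 7799 Q7799 (allL N7799 (tt N7799 F60311) (tt N9407 (iv F76622)) (tt N6429 F60312) (tt N9426 (iv F76854)) (tt N9421 (iv F76812)) (tt N6396 (iv D13201)) (tt N9413 (iv F76770)) (tt N9428 D17014) (tt N9429 D17015) (tt N9424 (iv F76837)))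
theorem Q7801 : ∀ i, i < 7801 → P i := stepQ 7800 Q7800 (allL N7800 (tt N7800 F60313) (tt N9408 (iv F76623)) (tt N6430 F60314) (tt N9427 (iv F76856)) (tt N6397 F60315) (tt N9428 (iv F76862)) (tt N6404 F60316) (tt N6396 (iv D13202)) (tt N6407 F60317) (tt N9425 (iv F76843)))
theorem Q7802 : ∀ i, i < 7802 → P i := stepQ 7801 Q7801 (allL N7801 (tt N7801 F60318) (tt N9220 F133910) (tt N6398 (iv D13203)) (tt N6431 F60319) (tt N7801 F60320) (tt N9303 (iv F76064)) (tt N9430 D17017) (tt N6558 F133911) (tt N6491 F60321) (tt N6401 F60322))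
theorem Q7803 : ∀ i, i < 7803 → P i := stepQ 7802 Q7802 (allL N7802 (tt N7802 F60323) (tt N9045 (iv F134485)) (tt N9430 (iv F76871)) (tt N6399 F60324) (tt N7802 F60325) (tt N9431 D17018) (tt N6398 (iv D13204)) (tt N9432 D17019) (tt N6492 F60326) (tt N6402 F60327))
theorem Q7804 : ∀ i, i < 7804 → P i := stepQ 7803 Q7803 (allL N7803 (tt N7803 F60328) (tt N9409 (iv F76635)) (tt N6433 F60329) (tt N9431 (iv F76877)) (tt N9269 (iv F75901)) (tt N6399 (iv D13205)) (tt N9305 (iv F76076)) (tt N9433 D17020) (tt N9434 D17021) (tt N6403 F60330))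
theorem Q7805 : ∀ i, i < 7805 → P i := stepQ 7804 Q7804 (allL N7804 (tt N7804 F60331) (tt N9410 (iv F76637)) (tt N6434 F60332) (tt N9432 (iv F76880)) (tt N6400 F60333) (tt N9433 (iv F76886)) (tt N9425 (iv F76841)) (tt N6399 (iv D13206)) (tt N6494 F60334) (tt N6404 F60335))
theorem Q7806 : ∀ i, i < 7806 → P i := stepQ 7805 Q7805 (allL N7805 (tt N7805 F60339) (tt N9219 F133909) (tt N6402 F60340) (tt N6435 F60341) (tt N7805 F60342) (tt N9429 (iv F134515)) (tt N6401 (iv D13208)) (tt N9435 D17025) (tt N6406 F133912) (tt N9430 (iv F76875)))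
theorem Q7807 : ∀ i, i < 7807 → P i := stepQ 7806 Q7806 (allL N7806 (tt N7806 F60344) (tt N9027 (iv F134483)) (tt N9429 (iv F134513)) (tt N6403 F60345) (tt N9436 D17026) (tt N6402 (iv D13209)) (tt N9416 (iv F76787)) (tt N9437 D17027) (tt N6429 (iv F134507)) (tt N9431 (iv F76878)))
theorem Q7808 : ∀ i, i < 7808 → P i := stepQ 7807 Q7807 (allL N7807 (tt N7807 F60346) (tt N9044 (iv F134481)) (tt N9435 (iv F76903)) (tt N6404 F60347) (tt N7807 F60348) (tt N9437 (iv F76911)) (tt N9427 (iv F76858)) (tt N6402 (iv D13210)) (tt N6408 F60349) (tt N9432 (iv F76883)))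
theorem Q7809 : ∀ i, i < 7809 → P i := stepQ 7808 Q7808 (allL N7808 (tt N7808 F60350) (tt N9411 (iv F76653)) (tt N6438 F60351) (tt N9437 (iv F76910)) (tt N9275 (iv F75926)) (tt N6404 F60352) (tt N9438 D17029) (tt N6403 (iv D13211)) (tt N9439 D17030) (tt N9433 (iv F76887)))
theorem Q7810 : ∀ i, i < 7810 → P i := stepQ 7809 Q7809 (allL N7809 (tt N7809 F60353) (tt N9024 (iv F134489)) (tt N6439 F60354) (tt N6429 (iv F134506)) (tt N9276 (iv F75930)) (tt N6410 F60355) (tt N9419 (iv F76797)) (tt N9439 (iv F76920)) (tt N6403 (iv D13212)) (tt N9440 D17031))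
theorem Q7811 : ∀ i, i < 7811 → P i := stepQ 7810 Q7810 (allL N7810 (tt N7810 F60370) (tt N9043 F133913) (tt N6441 F133918) (tt N6407 F60371) (tt N7810 F60372) (tt N6440 F133919) (tt N6408 F60373) (tt N6405 (iv D13216)) (tt N9427 (iv F76859)) (tt N6500 F60374))
theorem Q7812 : ∀ i, i < 7812 → P i := stepQ 7811 Q7811 (allL N7811 (tt N7811 F60375) (tt N9049 F133914) (tt N6408 F133920) (tt N6440 F133921) (tt N7811 F60377) (tt N6407 F60378) (tt N6441 F133915) (tt N6406 (iv D13217)) (tt N9435 (iv F134523)) (tt N6501 F60379))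
theorem Q7813 : ∀ i, i < 7813 → P i := stepQ 7812 Q7812 (allL N7812 (tt N7812 F60420) (tt N9025 (iv F134487)) (tt N6443 F60421) (tt N6430 (iv F134508)) (tt N6411 F60422) (tt N9439 (iv F76919)) (tt N6437 (iv F134525)) (tt N6410 F60423) (tt N6409 (iv D13227)) (tt N9441 D17054))
theorem Q7814 : ∀ i, i < 7814 → P i := stepQ 7813 Q7813 (allL N7813 (tt N7813 F60424) (tt N8048 (iv F134492)) (tt N6444 F60425) (tt N6427 (iv F134509)) (tt N6412 F60426) (tt N9440 (iv F76923)) (tt N6426 F133929) (tt N9441 (iv F77028)) (tt N6503 F60428) (tt N6410 (iv D13228)))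
theorem Q7815 : ∀ i, i < 7815 → P i := stepQ 7814 Q7814 (allL N7814 (tt N7814 F60457) (tt N8061 (iv F134561)) (tt N6446 F60458) (tt N6455 (iv F134566)) (tt N9441 (iv F77027)) (tt N9296 (iv F76037)) (tt N6459 (iv F134545)) (tt N6412 F60459) (tt N6504 F60460) (tt N6411 (iv D13235)))
theorem Q7816 : ∀ i, i < 7816 → P i := stepQ 7815 Q7815 (allL N7815 (tt N7815 F60466) (tt N9007 (iv F72848)) (tt N6554 (iv F134530)) (tt N6414 F60467) (tt N7815 F60468) (tt N9419 (iv F134531)) (tt N6413 (iv D13237)) (tt N9442 D17066) (tt N6543 F133927) (tt N9420 (iv F76809)))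
theorem Q7817 : ∀ i, i < 7817 → P i := stepQ 7816 Q7816 (allL N7816 (tt N7816 F60470) (tt N9008 (iv F72852)) (tt N9413 (iv F76768)) (tt N9419 F135194) (tt N9424 (iv F76835)) (tt N6414 (iv D13238)) (tt N6429 F60471) (tt N9443 D17067) (tt N9416 F135195) (tt N9421 (iv F76814)))
theorem Q7818 : ∀ i, i < 7818 → P i := stepQ 7817 Q7817 (allL N7817 (tt N7817 F60472) (tt N9009 (iv F72854)) (tt N9414 (iv F76773)) (tt N9442 (iv F77078)) (tt N6415 F60473) (tt N9443 (iv F77083)) (tt N6422 F60474) (tt N6414 (iv D13239)) (tt N6549 F60475) (tt N9422 (iv F76820)))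
theorem Q7819 : ∀ i, i < 7819 → P i := stepQ 7818 Q7818 (allL N7818 (tt N7818 F60476) (tt N9216 (iv F134528)) (tt N6416 (iv D13240)) (tt N9303 (iv F76062)) (tt N7818 F60477) (tt N6431 F60478) (tt N9444 D17070) (tt N6557 F133924) (tt N7818 F60479) (tt N6419 F60480))
theorem Q7820 : ∀ i, i < 7820 → P i := stepQ 7819 Q7819 (allL N7819 (tt N7819 F60481) (tt N9011 (iv F72862)) (tt N9444 (iv F77092)) (tt N6417 F60482) (tt N7819 F60483) (tt N9445 D17071) (tt N6416 (iv D13241)) (tt N9446 D17072) (tt N7819 F60484) (tt N6420 F60485))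
theorem Q7821 : ∀ i, i < 7821 → P i := stepQ 7820 Q7820 (allL N7820 (tt N7820 F60486) (tt N9012 (iv F72867)) (tt N9305 (iv F76074)) (tt N9445 (iv F77097)) (tt N9265 (iv F75878)) (tt N6417 (iv D13242)) (tt N6433 F60487) (tt N9447 D17073) (tt N9448 D17074) (tt N6421 F60488))
theorem Q7822 : ∀ i, i < 7822 → P i := stepQ 7821 Q7821 (allL N7821 (tt N7821 F60489) (tt N9013 (iv F72870)) (tt N9306 (iv F76079)) (tt N9446 (iv F77101)) (tt N6418 F60490) (tt N9447 (iv F77106)) (tt N9422 (iv F76818)) (tt N6417 (iv D13243)) (tt N7821 F60491) (tt N6422 F60492))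
theorem Q7823 : ∀ i, i < 7823 → P i := stepQ 7822 Q7822 (allL N7822 (tt N7822 F60496) (tt N9215 (iv F134356)) (tt N6420 F60497) (tt N9415 (iv F76783)) (tt N7822 F60498) (tt N9449 D17077) (tt N6419 (iv D13245)) (tt N9450 D17078) (tt N6550 F60499) (tt N9444 (iv F77095)))
theorem Q7824 : ∀ i, i < 7824 → P i := stepQ 7823 Q7823 (allL N7823 (tt N7823 F60500) (tt N9016 (iv F72881)) (tt N9449 (iv F77119)) (tt N6421 F60501) (tt N9451 D17079) (tt N6420 (iv D13246)) (tt N6436 F60502) (tt N9452 D17080) (tt N9453 D17081) (tt N9445 (iv F77099)))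
theorem Q7825 : ∀ i, i < 7825 → P i := stepQ 7824 Q7824 (allL N7824 (tt N7824 F60503) (tt N9017 (iv F72884)) (tt N9450 (iv F77122)) (tt N6422 F60504) (tt N7824 F60505) (tt N9452 (iv F77130)) (tt N9442 (iv F77080)) (tt N6420 (iv D13247)) (tt N6552 F60506) (tt N9446 (iv F77104)))
theorem Q7826 : ∀ i, i < 7826 → P i := stepQ 7825 Q7825 (allL N7825 (tt N7825 F60507) (tt N9018 (iv F72888)) (tt N9418 (iv F76792)) (tt N9452 (iv F77129)) (tt N9301 (iv F76055)) (tt N6422 F60508) (tt N9454 D17082) (tt N6421 (iv D13248)) (tt N9455 D17083) (tt N9447 (iv F77107)))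
theorem Q7827 : ∀ i, i < 7827 → P i := stepQ 7826 Q7826 (allL N7826 (tt N7826 F60509) (tt N9019 (iv F72890)) (tt N9419 (iv F76795)) (tt N9453 (iv F77132)) (tt N9302 (iv F76058)) (tt N6554 F60510) (tt N6439 F60511) (tt N9455 (iv F77139)) (tt N6421 (iv D13249)) (tt N9456 D17084))
theorem Q7828 : ∀ i, i < 7828 → P i := stepQ 7827 Q7827 (allL N7827 (tt N7827 F60512) (tt N9214 F134047) (tt N6423 (iv D13250)) (tt N6557 F134048) (tt N6450 F60513) (tt N6558 F134049) (tt N9457 D17086) (tt N9303 (iv F76065)) (tt N7827 F60514) (tt N6556 F134050))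
theorem Q7829 : ∀ i, i < 7829 → P i := stepQ 7828 Q7828 (allL N7828 (tt N7828 F60515) (tt N9021 (iv F72895)) (tt N9457 (iv F77146)) (tt N6424 F60516) (tt N6451 F60517) (tt N9458 D17087) (tt N6423 (iv D13251)) (tt N9459 D17088) (tt N7828 F60518) (tt N9412 (iv F76766)))
theorem Q7830 : ∀ i, i < 7830 → P i := stepQ 7829 Q7829 (allL N7829 (tt N7829 F60519) (tt N9022 (iv F72899)) (tt N9421 (iv F76811)) (tt N9458 (iv F77150)) (tt N6429 F60520) (tt N6424 (iv D13252)) (tt N9424 (iv F76836)) (tt N9460 D17089) (tt N9436 F135203) (tt N9413 (iv F76771)))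
theorem Q7831 : ∀ i, i < 7831 → P i := stepQ 7830 Q7830 (allL N7830 (tt N7830 F60521) (tt N9023 (iv F72901)) (tt N9422 (iv F76816)) (tt N9459 (iv F77152)) (tt N6425 F60522) (tt N9460 (iv F77157)) (tt N9306 (iv F76081)) (tt N6424 (iv D13253)) (tt N7830 F60523) (tt N9414 (iv F76777)))
theorem Q7832 : ∀ i, i < 7832 → P i := stepQ 7831 Q7831 (allL N7831 (tt N7831 F60534) (tt N8049 (iv F67028)) (tt N9424 (iv F76834)) (tt N9440 F135199) (tt N9413 (iv F76769)) (tt N6427 (iv D13256)) (tt N9421 (iv F76813)) (tt N9461 D17095) (tt N9462 D17096) (tt N6429 F60535))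
theorem Q7833 : ∀ i, i < 7833 → P i := stepQ 7832 Q7832 (allL N7832 (tt N7832 F60536) (tt N8050 (iv F67031)) (tt N9425 (iv F76839)) (tt N9441 F135210) (tt N6428 F60537) (tt N9461 (iv F77180)) (tt N6434 F60538) (tt N6427 (iv D13257)) (tt N6506 F60539) (tt N6430 F60540))
theorem Q7834 : ∀ i, i < 7834 → P i := stepQ 7833 Q7833 (allL N7833 (tt N7833 F60555) (tt N9026 (iv F72918)) (tt N9428 (iv F76861)) (tt N9439 F135208) (tt N9460 (iv F77156)) (tt N6430 F60556) (tt N9463 D17104) (tt N6429 (iv D13262)) (tt N9437 F135209) (tt N9461 (iv F77181)))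
theorem Q7835 : ∀ i, i < 7835 → P i := stepQ 7834 Q7834 (allL N7834 (tt N7834 F60562) (tt N9222 (iv F134537)) (tt N6432 F60563) (tt N9430 (iv F76872)) (tt N6457 F60564) (tt N9464 D17109) (tt N6431 (iv D13265)) (tt N9465 D17110) (tt N6508 F60565) (tt N6435 F60566))
theorem Q7836 : ∀ i, i < 7836 → P i := stepQ 7835 Q7835 (allL N7835 (tt N7835 F60567) (tt N9030 (iv F72930)) (tt N9464 (iv F77222)) (tt N6433 F60568) (tt N9466 D17111) (tt N6432 (iv D13266)) (tt N9445 (iv F77098)) (tt N9467 D17112) (tt N9468 D17113) (tt N6436 F60569))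
theorem Q7837 : ∀ i, i < 7837 → P i := stepQ 7836 Q7836 (allL N7836 (tt N7836 F60570) (tt N9031 (iv F72933)) (tt N9465 (iv F77225)) (tt N6434 F60571) (tt N6459 F60572) (tt N9467 (iv F77234)) (tt N9441 F135238) (tt N6432 (iv D13267)) (tt N6510 F60573) (tt N6437 F60574))
theorem Q7838 : ∀ i, i < 7838 → P i := stepQ 7837 Q7837 (allL N7837 (tt N7837 F60575) (tt N9032 (iv F72938)) (tt N9433 (iv F76885)) (tt N9467 (iv F77233)) (tt N9317 (iv F76119)) (tt N6434 F60576) (tt N9469 D17114) (tt N6433 (iv D13268)) (tt N9470 D17115) (tt N6438 F60577))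
theorem Q7839 : ∀ i, i < 7839 → P i := stepQ 7838 Q7838 (allL N7838 (tt N7838 F60578) (tt N9033 (iv F72941)) (tt N9434 (iv F76889)) (tt N9468 (iv F77237)) (tt N9318 (iv F76123)) (tt N6512 F60579) (tt N9448 (iv F77110)) (tt N9470 (iv F77243)) (tt N6433 (iv D13269)) (tt N9471 D17116))
theorem Q7840 : ∀ i, i < 7840 → P i := stepQ 7839 Q7839 (allL N7839 (tt N7839 F60586) (tt N9221 (iv F134534)) (tt N6436 F60587) (tt N9429 (iv F134514)) (tt N9472 D17120) (tt N6435 (iv D13272)) (tt N9449 (iv F77120)) (tt N9473 D17121) (tt N9426 (iv F134511)) (tt N9464 (iv F77223)))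
theorem Q7841 : ∀ i, i < 7841 → P i := stepQ 7840 Q7840 (allL N7840 (tt N7840 F60588) (tt N9052 (iv F134536)) (tt N6437 F60589) (tt N9435 (iv F76904)) (tt N6445 F133934) (tt N9473 (iv F77260)) (tt N6443 (iv F134524)) (tt N6435 (iv D13273)) (tt N6440 F60591) (tt N9465 (iv F77228)))
theorem Q7842 : ∀ i, i < 7842 → P i := stepQ 7841 Q7841 (allL N7841 (tt N7841 F60592) (tt N9037 (iv F72954)) (tt N9472 (iv F77256)) (tt N9323 (iv F76138)) (tt N6436 (iv D13274)) (tt N6463 F60593) (tt N9451 (iv F77127)) (tt N9474 D17123) (tt N9475 D17124) (tt N9466 (iv F77231)))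
theorem Q7843 : ∀ i, i < 7843 → P i := stepQ 7842 Q7842 (allL N7842 (tt N7842 F60594) (tt N9038 (iv F72956)) (tt N9473 (iv F77259)) (tt N6438 F60595) (tt N9474 (iv F77265)) (tt N6437 F60596) (tt N9476 D17125) (tt N6436 (iv D13275)) (tt N9477 D17126) (tt N9467 (iv F77235)))
theorem Q7844 : ∀ i, i < 7844 → P i := stepQ 7843 Q7843 (allL N7843 (tt N7843 F60597) (tt N9039 (iv F72959)) (tt N9426 (iv F134510)) (tt N6439 F60598) (tt N9475 (iv F77268)) (tt N6442 F60599) (tt N9453 (iv F77134)) (tt N9477 (iv F77275)) (tt N6436 (iv D13276)) (tt N9478 D17127))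
theorem Q7845 : ∀ i, i < 7845 → P i := stepQ 7844 Q7844 (allL N7844 (tt N7844 F60600) (tt N9040 (iv F72962)) (tt N9438 (iv F76916)) (tt N9476 (iv F77271)) (tt N9326 (iv F76147)) (tt N9463 (iv F77207)) (tt N6438 (iv D13277)) (tt N9454 (iv F77136)) (tt N9479 D17128) (tt N9469 (iv F77240)))
theorem Q7846 : ∀ i, i < 7846 → P i := stepQ 7845 Q7845 (allL N7845 (tt N7845 F60601) (tt N9041 (iv F72963)) (tt N9439 (iv F76918)) (tt N9477 (iv F77273)) (tt N9327 (iv F76149)) (tt N6443 F60602) (tt N9479 (iv F77280)) (tt N6439 F60603) (tt N6438 (iv D13278)) (tt N9480 D17129))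
theorem Q7847 : ∀ i, i < 7847 → P i := stepQ 7846 Q7846 (allL N7846 (tt N7846 F60604) (tt N9042 (iv F72966)) (tt N9440 (iv F76922)) (tt N9478 (iv F77277)) (tt N9328 (iv F76153)) (tt N6444 F60605) (tt N9456 (iv F77142)) (tt N9480 (iv F77283)) (tt N9471 (iv F77246)) (tt N6439 (iv D13279)))
theorem Q7848 : ∀ i, i < 7848 → P i := stepQ 7847 Q7847 (allL N7847 (tt N7847 F60672) (tt N9050 (iv F73033)) (tt N9427 (iv F134512)) (tt N6443 F60673) (tt N7847 F60674) (tt N9477 (iv F77274)) (tt N9435 (iv F134518)) (tt N6442 F60675) (tt N6441 (iv D13296)) (tt N9481 D17151))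
theorem Q7849 : ∀ i, i < 7849 → P i := stepQ 7848 Q7848 (allL N7848 (tt N7848 F60676) (tt N9051 (iv F73037)) (tt N9423 F133938) (tt N6444 F60677) (tt N7848 F60678) (tt N9478 (iv F77278)) (tt N6558 F60679) (tt N9481 (iv F77374)) (tt N6522 F60680) (tt N6442 (iv D13297)))
theorem Q7850 : ∀ i, i < 7850 → P i := stepQ 7849 Q7849 (allL N7849 (tt N7849 F60685) (tt N9053 (iv F73046)) (tt N9441 (iv F77026)) (tt N9481 (iv F77372)) (tt N6446 F60686) (tt N9480 (iv F77282)) (tt N9465 (iv F134540)) (tt N6444 F60687) (tt N6523 F60688) (tt N6443 (iv D13299)))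
theorem Q7851 : ∀ i, i < 7851 → P i := stepQ 7850 Q7850 (allL N7850 (tt N7850 F60689) (tt N9054 (iv F73050)) (tt N6464 (iv F134543)) (tt N7850 F60690) (tt N9482 D17154) (tt N6445 (iv D13300)) (tt N9349 (iv F76248)) (tt N6462 F133941) (tt N7850 F60692) (tt N9483 D17155))
theorem Q7852 : ∀ i, i < 7852 → P i := stepQ 7851 Q7851 (allL N7851 (tt N7851 F60693) (tt N9055 (iv F73054)) (tt N6459 (iv F134544)) (tt N7851 F60694) (tt N9465 (iv F134539)) (tt N9483 (iv F77388)) (tt N6446 F60695) (tt N6457 F133942) (tt N6525 F60697) (tt N6445 (iv D13301)))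
theorem Q7853 : ∀ i, i < 7853 → P i := stepQ 7852 Q7852 (allL N7852 (tt N7852 F60698) (tt N9212 F134044) (tt N6447 (iv D13302)) (tt N7852 F60699) (tt N6556 F134045) (tt N7852 F60700) (tt N9484 D17157) (tt N9351 (iv F76260)) (tt N6555 F134046) (tt N6450 F60701))
theorem Q7854 : ∀ i, i < 7854 → P i := stepQ 7853 Q7853 (allL N7853 (tt N7853 F60702) (tt N8004 (iv F66765)) (tt N9484 (iv F77394)) (tt N6448 F60703) (tt N9412 (iv F76764)) (tt N9485 D17158) (tt N6447 (iv D13303)) (tt N9486 D17159) (tt N7949 (iv F66419)) (tt N6451 F60704))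
theorem Q7855 : ∀ i, i < 7855 → P i := stepQ 7854 Q7854 (allL N7854 (tt N7854 F60705) (tt N8005 (iv F66770)) (tt N7854 F60706) (tt N9485 (iv F77398)) (tt N6454 F60707) (tt N6448 (iv D13304)) (tt N7854 F60708) (tt N9487 D17160) (tt N7854 F60709) (tt N6452 F60710))
theorem Q7856 : ∀ i, i < 7856 → P i := stepQ 7855 Q7855 (allL N7855 (tt N7855 F60711) (tt N8006 (iv F66777)) (tt N7855 F60712) (tt N9486 (iv F77403)) (tt N6449 F60713) (tt N9487 (iv F77408)) (tt N9354 (iv F76276)) (tt N6448 (iv D13305)) (tt N7950 (iv F66427)) (tt N6453 F60714))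
theorem Q7857 : ∀ i, i < 7857 → P i := stepQ 7856 Q7856 (allL N7856 (tt N9488 D17161) (tt N6450 (iv D13306)) (tt N9056 (iv F73059)) (tt N7856 F60715) (tt N9214 F134367) (tt N7856 F60716) (tt N9489 D17162) (tt N9355 (iv F76281)) (tt N7856 F60717) (tt N9212 F134368))
theorem Q7858 : ∀ i, i < 7858 → P i := stepQ 7857 Q7857 (allL N7857 (tt N7857 F60718) (tt N9489 (iv F77415)) (tt N6451 F60719) (tt N7857 F60720) (tt N9457 (iv F77147)) (tt N9490 D17163) (tt N6450 (iv D13307)) (tt N9491 D17164) (tt N7857 F60721) (tt N9484 (iv F77396)))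
theorem Q7859 : ∀ i, i < 7859 → P i := stepQ 7858 Q7858 (allL N7858 (tt N7858 F60722) (tt N9058 (iv F73064)) (tt N9490 (iv F77419)) (tt N6452 F60723) (tt N9289 F135282) (tt N6451 (iv D13308)) (tt N7858 F60724) (tt N9492 D17166) (tt N9287 F135283) (tt N9485 (iv F77401)))
theorem Q7860 : ∀ i, i < 7860 → P i := stepQ 7859 Q7859 (allL N7859 (tt N7859 F60725) (tt N9059 (iv F73067)) (tt N9491 (iv F77423)) (tt N6453 F60726) (tt N9459 (iv F77153)) (tt N9492 (iv F77431)) (tt N9358 (iv F76292)) (tt N6451 (iv D13309)) (tt N7859 F60727) (tt N9486 (iv F77404)))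
theorem Q7861 : ∀ i, i < 7861 → P i := stepQ 7860 Q7860 (allL N7860 (tt N7860 F60728) (tt N9060 (iv F73070)) (tt N7860 F60729) (tt N9492 (iv F77430)) (tt N6456 F60730) (tt N6453 F60731) (tt N9493 D17168) (tt N6452 (iv D13310)) (tt N9293 F135284) (tt N9487 (iv F77410)))
theorem Q7862 : ∀ i, i < 7862 → P i := stepQ 7861 Q7861 (allL N7861 (tt N7861 F60758) (tt N8062 (iv F67102)) (tt N7861 F60759) (tt N9296 F135287) (tt N9487 (iv F77407)) (tt N6455 F60760) (tt N9494 D17176) (tt N6454 (iv D13316)) (tt N7861 F60761) (tt N6456 F60762))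
theorem Q7863 : ∀ i, i < 7863 → P i := stepQ 7862 Q7862 (allL N7862 (tt N7862 F60790) (tt N9064 (iv F73100)) (tt N7862 F60791) (tt N9295 F135285) (tt N9493 (iv F77439)) (tt N6465 F60792) (tt N6456 (iv D13324)) (tt N7862 F60793) (tt N9294 F135286) (tt N9494 (iv F77483)))
theorem Q7864 : ∀ i, i < 7864 → P i := stepQ 7863 Q7863 (allL N7863 (tt N7863 F60808) (tt N9224 (iv F134550)) (tt N6458 F60809) (tt N7863 F60810) (tt N9335 (iv F76188)) (tt N6457 (iv D13328)) (tt N7863 F60811) (tt N9483 (iv F134547)) (tt N9333 F76180) (tt N6462 F60812))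
theorem Q7865 : ∀ i, i < 7865 → P i := stepQ 7864 Q7864 (allL N7864 (tt N7864 F60818) (tt N9069 (iv F73121)) (tt N9335 (iv F76186)) (tt N9381 (iv F76396)) (tt N6458 (iv D13330)) (tt N9466 (iv F77230)) (tt N7864 F60819) (tt N9495 D17192) (tt N9331 F76168) (tt N6463 F60820))
theorem Q7866 : ∀ i, i < 7866 → P i := stepQ 7865 Q7865 (allL N7865 (tt N7865 F60821) (tt N9070 (iv F73124)) (tt N9483 F135261) (tt N6460 F60822) (tt N9495 (iv F77548)) (tt N6459 F60823) (tt N9496 D17193) (tt N6458 (iv D13331)) (tt N9497 D17194) (tt N6464 F60824))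
theorem Q7867 : ∀ i, i < 7867 → P i := stepQ 7866 Q7866 (allL N7866 (tt N7866 F60825) (tt N9071 (iv F73128)) (tt N9333 (iv F76175)) (tt N6461 F60826) (tt N9331 (iv F76165)) (tt N6529 F60827) (tt N7866 F60828) (tt N9497 (iv F77557)) (tt N6458 (iv D13332)) (tt N7866 F60829))
theorem Q7868 : ∀ i, i < 7868 → P i := stepQ 7867 Q7867 (allL N7867 (tt N7867 F60830) (tt N9072 (iv F73133)) (tt N7867 F60831) (tt N9496 (iv F77551)) (tt N9384 (iv F76410)) (tt N9494 (iv F77480)) (tt N6460 (iv D13333)) (tt N7867 F60832) (tt N9498 D17195) (tt N6465 F60833))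
theorem Q7869 : ∀ i, i < 7869 → P i := stepQ 7868 Q7868 (allL N7868 (tt N7868 F60834) (tt N9073 (iv F73136)) (tt N7868 F60835) (tt N9497 (iv F77555)) (tt N9385 (iv F76415)) (tt N6530 F60836) (tt N9498 (iv F77562)) (tt N6461 F60837) (tt N6460 (iv D13334)) (tt N7868 F60838))
theorem Q7870 : ∀ i, i < 7870 → P i := stepQ 7869 Q7869 (allL N7869 (tt N7869 F60850) (tt N9223 (iv F134548)) (tt N6463 F60851) (tt N9338 (iv F76200)) (tt N6462 (iv D13338)) (tt N9472 (iv F77257)) (tt N7869 F60852) (tt N9482 (iv F134546)) (tt N7869 F60853) (tt N9335 F76190))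
theorem Q7871 : ∀ i, i < 7871 → P i := stepQ 7870 Q7870 (allL N7870 (tt N7870 F60859) (tt N9077 (iv F73156)) (tt N9482 F135258) (tt N9391 (iv F76440)) (tt N6464 F60860) (tt N9474 (iv F77266)) (tt N9499 D17202) (tt N6463 (iv D13340)) (tt N7870 F60861) (tt N9495 (iv F77549)))
theorem Q7872 : ∀ i, i < 7872 → P i := stepQ 7871 Q7871 (allL N7871 (tt N7871 F60862) (tt N9078 (iv F73159)) (tt N9349 F135259) (tt N6465 F60863) (tt N9499 (iv F77591)) (tt N9295 F135260) (tt N6464 (iv D13341)) (tt N7871 F60864) (tt N7871 F60865) (tt N9496 (iv F77553)))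
theorem Q7873 : ∀ i, i < 7873 → P i := stepQ 7872 Q7872 (allL N7872 (tt N6476 F60944) (tt N7872 F60945) (tt N8016 (iv F66855)) (tt N8582 (iv F133540)) (tt N6466 (iv D13358)) (tt N7872 F60946) (tt N9500 D17222) (tt N6469 F60947) (tt N8275 (iv F68207)) (tt N6467 F60948))
theorem Q7874 : ∀ i, i < 7874 → P i := stepQ 7873 Q7873 (allL N7873 (tt N6477 F60949) (tt N7873 F60950) (tt N8017 (iv F66861)) (tt N7873 F60951) (tt N9500 (iv F77691)) (tt N7952 (iv F66447)) (tt N6466 (iv D13359)) (tt N9501 D17223) (tt N8276 (iv F68213)) (tt N6468 F60952))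
theorem Q7875 : ∀ i, i < 7875 → P i := stepQ 7874 Q7874 (allL N7874 (tt N6478 F60959) (tt N7874 F60960) (tt N8065 (iv F67132)) (tt N8581 (iv F133539)) (tt N6468 F60961) (tt N9502 D17226) (tt N6467 (iv D13361)) (tt N9503 D17227) (tt N6473 F60962) (tt N9500 (iv F77692)))
theorem Q7876 : ∀ i, i < 7876 → P i := stepQ 7875 Q7875 (allL N7875 (tt N6479 F60963) (tt N7875 F60964) (tt N8066 (iv F67137)) (tt N7875 F60965) (tt N9503 (iv F77713)) (tt N7963 (iv F66511)) (tt N6472 F60966) (tt N6468 (iv D13362)) (tt N6474 F60967) (tt N9501 (iv F77697)))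
theorem Q7877 : ∀ i, i < 7877 → P i := stepQ 7876 Q7876 (allL N7876 (tt N6480 F60973) (tt N7876 F60974) (tt N9080 (iv F73235)) (tt N8427 (iv F134568)) (tt N6470 F60975) (tt N8768 (iv F134572)) (tt N6469 (iv D13364)) (tt N9504 D17231) (tt N9400 (iv F76497)) (tt N6471 F60976))
theorem Q7878 : ∀ i, i < 7878 → P i := stepQ 7877 Q7877 (allL N7877 (tt N6481 F60977) (tt N7877 F60978) (tt N9081 (iv F73239)) (tt N7877 F60979) (tt N9504 (iv F77732)) (tt N7877 F60980) (tt N9501 (iv F77696)) (tt N6470 (iv D13365)) (tt N9401 (iv F76502)) (tt N6472 F60981))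
theorem Q7879 : ∀ i, i < 7879 → P i := stepQ 7878 Q7878 (allL N7878 (tt N6483 F60995) (tt N7878 F60996) (tt N9083 (iv F73254)) (tt N8426 (iv F134567)) (tt N6472 F60997) (tt N8767 (iv F134570)) (tt N9503 (iv F77714)) (tt N6471 (iv D13369)) (tt N6475 F60998) (tt N9504 (iv F77733)))
theorem Q7880 : ∀ i, i < 7880 → P i := stepQ 7879 Q7879 (allL N7879 (tt N6484 F61011) (tt N7879 F61012) (tt N9085 (iv F73268)) (tt N8425 (iv F133538)) (tt N6474 F61013) (tt N8432 F132960) (tt N6475 F61014) (tt N6473 (iv D13373)) (tt N9503 (iv F77715)) (tt N9404 (iv F76537)))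
theorem Q7881 : ∀ i, i < 7881 → P i := stepQ 7880 Q7880 (allL N7880 (tt N9500 (iv F77689)) (tt N6486 F61080) (tt N8024 (iv F66898)) (tt N9229 (iv F133544)) (tt N6477 F61081) (tt N9505 D17268) (tt N6476 (iv D13390)) (tt N9506 D17269) (tt N9004 (iv F72836)) (tt N6478 F61082))
theorem Q7882 : ∀ i, i < 7882 → P i := stepQ 7881 Q7881 (allL N7881 (tt N9501 (iv F77693)) (tt N6487 F61083) (tt N8025 (iv F66902)) (tt N7881 F61084) (tt N9506 (iv F77886)) (tt N7955 (iv F66464)) (tt N6481 F61085) (tt N6477 (iv D13391)) (tt N9005 (iv F72842)) (tt N6479 F61086))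
theorem Q7883 : ∀ i, i < 7883 → P i := stepQ 7882 Q7882 (allL N7882 (tt N9502 (iv F77708)) (tt N6489 F61095) (tt N8072 (iv F67170)) (tt N9228 (iv F133542)) (tt N7966 (iv F66526)) (tt N6478 (iv D13394)) (tt N7882 F61096) (tt N9507 D17274) (tt N9230 (iv F133548)) (tt N9505 (iv F77884)))
theorem Q7884 : ∀ i, i < 7884 → P i := stepQ 7883 Q7883 (allL N7883 (tt N9503 (iv F77711)) (tt N6490 F61097) (tt N8073 (iv F67174)) (tt N9150 (iv F133429)) (tt N6479 F61098) (tt N9507 (iv F77906)) (tt N6483 F61099) (tt N6478 (iv D13395)) (tt N6484 F61100) (tt N9506 (iv F77888)))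
theorem Q7885 : ∀ i, i < 7885 → P i := stepQ 7884 Q7884 (allL N7884 (tt N8768 (iv F134571)) (tt N6493 F61108) (tt N9089 (iv F73330)) (tt N8095 (iv F134584)) (tt N7884 F61109) (tt N6480 (iv D13398)) (tt N7884 F61110) (tt N9508 D17280) (tt N9509 D17281) (tt N6482 F61111))
theorem Q7886 : ∀ i, i < 7886 → P i := stepQ 7885 Q7885 (allL N7885 (tt N9504 (iv F77730)) (tt N6494 F61112) (tt N9090 (iv F73335)) (tt N9151 (iv F134586)) (tt N6481 F61113) (tt N9508 (iv F77927)) (tt N9506 (iv F77887)) (tt N6480 (iv D13399)) (tt N9410 (iv F76639)) (tt N6483 F61114))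
theorem Q7887 : ∀ i, i < 7887 → P i := stepQ 7886 Q7886 (allL N7886 (tt N8767 (iv F134569)) (tt N6498 F61129) (tt N9095 (iv F73352)) (tt N8094 (iv F134582)) (tt N7886 F61130) (tt N6483 F61131) (tt N9510 D17289) (tt N6482 (iv D13404)) (tt N8092 (iv F134588)) (tt N9508 (iv F77928)))
theorem Q7888 : ∀ i, i < 7888 → P i := stepQ 7887 Q7887 (allL N7887 (tt N7887 F61225) (tt N9229 (iv F133543)) (tt N6522 (iv F133201)) (tt N6486 F61226) (tt N7887 F61227) (tt N9511 D17331) (tt N6485 (iv D13433)) (tt N9512 D17332) (tt N9423 (iv F76831)) (tt N6488 F61228))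
theorem Q7889 : ∀ i, i < 7889 → P i := stepQ 7888 Q7888 (allL N7888 (tt N7888 F61229) (tt N9505 (iv F77882)) (tt N6505 F61230) (tt N9511 (iv F78100)) (tt N7957 (iv F66476)) (tt N6486 (iv D13434)) (tt N7888 F61231) (tt N9513 D17333) (tt N9514 D17334) (tt N6489 F61232))
theorem Q7890 : ∀ i, i < 7890 → P i := stepQ 7889 Q7889 (allL N7889 (tt N7889 F61233) (tt N9506 (iv F77885)) (tt N6506 F61234) (tt N9512 (iv F78104)) (tt N6487 F61235) (tt N9513 (iv F78110)) (tt N6494 F61236) (tt N6486 (iv D13435)) (tt N9425 (iv F76842)) (tt N6490 F61237))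
theorem Q7891 : ∀ i, i < 7891 → P i := stepQ 7890 Q7890 (allL N7890 (tt N7890 F61248) (tt N9228 (iv F133541)) (tt N6517 (iv F133194)) (tt N6489 F61249) (tt N9515 D17339) (tt N6488 (iv D13438)) (tt N7890 F61250) (tt N9516 D17340) (tt N6513 (iv F133186)) (tt N9511 (iv F78102)))
theorem Q7892 : ∀ i, i < 7892 → P i := stepQ 7891 Q7891 (allL N7891 (tt N7891 F61251) (tt N9150 (iv F133428)) (tt N6521 (iv F133196)) (tt N6490 F61252) (tt N7891 F61253) (tt N9516 (iv F78140)) (tt N6497 F61254) (tt N6488 (iv D13439)) (tt N6500 F61255) (tt N9512 (iv F78107)))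
theorem Q7893 : ∀ i, i < 7893 → P i := stepQ 7892 Q7892 (allL N7892 (tt N7892 F61256) (tt N9507 (iv F77905)) (tt N6507 F61257) (tt N9516 (iv F78139)) (tt N7970 (iv F66545)) (tt N6490 F61258) (tt N9517 D17342) (tt N6489 (iv D13440)) (tt N9518 D17343) (tt N9513 (iv F78111)))
theorem Q7894 : ∀ i, i < 7894 → P i := stepQ 7893 Q7893 (allL N7893 (tt N7893 F61259) (tt N9230 (iv F133547)) (tt N6496 F133982) (tt N6513 F133983) (tt N7971 (iv F66549)) (tt N6495 F133984) (tt N7893 F61262) (tt N9518 (iv F78152)) (tt N6489 (iv D13441)) (tt N9519 D17344))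
theorem Q7895 : ∀ i, i < 7895 → P i := stepQ 7894 Q7894 (allL N7894 (tt N7894 F61267) (tt N9231 F133981) (tt N6492 F61268) (tt N6508 F61269) (tt N7894 F61270) (tt N9519 (iv F134600)) (tt N6491 (iv D13443)) (tt N9520 D17348) (tt N9430 (iv F76874)) (tt N6495 F61271))
theorem Q7896 : ∀ i, i < 7896 → P i := stepQ 7895 Q7895 (allL N7895 (tt N7895 F61272) (tt N8095 (iv F134583)) (tt N9519 (iv F134598)) (tt N6493 F61273) (tt N7974 (iv F134602)) (tt N6492 (iv D13444)) (tt N7895 F61274) (tt N9521 D17350) (tt N9522 D17351) (tt N6496 F61275))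
theorem Q7897 : ∀ i, i < 7897 → P i := stepQ 7896 Q7896 (allL N7896 (tt N7896 F61276) (tt N9151 (iv F134585)) (tt N9520 (iv F78172)) (tt N6494 F61277) (tt N7896 F61278) (tt N9521 (iv F78183)) (tt N9512 (iv F78106)) (tt N6492 (iv D13445)) (tt N9432 (iv F76882)) (tt N6497 F61279))
theorem Q7898 : ∀ i, i < 7898 → P i := stepQ 7897 Q7897 (allL N7897 (tt N7897 F61280) (tt N9508 (iv F77925)) (tt N6511 F61281) (tt N9521 (iv F78182)) (tt N7897 F61282) (tt N6494 F61283) (tt N9523 D17352) (tt N6493 (iv D13446)) (tt N9524 D17353) (tt N6498 F61284))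
theorem Q7899 : ∀ i, i < 7899 → P i := stepQ 7898 Q7898 (allL N7898 (tt N7898 F61285) (tt N9509 (iv F77929)) (tt N6512 F61286) (tt N9522 (iv F78186)) (tt N7898 F61287) (tt N9434 (iv F76890)) (tt N7898 F61288) (tt N9524 (iv F78196)) (tt N6493 (iv D13447)) (tt N9525 D17354))
theorem Q7900 : ∀ i, i < 7900 → P i := stepQ 7899 Q7899 (allL N7899 (tt N7899 F61302) (tt N9155 F133979) (tt N6497 F61303) (tt N6514 F61304) (tt N7899 F61305) (tt N9518 (iv F134597)) (tt N6521 F133980) (tt N6495 (iv D13451)) (tt N6501 F133985) (tt N9520 (iv F78175)))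
theorem Q7901 : ∀ i, i < 7901 → P i := stepQ 7900 Q7900 (allL N7900 (tt N7900 F61311) (tt N8094 (iv F134581)) (tt N9518 (iv F134595)) (tt N6498 F61312) (tt N7973 (iv F134601)) (tt N6497 F61313) (tt N9526 D17363) (tt N6496 (iv D13453)) (tt N6507 (iv F134605)) (tt N9521 (iv F78184)))
theorem Q7902 : ∀ i, i < 7902 → P i := stepQ 7901 Q7901 (allL N7901 (tt N7901 F61318) (tt N9510 (iv F77956)) (tt N6518 F61319) (tt N9526 (iv F78236)) (tt N7901 F61320) (tt N9517 (iv F78147)) (tt N6498 (iv D13455)) (tt N7901 F61321) (tt N9527 D17366) (tt N9523 (iv F78192)))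
theorem Q7903 : ∀ i, i < 7903 → P i := stepQ 7902 Q7902 (allL N7902 (tt N7902 F61322) (tt N8092 (iv F134587)) (tt N6519 F61323) (tt N6507 (iv F134604)) (tt N7902 F61324) (tt N6502 F61325) (tt N9527 (iv F78249)) (tt N6499 F61326) (tt N6498 (iv D13456)) (tt N9528 D17367))
theorem Q7904 : ∀ i, i < 7904 → P i := stepQ 7903 Q7903 (allL N7903 (tt N7903 F61327) (tt N8052 (iv F134589)) (tt N6520 F61328) (tt N6505 (iv F134606)) (tt N7903 F61329) (tt N6503 F61330) (tt N7903 F61331) (tt N9528 (iv F78255)) (tt N9525 (iv F78201)) (tt N6499 (iv D13457)))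
theorem Q7905 : ∀ i, i < 7905 → P i := stepQ 7904 Q7904 (allL N7904 (tt N7904 F61417) (tt N8053 (iv F134592)) (tt N6523 F61418) (tt N6506 (iv F134607)) (tt N6504 F61419) (tt N9528 (iv F78254)) (tt N6510 (iv F134609)) (tt N6503 F61420) (tt N9441 (iv F77029)) (tt N6502 (iv D13480)))
theorem Q7906 : ∀ i, i < 7906 → P i := stepQ 7905 Q7905 (allL N7905 (tt N7905 F61474) (tt N8054 (iv F67058)) (tt N9513 (iv F78109)) (tt N9528 F135314) (tt N7959 (iv F66488)) (tt N6506 F61475) (tt N9529 D17415) (tt N6505 (iv D13493)) (tt N9530 D17416) (tt N6507 F61476))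
theorem Q7907 : ∀ i, i < 7907 → P i := stepQ 7906 Q7906 (allL N7906 (tt N7906 F61477) (tt N8055 (iv F67063)) (tt N9514 (iv F78113)) (tt N9525 F135315) (tt N7960 (iv F66494)) (tt N9462 (iv F77183)) (tt N7906 F61478) (tt N9530 (iv F78463)) (tt N6505 (iv D13494)) (tt N9522 F135316))
theorem Q7908 : ∀ i, i < 7908 → P i := stepQ 7907 Q7907 (allL N7907 (tt N7907 F61505) (tt N8093 (iv F67278)) (tt N9517 (iv F78146)) (tt N9527 F134633) (tt N7972 (iv F66555)) (tt N6518 F61506) (tt N6507 (iv D13501)) (tt N7907 F61507) (tt N9526 F134634) (tt N9529 (iv F78461)))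
theorem Q7909 : ∀ i, i < 7909 → P i := stepQ 7908 Q7908 (allL N7908 (tt N7908 F61521) (tt N9233 (iv F134615)) (tt N6509 F61522) (tt N9519 (iv F134599)) (tt N9373 (iv F76359)) (tt N6508 (iv D13506)) (tt N7908 F61523) (tt N9531 D17431) (tt N9371 F76352) (tt N6513 F61524))
theorem Q7910 : ∀ i, i < 7910 → P i := stepQ 7909 Q7909 (allL N7909 (tt N7909 F61525) (tt N9158 (iv F134618)) (tt N6510 F61526) (tt N9520 (iv F78173)) (tt N6525 F133996) (tt N9531 (iv F78520)) (tt N6523 F133997) (tt N6508 (iv D13507)) (tt N9465 (iv F77227)) (tt N6514 F61528))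
theorem Q7911 : ∀ i, i < 7911 → P i := stepQ 7910 Q7910 (allL N7910 (tt N7910 F61529) (tt N9134 (iv F73598)) (tt N9373 (iv F76357)) (tt N7910 F61530) (tt N6509 (iv D13508)) (tt N6527 F61531) (tt N7910 F61532) (tt N9532 D17432) (tt N9369 (iv F76342)) (tt N6515 F61533))
theorem Q7912 : ∀ i, i < 7912 → P i := stepQ 7911 Q7911 (allL N7911 (tt N7911 F61534) (tt N9135 (iv F73603)) (tt N9531 (iv F78519)) (tt N6511 F61535) (tt N9532 (iv F78524)) (tt N6510 F61536) (tt N9533 D17433) (tt N6509 (iv D13509)) (tt N9534 D17434) (tt N6516 F61537))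
theorem Q7913 : ∀ i, i < 7913 → P i := stepQ 7912 Q7912 (allL N7912 (tt N7912 F61538) (tt N9136 (iv F73607)) (tt N9371 (iv F76350)) (tt N6512 F61539) (tt N9369 F76343) (tt N9468 (iv F77238)) (tt N7912 F61540) (tt N9534 (iv F78533)) (tt N6509 (iv D13510)) (tt N9535 D17435))
theorem Q7914 : ∀ i, i < 7914 → P i := stepQ 7913 Q7913 (allL N7913 (tt N7913 F61541) (tt N9137 (iv F73610)) (tt N9523 (iv F78189)) (tt N9533 (iv F78528)) (tt N7913 F61542) (tt N9529 (iv F78459)) (tt N6511 (iv D13511)) (tt N7913 F61543) (tt N9536 D17436) (tt N6518 F61544))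
theorem Q7915 : ∀ i, i < 7915 → P i := stepQ 7914 Q7914 (allL N7914 (tt N7914 F61545) (tt N9138 (iv F73614)) (tt N9524 (iv F78194)) (tt N9534 (iv F78532)) (tt N7914 F61546) (tt N9470 (iv F77242)) (tt N9536 (iv F78540)) (tt N6512 F61547) (tt N6511 (iv D13512)) (tt N9537 D17437))
theorem Q7916 : ∀ i, i < 7916 → P i := stepQ 7915 Q7915 (allL N7915 (tt N7915 F61548) (tt N9139 (iv F73617)) (tt N9525 (iv F78198)) (tt N9535 (iv F78535)) (tt N7915 F61549) (tt N9471 (iv F77245)) (tt N7915 F61550) (tt N9537 (iv F78544)) (tt N6520 F61551) (tt N6512 (iv D13513)))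
theorem Q7917 : ∀ i, i < 7917 → P i := stepQ 7916 Q7916 (allL N7916 (tt N7916 F61561) (tt N9232 F134003) (tt N6515 F61562) (tt N9376 (iv F76373)) (tt N6513 (iv D13517)) (tt N6531 F61563) (tt N7916 F61564) (tt N9538 D17443) (tt N9515 F133998) (tt N9373 F76362))
theorem Q7918 : ∀ i, i < 7918 → P i := stepQ 7917 Q7917 (allL N7917 (tt N7917 F61565) (tt N9157 (iv F134623)) (tt N6516 F61566) (tt N9518 (iv F134596)) (tt N9538 (iv F78563)) (tt N6514 F61567) (tt N9539 D17445) (tt N6513 (iv D13518)) (tt N9516 F133999) (tt N9531 (iv F78521)))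
theorem Q7919 : ∀ i, i < 7919 → P i := stepQ 7918 Q7918 (allL N7918 (tt N7918 F61572) (tt N9143 (iv F73640)) (tt N9538 (iv F78562)) (tt N7918 F61573) (tt N6516 F61574) (tt N6532 F61575) (tt N9540 D17448) (tt N6515 (iv D13520)) (tt N9541 D17449) (tt N9532 (iv F78526)))
theorem Q7920 : ∀ i, i < 7920 → P i := stepQ 7919 Q7919 (allL N7919 (tt N7919 F61576) (tt N9144 (iv F73644)) (tt N9515 F134004) (tt N7919 F61577) (tt N6517 F61578) (tt N7919 F61579) (tt N7919 F61580) (tt N9541 (iv F78590)) (tt N6515 (iv D13521)) (tt N9542 D17450))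
theorem Q7921 : ∀ i, i < 7921 → P i := stepQ 7920 Q7920 (allL N7920 (tt N7920 F61581) (tt N9145 (iv F73649)) (tt N9539 (iv F78571)) (tt N6518 F61582) (tt N9540 (iv F78583)) (tt N9527 F134632) (tt N6516 (iv D13522)) (tt N7920 F61583) (tt N9543 D17451) (tt N9533 (iv F78530)))
theorem Q7922 : ∀ i, i < 7922 → P i := stepQ 7921 Q7921 (allL N7921 (tt N7921 F61584) (tt N9146 (iv F73652)) (tt N9516 F134005) (tt N6519 F61585) (tt N9541 (iv F78588)) (tt N6521 F61586) (tt N9543 (iv F78598)) (tt N6517 F61587) (tt N6516 (iv D13523)) (tt N9544 D17452))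
theorem Q7923 : ∀ i, i < 7923 → P i := stepQ 7922 Q7922 (allL N7922 (tt N7922 F61588) (tt N9147 (iv F73656)) (tt N9511 F134006) (tt N6520 F61589) (tt N9542 (iv F78593)) (tt N6522 F61590) (tt N7922 F61591) (tt N9544 (iv F78603)) (tt N9535 (iv F78537)) (tt N6517 (iv D13524)))
theorem Q7924 : ∀ i, i < 7924 → P i := stepQ 7923 Q7923 (allL N7923 (tt N7923 F61592) (tt N9148 (iv F73660)) (tt N9527 (iv F78247)) (tt N9543 (iv F78597)) (tt N7923 F61593) (tt N9539 (iv F134626)) (tt N6519 F61594) (tt N7923 F61595) (tt N6518 (iv D13525)) (tt N9545 D17454))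
theorem Q7925 : ∀ i, i < 7925 → P i := stepQ 7924 Q7924 (allL N7924 (tt N7924 F61596) (tt N9149 (iv F73664)) (tt N9528 (iv F78252)) (tt N9544 (iv F78601)) (tt N7924 F61597) (tt N6523 F61598) (tt N9545 (iv F78609)) (tt N6520 F61599) (tt N9537 (iv F78545)) (tt N6519 (iv D13526)))
theorem Q7926 : ∀ i, i < 7926 → P i := stepQ 7925 Q7925 (allL N7925 (tt N7925 F61674) (tt N9156 (iv F73740)) (tt N9512 F134007) (tt N6523 F61675) (tt N7925 F61676) (tt N9544 (iv F78602)) (tt N9520 (iv F134594)) (tt N6522 F61677) (tt N9481 (iv F77375)) (tt N6521 (iv D13548)))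
theorem Q7927 : ∀ i, i < 7927 → P i := stepQ 7926 Q7926 (allL N7926 (tt N7926 F61684) (tt N9159 (iv F73750)) (tt N6532 (iv F134635)) (tt N9398 (iv F134637)) (tt N6524 (iv D13551)) (tt N9538 (iv F134625)) (tt N7926 F61685) (tt N6531 F134013) (tt N7926 F61687) (tt N9397 (iv F134639)))
theorem Q7928 : ∀ i, i < 7928 → P i := stepQ 7927 Q7927 (allL N7927 (tt N7927 F61688) (tt N9160 (iv F73754)) (tt N6528 (iv F134636)) (tt N7927 F61689) (tt N9397 (iv F134638)) (tt N6525 F61690) (tt N7927 F61691) (tt N6526 F134014) (tt N9396 (iv F134640)) (tt N6524 (iv D13552)))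
theorem Q7929 : ∀ i, i < 7929 → P i := stepQ 7928 Q7928 (allL N7928 (tt N7928 F61735) (tt N9161 (iv F73779)) (tt N9397 (iv F76471)) (tt N7928 F61736) (tt N6528 F61737) (tt N9532 (iv F78525)) (tt N7928 F61738) (tt N6527 (iv D13562)) (tt N9395 (iv F76461)) (tt N6532 F61739))
theorem Q7930 : ∀ i, i < 7930 → P i := stepQ 7929 Q7929 (allL N7929 (tt N7929 F61740) (tt N9163 (iv F73790)) (tt N9396 (iv F76464)) (tt N6530 F61741) (tt N9395 (iv F76458)) (tt N9497 (iv F77556)) (tt N7929 F61742) (tt N6529 F61743) (tt N6528 (iv D13563)) (tt N7929 F61744))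
theorem Q7931 : ∀ i, i < 7931 → P i := stepQ 7930 Q7930 (allL N7930 (tt N8633 (iv F71293)) (tt N6544 F61924) (tt N9167 (iv F73978)) (tt N9201 (iv F134652)) (tt N6534 F61925) (tt N9200 (iv F134656)) (tt N7997 (iv F66729)) (tt N6533 (iv D13605)) (tt N9406 (iv F76614)) (tt N7930 F61926))
theorem Q7932 : ∀ i, i < 7932 → P i := stepQ 7931 Q7931 (allL N7931 (tt N7931 F62053) (tt N7977 F134041) (tt N6535 (iv D13642)) (tt N7931 F62054) (tt N6541 F62055) (tt N6545 F134042) (tt N7947 (iv F134659)) (tt N6555 F134040) (tt N9351 (iv F76261)) (tt N7931 F62057))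
theorem Q7933 : ∀ i, i < 7933 → P i := stepQ 7932 Q7932 (allL N7932 (tt N7932 F62058) (tt N8008 (iv F66789)) (tt N7947 (iv F134658)) (tt N6536 F62059) (tt N6542 F62060) (tt N6547 (iv F134667)) (tt N6535 (iv D13643)) (tt N9546 D17599) (tt N9352 (iv F76266)) (tt N7932 F62061))
theorem Q7934 : ∀ i, i < 7934 → P i := stepQ 7933 Q7933 (allL N7933 (tt N7933 F62062) (tt N8009 (iv F66794)) (tt N7933 F62063) (tt N6547 F135149) (tt N7933 F62064) (tt N6536 (iv D13644)) (tt N6546 F135150) (tt N9547 D17600) (tt N7956 F135151) (tt N7933 F62066))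
theorem Q7935 : ∀ i, i < 7935 → P i := stepQ 7934 Q7934 (allL N7934 (tt N7934 F62067) (tt N8010 (iv F66800)) (tt N7934 F62068) (tt N9546 (iv F79177)) (tt N6537 F62069) (tt N9547 (iv F79183)) (tt N7950 (iv F66426)) (tt N6536 (iv D13645)) (tt N9354 (iv F76277)) (tt N7934 F62070))
theorem Q7936 : ∀ i, i < 7936 → P i := stepQ 7935 Q7935 (allL N7935 (tt N7935 F62076) (tt N7995 (iv F66717)) (tt N6551 F134035) (tt N6539 F62077) (tt N7949 (iv F66417)) (tt N6550 F134036) (tt N6538 (iv D13647)) (tt N9548 D17605) (tt N9412 (iv F76765)) (tt N7935 F62078))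
theorem Q7937 : ∀ i, i < 7937 → P i := stepQ 7936 Q7936 (allL N7936 (tt N7936 F62079) (tt N7996 (iv F66722)) (tt N6542 F134037) (tt N6550 F134038) (tt N7947 (iv F66396)) (tt N6539 (iv D13648)) (tt N6541 F134039) (tt N9549 D17606) (tt N9415 (iv F134522)) (tt N7936 F62082))
theorem Q7938 : ∀ i, i < 7938 → P i := stepQ 7937 Q7937 (allL N7937 (tt N7937 F62083) (tt N7997 (iv F66727)) (tt N6549 F62084) (tt N9548 (iv F79204)) (tt N6540 F62085) (tt N9549 (iv F79209)) (tt N6544 F62086) (tt N6539 (iv D13649)) (tt N9414 (iv F76776)) (tt N7937 F62087))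
theorem Q7939 : ∀ i, i < 7939 → P i := stepQ 7938 Q7938 (allL N7938 (tt N7938 F62099) (tt N9201 (iv F134651)) (tt N9549 (iv F134665)) (tt N6544 F62100) (tt N9546 (iv F79178)) (tt N6549 (iv F134662)) (tt N9548 (iv F79205)) (tt N6542 (iv D13653)) (tt N9417 (iv F76790)) (tt N7938 F62101))
theorem Q7940 : ∀ i, i < 7940 → P i := stepQ 7939 Q7939 (allL N7939 (tt N7939 F62102) (tt N9200 (iv F134654)) (tt N6553 F62103) (tt N6549 (iv F134661)) (tt N7939 F62104) (tt N6544 F62105) (tt N6552 (iv F134669)) (tt N6543 (iv D13654)) (tt N9442 (iv F134532)) (tt N7939 F62106))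
theorem Q7941 : ∀ i, i < 7941 → P i := stepQ 7940 Q7940 (allL N7940 (tt N7940 F62332) (tt N9199 (iv F74362)) (tt N7948 (iv F66401)) (tt N9547 (iv F135393)) (tt N6548 F62333) (tt N9546 F135345) (tt N7940 F62334) (tt N6547 (iv D13707)) (tt N7958 (iv F66483)) (tt N7940 F62335))
theorem Q7942 : ∀ i, i < 7942 → P i := stepQ 7941 Q7941 (allL N7941 (tt N7941 F62369) (tt N9208 (iv F134670)) (tt N6552 F62370) (tt N9549 (iv F134666)) (tt N7941 F62371) (tt N9548 (iv F134664)) (tt N6553 (iv F134668)) (tt N6550 (iv D13717)) (tt N9450 (iv F77124)) (tt N7941 F62372))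
theorem Q7943 : ∀ i, i < 7943 → P i := stepQ 7942 Q7942 (allL N7942 (tt N7942 F62373) (tt N9205 (iv F74402)) (tt N7949 (iv F134657)) (tt N7942 F62374) (tt N6551 (iv D13718)) (tt N7942 F62375) (tt N6555 F62376) (tt N9550 D17703) (tt N9484 (iv F134676)) (tt N7942 F62377))
theorem Q7944 : ∀ i, i < 7944 → P i := stepQ 7943 Q7943 (allL N7943 (tt N7943 F62378) (tt N9206 (iv F74407)) (tt N9548 (iv F134663)) (tt N6553 F62379) (tt N9550 (iv F79613)) (tt N6552 F62380) (tt N9549 (iv F134660)) (tt N6551 (iv D13719)) (tt N9551 D17706) (tt N7943 F62381))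
theorem Q7945 : ∀ i, i < 7945 → P i := stepQ 7944 Q7944 (allL N7944 (tt N7944 F62382) (tt N9207 (iv F74411)) (tt N9412 (iv F134502)) (tt N6554 F62383) (tt N9484 (iv F134675)) (tt N9453 (iv F77133)) (tt N6556 F62384) (tt N9551 (iv F79626)) (tt N6551 (iv D13720)) (tt N9457 (iv F134679)))
theorem Q7946 : ∀ i, i < 7946 → P i := stepQ 7945 Q7945 (allL N7945 (tt N7945 F62389) (tt N9209 (iv F74418)) (tt N9442 F135241) (tt N9551 (iv F79625)) (tt N7945 F62390) (tt N9455 (iv F77138)) (tt N9450 F135242) (tt N6554 F62391) (tt N6553 (iv D13722)) (tt N9552 D17709))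
theorem Q7947 : ∀ i, i < 7947 → P i := stepQ 7946 Q7946 (allL N7946 (tt N7946 F62392) (tt N9210 (iv F74421)) (tt N9420 (iv F134533)) (tt N9457 (iv F134678)) (tt N7946 F62393) (tt N9456 (iv F77141)) (tt N6557 F62394) (tt N9552 (iv F79637)) (tt N7946 F62395) (tt N6554 (iv D13723)))
theorem Q7948 : ∀ i, i < 7948 → P i := stepQ 7947 Q7947 (allL N7947 (tt N7947 F66392) (tt N6600 F66393) (tt N7932 F134658) (tt N7947 F66395) (tt N7936 F66396) (tt N6559 (iv D14562)) (tt N7931 F134659) (tt N9553 D18551) (tt N9554 D18552) (tt N7947 F66398))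
theorem Q7949 : ∀ i, i < 7949 → P i := stepQ 7948 Q7948 (allL N7948 (tt N7948 F66399) (tt N6601 F66400) (tt N7940 F66401) (tt N7948 F66402) (tt N6560 F66403) (tt N9553 (iv F83774)) (tt N7948 F66404) (tt N6559 (iv D14563)) (tt N6571 F66405) (tt N7948 F66406))
theorem Q7950 : ∀ i, i < 7950 → P i := stepQ 7949 Q7949 (allL N7949 (tt N7949 F66414) (tt N6611 F66415) (tt N7942 F134657) (tt N6562 F66416) (tt N7935 F66417) (tt N7949 F66418) (tt N6561 (iv D14565)) (tt N9555 D18555) (tt N7853 F66419) (tt N7949 F66420))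
theorem Q7951 : ∀ i, i < 7951 → P i := stepQ 7950 Q7950 (allL N7950 (tt N7950 F66421) (tt N6612 F66422) (tt N7950 F66423) (tt N9555 (iv F83799)) (tt N6563 F66424) (tt N7950 F66425) (tt N7934 F66426) (tt N6562 (iv D14566)) (tt N7855 F66427) (tt N7950 F66428))
theorem Q7952 : ∀ i, i < 7952 → P i := stepQ 7951 Q7951 (allL N7951 (tt N6565 F66436) (tt N7951 F66437) (tt N6618 F66438) (tt N7142 F134610) (tt N6564 (iv D14568)) (tt N7951 F66439) (tt N9556 D18558) (tt N7951 F66440) (tt N7013 F66441) (tt N6572 F66442))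
theorem Q7953 : ∀ i, i < 7953 → P i := stepQ 7952 Q7952 (allL N7952 (tt N6566 F66443) (tt N7952 F66444) (tt N6619 F66445) (tt N7952 F66446) (tt N9556 (iv F83823)) (tt N7873 F66447) (tt N6564 (iv D14569)) (tt N9557 D18559) (tt N7014 F66448) (tt N6573 F66449))
theorem Q7954 : ∀ i, i < 7954 → P i := stepQ 7953 Q7953 (allL N7953 (tt N7142 (iv F134388)) (tt N6567 F66450) (tt N6757 F133690) (tt N6565 (iv D14570)) (tt N7953 F66451) (tt N7953 F66452) (tt N9558 D18561) (tt N7953 F66453) (tt N6614 (iv F134414)) (tt N6574 F66455))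
theorem Q7955 : ∀ i, i < 7955 → P i := stepQ 7954 Q7954 (allL N7954 (tt N9556 (iv F83820)) (tt N6568 F66456) (tt N6624 F66457) (tt N9558 (iv F83842)) (tt N6566 F66458) (tt N9559 D18562) (tt N6565 (iv D14571)) (tt N9560 D18563) (tt N7597 F66459) (tt N6575 F66460))
theorem Q7956 : ∀ i, i < 7956 → P i := stepQ 7955 Q7955 (allL N7955 (tt N9557 (iv F83826)) (tt N6569 F66461) (tt N6625 F66462) (tt N7955 F66463) (tt N9560 (iv F83853)) (tt N7881 F66464) (tt N7955 F66465) (tt N6566 (iv D14572)) (tt N7598 F66466) (tt N6576 F66467))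
theorem Q7957 : ∀ i, i < 7957 → P i := stepQ 7956 Q7956 (allL N7956 (tt N7956 F66468) (tt N9558 (iv F83841)) (tt N7956 F66469) (tt N6568 F66470) (tt N7956 F66471) (tt N9561 D18564) (tt N6567 (iv D14573)) (tt N9562 D18565) (tt N7933 (iv F135151)) (tt N6577 F66473))
theorem Q7958 : ∀ i, i < 7958 → P i := stepQ 7957 Q7957 (allL N7957 (tt N7957 F66474) (tt N9559 (iv F83846)) (tt N6570 F66475) (tt N9561 (iv F83859)) (tt N7888 F66476) (tt N6568 (iv D14574)) (tt N7957 F66477) (tt N9563 D18566) (tt N9564 D18567) (tt N6578 F66478))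
theorem Q7959 : ∀ i, i < 7959 → P i := stepQ 7958 Q7958 (allL N7958 (tt N7958 F66479) (tt N9560 (iv F83851)) (tt N6571 F66480) (tt N9562 (iv F83864)) (tt N6569 F66481) (tt N9563 (iv F83872)) (tt N7958 F66482) (tt N6568 (iv D14575)) (tt N7940 F66483) (tt N6579 F66484))
theorem Q7960 : ∀ i, i < 7960 → P i := stepQ 7959 Q7959 (allL N7959 (tt N7959 F66485) (tt N6645 F66486) (tt N9563 (iv F83870)) (tt N7959 F66487) (tt N7905 F66488) (tt N6571 F66489) (tt N9565 D18568) (tt N6570 (iv D14576)) (tt N9566 D18569) (tt N6580 F66490))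
theorem Q7961 : ∀ i, i < 7961 → P i := stepQ 7960 Q7960 (allL N7960 (tt N7960 F66491) (tt N6646 F66492) (tt N9564 (iv F83875)) (tt N7960 F66493) (tt N7906 F66494) (tt N9554 (iv F83781)) (tt N7960 F66495) (tt N9566 (iv F83890)) (tt N6570 (iv D14577)) (tt N9567 D18570))
theorem Q7962 : ∀ i, i < 7962 → P i := stepQ 7961 Q7961 (allL N7961 (tt N6574 F66496) (tt N7961 F66497) (tt N7341 F133559) (tt N6572 (iv D14578)) (tt N7961 F66498) (tt N7961 F66499) (tt N9568 D18572) (tt N7961 F66500) (tt N7961 F66501) (tt N7142 (iv F134389)))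
theorem Q7963 : ∀ i, i < 7963 → P i := stepQ 7962 Q7962 (allL N7962 (tt N6575 F66502) (tt N7962 F66503) (tt N6656 F66504) (tt N9568 (iv F83905)) (tt N6573 F66505) (tt N9569 D18573) (tt N6572 (iv D14579)) (tt N9570 D18574) (tt N7962 F66506) (tt N9556 (iv F83825)))
theorem Q7964 : ∀ i, i < 7964 → P i := stepQ 7963 Q7963 (allL N7963 (tt N6576 F66507) (tt N7963 F66508) (tt N6657 F66509) (tt N7963 F66510) (tt N9570 (iv F83916)) (tt N7875 F66511) (tt N7963 F66512) (tt N6573 (iv D14580)) (tt N7963 F66513) (tt N9557 (iv F83833)))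
theorem Q7965 : ∀ i, i < 7965 → P i := stepQ 7964 Q7964 (allL N7964 (tt N7341 (iv F132930)) (tt N7964 F66514) (tt N6574 (iv D14581)) (tt N6661 F66515) (tt N7964 F66516) (tt N7964 F66517) (tt N9571 D18575) (tt N7964 F66518) (tt N7964 F66519) (tt N6757 (iv F132967)))
theorem Q7966 : ∀ i, i < 7966 → P i := stepQ 7965 Q7965 (allL N7965 (tt N9568 (iv F83903)) (tt N6577 F66520) (tt N9571 (iv F83920)) (tt N6575 F66521) (tt N7965 F66522) (tt N9572 D18576) (tt N6574 (iv D14582)) (tt N9573 D18577) (tt N7965 F66523) (tt N9558 (iv F83845)))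
theorem Q7967 : ∀ i, i < 7967 → P i := stepQ 7966 Q7966 (allL N7966 (tt N9569 (iv F83908)) (tt N6578 F66524) (tt N6663 F66525) (tt N9572 (iv F83925)) (tt N7882 F66526) (tt N6575 (iv D14583)) (tt N7966 F66527) (tt N9574 D18578) (tt N9575 D18579) (tt N9559 (iv F83850)))
theorem Q7968 : ∀ i, i < 7968 → P i := stepQ 7967 Q7967 (allL N7967 (tt N9570 (iv F83913)) (tt N6579 F66528) (tt N6664 F66529) (tt N9573 (iv F83928)) (tt N6576 F66530) (tt N9574 (iv F83935)) (tt N7967 F66531) (tt N6575 (iv D14584)) (tt N7967 F66532) (tt N9560 (iv F83856)))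
theorem Q7969 : ∀ i, i < 7969 → P i := stepQ 7968 Q7968 (allL N7968 (tt N7968 F66533) (tt N9572 (iv F83924)) (tt N7968 F66534) (tt N6578 F66535) (tt N9576 D18580) (tt N6577 (iv D14585)) (tt N7968 F66536) (tt N9577 D18581) (tt N9578 D18582) (tt N9561 (iv F83861)))
theorem Q7970 : ∀ i, i < 7970 → P i := stepQ 7969 Q7969 (allL N7969 (tt N7969 F66537) (tt N9573 (iv F83927)) (tt N7969 F66538) (tt N6579 F66539) (tt N7969 F66540) (tt N9577 (iv F83949)) (tt N7969 F66541) (tt N6577 (iv D14586)) (tt N7969 F66542) (tt N9562 (iv F83868)))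
theorem Q7971 : ∀ i, i < 7971 → P i := stepQ 7970 Q7970 (allL N7970 (tt N7970 F66543) (tt N9574 (iv F83932)) (tt N6580 F66544) (tt N9577 (iv F83948)) (tt N7892 F66545) (tt N6579 F66546) (tt N9579 D18583) (tt N6578 (iv D14587)) (tt N9580 D18584) (tt N9563 (iv F83873)))
theorem Q7972 : ∀ i, i < 7972 → P i := stepQ 7971 Q7971 (allL N7971 (tt N7971 F66547) (tt N9575 (iv F83936)) (tt N6581 F66548) (tt N9578 (iv F83952)) (tt N7893 F66549) (tt N7971 F66550) (tt N7971 F66551) (tt N9580 (iv F83964)) (tt N6578 (iv D14588)) (tt N9581 D18585))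
theorem Q7973 : ∀ i, i < 7973 → P i := stepQ 7972 Q7972 (allL N7972 (tt N7972 F66552) (tt N6678 F66553) (tt N9579 (iv F83956)) (tt N7972 F66554) (tt N7907 F66555) (tt N7972 F66556) (tt N6580 (iv D14589)) (tt N7972 F66557) (tt N9582 D18586) (tt N9565 (iv F83885)))
theorem Q7974 : ∀ i, i < 7974 → P i := stepQ 7973 Q7973 (allL N7973 (tt N7973 F66558) (tt N6679 F66559) (tt N9580 (iv F83961)) (tt N7973 F66560) (tt N7900 F134601) (tt N7973 F66562) (tt N9582 (iv F83974)) (tt N6581 F66563) (tt N6580 (iv D14590)) (tt N9583 D18587))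
theorem Q7975 : ∀ i, i < 7975 → P i := stepQ 7974 Q7974 (allL N7974 (tt N7974 F66564) (tt N6680 F66565) (tt N9581 (iv F83966)) (tt N7974 F66566) (tt N7895 F134602) (tt N7974 F66568) (tt N7974 F66569) (tt N9583 (iv F83981)) (tt N9567 (iv F83896)) (tt N6581 (iv D14591)))
theorem Q7976 : ∀ i, i < 7976 → P i := stepQ 7975 Q7975 (allL N7975 (tt N7088 F66570) (tt N6755 F134432) (tt N7975 F66572) (tt N6582 (iv D14592)) (tt N7975 F66573) (tt N6592 F66574) (tt N6754 F134433) (tt N7975 F66575) (tt N7975 F66576) (tt N7975 F66577))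
theorem Q7977 : ∀ i, i < 7977 → P i := stepQ 7976 Q7976 (allL N7976 (tt N7089 F66578) (tt N6613 (iv F134287)) (tt N6584 F66580) (tt N6754 (iv F134286)) (tt N6583 F66581) (tt N9584 D18589) (tt N6582 (iv D14593)) (tt N6615 F133463) (tt N7976 F66582) (tt N7976 F66583))
theorem Q7978 : ∀ i, i < 7978 → P i := stepQ 7977 Q7977 (allL N7977 (tt N7090 F66592) (tt N7931 (iv F134041)) (tt N9584 (iv F83991)) (tt N7977 F66594) (tt N7610 F133512) (tt N6584 (iv D14595)) (tt N6600 F66596) (tt N7609 F133513) (tt N9585 D18592) (tt N7977 F66597))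
theorem Q7979 : ∀ i, i < 7979 → P i := stepQ 7978 Q7978 (allL N7978 (tt N6587 F66613) (tt N7092 F66614) (tt N7013 F66615) (tt N7338 F134431) (tt N6586 (iv D14598)) (tt N6988 F66616) (tt N9586 D18595) (tt N7978 F66617) (tt N6618 F66618) (tt N7978 F66619))
theorem Q7980 : ∀ i, i < 7980 → P i := stepQ 7979 Q7979 (allL N7979 (tt N6588 F66620) (tt N7093 F66621) (tt N7014 F66622) (tt N6685 F66623) (tt N9586 (iv F84033)) (tt N6984 F66624) (tt N6586 (iv D14599)) (tt N9587 D18596) (tt N6619 F66625) (tt N7979 F66626))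
theorem Q7981 : ∀ i, i < 7981 → P i := stepQ 7980 Q7980 (allL N7980 (tt N7338 (iv F133732)) (tt N6592 F66627) (tt N6756 F132984) (tt N6587 (iv D14600)) (tt N6690 F66628) (tt N6755 (iv F133736)) (tt N9588 D18598) (tt N7980 F66630) (tt N6623 F66631) (tt N7980 F66632))
theorem Q7982 : ∀ i, i < 7982 → P i := stepQ 7981 Q7981 (allL N7981 (tt N9586 (iv F84030)) (tt N6593 F66633) (tt N7597 F66634) (tt N9588 (iv F84052)) (tt N6588 F66635) (tt N9589 D18599) (tt N6587 (iv D14601)) (tt N9590 D18600) (tt N6624 F66636) (tt N7981 F66637))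
theorem Q7983 : ∀ i, i < 7983 → P i := stepQ 7982 Q7982 (allL N7982 (tt N9587 (iv F84036)) (tt N6594 F66638) (tt N7598 F66639) (tt N6692 F66640) (tt N9590 (iv F84063)) (tt N7578 F66641) (tt N7982 F66642) (tt N6588 (iv D14602)) (tt N6625 F66643) (tt N7982 F66644))
theorem Q7984 : ∀ i, i < 7984 → P i := stepQ 7983 Q7983 (allL N7983 (tt N7102 F66645) (tt N7374 F66646) (tt N6595 F66647) (tt N9591 D18601) (tt N6589 (iv D14603)) (tt N7354 F66648) (tt N9592 D18602) (tt N7352 F66649) (tt N6590 F66650) (tt N7381 F66651))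
theorem Q7985 : ∀ i, i < 7985 → P i := stepQ 7984 Q7984 (allL N7984 (tt N7103 F66652) (tt N7375 F66653) (tt N6596 F66654) (tt N6702 F66655) (tt N9592 (iv F84077)) (tt N6629 F66656) (tt N6589 (iv D14604)) (tt N9593 D18603) (tt N6591 F66657) (tt N7382 F66658))
theorem Q7986 : ∀ i, i < 7986 → P i := stepQ 7985 Q7985 (allL N7985 (tt N7106 F66659) (tt N7576 F66660) (tt N9594 D18604) (tt N6590 (iv D14605)) (tt N6705 F66661) (tt N7565 F66662) (tt N9595 D18605) (tt N7562 F66663) (tt N9591 (iv F84072)) (tt N7985 F66664))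
theorem Q7987 : ∀ i, i < 7987 → P i := stepQ 7986 Q7986 (allL N7986 (tt N7107 F66665) (tt N7577 F66666) (tt N6598 F66667) (tt N9595 (iv F84096)) (tt N6591 F66668) (tt N9596 D18606) (tt N6590 (iv D14606)) (tt N9597 D18607) (tt N9592 (iv F84078)) (tt N7986 F66669))
theorem Q7988 : ∀ i, i < 7988 → P i := stepQ 7987 Q7987 (allL N7987 (tt N7108 F66670) (tt N7578 F66671) (tt N6599 F66672) (tt N6707 F66673) (tt N9597 (iv F84108)) (tt N6594 F66674) (tt N7564 F66675) (tt N6591 (iv D14607)) (tt N9593 (iv F84086)) (tt N7987 F66676))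
theorem Q7989 : ∀ i, i < 7989 → P i := stepQ 7988 Q7988 (allL N7988 (tt N7109 F66677) (tt N9588 (iv F84051)) (tt N7988 F66678) (tt N6593 F66679) (tt N6708 F66680) (tt N9598 D18608) (tt N6592 (iv D14608)) (tt N9599 D18609) (tt N6633 F66681) (tt N7988 F66682))
theorem Q7990 : ∀ i, i < 7990 → P i := stepQ 7989 Q7989 (allL N7989 (tt N7110 F66683) (tt N9589 (iv F84056)) (tt N6600 F66684) (tt N9598 (iv F84113)) (tt N9596 (iv F84102)) (tt N6593 (iv D14609)) (tt N9584 (iv F83993)) (tt N9600 D18610) (tt N9601 D18611) (tt N7989 F66685))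
theorem Q7991 : ∀ i, i < 7991 → P i := stepQ 7990 Q7990 (allL N7990 (tt N7111 F66686) (tt N9590 (iv F84061)) (tt N6601 F66687) (tt N9599 (iv F84117)) (tt N6594 F66688) (tt N9600 (iv F84124)) (tt N7990 F66689) (tt N6593 (iv D14610)) (tt N6635 F66690) (tt N7990 F66691))
theorem Q7992 : ∀ i, i < 7992 → P i := stepQ 7991 Q7991 (allL N7991 (tt N7116 F66692) (tt N7785 F66693) (tt N9602 D18612) (tt N6595 (iv D14611)) (tt N6604 F66694) (tt N7616 F133506) (tt N9603 D18613) (tt N7607 (iv F133898)) (tt N6597 F66697) (tt N7421 F66698))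
theorem Q7993 : ∀ i, i < 7993 → P i := stepQ 7992 Q7992 (allL N7992 (tt N7117 F66699) (tt N7786 F66700) (tt N9592 (iv F84076)) (tt N9603 (iv F84137)) (tt N6596 F66701) (tt N9604 D18614) (tt N6595 (iv D14612)) (tt N9605 D18615) (tt N6598 F66702) (tt N7422 F66703))
theorem Q7994 : ∀ i, i < 7994 → P i := stepQ 7993 Q7993 (allL N7993 (tt N7118 F66704) (tt N7787 F66705) (tt N9593 (iv F84082)) (tt N6606 F66706) (tt N9605 (iv F84148)) (tt N6640 F66707) (tt N7777 F66708) (tt N6596 (iv D14613)) (tt N6599 F66709) (tt N7423 F66710))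
theorem Q7995 : ∀ i, i < 7995 → P i := stepQ 7994 Q7994 (allL N7994 (tt N7121 F66711) (tt N7608 (iv F133509)) (tt N6597 (iv D14614)) (tt N9594 (iv F84089)) (tt N6610 F66712) (tt N7584 F133491) (tt N9606 D18617) (tt N7583 (iv F134023)) (tt N9602 (iv F84133)) (tt N7994 F66715))
theorem Q7996 : ∀ i, i < 7996 → P i := stepQ 7995 Q7995 (allL N7995 (tt N7122 F66716) (tt N7935 F66717) (tt N9606 (iv F84158)) (tt N6598 F66718) (tt N6611 F66719) (tt N7612 F133505) (tt N6597 (iv D14615)) (tt N9607 D18619) (tt N9603 (iv F84139)) (tt N7995 F66720))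
theorem Q7997 : ∀ i, i < 7997 → P i := stepQ 7996 Q7996 (allL N7996 (tt N7123 F66721) (tt N7936 F66722) (tt N9596 (iv F84101)) (tt N7612 F133514) (tt N6600 F66723) (tt N6598 (iv D14616)) (tt N7610 F133515) (tt N9608 D18620) (tt N9609 D18621) (tt N7996 F66725))
theorem Q7998 : ∀ i, i < 7998 → P i := stepQ 7997 Q7997 (allL N7997 (tt N7124 F66726) (tt N7937 F66727) (tt N9597 (iv F84107)) (tt N9607 (iv F84169)) (tt N6599 F66728) (tt N9608 (iv F84176)) (tt N7930 F66729) (tt N6598 (iv D14617)) (tt N9605 (iv F84150)) (tt N7997 F66730))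
theorem Q7999 : ∀ i, i < 7999 → P i := stepQ 7998 Q7998 (allL N7998 (tt N7125 F66731) (tt N9553 (iv F83770)) (tt N9600 (iv F84123)) (tt N7998 F66732) (tt N9608 (iv F84175)) (tt N6601 F66733) (tt N9610 D18622) (tt N6600 (iv D14618)) (tt N9611 D18623) (tt N7998 F66734))
theorem Q8000 : ∀ i, i < 8000 → P i := stepQ 7999 Q7999 (allL N7999 (tt N7126 F66735) (tt N9554 (iv F83777)) (tt N9601 (iv F84127)) (tt N7999 F66736) (tt N9609 (iv F84180)) (tt N6646 F66737) (tt N9585 (iv F84013)) (tt N9611 (iv F84189)) (tt N6600 (iv D14619)) (tt N9612 D18624))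
theorem Q8001 : ∀ i, i < 8001 → P i := stepQ 8000 Q8000 (allL N8000 (tt N7127 F66738) (tt N7727 F66739) (tt N9613 D18625) (tt N6602 (iv D14620)) (tt N7607 F134497) (tt N8000 F66741) (tt N9614 D18626) (tt N6604 F66742) (tt N6607 F66743) (tt N7308 F66744))
theorem Q8002 : ∀ i, i < 8002 → P i := stepQ 8001 Q8001 (allL N8001 (tt N7128 F66745) (tt N7728 F66746) (tt N6738 F66747) (tt N9614 (iv F84203)) (tt N6603 F66748) (tt N9615 D18627) (tt N6602 (iv D14621)) (tt N9616 D18628) (tt N6608 F66749) (tt N7309 F66750))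
theorem Q8003 : ∀ i, i < 8003 → P i := stepQ 8002 Q8002 (allL N8002 (tt N7129 F66751) (tt N7729 F66752) (tt N6739 F66753) (tt N7777 F66754) (tt N9616 (iv F84216)) (tt N7313 F66755) (tt N6606 F66756) (tt N6603 (iv D14622)) (tt N6609 F66757) (tt N7310 F66758))
theorem Q8004 : ∀ i, i < 8004 → P i := stepQ 8003 Q8003 (allL N8003 (tt N7130 F66759) (tt N9617 D18629) (tt N6604 (iv D14623)) (tt N6743 F66760) (tt N9602 (iv F84130)) (tt N8003 F66761) (tt N9618 D18630) (tt N9613 (iv F84198)) (tt N6610 F66762) (tt N7451 F66763))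
theorem Q8005 : ∀ i, i < 8005 → P i := stepQ 8004 Q8004 (allL N8004 (tt N7131 F66764) (tt N7853 F66765) (tt N9618 (iv F84226)) (tt N6605 F66766) (tt N9603 (iv F84138)) (tt N9619 D18631) (tt N6604 (iv D14624)) (tt N9620 D18632) (tt N6611 F66767) (tt N7452 F66768))
theorem Q8006 : ∀ i, i < 8006 → P i := stepQ 8005 Q8005 (allL N8005 (tt N7132 F66769) (tt N7854 F66770) (tt N6745 F66771) (tt N9619 (iv F84232)) (tt N6649 F66772) (tt N6605 (iv D14625)) (tt N8005 F66773) (tt N9621 D18633) (tt N8005 F66774) (tt N7453 F66775))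
theorem Q8007 : ∀ i, i < 8007 → P i := stepQ 8006 Q8006 (allL N8006 (tt N7133 F66776) (tt N7855 F66777) (tt N6746 F66778) (tt N9620 (iv F84238)) (tt N6606 F66779) (tt N9621 (iv F84245)) (tt N9616 (iv F84217)) (tt N6605 (iv D14626)) (tt N6612 F66780) (tt N7454 F66781))
theorem Q8008 : ∀ i, i < 8008 → P i := stepQ 8007 Q8007 (allL N8007 (tt N7134 F66782) (tt N9584 F134647) (tt N6607 (iv D14627)) (tt N6747 F66783) (tt N7583 F134648) (tt N6613 F66785) (tt N9589 (iv F135114)) (tt N6610 F66786) (tt N9613 (iv F84199)) (tt N8007 F66787))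
theorem Q8009 : ∀ i, i < 8009 → P i := stepQ 8008 Q8008 (allL N8008 (tt N7135 F66788) (tt N7932 F66789) (tt N9589 (iv F135112)) (tt N6608 F66790) (tt N7600 F134650) (tt N7597 (iv F135111)) (tt N6607 (iv D14628)) (tt N9622 D18637) (tt N9614 (iv F84205)) (tt N8008 F66792))
theorem Q8010 : ∀ i, i < 8010 → P i := stepQ 8009 Q8009 (allL N8009 (tt N7136 F66793) (tt N7933 F66794) (tt N6749 F66795) (tt N7597 (iv F135110)) (tt N8009 F66796) (tt N6608 (iv D14629)) (tt N6614 F66797) (tt N9623 D18638) (tt N9558 F135027) (tt N8009 F66798))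
theorem Q8011 : ∀ i, i < 8011 → P i := stepQ 8010 Q8010 (allL N8010 (tt N7137 F66799) (tt N7934 F66800) (tt N6750 F66801) (tt N9622 (iv F84266)) (tt N6609 F66802) (tt N9623 (iv F84274)) (tt N6612 F66803) (tt N6608 (iv D14630)) (tt N9616 (iv F84218)) (tt N8010 F66804))
theorem Q8012 : ∀ i, i < 8012 → P i := stepQ 8011 Q8011 (allL N8011 (tt N9624 D18640) (tt N6610 (iv D14631)) (tt N7609 (iv F133511)) (tt N6751 F66805) (tt N7608 F133510) (tt N6615 F66806) (tt N9625 D18641) (tt N9584 (iv F134289)) (tt N9617 (iv F84223)) (tt N8011 F66807))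
theorem Q8013 : ∀ i, i < 8013 → P i := stepQ 8012 Q8012 (allL N8012 (tt N7139 F66808) (tt N9625 (iv F84286)) (tt N6611 F66809) (tt N6752 F66810) (tt N9606 (iv F84159)) (tt N8012 F66811) (tt N6610 (iv D14632)) (tt N9626 D18642) (tt N9618 (iv F84228)) (tt N8012 F66812))
theorem Q8014 : ∀ i, i < 8014 → P i := stepQ 8013 Q8013 (allL N8013 (tt N7140 F66813) (tt N9555 (iv F83798)) (tt N9626 (iv F84291)) (tt N6612 F66814) (tt N9607 (iv F84170)) (tt N8013 F66815) (tt N9622 (iv F84268)) (tt N6611 (iv D14633)) (tt N9620 (iv F84239)) (tt N8013 F66816))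
theorem Q8015 : ∀ i, i < 8015 → P i := stepQ 8014 Q8014 (allL N8014 (tt N6615 (iv D14638)) (tt N7143 F66841) (tt N7046 (iv F134680)) (tt N6758 F66842) (tt N7044 F134369) (tt N9624 (iv F84284)) (tt N8014 F66843) (tt N7089 (iv F133027)) (tt N8014 F66844) (tt N8014 F66845))
theorem Q8016 : ∀ i, i < 8016 → P i := stepQ 8015 Q8015 (allL N8015 (tt N6620 F66846) (tt N7144 F66847) (tt N6809 F66848) (tt N6762 F66849) (tt N9627 D18649) (tt N6616 (iv D14639)) (tt N9628 D18650) (tt N7342 F66850) (tt N6617 F66851) (tt N7100 F66852))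
theorem Q8017 : ∀ i, i < 8017 → P i := stepQ 8016 Q8016 (allL N8016 (tt N6621 F66853) (tt N7145 F66854) (tt N7872 F66855) (tt N9629 D18651) (tt N6617 (iv D14640)) (tt N8016 F66856) (tt N9630 D18652) (tt N7472 F66857) (tt N9627 (iv F84337)) (tt N6653 F66858))
theorem Q8018 : ∀ i, i < 8018 → P i := stepQ 8017 Q8017 (allL N8017 (tt N6622 F66859) (tt N7146 F66860) (tt N7873 F66861) (tt N6765 F66862) (tt N9630 (iv F84355)) (tt N6619 F66863) (tt N6617 (iv D14641)) (tt N9631 D18653) (tt N9628 (iv F84344)) (tt N6654 F66864))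
theorem Q8019 : ∀ i, i < 8019 → P i := stepQ 8018 Q8018 (allL N8018 (tt N6623 F66865) (tt N7147 F66866) (tt N7340 F133392) (tt N6618 (iv D14642)) (tt N6766 F66867) (tt N8018 F66868) (tt N9632 D18655) (tt N8018 F66869) (tt N7338 (iv F133735)) (tt N6655 F66870))
theorem Q8020 : ∀ i, i < 8020 → P i := stepQ 8019 Q8019 (allL N8019 (tt N6624 F66871) (tt N7148 F66872) (tt N9556 (iv F83822)) (tt N9632 (iv F84371)) (tt N6619 F66873) (tt N9633 D18656) (tt N6618 (iv D14643)) (tt N9634 D18657) (tt N9586 (iv F84034)) (tt N6656 F66874))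
theorem Q8021 : ∀ i, i < 8021 → P i := stepQ 8020 Q8020 (allL N8020 (tt N6625 F66875) (tt N7149 F66876) (tt N9557 (iv F83828)) (tt N6768 F66877) (tt N9634 (iv F84380)) (tt N9631 (iv F84361)) (tt N8020 F66878) (tt N6619 (iv D14644)) (tt N9587 (iv F84042)) (tt N6657 F66879))
theorem Q8022 : ∀ i, i < 8022 → P i := stepQ 8021 Q8021 (allL N8021 (tt N9627 (iv F84332)) (tt N6628 F66880) (tt N7409 F66881) (tt N9635 D18658) (tt N6620 (iv D14645)) (tt N7381 F66882) (tt N9636 D18659) (tt N7356 F66883) (tt N6621 F66884) (tt N7354 F66885))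
theorem Q8023 : ∀ i, i < 8023 → P i := stepQ 8022 Q8022 (allL N8022 (tt N9628 (iv F84339)) (tt N6629 F66886) (tt N7410 F66887) (tt N6775 F66888) (tt N9636 (iv F84391)) (tt N7375 F66889) (tt N6620 (iv D14646)) (tt N9637 D18660) (tt N6622 F66890) (tt N7355 F66891))
theorem Q8024 : ∀ i, i < 8024 → P i := stepQ 8023 Q8023 (allL N8023 (tt N9629 (iv F84346)) (tt N6630 F66892) (tt N9638 D18661) (tt N6621 (iv D14647)) (tt N6778 F66893) (tt N8023 F66894) (tt N9639 D18662) (tt N7483 F66895) (tt N9635 (iv F84387)) (tt N6658 F66896))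
theorem Q8025 : ∀ i, i < 8025 → P i := stepQ 8024 Q8024 (allL N8024 (tt N9630 (iv F84352)) (tt N6631 F66897) (tt N7880 F66898) (tt N9639 (iv F84407)) (tt N6622 F66899) (tt N9640 D18663) (tt N6621 (iv D14648)) (tt N9641 D18664) (tt N9636 (iv F84392)) (tt N6659 F66900))
theorem Q8026 : ∀ i, i < 8026 → P i := stepQ 8025 Q8025 (allL N8025 (tt N9631 (iv F84357)) (tt N6632 F66901) (tt N7881 F66902) (tt N6780 F66903) (tt N9641 (iv F84417)) (tt N6625 F66904) (tt N7485 F66905) (tt N6622 (iv D14649)) (tt N9637 (iv F84399)) (tt N6660 F66906))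
theorem Q8027 : ∀ i, i < 8027 → P i := stepQ 8026 Q8026 (allL N8026 (tt N7340 (iv F132931)) (tt N8026 F66907) (tt N6623 (iv D14650)) (tt N6757 (iv F132966)) (tt N6781 F66908) (tt N8026 F66909) (tt N9642 D18665) (tt N8026 F66910) (tt N6756 (iv F132970)) (tt N6661 F66911))
theorem Q8028 : ∀ i, i < 8028 → P i := stepQ 8027 Q8027 (allL N8027 (tt N9632 (iv F84369)) (tt N6633 F66912) (tt N9642 (iv F84421)) (tt N6624 F66913) (tt N6782 F66914) (tt N9643 D18666) (tt N6623 (iv D14651)) (tt N9644 D18667) (tt N9588 (iv F84054)) (tt N6662 F66915))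
theorem Q8029 : ∀ i, i < 8029 → P i := stepQ 8028 Q8028 (allL N8028 (tt N9633 (iv F84374)) (tt N6634 F66916) (tt N9559 (iv F83847)) (tt N9643 (iv F84425)) (tt N9640 (iv F84412)) (tt N6624 (iv D14652)) (tt N8028 F66917) (tt N9645 D18668) (tt N9646 D18669) (tt N6663 F66918))
theorem Q8030 : ∀ i, i < 8030 → P i := stepQ 8029 Q8029 (allL N8029 (tt N9634 (iv F84378)) (tt N6635 F66919) (tt N9560 (iv F83852)) (tt N9644 (iv F84429)) (tt N6625 F66920) (tt N9645 (iv F84434)) (tt N8029 F66921) (tt N6624 (iv D14653)) (tt N9590 (iv F84065)) (tt N6664 F66922))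
theorem Q8031 : ∀ i, i < 8031 → P i := stepQ 8030 Q8030 (allL N8030 (tt N7159 F66923) (tt N6700 F66924) (tt N8030 F66925) (tt N6627 F66926) (tt N9647 D18670) (tt N6626 (iv D14654)) (tt N9648 D18671) (tt N7371 F66927) (tt N8030 F66928) (tt N6687 F66929))
theorem Q8032 : ∀ i, i < 8032 → P i := stepQ 8031 Q8031 (allL N8031 (tt N7160 F66930) (tt N7381 F66931) (tt N6636 F66932) (tt N9649 D18672) (tt N6627 (iv D14655)) (tt N6628 F66933) (tt N9650 D18673) (tt N7376 F66934) (tt N8031 F66935) (tt N7374 F66936))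
theorem Q8033 : ∀ i, i < 8033 → P i := stepQ 8032 Q8032 (allL N8032 (tt N7161 F66937) (tt N7382 F66938) (tt N6637 F66939) (tt N9648 (iv F84448)) (tt N9650 (iv F84461)) (tt N7355 F66940) (tt N6627 (iv D14656)) (tt N9651 D18674) (tt N8032 F66941) (tt N7375 F66942))
theorem Q8034 : ∀ i, i < 8034 → P i := stepQ 8033 Q8033 (allL N8033 (tt N7162 F66943) (tt N9635 (iv F84383)) (tt N9652 D18675) (tt N6628 (iv D14657)) (tt N6795 F66944) (tt N9649 (iv F84454)) (tt N9653 D18676) (tt N7386 F66945) (tt N6630 F66946) (tt N7383 F66947))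
theorem Q8035 : ∀ i, i < 8035 → P i := stepQ 8034 Q8034 (allL N8034 (tt N7163 F66948) (tt N9636 (iv F84389)) (tt N6639 F66949) (tt N9653 (iv F84478)) (tt N6629 F66950) (tt N9654 D18677) (tt N6628 (iv D14658)) (tt N9655 D18678) (tt N6631 F66951) (tt N7384 F66952))
theorem Q8036 : ∀ i, i < 8036 → P i := stepQ 8035 Q8035 (allL N8035 (tt N7164 F66953) (tt N9637 (iv F84394)) (tt N6640 F66954) (tt N6797 F66955) (tt N9655 (iv F84487)) (tt N9593 (iv F84084)) (tt N7388 F66956) (tt N6629 (iv D14659)) (tt N6632 F66957) (tt N7385 F66958))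
theorem Q8037 : ∀ i, i < 8037 → P i := stepQ 8036 Q8036 (allL N8036 (tt N7165 F66959) (tt N7631 F133427) (tt N6630 (iv D14660)) (tt N6641 F66960) (tt N6801 F66961) (tt N8036 F66962) (tt N9656 D18680) (tt N7499 F66963) (tt N9652 (iv F84475)) (tt N6665 F66964))
theorem Q8038 : ∀ i, i < 8038 → P i := stepQ 8037 Q8037 (allL N8037 (tt N7166 F66965) (tt N9639 (iv F84406)) (tt N9656 (iv F84497)) (tt N6631 F66966) (tt N6802 F66967) (tt N9657 D18681) (tt N6630 (iv D14661)) (tt N9658 D18682) (tt N9653 (iv F84480)) (tt N6666 F66968))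
theorem Q8039 : ∀ i, i < 8039 → P i := stepQ 8038 Q8038 (allL N8038 (tt N7167 F66969) (tt N9640 (iv F84410)) (tt N6643 F66970) (tt N9657 (iv F84502)) (tt N6634 F66971) (tt N6631 (iv D14662)) (tt N8038 F66972) (tt N9659 D18683) (tt N9660 D18684) (tt N6667 F66973))
theorem Q8040 : ∀ i, i < 8040 → P i := stepQ 8039 Q8039 (allL N8039 (tt N7168 F66974) (tt N9641 (iv F84415)) (tt N6644 F66975) (tt N9658 (iv F84506)) (tt N6632 F66976) (tt N9659 (iv F84513)) (tt N7502 F66977) (tt N6631 (iv D14663)) (tt N9655 (iv F84489)) (tt N6668 F66978))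
theorem Q8041 : ∀ i, i < 8041 → P i := stepQ 8040 Q8040 (allL N8040 (tt N7169 F66979) (tt N9643 (iv F84424)) (tt N8040 F66980) (tt N6634 F66981) (tt N9661 D18685) (tt N6633 (iv D14664)) (tt N8040 F66982) (tt N9662 D18686) (tt N9663 D18687) (tt N6669 F66983))
theorem Q8042 : ∀ i, i < 8042 → P i := stepQ 8041 Q8041 (allL N8041 (tt N7170 F66984) (tt N9644 (iv F84428)) (tt N8041 F66985) (tt N6635 F66986) (tt N6806 F66987) (tt N9662 (iv F84527)) (tt N8041 F66988) (tt N6633 (iv D14665)) (tt N9599 (iv F84120)) (tt N6670 F66989))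
theorem Q8043 : ∀ i, i < 8043 → P i := stepQ 8042 Q8042 (allL N8042 (tt N7171 F66990) (tt N9645 (iv F84433)) (tt N6645 F66991) (tt N9662 (iv F84526)) (tt N9659 (iv F84512)) (tt N6635 F66992) (tt N9664 D18688) (tt N6634 (iv D14666)) (tt N9665 D18689) (tt N6671 F66993))
theorem Q8044 : ∀ i, i < 8044 → P i := stepQ 8043 Q8043 (allL N8043 (tt N7172 F66994) (tt N9646 (iv F84436)) (tt N6646 F66995) (tt N9663 (iv F84531)) (tt N9660 (iv F84517)) (tt N9601 (iv F84128)) (tt N8043 F66996) (tt N9665 (iv F84540)) (tt N6634 (iv D14667)) (tt N9666 D18690))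
theorem Q8045 : ∀ i, i < 8045 → P i := stepQ 8044 Q8044 (allL N8044 (tt N7173 F66997) (tt N7792 F66998) (tt N9667 D18691) (tt N6636 (iv D14668)) (tt N8044 F66999) (tt N6638 F67000) (tt N9668 D18692) (tt N7414 F67001) (tt N8044 F67002) (tt N7411 F67003))
theorem Q8046 : ∀ i, i < 8046 → P i := stepQ 8045 Q8045 (allL N8045 (tt N7174 F67004) (tt N7793 F67005) (tt N9650 (iv F84460)) (tt N9668 (iv F84553)) (tt N6637 F67006) (tt N9669 D18693) (tt N6636 (iv D14669)) (tt N9670 D18694) (tt N8045 F67007) (tt N7412 F67008))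
theorem Q8047 : ∀ i, i < 8047 → P i := stepQ 8046 Q8046 (allL N8046 (tt N7175 F67009) (tt N7794 F67010) (tt N9651 (iv F84466)) (tt N8046 F67011) (tt N9670 (iv F84564)) (tt N7779 F67012) (tt N7416 F67013) (tt N6637 (iv D14670)) (tt N8046 F67014) (tt N7413 F67015))
theorem Q8048 : ∀ i, i < 8048 → P i := stepQ 8047 Q8047 (allL N8047 (tt N7176 F67016) (tt N7595 F133317) (tt N6638 (iv D14671)) (tt N9652 (iv F84472)) (tt N6647 F67017) (tt N9667 (iv F84547)) (tt N9671 D18696) (tt N7428 F67018) (tt N6641 F67019) (tt N7424 F67020))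
theorem Q8049 : ∀ i, i < 8049 → P i := stepQ 8048 Q8048 (allL N8048 (tt N7177 F67021) (tt N7813 F134492) (tt N9671 (iv F84574)) (tt N6639 F67023) (tt N6648 F67024) (tt N9672 D18697) (tt N6638 (iv D14672)) (tt N9673 D18698) (tt N6642 F67025) (tt N7425 F67026))
theorem Q8050 : ∀ i, i < 8050 → P i := stepQ 8049 Q8049 (allL N8049 (tt N7178 F67027) (tt N7831 F67028) (tt N9654 (iv F84483)) (tt N9672 (iv F84580)) (tt N9604 (iv F84143)) (tt N6639 (iv D14673)) (tt N9669 (iv F84560)) (tt N9674 D18699) (tt N9675 D18700) (tt N7426 F67029))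
theorem Q8051 : ∀ i, i < 8051 → P i := stepQ 8050 Q8050 (allL N8050 (tt N7179 F67030) (tt N7832 F67031) (tt N9655 (iv F84486)) (tt N9673 (iv F84584)) (tt N6640 F67032) (tt N9674 (iv F84591)) (tt N7431 F67033) (tt N6639 (iv D14674)) (tt N6644 F67034) (tt N7427 F67035))
theorem Q8052 : ∀ i, i < 8052 → P i := stepQ 8051 Q8051 (allL N8051 (tt N7181 F67041) (tt N7520 F133416) (tt N6642 F67042) (tt N9656 (iv F84498)) (tt N6651 F67043) (tt N9676 D18703) (tt N6641 (iv D14676)) (tt N9677 D18704) (tt N9671 (iv F84576)) (tt N6673 F67044))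
theorem Q8053 : ∀ i, i < 8053 → P i := stepQ 8052 Q8052 (allL N8052 (tt N7182 F67045) (tt N7903 F134589) (tt N9676 (iv F84607)) (tt N6643 F67047) (tt N8052 F67048) (tt N6642 (iv D14677)) (tt N8052 F67049) (tt N9678 D18705) (tt N9679 D18706) (tt N6674 F67050))
theorem Q8054 : ∀ i, i < 8054 → P i := stepQ 8053 Q8053 (allL N8053 (tt N7183 F67051) (tt N7904 F134592) (tt N9677 (iv F84612)) (tt N6644 F67053) (tt N6652 F67054) (tt N9678 (iv F84620)) (tt N7527 F67055) (tt N6642 (iv D14678)) (tt N9673 (iv F84587)) (tt N6675 F67056))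
theorem Q8055 : ∀ i, i < 8055 → P i := stepQ 8054 Q8054 (allL N8054 (tt N7184 F67057) (tt N7905 F67058) (tt N9659 (iv F84511)) (tt N9678 (iv F84618)) (tt N6645 F67059) (tt N6644 F67060) (tt N9680 D18707) (tt N6643 (iv D14679)) (tt N9681 D18708) (tt N6676 F67061))
theorem Q8056 : ∀ i, i < 8056 → P i := stepQ 8055 Q8055 (allL N8055 (tt N7185 F67062) (tt N7906 F67063) (tt N9660 (iv F84516)) (tt N9679 (iv F84624)) (tt N6646 F67064) (tt N9675 (iv F84595)) (tt N8055 F67065) (tt N9681 (iv F84636)) (tt N6643 (iv D14680)) (tt N9682 D18709))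
theorem Q8057 : ∀ i, i < 8057 → P i := stepQ 8056 Q8056 (allL N8056 (tt N7186 F67066) (tt N9565 (iv F83880)) (tt N9664 (iv F84534)) (tt N8056 F67067) (tt N9680 (iv F84629)) (tt N8056 F67068) (tt N6645 (iv D14681)) (tt N8056 F67069) (tt N9683 D18710) (tt N6678 F67070))
theorem Q8058 : ∀ i, i < 8058 → P i := stepQ 8057 Q8057 (allL N8057 (tt N7187 F67071) (tt N9566 (iv F83887)) (tt N9665 (iv F84539)) (tt N8057 F67072) (tt N9681 (iv F84635)) (tt N9611 (iv F84188)) (tt N9683 (iv F84644)) (tt N6646 F67073) (tt N6645 (iv D14682)) (tt N9684 D18711))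
theorem Q8059 : ∀ i, i < 8059 → P i := stepQ 8058 Q8058 (allL N8058 (tt N7188 F67074) (tt N9567 (iv F83892)) (tt N9666 (iv F84542)) (tt N8058 F67075) (tt N9682 (iv F84639)) (tt N9612 (iv F84192)) (tt N8058 F67076) (tt N9684 (iv F84648)) (tt N6680 F67077) (tt N6646 (iv D14683)))
theorem Q8060 : ∀ i, i < 8060 → P i := stepQ 8059 Q8059 (allL N8059 (tt N7190 F67084) (tt N7408 F133331) (tt N6648 F67085) (tt N6854 F67086) (tt N9671 (iv F84575)) (tt N9685 D18714) (tt N6647 (iv D14685)) (tt N9686 D18715) (tt N6651 F67087) (tt N7370 F133332))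
theorem Q8061 : ∀ i, i < 8061 → P i := stepQ 8060 Q8060 (allL N8060 (tt N7191 F67089) (tt N7688 F134560) (tt N9685 (iv F84663)) (tt N6649 F67091) (tt N9687 D18716) (tt N6648 (iv D14686)) (tt N8060 F67092) (tt N9688 D18717) (tt N8060 F67093) (tt N7455 F67094))
theorem Q8062 : ∀ i, i < 8062 → P i := stepQ 8061 Q8061 (allL N8061 (tt N7192 F67095) (tt N7814 F134561) (tt N9686 (iv F84669)) (tt N6650 F67097) (tt N9673 (iv F84585)) (tt N9688 (iv F84682)) (tt N7462 F67098) (tt N6648 (iv D14687)) (tt N6652 F67099) (tt N7456 F67100))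
theorem Q8063 : ∀ i, i < 8063 → P i := stepQ 8062 Q8062 (allL N8062 (tt N7193 F67101) (tt N7861 F67102) (tt N6857 F67103) (tt N9688 (iv F84681)) (tt N9621 (iv F84244)) (tt N6650 F67104) (tt N9689 D18718) (tt N6649 (iv D14688)) (tt N8062 F67105) (tt N7457 F67106))
theorem Q8064 : ∀ i, i < 8064 → P i := stepQ 8063 Q8063 (allL N8063 (tt N7195 F67118) (tt N7523 F133453) (tt N6652 F67119) (tt N6865 F67120) (tt N9677 (iv F84613)) (tt N8063 F67121) (tt N7553 F67122) (tt N6651 (iv D14691)) (tt N9686 (iv F84672)) (tt N6681 F67123))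
theorem Q8065 : ∀ i, i < 8065 → P i := stepQ 8064 Q8064 (allL N8064 (tt N6658 F67124) (tt N7196 F67125) (tt N9690 D18721) (tt N6653 (iv D14692)) (tt N6871 F67126) (tt N8064 F67127) (tt N9691 D18722) (tt N7474 F67128) (tt N7477 F67129) (tt N9629 (iv F84351)))
theorem Q8066 : ∀ i, i < 8066 → P i := stepQ 8065 Q8065 (allL N8065 (tt N6659 F67130) (tt N7197 F67131) (tt N7874 F67132) (tt N9691 (iv F84712)) (tt N6654 F67133) (tt N9692 D18723) (tt N6653 (iv D14693)) (tt N9693 D18724) (tt N7478 F67134) (tt N9630 (iv F84356)))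
theorem Q8067 : ∀ i, i < 8067 → P i := stepQ 8066 Q8066 (allL N8066 (tt N6660 F67135) (tt N7198 F67136) (tt N7875 F67137) (tt N6873 F67138) (tt N9693 (iv F84723)) (tt N6657 F67139) (tt N7476 F67140) (tt N6654 (iv D14694)) (tt N7479 F67141) (tt N9631 (iv F84363)))
theorem Q8068 : ∀ i, i < 8068 → P i := stepQ 8067 Q8067 (allL N8067 (tt N6662 F67147) (tt N7199 F67148) (tt N7639 (iv F132926)) (tt N6656 F67149) (tt N6874 F67150) (tt N9694 D18727) (tt N6655 (iv D14696)) (tt N9695 D18728) (tt N8067 F67151) (tt N9632 (iv F84373)))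
theorem Q8069 : ∀ i, i < 8069 → P i := stepQ 8068 Q8068 (allL N8068 (tt N6663 F67152) (tt N7200 F67153) (tt N9569 (iv F83910)) (tt N9694 (iv F84738)) (tt N9692 (iv F84718)) (tt N6656 (iv D14697)) (tt N8068 F67154) (tt N9696 D18729) (tt N9697 D18730) (tt N9633 (iv F84377)))
theorem Q8070 : ∀ i, i < 8070 → P i := stepQ 8069 Q8069 (allL N8069 (tt N6664 F67155) (tt N7201 F67156) (tt N9570 (iv F83915)) (tt N9695 (iv F84742)) (tt N6657 F67157) (tt N9696 (iv F84748)) (tt N8069 F67158) (tt N6656 (iv D14698)) (tt N8069 F67159) (tt N9634 (iv F84382)))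
theorem Q8071 : ∀ i, i < 8071 → P i := stepQ 8070 Q8070 (allL N8070 (tt N9690 (iv F84704)) (tt N7630 (iv F132909)) (tt N6658 (iv D14699)) (tt N7627 F132938) (tt N6885 F67161) (tt N8070 F67162) (tt N9698 D18732) (tt N7486 F67163) (tt N7490 F67164) (tt N9638 (iv F84405)))
theorem Q8072 : ∀ i, i < 8072 → P i := stepQ 8071 Q8071 (allL N8071 (tt N9691 (iv F84710)) (tt N6666 F67165) (tt N9698 (iv F84759)) (tt N6659 F67166) (tt N6886 F67167) (tt N9699 D18733) (tt N6658 (iv D14700)) (tt N9700 D18734) (tt N7491 F67168) (tt N9639 (iv F84409)))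
theorem Q8073 : ∀ i, i < 8073 → P i := stepQ 8072 Q8072 (allL N8072 (tt N9692 (iv F84715)) (tt N6667 F67169) (tt N7882 F67170) (tt N9699 (iv F84764)) (tt N6663 F67171) (tt N6659 (iv D14701)) (tt N8072 F67172) (tt N9701 D18735) (tt N9702 D18736) (tt N9640 (iv F84414)))
theorem Q8074 : ∀ i, i < 8074 → P i := stepQ 8073 Q8073 (allL N8073 (tt N9693 (iv F84720)) (tt N6668 F67173) (tt N7883 F67174) (tt N9700 (iv F84767)) (tt N6660 F67175) (tt N9701 (iv F84774)) (tt N7489 F67176) (tt N6659 (iv D14702)) (tt N7493 F67177) (tt N9641 (iv F84419)))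
theorem Q8075 : ∀ i, i < 8075 → P i := stepQ 8074 Q8074 (allL N8074 (tt N7639 (iv F132925)) (tt N8074 F67178) (tt N6662 F67179) (tt N9571 (iv F83921)) (tt N6889 F67180) (tt N9703 D18737) (tt N6661 (iv D14703)) (tt N9704 D18738) (tt N8074 F67181) (tt N9642 (iv F84423)))
theorem Q8076 : ∀ i, i < 8076 → P i := stepQ 8075 Q8075 (allL N8075 (tt N9694 (iv F84736)) (tt N6669 F67182) (tt N9703 (iv F84781)) (tt N6663 F67183) (tt N9705 D18739) (tt N6662 (iv D14704)) (tt N8075 F67184) (tt N9706 D18740) (tt N9707 D18741) (tt N9643 (iv F84427)))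
theorem Q8077 : ∀ i, i < 8077 → P i := stepQ 8076 Q8076 (allL N8076 (tt N9695 (iv F84740)) (tt N6670 F67185) (tt N9704 (iv F84784)) (tt N6664 F67186) (tt N6891 F67187) (tt N9706 (iv F84793)) (tt N8076 F67188) (tt N6662 (iv D14705)) (tt N8076 F67189) (tt N9644 (iv F84432)))
theorem Q8078 : ∀ i, i < 8078 → P i := stepQ 8077 Q8077 (allL N8077 (tt N9696 (iv F84746)) (tt N6671 F67190) (tt N9574 (iv F83933)) (tt N9706 (iv F84792)) (tt N9701 (iv F84773)) (tt N6664 F67191) (tt N9708 D18742) (tt N6663 (iv D14706)) (tt N9709 D18743) (tt N9645 (iv F84435)))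
theorem Q8079 : ∀ i, i < 8079 → P i := stepQ 8078 Q8078 (allL N8078 (tt N9697 (iv F84749)) (tt N6672 F67192) (tt N9575 (iv F83937)) (tt N9707 (iv F84795)) (tt N9702 (iv F84777)) (tt N8078 F67193) (tt N8078 F67194) (tt N9709 (iv F84803)) (tt N6663 (iv D14707)) (tt N9710 D18744))
theorem Q8080 : ∀ i, i < 8080 → P i := stepQ 8079 Q8079 (allL N8079 (tt N7211 F67200) (tt N7517 F133409) (tt N6666 F67201) (tt N6673 F67202) (tt N6906 F67203) (tt N9711 D18747) (tt N6665 (iv D14709)) (tt N9712 D18748) (tt N7496 F133410) (tt N9656 (iv F84500)))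
theorem Q8081 : ∀ i, i < 8081 → P i := stepQ 8080 Q8080 (allL N8080 (tt N7212 F67205) (tt N9699 (iv F84763)) (tt N9711 (iv F84818)) (tt N6667 F67206) (tt N9713 D18749) (tt N6666 (iv D14710)) (tt N8080 F67207) (tt N9714 D18750) (tt N9715 D18751) (tt N9657 (iv F84504)))
theorem Q8082 : ∀ i, i < 8082 → P i := stepQ 8081 Q8081 (allL N8081 (tt N7213 F67208) (tt N9700 (iv F84766)) (tt N9712 (iv F84822)) (tt N6668 F67209) (tt N6908 F67210) (tt N9714 (iv F84833)) (tt N7506 F67211) (tt N6666 (iv D14711)) (tt N7509 F67212) (tt N9658 (iv F84509)))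
theorem Q8083 : ∀ i, i < 8083 → P i := stepQ 8082 Q8082 (allL N8082 (tt N7214 F67213) (tt N9701 (iv F84771)) (tt N6676 F67214) (tt N9714 (iv F84832)) (tt N6671 F67215) (tt N6668 F67216) (tt N9716 D18752) (tt N6667 (iv D14712)) (tt N9717 D18753) (tt N9659 (iv F84514)))
theorem Q8084 : ∀ i, i < 8084 → P i := stepQ 8083 Q8083 (allL N8083 (tt N7215 F67217) (tt N9702 (iv F84775)) (tt N6677 F67218) (tt N9715 (iv F84835)) (tt N6672 F67219) (tt N7511 F67220) (tt N8083 F67221) (tt N9717 (iv F84847)) (tt N6667 (iv D14713)) (tt N9718 D18754))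
theorem Q8085 : ∀ i, i < 8085 → P i := stepQ 8084 Q8084 (allL N8084 (tt N7216 F67222) (tt N9705 (iv F84788)) (tt N8084 F67223) (tt N9713 (iv F84828)) (tt N6669 (iv D14714)) (tt N6911 F67224) (tt N8084 F67225) (tt N9719 D18755) (tt N9720 D18756) (tt N9661 (iv F84523)))
theorem Q8086 : ∀ i, i < 8086 → P i := stepQ 8085 Q8085 (allL N8085 (tt N7217 F67226) (tt N9706 (iv F84791)) (tt N8085 F67227) (tt N6671 F67228) (tt N9719 (iv F84855)) (tt N6670 F67229) (tt N9721 D18757) (tt N6669 (iv D14715)) (tt N9722 D18758) (tt N9662 (iv F84528)))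
theorem Q8087 : ∀ i, i < 8087 → P i := stepQ 8086 Q8086 (allL N8086 (tt N7218 F67230) (tt N9707 (iv F84794)) (tt N8086 F67231) (tt N6672 F67232) (tt N9720 (iv F84859)) (tt N8086 F67233) (tt N8086 F67234) (tt N9722 (iv F84870)) (tt N6669 (iv D14716)) (tt N9723 D18759))
theorem Q8088 : ∀ i, i < 8088 → P i := stepQ 8087 Q8087 (allL N8087 (tt N7219 F67235) (tt N9708 (iv F84798)) (tt N6678 F67236) (tt N9721 (iv F84863)) (tt N9716 (iv F84840)) (tt N8087 F67237) (tt N6671 (iv D14717)) (tt N8087 F67238) (tt N9724 D18760) (tt N9664 (iv F84537)))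
theorem Q8089 : ∀ i, i < 8089 → P i := stepQ 8088 Q8088 (allL N8088 (tt N7220 F67239) (tt N9709 (iv F84801)) (tt N6679 F67240) (tt N9722 (iv F84868)) (tt N9717 (iv F84845)) (tt N8088 F67241) (tt N9724 (iv F84878)) (tt N6672 F67242) (tt N6671 (iv D14718)) (tt N9725 D18761))
theorem Q8090 : ∀ i, i < 8090 → P i := stepQ 8089 Q8089 (allL N8089 (tt N7221 F67243) (tt N9710 (iv F84804)) (tt N6680 F67244) (tt N9723 (iv F84873)) (tt N9718 (iv F84850)) (tt N8089 F67245) (tt N8089 F67246) (tt N9725 (iv F84883)) (tt N9666 (iv F84544)) (tt N6672 (iv D14719)))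
theorem Q8091 : ∀ i, i < 8091 → P i := stepQ 8090 Q8090 (allL N8090 (tt N7223 F67257) (tt N7508 F133415) (tt N6674 F67258) (tt N9711 (iv F84819)) (tt N8090 F67259) (tt N6673 (iv D14722)) (tt N8090 F67260) (tt N9726 D18765) (tt N7488 (iv F133963)) (tt N9676 (iv F84610)))
theorem Q8092 : ∀ i, i < 8092 → P i := stepQ 8091 Q8091 (allL N8091 (tt N7224 F67261) (tt N7519 F133413) (tt N6675 F67262) (tt N9712 (iv F84823)) (tt N6681 F67263) (tt N9726 (iv F84901)) (tt N7532 F67264) (tt N6673 (iv D14723)) (tt N7498 F133414) (tt N9677 (iv F84615)))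
theorem Q8093 : ∀ i, i < 8093 → P i := stepQ 8092 Q8092 (allL N8092 (tt N7225 F67266) (tt N7902 F134587) (tt N9726 (iv F84899)) (tt N6676 F67268) (tt N8092 F67269) (tt N6675 F67270) (tt N9727 D18767) (tt N6674 (iv D14724)) (tt N7886 F134588) (tt N9678 (iv F84621)))
theorem Q8094 : ∀ i, i < 8094 → P i := stepQ 8093 Q8093 (allL N8093 (tt N7227 F67277) (tt N7907 F67278) (tt N9716 (iv F84839)) (tt N9727 (iv F84909)) (tt N6678 F67279) (tt N7536 F67280) (tt N6676 (iv D14726)) (tt N8093 F67281) (tt N9728 D18770) (tt N9680 (iv F84632)))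
theorem Q8095 : ∀ i, i < 8095 → P i := stepQ 8094 Q8094 (allL N8094 (tt N7228 F67282) (tt N7900 F134581) (tt N9717 (iv F84844)) (tt N7886 F134582) (tt N6679 F67284) (tt N7540 F67285) (tt N9728 (iv F84928)) (tt N6677 F67286) (tt N6676 (iv D14727)) (tt N9729 D18771))
theorem Q8096 : ∀ i, i < 8096 → P i := stepQ 8095 Q8095 (allL N8095 (tt N7229 F67287) (tt N7895 F134583) (tt N9718 (iv F84849)) (tt N7884 F134584) (tt N6680 F67289) (tt N7541 F67290) (tt N8095 F67291) (tt N9729 (iv F84934)) (tt N9682 (iv F84641)) (tt N6677 (iv D14728)))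
theorem Q8097 : ∀ i, i < 8097 → P i := stepQ 8096 Q8096 (allL N8096 (tt N7230 F67292) (tt N9582 (iv F83971)) (tt N9724 (iv F84877)) (tt N8096 F67293) (tt N9728 (iv F84927)) (tt N9730 D18772) (tt N6679 F67294) (tt N8096 F67295) (tt N6678 (iv D14729)) (tt N9731 D18773))
theorem Q8098 : ∀ i, i < 8098 → P i := stepQ 8097 Q8097 (allL N8097 (tt N7231 F67296) (tt N9583 (iv F83977)) (tt N9725 (iv F84881)) (tt N8097 F67297) (tt N9729 (iv F84932)) (tt N8097 F67298) (tt N9731 (iv F84942)) (tt N6680 F67299) (tt N9684 (iv F84649)) (tt N6679 (iv D14730)))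
theorem Q8099 : ∀ i, i < 8099 → P i := stepQ 8098 Q8098 (allL N8098 (tt N6687 F67312) (tt N7233 F67313) (tt N8098 F67314) (tt N6786 F67315) (tt N9732 D18775) (tt N6682 (iv D14733)) (tt N9733 D18776) (tt N6785 F67316) (tt N6683 F67317) (tt N7159 F67318))
theorem Q8100 : ∀ i, i < 8100 → P i := stepQ 8099 Q8099 (allL N8099 (tt N6688 F67319) (tt N7234 F67320) (tt N8099 F67321) (tt N9734 D18777) (tt N6683 (iv D14734)) (tt N8099 F67322) (tt N9735 D18778) (tt N6981 F67323) (tt N9732 (iv F84956)) (tt N8099 F67324))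
theorem Q8101 : ∀ i, i < 8101 → P i := stepQ 8100 Q8100 (allL N8100 (tt N6689 F67325) (tt N7235 F67326) (tt N8100 F67327) (tt N6984 F67328) (tt N9735 (iv F84974)) (tt N6685 F67329) (tt N6683 (iv D14735)) (tt N9736 D18779) (tt N9733 (iv F84963)) (tt N8100 F67330))
theorem Q8102 : ∀ i, i < 8102 → P i := stepQ 8101 Q8101 (allL N8101 (tt N6690 F67331) (tt N7236 F67332) (tt N7339 F132983) (tt N6684 (iv D14736)) (tt N7338 (iv F133734)) (tt N8101 F67333) (tt N9737 D18781) (tt N8101 F67334) (tt N6766 F67335) (tt N8101 F67336))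
theorem Q8103 : ∀ i, i < 8103 → P i := stepQ 8102 Q8102 (allL N8102 (tt N6691 F67337) (tt N7237 F67338) (tt N8102 F67339) (tt N9737 (iv F84991)) (tt N6685 F67340) (tt N9738 D18782) (tt N6684 (iv D14737)) (tt N9739 D18783) (tt N6767 F67341) (tt N8102 F67342))
theorem Q8104 : ∀ i, i < 8104 → P i := stepQ 8103 Q8103 (allL N8103 (tt N6692 F67343) (tt N7238 F67344) (tt N8103 F67345) (tt N9587 (iv F84039)) (tt N9739 (iv F85002)) (tt N9736 (iv F84980)) (tt N8103 F67346) (tt N6685 (iv D14738)) (tt N6768 F67347) (tt N8103 F67348))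
theorem Q8105 : ∀ i, i < 8105 → P i := stepQ 8104 Q8104 (allL N8104 (tt N7371 F67349) (tt N6696 F67350) (tt N8104 F67351) (tt N6787 F67352) (tt N9740 D18784) (tt N6686 (iv D14739)) (tt N9741 D18785) (tt N7159 F67353) (tt N8104 F67354) (tt N6785 F67355))
theorem Q8106 : ∀ i, i < 8106 → P i := stepQ 8105 Q8105 (allL N8105 (tt N9732 (iv F84951)) (tt N6701 F67356) (tt N8105 F67357) (tt N9742 D18786) (tt N6687 (iv D14740)) (tt N9740 (iv F85009)) (tt N9743 D18787) (tt N7372 F67358) (tt N6688 F67359) (tt N9647 (iv F84444)))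
theorem Q8107 : ∀ i, i < 8107 → P i := stepQ 8106 Q8106 (allL N8106 (tt N9733 (iv F84958)) (tt N6702 F67360) (tt N8106 F67361) (tt N7375 F67362) (tt N9743 (iv F85026)) (tt N6775 F67363) (tt N6687 (iv D14741)) (tt N9744 D18788) (tt N6689 F67364) (tt N9648 (iv F84451)))
theorem Q8108 : ∀ i, i < 8108 → P i := stepQ 8107 Q8107 (allL N8107 (tt N9734 (iv F84965)) (tt N6705 F67365) (tt N9745 D18789) (tt N6688 (iv D14742)) (tt N7576 F67366) (tt N8107 F67367) (tt N9746 D18790) (tt N7573 F67368) (tt N9742 (iv F85023)) (tt N8107 F67369))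
theorem Q8109 : ∀ i, i < 8109 → P i := stepQ 8108 Q8108 (allL N8108 (tt N9735 (iv F84971)) (tt N6706 F67370) (tt N8108 F67371) (tt N9746 (iv F85040)) (tt N6689 F67372) (tt N9747 D18791) (tt N6688 (iv D14743)) (tt N9748 D18792) (tt N9743 (iv F85027)) (tt N8108 F67373))
theorem Q8110 : ∀ i, i < 8110 → P i := stepQ 8109 Q8109 (allL N8109 (tt N9736 (iv F84976)) (tt N6707 F67374) (tt N8109 F67375) (tt N7578 F67376) (tt N9748 (iv F85050)) (tt N6692 F67377) (tt N7575 F67378) (tt N6689 (iv D14744)) (tt N9744 (iv F85033)) (tt N8109 F67379))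
theorem Q8111 : ∀ i, i < 8111 → P i := stepQ 8110 Q8110 (allL N8110 (tt N7339 (iv F132932)) (tt N8110 F67380) (tt N6690 (iv D14745)) (tt N8110 F67381) (tt N6756 (iv F132969)) (tt N8110 F67382) (tt N9749 D18793) (tt N8110 F67383) (tt N6781 F67384) (tt N8110 F67385))
theorem Q8112 : ∀ i, i < 8112 → P i := stepQ 8111 Q8111 (allL N8111 (tt N9737 (iv F84989)) (tt N6708 F67386) (tt N9749 (iv F85054)) (tt N6691 F67387) (tt N9588 (iv F84053)) (tt N9750 D18794) (tt N6690 (iv D14746)) (tt N9751 D18795) (tt N6782 F67388) (tt N8111 F67389))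
theorem Q8113 : ∀ i, i < 8113 → P i := stepQ 8112 Q8112 (allL N8112 (tt N9738 (iv F84994)) (tt N6709 F67390) (tt N8112 F67391) (tt N9750 (iv F85059)) (tt N9747 (iv F85045)) (tt N6691 (iv D14747)) (tt N8112 F67392) (tt N9752 D18796) (tt N9753 D18797) (tt N8112 F67393))
theorem Q8114 : ∀ i, i < 8114 → P i := stepQ 8113 Q8113 (allL N8113 (tt N9739 (iv F84999)) (tt N6710 F67394) (tt N8113 F67395) (tt N9751 (iv F85063)) (tt N6692 F67396) (tt N9752 (iv F85069)) (tt N8113 F67397) (tt N6691 (iv D14748)) (tt N6784 F67398) (tt N8113 F67399))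
theorem Q8115 : ∀ i, i < 8115 → P i := stepQ 8114 Q8114 (allL N8114 (tt N7252 F67400) (tt N6787 F67401) (tt N8114 F67402) (tt N6696 F67403) (tt N9754 D18798) (tt N6693 (iv D14749)) (tt N9755 D18799) (tt N7150 F67404) (tt N8114 F67405) (tt N6770 F67406))
theorem Q8116 : ∀ i, i < 8116 → P i := stepQ 8115 Q8115 (allL N8115 (tt N7241 F67407) (tt N7159 F67408) (tt N6711 F67409) (tt N7150 F67410) (tt N9756 D18800) (tt N6694 (iv D14750)) (tt N9757 D18801) (tt N6696 F67411) (tt N8115 F67412) (tt N7233 F67413))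
theorem Q8117 : ∀ i, i < 8117 → P i := stepQ 8116 Q8116 (allL N8116 (tt N7240 F67414) (tt N6785 F67415) (tt N6712 F67416) (tt N6770 F67417) (tt N9758 D18802) (tt N6695 (iv D14751)) (tt N9759 D18803) (tt N7233 F67418) (tt N6962 F67419) (tt N6696 F67420))
theorem Q8118 : ∀ i, i < 8118 → P i := stepQ 8117 Q8117 (allL N8117 (tt N7253 F67421) (tt N9740 (iv F85007)) (tt N6713 F67422) (tt N9760 D18804) (tt N6696 (iv D14752)) (tt N6701 F67423) (tt N9761 D18805) (tt N9756 (iv F85093)) (tt N8117 F67424) (tt N9758 (iv F85109)))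
theorem Q8119 : ∀ i, i < 8119 → P i := stepQ 8118 Q8118 (allL N8118 (tt N7254 F67425) (tt N9741 (iv F85014)) (tt N6714 F67426) (tt N9755 (iv F85085)) (tt N9761 (iv F85122)) (tt N6789 F67427) (tt N6696 (iv D14753)) (tt N9762 D18806) (tt N8118 F67428) (tt N9759 (iv F85116)))
theorem Q8120 : ∀ i, i < 8120 → P i := stepQ 8119 Q8119 (allL N8119 (tt N7255 F67429) (tt N7252 F67430) (tt N6715 F67431) (tt N7239 F67432) (tt N9763 D18807) (tt N6697 (iv D14754)) (tt N9764 D18808) (tt N6790 F67433) (tt N8119 F67434) (tt N7101 F67435))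
theorem Q8121 : ∀ i, i < 8121 → P i := stepQ 8120 Q8120 (allL N8120 (tt N7239 F67436) (tt N7371 F67437) (tt N6716 F67438) (tt N7255 F67439) (tt N9765 D18809) (tt N6698 (iv D14755)) (tt N9766 D18810) (tt N6700 F67440) (tt N8120 F67441) (tt N6699 F67442))
theorem Q8122 : ∀ i, i < 8122 → P i := stepQ 8121 Q8121 (allL N8121 (tt N7256 F67443) (tt N7372 F67444) (tt N6717 F67445) (tt N9767 D18811) (tt N6699 (iv D14756)) (tt N9756 (iv F85092)) (tt N9768 D18812) (tt N6701 F67446) (tt N6703 F67447) (tt N9765 (iv F85148)))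
theorem Q8123 : ∀ i, i < 8123 → P i := stepQ 8122 Q8122 (allL N8122 (tt N7257 F67448) (tt N7373 F67449) (tt N6718 F67450) (tt N7353 F67451) (tt N9768 (iv F85164)) (tt N9764 (iv F85139)) (tt N6699 (iv D14757)) (tt N9769 D18813) (tt N6704 F67452) (tt N9766 (iv F85155)))
theorem Q8124 : ∀ i, i < 8124 → P i := stepQ 8123 Q8123 (allL N8123 (tt N7258 F67453) (tt N9647 (iv F84439)) (tt N6719 F67454) (tt N9770 D18814) (tt N6700 (iv D14758)) (tt N9758 (iv F85106)) (tt N9771 D18815) (tt N9765 (iv F85146)) (tt N8123 F67455) (tt N6701 F67456))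
theorem Q8125 : ∀ i, i < 8125 → P i := stepQ 8124 Q8124 (allL N8124 (tt N7259 F67457) (tt N9648 (iv F84446)) (tt N6720 F67458) (tt N7382 F67459) (tt N9771 (iv F85178)) (tt N6794 F67460) (tt N6700 (iv D14759)) (tt N9772 D18816) (tt N8124 F67461) (tt N6702 F67462))
theorem Q8126 : ∀ i, i < 8126 → P i := stepQ 8125 Q8125 (allL N8125 (tt N7260 F67463) (tt N9742 (iv F85020)) (tt N9773 D18817) (tt N6701 (iv D14760)) (tt N9591 (iv F84069)) (tt N9760 (iv F85118)) (tt N9774 D18818) (tt N9767 (iv F85159)) (tt N6705 F67464) (tt N9770 (iv F85175)))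
theorem Q8127 : ∀ i, i < 8127 → P i := stepQ 8126 Q8126 (allL N8126 (tt N7261 F67465) (tt N9743 (iv F85024)) (tt N6722 F67466) (tt N9774 (iv F85191)) (tt N6702 F67467) (tt N9775 D18819) (tt N6701 (iv D14761)) (tt N9776 D18820) (tt N6706 F67468) (tt N9771 (iv F85180)))
theorem Q8128 : ∀ i, i < 8128 → P i := stepQ 8127 Q8127 (allL N8127 (tt N7262 F67469) (tt N9744 (iv F85028)) (tt N6723 F67470) (tt N9593 (iv F84083)) (tt N9776 (iv F85198)) (tt N6797 F67471) (tt N9769 (iv F85170)) (tt N6702 (iv D14762)) (tt N6707 F67472) (tt N9772 (iv F85186)))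
theorem Q8129 : ∀ i, i < 8129 → P i := stepQ 8128 Q8128 (allL N8128 (tt N7263 F67473) (tt N7573 F67474) (tt N9777 D18821) (tt N6703 (iv D14763)) (tt N7562 F67475) (tt N8128 F67476) (tt N9778 D18822) (tt N6705 F67477) (tt N9767 (iv F85160)) (tt N8128 F67478))
theorem Q8130 : ∀ i, i < 8130 → P i := stepQ 8129 Q8129 (allL N8129 (tt N7264 F67479) (tt N7574 F67480) (tt N6725 F67481) (tt N9778 (iv F85208)) (tt N6704 F67482) (tt N9779 D18823) (tt N6703 (iv D14764)) (tt N9780 D18824) (tt N9768 (iv F85165)) (tt N8129 F67483))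
theorem Q8131 : ∀ i, i < 8131 → P i := stepQ 8130 Q8130 (allL N8130 (tt N7265 F67484) (tt N7575 F67485) (tt N6726 F67486) (tt N7564 F67487) (tt N9780 (iv F85220)) (tt N8130 F67488) (tt N6707 F67489) (tt N6704 (iv D14765)) (tt N9769 (iv F85171)) (tt N8130 F67490))
theorem Q8132 : ∀ i, i < 8132 → P i := stepQ 8131 Q8131 (allL N8131 (tt N7266 F67491) (tt N9781 D18825) (tt N6705 (iv D14766)) (tt N6727 F67492) (tt N9594 (iv F84090)) (tt N8131 F67493) (tt N9782 D18826) (tt N9777 (iv F85204)) (tt N9773 (iv F85189)) (tt N8131 F67494))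
theorem Q8133 : ∀ i, i < 8133 → P i := stepQ 8132 Q8132 (allL N8132 (tt N7267 F67495) (tt N9746 (iv F85039)) (tt N9782 (iv F85227)) (tt N6706 F67496) (tt N9595 (iv F84097)) (tt N9783 D18827) (tt N6705 (iv D14767)) (tt N9784 D18828) (tt N9774 (iv F85192)) (tt N8132 F67497))
theorem Q8134 : ∀ i, i < 8134 → P i := stepQ 8133 Q8133 (allL N8133 (tt N7268 F67498) (tt N9747 (iv F85043)) (tt N6729 F67499) (tt N9783 (iv F85231)) (tt N6709 F67500) (tt N6706 (iv D14768)) (tt N8133 F67501) (tt N9785 D18829) (tt N9786 D18830) (tt N8133 F67502))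
theorem Q8135 : ∀ i, i < 8135 → P i := stepQ 8134 Q8134 (allL N8134 (tt N7269 F67503) (tt N9748 (iv F85048)) (tt N6730 F67504) (tt N9784 (iv F85235)) (tt N6707 F67505) (tt N9785 (iv F85240)) (tt N9780 (iv F85221)) (tt N6706 (iv D14769)) (tt N9776 (iv F85199)) (tt N8134 F67506))
theorem Q8136 : ∀ i, i < 8136 → P i := stepQ 8135 Q8135 (allL N8135 (tt N7270 F67507) (tt N9750 (iv F85058)) (tt N8135 F67508) (tt N6709 F67509) (tt N9787 D18831) (tt N6708 (iv D14770)) (tt N8135 F67510) (tt N9788 D18832) (tt N9789 D18833) (tt N8135 F67511))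
theorem Q8137 : ∀ i, i < 8137 → P i := stepQ 8136 Q8136 (allL N8136 (tt N7271 F67512) (tt N9751 (iv F85062)) (tt N8136 F67513) (tt N6710 F67514) (tt N9599 (iv F84118)) (tt N9788 (iv F85253)) (tt N8136 F67515) (tt N6708 (iv D14771)) (tt N6806 F67516) (tt N8136 F67517))
theorem Q8138 : ∀ i, i < 8138 → P i := stepQ 8137 Q8137 (allL N8137 (tt N7272 F67518) (tt N9752 (iv F85067)) (tt N6731 F67519) (tt N9788 (iv F85252)) (tt N9785 (iv F85239)) (tt N6710 F67520) (tt N9790 D18834) (tt N6709 (iv D14772)) (tt N9791 D18835) (tt N8137 F67521))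
theorem Q8139 : ∀ i, i < 8139 → P i := stepQ 8138 Q8138 (allL N8138 (tt N7273 F67522) (tt N9753 (iv F85071)) (tt N6732 F67523) (tt N9789 (iv F85257)) (tt N9786 (iv F85244)) (tt N6808 F67524) (tt N8138 F67525) (tt N9791 (iv F85268)) (tt N6709 (iv D14773)) (tt N9792 D18836))
theorem Q8140 : ∀ i, i < 8140 → P i := stepQ 8139 Q8139 (allL N8139 (tt N7274 F67526) (tt N8139 F67527) (tt N9756 (iv F85091)) (tt N9793 D18837) (tt N6711 (iv D14774)) (tt N6717 F67528) (tt N9794 D18838) (tt N6713 F67529) (tt N8139 F67530) (tt N7641 F67531))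
theorem Q8141 : ∀ i, i < 8141 → P i := stepQ 8140 Q8140 (allL N8140 (tt N7275 F67532) (tt N8140 F67533) (tt N9757 (iv F85098)) (tt N8140 F67534) (tt N9794 (iv F85283)) (tt N7770 F67535) (tt N6711 (iv D14775)) (tt N9795 D18839) (tt N8140 F67536) (tt N7642 F67537))
theorem Q8142 : ∀ i, i < 8142 → P i := stepQ 8141 Q8141 (allL N8141 (tt N7276 F67538) (tt N8141 F67539) (tt N9758 (iv F85105)) (tt N9796 D18840) (tt N6712 (iv D14776)) (tt N6719 F67540) (tt N9797 D18841) (tt N7641 F67541) (tt N7643 F67542) (tt N6713 F67543))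
theorem Q8143 : ∀ i, i < 8143 → P i := stepQ 8142 Q8142 (allL N8142 (tt N7277 F67544) (tt N8142 F67545) (tt N9759 (iv F85112)) (tt N8142 F67546) (tt N9797 (iv F85302)) (tt N6813 F67547) (tt N6712 (iv D14777)) (tt N9798 D18842) (tt N7644 F67548) (tt N6714 F67549))
theorem Q8144 : ∀ i, i < 8144 → P i := stepQ 8143 Q8143 (allL N8143 (tt N7278 F67550) (tt N8143 F67551) (tt N9799 D18843) (tt N6713 (iv D14778)) (tt N8143 F67552) (tt N6721 F67553) (tt N9800 D18844) (tt N9793 (iv F85278)) (tt N8143 F67554) (tt N9796 (iv F85299)))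
theorem Q8145 : ∀ i, i < 8145 → P i := stepQ 8144 Q8144 (allL N8144 (tt N7279 F67555) (tt N8144 F67556) (tt N9761 (iv F85121)) (tt N9800 (iv F85318)) (tt N6714 F67557) (tt N9801 D18845) (tt N6713 (iv D14779)) (tt N9802 D18846) (tt N8144 F67558) (tt N9797 (iv F85304)))
theorem Q8146 : ∀ i, i < 8146 → P i := stepQ 8145 Q8145 (allL N8145 (tt N7280 F67559) (tt N8145 F67560) (tt N9762 (iv F85125)) (tt N8145 F67561) (tt N9802 (iv F85327)) (tt N6816 F67562) (tt N9795 (iv F85290)) (tt N6714 (iv D14780)) (tt N8145 F67563) (tt N9798 (iv F85311)))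
theorem Q8147 : ∀ i, i < 8147 → P i := stepQ 8146 Q8146 (allL N8146 (tt N7281 F67564) (tt N8146 F67565) (tt N9763 (iv F85130)) (tt N9803 D18847) (tt N6715 (iv D14781)) (tt N7769 F67566) (tt N9804 D18848) (tt N6817 F67567) (tt N8146 F67568) (tt N7114 F67569))
theorem Q8148 : ∀ i, i < 8148 → P i := stepQ 8147 Q8147 (allL N8147 (tt N7282 F67570) (tt N8147 F67571) (tt N9764 (iv F85137)) (tt N6734 F67572) (tt N9804 (iv F85338)) (tt N6718 F67573) (tt N6715 (iv D14782)) (tt N9805 D18849) (tt N8147 F67574) (tt N7115 F67575))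
theorem Q8149 : ∀ i, i < 8149 → P i := stepQ 8148 Q8148 (allL N8148 (tt N7283 F67576) (tt N8148 F67577) (tt N9765 (iv F85144)) (tt N9806 D18850) (tt N6716 (iv D14783)) (tt N7641 F67578) (tt N9807 D18851) (tt N6719 F67579) (tt N8148 F67580) (tt N6717 F67581))
theorem Q8150 : ∀ i, i < 8150 → P i := stepQ 8149 Q8149 (allL N8149 (tt N7284 F67582) (tt N8149 F67583) (tt N9766 (iv F85151)) (tt N6736 F67584) (tt N9807 (iv F85357)) (tt N7115 F67585) (tt N6716 (iv D14784)) (tt N9808 D18852) (tt N8149 F67586) (tt N6718 F67587))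
theorem Q8151 : ∀ i, i < 8151 → P i := stepQ 8150 Q8150 (allL N8150 (tt N7285 F67588) (tt N8150 F67589) (tt N9809 D18853) (tt N6717 (iv D14785)) (tt N6737 F67590) (tt N9793 (iv F85277)) (tt N9810 D18854) (tt N6721 F67591) (tt N6724 F67592) (tt N9806 (iv F85354)))
theorem Q8152 : ∀ i, i < 8152 → P i := stepQ 8151 Q8151 (allL N8151 (tt N7286 F67593) (tt N8151 F67594) (tt N9768 (iv F85163)) (tt N9810 (iv F85373)) (tt N6718 F67595) (tt N9811 D18855) (tt N6717 (iv D14786)) (tt N9812 D18856) (tt N6725 F67596) (tt N9807 (iv F85359)))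
theorem Q8153 : ∀ i, i < 8153 → P i := stepQ 8152 Q8152 (allL N8152 (tt N7287 F67597) (tt N8152 F67598) (tt N9769 (iv F85168)) (tt N6739 F67599) (tt N9812 (iv F85380)) (tt N9805 (iv F85344)) (tt N6723 F67600) (tt N6718 (iv D14787)) (tt N6726 F67601) (tt N9808 (iv F85366)))
theorem Q8154 : ∀ i, i < 8154 → P i := stepQ 8153 Q8153 (allL N8153 (tt N7288 F67602) (tt N8153 F67603) (tt N9813 D18857) (tt N6719 (iv D14788)) (tt N6740 F67604) (tt N9796 (iv F85296)) (tt N9814 D18858) (tt N9806 (iv F85352)) (tt N8153 F67605) (tt N6721 F67606))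
theorem Q8155 : ∀ i, i < 8155 → P i := stepQ 8154 Q8154 (allL N8154 (tt N7289 F67607) (tt N8154 F67608) (tt N9771 (iv F85177)) (tt N9814 (iv F85389)) (tt N6720 F67609) (tt N9815 D18859) (tt N6719 (iv D14789)) (tt N9816 D18860) (tt N8154 F67610) (tt N6722 F67611))
theorem Q8156 : ∀ i, i < 8156 → P i := stepQ 8155 Q8155 (allL N8155 (tt N7290 F67612) (tt N8155 F67613) (tt N9772 (iv F85182)) (tt N6742 F67614) (tt N9816 (iv F85399)) (tt N6824 F67615) (tt N9808 (iv F85364)) (tt N6720 (iv D14790)) (tt N8155 F67616) (tt N6723 F67617))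
theorem Q8157 : ∀ i, i < 8157 → P i := stepQ 8156 Q8156 (allL N8156 (tt N7291 F67618) (tt N9817 D18861) (tt N6721 (iv D14791)) (tt N9773 (iv F85188)) (tt N6743 F67619) (tt N9799 (iv F85314)) (tt N9818 D18862) (tt N9809 (iv F85369)) (tt N6727 F67620) (tt N9813 (iv F85386)))
theorem Q8158 : ∀ i, i < 8158 → P i := stepQ 8157 Q8157 (allL N8157 (tt N7292 F67621) (tt N8157 F67622) (tt N9818 (iv F85406)) (tt N6722 F67623) (tt N6744 F67624) (tt N9819 D18863) (tt N6721 (iv D14792)) (tt N9820 D18864) (tt N6728 F67625) (tt N9814 (iv F85392)))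
theorem Q8159 : ∀ i, i < 8159 → P i := stepQ 8158 Q8158 (allL N8158 (tt N7293 F67626) (tt N8158 F67627) (tt N9775 (iv F85194)) (tt N9819 (iv F85411)) (tt N6827 F67628) (tt N6722 (iv D14793)) (tt N9801 (iv F85324)) (tt N9821 D18865) (tt N9822 D18866) (tt N9815 (iv F85396)))
theorem Q8160 : ∀ i, i < 8160 → P i := stepQ 8159 Q8159 (allL N8159 (tt N7294 F67629) (tt N8159 F67630) (tt N9776 (iv F85197)) (tt N9820 (iv F85414)) (tt N6723 F67631) (tt N9821 (iv F85420)) (tt N9812 (iv F85381)) (tt N6722 (iv D14794)) (tt N6730 F67632) (tt N9816 (iv F85401)))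
theorem Q8161 : ∀ i, i < 8161 → P i := stepQ 8160 Q8160 (allL N8160 (tt N7295 F67633) (tt N9823 D18867) (tt N6724 (iv D14795)) (tt N9777 (iv F85201)) (tt N6747 F67634) (tt N8160 F67635) (tt N9824 D18868) (tt N6727 F67636) (tt N9809 (iv F85370)) (tt N8160 F67637))
theorem Q8162 : ∀ i, i < 8162 → P i := stepQ 8161 Q8161 (allL N8161 (tt N7296 F67638) (tt N8161 F67639) (tt N9824 (iv F85431)) (tt N6725 F67640) (tt N6748 F67641) (tt N9825 D18869) (tt N6724 (iv D14796)) (tt N9826 D18870) (tt N9810 (iv F85375)) (tt N8161 F67642))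
theorem Q8163 : ∀ i, i < 8163 → P i := stepQ 8162 Q8162 (allL N8162 (tt N7297 F67643) (tt N8162 F67644) (tt N9779 (iv F85213)) (tt N9825 (iv F85436)) (tt N8162 F67645) (tt N6725 (iv D14797)) (tt N8162 F67646) (tt N9827 D18871) (tt N9828 D18872) (tt N8162 F67647))
theorem Q8164 : ∀ i, i < 8164 → P i := stepQ 8163 Q8163 (allL N8163 (tt N7298 F67648) (tt N8163 F67649) (tt N9780 (iv F85219)) (tt N9826 (iv F85441)) (tt N6726 F67650) (tt N9827 (iv F85448)) (tt N6730 F67651) (tt N6725 (iv D14798)) (tt N9812 (iv F85382)) (tt N8163 F67652))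
theorem Q8165 : ∀ i, i < 8165 → P i := stepQ 8164 Q8164 (allL N8164 (tt N9829 D18873) (tt N6727 (iv D14799)) (tt N8164 F67653) (tt N9781 (iv F85223)) (tt N6751 F67654) (tt N8164 F67655) (tt N9830 D18874) (tt N9823 (iv F85428)) (tt N9817 (iv F85404)) (tt N8164 F67656))
theorem Q8166 : ∀ i, i < 8166 → P i := stepQ 8165 Q8165 (allL N8165 (tt N7300 F67657) (tt N9830 (iv F85459)) (tt N6728 F67658) (tt N9782 (iv F85228)) (tt N6752 F67659) (tt N9831 D18875) (tt N6727 (iv D14800)) (tt N9832 D18876) (tt N9818 (iv F85408)) (tt N8165 F67660))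
theorem Q8167 : ∀ i, i < 8167 → P i := stepQ 8166 Q8166 (allL N8166 (tt N7301 F67661) (tt N8166 F67662) (tt N9831 (iv F85464)) (tt N6729 F67663) (tt N8166 F67664) (tt N6728 (iv D14801)) (tt N8166 F67665) (tt N9833 D18877) (tt N9834 D18878) (tt N8166 F67666))
theorem Q8168 : ∀ i, i < 8168 → P i := stepQ 8167 Q8167 (allL N8167 (tt N7302 F67667) (tt N8167 F67668) (tt N9832 (iv F85469)) (tt N6730 F67669) (tt N6753 F67670) (tt N9833 (iv F85476)) (tt N9826 (iv F85443)) (tt N6728 (iv D14802)) (tt N9820 (iv F85416)) (tt N8167 F67671))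
theorem Q8169 : ∀ i, i < 8169 → P i := stepQ 8168 Q8168 (allL N8168 (tt N7303 F67672) (tt N8168 F67673) (tt N9785 (iv F85238)) (tt N9833 (iv F85474)) (tt N6731 F67674) (tt N6730 F67675) (tt N9835 D18879) (tt N6729 (iv D14803)) (tt N9836 D18880) (tt N8168 F67676))
theorem Q8170 : ∀ i, i < 8170 → P i := stepQ 8169 Q8169 (allL N8169 (tt N7304 F67677) (tt N8169 F67678) (tt N9786 (iv F85243)) (tt N9834 (iv F85480)) (tt N6732 F67679) (tt N9822 (iv F85424)) (tt N8169 F67680) (tt N9836 (iv F85491)) (tt N6729 (iv D14804)) (tt N9837 D18881))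
theorem Q8171 : ∀ i, i < 8171 → P i := stepQ 8170 Q8170 (allL N8170 (tt N7305 F67681) (tt N8170 F67682) (tt N9790 (iv F85261)) (tt N8170 F67683) (tt N9835 (iv F85485)) (tt N8170 F67684) (tt N6731 (iv D14805)) (tt N8170 F67685) (tt N9838 D18882) (tt N8170 F67686))
theorem Q8172 : ∀ i, i < 8172 → P i := stepQ 8171 Q8171 (allL N8171 (tt N7306 F67687) (tt N8171 F67688) (tt N9791 (iv F85266)) (tt N8171 F67689) (tt N9836 (iv F85490)) (tt N6840 F67690) (tt N9838 (iv F85500)) (tt N6732 F67691) (tt N6731 (iv D14806)) (tt N9839 D18883))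
theorem Q8173 : ∀ i, i < 8173 → P i := stepQ 8172 Q8172 (allL N8172 (tt N7307 F67692) (tt N8172 F67693) (tt N9792 (iv F85270)) (tt N8172 F67694) (tt N9837 (iv F85494)) (tt N6841 F67695) (tt N8172 F67696) (tt N9839 (iv F85506)) (tt N8172 F67697) (tt N6732 (iv D14807)))
theorem Q8174 : ∀ i, i < 8174 → P i := stepQ 8173 Q8173 (allL N8173 (tt N7308 F67698) (tt N8173 F67699) (tt N9840 D18884) (tt N6733 (iv D14808)) (tt N9803 (iv F85331)) (tt N8173 F67700) (tt N9841 D18885) (tt N6842 F67701) (tt N8173 F67702) (tt N7127 F67703))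
theorem Q8175 : ∀ i, i < 8175 → P i := stepQ 8174 Q8174 (allL N8174 (tt N7309 F67704) (tt N8174 F67705) (tt N7312 F67706) (tt N9841 (iv F85516)) (tt N6734 F67707) (tt N9842 D18886) (tt N6733 (iv D14809)) (tt N9843 D18887) (tt N8174 F67708) (tt N7128 F67709))
theorem Q8176 : ∀ i, i < 8176 → P i := stepQ 8175 Q8175 (allL N8175 (tt N7310 F67710) (tt N8175 F67711) (tt N7313 F67712) (tt N9805 (iv F85343)) (tt N9843 (iv F85528)) (tt N6739 F67713) (tt N6844 F67714) (tt N6734 (iv D14810)) (tt N8175 F67715) (tt N7129 F67716))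
theorem Q8177 : ∀ i, i < 8177 → P i := stepQ 8176 Q8176 (allL N8176 (tt N7311 F67717) (tt N8176 F67718) (tt N9844 D18888) (tt N6735 (iv D14811)) (tt N9806 (iv F85350)) (tt N8176 F67719) (tt N9845 D18889) (tt N6740 F67720) (tt N8176 F67721) (tt N6737 F67722))
theorem Q8178 : ∀ i, i < 8178 → P i := stepQ 8177 Q8177 (allL N8177 (tt N7312 F67723) (tt N8177 F67724) (tt N7309 F67725) (tt N9845 (iv F85540)) (tt N6736 F67726) (tt N9846 D18890) (tt N6735 (iv D14812)) (tt N9847 D18891) (tt N8177 F67727) (tt N6738 F67728))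
theorem Q8179 : ∀ i, i < 8179 → P i := stepQ 8178 Q8178 (allL N8178 (tt N7313 F67729) (tt N8178 F67730) (tt N7310 F67731) (tt N9808 (iv F85362)) (tt N9847 (iv F85552)) (tt N7129 F67732) (tt N6742 F67733) (tt N6736 (iv D14813)) (tt N8178 F67734) (tt N6739 F67735))
theorem Q8180 : ∀ i, i < 8180 → P i := stepQ 8179 Q8179 (allL N8179 (tt N7314 F67736) (tt N9848 D18892) (tt N6737 (iv D14814)) (tt N9613 (iv F84195)) (tt N9809 (iv F85368)) (tt N8179 F67737) (tt N9849 D18893) (tt N6743 F67738) (tt N6747 F67739) (tt N9844 (iv F85537)))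
theorem Q8181 : ∀ i, i < 8181 → P i := stepQ 8180 Q8180 (allL N8180 (tt N7315 F67740) (tt N8180 F67741) (tt N9849 (iv F85561)) (tt N6738 F67742) (tt N9810 (iv F85374)) (tt N9850 D18894) (tt N6737 (iv D14815)) (tt N9851 D18895) (tt N6748 F67743) (tt N9845 (iv F85542)))
theorem Q8182 : ∀ i, i < 8182 → P i := stepQ 8181 Q8181 (allL N8181 (tt N7316 F67744) (tt N8181 F67745) (tt N9615 (iv F84209)) (tt N9850 (iv F85565)) (tt N9842 (iv F85522)) (tt N6738 (iv D14816)) (tt N8181 F67746) (tt N9852 D18896) (tt N9853 D18897) (tt N9846 (iv F85548)))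
theorem Q8183 : ∀ i, i < 8183 → P i := stepQ 8182 Q8182 (allL N8182 (tt N7317 F67747) (tt N8182 F67748) (tt N9616 (iv F84215)) (tt N9851 (iv F85569)) (tt N6739 F67749) (tt N9852 (iv F85574)) (tt N6746 F67750) (tt N6738 (iv D14817)) (tt N6750 F67751) (tt N9847 (iv F85555)))
theorem Q8184 : ∀ i, i < 8184 → P i := stepQ 8183 Q8183 (allL N8183 (tt N7318 F67752) (tt N9854 D18898) (tt N6740 (iv D14818)) (tt N7451 F67753) (tt N9813 (iv F85384)) (tt N8183 F67754) (tt N9855 D18899) (tt N9844 (iv F85535)) (tt N8183 F67755) (tt N6743 F67756))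
theorem Q8185 : ∀ i, i < 8185 → P i := stepQ 8184 Q8184 (allL N8184 (tt N7319 F67757) (tt N8184 F67758) (tt N9855 (iv F85585)) (tt N6741 F67759) (tt N9814 (iv F85390)) (tt N9856 D18900) (tt N6740 (iv D14819)) (tt N9857 D18901) (tt N8184 F67760) (tt N6744 F67761))
theorem Q8186 : ∀ i, i < 8186 → P i := stepQ 8185 Q8185 (allL N8185 (tt N7320 F67762) (tt N8185 F67763) (tt N7453 F67764) (tt N9856 (iv F85591)) (tt N6851 F67765) (tt N6741 (iv D14820)) (tt N8185 F67766) (tt N9858 D18902) (tt N9859 D18903) (tt N6745 F67767))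
theorem Q8187 : ∀ i, i < 8187 → P i := stepQ 8186 Q8186 (allL N8186 (tt N7321 F67768) (tt N8186 F67769) (tt N7454 F67770) (tt N9857 (iv F85596)) (tt N6742 F67771) (tt N9858 (iv F85603)) (tt N9847 (iv F85553)) (tt N6741 (iv D14821)) (tt N8186 F67772) (tt N6746 F67773))
theorem Q8188 : ∀ i, i < 8188 → P i := stepQ 8187 Q8187 (allL N8187 (tt N9860 D18904) (tt N6743 (iv D14822)) (tt N8187 F67774) (tt N9617 (iv F84221)) (tt N9817 (iv F85403)) (tt N8187 F67775) (tt N9861 D18905) (tt N9848 (iv F85558)) (tt N6751 F67776) (tt N9854 (iv F85583)))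
theorem Q8189 : ∀ i, i < 8189 → P i := stepQ 8188 Q8188 (allL N8188 (tt N7323 F67777) (tt N9861 (iv F85616)) (tt N6744 F67778) (tt N9618 (iv F84227)) (tt N9818 (iv F85407)) (tt N9862 D18906) (tt N6743 (iv D14823)) (tt N9863 D18907) (tt N6752 F67779) (tt N9855 (iv F85588)))
theorem Q8190 : ∀ i, i < 8190 → P i := stepQ 8189 Q8189 (allL N8189 (tt N7324 F67780) (tt N8189 F67781) (tt N9862 (iv F85620)) (tt N6745 F67782) (tt N9864 D18908) (tt N6744 (iv D14824)) (tt N8189 F67783) (tt N9865 D18909) (tt N8189 F67784) (tt N9856 (iv F85593)))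
theorem Q8191 : ∀ i, i < 8191 → P i := stepQ 8190 Q8190 (allL N8190 (tt N7325 F67785) (tt N8190 F67786) (tt N9863 (iv F85624)) (tt N6746 F67787) (tt N9820 (iv F85415)) (tt N9865 (iv F85634)) (tt N9851 (iv F85570)) (tt N6744 (iv D14825)) (tt N6753 F67788) (tt N9857 (iv F85598)))
theorem Q8192 : ∀ i, i < 8192 → P i := stepQ 8191 Q8191 (allL N8191 (tt N7326 F67789) (tt N8191 F67790) (tt N9621 (iv F84243)) (tt N9865 (iv F85633)) (tt N6857 F67791) (tt N6746 F67792) (tt N9866 D18910) (tt N6745 (iv D14826)) (tt N8191 F67793) (tt N9858 (iv F85604)))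
theorem Q8193 : ∀ i, i < 8193 → P i := stepQ 8192 Q8192 (allL N8192 (tt N9867 D18911) (tt N6747 (iv D14827)) (tt N8192 F67794) (tt N9584 F134968) (tt N9823 (iv F85426)) (tt N6754 F67795) (tt N9598 (iv F135109)) (tt N6751 F67796) (tt N9848 (iv F85559)) (tt N8192 F67797))
theorem Q8194 : ∀ i, i < 8194 → P i := stepQ 8193 Q8193 (allL N8193 (tt N7328 F67798) (tt N9598 (iv F135108)) (tt N6748 F67799) (tt N9589 (iv F135113)) (tt N9824 (iv F85432)) (tt N9588 F134423) (tt N6747 (iv D14828)) (tt N9868 D18914) (tt N9849 (iv F85562)) (tt N8193 F67800))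
theorem Q8195 : ∀ i, i < 8195 → P i := stepQ 8194 Q8194 (allL N8194 (tt N7329 F67801) (tt N8194 F67802) (tt N9588 (iv F133705)) (tt N6749 F67803) (tt N9749 F133698) (tt N6748 (iv D14829)) (tt N6756 F67804) (tt N9869 D18916) (tt N9642 F133699) (tt N8194 F67805))
theorem Q8196 : ∀ i, i < 8196 → P i := stepQ 8195 Q8195 (allL N8195 (tt N7330 F67806) (tt N8195 F67807) (tt N9868 (iv F85654)) (tt N6750 F67808) (tt N9826 (iv F85442)) (tt N9869 (iv F85666)) (tt N6753 F67809) (tt N6748 (iv D14830)) (tt N9851 (iv F85571)) (tt N8195 F67810))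
theorem Q8197 : ∀ i, i < 8197 → P i := stepQ 8196 Q8196 (allL N8196 (tt N7331 F67811) (tt N8196 F67812) (tt N9623 (iv F84272)) (tt N9869 (iv F85665)) (tt N8196 F67813) (tt N6750 F67814) (tt N8196 F67815) (tt N6749 (iv D14831)) (tt N9870 D18918) (tt N8196 F67816))
theorem Q8198 : ∀ i, i < 8198 → P i := stepQ 8197 Q8197 (allL N8197 (tt N7332 F67817) (tt N8197 F67818) (tt N9558 (iv F134413)) (tt N9642 F133684) (tt N8197 F67819) (tt N9853 (iv F85577)) (tt N6757 F67820) (tt N9870 (iv F85679)) (tt N6749 (iv D14832)) (tt N9571 F133685))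
theorem Q8199 : ∀ i, i < 8199 → P i := stepQ 8198 Q8198 (allL N8198 (tt N6751 (iv D14833)) (tt N7333 F67821) (tt N8198 F67822) (tt N9624 (iv F84283)) (tt N9829 (iv F85456)) (tt N6758 F67823) (tt N9871 D18920) (tt N9867 (iv F85644)) (tt N9860 (iv F85615)) (tt N8198 F67824))
theorem Q8200 : ∀ i, i < 8200 → P i := stepQ 8199 Q8199 (allL N8199 (tt N9871 (iv F85686)) (tt N6752 F67825) (tt N8199 F67826) (tt N9625 (iv F84287)) (tt N9830 (iv F85461)) (tt N8199 F67827) (tt N6751 (iv D14834)) (tt N9872 D18921) (tt N9861 (iv F85618)) (tt N8199 F67828))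
theorem Q8201 : ∀ i, i < 8201 → P i := stepQ 8200 Q8200 (allL N8200 (tt N7335 F67829) (tt N9872 (iv F85691)) (tt N6753 F67830) (tt N9626 (iv F84292)) (tt N9832 (iv F85470)) (tt N8200 F67831) (tt N9868 (iv F85655)) (tt N6752 (iv D14835)) (tt N9863 (iv F85625)) (tt N8200 F67832))
theorem Q8202 : ∀ i, i < 8202 → P i := stepQ 8201 Q8201 (allL N8201 (tt N6754 (iv D14836)) (tt N7336 F67833) (tt N8201 F67834) (tt N7089 F133844) (tt N8201 F67835) (tt N9867 (iv F85643)) (tt N7088 (iv F134251)) (tt N6758 F67836) (tt N8201 F67837) (tt N8201 F67838))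
theorem Q8203 : ∀ i, i < 8203 → P i := stepQ 8202 Q8202 (allL N8202 (tt N6770 F67870) (tt N7101 F67871) (tt N8202 F67872) (tt N7240 F67873) (tt N9873 D18926) (tt N6759 (iv D14842)) (tt N9874 D18927) (tt N7094 F67874) (tt N6954 F67875) (tt N7252 F67876))
theorem Q8204 : ∀ i, i < 8204 → P i := stepQ 8203 Q8203 (allL N8203 (tt N6772 F67877) (tt N7100 F67878) (tt N8203 F67879) (tt N7342 F67880) (tt N9875 D18928) (tt N6760 (iv D14843)) (tt N9876 D18929) (tt N6762 F67881) (tt N6763 F67882) (tt N7144 F67883))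
theorem Q8205 : ∀ i, i < 8205 → P i := stepQ 8204 Q8204 (allL N8204 (tt N6773 F67884) (tt N7342 F67885) (tt N8204 F67886) (tt N7100 F67887) (tt N9877 D18930) (tt N6761 (iv D14844)) (tt N9878 D18931) (tt N7144 F67888) (tt N6866 F67889) (tt N6762 F67890))
theorem Q8206 : ∀ i, i < 8206 → P i := stepQ 8205 Q8205 (allL N8205 (tt N6774 F67891) (tt N7343 F67892) (tt N8205 F67893) (tt N9879 D18932) (tt N6762 (iv D14845)) (tt N9873 (iv F85721)) (tt N9880 D18933) (tt N9875 (iv F85736)) (tt N6764 F67894) (tt N9877 (iv F85752)))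
theorem Q8207 : ∀ i, i < 8207 → P i := stepQ 8206 Q8206 (allL N8206 (tt N6775 F67895) (tt N7344 F67896) (tt N8206 F67897) (tt N9628 (iv F84342)) (tt N9880 (iv F85766)) (tt N9733 (iv F84962)) (tt N6762 (iv D14846)) (tt N9881 D18934) (tt N6765 F67898) (tt N9878 (iv F85759)))
theorem Q8208 : ∀ i, i < 8208 → P i := stepQ 8207 Q8207 (allL N8207 (tt N6776 F67899) (tt N7345 F67900) (tt N8207 F67901) (tt N9882 D18935) (tt N6763 (iv D14847)) (tt N6958 F67902) (tt N9883 D18936) (tt N6764 F67903) (tt N9875 (iv F85737)) (tt N6869 F67904))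
theorem Q8209 : ∀ i, i < 8209 → P i := stepQ 8208 Q8208 (allL N8208 (tt N6777 F67905) (tt N7346 F67906) (tt N8208 F67907) (tt N7473 F67908) (tt N9883 (iv F85781)) (tt N8208 F67909) (tt N6763 (iv D14848)) (tt N9884 D18937) (tt N9876 (iv F85744)) (tt N6870 F67910))
theorem Q8210 : ∀ i, i < 8210 → P i := stepQ 8209 Q8209 (allL N8209 (tt N6778 F67911) (tt N7347 F67912) (tt N9885 D18938) (tt N6764 (iv D14849)) (tt N9629 (iv F84348)) (tt N6960 F67913) (tt N9886 D18939) (tt N9882 (iv F85776)) (tt N9879 (iv F85762)) (tt N6871 F67914))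
theorem Q8211 : ∀ i, i < 8211 → P i := stepQ 8210 Q8210 (allL N8210 (tt N6779 F67915) (tt N7348 F67916) (tt N8210 F67917) (tt N9886 (iv F85796)) (tt N6765 F67918) (tt N9887 D18940) (tt N6764 (iv D14850)) (tt N9888 D18941) (tt N9880 (iv F85767)) (tt N6872 F67919))
theorem Q8212 : ∀ i, i < 8212 → P i := stepQ 8211 Q8211 (allL N8211 (tt N6780 F67920) (tt N7349 F67921) (tt N8211 F67922) (tt N9631 (iv F84360)) (tt N9888 (iv F85807)) (tt N6768 F67923) (tt N9884 (iv F85788)) (tt N6765 (iv D14851)) (tt N9881 (iv F85771)) (tt N6873 F67924))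
theorem Q8213 : ∀ i, i < 8213 → P i := stepQ 8212 Q8212 (allL N8212 (tt N6782 F67930) (tt N7350 F67931) (tt N7640 (iv F132928)) (tt N6767 F67932) (tt N9632 (iv F84372)) (tt N7552 F133394) (tt N6766 (iv D14853)) (tt N9889 D18945) (tt N9737 (iv F84992)) (tt N6874 F67933))
theorem Q8214 : ∀ i, i < 8214 → P i := stepQ 8213 Q8213 (allL N8213 (tt N6783 F67934) (tt N6859 (iv F132769)) (tt N8213 F67936) (tt N7552 (iv F132839)) (tt N9887 (iv F85801)) (tt N6767 (iv D14854)) (tt N6858 F132449) (tt N9890 D18946) (tt N9891 D18947) (tt N6875 F67938))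
theorem Q8215 : ∀ i, i < 8215 → P i := stepQ 8214 Q8214 (allL N8214 (tt N6784 F67939) (tt N7351 F67940) (tt N8214 F67941) (tt N9889 (iv F85826)) (tt N6768 F67942) (tt N9890 (iv F85832)) (tt N8214 F67943) (tt N6767 (iv D14855)) (tt N9739 (iv F85004)) (tt N6876 F67944))
theorem Q8216 : ∀ i, i < 8216 → P i := stepQ 8215 Q8215 (allL N8215 (tt N7094 F67945) (tt N6786 F67946) (tt N8215 F67947) (tt N7233 F67948) (tt N9892 D18948) (tt N6769 (iv D14856)) (tt N9893 D18949) (tt N6770 F67949) (tt N6963 F67950) (tt N7150 F67951))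
theorem Q8217 : ∀ i, i < 8217 → P i := stepQ 8216 Q8216 (allL N8216 (tt N9873 (iv F85718)) (tt N6788 F67952) (tt N8216 F67953) (tt N9894 D18950) (tt N6770 (iv D14857)) (tt N6774 F67954) (tt N9895 D18951) (tt N9892 (iv F85842)) (tt N6964 F67955) (tt N9754 (iv F85081)))
theorem Q8218 : ∀ i, i < 8218 → P i := stepQ 8217 Q8217 (allL N8217 (tt N9874 (iv F85725)) (tt N6789 F67956) (tt N8217 F67957) (tt N9759 (iv F85113)) (tt N9895 (iv F85857)) (tt N9741 (iv F85017)) (tt N6770 (iv D14858)) (tt N9896 D18952) (tt N6965 F67958) (tt N9755 (iv F85088)))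
theorem Q8219 : ∀ i, i < 8219 → P i := stepQ 8218 Q8218 (allL N8218 (tt N7150 F67959) (tt N6790 F67960) (tt N8218 F67961) (tt N7241 F67962) (tt N9897 D18953) (tt N6771 (iv D14859)) (tt N9898 D18954) (tt N7252 F67963) (tt N8218 F67964) (tt N7094 F67965))
theorem Q8220 : ∀ i, i < 8220 → P i := stepQ 8219 Q8219 (allL N8219 (tt N9875 (iv F85732)) (tt N6791 F67966) (tt N8219 F67967) (tt N9899 D18955) (tt N6772 (iv D14860)) (tt N9892 (iv F85841)) (tt N9900 D18956) (tt N6774 F67968) (tt N6776 F67969) (tt N7151 F67970))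
theorem Q8221 : ∀ i, i < 8221 → P i := stepQ 8220 Q8220 (allL N8220 (tt N9876 (iv F85739)) (tt N6792 F67971) (tt N8220 F67972) (tt N7357 F67973) (tt N9900 (iv F85883)) (tt N9898 (iv F85873)) (tt N6772 (iv D14861)) (tt N9901 D18957) (tt N6777 F67974) (tt N7152 F67975))
theorem Q8222 : ∀ i, i < 8222 → P i := stepQ 8221 Q8221 (allL N8221 (tt N9877 (iv F85746)) (tt N6793 F67976) (tt N8221 F67977) (tt N9902 D18958) (tt N6773 (iv D14862)) (tt N9754 (iv F85078)) (tt N9903 D18959) (tt N7151 F67978) (tt N6877 F67979) (tt N6774 F67980))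
theorem Q8223 : ∀ i, i < 8223 → P i := stepQ 8222 Q8222 (allL N8222 (tt N9878 (iv F85753)) (tt N6794 F67981) (tt N8222 F67982) (tt N7355 F67983) (tt N9903 (iv F85899)) (tt N9648 (iv F84449)) (tt N6773 (iv D14863)) (tt N9904 D18960) (tt N6878 F67984) (tt N6775 F67985))
theorem Q8224 : ∀ i, i < 8224 → P i := stepQ 8223 Q8223 (allL N8223 (tt N9879 (iv F85760)) (tt N6795 F67986) (tt N9905 D18961) (tt N6774 (iv D14864)) (tt N9635 (iv F84384)) (tt N9894 (iv F85853)) (tt N9906 D18962) (tt N9899 (iv F85878)) (tt N6778 F67987) (tt N9902 (iv F85896)))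
theorem Q8225 : ∀ i, i < 8225 → P i := stepQ 8224 Q8224 (allL N8224 (tt N9880 (iv F85763)) (tt N6796 F67988) (tt N8224 F67989) (tt N9906 (iv F85911)) (tt N6775 F67990) (tt N9907 D18963) (tt N6774 (iv D14865)) (tt N9908 D18964) (tt N6779 F67991) (tt N9903 (iv F85901)))
theorem Q8226 : ∀ i, i < 8226 → P i := stepQ 8225 Q8225 (allL N8225 (tt N9881 (iv F85768)) (tt N6797 F67992) (tt N8225 F67993) (tt N9637 (iv F84396)) (tt N9908 (iv F85917)) (tt N9744 (iv F85031)) (tt N9901 (iv F85889)) (tt N6775 (iv D14866)) (tt N6780 F67994) (tt N9904 (iv F85907)))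
theorem Q8227 : ∀ i, i < 8227 → P i := stepQ 8226 Q8226 (allL N8226 (tt N9882 (iv F85772)) (tt N6798 F67995) (tt N9909 D18965) (tt N6776 (iv D14867)) (tt N7483 F67996) (tt N6972 F67997) (tt N9910 D18966) (tt N6778 F67998) (tt N9899 (iv F85879)) (tt N6882 F67999))
theorem Q8228 : ∀ i, i < 8228 → P i := stepQ 8227 Q8227 (allL N8227 (tt N9883 (iv F85778)) (tt N6799 F68000) (tt N8227 F68001) (tt N9910 (iv F85925)) (tt N6777 F68002) (tt N9911 D18967) (tt N6776 (iv D14868)) (tt N9912 D18968) (tt N9900 (iv F85884)) (tt N6883 F68003))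
theorem Q8229 : ∀ i, i < 8229 → P i := stepQ 8228 Q8228 (allL N8228 (tt N9884 (iv F85783)) (tt N6800 F68004) (tt N8228 F68005) (tt N7485 F68006) (tt N9912 (iv F85935)) (tt N8228 F68007) (tt N6780 F68008) (tt N6777 (iv D14869)) (tt N9901 (iv F85890)) (tt N6884 F68009))
theorem Q8230 : ∀ i, i < 8230 → P i := stepQ 8229 Q8229 (allL N8229 (tt N9885 (iv F85790)) (tt N9913 D18969) (tt N6778 (iv D14870)) (tt N8229 F68010) (tt N9638 (iv F84402)) (tt N6975 F68011) (tt N9914 D18970) (tt N9909 (iv F85922)) (tt N9905 (iv F85909)) (tt N6885 F68012))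
theorem Q8231 : ∀ i, i < 8231 → P i := stepQ 8230 Q8230 (allL N8230 (tt N9886 (iv F85794)) (tt N6802 F68013) (tt N9914 (iv F85942)) (tt N6779 F68014) (tt N9639 (iv F84408)) (tt N9915 D18971) (tt N6778 (iv D14871)) (tt N9916 D18972) (tt N9906 (iv F85912)) (tt N6886 F68015))
theorem Q8232 : ∀ i, i < 8232 → P i := stepQ 8231 Q8231 (allL N8231 (tt N9887 (iv F85798)) (tt N6803 F68016) (tt N8231 F68017) (tt N9915 (iv F85946)) (tt N6783 F68018) (tt N6779 (iv D14872)) (tt N6977 F68019) (tt N9917 D18973) (tt N9918 D18974) (tt N6887 F68020))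
theorem Q8233 : ∀ i, i < 8233 → P i := stepQ 8232 Q8232 (allL N8232 (tt N9888 (iv F85804)) (tt N6804 F68021) (tt N8232 F68022) (tt N9916 (iv F85950)) (tt N6780 F68023) (tt N9917 (iv F85955)) (tt N9912 (iv F85936)) (tt N6779 (iv D14873)) (tt N9908 (iv F85918)) (tt N6888 F68024))
theorem Q8234 : ∀ i, i < 8234 → P i := stepQ 8233 Q8233 (allL N8233 (tt N7640 (iv F132927)) (tt N8233 F68025) (tt N6782 F68026) (tt N8233 F68027) (tt N9642 (iv F84422)) (tt N7084 (iv F132973)) (tt N6781 (iv D14874)) (tt N9919 D18976) (tt N9749 (iv F85056)) (tt N6889 F68028))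
theorem Q8235 : ∀ i, i < 8235 → P i := stepQ 8234 Q8234 (allL N8234 (tt N7552 (iv F132838)) (tt N6805 F68029) (tt N7084 F132457) (tt N6783 F68030) (tt N9920 D18977) (tt N6782 (iv D14875)) (tt N6979 F68031) (tt N9921 D18978) (tt N9922 D18979) (tt N6890 F68032))
theorem Q8236 : ∀ i, i < 8236 → P i := stepQ 8235 Q8235 (allL N8235 (tt N9889 (iv F85824)) (tt N6806 F68033) (tt N9919 (iv F85967)) (tt N6784 F68034) (tt N9644 (iv F84430)) (tt N9921 (iv F85976)) (tt N8235 F68035) (tt N6782 (iv D14876)) (tt N9751 (iv F85065)) (tt N6891 F68036))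
theorem Q8237 : ∀ i, i < 8237 → P i := stepQ 8236 Q8236 (allL N8236 (tt N9890 (iv F85829)) (tt N6807 F68037) (tt N8236 F68038) (tt N9921 (iv F85975)) (tt N9917 (iv F85954)) (tt N6784 F68039) (tt N9923 D18980) (tt N6783 (iv D14877)) (tt N9924 D18981) (tt N6892 F68040))
theorem Q8238 : ∀ i, i < 8238 → P i := stepQ 8237 Q8237 (allL N8237 (tt N9891 (iv F85834)) (tt N6808 F68041) (tt N8237 F68042) (tt N9922 (iv F85979)) (tt N9918 (iv F85959)) (tt N9753 (iv F85073)) (tt N6980 F68043) (tt N9924 (iv F85988)) (tt N6783 (iv D14878)) (tt N9925 D18982))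
theorem Q8239 : ∀ i, i < 8239 → P i := stepQ 8238 Q8238 (allL N8238 (tt N7372 F68044) (tt N9758 (iv F85104)) (tt N8238 F68045) (tt N9926 D18983) (tt N6785 (iv D14879)) (tt N9647 (iv F84441)) (tt N9927 D18984) (tt N9732 (iv F84955)) (tt N6981 F68046) (tt N9740 (iv F85012)))
theorem Q8240 : ∀ i, i < 8240 → P i := stepQ 8239 Q8239 (allL N8239 (tt N7373 F68047) (tt N9759 (iv F85111)) (tt N8239 F68048) (tt N6789 F68049) (tt N9927 (iv F85998)) (tt N9755 (iv F85086)) (tt N6785 (iv D14880)) (tt N9928 D18985) (tt N6982 F68050) (tt N9741 (iv F85019)))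
theorem Q8241 : ∀ i, i < 8241 → P i := stepQ 8240 Q8240 (allL N8240 (tt N7374 F68051) (tt N9892 (iv F85839)) (tt N6810 F68052) (tt N9929 D18986) (tt N6786 (iv D14881)) (tt N6791 F68053) (tt N9930 D18987) (tt N6788 F68054) (tt N6983 F68055) (tt N7160 F68056))
theorem Q8242 : ∀ i, i < 8242 → P i := stepQ 8241 Q8241 (allL N8241 (tt N7375 F68057) (tt N9893 (iv F85846)) (tt N6811 F68058) (tt N9733 (iv F84961)) (tt N9930 (iv F86011)) (tt N9628 (iv F84343)) (tt N6786 (iv D14882)) (tt N9931 D18988) (tt N6984 F68059) (tt N7161 F68060))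
theorem Q8243 : ∀ i, i < 8243 → P i := stepQ 8242 Q8242 (allL N8242 (tt N7376 F68061) (tt N9754 (iv F85076)) (tt N6812 F68062) (tt N9932 D18989) (tt N6787 (iv D14883)) (tt N6793 F68063) (tt N9933 D18990) (tt N7160 F68064) (tt N8242 F68065) (tt N6788 F68066))
theorem Q8244 : ∀ i, i < 8244 → P i := stepQ 8243 Q8243 (allL N8243 (tt N7377 F68067) (tt N9755 (iv F85083)) (tt N6813 F68068) (tt N9741 (iv F85016)) (tt N9933 (iv F86026)) (tt N9759 (iv F85114)) (tt N6787 (iv D14884)) (tt N9934 D18991) (tt N8243 F68069) (tt N6789 F68070))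
theorem Q8245 : ∀ i, i < 8245 → P i := stepQ 8244 Q8244 (allL N8244 (tt N7378 F68071) (tt N9894 (iv F85852)) (tt N9935 D18992) (tt N6788 (iv D14885)) (tt N9926 (iv F85994)) (tt N6795 F68072) (tt N9936 D18993) (tt N9929 (iv F86006)) (tt N6985 F68073) (tt N9932 (iv F86023)))
theorem Q8246 : ∀ i, i < 8246 → P i := stepQ 8245 Q8245 (allL N8245 (tt N7379 F68074) (tt N9895 (iv F85855)) (tt N6815 F68075) (tt N9936 (iv F86039)) (tt N6789 F68076) (tt N9937 D18994) (tt N6788 (iv D14886)) (tt N9938 D18995) (tt N6986 F68077) (tt N9933 (iv F86028)))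
theorem Q8247 : ∀ i, i < 8247 → P i := stepQ 8246 Q8246 (allL N8246 (tt N7380 F68078) (tt N9896 (iv F85859)) (tt N6816 F68079) (tt N9928 (iv F86002)) (tt N9938 (iv F86046)) (tt N9762 (iv F85126)) (tt N9931 (iv F86016)) (tt N6789 (iv D14887)) (tt N6987 F68080) (tt N9934 (iv F86033)))
theorem Q8248 : ∀ i, i < 8248 → P i := stepQ 8247 Q8247 (allL N8247 (tt N7381 F68081) (tt N9897 (iv F85863)) (tt N6817 F68082) (tt N9939 D18996) (tt N6790 (iv D14888)) (tt N9627 (iv F84335)) (tt N9940 D18997) (tt N9763 (iv F85132)) (tt N8247 F68083) (tt N7102 F68084))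
theorem Q8249 : ∀ i, i < 8249 → P i := stepQ 8248 Q8248 (allL N8248 (tt N7382 F68085) (tt N9898 (iv F85870)) (tt N6818 F68086) (tt N7259 F68087) (tt N9940 (iv F86054)) (tt N6792 F68088) (tt N6790 (iv D14889)) (tt N9941 D18998) (tt N8248 F68089) (tt N7103 F68090))
theorem Q8250 : ∀ i, i < 8250 → P i := stepQ 8249 Q8249 (allL N8249 (tt N7383 F68091) (tt N9899 (iv F85876)) (tt N9942 D18999) (tt N6791 (iv D14890)) (tt N7386 F68092) (tt N9929 (iv F86005)) (tt N9943 D19000) (tt N6795 F68093) (tt N6798 F68094) (tt N7162 F68095))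
theorem Q8251 : ∀ i, i < 8251 → P i := stepQ 8250 Q8250 (allL N8250 (tt N7384 F68096) (tt N9900 (iv F85881)) (tt N6820 F68097) (tt N9943 (iv F86070)) (tt N6792 F68098) (tt N9944 D19001) (tt N6791 (iv D14891)) (tt N9945 D19002) (tt N6799 F68099) (tt N7163 F68100))
theorem Q8252 : ∀ i, i < 8252 → P i := stepQ 8251 Q8251 (allL N8251 (tt N7385 F68101) (tt N9901 (iv F85886)) (tt N6821 F68102) (tt N7388 F68103) (tt N9945 (iv F86079)) (tt N9941 (iv F86060)) (tt N6797 F68104) (tt N6792 (iv D14892)) (tt N6800 F68105) (tt N7164 F68106))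
theorem Q8253 : ∀ i, i < 8253 → P i := stepQ 8252 Q8252 (allL N8252 (tt N7386 F68107) (tt N9902 (iv F85892)) (tt N9946 D19003) (tt N6793 (iv D14893)) (tt N7383 F68108) (tt N9932 (iv F86020)) (tt N9947 D19004) (tt N7162 F68109) (tt N6894 F68110) (tt N6795 F68111))
theorem Q8254 : ∀ i, i < 8254 → P i := stepQ 8253 Q8253 (allL N8253 (tt N7387 F68112) (tt N9903 (iv F85897)) (tt N6823 F68113) (tt N9947 (iv F86090)) (tt N6794 F68114) (tt N9948 D19005) (tt N6793 (iv D14894)) (tt N9949 D19006) (tt N6895 F68115) (tt N6796 F68116))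
theorem Q8255 : ∀ i, i < 8255 → P i := stepQ 8254 Q8254 (allL N8254 (tt N7388 F68117) (tt N9904 (iv F85902)) (tt N6824 F68118) (tt N7385 F68119) (tt N9949 (iv F86099)) (tt N9772 (iv F85184)) (tt N7164 F68120) (tt N6794 (iv D14895)) (tt N6896 F68121) (tt N6797 F68122))
theorem Q8256 : ∀ i, i < 8256 → P i := stepQ 8255 Q8255 (allL N8255 (tt N7389 F68123) (tt N9950 D19007) (tt N6795 (iv D14896)) (tt N6825 F68124) (tt N9652 (iv F84473)) (tt N9935 (iv F86036)) (tt N9951 D19008) (tt N9942 (iv F86066)) (tt N6801 F68125) (tt N9946 (iv F86088)))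
theorem Q8257 : ∀ i, i < 8257 → P i := stepQ 8256 Q8256 (allL N8256 (tt N7390 F68126) (tt N9906 (iv F85910)) (tt N9951 (iv F86106)) (tt N6796 F68127) (tt N9653 (iv F84479)) (tt N9952 D19009) (tt N6795 (iv D14897)) (tt N9953 D19010) (tt N6802 F68128) (tt N9947 (iv F86093)))
theorem Q8258 : ∀ i, i < 8258 → P i := stepQ 8257 Q8257 (allL N8257 (tt N7391 F68129) (tt N9907 (iv F85913)) (tt N6827 F68130) (tt N9952 (iv F86110)) (tt N9775 (iv F85195)) (tt N6796 (iv D14898)) (tt N9937 (iv F86043)) (tt N9954 D19011) (tt N9955 D19012) (tt N9948 (iv F86096)))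
theorem Q8259 : ∀ i, i < 8259 → P i := stepQ 8258 Q8258 (allL N8258 (tt N7392 F68131) (tt N9908 (iv F85915)) (tt N6828 F68132) (tt N9953 (iv F86112)) (tt N6797 F68133) (tt N9954 (iv F86116)) (tt N9945 (iv F86080)) (tt N6796 (iv D14899)) (tt N6804 F68134) (tt N9949 (iv F86102)))
theorem Q8260 : ∀ i, i < 8260 → P i := stepQ 8259 Q8259 (allL N8259 (tt N7393 F68135) (tt N9956 D19013) (tt N6798 (iv D14900)) (tt N6829 F68136) (tt N7499 F68137) (tt N6997 F68138) (tt N9957 D19014) (tt N6801 F68139) (tt N9942 (iv F86067)) (tt N6901 F68140))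
theorem Q8261 : ∀ i, i < 8261 → P i := stepQ 8260 Q8260 (allL N8260 (tt N7394 F68141) (tt N9910 (iv F85924)) (tt N9957 (iv F86126)) (tt N6799 F68142) (tt N7500 F68143) (tt N9958 D19015) (tt N6798 (iv D14901)) (tt N9959 D19016) (tt N9943 (iv F86072)) (tt N6902 F68144))
theorem Q8262 : ∀ i, i < 8262 → P i := stepQ 8261 Q8261 (allL N8261 (tt N7395 F68145) (tt N9911 (iv F85928)) (tt N6831 F68146) (tt N9958 (iv F86131)) (tt N8261 F68147) (tt N6799 (iv D14902)) (tt N6999 F68148) (tt N9960 D19017) (tt N9961 D19018) (tt N6903 F68149))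
theorem Q8263 : ∀ i, i < 8263 → P i := stepQ 8262 Q8262 (allL N8262 (tt N7396 F68150) (tt N9912 (iv F85933)) (tt N6832 F68151) (tt N9959 (iv F86135)) (tt N6800 F68152) (tt N9960 (iv F86142)) (tt N6804 F68153) (tt N6799 (iv D14903)) (tt N9945 (iv F86081)) (tt N6904 F68154))
theorem Q8264 : ∀ i, i < 8264 → P i := stepQ 8263 Q8263 (allL N8263 (tt N9962 D19019) (tt N6801 (iv D14904)) (tt N9913 (iv F85938)) (tt N6833 F68155) (tt N7631 F133534) (tt N7001 F68156) (tt N9963 D19020) (tt N9956 (iv F86123)) (tt N9950 (iv F86104)) (tt N6905 F68157))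
theorem Q8265 : ∀ i, i < 8265 → P i := stepQ 8264 Q8264 (allL N8264 (tt N7398 F68158) (tt N9963 (iv F86152)) (tt N6802 F68159) (tt N6834 F68160) (tt N9656 (iv F84499)) (tt N9964 D19021) (tt N6801 (iv D14905)) (tt N9965 D19022) (tt N9951 (iv F86108)) (tt N6906 F68161))
theorem Q8266 : ∀ i, i < 8266 → P i := stepQ 8265 Q8265 (allL N8265 (tt N7399 F68162) (tt N9915 (iv F85945)) (tt N9964 (iv F86156)) (tt N6803 F68163) (tt N9966 D19023) (tt N6802 (iv D14906)) (tt N7003 F68164) (tt N9967 D19024) (tt N9968 D19025) (tt N6907 F68165))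
theorem Q8267 : ∀ i, i < 8267 → P i := stepQ 8266 Q8266 (allL N8266 (tt N7400 F68166) (tt N9916 (iv F85949)) (tt N9965 (iv F86161)) (tt N6804 F68167) (tt N9658 (iv F84507)) (tt N9967 (iv F86170)) (tt N9959 (iv F86137)) (tt N6802 (iv D14907)) (tt N9953 (iv F86113)) (tt N6908 F68168))
theorem Q8268 : ∀ i, i < 8268 → P i := stepQ 8267 Q8267 (allL N8267 (tt N7401 F68169) (tt N9917 (iv F85952)) (tt N6837 F68170) (tt N9967 (iv F86169)) (tt N6807 F68171) (tt N6804 F68172) (tt N9969 D19026) (tt N6803 (iv D14908)) (tt N9970 D19027) (tt N6909 F68173))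
theorem Q8269 : ∀ i, i < 8269 → P i := stepQ 8268 Q8268 (allL N8268 (tt N7402 F68174) (tt N9918 (iv F85957)) (tt N6838 F68175) (tt N9968 (iv F86173)) (tt N6808 F68176) (tt N9955 (iv F86119)) (tt N7006 F68177) (tt N9970 (iv F86183)) (tt N6803 (iv D14909)) (tt N9971 D19028))
theorem Q8270 : ∀ i, i < 8270 → P i := stepQ 8269 Q8269 (allL N8269 (tt N7403 F68178) (tt N9920 (iv F85971)) (tt N8269 F68179) (tt N9966 (iv F86165)) (tt N6805 (iv D14910)) (tt N9661 (iv F84521)) (tt N7007 F68180) (tt N9972 D19029) (tt N9973 D19030) (tt N6911 F68181))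
theorem Q8271 : ∀ i, i < 8271 → P i := stepQ 8270 Q8270 (allL N8270 (tt N7404 F68182) (tt N9921 (iv F85974)) (tt N8270 F68183) (tt N6807 F68184) (tt N9972 (iv F86191)) (tt N6806 F68185) (tt N9974 D19031) (tt N6805 (iv D14911)) (tt N9975 D19032) (tt N6912 F68186))
theorem Q8272 : ∀ i, i < 8272 → P i := stepQ 8271 Q8271 (allL N8271 (tt N7405 F68187) (tt N9922 (iv F85978)) (tt N8271 F68188) (tt N6808 F68189) (tt N9973 (iv F86195)) (tt N9789 (iv F85258)) (tt N7009 F68190) (tt N9975 (iv F86206)) (tt N6805 (iv D14912)) (tt N9976 D19033))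
theorem Q8273 : ∀ i, i < 8273 → P i := stepQ 8272 Q8272 (allL N8272 (tt N7406 F68191) (tt N9923 (iv F85981)) (tt N6839 F68192) (tt N9974 (iv F86199)) (tt N9969 (iv F86177)) (tt N8272 F68193) (tt N6807 (iv D14913)) (tt N7010 F68194) (tt N9977 D19034) (tt N6914 F68195))
theorem Q8274 : ∀ i, i < 8274 → P i := stepQ 8273 Q8273 (allL N8273 (tt N7407 F68196) (tt N9924 (iv F85986)) (tt N6840 F68197) (tt N9975 (iv F86205)) (tt N9970 (iv F86182)) (tt N9791 (iv F85267)) (tt N9977 (iv F86214)) (tt N6808 F68198) (tt N6807 (iv D14914)) (tt N9978 D19035))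
theorem Q8275 : ∀ i, i < 8275 → P i := stepQ 8274 Q8274 (allL N8274 (tt N7408 F68199) (tt N9925 (iv F85989)) (tt N6841 F68200) (tt N9976 (iv F86209)) (tt N9971 (iv F86186)) (tt N9792 (iv F85271)) (tt N7012 F68201) (tt N9978 (iv F86218)) (tt N6916 F68202) (tt N6808 (iv D14915)))
theorem Q8276 : ∀ i, i < 8276 → P i := stepQ 8275 Q8275 (allL N8275 (tt N7409 F68203) (tt N8275 F68204) (tt N9627 (iv F84334)) (tt N9979 D19036) (tt N6809 (iv D14916)) (tt N6817 F68205) (tt N9980 D19037) (tt N7769 F68206) (tt N7872 F68207) (tt N7112 F68208))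
theorem Q8277 : ∀ i, i < 8277 → P i := stepQ 8276 Q8276 (allL N8276 (tt N7410 F68209) (tt N8276 F68210) (tt N9628 (iv F84341)) (tt N8276 F68211) (tt N9980 (iv F86229)) (tt N6811 F68212) (tt N6809 (iv D14917)) (tt N9981 D19038) (tt N7873 F68213) (tt N7113 F68214))
theorem Q8278 : ∀ i, i < 8278 → P i := stepQ 8277 Q8277 (allL N8277 (tt N7411 F68215) (tt N8277 F68216) (tt N9982 D19039) (tt N6810 (iv D14918)) (tt N8277 F68217) (tt N6819 F68218) (tt N9983 D19040) (tt N6814 F68219) (tt N7015 F68220) (tt N7173 F68221))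
theorem Q8279 : ∀ i, i < 8279 → P i := stepQ 8278 Q8278 (allL N8278 (tt N7412 F68222) (tt N8278 F68223) (tt N9930 (iv F86010)) (tt N9983 (iv F86247)) (tt N6811 F68224) (tt N9984 D19041) (tt N6810 (iv D14919)) (tt N9985 D19042) (tt N7016 F68225) (tt N7174 F68226))
theorem Q8280 : ∀ i, i < 8280 → P i := stepQ 8279 Q8279 (allL N8279 (tt N7413 F68227) (tt N8279 F68228) (tt N9931 (iv F86015)) (tt N8279 F68229) (tt N9985 (iv F86257)) (tt N9981 (iv F86235)) (tt N6816 F68230) (tt N6811 (iv D14920)) (tt N7017 F68231) (tt N7175 F68232))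
theorem Q8281 : ∀ i, i < 8281 → P i := stepQ 8280 Q8280 (allL N8280 (tt N7414 F68233) (tt N8280 F68234) (tt N9986 D19043) (tt N6812 (iv D14921)) (tt N8280 F68235) (tt N6822 F68236) (tt N9987 D19044) (tt N7173 F68237) (tt N8280 F68238) (tt N6814 F68239))
theorem Q8282 : ∀ i, i < 8282 → P i := stepQ 8281 Q8281 (allL N8281 (tt N7415 F68240) (tt N8281 F68241) (tt N9933 (iv F86025)) (tt N9987 (iv F86269)) (tt N6813 F68242) (tt N9988 D19045) (tt N6812 (iv D14922)) (tt N9989 D19046) (tt N8281 F68243) (tt N6815 F68244))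
theorem Q8283 : ∀ i, i < 8283 → P i := stepQ 8282 Q8282 (allL N8282 (tt N7416 F68245) (tt N8282 F68246) (tt N9934 (iv F86030)) (tt N8282 F68247) (tt N9989 (iv F86279)) (tt N9798 (iv F85308)) (tt N7175 F68248) (tt N6813 (iv D14923)) (tt N8282 F68249) (tt N6816 F68250))
theorem Q8284 : ∀ i, i < 8284 → P i := stepQ 8283 Q8283 (allL N8283 (tt N7417 F68251) (tt N9990 D19047) (tt N6814 (iv D14924)) (tt N9935 (iv F86035)) (tt N8283 F68252) (tt N6825 F68253) (tt N9991 D19048) (tt N9982 (iv F86242)) (tt N7018 F68254) (tt N9986 (iv F86266)))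
theorem Q8285 : ∀ i, i < 8285 → P i := stepQ 8284 Q8284 (allL N8284 (tt N7418 F68255) (tt N8284 F68256) (tt N9991 (iv F86288)) (tt N6815 F68257) (tt N8284 F68258) (tt N9992 D19049) (tt N6814 (iv D14925)) (tt N9993 D19050) (tt N7019 F68259) (tt N9987 (iv F86272)))
theorem Q8286 : ∀ i, i < 8286 → P i := stepQ 8285 Q8285 (allL N8285 (tt N7419 F68260) (tt N8285 F68261) (tt N9937 (iv F86042)) (tt N9992 (iv F86293)) (tt N9801 (iv F85323)) (tt N6815 (iv D14926)) (tt N6827 F68262) (tt N9994 D19051) (tt N9995 D19052) (tt N9988 (iv F86276)))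
theorem Q8287 : ∀ i, i < 8287 → P i := stepQ 8286 Q8286 (allL N8286 (tt N7420 F68263) (tt N8286 F68264) (tt N9938 (iv F86045)) (tt N9993 (iv F86297)) (tt N6816 F68265) (tt N9994 (iv F86302)) (tt N9985 (iv F86258)) (tt N6815 (iv D14927)) (tt N7021 F68266) (tt N9989 (iv F86282)))
theorem Q8288 : ∀ i, i < 8288 → P i := stepQ 8287 Q8287 (allL N8287 (tt N7421 F68267) (tt N8287 F68268) (tt N9996 D19053) (tt N6817 (iv D14928)) (tt N6842 F68269) (tt N9979 (iv F86223)) (tt N9997 D19054) (tt N9803 (iv F85333)) (tt N8287 F68270) (tt N7116 F68271))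
theorem Q8289 : ∀ i, i < 8289 → P i := stepQ 8288 Q8288 (allL N8288 (tt N7422 F68272) (tt N8288 F68273) (tt N9940 (iv F86053)) (tt N9997 (iv F86313)) (tt N6818 F68274) (tt N9998 D19055) (tt N6817 (iv D14929)) (tt N9999 D19056) (tt N8288 F68275) (tt N7117 F68276))
theorem Q8290 : ∀ i, i < 8290 → P i := stepQ 8289 Q8289 (allL N8289 (tt N7423 F68277) (tt N8289 F68278) (tt N9941 (iv F86058)) (tt N6844 F68279) (tt N9999 (iv F86323)) (tt N6821 F68280) (tt N9805 (iv F85345)) (tt N6818 (iv D14930)) (tt N8289 F68281) (tt N7118 F68282))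
theorem Q8291 : ∀ i, i < 8291 → P i := stepQ 8290 Q8290 (allL N8290 (tt N7424 F68283) (tt N10000 D19057) (tt N6819 (iv D14931)) (tt N9942 (iv F86064)) (tt N6845 F68284) (tt N9982 (iv F86241)) (tt N10001 D19058) (tt N6825 F68285) (tt N6829 F68286) (tt N7176 F68287))
theorem Q8292 : ∀ i, i < 8292 → P i := stepQ 8291 Q8291 (allL N8291 (tt N7425 F68288) (tt N8291 F68289) (tt N10001 (iv F86332)) (tt N6820 F68290) (tt N6846 F68291) (tt N10002 D19059) (tt N6819 (iv D14932)) (tt N10003 D19060) (tt N6830 F68292) (tt N7177 F68293))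
theorem Q8293 : ∀ i, i < 8293 → P i := stepQ 8292 Q8292 (allL N8292 (tt N7426 F68294) (tt N8292 F68295) (tt N9944 (iv F86075)) (tt N10002 (iv F86338)) (tt N9998 (iv F86319)) (tt N6820 (iv D14933)) (tt N9984 (iv F86253)) (tt N10004 D19061) (tt N10005 D19062) (tt N7178 F68296))
theorem Q8294 : ∀ i, i < 8294 → P i := stepQ 8293 Q8293 (allL N8293 (tt N7427 F68297) (tt N8293 F68298) (tt N9945 (iv F86078)) (tt N10003 (iv F86342)) (tt N6821 F68299) (tt N10004 (iv F86349)) (tt N6828 F68300) (tt N6820 (iv D14934)) (tt N6832 F68301) (tt N7179 F68302))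
theorem Q8295 : ∀ i, i < 8295 → P i := stepQ 8294 Q8294 (allL N8294 (tt N7428 F68303) (tt N7596 F133328) (tt N6822 (iv D14935)) (tt N9946 (iv F86084)) (tt N6849 F68304) (tt N9986 (iv F86263)) (tt N10006 D19064) (tt N7176 F68305) (tt N6917 F68306) (tt N6825 F68307))
theorem Q8296 : ∀ i, i < 8296 → P i := stepQ 8295 Q8295 (allL N8295 (tt N7429 F68308) (tt N8295 F68309) (tt N10006 (iv F86360)) (tt N6823 F68310) (tt N6850 F68311) (tt N10007 D19065) (tt N6822 (iv D14936)) (tt N10008 D19066) (tt N6918 F68312) (tt N6826 F68313))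
theorem Q8297 : ∀ i, i < 8297 → P i := stepQ 8296 Q8296 (allL N8296 (tt N7430 F68314) (tt N8296 F68315) (tt N9948 (iv F86095)) (tt N10007 (iv F86366)) (tt N9815 (iv F85395)) (tt N6823 (iv D14937)) (tt N9988 (iv F86275)) (tt N10009 D19067) (tt N10010 D19068) (tt N6827 F68316))
theorem Q8298 : ∀ i, i < 8298 → P i := stepQ 8297 Q8297 (allL N8297 (tt N7431 F68317) (tt N8297 F68318) (tt N9949 (iv F86098)) (tt N10008 (iv F86370)) (tt N6824 F68319) (tt N10009 (iv F86377)) (tt N7179 F68320) (tt N6823 (iv D14938)) (tt N6920 F68321) (tt N6828 F68322))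
theorem Q8299 : ∀ i, i < 8299 → P i := stepQ 8298 Q8298 (allL N8298 (tt N10011 D19069) (tt N6825 (iv D14939)) (tt N8298 F68323) (tt N9950 (iv F86103)) (tt N6853 F68324) (tt N9990 (iv F86285)) (tt N10012 D19070) (tt N10000 (iv F86328)) (tt N6833 F68325) (tt N7596 F133499))
theorem Q8300 : ∀ i, i < 8300 → P i := stepQ 8299 Q8299 (allL N8299 (tt N7433 F68326) (tt N10012 (iv F86386)) (tt N6826 F68327) (tt N9951 (iv F86107)) (tt N6854 F68328) (tt N10013 D19071) (tt N6825 (iv D14940)) (tt N10014 D19072) (tt N6834 F68329) (tt N10006 (iv F86363)))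
theorem Q8301 : ∀ i, i < 8301 → P i := stepQ 8300 Q8300 (allL N8300 (tt N7434 F68330) (tt N8300 F68331) (tt N10013 (iv F86391)) (tt N6827 F68332) (tt N10015 D19073) (tt N6826 (iv D14941)) (tt N9992 (iv F86294)) (tt N10016 D19074) (tt N10017 D19075) (tt N10007 (iv F86367)))
theorem Q8302 : ∀ i, i < 8302 → P i := stepQ 8301 Q8301 (allL N8301 (tt N7435 F68333) (tt N8301 F68334) (tt N10014 (iv F86393)) (tt N6828 F68335) (tt N6856 F68336) (tt N10016 (iv F86402)) (tt N10003 (iv F86344)) (tt N6826 (iv D14942)) (tt N6836 F68337) (tt N10008 (iv F86374)))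
theorem Q8303 : ∀ i, i < 8303 → P i := stepQ 8302 Q8302 (allL N8302 (tt N7436 F68338) (tt N8302 F68339) (tt N9954 (iv F86115)) (tt N10016 (iv F86401)) (tt N9821 (iv F85419)) (tt N6828 F68340) (tt N10018 D19076) (tt N6827 (iv D14943)) (tt N10019 D19077) (tt N10009 (iv F86378)))
theorem Q8304 : ∀ i, i < 8304 → P i := stepQ 8303 Q8303 (allL N8303 (tt N7437 F68341) (tt N8303 F68342) (tt N9955 (iv F86118)) (tt N10017 (iv F86405)) (tt N9822 (iv F85423)) (tt N6838 F68343) (tt N9995 (iv F86306)) (tt N10019 (iv F86412)) (tt N6827 (iv D14944)) (tt N10020 D19078))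
theorem Q8305 : ∀ i, i < 8305 → P i := stepQ 8304 Q8304 (allL N8304 (tt N6977 (iv F132953)) (tt N6829 (iv D14945)) (tt N8304 F68344) (tt N9956 (iv F86120)) (tt N6858 F68345) (tt N6961 F132424) (tt N9887 (iv F132942)) (tt N6833 F68347) (tt N10000 (iv F86329)) (tt N6926 F68348))
theorem Q8306 : ∀ i, i < 8306 → P i := stepQ 8305 Q8305 (allL N8305 (tt N7366 F133310) (tt N9887 F133311) (tt N6830 F68350) (tt N9957 (iv F86127)) (tt N6859 F68351) (tt N7348 F133312) (tt N6829 (iv D14946)) (tt N10021 D19082) (tt N10001 (iv F86334)) (tt N6927 F68352))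
theorem Q8307 : ∀ i, i < 8307 → P i := stepQ 8306 Q8306 (allL N8306 (tt N7438 F68358) (tt N8306 F68359) (tt N10021 (iv F86431)) (tt N6832 F68360) (tt N6860 F68361) (tt N7775 F134402) (tt N6836 F68362) (tt N6830 (iv D14948)) (tt N10003 (iv F86345)) (tt N6928 F68363))
theorem Q8308 : ∀ i, i < 8308 → P i := stepQ 8307 Q8307 (allL N8307 (tt N7439 F68364) (tt N8307 F68365) (tt N9960 (iv F86140)) (tt N7775 F134473) (tt N8307 F68366) (tt N6832 F68367) (tt N10022 D19086) (tt N6831 (iv D14949)) (tt N10023 D19087) (tt N6929 F68368))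
theorem Q8309 : ∀ i, i < 8309 → P i := stepQ 8308 Q8308 (allL N8308 (tt N7440 F68369) (tt N8308 F68370) (tt N9961 (iv F86145)) (tt N7771 F134474) (tt N8308 F68371) (tt N10005 (iv F86353)) (tt N7032 F68372) (tt N10023 (iv F86459)) (tt N6831 (iv D14950)) (tt N10024 D19088))
theorem Q8310 : ∀ i, i < 8310 → P i := stepQ 8309 Q8309 (allL N8309 (tt N6833 (iv D14951)) (tt N7005 (iv F132754)) (tt N8309 F68374) (tt N9962 (iv F86149)) (tt N6863 F68375) (tt N6978 F132437) (tt N10025 D19089) (tt N6977 (iv F132954)) (tt N10011 (iv F86385)) (tt N6931 F68377))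
theorem Q8311 : ∀ i, i < 8311 → P i := stepQ 8310 Q8310 (allL N8310 (tt N10025 (iv F86465)) (tt N6834 F68378) (tt N8310 F68379) (tt N9963 (iv F86153)) (tt N6864 F68380) (tt N10026 D19090) (tt N6833 (iv D14952)) (tt N10027 D19091) (tt N10012 (iv F86389)) (tt N6932 F68381))
theorem Q8312 : ∀ i, i < 8312 → P i := stepQ 8311 Q8311 (allL N8311 (tt N7442 F68382) (tt N10026 (iv F86470)) (tt N6835 F68383) (tt N9964 (iv F86157)) (tt N8311 F68384) (tt N6834 (iv D14953)) (tt N7034 F68385) (tt N10028 D19092) (tt N10029 D19093) (tt N6933 F68386))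
theorem Q8313 : ∀ i, i < 8313 → P i := stepQ 8312 Q8312 (allL N8312 (tt N7443 F68387) (tt N10027 (iv F86475)) (tt N6836 F68388) (tt N9965 (iv F86162)) (tt N6865 F68389) (tt N10028 (iv F86482)) (tt N10021 (iv F86433)) (tt N6834 (iv D14954)) (tt N10014 (iv F86395)) (tt N6934 F68390))
theorem Q8314 : ∀ i, i < 8314 → P i := stepQ 8313 Q8313 (allL N8313 (tt N7444 F68391) (tt N8313 F68392) (tt N10028 (iv F86480)) (tt N6837 F68393) (tt N8313 F68394) (tt N6836 F68395) (tt N10030 D19094) (tt N6835 (iv D14955)) (tt N10031 D19095) (tt N6935 F68396))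
theorem Q8315 : ∀ i, i < 8315 → P i := stepQ 8314 Q8314 (allL N8314 (tt N7445 F68397) (tt N8314 F68398) (tt N10029 (iv F86485)) (tt N6838 F68399) (tt N8314 F68400) (tt N10017 (iv F86406)) (tt N7037 F68401) (tt N10031 (iv F86498)) (tt N6835 (iv D14956)) (tt N10032 D19096))
theorem Q8316 : ∀ i, i < 8316 → P i := stepQ 8315 Q8315 (allL N8315 (tt N7446 F68402) (tt N8315 F68403) (tt N9969 (iv F86176)) (tt N10030 (iv F86490)) (tt N6839 F68404) (tt N10022 (iv F86453)) (tt N6837 (iv D14957)) (tt N7038 F68405) (tt N10033 D19097) (tt N6937 F68406))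
theorem Q8317 : ∀ i, i < 8317 → P i := stepQ 8316 Q8316 (allL N8316 (tt N7447 F68407) (tt N8316 F68408) (tt N9970 (iv F86181)) (tt N10031 (iv F86496)) (tt N6840 F68409) (tt N10019 (iv F86411)) (tt N10033 (iv F86508)) (tt N6838 F68410) (tt N6837 (iv D14958)) (tt N10034 D19098))
theorem Q8318 : ∀ i, i < 8318 → P i := stepQ 8317 Q8317 (allL N8317 (tt N7448 F68411) (tt N8317 F68412) (tt N9971 (iv F86185)) (tt N10032 (iv F86501)) (tt N6841 F68413) (tt N10020 (iv F86415)) (tt N7040 F68414) (tt N10034 (iv F86513)) (tt N6939 F68415) (tt N6838 (iv D14959)))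
theorem Q8319 : ∀ i, i < 8319 → P i := stepQ 8318 Q8318 (allL N8318 (tt N7449 F68416) (tt N8318 F68417) (tt N9977 (iv F86213)) (tt N8318 F68418) (tt N10033 (iv F86507)) (tt N10035 D19099) (tt N6840 F68419) (tt N7041 F68420) (tt N6839 (iv D14960)) (tt N10036 D19100))
theorem Q8320 : ∀ i, i < 8320 → P i := stepQ 8319 Q8319 (allL N8319 (tt N7450 F68421) (tt N8319 F68422) (tt N9978 (iv F86217)) (tt N8319 F68423) (tt N10034 (iv F86512)) (tt N9839 (iv F85505)) (tt N10036 (iv F86523)) (tt N6841 F68424) (tt N6941 F68425) (tt N6840 (iv D14961)))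
theorem Q8321 : ∀ i, i < 8321 → P i := stepQ 8320 Q8320 (allL N8320 (tt N7451 F68426) (tt N10037 D19101) (tt N6842 (iv D14962)) (tt N7318 F68427) (tt N9996 (iv F86308)) (tt N8320 F68428) (tt N10038 D19102) (tt N9840 (iv F85511)) (tt N8320 F68429) (tt N7130 F68430))
theorem Q8322 : ∀ i, i < 8322 → P i := stepQ 8321 Q8321 (allL N8321 (tt N7452 F68431) (tt N8321 F68432) (tt N10038 (iv F86532)) (tt N6843 F68433) (tt N9997 (iv F86314)) (tt N10039 D19103) (tt N6842 (iv D14963)) (tt N10040 D19104) (tt N8321 F68434) (tt N7131 F68435))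
theorem Q8323 : ∀ i, i < 8323 → P i := stepQ 8322 Q8322 (allL N8322 (tt N7453 F68436) (tt N8322 F68437) (tt N7320 F68438) (tt N10039 (iv F86538)) (tt N6847 F68439) (tt N6843 (iv D14964)) (tt N8322 F68440) (tt N10041 D19105) (tt N10042 D19106) (tt N7132 F68441))
theorem Q8324 : ∀ i, i < 8324 → P i := stepQ 8323 Q8323 (allL N8323 (tt N7454 F68442) (tt N8323 F68443) (tt N7321 F68444) (tt N10040 (iv F86543)) (tt N6844 F68445) (tt N10041 (iv F86550)) (tt N9843 (iv F85529)) (tt N6843 (iv D14965)) (tt N8323 F68446) (tt N7133 F68447))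
theorem Q8325 : ∀ i, i < 8325 → P i := stepQ 8324 Q8324 (allL N8324 (tt N6980 (iv F132997)) (tt N6845 (iv D14966)) (tt N8324 F68448) (tt N7459 F68449) (tt N10000 (iv F86327)) (tt N8324 F68450) (tt N9891 (iv F132965)) (tt N6853 F68451) (tt N6858 F68452) (tt N7189 F68453))
theorem Q8326 : ∀ i, i < 8326 → P i := stepQ 8325 Q8325 (allL N8325 (tt N7370 F133326) (tt N9891 F133327) (tt N6846 F68455) (tt N7460 F68456) (tt N10001 (iv F86333)) (tt N10043 D19109) (tt N6845 (iv D14967)) (tt N10044 D19110) (tt N6859 F68457) (tt N7190 F68458))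
theorem Q8327 : ∀ i, i < 8327 → P i := stepQ 8326 Q8326 (allL N8326 (tt N7455 F68459) (tt N8326 F68460) (tt N10043 (iv F86572)) (tt N6847 F68461) (tt N10045 D19111) (tt N6846 (iv D14968)) (tt N8326 F68462) (tt N10046 D19112) (tt N7648 F134553) (tt N7191 F68463))
theorem Q8328 : ∀ i, i < 8328 → P i := stepQ 8327 Q8327 (allL N8327 (tt N7456 F68464) (tt N8327 F68465) (tt N10044 (iv F86577)) (tt N6848 F68466) (tt N10003 (iv F86343)) (tt N10046 (iv F86589)) (tt N6856 F68467) (tt N6846 (iv D14969)) (tt N6860 F68468) (tt N7192 F68469))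
theorem Q8329 : ∀ i, i < 8329 → P i := stepQ 8328 Q8328 (allL N8328 (tt N7457 F68470) (tt N8328 F68471) (tt N7463 F68472) (tt N10046 (iv F86588)) (tt N10041 (iv F86549)) (tt N6848 F68473) (tt N10047 D19114) (tt N6847 (iv D14970)) (tt N10048 D19115) (tt N7193 F68474))
theorem Q8330 : ∀ i, i < 8330 → P i := stepQ 8329 Q8329 (allL N8329 (tt N7458 F68475) (tt N8329 F68476) (tt N7464 F68477) (tt N7648 F134614) (tt N10042 (iv F86555)) (tt N6862 F68478) (tt N8329 F68479) (tt N10048 (iv F86607)) (tt N6847 (iv D14971)) (tt N8329 F68480))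
theorem Q8331 : ∀ i, i < 8331 → P i := stepQ 8330 Q8330 (allL N8330 (tt N7460 F68487) (tt N7405 F133329) (tt N6850 F68488) (tt N7370 F133330) (tt N10006 (iv F86361)) (tt N10049 D19118) (tt N6849 (iv D14973)) (tt N10050 D19119) (tt N6942 F68490) (tt N6854 F68491))
theorem Q8332 : ∀ i, i < 8332 → P i := stepQ 8331 Q8331 (allL N8331 (tt N7461 F68492) (tt N8331 F68493) (tt N10049 (iv F86622)) (tt N6851 F68494) (tt N10051 D19120) (tt N6850 (iv D14974)) (tt N8331 F68495) (tt N10052 D19121) (tt N10053 D19122) (tt N6855 F68496))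
theorem Q8333 : ∀ i, i < 8333 → P i := stepQ 8332 Q8332 (allL N8332 (tt N7462 F68497) (tt N8332 F68498) (tt N10050 (iv F86627)) (tt N6852 F68499) (tt N10008 (iv F86371)) (tt N10052 (iv F86639)) (tt N7192 F68500) (tt N6850 (iv D14975)) (tt N6944 F68501) (tt N6856 F68502))
theorem Q8334 : ∀ i, i < 8334 → P i := stepQ 8333 Q8333 (allL N8333 (tt N7463 F68503) (tt N8333 F68504) (tt N7457 F68505) (tt N10052 (iv F86638)) (tt N9858 (iv F85602)) (tt N6852 F68506) (tt N10054 D19123) (tt N6851 (iv D14976)) (tt N10055 D19124) (tt N6857 F68507))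
theorem Q8335 : ∀ i, i < 8335 → P i := stepQ 8334 Q8334 (allL N8334 (tt N7464 F68508) (tt N8334 F68509) (tt N7458 F68510) (tt N10053 (iv F86643)) (tt N9859 (iv F85608)) (tt N6946 F68511) (tt N8334 F68512) (tt N10055 (iv F86657)) (tt N6851 (iv D14977)) (tt N8334 F68513))
theorem Q8336 : ∀ i, i < 8336 → P i := stepQ 8335 Q8335 (allL N8335 (tt N6853 (iv D14978)) (tt N7011 (iv F132761)) (tt N8335 F68515) (tt N7012 (iv F132929)) (tt N10011 (iv F86384)) (tt N8335 F68516) (tt N9976 (iv F132995)) (tt N6980 (iv F132998)) (tt N6863 F68517) (tt N7009 (iv F132892)))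
theorem Q8337 : ∀ i, i < 8337 → P i := stepQ 8336 Q8336 (allL N8336 (tt N9976 F133500) (tt N6854 F68518) (tt N8336 F68519) (tt N7408 F133501) (tt N10012 (iv F86388)) (tt N10056 D19126) (tt N6853 (iv D14979)) (tt N10057 D19127) (tt N6864 F68520) (tt N7405 F133502))
theorem Q8338 : ∀ i, i < 8338 → P i := stepQ 8337 Q8337 (allL N8337 (tt N7466 F68521) (tt N10056 (iv F86663)) (tt N6855 F68522) (tt N9685 (iv F84664)) (tt N10058 D19128) (tt N6854 (iv D14980)) (tt N8337 F68523) (tt N10059 D19129) (tt N8337 F68524) (tt N10049 (iv F86625)))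
theorem Q8339 : ∀ i, i < 8339 → P i := stepQ 8338 Q8338 (allL N8338 (tt N7467 F68525) (tt N10057 (iv F86667)) (tt N6856 F68526) (tt N9686 (iv F84670)) (tt N10014 (iv F86394)) (tt N10059 (iv F86676)) (tt N10044 (iv F86579)) (tt N6854 (iv D14981)) (tt N6865 F68527) (tt N10050 (iv F86631)))
theorem Q8340 : ∀ i, i < 8340 → P i := stepQ 8339 Q8339 (allL N8339 (tt N7468 F68528) (tt N8339 F68529) (tt N10058 (iv F86671)) (tt N9864 (iv F85628)) (tt N6855 (iv D14982)) (tt N10015 (iv F86398)) (tt N8339 F68530) (tt N10060 D19130) (tt N8339 F68531) (tt N10051 (iv F86635)))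
theorem Q8341 : ∀ i, i < 8341 → P i := stepQ 8340 Q8340 (allL N8340 (tt N7469 F68532) (tt N8340 F68533) (tt N10059 (iv F86675)) (tt N6857 F68534) (tt N10060 (iv F86680)) (tt N6856 F68535) (tt N10061 D19131) (tt N6855 (iv D14983)) (tt N8340 F68536) (tt N10052 (iv F86640)))
theorem Q8342 : ∀ i, i < 8342 → P i := stepQ 8341 Q8341 (allL N8341 (tt N7470 F68537) (tt N8341 F68538) (tt N9689 (iv F84687)) (tt N10061 (iv F86684)) (tt N9866 (iv F85638)) (tt N10047 (iv F86600)) (tt N6857 (iv D14984)) (tt N8341 F68539) (tt N8341 F68540) (tt N10054 (iv F86652)))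
theorem Q8343 : ∀ i, i < 8343 → P i := stepQ 8342 Q8342 (allL N8342 (tt N7369 F133334) (tt N9890 F133335) (tt N6860 F68557) (tt N7553 F68558) (tt N10021 (iv F86432)) (tt N7351 F133336) (tt N6865 F68559) (tt N6859 (iv D14988)) (tt N10044 (iv F86580)) (tt N6950 F68560))
theorem Q8344 : ∀ i, i < 8344 → P i := stepQ 8343 Q8343 (allL N8343 (tt N7471 F68577) (tt N8343 F68578) (tt N7557 F68579) (tt N7649 F134613) (tt N8343 F68580) (tt N10048 (iv F86606)) (tt N8343 F68581) (tt N6862 F68582) (tt N6861 (iv D14992)) (tt N8343 F68583))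
theorem Q8345 : ∀ i, i < 8345 → P i := stepQ 8344 Q8344 (allL N8344 (tt N6864 F68584) (tt N7010 (iv F132757)) (tt N8344 F68586) (tt N6916 (iv F132919)) (tt N10025 (iv F86468)) (tt N8344 F68587) (tt N6863 (iv D14993)) (tt N9923 (iv F132986)) (tt N9976 (iv F132996)) (tt N6913 F132468))
theorem Q8346 : ∀ i, i < 8346 → P i := stepQ 8345 Q8345 (allL N8345 (tt N9923 (iv F132985)) (tt N6865 F68589) (tt N8345 F68590) (tt N7523 F133537) (tt N10027 (iv F86477)) (tt N8345 F68591) (tt N9890 (iv F132964)) (tt N6864 (iv D14994)) (tt N10057 (iv F86669)) (tt N6951 F68592))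
theorem Q8347 : ∀ i, i < 8347 → P i := stepQ 8346 Q8346 (allL N8346 (tt N6877 F68623) (tt N7472 F68624) (tt N8346 F68625) (tt N10062 D19148) (tt N6866 (iv D15000)) (tt N8346 F68626) (tt N10063 D19149) (tt N7145 F68627) (tt N9877 (iv F85751)) (tt N6867 F68628))
theorem Q8348 : ∀ i, i < 8348 → P i := stepQ 8347 Q8347 (allL N8347 (tt N6878 F68629) (tt N7473 F68630) (tt N8347 F68631) (tt N7346 F68632) (tt N10063 (iv F86784)) (tt N8347 F68633) (tt N6866 (iv D15001)) (tt N10064 D19150) (tt N9878 (iv F85758)) (tt N6868 F68634))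
theorem Q8349 : ∀ i, i < 8349 → P i := stepQ 8348 Q8348 (allL N8348 (tt N6879 F68635) (tt N7474 F68636) (tt N10065 D19151) (tt N6867 (iv D15002)) (tt N7477 F68637) (tt N8348 F68638) (tt N10066 D19152) (tt N7196 F68639) (tt N6871 F68640) (tt N10062 (iv F86780)))
theorem Q8350 : ∀ i, i < 8350 → P i := stepQ 8349 Q8349 (allL N8349 (tt N6880 F68641) (tt N7475 F68642) (tt N8349 F68643) (tt N10066 (iv F86801)) (tt N6868 F68644) (tt N10067 D19153) (tt N6867 (iv D15003)) (tt N10068 D19154) (tt N6872 F68645) (tt N10063 (iv F86785)))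
theorem Q8351 : ∀ i, i < 8351 → P i := stepQ 8350 Q8350 (allL N8350 (tt N6881 F68646) (tt N7476 F68647) (tt N8350 F68648) (tt N7479 F68649) (tt N10068 (iv F86812)) (tt N8350 F68650) (tt N7198 F68651) (tt N6868 (iv D15004)) (tt N6873 F68652) (tt N10064 (iv F86792)))
theorem Q8352 : ∀ i, i < 8352 → P i := stepQ 8351 Q8351 (allL N8351 (tt N6882 F68653) (tt N7477 F68654) (tt N10069 D19155) (tt N6869 (iv D15005)) (tt N7474 F68655) (tt N7047 F68656) (tt N10070 D19156) (tt N6871 F68657) (tt N7196 F68658) (tt N9882 (iv F85777)))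
theorem Q8353 : ∀ i, i < 8353 → P i := stepQ 8352 Q8352 (allL N8352 (tt N6883 F68659) (tt N7478 F68660) (tt N8352 F68661) (tt N10070 (iv F86823)) (tt N6870 F68662) (tt N10071 D19157) (tt N6869 (iv D15006)) (tt N10072 D19158) (tt N7197 F68663) (tt N9883 (iv F85782)))
theorem Q8354 : ∀ i, i < 8354 → P i := stepQ 8353 Q8353 (allL N8353 (tt N6884 F68664) (tt N7479 F68665) (tt N8353 F68666) (tt N7476 F68667) (tt N10072 (iv F86834)) (tt N8353 F68668) (tt N6873 F68669) (tt N6870 (iv D15007)) (tt N7198 F68670) (tt N9884 (iv F85789)))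
theorem Q8355 : ∀ i, i < 8355 → P i := stepQ 8354 Q8354 (allL N8354 (tt N6885 F68671) (tt N10073 D19159) (tt N6871 (iv D15008)) (tt N8354 F68672) (tt N9690 (iv F84706)) (tt N7049 F68673) (tt N10074 D19160) (tt N10069 (iv F86819)) (tt N10065 (iv F86798)) (tt N9885 (iv F85793)))
theorem Q8356 : ∀ i, i < 8356 → P i := stepQ 8355 Q8355 (allL N8355 (tt N6886 F68674) (tt N7480 F68675) (tt N10074 (iv F86841)) (tt N6872 F68676) (tt N9691 (iv F84713)) (tt N10075 D19161) (tt N6871 (iv D15009)) (tt N10076 D19162) (tt N10066 (iv F86803)) (tt N9886 (iv F85797)))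
theorem Q8357 : ∀ i, i < 8357 → P i := stepQ 8356 Q8356 (allL N8356 (tt N6887 F68677) (tt N6927 (iv F132786)) (tt N8356 F68679) (tt N10075 (iv F86845)) (tt N6875 F68680) (tt N6872 (iv D15010)) (tt N6926 F132423) (tt N10077 D19163) (tt N7222 (iv F132729)) (tt N9887 (iv F85803)))
theorem Q8358 : ∀ i, i < 8358 → P i := stepQ 8357 Q8357 (allL N8357 (tt N6888 F68682) (tt N7481 F68683) (tt N8357 F68684) (tt N10076 (iv F86849)) (tt N6873 F68685) (tt N10077 (iv F86854)) (tt N10072 (iv F86835)) (tt N6872 (iv D15011)) (tt N10068 (iv F86814)) (tt N9888 (iv F85808)))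
theorem Q8359 : ∀ i, i < 8359 → P i := stepQ 8358 Q8358 (allL N8358 (tt N6891 F68700) (tt N7482 F68701) (tt N7550 F132962) (tt N6876 F68702) (tt N9695 (iv F84743)) (tt N7522 F132963) (tt N8358 F68703) (tt N6874 (iv D15015)) (tt N8358 F68704) (tt N9889 (iv F85828)))
theorem Q8360 : ∀ i, i < 8360 → P i := stepQ 8359 Q8359 (allL N8359 (tt N6892 F68705) (tt N6950 (iv F132799)) (tt N8359 F68707) (tt N7522 (iv F132834)) (tt N10077 (iv F86853)) (tt N6876 F68708) (tt N6951 F132448) (tt N6875 (iv D15016)) (tt N7232 (iv F132741)) (tt N9890 (iv F85833)))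
theorem Q8361 : ∀ i, i < 8361 → P i := stepQ 8360 Q8360 (allL N8360 (tt N10062 (iv F86775)) (tt N6894 F68714) (tt N10078 D19174) (tt N6877 (iv D15018)) (tt N7361 F68715) (tt N8360 F68716) (tt N10079 D19175) (tt N7153 F68717) (tt N9902 (iv F85895)) (tt N6879 F68718))
theorem Q8362 : ∀ i, i < 8362 → P i := stepQ 8361 Q8361 (allL N8361 (tt N10063 (iv F86781)) (tt N6895 F68719) (tt N8361 F68720) (tt N10079 (iv F86915)) (tt N6878 F68721) (tt N10080 D19176) (tt N6877 (iv D15019)) (tt N10081 D19177) (tt N9903 (iv F85900)) (tt N6880 F68722))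
theorem Q8363 : ∀ i, i < 8363 → P i := stepQ 8362 Q8362 (allL N8362 (tt N10064 (iv F86786)) (tt N6896 F68723) (tt N8362 F68724) (tt N7363 F68725) (tt N10081 (iv F86925)) (tt N8362 F68726) (tt N7155 F68727) (tt N6878 (iv D15020)) (tt N9904 (iv F85906)) (tt N6881 F68728))
theorem Q8364 : ∀ i, i < 8364 → P i := stepQ 8363 Q8363 (allL N8363 (tt N10065 (iv F86793)) (tt N7629 (iv F132908)) (tt N6879 (iv D15021)) (tt N8363 F68729) (tt N7490 F68730) (tt N8363 F68731) (tt N10082 D19179) (tt N7202 F68732) (tt N6885 F68733) (tt N10078 (iv F86913)))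
theorem Q8365 : ∀ i, i < 8365 → P i := stepQ 8364 Q8364 (allL N8364 (tt N10066 (iv F86799)) (tt N6898 F68734) (tt N10082 (iv F86934)) (tt N6880 F68735) (tt N7491 F68736) (tt N10083 D19180) (tt N6879 (iv D15022)) (tt N10084 D19181) (tt N6886 F68737) (tt N10079 (iv F86917)))
theorem Q8366 : ∀ i, i < 8366 → P i := stepQ 8365 Q8365 (allL N8365 (tt N10067 (iv F86804)) (tt N6899 F68738) (tt N8365 F68739) (tt N10083 (iv F86939)) (tt N8365 F68740) (tt N6880 (iv D15023)) (tt N8365 F68741) (tt N10085 D19182) (tt N10086 D19183) (tt N10080 (iv F86922)))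
theorem Q8367 : ∀ i, i < 8367 → P i := stepQ 8366 Q8366 (allL N8366 (tt N10068 (iv F86809)) (tt N6900 F68742) (tt N8366 F68743) (tt N10084 (iv F86942)) (tt N6881 F68744) (tt N10085 (iv F86949)) (tt N7205 F68745) (tt N6880 (iv D15024)) (tt N6888 F68746) (tt N10081 (iv F86927)))
theorem Q8368 : ∀ i, i < 8368 → P i := stepQ 8367 Q8367 (allL N8367 (tt N10069 (iv F86815)) (tt N10087 D19184) (tt N6882 (iv D15025)) (tt N8367 F68747) (tt N7486 F68748) (tt N7051 F68749) (tt N10088 D19185) (tt N6885 F68750) (tt N7202 F68751) (tt N9909 (iv F85923)))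
theorem Q8369 : ∀ i, i < 8369 → P i := stepQ 8368 Q8368 (allL N8368 (tt N10070 (iv F86821)) (tt N6902 F68752) (tt N10088 (iv F86961)) (tt N6883 F68753) (tt N7487 F68754) (tt N10089 D19186) (tt N6882 (iv D15026)) (tt N10090 D19187) (tt N7203 F68755) (tt N9910 (iv F85927)))
theorem Q8370 : ∀ i, i < 8370 → P i := stepQ 8369 Q8369 (allL N8369 (tt N10071 (iv F86826)) (tt N6903 F68756) (tt N8369 F68757) (tt N10089 (iv F86966)) (tt N8369 F68758) (tt N6883 (iv D15027)) (tt N7053 F68759) (tt N10091 D19188) (tt N10092 D19189) (tt N9911 (iv F85932)))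
theorem Q8371 : ∀ i, i < 8371 → P i := stepQ 8370 Q8370 (allL N8370 (tt N10072 (iv F86831)) (tt N6904 F68760) (tt N8370 F68761) (tt N10090 (iv F86969)) (tt N6884 F68762) (tt N10091 (iv F86976)) (tt N6888 F68763) (tt N6883 (iv D15028)) (tt N7205 F68764) (tt N9912 (iv F85937)))
theorem Q8372 : ∀ i, i < 8372 → P i := stepQ 8371 Q8371 (allL N8371 (tt N10093 D19190) (tt N6885 (iv D15029)) (tt N6905 F68765) (tt N8371 F68766) (tt N7630 F133530) (tt N7055 F68767) (tt N10094 D19191) (tt N10087 (iv F86959)) (tt N7629 F133531) (tt N9913 (iv F85941)))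
theorem Q8373 : ∀ i, i < 8373 → P i := stepQ 8372 Q8372 (allL N8372 (tt N10074 (iv F86840)) (tt N10094 (iv F86985)) (tt N6886 F68768) (tt N8372 F68769) (tt N9698 (iv F84761)) (tt N10095 D19192) (tt N6885 (iv D15030)) (tt N10096 D19193) (tt N10082 (iv F86937)) (tt N9914 (iv F85944)))
theorem Q8374 : ∀ i, i < 8374 → P i := stepQ 8373 Q8373 (allL N8373 (tt N10075 (iv F86843)) (tt N6907 F68770) (tt N10095 (iv F86988)) (tt N6887 F68771) (tt N10097 D19194) (tt N6886 (iv D15031)) (tt N7057 F68772) (tt N10098 D19195) (tt N10099 D19196) (tt N9915 (iv F85948)))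
theorem Q8375 : ∀ i, i < 8375 → P i := stepQ 8374 Q8374 (allL N8374 (tt N10076 (iv F86847)) (tt N6908 F68773) (tt N10096 (iv F86991)) (tt N6888 F68774) (tt N9700 (iv F84768)) (tt N10098 (iv F86998)) (tt N10090 (iv F86971)) (tt N6886 (iv D15032)) (tt N10084 (iv F86945)) (tt N9916 (iv F85951)))
theorem Q8376 : ∀ i, i < 8376 → P i := stepQ 8375 Q8375 (allL N8375 (tt N10077 (iv F86850)) (tt N6909 F68775) (tt N8375 F68776) (tt N10098 (iv F86997)) (tt N6892 F68777) (tt N6888 F68778) (tt N10100 D19197) (tt N6887 (iv D15033)) (tt N10101 D19198) (tt N9917 (iv F85956)))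
theorem Q8377 : ∀ i, i < 8377 → P i := stepQ 8376 Q8376 (allL N8376 (tt N7222 (iv F132728)) (tt N6910 F68779) (tt N8376 F68780) (tt N10099 (iv F87000)) (tt N6893 F68781) (tt N10086 (iv F86953)) (tt N7059 F68782) (tt N10101 (iv F87009)) (tt N6887 (iv D15034)) (tt N10102 D19199))
theorem Q8378 : ∀ i, i < 8378 → P i := stepQ 8377 Q8377 (allL N8377 (tt N7550 (iv F132837)) (tt N8377 F68787) (tt N6891 F68788) (tt N8377 F68789) (tt N9704 (iv F84785)) (tt N6940 (iv F132972)) (tt N8377 F68790) (tt N6889 (iv D15036)) (tt N8377 F68791) (tt N9919 (iv F85970)))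
theorem Q8379 : ∀ i, i < 8379 → P i := stepQ 8378 Q8378 (allL N8378 (tt N7530 (iv F132814)) (tt N6911 F68792) (tt N7082 F132459) (tt N10097 (iv F86994)) (tt N6890 (iv D15037)) (tt N9705 (iv F84789)) (tt N7060 F68793) (tt N10103 D19203) (tt N7071 F132460) (tt N9920 (iv F85973)))
theorem Q8380 : ∀ i, i < 8380 → P i := stepQ 8379 Q8379 (allL N8379 (tt N7522 (iv F132833)) (tt N6912 F68794) (tt N6940 F132454) (tt N6892 F68795) (tt N10103 (iv F87032)) (tt N6891 F68796) (tt N6915 F132455) (tt N6890 (iv D15038)) (tt N6914 F132456) (tt N9921 (iv F85977)))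
theorem Q8381 : ∀ i, i < 8381 → P i := stepQ 8380 Q8380 (allL N8380 (tt N6951 F132458) (tt N6914 F68801) (tt N8380 F68802) (tt N6915 F132461) (tt N10100 (iv F87004)) (tt N8380 F68803) (tt N6892 (iv D15040)) (tt N6913 F132462) (tt N6912 F132463) (tt N9923 (iv F85985)))
theorem Q8382 : ∀ i, i < 8382 → P i := stepQ 8381 Q8381 (allL N8381 (tt N7232 (iv F132740)) (tt N6915 F68805) (tt N8381 F68806) (tt N6914 F132464) (tt N10101 (iv F87008)) (tt N8381 F68807) (tt N6912 F132465) (tt N6893 F68808) (tt N6892 (iv D15041)) (tt N9974 (iv F132993)))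
theorem Q8383 : ∀ i, i < 8383 → P i := stepQ 8382 Q8382 (allL N8382 (tt N7194 (iv F132734)) (tt N6916 F68809) (tt N8382 F68810) (tt N7010 F132466) (tt N10102 (iv F87012)) (tt N8382 F68811) (tt N7008 F132467) (tt N9974 (iv F132992)) (tt N9925 (iv F85992)) (tt N6893 (iv D15042)))
theorem Q8384 : ∀ i, i < 8384 → P i := stepQ 8383 Q8383 (allL N8383 (tt N7499 F68813) (tt N7593 F133313) (tt N6894 (iv D15043)) (tt N6917 F68814) (tt N7393 F68815) (tt N8383 F68816) (tt N10104 D19211) (tt N7165 F68817) (tt N9946 (iv F86087)) (tt N6897 F68818))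
theorem Q8385 : ∀ i, i < 8385 → P i := stepQ 8384 Q8384 (allL N8384 (tt N7500 F68819) (tt N10079 (iv F86914)) (tt N10104 (iv F87065)) (tt N6895 F68820) (tt N7394 F68821) (tt N10105 D19212) (tt N6894 (iv D15044)) (tt N10106 D19213) (tt N9947 (iv F86092)) (tt N6898 F68822))
theorem Q8386 : ∀ i, i < 8386 → P i := stepQ 8385 Q8385 (allL N8385 (tt N7501 F68823) (tt N10080 (iv F86918)) (tt N6919 F68824) (tt N10105 (iv F87070)) (tt N8385 F68825) (tt N6895 (iv D15045)) (tt N8385 F68826) (tt N10107 D19214) (tt N10108 D19215) (tt N6899 F68827))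
theorem Q8387 : ∀ i, i < 8387 → P i := stepQ 8386 Q8386 (allL N8386 (tt N7502 F68828) (tt N10081 (iv F86923)) (tt N6920 F68829) (tt N10106 (iv F87074)) (tt N6896 F68830) (tt N10107 (iv F87081)) (tt N7168 F68831) (tt N6895 (iv D15046)) (tt N9949 (iv F86101)) (tt N6900 F68832))
theorem Q8388 : ∀ i, i < 8388 → P i := stepQ 8387 Q8387 (allL N8387 (tt N7504 F68838) (tt N7515 F133406) (tt N6898 F68839) (tt N6921 F68840) (tt N7496 F133407) (tt N10109 D19218) (tt N6897 (iv D15048)) (tt N10110 D19219) (tt N6906 F68842) (tt N10104 (iv F87068)))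
theorem Q8389 : ∀ i, i < 8389 → P i := stepQ 8388 Q8388 (allL N8388 (tt N7505 F68843) (tt N10083 (iv F86938)) (tt N10109 (iv F87098)) (tt N6899 F68844) (tt N10111 D19220) (tt N6898 (iv D15049)) (tt N8388 F68845) (tt N10112 D19221) (tt N10113 D19222) (tt N10105 (iv F87072)))
theorem Q8390 : ∀ i, i < 8390 → P i := stepQ 8389 Q8389 (allL N8389 (tt N7506 F68846) (tt N10084 (iv F86941)) (tt N10110 (iv F87102)) (tt N6900 F68847) (tt N7509 F68848) (tt N10112 (iv F87113)) (tt N7213 F68849) (tt N6898 (iv D15050)) (tt N6908 F68850) (tt N10106 (iv F87077)))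
theorem Q8391 : ∀ i, i < 8391 → P i := stepQ 8390 Q8390 (allL N8390 (tt N7507 F68851) (tt N10085 (iv F86946)) (tt N6924 F68852) (tt N10112 (iv F87112)) (tt N8390 F68853) (tt N6900 F68854) (tt N10114 D19223) (tt N6899 (iv D15051)) (tt N10115 D19224) (tt N10107 (iv F87082)))
theorem Q8392 : ∀ i, i < 8392 → P i := stepQ 8391 Q8391 (allL N8391 (tt N7508 F68855) (tt N10086 (iv F86950)) (tt N6925 F68856) (tt N10113 (iv F87115)) (tt N8391 F68857) (tt N6910 F68858) (tt N8391 F68859) (tt N10115 (iv F87127)) (tt N6899 (iv D15052)) (tt N10116 D19225))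
theorem Q8393 : ∀ i, i < 8393 → P i := stepQ 8392 Q8392 (allL N8392 (tt N7057 (iv F132951)) (tt N6901 (iv D15053)) (tt N10087 (iv F86955)) (tt N6926 F68860) (tt N7503 F68861) (tt N7050 F132422) (tt N10075 (iv F132940)) (tt N6905 F68863) (tt N7210 F68864) (tt N9956 (iv F86124)))
theorem Q8394 : ∀ i, i < 8394 → P i := stepQ 8393 Q8393 (allL N8393 (tt N7496 F133369) (tt N10075 F133370) (tt N6902 F68866) (tt N6927 F68867) (tt N7504 F68868) (tt N7480 F133371) (tt N6901 (iv D15054)) (tt N10117 D19229) (tt N7211 F68869) (tt N9957 (iv F86129)))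
theorem Q8395 : ∀ i, i < 8395 → P i := stepQ 8394 Q8394 (allL N8394 (tt N7495 F133364) (tt N10089 (iv F86965)) (tt N7480 F133365) (tt N6903 F68871) (tt N10118 D19230) (tt N6902 (iv D15055)) (tt N7061 F68872) (tt N10119 D19231) (tt N10120 D19232) (tt N9958 (iv F86133)))
theorem Q8396 : ∀ i, i < 8396 → P i := stepQ 8395 Q8395 (allL N8395 (tt N7509 F68873) (tt N10090 (iv F86968)) (tt N10117 (iv F87148)) (tt N6904 F68874) (tt N7506 F68875) (tt N10119 (iv F87159)) (tt N6908 F68876) (tt N6902 (iv D15056)) (tt N7213 F68877) (tt N9959 (iv F86138)))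
theorem Q8397 : ∀ i, i < 8397 → P i := stepQ 8396 Q8396 (allL N8396 (tt N7510 F68878) (tt N10091 (iv F86973)) (tt N6929 F68879) (tt N10119 (iv F87158)) (tt N8396 F68880) (tt N6904 F68881) (tt N10121 D19233) (tt N6903 (iv D15057)) (tt N10122 D19234) (tt N9960 (iv F86143)))
theorem Q8398 : ∀ i, i < 8398 → P i := stepQ 8397 Q8397 (allL N8397 (tt N7511 F68882) (tt N10092 (iv F86977)) (tt N6930 F68883) (tt N10120 (iv F87161)) (tt N8397 F68884) (tt N7215 F68885) (tt N7064 F68886) (tt N10122 (iv F87173)) (tt N6903 (iv D15058)) (tt N10123 D19235))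
theorem Q8399 : ∀ i, i < 8399 → P i := stepQ 8398 Q8398 (allL N8398 (tt N6905 (iv D15059)) (tt N7069 (iv F132827)) (tt N10093 (iv F86982)) (tt N6931 F68888) (tt N7070 (iv F132910)) (tt N7058 F132435) (tt N10124 D19236) (tt N7057 (iv F132952)) (tt N7068 (iv F132913)) (tt N9962 (iv F86151)))
theorem Q8400 : ∀ i, i < 8400 → P i := stepQ 8399 Q8399 (allL N8399 (tt N10124 (iv F87179)) (tt N6906 F68890) (tt N10094 (iv F86986)) (tt N6932 F68891) (tt N7517 F133438) (tt N10125 D19237) (tt N6905 (iv D15060)) (tt N10126 D19238) (tt N7515 F133439) (tt N9963 (iv F86154)))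
theorem Q8401 : ∀ i, i < 8401 → P i := stepQ 8400 Q8400 (allL N8400 (tt N7513 F68892) (tt N10125 (iv F87182)) (tt N6907 F68893) (tt N6933 F68894) (tt N10127 D19239) (tt N6906 (iv D15061)) (tt N7066 F68895) (tt N10128 D19240) (tt N10129 D19241) (tt N9964 (iv F86159)))
theorem Q8402 : ∀ i, i < 8402 → P i := stepQ 8401 Q8401 (allL N8401 (tt N7514 F68896) (tt N10126 (iv F87185)) (tt N6908 F68897) (tt N6934 F68898) (tt N9712 (iv F84824)) (tt N10128 (iv F87194)) (tt N10117 (iv F87151)) (tt N6906 (iv D15062)) (tt N10110 (iv F87106)) (tt N9965 (iv F86163)))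
theorem Q8403 : ∀ i, i < 8403 → P i := stepQ 8402 Q8402 (allL N8402 (tt N7515 F68899) (tt N10097 (iv F86993)) (tt N10127 (iv F87188)) (tt N6911 F68900) (tt N6907 (iv D15063)) (tt N9713 (iv F84829)) (tt N7068 F68901) (tt N10130 D19242) (tt N10124 F133535) (tt N9966 (iv F86167)))
theorem Q8404 : ∀ i, i < 8404 → P i := stepQ 8403 Q8403 (allL N8403 (tt N7516 F68902) (tt N10098 (iv F86996)) (tt N10128 (iv F87192)) (tt N6909 F68903) (tt N10130 (iv F87201)) (tt N6908 F68904) (tt N10131 D19244) (tt N6907 (iv D15064)) (tt N10132 D19245) (tt N9967 (iv F86171)))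
theorem Q8405 : ∀ i, i < 8405 → P i := stepQ 8404 Q8404 (allL N8404 (tt N7517 F68905) (tt N10099 (iv F86999)) (tt N10129 (iv F87196)) (tt N6910 F68906) (tt N10124 F133437) (tt N10113 (iv F87116)) (tt N7070 F68907) (tt N10132 (iv F87211)) (tt N6907 (iv D15065)) (tt N10133 D19246))
theorem Q8406 : ∀ i, i < 8406 → P i := stepQ 8405 Q8405 (allL N8405 (tt N7518 F68908) (tt N10100 (iv F87002)) (tt N6937 F68909) (tt N10131 (iv F87207)) (tt N6914 F68910) (tt N10121 (iv F87167)) (tt N6909 (iv D15066)) (tt N7071 F68911) (tt N10103 (iv F132977)) (tt N9969 (iv F86179)))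
theorem Q8407 : ∀ i, i < 8407 → P i := stepQ 8406 Q8406 (allL N8406 (tt N7519 F68912) (tt N10101 (iv F87006)) (tt N6938 F68913) (tt N10132 (iv F87210)) (tt N6915 F68914) (tt N10115 (iv F87126)) (tt N10103 (iv F132976)) (tt N6910 F68915) (tt N6909 (iv D15067)) (tt N10134 D19248))
theorem Q8408 : ∀ i, i < 8408 → P i := stepQ 8407 Q8407 (allL N8407 (tt N7520 F68916) (tt N10102 (iv F87010)) (tt N6939 F68917) (tt N10133 (iv F87213)) (tt N6916 F68918) (tt N10116 (iv F87131)) (tt N7072 F68919) (tt N10134 (iv F87223)) (tt N9971 (iv F86188)) (tt N6910 (iv D15068)))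
theorem Q8409 : ∀ i, i < 8409 → P i := stepQ 8408 Q8408 (allL N8408 (tt N7521 F68920) (tt N10103 (iv F87031)) (tt N8408 F68921) (tt N10130 (iv F87200)) (tt N6912 F68922) (tt N9719 (iv F84856)) (tt N10101 F132989) (tt N6911 (iv D15069)) (tt N10100 F132990) (tt N9972 (iv F86192)))
theorem Q8410 : ∀ i, i < 8410 → P i := stepQ 8409 Q8409 (allL N8409 (tt N6932 (iv F132914)) (tt N7071 F132438) (tt N8409 F68924) (tt N10124 (iv F132947)) (tt N6913 F68925) (tt N10135 D19251) (tt N6931 F132436) (tt N10100 (iv F132959)) (tt N6911 (iv D15070)) (tt N10025 (iv F132956)))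
theorem Q8411 : ∀ i, i < 8411 → P i := stepQ 8410 Q8410 (allL N8410 (tt N7523 F68946) (tt N9974 (iv F132991)) (tt N6941 F68947) (tt N9923 (iv F132987)) (tt N10134 (iv F87222)) (tt N8410 F68948) (tt N9921 (iv F132979)) (tt N6916 F68949) (tt N9978 (iv F86219)) (tt N6915 (iv D15075)))
theorem Q8412 : ∀ i, i < 8412 → P i := stepQ 8411 Q8411 (allL N8411 (tt N7525 F68955) (tt N7403 F133337) (tt N6918 F68956) (tt N10104 (iv F87066)) (tt N6942 F68957) (tt N10136 D19259) (tt N6917 (iv D15077)) (tt N10137 D19260) (tt N10006 (iv F86362)) (tt N6921 F68958))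
theorem Q8413 : ∀ i, i < 8413 → P i := stepQ 8412 Q8412 (allL N8412 (tt N7526 F68959) (tt N8412 F68960) (tt N10136 (iv F87271)) (tt N6919 F68961) (tt N10138 D19261) (tt N6918 (iv D15078)) (tt N8412 F68962) (tt N10139 D19262) (tt N10140 D19263) (tt N6922 F68963))
theorem Q8414 : ∀ i, i < 8414 → P i := stepQ 8413 Q8413 (allL N8413 (tt N7527 F68964) (tt N8413 F68965) (tt N10137 (iv F87275)) (tt N6920 F68966) (tt N6944 F68967) (tt N10139 (iv F87288)) (tt N7183 F68968) (tt N6918 (iv D15079)) (tt N10008 (iv F86373)) (tt N6923 F68969))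
theorem Q8415 : ∀ i, i < 8415 → P i := stepQ 8414 Q8414 (allL N8414 (tt N7528 F68970) (tt N8414 F68971) (tt N10107 (iv F87079)) (tt N10139 (iv F87287)) (tt N8414 F68972) (tt N6920 F68973) (tt N10141 D19264) (tt N6919 (iv D15080)) (tt N10142 D19265) (tt N6924 F68974))
theorem Q8416 : ∀ i, i < 8416 → P i := stepQ 8415 Q8415 (allL N8415 (tt N7529 F68975) (tt N8415 F68976) (tt N10108 (iv F87084)) (tt N10140 (iv F87292)) (tt N8415 F68977) (tt N10010 (iv F86381)) (tt N8415 F68978) (tt N10142 (iv F87303)) (tt N6919 (iv D15081)) (tt N10143 D19266))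
theorem Q8417 : ∀ i, i < 8417 → P i := stepQ 8416 Q8416 (allL N8416 (tt N7531 F68989) (tt N7216 F133404) (tt N6922 F68990) (tt N10109 (iv F87099)) (tt N7206 F133405) (tt N6921 (iv D15084)) (tt N8416 F68991) (tt N10144 D19271) (tt N10145 D19272) (tt N10136 (iv F87273)))
theorem Q8418 : ∀ i, i < 8418 → P i := stepQ 8417 Q8417 (allL N8417 (tt N7532 F68992) (tt N7521 F133408) (tt N6923 F68993) (tt N10110 (iv F87103)) (tt N6947 F68994) (tt N10144 (iv F87328)) (tt N7224 F68995) (tt N6921 (iv D15085)) (tt N6934 F68996) (tt N10137 (iv F87278)))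
theorem Q8419 : ∀ i, i < 8419 → P i := stepQ 8418 Q8418 (allL N8418 (tt N7533 F68997) (tt N8418 F68998) (tt N7206 F133399) (tt N8418 F68999) (tt N6922 (iv D15086)) (tt N6948 F69000) (tt N8418 F69001) (tt N10146 D19273) (tt N10147 D19274) (tt N10138 (iv F87284)))
theorem Q8420 : ∀ i, i < 8420 → P i := stepQ 8419 Q8419 (allL N8419 (tt N7534 F69002) (tt N8419 F69003) (tt N10144 (iv F87327)) (tt N6924 F69004) (tt N10146 (iv F87336)) (tt N6923 F69005) (tt N10148 D19275) (tt N6922 (iv D15087)) (tt N10149 D19276) (tt N10139 (iv F87289)))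
theorem Q8421 : ∀ i, i < 8421 → P i := stepQ 8420 Q8420 (allL N8420 (tt N7535 F69006) (tt N8420 F69007) (tt N10145 (iv F87330)) (tt N6925 F69008) (tt N10147 (iv F87341)) (tt N6936 F69009) (tt N8420 F69010) (tt N10149 (iv F87353)) (tt N6922 (iv D15088)) (tt N10150 D19277))
theorem Q8422 : ∀ i, i < 8422 → P i := stepQ 8421 Q8421 (allL N8421 (tt N7536 F69011) (tt N8421 F69012) (tt N10114 (iv F87119)) (tt N10148 (iv F87346)) (tt N8421 F69013) (tt N7227 F69014) (tt N6924 (iv D15089)) (tt N8421 F69015) (tt N10151 D19278) (tt N10141 (iv F87299)))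
theorem Q8423 : ∀ i, i < 8423 → P i := stepQ 8422 Q8422 (allL N8422 (tt N7537 F69016) (tt N8422 F69017) (tt N10115 (iv F87124)) (tt N10149 (iv F87351)) (tt N8422 F69018) (tt N6938 F69019) (tt N10151 (iv F87362)) (tt N6925 F69020) (tt N6924 (iv D15090)) (tt N10152 D19279))
theorem Q8424 : ∀ i, i < 8424 → P i := stepQ 8423 Q8423 (allL N8423 (tt N7538 F69021) (tt N8423 F69022) (tt N10116 (iv F87129)) (tt N10150 (iv F87356)) (tt N8423 F69023) (tt N6939 F69024) (tt N8423 F69025) (tt N10152 (iv F87368)) (tt N10143 (iv F87308)) (tt N6925 (iv D15091)))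
theorem Q8425 : ∀ i, i < 8425 → P i := stepQ 8424 Q8424 (allL N8424 (tt N7498 F133375) (tt N10077 F133376) (tt N6928 F69040) (tt N10117 (iv F87149)) (tt N6950 F69041) (tt N7481 F133377) (tt N6934 F69042) (tt N6927 (iv D15095)) (tt N7224 F69043) (tt N10021 (iv F86434)))
theorem Q8426 : ∀ i, i < 8426 → P i := stepQ 8425 Q8425 (allL N8425 (tt N7539 F69058) (tt N8425 F69059) (tt N10121 (iv F87165)) (tt N7879 F133538) (tt N8425 F69060) (tt N6937 F69061) (tt N6929 (iv D15099)) (tt N7073 F69062) (tt N10153 D19291) (tt N10022 (iv F86455)))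
theorem Q8427 : ∀ i, i < 8427 → P i := stepQ 8426 Q8426 (allL N8426 (tt N7540 F69063) (tt N8426 F69064) (tt N10122 (iv F87170)) (tt N7878 F134567) (tt N8426 F69065) (tt N7228 F69066) (tt N10153 (iv F87422)) (tt N6930 F69067) (tt N6929 (iv D15100)) (tt N10154 D19292))
theorem Q8428 : ∀ i, i < 8428 → P i := stepQ 8427 Q8427 (allL N8427 (tt N7541 F69068) (tt N8427 F69069) (tt N10123 (iv F87175)) (tt N7876 F134568) (tt N8427 F69070) (tt N7229 F69071) (tt N7075 F69072) (tt N10154 (iv F87428)) (tt N10024 (iv F86464)) (tt N6930 (iv D15101)))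
theorem Q8429 : ∀ i, i < 8429 → P i := stepQ 8428 Q8428 (allL N8428 (tt N10135 F133434) (tt N6933 F69077) (tt N8428 F69078) (tt N10125 (iv F87183)) (tt N8428 F69079) (tt N6932 (iv D15103)) (tt N7076 F69080) (tt N10155 D19295) (tt N10156 D19296) (tt N10026 (iv F86474)))
theorem Q8430 : ∀ i, i < 8430 → P i := stepQ 8429 Q8429 (allL N8429 (tt N10100 (iv F132943)) (tt N6934 F69081) (tt N8429 F69082) (tt N10126 (iv F87186)) (tt N6951 F69083) (tt N10155 (iv F87441)) (tt N10077 (iv F132941)) (tt N6932 (iv D15104)) (tt N7521 F133536) (tt N10027 (iv F86478)))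
theorem Q8431 : ∀ i, i < 8431 → P i := stepQ 8430 Q8430 (allL N8430 (tt N7543 F69084) (tt N10155 (iv F87438)) (tt N6935 F69085) (tt N10128 (iv F87193)) (tt N8430 F69086) (tt N6934 F69087) (tt N10157 D19297) (tt N6933 (iv D15105)) (tt N10158 D19298) (tt N10028 (iv F86483)))
theorem Q8432 : ∀ i, i < 8432 → P i := stepQ 8431 Q8431 (allL N8431 (tt N7544 F69088) (tt N10156 (iv F87442)) (tt N6936 F69089) (tt N10129 (iv F87197)) (tt N8431 F69090) (tt N10145 (iv F87331)) (tt N7078 F69091) (tt N10158 (iv F87453)) (tt N6933 (iv D15106)) (tt N10159 D19299))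
theorem Q8433 : ∀ i, i < 8433 → P i := stepQ 8432 Q8432 (allL N8432 (tt N7545 F69092) (tt N8432 F69093) (tt N10157 (iv F87447)) (tt N6937 F69094) (tt N8432 F69095) (tt N7879 (iv F132960)) (tt N6935 (iv D15107)) (tt N7079 F69096) (tt N10160 D19300) (tt N10030 (iv F86493)))
theorem Q8434 : ∀ i, i < 8434 → P i := stepQ 8433 Q8433 (allL N8433 (tt N7546 F69097) (tt N8433 F69098) (tt N10158 (iv F87451)) (tt N6938 F69099) (tt N8433 F69100) (tt N10149 (iv F87352)) (tt N10160 (iv F87462)) (tt N6936 F69101) (tt N6935 (iv D15108)) (tt N10161 D19301))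
theorem Q8435 : ∀ i, i < 8435 → P i := stepQ 8434 Q8434 (allL N8434 (tt N7547 F69102) (tt N8434 F69103) (tt N10159 (iv F87455)) (tt N6939 F69104) (tt N8434 F69105) (tt N10150 (iv F87357)) (tt N7081 F69106) (tt N10161 (iv F87468)) (tt N10032 (iv F86504)) (tt N6936 (iv D15109)))
theorem Q8436 : ∀ i, i < 8436 → P i := stepQ 8435 Q8435 (allL N8435 (tt N7548 F69107) (tt N8435 F69108) (tt N10103 F133671) (tt N10160 (iv F87460)) (tt N6940 F69109) (tt N10162 D19302) (tt N6938 F69110) (tt N7082 F69111) (tt N6937 (iv D15110)) (tt N10163 D19303))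
theorem Q8437 : ∀ i, i < 8437 → P i := stepQ 8436 Q8436 (allL N8436 (tt N7549 F69112) (tt N8436 F69113) (tt N10134 (iv F87221)) (tt N10161 (iv F87466)) (tt N6941 F69114) (tt N10152 (iv F87367)) (tt N10163 (iv F87475)) (tt N6939 F69115) (tt N10034 (iv F86514)) (tt N6938 (iv D15111)))
theorem Q8438 : ∀ i, i < 8438 → P i := stepQ 8437 Q8437 (allL N8437 (tt N7551 F69122) (tt N8437 F69123) (tt N9921 (iv F132978)) (tt N8437 F69124) (tt N10163 (iv F87474)) (tt N9919 F133711) (tt N6941 F69125) (tt N7084 F69126) (tt N10036 (iv F86525)) (tt N6940 (iv D15113)))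
theorem Q8439 : ∀ i, i < 8439 → P i := stepQ 8438 Q8438 (allL N8438 (tt N7553 F69142) (tt N7404 F133338) (tt N6944 F69143) (tt N7369 F133339) (tt N10137 (iv F87276)) (tt N7368 F133340) (tt N7195 F69145) (tt N6942 (iv D15117)) (tt N10050 (iv F86630)) (tt N6947 F69146))
theorem Q8440 : ∀ i, i < 8440 → P i := stepQ 8439 Q8439 (allL N8439 (tt N7554 F69147) (tt N8439 F69148) (tt N7156 F133401) (tt N8439 F69149) (tt N6943 (iv D15118)) (tt N10138 (iv F87282)) (tt N6952 F69150) (tt N10164 D19312) (tt N10165 D19313) (tt N6948 F69151))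
theorem Q8441 : ∀ i, i < 8441 → P i := stepQ 8440 Q8440 (allL N8440 (tt N7555 F69152) (tt N8440 F69153) (tt N7368 F133402) (tt N6945 F69154) (tt N10164 (iv F87521)) (tt N6944 F69155) (tt N8440 F69156) (tt N6943 (iv D15119)) (tt N10166 D19314) (tt N6949 F69157))
theorem Q8442 : ∀ i, i < 8442 → P i := stepQ 8441 Q8441 (allL N8441 (tt N7556 F69158) (tt N8441 F69159) (tt N7249 F133403) (tt N6946 F69160) (tt N10165 (iv F87527)) (tt N10053 (iv F86644)) (tt N6953 F69161) (tt N10166 (iv F87535)) (tt N6943 (iv D15120)) (tt N8441 F69162))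
theorem Q8443 : ∀ i, i < 8443 → P i := stepQ 8442 Q8442 (allL N8442 (tt N7557 F69163) (tt N8442 F69164) (tt N7471 F69165) (tt N10166 (iv F87533)) (tt N8442 F69166) (tt N10055 (iv F86656)) (tt N8442 F69167) (tt N6946 F69168) (tt N6945 (iv D15121)) (tt N8442 F69169))
theorem Q8444 : ∀ i, i < 8444 → P i := stepQ 8443 Q8443 (allL N8443 (tt N7558 F69195) (tt N8443 F69196) (tt N7207 F133400) (tt N8443 F69197) (tt N6949 F69198) (tt N10146 (iv F87337)) (tt N8443 F69199) (tt N6948 (iv D15127)) (tt N8443 F69200) (tt N10164 (iv F87523)))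
theorem Q8445 : ∀ i, i < 8445 → P i := stepQ 8444 Q8444 (allL N8444 (tt N7559 F69277) (tt N8444 F69278) (tt N7097 F133417) (tt N8444 F69279) (tt N6953 F69280) (tt N7768 (iv F69283)) (tt N10165 (iv F87528)) (tt N8444 F69281) (tt N6952 (iv D15142)) (tt N8444 F69282))
theorem Q8446 : ∀ i, i < 8446 → P i := stepQ 8445 Q8445 (allL N8445 (tt N6964 F69301) (tt N7104 F69302) (tt N8445 F69303) (tt N10167 D19336) (tt N6954 (iv D15146)) (tt N6956 F69304) (tt N10168 D19337) (tt N7095 F69305) (tt N9873 (iv F85723)) (tt N8445 F69306))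
theorem Q8447 : ∀ i, i < 8447 → P i := stepQ 8446 Q8446 (allL N8446 (tt N6965 F69307) (tt N7105 F69308) (tt N8446 F69309) (tt N7245 F69310) (tt N10168 (iv F87661)) (tt N8446 F69311) (tt N6954 (iv D15147)) (tt N10169 D19338) (tt N9874 (iv F85730)) (tt N8446 F69312))
theorem Q8448 : ∀ i, i < 8448 → P i := stepQ 8447 Q8447 (allL N8447 (tt N6967 F69313) (tt N7087 F69314) (tt N8447 F69315) (tt N10170 D19339) (tt N6955 (iv D15148)) (tt N7095 F69316) (tt N10171 D19340) (tt N6956 F69317) (tt N6958 F69318) (tt N8447 F69319))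
theorem Q8449 : ∀ i, i < 8449 → P i := stepQ 8448 Q8448 (allL N8448 (tt N6968 F69320) (tt N7045 (iv F132850)) (tt N8448 F69322) (tt N8448 F69323) (tt N10171 (iv F87680)) (tt N7086 F69324) (tt N6955 (iv D15149)) (tt N7043 (iv F133008)) (tt N6959 F69325) (tt N8448 F69326))
theorem Q8450 : ∀ i, i < 8450 → P i := stepQ 8449 Q8449 (allL N8449 (tt N6969 F69327) (tt N7560 F69328) (tt N10172 D19342) (tt N6956 (iv D15150)) (tt N8449 F69329) (tt N10167 (iv F87655)) (tt N10173 D19343) (tt N10170 (iv F87674)) (tt N6960 F69330) (tt N8449 F69331))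
theorem Q8451 : ∀ i, i < 8451 → P i := stepQ 8450 Q8450 (allL N8450 (tt N6970 F69332) (tt N7022 (iv F132872)) (tt N8450 F69334) (tt N10173 (iv F87698)) (tt N6957 F69335) (tt N10174 D19344) (tt N6956 (iv D15151)) (tt N7025 (iv F133005)) (tt N6961 F69336) (tt N8450 F69337))
theorem Q8452 : ∀ i, i < 8452 → P i := stepQ 8451 Q8451 (allL N8451 (tt N6972 F69345) (tt N7561 F69346) (tt N10175 D19346) (tt N6958 (iv D15153)) (tt N8451 F69347) (tt N9882 (iv F85775)) (tt N10176 D19347) (tt N6960 F69348) (tt N10170 (iv F87675)) (tt N7047 F69349))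
theorem Q8453 : ∀ i, i < 8453 → P i := stepQ 8452 Q8452 (allL N8452 (tt N6973 F69350) (tt N7035 (iv F132858)) (tt N8452 F69352) (tt N10176 (iv F87720)) (tt N6959 F69353) (tt N10177 D19348) (tt N6958 (iv D15154)) (tt N7033 (iv F133003)) (tt N10171 (iv F87681)) (tt N7048 F69354))
theorem Q8454 : ∀ i, i < 8454 → P i := stepQ 8453 Q8453 (allL N8453 (tt N6975 F69362) (tt N10178 D19350) (tt N6960 (iv D15156)) (tt N8453 F69363) (tt N8453 F69364) (tt N9885 (iv F85792)) (tt N10179 D19351) (tt N10175 (iv F87716)) (tt N10172 (iv F87694)) (tt N7049 F69365))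
theorem Q8455 : ∀ i, i < 8455 → P i := stepQ 8454 Q8454 (allL N8454 (tt N6976 F69366) (tt N6997 (iv F132879)) (tt N10179 (iv F87739)) (tt N6961 F69368) (tt N8454 F69369) (tt N9956 (iv F132946)) (tt N6960 (iv D15157)) (tt N7001 (iv F133001)) (tt N10173 (iv F87700)) (tt N7050 F69370))
theorem Q8456 : ∀ i, i < 8456 → P i := stepQ 8455 Q8455 (allL N8455 (tt N7244 F69414) (tt N6981 F69415) (tt N7643 F69416) (tt N10180 D19365) (tt N6962 (iv D15166)) (tt N8455 F69417) (tt N10181 D19366) (tt N7234 F69418) (tt N9758 (iv F85108)) (tt N8455 F69419))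
theorem Q8457 : ∀ i, i < 8457 → P i := stepQ 8456 Q8456 (allL N8456 (tt N7245 F69420) (tt N6982 F69421) (tt N7644 F69422) (tt N6965 F69423) (tt N10181 (iv F87821)) (tt N8456 F69424) (tt N6962 (iv D15167)) (tt N10182 D19367) (tt N9759 (iv F85115)) (tt N8456 F69425))
theorem Q8458 : ∀ i, i < 8458 → P i := stepQ 8457 Q8457 (allL N8457 (tt N7095 F69426) (tt N6983 F69427) (tt N8457 F69428) (tt N10183 D19368) (tt N6963 (iv D15168)) (tt N6967 F69429) (tt N10184 D19369) (tt N6964 F69430) (tt N9892 (iv F85843)) (tt N8457 F69431))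
theorem Q8459 : ∀ i, i < 8459 → P i := stepQ 8458 Q8458 (allL N8458 (tt N7096 F69432) (tt N6984 F69433) (tt N8458 F69434) (tt N7235 F69435) (tt N10184 (iv F87839)) (tt N7093 F69436) (tt N6963 (iv D15169)) (tt N10185 D19370) (tt N9893 (iv F85850)) (tt N8458 F69437))
theorem Q8460 : ∀ i, i < 8460 → P i := stepQ 8459 Q8459 (allL N8459 (tt N10167 (iv F87652)) (tt N6985 F69438) (tt N10186 D19371) (tt N6964 (iv D15170)) (tt N10180 (iv F87814)) (tt N6969 F69439) (tt N10187 D19372) (tt N10183 (iv F87834)) (tt N9894 (iv F85854)) (tt N8459 F69440))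
theorem Q8461 : ∀ i, i < 8461 → P i := stepQ 8460 Q8460 (allL N8460 (tt N10168 (iv F87658)) (tt N6986 F69441) (tt N8460 F69442) (tt N10187 (iv F87852)) (tt N6965 F69443) (tt N10188 D19373) (tt N6964 (iv D15171)) (tt N10189 D19374) (tt N9895 (iv F85858)) (tt N8460 F69444))
theorem Q8462 : ∀ i, i < 8462 → P i := stepQ 8461 Q8461 (allL N8461 (tt N10169 (iv F87663)) (tt N6987 F69445) (tt N8461 F69446) (tt N10182 (iv F87826)) (tt N10189 (iv F87861)) (tt N8461 F69447) (tt N10185 (iv F87846)) (tt N6965 (iv D15172)) (tt N9896 (iv F85861)) (tt N8461 F69448))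
theorem Q8463 : ∀ i, i < 8463 → P i := stepQ 8462 Q8462 (allL N8462 (tt N7085 F69449) (tt N6988 F69450) (tt N8462 F69451) (tt N7337 F134611) (tt N6966 (iv D15173)) (tt N7092 F69452) (tt N7141 F134612) (tt N8462 F69453) (tt N8462 F69454) (tt N8462 F69455))
theorem Q8464 : ∀ i, i < 8464 → P i := stepQ 8463 Q8463 (allL N8463 (tt N7086 F69456) (tt N6989 F69457) (tt N8463 F69458) (tt N8463 F69459) (tt N7141 (iv F134442)) (tt N6968 F69460) (tt N6966 (iv D15174)) (tt N7091 F133767) (tt N8463 F69461) (tt N8463 F69462))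
theorem Q8465 : ∀ i, i < 8465 → P i := stepQ 8464 Q8464 (allL N8464 (tt N10170 (iv F87670)) (tt N6990 F69463) (tt N10190 D19378) (tt N6967 (iv D15175)) (tt N8464 F69464) (tt N10183 (iv F87833)) (tt N10191 D19379) (tt N6969 F69465) (tt N6972 F69466) (tt N8464 F69467))
theorem Q8466 : ∀ i, i < 8466 → P i := stepQ 8465 Q8465 (allL N8465 (tt N10171 (iv F87677)) (tt N6991 F69468) (tt N8465 F69469) (tt N10191 (iv F87890)) (tt N6968 F69470) (tt N10192 D19380) (tt N6967 (iv D15176)) (tt N10193 D19381) (tt N6973 F69471) (tt N8465 F69472))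
theorem Q8467 : ∀ i, i < 8467 → P i := stepQ 8466 Q8466 (allL N8466 (tt N7043 (iv F133007)) (tt N6992 F69473) (tt N8466 F69474) (tt N8466 F69475) (tt N10193 (iv F87899)) (tt N7091 (iv F133010)) (tt N6971 F69476) (tt N6968 (iv D15177)) (tt N6974 F69477) (tt N8466 F69478))
theorem Q8468 : ∀ i, i < 8468 → P i := stepQ 8467 Q8467 (allL N8467 (tt N10172 (iv F87691)) (tt N10194 D19382) (tt N6969 (iv D15178)) (tt N8467 F69479) (tt N8467 F69480) (tt N10186 (iv F87849)) (tt N10195 D19383) (tt N10190 (iv F87886)) (tt N6975 F69481) (tt N8467 F69482))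
theorem Q8469 : ∀ i, i < 8469 → P i := stepQ 8468 Q8468 (allL N8468 (tt N10173 (iv F87696)) (tt N6994 F69483) (tt N10195 (iv F87908)) (tt N6970 F69484) (tt N8468 F69485) (tt N10196 D19384) (tt N6969 (iv D15179)) (tt N10197 D19385) (tt N6976 F69486) (tt N8468 F69487))
theorem Q8470 : ∀ i, i < 8470 → P i := stepQ 8469 Q8469 (allL N8469 (tt N10174 (iv F87702)) (tt N6995 F69488) (tt N8469 F69489) (tt N10196 (iv F87914)) (tt N8469 F69490) (tt N6970 (iv D15180)) (tt N10188 (iv F87857)) (tt N10198 D19386) (tt N10199 D19387) (tt N8469 F69491))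
theorem Q8471 : ∀ i, i < 8471 → P i := stepQ 8470 Q8470 (allL N8470 (tt N7025 (iv F133004)) (tt N6996 F69492) (tt N8470 F69493) (tt N10197 (iv F87917)) (tt N6971 F69494) (tt N10198 (iv F87924)) (tt N10193 (iv F87900)) (tt N6970 (iv D15181)) (tt N6978 F69495) (tt N8470 F69496))
theorem Q8472 : ∀ i, i < 8472 → P i := stepQ 8471 Q8471 (allL N8471 (tt N10175 (iv F87713)) (tt N10179 F133758) (tt N6972 (iv D15182)) (tt N8471 F69497) (tt N8471 F69498) (tt N9909 (iv F85921)) (tt N10178 (iv F134316)) (tt N6975 F69499) (tt N10190 (iv F87887)) (tt N7051 F69500))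
theorem Q8473 : ∀ i, i < 8473 → P i := stepQ 8472 Q8472 (allL N8472 (tt N10176 (iv F87718)) (tt N6998 F69501) (tt N10178 (iv F134315)) (tt N6973 F69502) (tt N8472 F69503) (tt N10200 D19390) (tt N6972 (iv D15183)) (tt N10201 D19391) (tt N10191 (iv F87892)) (tt N7052 F69504))
theorem Q8474 : ∀ i, i < 8474 → P i := stepQ 8473 Q8473 (allL N8473 (tt N10177 (iv F87723)) (tt N6999 F69505) (tt N8473 F69506) (tt N10200 (iv F87940)) (tt N8473 F69507) (tt N6973 (iv D15184)) (tt N9911 (iv F85931)) (tt N10202 D19392) (tt N10203 D19393) (tt N7053 F69508))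
theorem Q8475 : ∀ i, i < 8475 → P i := stepQ 8474 Q8474 (allL N8474 (tt N7033 (iv F133002)) (tt N7000 F69509) (tt N8474 F69510) (tt N10201 (iv F87943)) (tt N6974 F69511) (tt N10202 (iv F87950)) (tt N6978 F69512) (tt N6973 (iv D15185)) (tt N10193 (iv F87901)) (tt N7054 F69513))
theorem Q8476 : ∀ i, i < 8476 → P i := stepQ 8475 Q8475 (allL N8475 (tt N10204 D19394) (tt N6975 (iv D15186)) (tt N7001 F69514) (tt N8475 F69515) (tt N8475 F69516) (tt N9913 (iv F85940)) (tt N10205 D19395) (tt N10179 F133759) (tt N10194 (iv F87906)) (tt N7055 F69517))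
theorem Q8477 : ∀ i, i < 8477 → P i := stepQ 8476 Q8476 (allL N8476 (tt N10179 (iv F87738)) (tt N10205 (iv F87959)) (tt N6976 F69518) (tt N8476 F69519) (tt N8476 F69520) (tt N10206 D19396) (tt N6975 (iv D15187)) (tt N10204 F133757) (tt N10195 (iv F87911)) (tt N7056 F69521))
theorem Q8478 : ∀ i, i < 8478 → P i := stepQ 8477 Q8477 (allL N8477 (tt N9956 F133628) (tt N7003 F69522) (tt N10206 (iv F87964)) (tt N6977 F69523) (tt N10207 D19398) (tt N6976 (iv D15188)) (tt N9915 (iv F85947)) (tt N9962 F133629) (tt N10208 D19400) (tt N7057 F69524))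
theorem Q8479 : ∀ i, i < 8479 → P i := stepQ 8478 Q8478 (allL N8478 (tt N7001 (iv F133000)) (tt N7004 F69525) (tt N10204 (iv F133009)) (tt N6978 F69526) (tt N8478 F69527) (tt N9962 (iv F132948)) (tt N10201 (iv F87945)) (tt N6976 (iv D15189)) (tt N10197 (iv F87919)) (tt N7058 F69528))
theorem Q8480 : ∀ i, i < 8480 → P i := stepQ 8479 Q8479 (allL N8479 (tt N10000 F133646) (tt N7006 F69534) (tt N8479 F69535) (tt N10208 (iv F87980)) (tt N6980 F69536) (tt N10199 (iv F87929)) (tt N9918 (iv F85960)) (tt N10011 F133647) (tt N6977 (iv D15191)) (tt N10209 D19403))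
theorem Q8481 : ∀ i, i < 8481 → P i := stepQ 8480 Q8480 (allL N8480 (tt N7524 (iv F132815)) (tt N7007 F69548) (tt N7083 (iv F133019)) (tt N10207 (iv F87972)) (tt N6979 (iv D15194)) (tt N8480 F69549) (tt N9920 (iv F85972)) (tt N7072 F132508) (tt N10210 D19408) (tt N7060 F69550))
theorem Q8482 : ∀ i, i < 8482 → P i := stepQ 8481 Q8481 (allL N8481 (tt N7459 (iv F132755)) (tt N7009 F69555) (tt N7042 (iv F133020)) (tt N6980 F69556) (tt N10210 (iv F88013)) (tt N8481 F69557) (tt N9922 (iv F85980)) (tt N7012 F132509) (tt N6979 (iv D15196)) (tt N7011 F132510))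
theorem Q8483 : ∀ i, i < 8483 → P i := stepQ 8482 Q8482 (allL N8482 (tt N7189 (iv F132735)) (tt N7012 F69566) (tt N8482 F69567) (tt N7011 F132513) (tt N10209 (iv F87991)) (tt N8482 F69568) (tt N9925 (iv F85991)) (tt N7009 F132514) (tt N7008 F132515) (tt N6980 (iv D15199)))
theorem Q8484 : ∀ i, i < 8484 → P i := stepQ 8483 Q8483 (allL N8483 (tt N7573 F69570) (tt N10180 (iv F87813)) (tt N10211 D19414) (tt N6981 (iv D15200)) (tt N6985 F69571) (tt N8483 F69572) (tt N10212 D19415) (tt N9734 (iv F84969)) (tt N9926 (iv F85995)) (tt N8483 F69573))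
theorem Q8485 : ∀ i, i < 8485 → P i := stepQ 8484 Q8484 (allL N8484 (tt N7574 F69574) (tt N10181 (iv F87819)) (tt N8484 F69575) (tt N10212 (iv F88040)) (tt N6982 F69576) (tt N10213 D19416) (tt N6981 (iv D15201)) (tt N10214 D19417) (tt N9927 (iv F85999)) (tt N8484 F69577))
theorem Q8486 : ∀ i, i < 8486 → P i := stepQ 8485 Q8485 (allL N8485 (tt N7575 F69578) (tt N10182 (iv F87824)) (tt N8485 F69579) (tt N6987 F69580) (tt N10214 (iv F88050)) (tt N8485 F69581) (tt N9736 (iv F84981)) (tt N6982 (iv D15202)) (tt N9928 (iv F86003)) (tt N8485 F69582))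
theorem Q8487 : ∀ i, i < 8487 → P i := stepQ 8486 Q8486 (allL N8486 (tt N7576 F69583) (tt N10183 (iv F87831)) (tt N10215 D19418) (tt N6983 (iv D15203)) (tt N9734 (iv F84967)) (tt N6990 F69584) (tt N10216 D19419) (tt N6985 F69585) (tt N9929 (iv F86007)) (tt N8486 F69586))
theorem Q8488 : ∀ i, i < 8488 → P i := stepQ 8487 Q8487 (allL N8487 (tt N7577 F69587) (tt N10184 (iv F87837)) (tt N7016 F69588) (tt N10216 (iv F88058)) (tt N6984 F69589) (tt N10217 D19420) (tt N6983 (iv D15204)) (tt N10218 D19421) (tt N9930 (iv F86012)) (tt N8487 F69590))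
theorem Q8489 : ∀ i, i < 8489 → P i := stepQ 8488 Q8488 (allL N8488 (tt N7578 F69591) (tt N10185 (iv F87842)) (tt N7017 F69592) (tt N9736 (iv F84979)) (tt N10218 (iv F88066)) (tt N9587 (iv F84040)) (tt N6987 F69593) (tt N6984 (iv D15205)) (tt N9931 (iv F86017)) (tt N8488 F69594))
theorem Q8490 : ∀ i, i < 8490 → P i := stepQ 8489 Q8489 (allL N8489 (tt N7579 F69595) (tt N10219 D19422) (tt N6985 (iv D15206)) (tt N7018 F69596) (tt N10211 (iv F88036)) (tt N6993 F69597) (tt N10220 D19423) (tt N10215 (iv F88055)) (tt N9935 (iv F86037)) (tt N8489 F69598))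
theorem Q8491 : ∀ i, i < 8491 → P i := stepQ 8490 Q8490 (allL N8490 (tt N7580 F69599) (tt N10187 (iv F87851)) (tt N10220 (iv F88073)) (tt N6986 F69600) (tt N10212 (iv F88041)) (tt N10221 D19424) (tt N6985 (iv D15207)) (tt N10222 D19425) (tt N9936 (iv F86040)) (tt N8490 F69601))
theorem Q8492 : ∀ i, i < 8492 → P i := stepQ 8491 Q8491 (allL N8491 (tt N7581 F69602) (tt N10188 (iv F87854)) (tt N7020 F69603) (tt N10221 (iv F88077)) (tt N8491 F69604) (tt N6986 (iv D15208)) (tt N6995 F69605) (tt N10223 D19426) (tt N10224 D19427) (tt N8491 F69606))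
theorem Q8493 : ∀ i, i < 8493 → P i := stepQ 8492 Q8492 (allL N8492 (tt N7582 F69607) (tt N10189 (iv F87859)) (tt N7021 F69608) (tt N10222 (iv F88081)) (tt N6987 F69609) (tt N10223 (iv F88086)) (tt N10218 (iv F88067)) (tt N6986 (iv D15209)) (tt N9938 (iv F86047)) (tt N8492 F69610))
theorem Q8494 : ∀ i, i < 8494 → P i := stepQ 8493 Q8493 (allL N8493 (tt N7568 F133482) (tt N10173 F133483) (tt N6990 (iv D15213)) (tt N7022 F69629) (tt N8493 F69630) (tt N10215 (iv F88054)) (tt N7560 F133484) (tt N6993 F69631) (tt N6997 F69632) (tt N8493 F69633))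
theorem Q8495 : ∀ i, i < 8495 → P i := stepQ 8494 Q8494 (allL N8494 (tt N7567 F133480) (tt N10191 (iv F87889)) (tt N7560 F133481) (tt N6991 F69635) (tt N8494 F69636) (tt N10225 D19434) (tt N6990 (iv D15214)) (tt N10226 D19435) (tt N6998 F69637) (tt N8494 F69638))
theorem Q8496 : ∀ i, i < 8496 → P i := stepQ 8495 Q8495 (allL N8495 (tt N7583 F69639) (tt N10192 (iv F87894)) (tt N7023 F69640) (tt N10225 (iv F88125)) (tt N7134 (iv F134448)) (tt N6991 (iv D15215)) (tt N10217 (iv F88062)) (tt N7121 F133793) (tt N10227 D19437) (tt N8495 F69641))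
theorem Q8497 : ∀ i, i < 8497 → P i := stepQ 8496 Q8496 (allL N8496 (tt N7584 F69642) (tt N10193 (iv F87897)) (tt N7024 F69643) (tt N10226 (iv F88128)) (tt N6992 F69644) (tt N7121 (iv F133012)) (tt N6996 F69645) (tt N6991 (iv D15216)) (tt N7000 F69646) (tt N8496 F69647))
theorem Q8498 : ∀ i, i < 8498 → P i := stepQ 8497 Q8497 (allL N8497 (tt N10197 F133762) (tt N6993 (iv D15217)) (tt N10194 (iv F87903)) (tt N7025 F69648) (tt N8497 F69649) (tt N10219 (iv F88070)) (tt N10228 D19439) (tt N10173 F133763) (tt N7001 F69650) (tt N8497 F69651))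
theorem Q8499 : ∀ i, i < 8499 → P i := stepQ 8498 Q8498 (allL N8498 (tt N7586 F69652) (tt N10228 (iv F88145)) (tt N6994 F69653) (tt N7026 F69654) (tt N8498 F69655) (tt N10229 D19440) (tt N6993 (iv D15218)) (tt N10230 D19441) (tt N7002 F69656) (tt N8498 F69657))
theorem Q8500 : ∀ i, i < 8500 → P i := stepQ 8499 Q8499 (allL N8499 (tt N7587 F69658) (tt N10196 (iv F87913)) (tt N10229 (iv F88151)) (tt N6995 F69659) (tt N10231 D19442) (tt N6994 (iv D15219)) (tt N10221 (iv F88078)) (tt N10232 D19443) (tt N10233 D19444) (tt N8499 F69660))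
theorem Q8501 : ∀ i, i < 8501 → P i := stepQ 8500 Q8500 (allL N8500 (tt N7585 F133492) (tt N10197 (iv F87916)) (tt N10230 (iv F88155)) (tt N6996 F69662) (tt N8500 F69663) (tt N10232 (iv F88166)) (tt N10226 (iv F88130)) (tt N6994 (iv D15220)) (tt N7004 F69664) (tt N8500 F69665))
theorem Q8502 : ∀ i, i < 8502 → P i := stepQ 8501 Q8501 (allL N8501 (tt N7588 F69666) (tt N10198 (iv F87921)) (tt N7029 F69667) (tt N10232 (iv F88165)) (tt N8501 F69668) (tt N6996 F69669) (tt N10234 D19445) (tt N6995 (iv D15221)) (tt N10235 D19446) (tt N8501 F69670))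
theorem Q8503 : ∀ i, i < 8503 → P i := stepQ 8502 Q8502 (allL N8502 (tt N7589 F69671) (tt N10199 (iv F87926)) (tt N7030 F69672) (tt N10233 (iv F88169)) (tt N8502 F69673) (tt N7006 F69674) (tt N10224 (iv F88091)) (tt N10235 (iv F88179)) (tt N6995 (iv D15222)) (tt N10236 D19447))
theorem Q8504 : ∀ i, i < 8504 → P i := stepQ 8503 Q8503 (allL N8503 (tt N7364 F133359) (tt N10200 (iv F87939)) (tt N7347 F133360) (tt N6999 F69685) (tt N10237 D19452) (tt N6998 (iv D15225)) (tt N9958 (iv F86132)) (tt N10238 D19453) (tt N10239 D19454) (tt N7061 F69686))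
theorem Q8505 : ∀ i, i < 8505 → P i := stepQ 8504 Q8504 (allL N8504 (tt N7570 (iv F132860)) (tt N10201 (iv F87942)) (tt N7561 (iv F132855)) (tt N7000 F69688) (tt N8504 F69689) (tt N10238 (iv F88210)) (tt N7004 F69690) (tt N6998 (iv D15226)) (tt N10226 (iv F88131)) (tt N7062 F69691))
theorem Q8506 : ∀ i, i < 8506 → P i := stepQ 8505 Q8505 (allL N8505 (tt N7590 F69692) (tt N10202 (iv F87947)) (tt N7031 F69693) (tt N10238 (iv F88209)) (tt N8505 F69694) (tt N7000 F69695) (tt N10240 D19455) (tt N6999 (iv D15227)) (tt N10241 D19456) (tt N7063 F69696))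
theorem Q8507 : ∀ i, i < 8507 → P i := stepQ 8506 Q8506 (allL N8506 (tt N7591 F69697) (tt N10203 (iv F87952)) (tt N7032 F69698) (tt N10239 (iv F88213)) (tt N8506 F69699) (tt N10227 (iv F88139)) (tt N9961 (iv F86147)) (tt N10241 (iv F88222)) (tt N6999 (iv D15228)) (tt N10242 D19457))
theorem Q8508 : ∀ i, i < 8508 → P i := stepQ 8507 Q8507 (allL N8507 (tt N10201 F133495) (tt N7002 F69704) (tt N10205 (iv F87960)) (tt N7033 F69705) (tt N8507 F69706) (tt N10243 D19459) (tt N7001 (iv D15230)) (tt N10176 F133496) (tt N10228 (iv F88148)) (tt N7065 F69707))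
theorem Q8509 : ∀ i, i < 8509 → P i := stepQ 8508 Q8508 (allL N8508 (tt N7592 F69708) (tt N10243 (iv F88232)) (tt N7003 F69709) (tt N7034 F69710) (tt N10244 D19461) (tt N7002 (iv D15231)) (tt N9964 (iv F86158)) (tt N10245 D19462) (tt N10246 D19463) (tt N7066 F69711))
theorem Q8510 : ∀ i, i < 8510 → P i := stepQ 8509 Q8509 (allL N8509 (tt N7571 (iv F132862)) (tt N10176 (iv F132999)) (tt N7004 F69713) (tt N7035 F69714) (tt N8509 F69715) (tt N10245 (iv F88247)) (tt N7561 (iv F132856)) (tt N7002 (iv D15232)) (tt N10230 (iv F88158)) (tt N7067 F69716))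
theorem Q8511 : ∀ i, i < 8511 → P i := stepQ 8510 Q8510 (allL N8510 (tt N7593 F69717) (tt N10207 (iv F87971)) (tt N10244 (iv F88240)) (tt N7007 F69718) (tt N7003 (iv D15233)) (tt N8510 F69719) (tt N9966 (iv F86166)) (tt N10247 D19464) (tt N10248 D19465) (tt N7068 F69720))
theorem Q8512 : ∀ i, i < 8512 → P i := stepQ 8511 Q8511 (allL N8511 (tt N7397 F133295) (tt N9962 F133296) (tt N10245 (iv F88245)) (tt N7005 F69722) (tt N10247 (iv F88254)) (tt N7004 F69723) (tt N10249 D19466) (tt N7003 (iv D15234)) (tt N10250 D19467) (tt N7069 F69724))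
theorem Q8513 : ∀ i, i < 8513 → P i := stepQ 8512 Q8512 (allL N8512 (tt N7594 F69725) (tt N10208 (iv F87979)) (tt N10246 (iv F88250)) (tt N7006 F69726) (tt N10248 (iv F88259)) (tt N10233 (iv F88170)) (tt N9968 (iv F86174)) (tt N10250 (iv F88265)) (tt N7003 (iv D15235)) (tt N10251 D19468))
theorem Q8514 : ∀ i, i < 8514 → P i := stepQ 8513 Q8513 (allL N8513 (tt N7441 F133304) (tt N10025 F133305) (tt N7038 F69728) (tt N10249 (iv F88261)) (tt N7010 F69729) (tt N10240 (iv F88217)) (tt N7005 (iv D15236)) (tt N9969 (iv F86178)) (tt N10252 D19469) (tt N7071 F69730))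
theorem Q8515 : ∀ i, i < 8515 → P i := stepQ 8514 Q8514 (allL N8514 (tt N7432 F133299) (tt N10011 F133300) (tt N7039 F69732) (tt N10250 (iv F88264)) (tt N7011 F69733) (tt N10235 (iv F88178)) (tt N10252 (iv F88272)) (tt N7006 F69734) (tt N7005 (iv D15237)) (tt N10210 (iv F133022)))
theorem Q8516 : ∀ i, i < 8516 → P i := stepQ 8515 Q8515 (allL N8515 (tt N7595 F69735) (tt N10209 (iv F87989)) (tt N7040 F69736) (tt N10251 (iv F88267)) (tt N7012 F69737) (tt N10236 (iv F88183)) (tt N9971 (iv F86187)) (tt N10210 (iv F133021)) (tt N7072 F69738) (tt N7006 (iv D15238)))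
theorem Q8517 : ∀ i, i < 8517 → P i := stepQ 8516 Q8516 (allL N8516 (tt N7180 (iv F132731)) (tt N7072 F132511) (tt N8516 F69740) (tt N10247 (iv F88253)) (tt N7008 F69741) (tt N8516 F69742) (tt N10102 (iv F132950)) (tt N7007 (iv D15239)) (tt N10209 (iv F133024)) (tt N7059 F132512))
theorem Q8518 : ∀ i, i < 8518 → P i := stepQ 8517 Q8517 (allL N8517 (tt N7596 F69744) (tt N10210 (iv F88012)) (tt N8517 F69745) (tt N10248 (iv F88258)) (tt N7009 F69746) (tt N10253 D19473) (tt N9973 (iv F86196)) (tt N10209 (iv F133023)) (tt N7007 (iv D15240)) (tt N10011 F133498))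
theorem Q8519 : ∀ i, i < 8519 → P i := stepQ 8518 Q8518 (allL N8518 (tt N7465 F133320) (tt N9976 (iv F132994)) (tt N7041 F69763) (tt N9925 (iv F132988)) (tt N10252 (iv F88271)) (tt N10254 D19477) (tt N7011 F69764) (tt N9977 (iv F86215)) (tt N7010 (iv D15244)) (tt N9922 (iv F132982)))
theorem Q8520 : ∀ i, i < 8520 → P i := stepQ 8519 Q8519 (allL N8519 (tt N7597 F69776) (tt N8519 F69777) (tt N9586 (iv F84032)) (tt N7136 F135368) (tt N7014 F69778) (tt N7135 F135369) (tt N7013 (iv D15247)) (tt N10255 D19482) (tt N9556 (iv F83824)) (tt N8519 F69779))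
theorem Q8521 : ∀ i, i < 8521 → P i := stepQ 8520 Q8520 (allL N8520 (tt N7598 F69780) (tt N8520 F69781) (tt N9587 (iv F84038)) (tt N8520 F69782) (tt N10255 (iv F88329)) (tt N7017 F69783) (tt N8520 F69784) (tt N7014 (iv D15248)) (tt N9557 (iv F83832)) (tt N8520 F69785))
theorem Q8522 : ∀ i, i < 8522 → P i := stepQ 8521 Q8521 (allL N8521 (tt N7569 F133485) (tt N10174 F133486) (tt N7015 (iv D15249)) (tt N10215 (iv F88053)) (tt N8521 F69787) (tt N7022 F69788) (tt N10256 D19484) (tt N7018 F69789) (tt N9982 (iv F86243)) (tt N8521 F69790))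
theorem Q8523 : ∀ i, i < 8523 → P i := stepQ 8522 Q8522 (allL N8522 (tt N7599 F69791) (tt N8522 F69792) (tt N10256 (iv F88338)) (tt N7016 F69793) (tt N8522 F69794) (tt N7119 F134646) (tt N7015 (iv D15250)) (tt N10257 D19486) (tt N9983 (iv F86249)) (tt N8522 F69795))
theorem Q8524 : ∀ i, i < 8524 → P i := stepQ 8523 Q8523 (allL N8523 (tt N7600 F69796) (tt N8523 F69797) (tt N10217 (iv F88061)) (tt N7119 F134645) (tt N7135 (iv F135335)) (tt N7016 (iv D15251)) (tt N7023 F69798) (tt N10258 D19487) (tt N10259 D19488) (tt N8523 F69799))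
theorem Q8525 : ∀ i, i < 8525 → P i := stepQ 8524 Q8524 (allL N8524 (tt N7601 F69800) (tt N8524 F69801) (tt N10218 (iv F88065)) (tt N10257 (iv F88348)) (tt N7017 F69802) (tt N10258 (iv F88354)) (tt N7021 F69803) (tt N7016 (iv D15252)) (tt N9985 (iv F86259)) (tt N8524 F69804))
theorem Q8526 : ∀ i, i < 8526 → P i := stepQ 8525 Q8525 (allL N8525 (tt N10198 F133765) (tt N7018 (iv D15253)) (tt N8525 F69805) (tt N10219 (iv F88069)) (tt N8525 F69806) (tt N7025 F69807) (tt N10260 D19490) (tt N10174 F133766) (tt N9990 (iv F86286)) (tt N8525 F69808))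
theorem Q8527 : ∀ i, i < 8527 → P i := stepQ 8526 Q8526 (allL N8526 (tt N7602 F69809) (tt N10260 (iv F88364)) (tt N7019 F69810) (tt N10220 (iv F88074)) (tt N8526 F69811) (tt N10261 D19491) (tt N7018 (iv D15254)) (tt N10262 D19492) (tt N9991 (iv F86290)) (tt N8526 F69812))
theorem Q8528 : ∀ i, i < 8528 → P i := stepQ 8527 Q8527 (allL N8527 (tt N7603 F69813) (tt N8527 F69814) (tt N10261 (iv F88369)) (tt N7020 F69815) (tt N10263 D19493) (tt N7019 (iv D15255)) (tt N7027 F69816) (tt N10264 D19494) (tt N10265 D19495) (tt N8527 F69817))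
theorem Q8529 : ∀ i, i < 8529 → P i := stepQ 8528 Q8528 (allL N8528 (tt N7604 F69818) (tt N8528 F69819) (tt N10262 (iv F88373)) (tt N7021 F69820) (tt N8528 F69821) (tt N10264 (iv F88385)) (tt N10257 (iv F88350)) (tt N7019 (iv D15256)) (tt N9993 (iv F86299)) (tt N8528 F69822))
theorem Q8530 : ∀ i, i < 8530 → P i := stepQ 8529 Q8529 (allL N8529 (tt N7605 F69823) (tt N8529 F69824) (tt N10223 (iv F88084)) (tt N10264 (iv F88384)) (tt N8529 F69825) (tt N7021 F69826) (tt N10266 D19496) (tt N7020 (iv D15257)) (tt N10267 D19497) (tt N8529 F69827))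
theorem Q8531 : ∀ i, i < 8531 → P i := stepQ 8530 Q8530 (allL N8530 (tt N7606 F69828) (tt N8530 F69829) (tt N10224 (iv F88089)) (tt N10265 (iv F88389)) (tt N8530 F69830) (tt N9995 (iv F86305)) (tt N7030 F69831) (tt N10267 (iv F88399)) (tt N7020 (iv D15258)) (tt N10268 D19498))
theorem Q8532 : ∀ i, i < 8532 → P i := stepQ 8531 Q8531 (allL N8531 (tt N7607 F69878) (tt N8531 F69879) (tt N10227 (iv F88138)) (tt N7114 F134475) (tt N7127 (iv F135155)) (tt N7032 F69880) (tt N10259 (iv F88358)) (tt N7116 F134476) (tt N7023 (iv D15268)) (tt N9803 (iv F135158)))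
theorem Q8533 : ∀ i, i < 8533 → P i := stepQ 8532 Q8532 (allL N8532 (tt N10193 F133755) (tt N7026 F69886) (tt N8532 F69887) (tt N10228 (iv F88146)) (tt N7043 F69888) (tt N10269 D19516) (tt N7025 (iv D15270)) (tt N10171 F133756) (tt N7033 F69889) (tt N8532 F69890))
theorem Q8534 : ∀ i, i < 8534 → P i := stepQ 8533 Q8533 (allL N8533 (tt N7608 F69891) (tt N10269 (iv F88487)) (tt N7027 F69892) (tt N10229 (iv F88152)) (tt N9624 (iv F134344)) (tt N7026 (iv D15271)) (tt N10261 (iv F88370)) (tt N10270 D19519) (tt N10271 D19520) (tt N8533 F69893))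
theorem Q8535 : ∀ i, i < 8535 → P i := stepQ 8534 Q8534 (allL N8534 (tt N7566 F133457) (tt N10171 F133458) (tt N7028 F69895) (tt N10230 (iv F88156)) (tt N7045 F69896) (tt N10270 (iv F88501)) (tt N7087 F133459) (tt N7026 (iv D15272)) (tt N7035 F69897) (tt N8534 F69898))
theorem Q8536 : ∀ i, i < 8536 → P i := stepQ 8535 Q8535 (allL N8535 (tt N7609 F69899) (tt N8535 F69900) (tt N9624 F134347) (tt N8535 F69901) (tt N7027 (iv D15273)) (tt N7046 F69902) (tt N10263 (iv F88380)) (tt N7090 (iv F134349)) (tt N10272 D19522) (tt N8535 F69903))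
theorem Q8537 : ∀ i, i < 8537 → P i := stepQ 8536 Q8536 (allL N8536 (tt N7610 F69904) (tt N8536 F69905) (tt N10270 (iv F88500)) (tt N7029 F69906) (tt N7090 (iv F134348)) (tt N7028 F69907) (tt N7123 (iv F134354)) (tt N7027 (iv D15274)) (tt N10273 D19524) (tt N8536 F69908))
theorem Q8538 : ∀ i, i < 8538 → P i := stepQ 8537 Q8537 (allL N8537 (tt N7611 F69909) (tt N8537 F69910) (tt N10271 (iv F88504)) (tt N7030 F69911) (tt N10272 (iv F88515)) (tt N7037 F69912) (tt N10265 (iv F88390)) (tt N10273 (iv F88525)) (tt N7027 (iv D15275)) (tt N10274 D19525))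
theorem Q8539 : ∀ i, i < 8539 → P i := stepQ 8538 Q8538 (allL N8538 (tt N7612 F69913) (tt N8538 F69914) (tt N10234 (iv F88172)) (tt N7123 F134446) (tt N8538 F69915) (tt N7122 F134447) (tt N7029 (iv D15276)) (tt N10266 (iv F88394)) (tt N10275 D19526) (tt N8538 F69916))
theorem Q8540 : ∀ i, i < 8540 → P i := stepQ 8539 Q8539 (allL N8539 (tt N7613 F69917) (tt N8539 F69918) (tt N10235 (iv F88176)) (tt N10273 (iv F88523)) (tt N8539 F69919) (tt N7039 F69920) (tt N10275 (iv F88534)) (tt N7030 F69921) (tt N7029 (iv D15277)) (tt N10276 D19527))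
theorem Q8541 : ∀ i, i < 8541 → P i := stepQ 8540 Q8540 (allL N8540 (tt N7614 F69922) (tt N8540 F69923) (tt N10236 (iv F88181)) (tt N10274 (iv F88528)) (tt N8540 F69924) (tt N7040 F69925) (tt N10268 (iv F88403)) (tt N10276 (iv F88539)) (tt N8540 F69926) (tt N7030 (iv D15278)))
theorem Q8542 : ∀ i, i < 8542 → P i := stepQ 8541 Q8541 (allL N8541 (tt N7615 F69957) (tt N8541 F69958) (tt N10240 (iv F88215)) (tt N7773 F133519) (tt N8541 F69959) (tt N7038 F69960) (tt N7031 (iv D15286)) (tt N10022 (iv F86454)) (tt N10277 D19539) (tt N7073 F69961))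
theorem Q8543 : ∀ i, i < 8543 → P i := stepQ 8542 Q8542 (allL N8542 (tt N7616 F69962) (tt N8542 F69963) (tt N10241 (iv F88220)) (tt N7112 (iv F133878)) (tt N8542 F69964) (tt N7116 (iv F134338)) (tt N10277 (iv F88590)) (tt N7032 F69965) (tt N7031 (iv D15287)) (tt N9979 (iv F134362)))
theorem Q8544 : ∀ i, i < 8544 → P i := stepQ 8543 Q8543 (allL N8543 (tt N7617 F69966) (tt N8543 F69967) (tt N10242 (iv F88224)) (tt N7769 F134477) (tt N8543 F69968) (tt N9803 (iv F135157)) (tt N10024 (iv F86463)) (tt N9979 F134478) (tt N7075 F69969) (tt N7032 (iv D15288)))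
theorem Q8545 : ∀ i, i < 8545 → P i := stepQ 8544 Q8544 (allL N8544 (tt N10202 F133545) (tt N7034 F69975) (tt N8544 F69976) (tt N10243 (iv F88233)) (tt N8544 F69977) (tt N7033 (iv D15290)) (tt N10026 (iv F86473)) (tt N10177 F133546) (tt N10278 D19544) (tt N7076 F69978))
theorem Q8546 : ∀ i, i < 8546 → P i := stepQ 8545 Q8545 (allL N8545 (tt N7572 (iv F132866)) (tt N10177 (iv F133006)) (tt N7036 F69984) (tt N10245 (iv F88246)) (tt N8545 F69985) (tt N7035 F69986) (tt N10279 D19545) (tt N7034 (iv D15292)) (tt N10280 D19546) (tt N7077 F69987))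
theorem Q8547 : ∀ i, i < 8547 → P i := stepQ 8546 Q8546 (allL N8546 (tt N7618 F69988) (tt N10278 (iv F88611)) (tt N7037 F69989) (tt N10246 (iv F88251)) (tt N8546 F69990) (tt N10271 (iv F88505)) (tt N10029 (iv F86487)) (tt N10280 (iv F88621)) (tt N7034 (iv D15293)) (tt N10281 D19547))
theorem Q8548 : ∀ i, i < 8548 → P i := stepQ 8547 Q8547 (allL N8547 (tt N7619 F69991) (tt N8547 F69992) (tt N10279 (iv F88615)) (tt N7038 F69993) (tt N8547 F69994) (tt N7773 (iv F133017)) (tt N7036 (iv D15294)) (tt N10030 (iv F86492)) (tt N10282 D19548) (tt N7079 F69995))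
theorem Q8549 : ∀ i, i < 8549 → P i := stepQ 8548 Q8548 (allL N8548 (tt N7620 F69996) (tt N8548 F69997) (tt N10280 (iv F88619)) (tt N7039 F69998) (tt N8548 F69999) (tt N10273 (iv F88524)) (tt N10282 (iv F88630)) (tt N7037 F70000) (tt N7036 (iv D15295)) (tt N10283 D19549))
theorem Q8550 : ∀ i, i < 8550 → P i := stepQ 8549 Q8549 (allL N8549 (tt N7621 F70001) (tt N8549 F70002) (tt N10281 (iv F88623)) (tt N7040 F70003) (tt N8549 F70004) (tt N10274 (iv F88529)) (tt N10032 (iv F86503)) (tt N10283 (iv F88635)) (tt N7081 F70005) (tt N7037 (iv D15296)))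
theorem Q8551 : ∀ i, i < 8551 → P i := stepQ 8550 Q8550 (allL N8550 (tt N7622 F70006) (tt N8550 F70007) (tt N10252 (iv F88270)) (tt N10282 (iv F88628)) (tt N7041 F70008) (tt N10284 D19550) (tt N7039 F70009) (tt N10033 (iv F86509)) (tt N7038 (iv D15297)) (tt N10285 D19551))
theorem Q8552 : ∀ i, i < 8552 → P i := stepQ 8551 Q8551 (allL N8551 (tt N7623 F70010) (tt N8551 F70011) (tt N10210 F133835) (tt N10283 (iv F88633)) (tt N7042 F70012) (tt N10276 (iv F88538)) (tt N10285 (iv F88642)) (tt N7040 F70013) (tt N7083 F70014) (tt N7039 (iv D15298)))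
theorem Q8553 : ∀ i, i < 8553 → P i := stepQ 8552 Q8552 (allL N8552 (tt N7624 F70015) (tt N8552 F70016) (tt N10254 (iv F88305)) (tt N8552 F70017) (tt N10286 D19552) (tt N7041 (iv D15299)) (tt N8552 F70018) (tt N10035 (iv F86518)) (tt N8552 F70019) (tt N10287 D19553))
theorem Q8554 : ∀ i, i < 8554 → P i := stepQ 8553 Q8553 (allL N8553 (tt N7625 F70020) (tt N8553 F70021) (tt N9922 (iv F132981)) (tt N8553 F70022) (tt N10285 (iv F88641)) (tt N10287 (iv F88651)) (tt N7042 F70023) (tt N10036 (iv F86524)) (tt N7084 F70024) (tt N7041 (iv D15300)))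
theorem Q8555 : ∀ i, i < 8555 → P i := stepQ 8554 Q8554 (allL N8554 (tt N7091 (iv F133011)) (tt N7044 F70120) (tt N8554 F70121) (tt N8554 F70122) (tt N7143 (iv F133843)) (tt N7043 (iv D15318)) (tt N8554 F70123) (tt N7086 F133772) (tt N8554 F70124) (tt N8554 F70125))
theorem Q8556 : ∀ i, i < 8556 → P i := stepQ 8555 Q8555 (allL N8555 (tt N7051 F70258) (tt N10288 D19608) (tt N7047 (iv D15344)) (tt N8555 F70259) (tt N8555 F70260) (tt N10069 (iv F86818)) (tt N10289 D19609) (tt N7049 F70261) (tt N8555 F70262) (tt N10175 (iv F87717)))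
theorem Q8557 : ∀ i, i < 8557 → P i := stepQ 8556 Q8556 (allL N8556 (tt N7052 F70263) (tt N7067 (iv F132528)) (tt N10289 (iv F88948)) (tt N7048 F70265) (tt N8556 F70266) (tt N10290 D19610) (tt N7047 (iv D15345)) (tt N7065 (iv F133033)) (tt N8556 F70267) (tt N10176 (iv F87722)))
theorem Q8558 : ∀ i, i < 8558 → P i := stepQ 8557 Q8557 (allL N8557 (tt N7053 F70268) (tt N7077 (iv F132535)) (tt N8557 F70270) (tt N10290 (iv F88954)) (tt N8557 F70271) (tt N7048 (iv D15346)) (tt N10071 (iv F86830)) (tt N7076 (iv F133036)) (tt N10291 D19613) (tt N10177 (iv F87727)))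
theorem Q8559 : ∀ i, i < 8559 → P i := stepQ 8558 Q8558 (allL N8558 (tt N10289 F133524) (tt N7049 (iv D15348)) (tt N7052 F133525) (tt N8558 F70279) (tt N8558 F70280) (tt N10073 (iv F86839)) (tt N7051 F133526) (tt N10288 (iv F88945)) (tt N8558 F70281) (tt N10178 (iv F87737)))
theorem Q8560 : ∀ i, i < 8560 → P i := stepQ 8559 Q8559 (allL N8559 (tt N7056 F70282) (tt N7051 (iv F133039)) (tt N7050 F70283) (tt N8559 F70284) (tt N8559 F70285) (tt N10087 (iv F132945)) (tt N7049 (iv D15349)) (tt N7055 (iv F133040)) (tt N8559 F70286) (tt N10179 (iv F87742)))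
theorem Q8561 : ∀ i, i < 8561 → P i := stepQ 8560 Q8560 (allL N8560 (tt N10290 (iv F88952)) (tt N7061 F70361) (tt N10073 (iv F134184)) (tt N7053 F70362) (tt N10292 D19636) (tt N7052 (iv D15365)) (tt N10089 (iv F86967)) (tt N10293 D19637) (tt N10294 D19638) (tt N10200 (iv F87941)))
theorem Q8562 : ∀ i, i < 8562 → P i := stepQ 8561 Q8561 (allL N8561 (tt N7065 (iv F133032)) (tt N7062 F70363) (tt N10288 (iv F133041)) (tt N7054 F70364) (tt N8561 F70365) (tt N10293 (iv F89093)) (tt N7058 F70366) (tt N7052 (iv D15366)) (tt N8561 F70367) (tt N10201 (iv F87946)))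
theorem Q8563 : ∀ i, i < 8563 → P i := stepQ 8562 Q8562 (allL N8562 (tt N7076 (iv F133035)) (tt N7063 F70368) (tt N8562 F70369) (tt N10293 (iv F89092)) (tt N8562 F70370) (tt N7054 F70371) (tt N10135 (iv F132958)) (tt N7053 (iv D15367)) (tt N10295 D19640) (tt N10202 (iv F87951)))
theorem Q8564 : ∀ i, i < 8564 → P i := stepQ 8563 Q8563 (allL N8563 (tt N10291 (iv F88966)) (tt N7064 F70372) (tt N8563 F70373) (tt N10294 (iv F89095)) (tt N8563 F70374) (tt N8563 F70375) (tt N10092 (iv F86981)) (tt N10295 (iv F89105)) (tt N7053 (iv D15368)) (tt N10296 D19641))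
theorem Q8565 : ∀ i, i < 8565 → P i := stepQ 8564 Q8564 (allL N8564 (tt N7055 (iv D15369)) (tt N10289 (iv F133030)) (tt N7058 F132524) (tt N8564 F70377) (tt N8564 F70378) (tt N10093 (iv F86984)) (tt N10288 (iv F133028)) (tt N7056 (iv F133038)) (tt N8564 F70379) (tt N10204 (iv F87958)))
theorem Q8566 : ∀ i, i < 8566 → P i := stepQ 8565 Q8565 (allL N8565 (tt N10288 F133042) (tt N7056 F70380) (tt N7065 F70381) (tt N8565 F70382) (tt N8565 F70383) (tt N10297 D19643) (tt N7055 (iv D15370)) (tt N10289 (iv F133029)) (tt N8565 F70384) (tt N10205 (iv F87963)))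
theorem Q8567 : ∀ i, i < 8567 → P i := stepQ 8566 Q8566 (allL N8566 (tt N10087 F133624) (tt N10297 (iv F89115)) (tt N7057 F70385) (tt N8566 F70386) (tt N10298 D19645) (tt N7056 (iv D15371)) (tt N10095 (iv F86990)) (tt N10093 F133625) (tt N10299 D19647) (tt N10206 (iv F87966)))
theorem Q8568 : ∀ i, i < 8568 → P i := stepQ 8567 Q8567 (allL N8567 (tt N7503 (iv F132788)) (tt N7068 F70391) (tt N10298 (iv F89124)) (tt N7060 F70392) (tt N7057 (iv D15373)) (tt N8567 F70393) (tt N10097 (iv F86995)) (tt N7070 F132530) (tt N7069 F132531) (tt N10207 (iv F87974)))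
theorem Q8569 : ∀ i, i < 8569 → P i := stepQ 8568 Q8568 (allL N8568 (tt N7210 (iv F132724)) (tt N7070 F70397) (tt N10299 (iv F89132)) (tt N7059 F70398) (tt N7069 F132522) (tt N8568 F70399) (tt N10099 (iv F87001)) (tt N7068 F132523) (tt N7057 (iv D15375)) (tt N10247 (iv F133026)))
theorem Q8570 : ∀ i, i < 8570 → P i := stepQ 8569 Q8569 (allL N8569 (tt N7202 F133361) (tt N10292 (iv F89088)) (tt N7196 F133362) (tt N8569 F70472) (tt N7061 (iv D15393)) (tt N8569 F70473) (tt N10118 (iv F87156)) (tt N10065 F133363) (tt N10069 (iv F133585)) (tt N10237 (iv F88207)))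
theorem Q8571 : ∀ i, i < 8571 → P i := stepQ 8570 Q8570 (allL N8570 (tt N7490 (iv F132777)) (tt N10293 (iv F89091)) (tt N7477 (iv F132776)) (tt N7063 F70475) (tt N10065 (iv F133048)) (tt N7062 F70476) (tt N10300 D19674) (tt N7061 (iv D15394)) (tt N9690 (iv F133050)) (tt N10238 (iv F88211)))
theorem Q8572 : ∀ i, i < 8572 → P i := stepQ 8571 Q8571 (allL N8571 (tt N7486 F133366) (tt N10294 (iv F89094)) (tt N7474 F133367) (tt N7064 F70478) (tt N10069 (iv F133584)) (tt N8571 F70479) (tt N10120 (iv F87163)) (tt N9690 F133368) (tt N7061 (iv D15395)) (tt N10301 D19676))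
theorem Q8573 : ∀ i, i < 8573 → P i := stepQ 8572 Q8572 (allL N8572 (tt N7542 (iv F132829)) (tt N10135 (iv F132957)) (tt N7073 F70481) (tt N10300 (iv F89246)) (tt N8572 F70482) (tt N7071 F70483) (tt N7063 (iv D15396)) (tt N10121 (iv F87168)) (tt N10302 D19677) (tt N10240 (iv F88218)))
theorem Q8574 : ∀ i, i < 8574 → P i := stepQ 8573 Q8573 (allL N8573 (tt N7627 F70484) (tt N10295 (iv F89101)) (tt N7074 F70485) (tt N9690 (iv F133049)) (tt N8573 F70486) (tt N8573 F70487) (tt N10302 (iv F89258)) (tt N7064 F70488) (tt N7063 (iv D15397)) (tt N10303 D19678))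
theorem Q8575 : ∀ i, i < 8575 → P i := stepQ 8574 Q8574 (allL N8574 (tt N7628 F70489) (tt N10296 (iv F89106)) (tt N7075 F70490) (tt N10301 (iv F89253)) (tt N8574 F70491) (tt N8574 F70492) (tt N10123 (iv F87178)) (tt N10303 (iv F89263)) (tt N10242 (iv F88226)) (tt N7064 (iv D15398)))
theorem Q8576 : ∀ i, i < 8576 → P i := stepQ 8575 Q8575 (allL N8575 (tt N10293 F133051) (tt N7066 F70498) (tt N10297 (iv F89116)) (tt N7076 F70499) (tt N10304 D19681) (tt N7065 (iv D15400)) (tt N10125 (iv F87184)) (tt N10290 F133052) (tt N10305 D19683) (tt N10243 (iv F88234)))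
theorem Q8577 : ∀ i, i < 8577 → P i := stepQ 8576 Q8576 (allL N8576 (tt N7629 F70504) (tt N10304 (iv F89272)) (tt N7068 F70505) (tt N8576 F70506) (tt N7066 (iv D15402)) (tt N8576 F70507) (tt N10127 (iv F87190)) (tt N10299 (iv F133047)) (tt N10093 F133529) (tt N10244 (iv F88243)))
theorem Q8578 : ∀ i, i < 8578 → P i := stepQ 8577 Q8577 (allL N8577 (tt N7494 (iv F132782)) (tt N10290 (iv F133031)) (tt N7069 F70509) (tt N7077 F70510) (tt N10299 (iv F133046)) (tt N7067 F70511) (tt N10306 D19686) (tt N7066 (iv D15403)) (tt N10298 (iv F133045)) (tt N10245 (iv F88248)))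
theorem Q8579 : ∀ i, i < 8579 → P i := stepQ 8578 Q8578 (allL N8578 (tt N7630 F70512) (tt N10305 (iv F89278)) (tt N7070 F70513) (tt N7078 F70514) (tt N10093 F133053) (tt N8578 F70515) (tt N10129 (iv F87198)) (tt N10298 (iv F133044)) (tt N7066 (iv D15404)) (tt N10307 D19688))
theorem Q8580 : ∀ i, i < 8580 → P i := stepQ 8579 Q8579 (allL N8579 (tt N7512 F133385) (tt N10124 F133386) (tt N10306 (iv F89291)) (tt N7071 F70524) (tt N10099 (iv F132944)) (tt N10300 (iv F89247)) (tt N7069 (iv D15407)) (tt N10131 (iv F87208)) (tt N10097 (iv F132974)) (tt N10249 (iv F88262)))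
theorem Q8581 : ∀ i, i < 8581 → P i := stepQ 8580 Q8580 (allL N8580 (tt N7631 F70529) (tt N10247 (iv F133025)) (tt N10307 (iv F89299)) (tt N7072 F70530) (tt N9962 F133533) (tt N8580 F70531) (tt N10133 (iv F87214)) (tt N10207 (iv F133018)) (tt N10251 (iv F88268)) (tt N7070 (iv D15409)))
theorem Q8582 : ∀ i, i < 8582 → P i := stepQ 8581 Q8581 (allL N8581 (tt N7632 F70616) (tt N8581 F70617) (tt N10302 (iv F89256)) (tt N7874 F133539) (tt N8581 F70618) (tt N10308 D19723) (tt N7074 F70619) (tt N10153 (iv F87423)) (tt N7073 (iv D15431)) (tt N10309 D19724))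
theorem Q8583 : ∀ i, i < 8583 → P i := stepQ 8582 Q8582 (allL N8582 (tt N7633 F70620) (tt N8582 F70621) (tt N10303 (iv F89260)) (tt N7872 F133540) (tt N8582 F70622) (tt N8582 F70623) (tt N10309 (iv F89448)) (tt N7075 F70624) (tt N9979 (iv F134361)) (tt N7074 (iv D15432)))
theorem Q8584 : ∀ i, i < 8584 → P i := stepQ 8583 Q8583 (allL N8583 (tt N10295 F133549) (tt N7078 F70638) (tt N8583 F70639) (tt N10305 (iv F89279)) (tt N8583 F70640) (tt N8583 F70641) (tt N10156 (iv F87445)) (tt N10291 F133550) (tt N7076 (iv D15436)) (tt N10310 D19729))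
theorem Q8585 : ∀ i, i < 8585 → P i := stepQ 8584 Q8584 (allL N8584 (tt N7492 (iv F132902)) (tt N10071 (iv F133034)) (tt N7079 F70643) (tt N10306 (iv F89292)) (tt N8584 F70644) (tt N7478 (iv F132775)) (tt N7077 (iv D15437)) (tt N10157 (iv F87449)) (tt N10311 D19730) (tt N10279 (iv F88617)))
theorem Q8586 : ∀ i, i < 8586 → P i := stepQ 8585 Q8585 (allL N8585 (tt N7626 (iv F132904)) (tt N10291 (iv F133037)) (tt N7080 F70646) (tt N10298 (iv F133043)) (tt N8585 F70647) (tt N8585 F70648) (tt N10311 (iv F89474)) (tt N7078 F70649) (tt N7077 (iv D15438)) (tt N10312 D19731))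
theorem Q8587 : ∀ i, i < 8587 → P i := stepQ 8586 Q8586 (allL N8586 (tt N7634 F70650) (tt N10310 (iv F89467)) (tt N7081 F70651) (tt N10307 (iv F89300)) (tt N8586 F70652) (tt N8586 F70653) (tt N10159 (iv F87457)) (tt N10312 (iv F89479)) (tt N10281 (iv F88625)) (tt N7078 (iv D15439)))
theorem Q8588 : ∀ i, i < 8588 → P i := stepQ 8587 Q8587 (allL N8587 (tt N7635 F70654) (tt N8587 F70655) (tt N10311 (iv F89472)) (tt N7082 F70656) (tt N8587 F70657) (tt N10313 D19732) (tt N7080 F70658) (tt N10160 (iv F87463)) (tt N7079 (iv D15440)) (tt N10314 D19733))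
theorem Q8589 : ∀ i, i < 8589 → P i := stepQ 8588 Q8588 (allL N8588 (tt N7636 F70659) (tt N8588 F70660) (tt N10312 (iv F89476)) (tt N7083 F70661) (tt N8588 F70662) (tt N8588 F70663) (tt N10314 (iv F89488)) (tt N7081 F70664) (tt N10283 (iv F88636)) (tt N7080 (iv D15441)))
theorem Q8590 : ∀ i, i < 8590 → P i := stepQ 8589 Q8589 (allL N8589 (tt N7637 F70665) (tt N8589 F70666) (tt N9705 (iv F132975)) (tt N10313 (iv F89482)) (tt N9703 F133700) (tt N7082 (iv D15442)) (tt N8589 F70667) (tt N10162 (iv F87471)) (tt N10308 (iv F89444)) (tt N10315 D19735))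
theorem Q8591 : ∀ i, i < 8591 → P i := stepQ 8590 Q8590 (allL N8590 (tt N7638 F70668) (tt N8590 F70669) (tt N9920 (iv F132980)) (tt N10314 (iv F89486)) (tt N7084 F70670) (tt N10315 (iv F89495)) (tt N7083 F70671) (tt N10163 (iv F87476)) (tt N10285 (iv F88643)) (tt N7082 (iv D15443)))
theorem Q8592 : ∀ i, i < 8592 → P i := stepQ 8591 Q8591 (allL N8591 (tt N7337 (iv F134232)) (tt N7088 F70981) (tt N7768 (iv F134252)) (tt N7085 (iv D15499)) (tt N8591 F70982) (tt N7097 F70983) (tt N7336 (iv F134254)) (tt N8591 F70984) (tt N8591 F70985) (tt N8591 F70986))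
theorem Q8593 : ∀ i, i < 8593 → P i := stepQ 8592 Q8592 (allL N8592 (tt N7141 (iv F134441)) (tt N7089 F70987) (tt N8592 F70988) (tt N7336 (iv F134253)) (tt N7086 F70989) (tt N10316 D19794) (tt N7085 (iv D15500)) (tt N7143 F133771) (tt N8592 F70990) (tt N8592 F70991))
theorem Q8594 : ∀ i, i < 8594 → P i := stepQ 8593 Q8593 (allL N8593 (tt N7565 F70998) (tt N10170 (iv F87671)) (tt N10226 F133455) (tt N7087 (iv D15502)) (tt N8593 F70999) (tt N7106 F71000) (tt N10230 F133456) (tt N7560 F71001) (tt N7561 F71002) (tt N8593 F71003))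
theorem Q8595 : ∀ i, i < 8595 → P i := stepQ 8594 Q8594 (allL N8594 (tt N9584 (iv F83989)) (tt N10316 (iv F89820)) (tt N7090 F71021) (tt N9867 (iv F134452)) (tt N10270 F134963) (tt N7089 (iv D15506)) (tt N7110 F71022) (tt N9624 F133810) (tt N10317 D19803) (tt N8594 F71023))
theorem Q8596 : ∀ i, i < 8596 → P i := stepQ 8595 Q8595 (allL N8595 (tt N9585 (iv F84008)) (tt N8595 F71056) (tt N10317 (iv F89866)) (tt N8595 F71057) (tt N10273 F133815) (tt N8595 F71058) (tt N7126 F71059) (tt N10272 (iv F133817)) (tt N7090 (iv D15513)) (tt N10318 D19812))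
theorem Q8597 : ∀ i, i < 8597 → P i := stepQ 8596 Q8596 (allL N8596 (tt N7097 F71112) (tt N7338 (iv F133733)) (tt N7559 (iv F134231)) (tt N7092 (iv D15522)) (tt N7236 F71113) (tt N7337 (iv F134233)) (tt N10319 D19822) (tt N8596 F71114) (tt N7147 F71115) (tt N8596 F71116))
theorem Q8598 : ∀ i, i < 8598 → P i := stepQ 8597 Q8597 (allL N8597 (tt N7098 F71117) (tt N9586 (iv F84031)) (tt N8597 F71118) (tt N10319 (iv F89981)) (tt N7093 F71119) (tt N10320 D19823) (tt N7092 (iv D15523)) (tt N10321 D19824) (tt N7148 F71120) (tt N8597 F71121))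
theorem Q8599 : ∀ i, i < 8599 → P i := stepQ 8598 Q8598 (allL N8598 (tt N7099 F71122) (tt N9587 (iv F84037)) (tt N8598 F71123) (tt N7238 F71124) (tt N10321 (iv F89990)) (tt N10185 (iv F87845)) (tt N8598 F71125) (tt N7093 (iv D15524)) (tt N7149 F71126) (tt N8598 F71127))
theorem Q8600 : ∀ i, i < 8600 → P i := stepQ 8599 Q8599 (allL N8599 (tt N9892 (iv F85838)) (tt N7102 F71128) (tt N8599 F71129) (tt N10322 D19825) (tt N7094 (iv D15525)) (tt N9875 (iv F85735)) (tt N10323 D19826) (tt N9873 (iv F85722)) (tt N7095 F71130) (tt N9897 (iv F85868)))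
theorem Q8601 : ∀ i, i < 8601 → P i := stepQ 8600 Q8600 (allL N8600 (tt N9893 (iv F85845)) (tt N7103 F71131) (tt N8600 F71132) (tt N7243 F71133) (tt N10323 (iv F89999)) (tt N7152 F71134) (tt N7094 (iv D15526)) (tt N10324 D19827) (tt N7096 F71135) (tt N9898 (iv F85875)))
theorem Q8602 : ∀ i, i < 8602 → P i := stepQ 8601 Q8601 (allL N8601 (tt N10183 (iv F87830)) (tt N7106 F71136) (tt N10325 D19828) (tt N7095 (iv D15527)) (tt N7246 F71137) (tt N10170 (iv F87673)) (tt N10326 D19829) (tt N10167 (iv F87656)) (tt N10322 (iv F89996)) (tt N8601 F71138))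
theorem Q8603 : ∀ i, i < 8603 → P i := stepQ 8602 Q8602 (allL N8602 (tt N10184 (iv F87836)) (tt N7107 F71139) (tt N8602 F71140) (tt N10326 (iv F90010)) (tt N7096 F71141) (tt N10327 D19830) (tt N7095 (iv D15528)) (tt N10328 D19831) (tt N10323 (iv F90000)) (tt N8602 F71142))
theorem Q8604 : ∀ i, i < 8604 → P i := stepQ 8603 Q8603 (allL N8603 (tt N10185 (iv F87841)) (tt N7108 F71143) (tt N8603 F71144) (tt N7248 F71145) (tt N10328 (iv F90019)) (tt N7099 F71146) (tt N10169 (iv F87668)) (tt N7096 (iv D15529)) (tt N10324 (iv F90005)) (tt N8603 F71147))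
theorem Q8605 : ∀ i, i < 8605 → P i := stepQ 8604 Q8604 (allL N8604 (tt N10319 (iv F89980)) (tt N7109 F71154) (tt N10165 (iv F134241)) (tt N7098 F71155) (tt N7249 F71156) (tt N10329 D19833) (tt N7097 (iv D15531)) (tt N10330 D19834) (tt N7156 F71157) (tt N8604 F71158))
theorem Q8606 : ∀ i, i < 8606 → P i := stepQ 8605 Q8605 (allL N8605 (tt N10320 (iv F89985)) (tt N7110 F71159) (tt N8605 F71160) (tt N10329 (iv F90028)) (tt N10327 (iv F90015)) (tt N7098 (iv D15532)) (tt N10316 (iv F89822)) (tt N10331 D19835) (tt N10332 D19836) (tt N8605 F71161))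
theorem Q8607 : ∀ i, i < 8607 → P i := stepQ 8606 Q8606 (allL N8606 (tt N10321 (iv F89988)) (tt N7111 F71162) (tt N8606 F71163) (tt N10330 (iv F90031)) (tt N7099 F71164) (tt N10331 (iv F90038)) (tt N8606 F71165) (tt N7098 (iv D15533)) (tt N7158 F71166) (tt N8606 F71167))
theorem Q8608 : ∀ i, i < 8608 → P i := stepQ 8607 Q8607 (allL N8607 (tt N7354 F71168) (tt N9875 (iv F85733)) (tt N7112 F71169) (tt N10333 D19837) (tt N7100 (iv D15534)) (tt N7102 F71170) (tt N10334 D19838) (tt N7343 F71171) (tt N7345 F71172) (tt N9627 (iv F84338)))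
theorem Q8609 : ∀ i, i < 8609 → P i := stepQ 8608 Q8608 (allL N8608 (tt N7355 F71173) (tt N9876 (iv F85740)) (tt N7113 F71174) (tt N9878 (iv F85756)) (tt N10334 (iv F90049)) (tt N7161 F71175) (tt N7100 (iv D15535)) (tt N10335 D19839) (tt N7346 F71176) (tt N9628 (iv F84345)))
theorem Q8610 : ∀ i, i < 8610 → P i := stepQ 8609 Q8609 (allL N8609 (tt N7352 F71177) (tt N9873 (iv F85719)) (tt N7114 F71178) (tt N10336 D19840) (tt N7101 (iv D15536)) (tt N7343 F71179) (tt N10337 D19841) (tt N7102 F71180) (tt N7104 F71181) (tt N9763 (iv F85134)))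
theorem Q8611 : ∀ i, i < 8611 → P i := stepQ 8610 Q8610 (allL N8610 (tt N7353 F71182) (tt N9874 (iv F85726)) (tt N7115 F71183) (tt N7257 F71184) (tt N10337 (iv F90063)) (tt N9766 (iv F85153)) (tt N7101 (iv D15537)) (tt N10338 D19842) (tt N7105 F71185) (tt N9764 (iv F85141)))
theorem Q8612 : ∀ i, i < 8612 → P i := stepQ 8611 Q8611 (allL N8611 (tt N9591 (iv F84067)) (tt N10322 (iv F89994)) (tt N10339 D19843) (tt N7102 (iv D15538)) (tt N7260 F71186) (tt N10333 (iv F90044)) (tt N10340 D19844) (tt N10336 (iv F90059)) (tt N7106 F71187) (tt N9939 (iv F86051)))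
theorem Q8613 : ∀ i, i < 8613 → P i := stepQ 8612 Q8612 (allL N8612 (tt N9592 (iv F84074)) (tt N10323 (iv F89997)) (tt N7117 F71188) (tt N10340 (iv F90073)) (tt N7103 F71189) (tt N10341 D19845) (tt N7102 (iv D15539)) (tt N10342 D19846) (tt N7107 F71190) (tt N9940 (iv F86056)))
theorem Q8614 : ∀ i, i < 8614 → P i := stepQ 8613 Q8613 (allL N8613 (tt N9593 (iv F84080)) (tt N10324 (iv F90001)) (tt N7118 F71191) (tt N7262 F71192) (tt N10342 (iv F90079)) (tt N7164 F71193) (tt N10338 (iv F90068)) (tt N7103 (iv D15540)) (tt N7108 F71194) (tt N9941 (iv F86062)))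
theorem Q8615 : ∀ i, i < 8615 → P i := stepQ 8614 Q8614 (allL N8614 (tt N7562 F71195) (tt N10167 (iv F87653)) (tt N10225 (iv F134303)) (tt N7104 (iv D15541)) (tt N7263 F71196) (tt N7560 F71197) (tt N10343 D19848) (tt N7106 F71198) (tt N10336 (iv F90060)) (tt N8614 F71199))
theorem Q8616 : ∀ i, i < 8616 → P i := stepQ 8615 Q8615 (allL N8615 (tt N7563 F71200) (tt N10168 (iv F87659)) (tt N7119 F71201) (tt N10343 (iv F90088)) (tt N7105 F71202) (tt N10256 (iv F134309)) (tt N7104 (iv D15542)) (tt N10344 D19850) (tt N10337 (iv F90064)) (tt N8615 F71203))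
theorem Q8617 : ∀ i, i < 8617 → P i := stepQ 8616 Q8616 (allL N8616 (tt N7564 F71204) (tt N10169 (iv F87664)) (tt N7120 F71205) (tt N7265 F71206) (tt N10344 (iv F90098)) (tt N8616 F71207) (tt N7108 F71208) (tt N7105 (iv D15543)) (tt N10338 (iv F90069)) (tt N8616 F71209))
theorem Q8618 : ∀ i, i < 8618 → P i := stepQ 8617 Q8617 (allL N8617 (tt N9594 (iv F84088)) (tt N10345 D19851) (tt N7106 (iv D15544)) (tt N7121 F71210) (tt N7266 F71211) (tt N10226 F133791) (tt N10346 D19852) (tt N10225 (iv F134304)) (tt N10339 (iv F90072)) (tt N8617 F71212))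
theorem Q8619 : ∀ i, i < 8619 → P i := stepQ 8618 Q8618 (allL N8618 (tt N9595 (iv F84094)) (tt N10326 (iv F90009)) (tt N10346 (iv F90104)) (tt N7107 F71213) (tt N7267 F71214) (tt N10347 D19853) (tt N7106 (iv D15545)) (tt N10348 D19854) (tt N10340 (iv F90075)) (tt N8618 F71215))
theorem Q8620 : ∀ i, i < 8620 → P i := stepQ 8619 Q8619 (allL N8619 (tt N9596 (iv F84099)) (tt N10327 (iv F90013)) (tt N7123 F71216) (tt N10347 (iv F90108)) (tt N7110 F71217) (tt N7107 (iv D15546)) (tt N10270 F134964) (tt N10349 D19855) (tt N10350 D19856) (tt N8619 F71218))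
theorem Q8621 : ∀ i, i < 8621 → P i := stepQ 8620 Q8620 (allL N8620 (tt N9597 (iv F84105)) (tt N10328 (iv F90017)) (tt N7124 F71219) (tt N10348 (iv F90110)) (tt N7108 F71220) (tt N10349 (iv F90115)) (tt N10344 (iv F90099)) (tt N7107 (iv D15547)) (tt N10342 (iv F90080)) (tt N8620 F71221))
theorem Q8622 : ∀ i, i < 8622 → P i := stepQ 8621 Q8621 (allL N8621 (tt N9598 (iv F84111)) (tt N10329 (iv F90027)) (tt N8621 F71222) (tt N7110 F71223) (tt N10351 D19857) (tt N7109 (iv D15548)) (tt N9867 F134924) (tt N10352 D19858) (tt N10353 D19859) (tt N8621 F71224))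
theorem Q8623 : ∀ i, i < 8623 → P i := stepQ 8622 Q8622 (allL N8622 (tt N9599 (iv F84115)) (tt N10330 (iv F90030)) (tt N8622 F71225) (tt N7111 F71226) (tt N7271 F71227) (tt N10352 (iv F90124)) (tt N8622 F71228) (tt N7109 (iv D15549)) (tt N7170 F71229) (tt N8622 F71230))
theorem Q8624 : ∀ i, i < 8624 → P i := stepQ 8623 Q8623 (allL N8623 (tt N9600 (iv F84122)) (tt N10331 (iv F90036)) (tt N7125 F71231) (tt N10352 (iv F90123)) (tt N10349 (iv F90114)) (tt N7111 F71232) (tt N10354 D19860) (tt N7110 (iv D15550)) (tt N10355 D19861) (tt N8623 F71233))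
theorem Q8625 : ∀ i, i < 8625 → P i := stepQ 8624 Q8624 (allL N8624 (tt N9601 (iv F84126)) (tt N10332 (iv F90040)) (tt N7126 F71234) (tt N10353 (iv F90127)) (tt N10350 (iv F90118)) (tt N7172 F71235) (tt N10317 (iv F89868)) (tt N10355 (iv F90134)) (tt N7110 (iv D15551)) (tt N10356 D19862))
theorem Q8626 : ∀ i, i < 8626 → P i := stepQ 8625 Q8625 (allL N8625 (tt N7778 F71242) (tt N8625 F71243) (tt N10334 (iv F90048)) (tt N10277 (iv F134360)) (tt N7113 F71244) (tt N10357 D19865) (tt N7112 (iv D15553)) (tt N10358 D19866) (tt N7773 F71245) (tt N9980 (iv F86231)))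
theorem Q8627 : ∀ i, i < 8627 → P i := stepQ 8626 Q8626 (allL N8626 (tt N7779 F71246) (tt N8626 F71247) (tt N10335 (iv F90052)) (tt N8626 F71248) (tt N10358 (iv F90154)) (tt N7175 F71249) (tt N7772 F71250) (tt N7113 (iv D15554)) (tt N7774 F71251) (tt N9981 (iv F86238)))
theorem Q8628 : ∀ i, i < 8628 → P i := stepQ 8627 Q8627 (allL N8627 (tt N7776 F71258) (tt N8627 F71259) (tt N10337 (iv F90062)) (tt N10259 (iv F135156)) (tt N7115 F71260) (tt N10359 D19869) (tt N7114 (iv D15556)) (tt N10360 D19870) (tt N7119 F71261) (tt N9804 (iv F85340)))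
theorem Q8629 : ∀ i, i < 8629 → P i := stepQ 8628 Q8628 (allL N8628 (tt N7777 F71262) (tt N8628 F71263) (tt N10338 (iv F90066)) (tt N7129 F71264) (tt N10360 (iv F90172)) (tt N9808 (iv F85363)) (tt N7118 F71265) (tt N7115 (iv D15557)) (tt N7120 F71266) (tt N9805 (iv F85347)))
theorem Q8630 : ∀ i, i < 8630 → P i := stepQ 8629 Q8629 (allL N8629 (tt N9602 (iv F84129)) (tt N10361 D19871) (tt N7116 (iv D15558)) (tt N10339 (iv F90070)) (tt N7130 F71267) (tt N10241 F133794) (tt N10362 D19872) (tt N10227 (iv F134449)) (tt N7121 F71268) (tt N9996 (iv F86310)))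
theorem Q8631 : ∀ i, i < 8631 → P i := stepQ 8630 Q8630 (allL N8630 (tt N9603 (iv F84135)) (tt N8630 F71269) (tt N10362 (iv F90178)) (tt N7117 F71270) (tt N7131 F71271) (tt N10363 D19873) (tt N7116 (iv D15559)) (tt N10364 D19874) (tt N7122 F71272) (tt N9997 (iv F86316)))
theorem Q8632 : ∀ i, i < 8632 → P i := stepQ 8631 Q8631 (allL N8631 (tt N9604 (iv F84141)) (tt N8631 F71273) (tt N10341 (iv F90076)) (tt N10363 (iv F90182)) (tt N7178 F71274) (tt N7117 (iv D15560)) (tt N10357 (iv F90151)) (tt N10365 D19875) (tt N10366 D19876) (tt N9998 (iv F86320)))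
theorem Q8633 : ∀ i, i < 8633 → P i := stepQ 8632 Q8632 (allL N8632 (tt N9605 (iv F84146)) (tt N8632 F71275) (tt N10342 (iv F90078)) (tt N10364 (iv F90184)) (tt N7118 F71276) (tt N10365 (iv F90189)) (tt N10360 (iv F90173)) (tt N7117 (iv D15561)) (tt N7124 F71277) (tt N9999 (iv F86325)))
theorem Q8634 : ∀ i, i < 8634 → P i := stepQ 8633 Q8633 (allL N8633 (tt N7930 F71293) (tt N8633 F71294) (tt N10344 (iv F90097)) (tt N10258 (iv F135336)) (tt N7120 F71295) (tt N10257 (iv F135338)) (tt N7124 F71296) (tt N7119 (iv D15565)) (tt N10360 (iv F90174)) (tt N8633 F71297))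
theorem Q8635 : ∀ i, i < 8635 → P i := stepQ 8634 Q8634 (allL N8634 (tt N10269 (iv F134439)) (tt N7121 (iv D15566)) (tt N8634 F71298) (tt N10345 (iv F90101)) (tt N7138 F71299) (tt N10193 F133779) (tt N10367 D19884) (tt N10192 (iv F134437)) (tt N10361 (iv F90177)) (tt N8634 F71300))
theorem Q8636 : ∀ i, i < 8636 → P i := stepQ 8635 Q8635 (allL N8635 (tt N9606 (iv F84157)) (tt N10367 (iv F90225)) (tt N7122 F71301) (tt N10346 (iv F90105)) (tt N7139 F71302) (tt N10234 F133792) (tt N7121 (iv D15567)) (tt N10368 D19886) (tt N10362 (iv F90180)) (tt N8635 F71303))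
theorem Q8637 : ∀ i, i < 8637 → P i := stepQ 8636 Q8636 (allL N8636 (tt N9607 (iv F84167)) (tt N8636 F71308) (tt N10368 (iv F90232)) (tt N7124 F71309) (tt N7140 F71310) (tt N10266 F135028) (tt N10258 (iv F135337)) (tt N7122 (iv D15569)) (tt N10364 (iv F90186)) (tt N8636 F71311))
theorem Q8638 : ∀ i, i < 8638 → P i := stepQ 8637 Q8637 (allL N8637 (tt N9608 (iv F84173)) (tt N8637 F71312) (tt N10349 (iv F90113)) (tt N10266 F135054) (tt N7125 F71313) (tt N7124 F71314) (tt N10264 (iv F135147)) (tt N7123 (iv D15570)) (tt N10369 D19890) (tt N8637 F71315))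
theorem Q8639 : ∀ i, i < 8639 → P i := stepQ 8638 Q8638 (allL N8638 (tt N9609 (iv F84178)) (tt N8638 F71316) (tt N10350 (iv F90117)) (tt N10275 (iv F133829)) (tt N7126 F71317) (tt N10366 (iv F90192)) (tt N10273 F133816) (tt N10369 (iv F90248)) (tt N7123 (iv D15571)) (tt N10370 D19891))
theorem Q8640 : ∀ i, i < 8640 → P i := stepQ 8639 Q8639 (allL N8639 (tt N9610 (iv F84182)) (tt N8639 F71318) (tt N10354 (iv F90129)) (tt N8639 F71319) (tt N10264 (iv F135146)) (tt N8639 F71320) (tt N7125 (iv D15572)) (tt N10263 F135023) (tt N10371 D19892) (tt N8639 F71321))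
theorem Q8641 : ∀ i, i < 8641 → P i := stepQ 8640 Q8640 (allL N8640 (tt N9611 (iv F84186)) (tt N8640 F71322) (tt N10355 (iv F90132)) (tt N8640 F71323) (tt N10369 (iv F90247)) (tt N7187 F71324) (tt N10371 (iv F90254)) (tt N7126 F71325) (tt N7125 (iv D15573)) (tt N10372 D19893))
theorem Q8642 : ∀ i, i < 8642 → P i := stepQ 8641 Q8641 (allL N8641 (tt N9612 (iv F84190)) (tt N8641 F71326) (tt N10356 (iv F90135)) (tt N8641 F71327) (tt N10370 (iv F90250)) (tt N7188 F71328) (tt N10318 (iv F89915)) (tt N10372 (iv F90258)) (tt N8641 F71329) (tt N7126 (iv D15574)))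
theorem Q8643 : ∀ i, i < 8643 → P i := stepQ 8642 Q8642 (allL N8642 (tt N9613 (iv F84194)) (tt N10373 D19894) (tt N7127 (iv D15575)) (tt N7314 F71330) (tt N10227 F135135) (tt N8642 F71331) (tt N10374 D19895) (tt N7130 F71332) (tt N7134 F71333) (tt N9840 (iv F85513)))
theorem Q8644 : ∀ i, i < 8644 → P i := stepQ 8643 Q8643 (allL N8643 (tt N9614 (iv F84201)) (tt N8643 F71334) (tt N10374 (iv F90265)) (tt N7128 F71335) (tt N10259 F135401) (tt N10375 D19896) (tt N7127 (iv D15576)) (tt N10376 D19897) (tt N7135 F71336) (tt N9841 (iv F85518)))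
theorem Q8645 : ∀ i, i < 8645 → P i := stepQ 8644 Q8644 (allL N8644 (tt N9615 (iv F84207)) (tt N8644 F71337) (tt N7316 F71338) (tt N10375 (iv F90269)) (tt N9846 (iv F85546)) (tt N7128 (iv D15577)) (tt N8644 F71339) (tt N10377 D19898) (tt N10378 D19899) (tt N9842 (iv F85524)))
theorem Q8646 : ∀ i, i < 8646 → P i := stepQ 8645 Q8645 (allL N8645 (tt N9616 (iv F84213)) (tt N8645 F71340) (tt N7317 F71341) (tt N10376 (iv F90272)) (tt N7129 F71342) (tt N10377 (iv F90277)) (tt N7133 F71343) (tt N7128 (iv D15578)) (tt N7137 F71344) (tt N9843 (iv F85531)))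
theorem Q8647 : ∀ i, i < 8647 → P i := stepQ 8646 Q8646 (allL N8646 (tt N10379 D19900) (tt N7130 (iv D15579)) (tt N8646 F71345) (tt N7322 F71346) (tt N10361 (iv F90176)) (tt N8646 F71347) (tt N10380 D19901) (tt N10373 (iv F90263)) (tt N7138 F71348) (tt N10037 (iv F86530)))
theorem Q8648 : ∀ i, i < 8648 → P i := stepQ 8647 Q8647 (allL N8647 (tt N9618 (iv F84225)) (tt N10380 (iv F90286)) (tt N7131 F71349) (tt N7323 F71350) (tt N10362 (iv F90179)) (tt N10381 D19902) (tt N7130 (iv D15580)) (tt N10382 D19903) (tt N7139 F71351) (tt N10038 (iv F86535)))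
theorem Q8649 : ∀ i, i < 8649 → P i := stepQ 8648 Q8648 (allL N8648 (tt N9619 (iv F84230)) (tt N8648 F71352) (tt N10381 (iv F90290)) (tt N7132 F71353) (tt N10383 D19904) (tt N7131 (iv D15581)) (tt N8648 F71354) (tt N10384 D19905) (tt N8648 F71355) (tt N10039 (iv F86540)))
theorem Q8650 : ∀ i, i < 8650 → P i := stepQ 8649 Q8649 (allL N8649 (tt N9620 (iv F84236)) (tt N8649 F71356) (tt N10382 (iv F90294)) (tt N7133 F71357) (tt N10364 (iv F90185)) (tt N10384 (iv F90303)) (tt N10376 (iv F90273)) (tt N7131 (iv D15582)) (tt N7140 F71358) (tt N10040 (iv F86545)))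
theorem Q8651 : ∀ i, i < 8651 → P i := stepQ 8650 Q8650 (allL N8650 (tt N9621 (iv F84241)) (tt N8650 F71359) (tt N7326 F71360) (tt N10384 (iv F90302)) (tt N7193 F71361) (tt N7133 F71362) (tt N10385 D19906) (tt N7132 (iv D15583)) (tt N8650 F71363) (tt N10041 (iv F86551)))
theorem Q8652 : ∀ i, i < 8652 → P i := stepQ 8651 Q8651 (allL N8651 (tt N10316 F135121) (tt N7134 (iv D15584)) (tt N8651 F71364) (tt N7327 F71365) (tt N10192 F135122) (tt N7141 F71366) (tt N10320 (iv F135320)) (tt N7138 F71367) (tt N10373 (iv F90264)) (tt N8651 F71368))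
theorem Q8653 : ∀ i, i < 8653 → P i := stepQ 8652 Q8652 (allL N8652 (tt N9589 F135132) (tt N10320 (iv F135318)) (tt N7135 F71369) (tt N7328 F71370) (tt N10217 F135133) (tt N9586 F135134) (tt N7134 (iv D15585)) (tt N10386 D19910) (tt N10374 (iv F90267)) (tt N8652 F71371))
theorem Q8654 : ∀ i, i < 8654 → P i := stepQ 8653 Q8653 (allL N8653 (tt N9622 (iv F84264)) (tt N8653 F71376) (tt N10386 (iv F90323)) (tt N7137 F71377) (tt N10258 F135595) (tt N10255 (iv F135601)) (tt N7140 F71378) (tt N7135 (iv D15587)) (tt N10376 (iv F90274)) (tt N8653 F71379))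
theorem Q8655 : ∀ i, i < 8655 → P i := stepQ 8654 Q8654 (allL N8654 (tt N9623 (iv F84270)) (tt N8654 F71380) (tt N7331 F71381) (tt N10255 (iv F135600)) (tt N8654 F71382) (tt N7137 F71383) (tt N8654 F71384) (tt N7136 (iv D15588)) (tt N10387 D19914) (tt N8654 F71385))
theorem Q8656 : ∀ i, i < 8656 → P i := stepQ 8655 Q8655 (allL N8655 (tt N9558 F135079) (tt N8655 F71386) (tt N7332 F71387) (tt N9556 (iv F135106)) (tt N8655 F71388) (tt N10378 (iv F90280)) (tt N7142 F71389) (tt N10387 (iv F90343)) (tt N7136 (iv D15589)) (tt N9568 F135080))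
theorem Q8657 : ∀ i, i < 8657 → P i := stepQ 8656 Q8656 (allL N8656 (tt N7138 (iv D15590)) (tt N9624 (iv F84282)) (tt N8656 F71390) (tt N7333 F71391) (tt N10269 F134463) (tt N7143 F71392) (tt N10388 D19916) (tt N10316 (iv F134438)) (tt N10379 (iv F90285)) (tt N8656 F71393))
theorem Q8658 : ∀ i, i < 8658 → P i := stepQ 8657 Q8657 (allL N8657 (tt N10388 (iv F90349)) (tt N7139 F71394) (tt N8657 F71395) (tt N7334 F71396) (tt N10367 (iv F90227)) (tt N8657 F71397) (tt N7138 (iv D15591)) (tt N10389 D19917) (tt N10380 (iv F90289)) (tt N8657 F71398))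
theorem Q8659 : ∀ i, i < 8659 → P i := stepQ 8658 Q8658 (allL N8658 (tt N9626 (iv F84290)) (tt N10389 (iv F90354)) (tt N7140 F71399) (tt N7335 F71400) (tt N10368 (iv F90233)) (tt N8658 F71401) (tt N10386 (iv F90325)) (tt N7139 (iv D15592)) (tt N10382 (iv F90296)) (tt N8658 F71402))
theorem Q8660 : ∀ i, i < 8660 → P i := stepQ 8659 Q8659 (allL N8659 (tt N7151 F71432) (tt N9627 (iv F84333)) (tt N8659 F71433) (tt N10390 D19924) (tt N7144 (iv D15599)) (tt N9897 (iv F85865)) (tt N10391 D19925) (tt N9877 (iv F85750)) (tt N7145 F71434) (tt N9875 (iv F85738)))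
theorem Q8661 : ∀ i, i < 8661 → P i := stepQ 8660 Q8660 (allL N8660 (tt N7152 F71435) (tt N9628 (iv F84340)) (tt N8660 F71436) (tt N7344 F71437) (tt N10391 (iv F90395)) (tt N9893 (iv F85849)) (tt N7144 (iv D15600)) (tt N10392 D19926) (tt N7146 F71438) (tt N9876 (iv F85745)))
theorem Q8662 : ∀ i, i < 8662 → P i := stepQ 8661 Q8661 (allL N8661 (tt N7153 F71439) (tt N9629 (iv F84347)) (tt N10237 (iv F134178)) (tt N7145 (iv D15601)) (tt N7347 F71440) (tt N8661 F71441) (tt N10393 D19928) (tt N10062 (iv F86779)) (tt N10390 (iv F90392)) (tt N7196 F71442))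
theorem Q8663 : ∀ i, i < 8663 → P i := stepQ 8662 Q8662 (allL N8662 (tt N7154 F71443) (tt N9630 (iv F84353)) (tt N8662 F71444) (tt N10393 (iv F90407)) (tt N7146 F71445) (tt N10394 D19929) (tt N7145 (iv D15602)) (tt N10395 D19930) (tt N10391 (iv F90396)) (tt N7197 F71446))
theorem Q8664 : ∀ i, i < 8664 → P i := stepQ 8663 Q8663 (allL N8663 (tt N7155 F71447) (tt N9631 (iv F84358)) (tt N8663 F71448) (tt N7349 F71449) (tt N10395 (iv F90417)) (tt N7149 F71450) (tt N10064 (iv F86791)) (tt N7146 (iv D15603)) (tt N10392 (iv F90400)) (tt N7198 F71451))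
theorem Q8665 : ∀ i, i < 8665 → P i := stepQ 8664 Q8664 (allL N8664 (tt N7156 F71458) (tt N9632 (iv F84370)) (tt N7554 (iv F134228)) (tt N7148 F71459) (tt N7350 F71460) (tt N10396 D19933) (tt N7147 (iv D15605)) (tt N10397 D19934) (tt N10319 (iv F89983)) (tt N7199 F71461))
theorem Q8666 : ∀ i, i < 8666 → P i := stepQ 8665 Q8665 (allL N8665 (tt N7157 F71462) (tt N9633 (iv F84375)) (tt N8665 F71463) (tt N10396 (iv F90431)) (tt N10394 (iv F90412)) (tt N7148 (iv D15606)) (tt N8665 F71464) (tt N10398 D19935) (tt N10399 D19936) (tt N7200 F71465))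
theorem Q8667 : ∀ i, i < 8667 → P i := stepQ 8666 Q8666 (allL N8666 (tt N7158 F71466) (tt N9634 (iv F84379)) (tt N8666 F71467) (tt N10397 (iv F90435)) (tt N7149 F71468) (tt N10398 (iv F90441)) (tt N8666 F71469) (tt N7148 (iv D15607)) (tt N10321 (iv F89992)) (tt N7201 F71470))
theorem Q8668 : ∀ i, i < 8668 → P i := stepQ 8667 Q8667 (allL N8667 (tt N9897 (iv F85862)) (tt N7160 F71471) (tt N8667 F71472) (tt N10400 D19937) (tt N7150 (iv D15608)) (tt N7151 F71473) (tt N10401 D19938) (tt N9754 (iv F85079)) (tt N8667 F71474) (tt N9892 (iv F85844)))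
theorem Q8669 : ∀ i, i < 8669 → P i := stepQ 8668 Q8668 (allL N8668 (tt N9898 (iv F85869)) (tt N7161 F71475) (tt N8668 F71476) (tt N9757 (iv F85099)) (tt N10401 (iv F90451)) (tt N9876 (iv F85743)) (tt N7150 (iv D15609)) (tt N10402 D19939) (tt N8668 F71477) (tt N9893 (iv F85851)))
theorem Q8670 : ∀ i, i < 8670 → P i := stepQ 8669 Q8669 (allL N8669 (tt N10390 (iv F90390)) (tt N7162 F71478) (tt N10403 D19940) (tt N7151 (iv D15610)) (tt N7358 F71479) (tt N10400 (iv F90447)) (tt N10404 D19941) (tt N9902 (iv F85894)) (tt N7153 F71480) (tt N9899 (iv F85880)))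
theorem Q8671 : ∀ i, i < 8671 → P i := stepQ 8670 Q8670 (allL N8670 (tt N10391 (iv F90393)) (tt N7163 F71481) (tt N8670 F71482) (tt N10404 (iv F90460)) (tt N7152 F71483) (tt N10405 D19942) (tt N7151 (iv D15611)) (tt N10406 D19943) (tt N7154 F71484) (tt N9900 (iv F85885)))
theorem Q8672 : ∀ i, i < 8672 → P i := stepQ 8671 Q8671 (allL N8671 (tt N10392 (iv F90397)) (tt N7164 F71485) (tt N8671 F71486) (tt N7360 F71487) (tt N10406 (iv F90467)) (tt N10324 (iv F90004)) (tt N9904 (iv F85905)) (tt N7152 (iv D15612)) (tt N7155 F71488) (tt N9901 (iv F85891)))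
theorem Q8673 : ∀ i, i < 8673 → P i := stepQ 8672 Q8672 (allL N8672 (tt N10237 (iv F134177)) (tt N10407 D19944) (tt N7153 (iv D15613)) (tt N8672 F71489) (tt N7364 F71490) (tt N8672 F71491) (tt N10408 D19945) (tt N10078 (iv F86912)) (tt N10403 (iv F90458)) (tt N7202 F71492))
theorem Q8674 : ∀ i, i < 8674 → P i := stepQ 8673 Q8673 (allL N8673 (tt N10393 (iv F90406)) (tt N7166 F71493) (tt N10408 (iv F90474)) (tt N7154 F71494) (tt N7365 F71495) (tt N10409 D19946) (tt N7153 (iv D15614)) (tt N10410 D19947) (tt N10404 (iv F90462)) (tt N7203 F71496))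
theorem Q8675 : ∀ i, i < 8675 → P i := stepQ 8674 Q8674 (allL N8674 (tt N10394 (iv F90410)) (tt N7167 F71497) (tt N8674 F71498) (tt N10409 (iv F90479)) (tt N7157 F71499) (tt N7154 (iv D15615)) (tt N8674 F71500) (tt N10411 D19948) (tt N10412 D19949) (tt N7204 F71501))
theorem Q8676 : ∀ i, i < 8676 → P i := stepQ 8675 Q8675 (allL N8675 (tt N10395 (iv F90415)) (tt N7168 F71502) (tt N8675 F71503) (tt N10410 (iv F90483)) (tt N7155 F71504) (tt N10411 (iv F90489)) (tt N10081 (iv F86926)) (tt N7154 (iv D15616)) (tt N10406 (iv F90468)) (tt N7205 F71505))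
theorem Q8677 : ∀ i, i < 8677 → P i := stepQ 8676 Q8676 (allL N8676 (tt N10396 (iv F90430)) (tt N7169 F71511) (tt N10138 (iv F134239)) (tt N7157 F71512) (tt N10136 (iv F134159)) (tt N7156 (iv D15618)) (tt N8676 F71513) (tt N10413 D19953) (tt N10414 D19954) (tt N7206 F71514))
theorem Q8678 : ∀ i, i < 8678 → P i := stepQ 8677 Q8677 (allL N8677 (tt N10397 (iv F90434)) (tt N7170 F71515) (tt N10164 (iv F134240)) (tt N7158 F71516) (tt N7368 F71517) (tt N10413 (iv F90512)) (tt N8677 F71518) (tt N7156 (iv D15619)) (tt N10330 (iv F90034)) (tt N7207 F71519))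
theorem Q8679 : ∀ i, i < 8679 → P i := stepQ 8678 Q8678 (allL N8678 (tt N10398 (iv F90439)) (tt N7171 F71520) (tt N8678 F71521) (tt N10413 (iv F90511)) (tt N10411 (iv F90488)) (tt N7158 F71522) (tt N10415 D19955) (tt N7157 (iv D15620)) (tt N10416 D19956) (tt N7208 F71523))
theorem Q8680 : ∀ i, i < 8680 → P i := stepQ 8679 Q8679 (allL N8679 (tt N10399 (iv F90443)) (tt N7172 F71524) (tt N8679 F71525) (tt N10414 (iv F90515)) (tt N10412 (iv F90493)) (tt N10332 (iv F90042)) (tt N8679 F71526) (tt N10416 (iv F90524)) (tt N7157 (iv D15621)) (tt N10417 D19957))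
theorem Q8681 : ∀ i, i < 8681 → P i := stepQ 8680 Q8680 (allL N8680 (tt N9647 (iv F84438)) (tt N9756 (iv F85090)) (tt N8680 F71527) (tt N10418 D19958) (tt N7159 (iv D15622)) (tt N7372 F71528) (tt N10419 D19959) (tt N9740 (iv F85010)) (tt N8680 F71529) (tt N9732 (iv F84957)))
theorem Q8682 : ∀ i, i < 8682 → P i := stepQ 8681 Q8681 (allL N8681 (tt N9648 (iv F84445)) (tt N9757 (iv F85097)) (tt N8681 F71530) (tt N7161 F71531) (tt N10419 (iv F90533)) (tt N9878 (iv F85757)) (tt N7159 (iv D15623)) (tt N10420 D19960) (tt N8681 F71532) (tt N9733 (iv F84964)))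
theorem Q8683 : ∀ i, i < 8683 → P i := stepQ 8682 Q8682 (allL N8682 (tt N9649 (iv F84452)) (tt N10400 (iv F90446)) (tt N10421 D19961) (tt N7160 (iv D15624)) (tt N10418 (iv F90529)) (tt N7162 F71533) (tt N10422 D19962) (tt N9932 (iv F86021)) (tt N8682 F71534) (tt N9929 (iv F86008)))
theorem Q8684 : ∀ i, i < 8684 → P i := stepQ 8683 Q8683 (allL N8683 (tt N9650 (iv F84458)) (tt N10401 (iv F90449)) (tt N7174 F71535) (tt N10422 (iv F90541)) (tt N7161 F71536) (tt N10423 D19963) (tt N7160 (iv D15625)) (tt N10424 D19964) (tt N8683 F71537) (tt N9930 (iv F86013)))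
theorem Q8685 : ∀ i, i < 8685 → P i := stepQ 8684 Q8684 (allL N8684 (tt N9651 (iv F84464)) (tt N10402 (iv F90453)) (tt N7175 F71538) (tt N10420 (iv F90536)) (tt N10424 (iv F90546)) (tt N10335 (iv F90053)) (tt N9934 (iv F86031)) (tt N7161 (iv D15626)) (tt N8684 F71539) (tt N9931 (iv F86018)))
theorem Q8686 : ∀ i, i < 8686 → P i := stepQ 8685 Q8685 (allL N8685 (tt N9652 (iv F84471)) (tt N10425 D19965) (tt N7162 (iv D15627)) (tt N7176 F71540) (tt N7389 F71541) (tt N10421 (iv F90539)) (tt N10426 D19966) (tt N9946 (iv F86086)) (tt N7165 F71542) (tt N9942 (iv F86068)))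
theorem Q8687 : ∀ i, i < 8687 → P i := stepQ 8686 Q8686 (allL N8686 (tt N9653 (iv F84477)) (tt N10404 (iv F90459)) (tt N10426 (iv F90551)) (tt N7163 F71543) (tt N7390 F71544) (tt N10427 D19967) (tt N7162 (iv D15628)) (tt N10428 D19968) (tt N7166 F71545) (tt N9943 (iv F86073)))
theorem Q8688 : ∀ i, i < 8688 → P i := stepQ 8687 Q8687 (allL N8687 (tt N9654 (iv F84482)) (tt N10405 (iv F90463)) (tt N7178 F71546) (tt N10427 (iv F90555)) (tt N10341 (iv F90077)) (tt N7163 (iv D15629)) (tt N10423 (iv F90544)) (tt N10429 D19969) (tt N10430 D19970) (tt N9944 (iv F86076)))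
theorem Q8689 : ∀ i, i < 8689 → P i := stepQ 8688 Q8688 (allL N8688 (tt N9655 (iv F84485)) (tt N10406 (iv F90465)) (tt N7179 F71547) (tt N10428 (iv F90556)) (tt N7164 F71548) (tt N10429 (iv F90560)) (tt N9949 (iv F86100)) (tt N7163 (iv D15630)) (tt N7168 F71549) (tt N9945 (iv F86082)))
theorem Q8690 : ∀ i, i < 8690 → P i := stepQ 8689 Q8689 (allL N8689 (tt N10247 F133267) (tt N7165 (iv D15631)) (tt N10407 (iv F90469)) (tt N7180 F71550) (tt N7397 F71551) (tt N8689 F71552) (tt N10431 D19972) (tt N7593 F133268) (tt N10425 (iv F90550)) (tt N7210 F71553))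
theorem Q8691 : ∀ i, i < 8691 → P i := stepQ 8690 Q8690 (allL N8690 (tt N9656 (iv F84496)) (tt N10431 (iv F90567)) (tt N7166 F71554) (tt N7181 F71555) (tt N7398 F71556) (tt N10432 D19973) (tt N7165 (iv D15632)) (tt N10433 D19974) (tt N10426 (iv F90554)) (tt N7211 F71557))
theorem Q8692 : ∀ i, i < 8692 → P i := stepQ 8691 Q8691 (allL N8691 (tt N9657 (iv F84501)) (tt N10409 (iv F90478)) (tt N10432 (iv F90571)) (tt N7167 F71558) (tt N10434 D19975) (tt N7166 (iv D15633)) (tt N8691 F71559) (tt N10435 D19976) (tt N10436 D19977) (tt N7212 F71560))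
theorem Q8693 : ∀ i, i < 8693 → P i := stepQ 8692 Q8692 (allL N8692 (tt N9658 (iv F84505)) (tt N10410 (iv F90482)) (tt N10433 (iv F90575)) (tt N7168 F71561) (tt N7400 F71562) (tt N10435 (iv F90584)) (tt N10106 (iv F87076)) (tt N7166 (iv D15634)) (tt N10428 (iv F90558)) (tt N7213 F71563))
theorem Q8694 : ∀ i, i < 8694 → P i := stepQ 8693 Q8693 (allL N8693 (tt N9659 (iv F84510)) (tt N10411 (iv F90486)) (tt N7184 F71564) (tt N10435 (iv F90583)) (tt N7171 F71565) (tt N7168 F71566) (tt N10437 D19978) (tt N7167 (iv D15635)) (tt N10438 D19979) (tt N7214 F71567))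
theorem Q8695 : ∀ i, i < 8695 → P i := stepQ 8694 Q8694 (allL N8694 (tt N9660 (iv F84515)) (tt N10412 (iv F90491)) (tt N7185 F71568) (tt N10436 (iv F90586)) (tt N7172 F71569) (tt N10430 (iv F90562)) (tt N8694 F71570) (tt N10438 (iv F90594)) (tt N7167 (iv D15636)) (tt N10439 D19980))
theorem Q8696 : ∀ i, i < 8696 → P i := stepQ 8695 Q8695 (allL N8695 (tt N9661 (iv F84519)) (tt N10136 (iv F134158)) (tt N8695 F71571) (tt N10434 (iv F90579)) (tt N7169 (iv D15637)) (tt N7403 F71572) (tt N8695 F71573) (tt N10440 D19981) (tt N10441 D19982) (tt N7216 F71574))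
theorem Q8697 : ∀ i, i < 8697 → P i := stepQ 8696 Q8696 (allL N8696 (tt N9662 (iv F84524)) (tt N10413 (iv F90510)) (tt N8696 F71575) (tt N7171 F71576) (tt N10440 (iv F90600)) (tt N7170 F71577) (tt N10442 D19983) (tt N7169 (iv D15638)) (tt N10443 D19984) (tt N7217 F71578))
theorem Q8698 : ∀ i, i < 8698 → P i := stepQ 8697 Q8697 (allL N8697 (tt N9663 (iv F84529)) (tt N10414 (iv F90514)) (tt N8697 F71579) (tt N7172 F71580) (tt N10441 (iv F90604)) (tt N10353 (iv F90128)) (tt N8697 F71581) (tt N10443 (iv F90613)) (tt N7169 (iv D15639)) (tt N10444 D19985))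
theorem Q8699 : ∀ i, i < 8699 → P i := stepQ 8698 Q8698 (allL N8698 (tt N9664 (iv F84533)) (tt N10415 (iv F90517)) (tt N7186 F71582) (tt N10442 (iv F90607)) (tt N10437 (iv F90589)) (tt N8698 F71583) (tt N7171 (iv D15640)) (tt N8698 F71584) (tt N10445 D19986) (tt N7219 F71585))
theorem Q8700 : ∀ i, i < 8700 → P i := stepQ 8699 Q8699 (allL N8699 (tt N9665 (iv F84538)) (tt N10416 (iv F90522)) (tt N7187 F71586) (tt N10443 (iv F90612)) (tt N10438 (iv F90593)) (tt N10355 (iv F90133)) (tt N10445 (iv F90619)) (tt N7172 F71587) (tt N7171 (iv D15641)) (tt N10446 D19987))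
theorem Q8701 : ∀ i, i < 8701 → P i := stepQ 8700 Q8700 (allL N8700 (tt N9666 (iv F84541)) (tt N10417 (iv F90525)) (tt N7188 F71588) (tt N10444 (iv F90615)) (tt N10439 (iv F90596)) (tt N10356 (iv F90136)) (tt N8700 F71589) (tt N10446 (iv F90622)) (tt N7221 F71590) (tt N7172 (iv D15642)))
theorem Q8702 : ∀ i, i < 8702 → P i := stepQ 8701 Q8701 (allL N8701 (tt N9667 (iv F84545)) (tt N10447 D19988) (tt N7173 (iv D15643)) (tt N10421 (iv F90538)) (tt N8701 F71591) (tt N7176 F71592) (tt N10448 D19989) (tt N9986 (iv F86264)) (tt N8701 F71593) (tt N9982 (iv F86244)))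
theorem Q8703 : ∀ i, i < 8703 → P i := stepQ 8702 Q8702 (allL N8702 (tt N9668 (iv F84551)) (tt N8702 F71594) (tt N10448 (iv F90628)) (tt N7174 F71595) (tt N8702 F71596) (tt N10449 D19990) (tt N7173 (iv D15644)) (tt N10450 D19991) (tt N8702 F71597) (tt N9983 (iv F86250)))
theorem Q8704 : ∀ i, i < 8704 → P i := stepQ 8703 Q8703 (allL N8703 (tt N9669 (iv F84557)) (tt N8703 F71598) (tt N10423 (iv F90543)) (tt N10449 (iv F90632)) (tt N10357 (iv F90150)) (tt N7174 (iv D15645)) (tt N7178 F71599) (tt N10451 D19992) (tt N10452 D19993) (tt N9984 (iv F86254)))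
theorem Q8705 : ∀ i, i < 8705 → P i := stepQ 8704 Q8704 (allL N8704 (tt N9670 (iv F84562)) (tt N8704 F71600) (tt N10424 (iv F90545)) (tt N10450 (iv F90635)) (tt N7175 F71601) (tt N10451 (iv F90639)) (tt N9989 (iv F86280)) (tt N7174 (iv D15646)) (tt N8704 F71602) (tt N9985 (iv F86260)))
theorem Q8706 : ∀ i, i < 8706 → P i := stepQ 8705 Q8705 (allL N8705 (tt N10209 F133273) (tt N7176 (iv D15647)) (tt N8705 F71603) (tt N10425 (iv F90548)) (tt N7189 F71604) (tt N10447 (iv F90626)) (tt N10453 D19995) (tt N7596 F133275) (tt N7180 F71605) (tt N10000 (iv F86330)))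
theorem Q8707 : ∀ i, i < 8707 → P i := stepQ 8706 Q8706 (allL N8706 (tt N9671 (iv F84573)) (tt N10453 (iv F90646)) (tt N7177 F71606) (tt N10426 (iv F90552)) (tt N7190 F71607) (tt N10454 D19996) (tt N7176 (iv D15648)) (tt N10455 D19997) (tt N7181 F71608) (tt N10001 (iv F86335)))
theorem Q8708 : ∀ i, i < 8708 → P i := stepQ 8707 Q8707 (allL N8707 (tt N9672 (iv F84578)) (tt N8707 F71609) (tt N10454 (iv F90650)) (tt N7178 F71610) (tt N10456 D19998) (tt N7177 (iv D15649)) (tt N10449 (iv F90633)) (tt N10457 D19999) (tt N10458 D20000) (tt N10002 (iv F86339)))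
theorem Q8709 : ∀ i, i < 8709 → P i := stepQ 8708 Q8708 (allL N8708 (tt N9673 (iv F84582)) (tt N8708 F71611) (tt N10455 (iv F90651)) (tt N7179 F71612) (tt N7192 F71613) (tt N10457 (iv F90658)) (tt N10008 (iv F86372)) (tt N7177 (iv D15650)) (tt N7183 F71614) (tt N10003 (iv F86346)))
theorem Q8710 : ∀ i, i < 8710 → P i := stepQ 8709 Q8709 (allL N8709 (tt N9674 (iv F84589)) (tt N8709 F71615) (tt N10429 (iv F90559)) (tt N10457 (iv F90657)) (tt N10365 (iv F90188)) (tt N7179 F71616) (tt N10459 D20001) (tt N7178 (iv D15651)) (tt N10460 D20002) (tt N10004 (iv F86350)))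
theorem Q8711 : ∀ i, i < 8711 → P i := stepQ 8710 Q8710 (allL N8710 (tt N9675 (iv F84593)) (tt N8710 F71617) (tt N10430 (iv F90561)) (tt N10458 (iv F90660)) (tt N10366 (iv F90191)) (tt N7185 F71618) (tt N10452 (iv F90642)) (tt N10460 (iv F90665)) (tt N7178 (iv D15652)) (tt N10461 D20003))
theorem Q8712 : ∀ i, i < 8712 → P i := stepQ 8711 Q8711 (allL N8711 (tt N10102 F133272) (tt N7181 F71623) (tt N8711 F71624) (tt N10431 (iv F90568)) (tt N7194 F71625) (tt N10462 D20005) (tt N7180 (iv D15654)) (tt N10463 D20006) (tt N10453 (iv F90649)) (tt N7222 F71626))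
theorem Q8713 : ∀ i, i < 8713 → P i := stepQ 8712 Q8712 (allL N8712 (tt N9676 (iv F84606)) (tt N10462 (iv F90672)) (tt N7182 F71627) (tt N10432 (iv F90572)) (tt N8712 F71628) (tt N7181 (iv D15655)) (tt N8712 F71629) (tt N10464 D20007) (tt N10465 D20008) (tt N7223 F71630))
theorem Q8714 : ∀ i, i < 8714 → P i := stepQ 8713 Q8713 (allL N8713 (tt N9677 (iv F84611)) (tt N10463 (iv F90677)) (tt N7183 F71631) (tt N10433 (iv F90576)) (tt N7195 F71632) (tt N10464 (iv F90683)) (tt N10137 (iv F87277)) (tt N7181 (iv D15656)) (tt N10455 (iv F90653)) (tt N7224 F71633))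
theorem Q8715 : ∀ i, i < 8715 → P i := stepQ 8714 Q8714 (allL N8714 (tt N9678 (iv F84616)) (tt N8714 F71634) (tt N10464 (iv F90681)) (tt N7184 F71635) (tt N8714 F71636) (tt N7183 F71637) (tt N10466 D20009) (tt N7182 (iv D15657)) (tt N10467 D20010) (tt N7225 F71638))
theorem Q8716 : ∀ i, i < 8716 → P i := stepQ 8715 Q8715 (allL N8715 (tt N9679 (iv F84622)) (tt N8715 F71639) (tt N10465 (iv F90685)) (tt N7185 F71640) (tt N8715 F71641) (tt N10458 (iv F90661)) (tt N8715 F71642) (tt N10467 (iv F90696)) (tt N7182 (iv D15658)) (tt N10468 D20011))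
theorem Q8717 : ∀ i, i < 8717 → P i := stepQ 8716 Q8716 (allL N8716 (tt N9680 (iv F84627)) (tt N8716 F71643) (tt N10437 (iv F90588)) (tt N10466 (iv F90689)) (tt N7186 F71644) (tt N10141 (iv F87297)) (tt N7184 (iv D15659)) (tt N8716 F71645) (tt N10469 D20012) (tt N7227 F71646))
theorem Q8718 : ∀ i, i < 8718 → P i := stepQ 8717 Q8717 (allL N8717 (tt N9681 (iv F84633)) (tt N8717 F71647) (tt N10438 (iv F90592)) (tt N10467 (iv F90694)) (tt N7187 F71648) (tt N10460 (iv F90664)) (tt N10469 (iv F90704)) (tt N7185 F71649) (tt N7184 (iv D15660)) (tt N10470 D20013))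
theorem Q8719 : ∀ i, i < 8719 → P i := stepQ 8718 Q8718 (allL N8718 (tt N9682 (iv F84637)) (tt N8718 F71650) (tt N10439 (iv F90595)) (tt N10468 (iv F90698)) (tt N7188 F71651) (tt N10461 (iv F90667)) (tt N8718 F71652) (tt N10470 (iv F90708)) (tt N7229 F71653) (tt N7185 (iv D15661)))
theorem Q8720 : ∀ i, i < 8720 → P i := stepQ 8719 Q8719 (allL N8719 (tt N9683 (iv F84642)) (tt N8719 F71654) (tt N10445 (iv F90618)) (tt N8719 F71655) (tt N10469 (iv F90703)) (tt N10471 D20014) (tt N7187 F71656) (tt N8719 F71657) (tt N7186 (iv D15662)) (tt N10472 D20015))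
theorem Q8721 : ∀ i, i < 8721 → P i := stepQ 8720 Q8720 (allL N8720 (tt N9684 (iv F84646)) (tt N8720 F71658) (tt N10446 (iv F90621)) (tt N8720 F71659) (tt N10470 (iv F90707)) (tt N10372 (iv F90257)) (tt N10472 (iv F90716)) (tt N7188 F71660) (tt N7231 F71661) (tt N7187 (iv D15663)))
theorem Q8722 : ∀ i, i < 8722 → P i := stepQ 8721 Q8721 (allL N8721 (tt N9925 F133276) (tt N7190 F71666) (tt N8721 F71667) (tt N7465 F71668) (tt N10453 (iv F90648)) (tt N10473 D20017) (tt N7189 (iv D15665)) (tt N10474 D20018) (tt N7194 F71669) (tt N9891 F133277))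
theorem Q8723 : ∀ i, i < 8723 → P i := stepQ 8722 Q8722 (allL N8722 (tt N9685 (iv F84662)) (tt N10473 (iv F90723)) (tt N7191 F71670) (tt N7466 F71671) (tt N10475 D20019) (tt N7190 (iv D15666)) (tt N8722 F71672) (tt N10476 D20020) (tt N8722 F71673) (tt N10043 (iv F86575)))
theorem Q8724 : ∀ i, i < 8724 → P i := stepQ 8723 Q8723 (allL N8723 (tt N9686 (iv F84668)) (tt N10474 (iv F90728)) (tt N7192 F71674) (tt N7467 F71675) (tt N10455 (iv F90652)) (tt N10476 (iv F90737)) (tt N10050 (iv F86629)) (tt N7190 (iv D15667)) (tt N7195 F71676) (tt N10044 (iv F86581)))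
theorem Q8725 : ∀ i, i < 8725 → P i := stepQ 8724 Q8724 (allL N8724 (tt N9687 (iv F84674)) (tt N8724 F71677) (tt N10475 (iv F90732)) (tt N10383 (iv F90298)) (tt N7191 (iv D15668)) (tt N10456 (iv F90655)) (tt N8724 F71678) (tt N10477 D20021) (tt N8724 F71679) (tt N10045 (iv F86585)))
theorem Q8726 : ∀ i, i < 8726 → P i := stepQ 8725 Q8725 (allL N8725 (tt N9688 (iv F84679)) (tt N8725 F71680) (tt N10476 (iv F90735)) (tt N7193 F71681) (tt N10477 (iv F90740)) (tt N7192 F71682) (tt N10478 D20022) (tt N7191 (iv D15669)) (tt N8725 F71683) (tt N10046 (iv F86590)))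
theorem Q8727 : ∀ i, i < 8727 → P i := stepQ 8726 Q8726 (allL N8726 (tt N9689 (iv F84685)) (tt N8726 F71684) (tt N7470 F71685) (tt N10478 (iv F90743)) (tt N10385 (iv F90307)) (tt N10054 (iv F86650)) (tt N7193 (iv D15670)) (tt N8726 F71686) (tt N8726 F71687) (tt N10047 (iv F86602)))
theorem Q8728 : ∀ i, i < 8728 → P i := stepQ 8727 Q8727 (allL N8727 (tt N9974 F133278) (tt N7195 F71693) (tt N8727 F71694) (tt N7406 F133279) (tt N10463 (iv F90679)) (tt N8727 F71696) (tt N7404 F133280) (tt N7194 (iv D15672)) (tt N10474 (iv F90731)) (tt N7232 F71697))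
theorem Q8729 : ∀ i, i < 8729 → P i := stepQ 8728 Q8728 (allL N8728 (tt N7203 F71702) (tt N9691 (iv F84711)) (tt N10118 (iv F134192)) (tt N7197 F71703) (tt N7480 F71704) (tt N10479 D20026) (tt N7196 (iv D15674)) (tt N10480 D20027) (tt N10070 (iv F86825)) (tt N10393 (iv F90409)))
theorem Q8730 : ∀ i, i < 8730 → P i := stepQ 8729 Q8729 (allL N8729 (tt N7204 F71705) (tt N9692 (iv F84716)) (tt N8729 F71706) (tt N10479 (iv F90759)) (tt N7200 F71707) (tt N7197 (iv D15675)) (tt N8729 F71708) (tt N10481 D20028) (tt N10482 D20029) (tt N10394 (iv F90414)))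
theorem Q8731 : ∀ i, i < 8731 → P i := stepQ 8730 Q8730 (allL N8730 (tt N7205 F71709) (tt N9693 (iv F84721)) (tt N8730 F71710) (tt N10480 (iv F90762)) (tt N7198 F71711) (tt N10481 (iv F90767)) (tt N10068 (iv F86813)) (tt N7197 (iv D15676)) (tt N10072 (iv F86836)) (tt N10395 (iv F90418)))
theorem Q8732 : ∀ i, i < 8732 → P i := stepQ 8731 Q8731 (allL N8731 (tt N7206 F71723) (tt N9694 (iv F84737)) (tt N7533 (iv F134226)) (tt N7200 F71724) (tt N7531 (iv F134229)) (tt N7199 (iv D15679)) (tt N8731 F71725) (tt N10483 D20034) (tt N10484 D20035) (tt N10396 (iv F90433)))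
theorem Q8733 : ∀ i, i < 8733 → P i := stepQ 8732 Q8732 (allL N8732 (tt N7207 F71726) (tt N9695 (iv F84741)) (tt N7558 (iv F134227)) (tt N7201 F71727) (tt N7482 F71728) (tt N10483 (iv F90792)) (tt N8732 F71729) (tt N7199 (iv D15680)) (tt N8732 F71730) (tt N10397 (iv F90438)))
theorem Q8734 : ∀ i, i < 8734 → P i := stepQ 8733 Q8733 (allL N8733 (tt N7208 F71731) (tt N9696 (iv F84747)) (tt N8733 F71732) (tt N10483 (iv F90791)) (tt N10481 (iv F90766)) (tt N7201 F71733) (tt N10485 D20036) (tt N7200 (iv D15681)) (tt N10486 D20037) (tt N10398 (iv F90442)))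
theorem Q8735 : ∀ i, i < 8735 → P i := stepQ 8734 Q8734 (allL N8734 (tt N7209 F71734) (tt N9697 (iv F84750)) (tt N8734 F71735) (tt N10484 (iv F90794)) (tt N10482 (iv F90770)) (tt N8734 F71736) (tt N8734 F71737) (tt N10486 (iv F90804)) (tt N7200 (iv D15682)) (tt N10487 D20038))
theorem Q8736 : ∀ i, i < 8736 → P i := stepQ 8735 Q8735 (allL N8735 (tt N10299 F133264) (tt N7202 (iv D15683)) (tt N7210 F71738) (tt N8735 F71739) (tt N7494 F71740) (tt N8735 F71741) (tt N10488 D20040) (tt N7629 F133263) (tt N10087 (iv F86960)) (tt N10407 (iv F90473)))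
theorem Q8737 : ∀ i, i < 8737 → P i := stepQ 8736 Q8736 (allL N8736 (tt N10118 (iv F134191)) (tt N10488 (iv F90813)) (tt N7203 F71742) (tt N8736 F71743) (tt N7495 F71744) (tt N10111 (iv F134205)) (tt N7202 (iv D15684)) (tt N10489 D20042) (tt N10088 (iv F86964)) (tt N10408 (iv F90477)))
theorem Q8738 : ∀ i, i < 8738 → P i := stepQ 8737 Q8737 (allL N8737 (tt N10479 (iv F90758)) (tt N7212 F71745) (tt N10111 F134590) (tt N7204 F71746) (tt N10109 F134591) (tt N7203 (iv D15685)) (tt N8737 F71747) (tt N10490 D20044) (tt N10491 D20045) (tt N10409 (iv F90481)))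
theorem Q8739 : ∀ i, i < 8739 → P i := stepQ 8738 Q8738 (allL N8738 (tt N10480 (iv F90761)) (tt N7213 F71748) (tt N10489 (iv F90820)) (tt N7205 F71749) (tt N7497 F71750) (tt N10490 (iv F90829)) (tt N10084 (iv F86944)) (tt N7203 (iv D15686)) (tt N10090 (iv F86972)) (tt N10410 (iv F90485)))
theorem Q8740 : ∀ i, i < 8740 → P i := stepQ 8739 Q8739 (allL N8739 (tt N10481 (iv F90764)) (tt N7214 F71751) (tt N8739 F71752) (tt N10490 (iv F90828)) (tt N7208 F71753) (tt N7205 F71754) (tt N10492 D20046) (tt N7204 (iv D15687)) (tt N10493 D20047) (tt N10411 (iv F90490)))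
theorem Q8741 : ∀ i, i < 8741 → P i := stepQ 8740 Q8740 (allL N8740 (tt N10482 (iv F90768)) (tt N7215 F71755) (tt N8740 F71756) (tt N10491 (iv F90831)) (tt N7209 F71757) (tt N10092 (iv F86980)) (tt N8740 F71758) (tt N10493 (iv F90840)) (tt N7204 (iv D15688)) (tt N10494 D20048))
theorem Q8742 : ∀ i, i < 8742 → P i := stepQ 8741 Q8741 (allL N8741 (tt N10483 (iv F90790)) (tt N7217 F71772) (tt N10146 (iv F134237)) (tt N7208 F71773) (tt N10144 (iv F134246)) (tt N7207 F71774) (tt N10495 D20054) (tt N7206 (iv D15692)) (tt N10496 D20055) (tt N10413 (iv F90513)))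
theorem Q8743 : ∀ i, i < 8743 → P i := stepQ 8742 Q8742 (allL N8742 (tt N10484 (iv F90793)) (tt N7218 F71775) (tt N10147 (iv F134238)) (tt N7209 F71776) (tt N10145 (iv F133668)) (tt N8742 F71777) (tt N8742 F71778) (tt N10496 (iv F90871)) (tt N7206 (iv D15693)) (tt N10497 D20056))
theorem Q8744 : ∀ i, i < 8744 → P i := stepQ 8743 Q8743 (allL N8743 (tt N10485 (iv F90797)) (tt N7219 F71779) (tt N8743 F71780) (tt N10495 (iv F90865)) (tt N10492 (iv F90835)) (tt N8743 F71781) (tt N7208 (iv D15694)) (tt N8743 F71782) (tt N10498 D20057) (tt N10415 (iv F90521)))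
theorem Q8745 : ∀ i, i < 8745 → P i := stepQ 8744 Q8744 (allL N8744 (tt N10486 (iv F90801)) (tt N7220 F71783) (tt N8744 F71784) (tt N10496 (iv F90869)) (tt N10493 (iv F90839)) (tt N8744 F71785) (tt N10498 (iv F90878)) (tt N7209 F71786) (tt N7208 (iv D15695)) (tt N10499 D20058))
theorem Q8746 : ∀ i, i < 8746 → P i := stepQ 8745 Q8745 (allL N8745 (tt N10487 (iv F90805)) (tt N7221 F71787) (tt N8745 F71788) (tt N10497 (iv F90873)) (tt N10494 (iv F90843)) (tt N8745 F71789) (tt N8745 F71790) (tt N10499 (iv F90883)) (tt N10417 (iv F90528)) (tt N7209 (iv D15696)))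
theorem Q8747 : ∀ i, i < 8747 → P i := stepQ 8746 Q8746 (allL N8746 (tt N10099 F133265) (tt N7211 F71794) (tt N10488 (iv F90814)) (tt N7222 F71795) (tt N7512 F71796) (tt N10500 D20060) (tt N7210 (iv D15698)) (tt N10501 D20061) (tt N10075 F133266) (tt N10431 (iv F90570)))
theorem Q8748 : ∀ i, i < 8748 → P i := stepQ 8747 Q8747 (allL N8747 (tt N9711 (iv F84817)) (tt N10500 (iv F90887)) (tt N7212 F71797) (tt N7223 F71798) (tt N10502 D20062) (tt N7211 (iv D15699)) (tt N8747 F71799) (tt N10503 D20063) (tt N10504 D20064) (tt N10432 (iv F90574)))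
theorem Q8749 : ∀ i, i < 8749 → P i := stepQ 8748 Q8748 (allL N8748 (tt N9712 (iv F84821)) (tt N10501 (iv F90890)) (tt N7213 F71800) (tt N7224 F71801) (tt N7514 F71802) (tt N10503 (iv F90899)) (tt N10110 (iv F87105)) (tt N7211 (iv D15700)) (tt N10117 (iv F87152)) (tt N10433 (iv F90578)))
theorem Q8750 : ∀ i, i < 8750 → P i := stepQ 8749 Q8749 (allL N8749 (tt N9713 (iv F84827)) (tt N10109 (iv F134244)) (tt N10502 (iv F90893)) (tt N7216 F71803) (tt N7212 (iv D15701)) (tt N7515 F71804) (tt N8749 F71805) (tt N10505 D20065) (tt N10506 D20066) (tt N10434 (iv F90582)))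
theorem Q8751 : ∀ i, i < 8751 → P i := stepQ 8750 Q8750 (allL N8750 (tt N9714 (iv F84831)) (tt N10490 (iv F90827)) (tt N10503 (iv F90897)) (tt N7214 F71806) (tt N10505 (iv F90904)) (tt N7213 F71807) (tt N10507 D20067) (tt N7212 (iv D15702)) (tt N10508 D20068) (tt N10435 (iv F90585)))
theorem Q8752 : ∀ i, i < 8752 → P i := stepQ 8751 Q8751 (allL N8751 (tt N9715 (iv F84834)) (tt N10491 (iv F90830)) (tt N10504 (iv F90900)) (tt N7215 F71808) (tt N10506 (iv F90907)) (tt N10120 (iv F87162)) (tt N8751 F71809) (tt N10508 (iv F90912)) (tt N7212 (iv D15703)) (tt N10509 D20069))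
theorem Q8753 : ∀ i, i < 8753 → P i := stepQ 8752 Q8752 (allL N8752 (tt N9716 (iv F84838)) (tt N10492 (iv F90833)) (tt N7227 F71810) (tt N10507 (iv F90909)) (tt N7219 F71811) (tt N10114 (iv F87121)) (tt N7214 (iv D15704)) (tt N8752 F71812) (tt N10510 D20070) (tt N10437 (iv F90591)))
theorem Q8754 : ∀ i, i < 8754 → P i := stepQ 8753 Q8753 (allL N8753 (tt N9717 (iv F84843)) (tt N10493 (iv F90837)) (tt N7228 F71813) (tt N10508 (iv F90911)) (tt N7220 F71814) (tt N10122 (iv F87172)) (tt N10510 (iv F90917)) (tt N7215 F71815) (tt N7214 (iv D15705)) (tt N10511 D20071))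
theorem Q8755 : ∀ i, i < 8755 → P i := stepQ 8754 Q8754 (allL N8754 (tt N9718 (iv F84848)) (tt N10494 (iv F90841)) (tt N7229 F71816) (tt N10509 (iv F90913)) (tt N7221 F71817) (tt N10123 (iv F87177)) (tt N8754 F71818) (tt N10511 (iv F90921)) (tt N10439 (iv F90598)) (tt N7215 (iv D15706)))
theorem Q8756 : ∀ i, i < 8756 → P i := stepQ 8755 Q8755 (allL N8755 (tt N9719 (iv F84853)) (tt N10144 (iv F134245)) (tt N8755 F71819) (tt N10505 (iv F90903)) (tt N7217 F71820) (tt N7521 F71821) (tt N10512 D20072) (tt N7216 (iv D15707)) (tt N10513 D20073) (tt N10440 (iv F90602)))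
theorem Q8757 : ∀ i, i < 8757 → P i := stepQ 8756 Q8756 (allL N8756 (tt N9720 (iv F84857)) (tt N10145 (iv F133667)) (tt N8756 F71822) (tt N10506 (iv F90906)) (tt N7218 F71823) (tt N10156 (iv F133666)) (tt N8756 F71824) (tt N10513 (iv F90927)) (tt N7216 (iv D15708)) (tt N10514 D20075))
theorem Q8758 : ∀ i, i < 8758 → P i := stepQ 8757 Q8757 (allL N8757 (tt N9721 (iv F84861)) (tt N10495 (iv F90864)) (tt N8757 F71825) (tt N7219 F71826) (tt N10512 (iv F90923)) (tt N8757 F71827) (tt N7217 (iv D15709)) (tt N8757 F71828) (tt N10515 D20076) (tt N10442 (iv F90610)))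
theorem Q8759 : ∀ i, i < 8759 → P i := stepQ 8758 Q8758 (allL N8758 (tt N9722 (iv F84866)) (tt N10496 (iv F90868)) (tt N8758 F71829) (tt N7220 F71830) (tt N10513 (iv F90926)) (tt N8758 F71831) (tt N10515 (iv F90936)) (tt N7218 F71832) (tt N7217 (iv D15710)) (tt N10516 D20077))
theorem Q8760 : ∀ i, i < 8760 → P i := stepQ 8759 Q8759 (allL N8759 (tt N9723 (iv F84871)) (tt N10497 (iv F90872)) (tt N8759 F71833) (tt N7221 F71834) (tt N10514 (iv F90932)) (tt N8759 F71835) (tt N8759 F71836) (tt N10516 (iv F90941)) (tt N10444 (iv F90617)) (tt N7218 (iv D15711)))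
theorem Q8761 : ∀ i, i < 8761 → P i := stepQ 8760 Q8760 (allL N8760 (tt N9724 (iv F84876)) (tt N10498 (iv F90876)) (tt N7230 F71837) (tt N10515 (iv F90935)) (tt N10510 (iv F90916)) (tt N10517 D20078) (tt N7220 F71838) (tt N8760 F71839) (tt N7219 (iv D15712)) (tt N10518 D20079))
theorem Q8762 : ∀ i, i < 8762 → P i := stepQ 8761 Q8761 (allL N8761 (tt N9725 (iv F84880)) (tt N10499 (iv F90880)) (tt N7231 F71840) (tt N10516 (iv F90939)) (tt N10511 (iv F90920)) (tt N8761 F71841) (tt N10518 (iv F90947)) (tt N7221 F71842) (tt N10446 (iv F90623)) (tt N7220 (iv D15713)))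
theorem Q8763 : ∀ i, i < 8763 → P i := stepQ 8762 Q8762 (allL N8762 (tt N10086 F133269) (tt N7223 F71846) (tt N8762 F71847) (tt N10500 (iv F90888)) (tt N8762 F71848) (tt N7222 (iv D15715)) (tt N8762 F71849) (tt N10519 D20082) (tt N10067 (iv F134065)) (tt N10462 (iv F90676)))
theorem Q8764 : ∀ i, i < 8764 → P i := stepQ 8763 Q8763 (allL N8763 (tt N10101 F133270) (tt N7224 F71850) (tt N8763 F71851) (tt N10501 (iv F90891)) (tt N7232 F71852) (tt N10519 (iv F90959)) (tt N7521 F133274) (tt N7222 (iv D15716)) (tt N10077 F133271) (tt N10463 (iv F90680)))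
theorem Q8765 : ∀ i, i < 8765 → P i := stepQ 8764 Q8764 (allL N8764 (tt N9726 (iv F84898)) (tt N10519 (iv F90956)) (tt N7225 F71853) (tt N10503 (iv F90898)) (tt N8764 F71854) (tt N7224 F71855) (tt N10520 D20084) (tt N7223 (iv D15717)) (tt N10521 D20085) (tt N10464 (iv F90684)))
theorem Q8766 : ∀ i, i < 8766 → P i := stepQ 8765 Q8765 (allL N8765 (tt N7488 (iv F133962)) (tt N10067 (iv F134064)) (tt N7226 F71856) (tt N10504 (iv F90901)) (tt N8765 F71857) (tt N7475 F133378) (tt N8765 F71858) (tt N10521 (iv F90969)) (tt N7223 (iv D15718)) (tt N10522 D20086))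
theorem Q8767 : ∀ i, i < 8767 → P i := stepQ 8766 Q8766 (allL N8766 (tt N9727 (iv F84907)) (tt N8766 F71859) (tt N10520 (iv F90964)) (tt N7227 F71860) (tt N8766 F71861) (tt N10148 (iv F87347)) (tt N7225 (iv D15719)) (tt N8766 F71862) (tt N10523 D20087) (tt N10466 (iv F90692)))
theorem Q8768 : ∀ i, i < 8768 → P i := stepQ 8767 Q8767 (allL N8767 (tt N7886 F134569) (tt N8767 F71863) (tt N10521 (iv F90967)) (tt N7228 F71864) (tt N8767 F71865) (tt N7878 F134570) (tt N10523 (iv F90976)) (tt N7226 F71866) (tt N7225 (iv D15720)) (tt N10524 D20088))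
theorem Q8769 : ∀ i, i < 8769 → P i := stepQ 8768 Q8768 (allL N8768 (tt N7884 F134571) (tt N8768 F71867) (tt N10522 (iv F90970)) (tt N7229 F71868) (tt N8768 F71869) (tt N7876 F134572) (tt N8768 F71870) (tt N10524 (iv F90981)) (tt N10468 (iv F90701)) (tt N7226 (iv D15721)))
theorem Q8770 : ∀ i, i < 8770 → P i := stepQ 8769 Q8769 (allL N8769 (tt N9728 (iv F84925)) (tt N8769 F71871) (tt N10510 (iv F90915)) (tt N10523 (iv F90974)) (tt N7230 F71872) (tt N10525 D20089) (tt N7228 F71873) (tt N8769 F71874) (tt N7227 (iv D15722)) (tt N10526 D20090))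
theorem Q8771 : ∀ i, i < 8771 → P i := stepQ 8770 Q8770 (allL N8770 (tt N9729 (iv F84930)) (tt N8770 F71875) (tt N10511 (iv F90919)) (tt N10524 (iv F90979)) (tt N7231 F71876) (tt N10154 (iv F87427)) (tt N10526 (iv F90986)) (tt N7229 F71877) (tt N10470 (iv F90709)) (tt N7228 (iv D15723)))
theorem Q8772 : ∀ i, i < 8772 → P i := stepQ 8771 Q8771 (allL N8771 (tt N9730 (iv F84935)) (tt N8771 F71878) (tt N10517 (iv F90942)) (tt N8771 F71879) (tt N10527 D20091) (tt N7230 (iv D15724)) (tt N8771 F71880) (tt N8771 F71881) (tt N8771 F71882) (tt N10528 D20092))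
theorem Q8773 : ∀ i, i < 8773 → P i := stepQ 8772 Q8772 (allL N8772 (tt N9731 (iv F84940)) (tt N8772 F71883) (tt N10518 (iv F90946)) (tt N8772 F71884) (tt N10526 (iv F90985)) (tt N10528 (iv F90994)) (tt N7231 F71885) (tt N8772 F71886) (tt N10472 (iv F90718)) (tt N7230 (iv D15725)))
theorem Q8774 : ∀ i, i < 8774 → P i := stepQ 8773 Q8773 (allL N8773 (tt N7242 F71891) (tt N9732 (iv F84952)) (tt N7641 F71892) (tt N10529 D20093) (tt N7233 (iv D15727)) (tt N9765 (iv F85145)) (tt N10530 D20094) (tt N9758 (iv F85107)) (tt N7234 F71893) (tt N9756 (iv F85095)))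
theorem Q8775 : ∀ i, i < 8775 → P i := stepQ 8774 Q8774 (allL N8774 (tt N7243 F71894) (tt N9733 (iv F84959)) (tt N7642 F71895) (tt N9893 (iv F85848)) (tt N10530 (iv F91001)) (tt N7344 F71896) (tt N7233 (iv D15728)) (tt N10531 D20095) (tt N7235 F71897) (tt N9757 (iv F85102)))
theorem Q8776 : ∀ i, i < 8776 → P i := stepQ 8775 Q8775 (allL N8775 (tt N7246 F71898) (tt N9734 (iv F84966)) (tt N10532 D20096) (tt N7234 (iv D15729)) (tt N10183 (iv F87832)) (tt N8775 F71899) (tt N10533 D20097) (tt N10180 (iv F87816)) (tt N10529 (iv F90998)) (tt N8775 F71900))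
theorem Q8777 : ∀ i, i < 8777 → P i := stepQ 8776 Q8776 (allL N8776 (tt N7247 F71901) (tt N9735 (iv F84972)) (tt N7646 F71902) (tt N10533 (iv F91012)) (tt N7235 F71903) (tt N10534 D20098) (tt N7234 (iv D15730)) (tt N10535 D20099) (tt N10530 (iv F91002)) (tt N8776 F71904))
theorem Q8778 : ∀ i, i < 8778 → P i := stepQ 8777 Q8777 (allL N8777 (tt N7248 F71905) (tt N9736 (iv F84977)) (tt N7647 F71906) (tt N10185 (iv F87844)) (tt N10535 (iv F91021)) (tt N7238 F71907) (tt N10182 (iv F87828)) (tt N7235 (iv D15731)) (tt N10531 (iv F91006)) (tt N8777 F71908))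
theorem Q8779 : ∀ i, i < 8779 → P i := stepQ 8778 Q8778 (allL N8778 (tt N7249 F71915) (tt N9737 (iv F84990)) (tt N7556 (iv F134235)) (tt N7237 F71916) (tt N10319 (iv F89982)) (tt N10536 D20102) (tt N7236 (iv D15733)) (tt N10537 D20103) (tt N7350 F71917) (tt N8778 F71918))
theorem Q8780 : ∀ i, i < 8780 → P i := stepQ 8779 Q8779 (allL N8779 (tt N7250 F71919) (tt N9738 (iv F84995)) (tt N7648 F71920) (tt N10536 (iv F91035)) (tt N10534 (iv F91016)) (tt N7237 (iv D15734)) (tt N8779 F71921) (tt N10538 D20104) (tt N10043 (iv F134150)) (tt N8779 F71922))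
theorem Q8781 : ∀ i, i < 8781 → P i := stepQ 8780 Q8780 (allL N8780 (tt N7251 F71923) (tt N9739 (iv F85000)) (tt N7649 F71924) (tt N10537 (iv F91039)) (tt N7238 F71925) (tt N10538 (iv F91045)) (tt N8780 F71926) (tt N7237 (iv D15735)) (tt N7351 F71927) (tt N8780 F71928))
theorem Q8782 : ∀ i, i < 8782 → P i := stepQ 8781 Q8781 (allL N8781 (tt N9765 (iv F85142)) (tt N7253 F71929) (tt N7283 F71930) (tt N10539 D20106) (tt N7239 (iv D15736)) (tt N7242 F71931) (tt N10540 D20107) (tt N7258 F71932) (tt N8781 F71933) (tt N7256 F71934))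
theorem Q8783 : ∀ i, i < 8783 → P i := stepQ 8782 Q8782 (allL N8782 (tt N9766 (iv F85149)) (tt N7254 F71935) (tt N7284 F71936) (tt N9764 (iv F85138)) (tt N10540 (iv F91058)) (tt N7353 F71937) (tt N7239 (iv D15737)) (tt N10541 D20108) (tt N8782 F71938) (tt N7257 F71939))
theorem Q8784 : ∀ i, i < 8784 → P i := stepQ 8783 Q8783 (allL N8783 (tt N9758 (iv F85103)) (tt N7256 F71940) (tt N7276 F71941) (tt N10542 D20109) (tt N7240 (iv D15738)) (tt N7258 F71942) (tt N10543 D20110) (tt N7242 F71943) (tt N7244 F71944) (tt N7253 F71945))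
theorem Q8785 : ∀ i, i < 8785 → P i := stepQ 8784 Q8784 (allL N8784 (tt N9759 (iv F85110)) (tt N7257 F71946) (tt N7277 F71947) (tt N9874 (iv F85728)) (tt N10543 (iv F91074)) (tt N7377 F71948) (tt N7240 (iv D15739)) (tt N10544 D20111) (tt N7245 F71949) (tt N7254 F71950))
theorem Q8786 : ∀ i, i < 8786 → P i := stepQ 8785 Q8785 (allL N8785 (tt N9756 (iv F85089)) (tt N7258 F71951) (tt N7274 F71952) (tt N10545 D20112) (tt N7241 (iv D15740)) (tt N7256 F71953) (tt N10546 D20113) (tt N7253 F71954) (tt N8785 F71955) (tt N7242 F71956))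
theorem Q8787 : ∀ i, i < 8787 → P i := stepQ 8786 Q8786 (allL N8786 (tt N9757 (iv F85096)) (tt N7259 F71957) (tt N7275 F71958) (tt N9898 (iv F85872)) (tt N10546 (iv F91090)) (tt N7357 F71959) (tt N7241 (iv D15741)) (tt N10547 D20114) (tt N8786 F71960) (tt N7243 F71961))
theorem Q8788 : ∀ i, i < 8788 → P i := stepQ 8787 Q8787 (allL N8787 (tt N10529 (iv F90997)) (tt N7260 F71962) (tt N10548 D20115) (tt N7242 (iv D15742)) (tt N10322 (iv F89995)) (tt N10539 (iv F91052)) (tt N10549 D20116) (tt N10542 (iv F91069)) (tt N7246 F71963) (tt N10545 (iv F91087)))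
theorem Q8789 : ∀ i, i < 8789 → P i := stepQ 8788 Q8788 (allL N8788 (tt N10530 (iv F90999)) (tt N7261 F71964) (tt N7651 F71965) (tt N10549 (iv F91102)) (tt N7243 F71966) (tt N10550 D20117) (tt N7242 (iv D15743)) (tt N10551 D20118) (tt N7247 F71967) (tt N10546 (iv F91092)))
theorem Q8790 : ∀ i, i < 8790 → P i := stepQ 8789 Q8789 (allL N8789 (tt N10531 (iv F91003)) (tt N7262 F71968) (tt N7652 F71969) (tt N10324 (iv F90003)) (tt N10551 (iv F91109)) (tt N7360 F71970) (tt N10544 (iv F91080)) (tt N7243 (iv D15744)) (tt N7248 F71971) (tt N10547 (iv F91098)))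
theorem Q8791 : ∀ i, i < 8791 → P i := stepQ 8790 Q8790 (allL N8790 (tt N10180 (iv F87812)) (tt N7263 F71972) (tt N10552 D20119) (tt N7244 (iv D15745)) (tt N10167 (iv F87654)) (tt N8790 F71973) (tt N10553 D20120) (tt N7246 F71974) (tt N10542 (iv F91070)) (tt N8790 F71975))
theorem Q8792 : ∀ i, i < 8792 → P i := stepQ 8791 Q8791 (allL N8791 (tt N10181 (iv F87818)) (tt N7264 F71976) (tt N7654 F71977) (tt N10553 (iv F91116)) (tt N7245 F71978) (tt N10554 D20121) (tt N7244 (iv D15746)) (tt N10555 D20122) (tt N10543 (iv F91075)) (tt N8791 F71979))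
theorem Q8793 : ∀ i, i < 8793 → P i := stepQ 8792 Q8792 (allL N8792 (tt N10182 (iv F87823)) (tt N7265 F71980) (tt N7655 F71981) (tt N10169 (iv F87666)) (tt N10555 (iv F91125)) (tt N8792 F71982) (tt N7248 F71983) (tt N7245 (iv D15747)) (tt N10544 (iv F91081)) (tt N8792 F71984))
theorem Q8794 : ∀ i, i < 8794 → P i := stepQ 8793 Q8793 (allL N8793 (tt N10532 (iv F91007)) (tt N10556 D20123) (tt N7246 (iv D15748)) (tt N7656 F71985) (tt N10325 (iv F90007)) (tt N8793 F71986) (tt N10557 D20124) (tt N10552 (iv F91113)) (tt N10548 (iv F91100)) (tt N8793 F71987))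
theorem Q8795 : ∀ i, i < 8795 → P i := stepQ 8794 Q8794 (allL N8794 (tt N10533 (iv F91011)) (tt N7267 F71988) (tt N10557 (iv F91132)) (tt N7247 F71989) (tt N10326 (iv F90011)) (tt N10558 D20125) (tt N7246 (iv D15749)) (tt N10559 D20126) (tt N10549 (iv F91103)) (tt N8794 F71990))
theorem Q8796 : ∀ i, i < 8796 → P i := stepQ 8795 Q8795 (allL N8795 (tt N10534 (iv F91014)) (tt N7268 F71991) (tt N7658 F71992) (tt N10558 (iv F91136)) (tt N7250 F71993) (tt N7247 (iv D15750)) (tt N8795 F71994) (tt N10560 D20127) (tt N10561 D20128) (tt N8795 F71995))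
theorem Q8797 : ∀ i, i < 8797 → P i := stepQ 8796 Q8796 (allL N8796 (tt N10535 (iv F91019)) (tt N7269 F71996) (tt N7659 F71997) (tt N10559 (iv F91140)) (tt N7248 F71998) (tt N10560 (iv F91145)) (tt N10555 (iv F91126)) (tt N7247 (iv D15751)) (tt N10551 (iv F91110)) (tt N8796 F71999))
theorem Q8798 : ∀ i, i < 8798 → P i := stepQ 8797 Q8797 (allL N8797 (tt N10536 (iv F91034)) (tt N7270 F72005) (tt N10053 (iv F134243)) (tt N7250 F72006) (tt N10562 D20131) (tt N7249 (iv D15753)) (tt N8797 F72007) (tt N10563 D20132) (tt N10049 (iv F134154)) (tt N8797 F72008))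
theorem Q8799 : ∀ i, i < 8799 → P i := stepQ 8798 Q8798 (allL N8798 (tt N10537 (iv F91038)) (tt N7271 F72009) (tt N10166 (iv F134242)) (tt N7251 F72010) (tt N10330 (iv F90032)) (tt N10563 (iv F91167)) (tt N8798 F72011) (tt N7249 (iv D15754)) (tt N7368 F72012) (tt N8798 F72013))
theorem Q8800 : ∀ i, i < 8800 → P i := stepQ 8799 Q8799 (allL N8799 (tt N10538 (iv F91043)) (tt N7272 F72014) (tt N7660 F72015) (tt N10563 (iv F91166)) (tt N10560 (iv F91144)) (tt N7251 F72016) (tt N10564 D20134) (tt N7250 (iv D15755)) (tt N10565 D20135) (tt N8799 F72017))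
theorem Q8801 : ∀ i, i < 8801 → P i := stepQ 8800 Q8800 (allL N8800 (tt N10043 (iv F134148)) (tt N7273 F72018) (tt N7455 (iv F133948)) (tt N10049 (iv F134153)) (tt N10561 (iv F91149)) (tt N7370 F72020) (tt N8800 F72021) (tt N10565 (iv F91181)) (tt N7250 (iv D15756)) (tt N9685 (iv F134156)))
theorem Q8802 : ∀ i, i < 8802 → P i := stepQ 8801 Q8801 (allL N8801 (tt N9754 (iv F85075)) (tt N9763 (iv F85129)) (tt N8801 F72022) (tt N10566 D20137) (tt N7252 (iv D15757)) (tt N9877 (iv F85749)) (tt N10567 D20138) (tt N9897 (iv F85866)) (tt N8801 F72023) (tt N9873 (iv F85724)))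
theorem Q8803 : ∀ i, i < 8803 → P i := stepQ 8802 Q8802 (allL N8802 (tt N9755 (iv F85082)) (tt N9764 (iv F85136)) (tt N8802 F72024) (tt N7254 F72025) (tt N10567 (iv F91190)) (tt N7373 F72026) (tt N7252 (iv D15758)) (tt N10568 D20139) (tt N8802 F72027) (tt N9874 (iv F85731)))
theorem Q8804 : ∀ i, i < 8804 → P i := stepQ 8803 Q8803 (allL N8803 (tt N9760 (iv F85117)) (tt N10539 (iv F91051)) (tt N10569 D20140) (tt N7253 (iv D15759)) (tt N10566 (iv F91187)) (tt N7260 F72028) (tt N10570 D20141) (tt N10545 (iv F91085)) (tt N8803 F72029) (tt N10542 (iv F91071)))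
theorem Q8805 : ∀ i, i < 8805 → P i := stepQ 8804 Q8804 (allL N8804 (tt N9761 (iv F85120)) (tt N10540 (iv F91056)) (tt N7279 F72030) (tt N10570 (iv F91199)) (tt N7254 F72031) (tt N10571 D20142) (tt N7253 (iv D15760)) (tt N10572 D20143) (tt N8804 F72032) (tt N10543 (iv F91076)))
theorem Q8806 : ∀ i, i < 8806 → P i := stepQ 8805 Q8805 (allL N8805 (tt N9762 (iv F85124)) (tt N10541 (iv F91061)) (tt N7280 F72033) (tt N10568 (iv F91193)) (tt N10572 (iv F91205)) (tt N7380 F72034) (tt N10547 (iv F91096)) (tt N7254 (iv D15761)) (tt N8805 F72035) (tt N10544 (iv F91082)))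
theorem Q8807 : ∀ i, i < 8807 → P i := stepQ 8806 Q8806 (allL N8806 (tt N9763 (iv F85128)) (tt N7376 F72036) (tt N7281 F72037) (tt N10573 D20144) (tt N7255 (iv D15762)) (tt N7356 F72038) (tt N10574 D20145) (tt N7381 F72039) (tt N8806 F72040) (tt N7352 F72041))
theorem Q8808 : ∀ i, i < 8808 → P i := stepQ 8807 Q8807 (allL N8807 (tt N9764 (iv F85135)) (tt N7377 F72042) (tt N7282 F72043) (tt N9766 (iv F85152)) (tt N10574 (iv F91214)) (tt N7257 F72044) (tt N7255 (iv D15763)) (tt N10575 D20146) (tt N8807 F72045) (tt N7353 F72046))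
theorem Q8809 : ∀ i, i < 8809 → P i := stepQ 8808 Q8808 (allL N8808 (tt N9767 (iv F85156)) (tt N10542 (iv F91067)) (tt N10576 D20147) (tt N7256 (iv D15764)) (tt N10336 (iv F90057)) (tt N10545 (iv F91084)) (tt N10577 D20148) (tt N7260 F72047) (tt N7263 F72048) (tt N10539 (iv F91055)))
theorem Q8810 : ∀ i, i < 8810 → P i := stepQ 8809 Q8809 (allL N8809 (tt N9768 (iv F85161)) (tt N10543 (iv F91072)) (tt N7286 F72049) (tt N10577 (iv F91226)) (tt N7257 F72050) (tt N10578 D20149) (tt N7256 (iv D15765)) (tt N10579 D20150) (tt N7264 F72051) (tt N10540 (iv F91060)))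
theorem Q8811 : ∀ i, i < 8811 → P i := stepQ 8810 Q8810 (allL N8810 (tt N9769 (iv F85166)) (tt N10544 (iv F91077)) (tt N7287 F72052) (tt N10338 (iv F90067)) (tt N10579 (iv F91230)) (tt N10575 (iv F91219)) (tt N7262 F72053) (tt N7257 (iv D15766)) (tt N7265 F72054) (tt N10541 (iv F91066)))
theorem Q8812 : ∀ i, i < 8812 → P i := stepQ 8811 Q8811 (allL N8811 (tt N9770 (iv F85172)) (tt N10545 (iv F91083)) (tt N10580 D20151) (tt N7258 (iv D15767)) (tt N9939 (iv F86049)) (tt N10542 (iv F91068)) (tt N10581 D20152) (tt N10539 (iv F91053)) (tt N8811 F72055) (tt N7260 F72056))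
theorem Q8813 : ∀ i, i < 8813 → P i := stepQ 8812 Q8812 (allL N8812 (tt N9771 (iv F85176)) (tt N10546 (iv F91088)) (tt N7289 F72057) (tt N10581 (iv F91236)) (tt N7259 F72058) (tt N10582 D20153) (tt N7258 (iv D15768)) (tt N10583 D20154) (tt N8812 F72059) (tt N7261 F72060))
theorem Q8814 : ∀ i, i < 8814 → P i := stepQ 8813 Q8813 (allL N8813 (tt N9772 (iv F85181)) (tt N10547 (iv F91093)) (tt N7290 F72061) (tt N9941 (iv F86059)) (tt N10583 (iv F91243)) (tt N7388 F72062) (tt N10541 (iv F91064)) (tt N7259 (iv D15769)) (tt N8813 F72063) (tt N7262 F72064))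
theorem Q8815 : ∀ i, i < 8815 → P i := stepQ 8814 Q8814 (allL N8814 (tt N9773 (iv F85187)) (tt N10584 D20155) (tt N7260 (iv D15770)) (tt N7291 F72065) (tt N10339 (iv F90071)) (tt N10569 (iv F91197)) (tt N10585 D20156) (tt N10576 (iv F91224)) (tt N7266 F72066) (tt N10580 (iv F91235)))
theorem Q8816 : ∀ i, i < 8816 → P i := stepQ 8815 Q8815 (allL N8815 (tt N9774 (iv F85190)) (tt N10549 (iv F91101)) (tt N10585 (iv F91248)) (tt N7261 F72067) (tt N10340 (iv F90074)) (tt N10586 D20157) (tt N7260 (iv D15771)) (tt N10587 D20158) (tt N7267 F72068) (tt N10581 (iv F91238)))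
theorem Q8817 : ∀ i, i < 8817 → P i := stepQ 8816 Q8816 (allL N8816 (tt N9775 (iv F85193)) (tt N10550 (iv F91104)) (tt N7293 F72069) (tt N10586 (iv F91251)) (tt N7391 F72070) (tt N7261 (iv D15772)) (tt N10571 (iv F91203)) (tt N10588 D20159) (tt N10589 D20160) (tt N10582 (iv F91241)))
theorem Q8818 : ∀ i, i < 8818 → P i := stepQ 8817 Q8817 (allL N8817 (tt N9776 (iv F85196)) (tt N10551 (iv F91107)) (tt N7294 F72071) (tt N10587 (iv F91252)) (tt N7262 F72072) (tt N10588 (iv F91256)) (tt N10579 (iv F91231)) (tt N7261 (iv D15773)) (tt N7269 F72073) (tt N10583 (iv F91245)))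
theorem Q8819 : ∀ i, i < 8819 → P i := stepQ 8818 Q8818 (allL N8818 (tt N9777 (iv F85200)) (tt N10590 D20161) (tt N7263 (iv D15774)) (tt N7295 F72074) (tt N10225 F134984) (tt N8818 F72075) (tt N10591 D20162) (tt N7266 F72076) (tt N10576 (iv F91225)) (tt N8818 F72077))
theorem Q8820 : ∀ i, i < 8820 → P i := stepQ 8819 Q8819 (allL N8819 (tt N9778 (iv F85206)) (tt N10553 (iv F91115)) (tt N10591 (iv F91264)) (tt N7264 F72078) (tt N10343 (iv F90089)) (tt N10592 D20163) (tt N7263 (iv D15775)) (tt N10593 D20164) (tt N10577 (iv F91227)) (tt N8819 F72079))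
theorem Q8821 : ∀ i, i < 8821 → P i := stepQ 8820 Q8820 (allL N8820 (tt N9779 (iv F85211)) (tt N10554 (iv F91118)) (tt N7297 F72080) (tt N10592 (iv F91267)) (tt N8820 F72081) (tt N7264 (iv D15776)) (tt N8820 F72082) (tt N10594 D20165) (tt N10595 D20166) (tt N8820 F72083))
theorem Q8822 : ∀ i, i < 8822 → P i := stepQ 8821 Q8821 (allL N8821 (tt N9780 (iv F85217)) (tt N10555 (iv F91123)) (tt N7298 F72084) (tt N10593 (iv F91270)) (tt N7265 F72085) (tt N10594 (iv F91275)) (tt N7269 F72086) (tt N7264 (iv D15777)) (tt N10579 (iv F91232)) (tt N8821 F72087))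
theorem Q8823 : ∀ i, i < 8823 → P i := stepQ 8822 Q8822 (allL N8822 (tt N10596 D20167) (tt N7266 (iv D15778)) (tt N10556 (iv F91128)) (tt N7299 F72088) (tt N10345 (iv F90102)) (tt N8822 F72089) (tt N10597 D20168) (tt N10590 (iv F91262)) (tt N10584 (iv F91247)) (tt N8822 F72090))
theorem Q8824 : ∀ i, i < 8824 → P i := stepQ 8823 Q8823 (allL N8823 (tt N9782 (iv F85226)) (tt N10597 (iv F91283)) (tt N7267 F72091) (tt N7300 F72092) (tt N10346 (iv F90106)) (tt N10598 D20169) (tt N7266 (iv D15779)) (tt N10599 D20170) (tt N10585 (iv F91250)) (tt N8823 F72093))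
theorem Q8825 : ∀ i, i < 8825 → P i := stepQ 8824 Q8824 (allL N8824 (tt N9783 (iv F85230)) (tt N10558 (iv F91135)) (tt N10598 (iv F91286)) (tt N7268 F72094) (tt N10600 D20171) (tt N7267 (iv D15780)) (tt N8824 F72095) (tt N10601 D20172) (tt N10602 D20173) (tt N8824 F72096))
theorem Q8826 : ∀ i, i < 8826 → P i := stepQ 8825 Q8825 (allL N8825 (tt N9784 (iv F85234)) (tt N10559 (iv F91139)) (tt N10599 (iv F91290)) (tt N7269 F72097) (tt N10348 (iv F90111)) (tt N10601 (iv F91297)) (tt N10593 (iv F91271)) (tt N7267 (iv D15781)) (tt N10587 (iv F91253)) (tt N8825 F72098))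
theorem Q8827 : ∀ i, i < 8827 → P i := stepQ 8826 Q8826 (allL N8826 (tt N9785 (iv F85237)) (tt N10560 (iv F91142)) (tt N7303 F72099) (tt N10601 (iv F91296)) (tt N7272 F72100) (tt N7269 F72101) (tt N10603 D20174) (tt N7268 (iv D15782)) (tt N10604 D20175) (tt N8826 F72102))
theorem Q8828 : ∀ i, i < 8828 → P i := stepQ 8827 Q8827 (allL N8827 (tt N9786 (iv F85242)) (tt N10561 (iv F91147)) (tt N7304 F72103) (tt N10602 (iv F91299)) (tt N7273 F72104) (tt N10589 (iv F91259)) (tt N8827 F72105) (tt N10604 (iv F91307)) (tt N7268 (iv D15783)) (tt N10605 D20176))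
theorem Q8829 : ∀ i, i < 8829 → P i := stepQ 8828 Q8828 (allL N8828 (tt N9787 (iv F85246)) (tt N10562 (iv F91162)) (tt N8828 F72106) (tt N10600 (iv F91293)) (tt N7270 (iv D15784)) (tt N10351 (iv F90120)) (tt N8828 F72107) (tt N10606 D20177) (tt N10607 D20178) (tt N8828 F72108))
theorem Q8830 : ∀ i, i < 8830 → P i := stepQ 8829 Q8829 (allL N8829 (tt N9788 (iv F85250)) (tt N10563 (iv F91165)) (tt N8829 F72109) (tt N7272 F72110) (tt N10606 (iv F91313)) (tt N7271 F72111) (tt N10608 D20179) (tt N7270 (iv D15785)) (tt N10609 D20180) (tt N8829 F72112))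
theorem Q8831 : ∀ i, i < 8831 → P i := stepQ 8830 Q8830 (allL N8830 (tt N9789 (iv F85255)) (tt N10049 (iv F134152)) (tt N8830 F72113) (tt N7273 F72114) (tt N10607 (iv F91316)) (tt N7405 F72115) (tt N8830 F72116) (tt N10609 (iv F91326)) (tt N7270 (iv D15786)) (tt N10056 (iv F134336)))
theorem Q8832 : ∀ i, i < 8832 → P i := stepQ 8831 Q8831 (allL N8831 (tt N9790 (iv F85260)) (tt N10564 (iv F91173)) (tt N7305 F72117) (tt N10608 (iv F91319)) (tt N10603 (iv F91302)) (tt N8831 F72118) (tt N7272 (iv D15787)) (tt N8831 F72119) (tt N10610 D20182) (tt N8831 F72120))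
theorem Q8833 : ∀ i, i < 8833 → P i := stepQ 8832 Q8832 (allL N8832 (tt N9791 (iv F85265)) (tt N10565 (iv F91178)) (tt N7306 F72121) (tt N10609 (iv F91324)) (tt N10604 (iv F91306)) (tt N7407 F72122) (tt N10610 (iv F91333)) (tt N7273 F72123) (tt N7272 (iv D15788)) (tt N10611 D20183))
theorem Q8834 : ∀ i, i < 8834 → P i := stepQ 8833 Q8833 (allL N8833 (tt N9792 (iv F85269)) (tt N9685 (iv F134155)) (tt N7307 F72124) (tt N10056 (iv F134335)) (tt N10605 (iv F91309)) (tt N7408 F72125) (tt N8833 F72126) (tt N10611 (iv F91337)) (tt N8833 F72127) (tt N7273 (iv D15789)))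
theorem Q8835 : ∀ i, i < 8835 → P i := stepQ 8834 Q8834 (allL N8834 (tt N9793 (iv F85274)) (tt N7667 F72128) (tt N10612 D20184) (tt N7274 (iv D15790)) (tt N8834 F72129) (tt N7285 F72130) (tt N10613 D20185) (tt N7278 F72131) (tt N8834 F72132) (tt N7650 F72133))
theorem Q8836 : ∀ i, i < 8836 → P i := stepQ 8835 Q8835 (allL N8835 (tt N9794 (iv F85281)) (tt N7668 F72134) (tt N10546 (iv F91089)) (tt N10613 (iv F91345)) (tt N7275 F72135) (tt N10614 D20186) (tt N7274 (iv D15791)) (tt N10615 D20187) (tt N8835 F72136) (tt N7651 F72137))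
theorem Q8837 : ∀ i, i < 8837 → P i := stepQ 8836 Q8836 (allL N8836 (tt N9795 (iv F85286)) (tt N7669 F72138) (tt N10547 (iv F91094)) (tt N8836 F72139) (tt N10615 (iv F91354)) (tt N7781 F72140) (tt N7280 F72141) (tt N7275 (iv D15792)) (tt N8836 F72142) (tt N7652 F72143))
theorem Q8838 : ∀ i, i < 8838 → P i := stepQ 8837 Q8837 (allL N8837 (tt N9796 (iv F85293)) (tt N7664 F72144) (tt N10616 D20188) (tt N7276 (iv D15793)) (tt N8837 F72145) (tt N7288 F72146) (tt N10617 D20189) (tt N7650 F72147) (tt N7653 F72148) (tt N7278 F72149))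
theorem Q8839 : ∀ i, i < 8839 → P i := stepQ 8838 Q8838 (allL N8838 (tt N9797 (iv F85300)) (tt N7665 F72150) (tt N10543 (iv F91073)) (tt N10617 (iv F91364)) (tt N7277 F72151) (tt N10618 D20190) (tt N7276 (iv D15794)) (tt N10619 D20191) (tt N7654 F72152) (tt N7279 F72153))
theorem Q8840 : ∀ i, i < 8840 → P i := stepQ 8839 Q8839 (allL N8839 (tt N9798 (iv F85305)) (tt N7666 F72154) (tt N10544 (iv F91078)) (tt N8839 F72155) (tt N10619 (iv F91373)) (tt N7416 F72156) (tt N7652 F72157) (tt N7277 (iv D15795)) (tt N7655 F72158) (tt N7280 F72159))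
theorem Q8841 : ∀ i, i < 8841 → P i := stepQ 8840 Q8840 (allL N8840 (tt N9799 (iv F85312)) (tt N10620 D20192) (tt N7278 (iv D15796)) (tt N10569 (iv F91196)) (tt N8840 F72160) (tt N7291 F72161) (tt N10621 D20193) (tt N10612 (iv F91341)) (tt N8840 F72162) (tt N10616 (iv F91362)))
theorem Q8842 : ∀ i, i < 8842 → P i := stepQ 8841 Q8841 (allL N8841 (tt N9800 (iv F85316)) (tt N7690 F72163) (tt N10621 (iv F91381)) (tt N7279 F72164) (tt N8841 F72165) (tt N10622 D20194) (tt N7278 (iv D15797)) (tt N10623 D20195) (tt N8841 F72166) (tt N10617 (iv F91367)))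
theorem Q8843 : ∀ i, i < 8843 → P i := stepQ 8842 Q8842 (allL N8842 (tt N9801 (iv F85321)) (tt N7691 F72167) (tt N10571 (iv F91201)) (tt N10622 (iv F91385)) (tt N7419 F72168) (tt N7279 (iv D15798)) (tt N7293 F72169) (tt N10624 D20196) (tt N10625 D20197) (tt N10618 (iv F91371)))
theorem Q8844 : ∀ i, i < 8844 → P i := stepQ 8843 Q8843 (allL N8843 (tt N9802 (iv F85325)) (tt N7692 F72170) (tt N10572 (iv F91204)) (tt N10623 (iv F91388)) (tt N7280 F72171) (tt N10624 (iv F91393)) (tt N10615 (iv F91355)) (tt N7279 (iv D15799)) (tt N8843 F72172) (tt N10619 (iv F91376)))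
theorem Q8845 : ∀ i, i < 8845 → P i := stepQ 8844 Q8844 (allL N8844 (tt N9803 (iv F85329)) (tt N7693 F72173) (tt N10626 D20198) (tt N7281 (iv D15800)) (tt N7308 F72174) (tt N7617 F134500) (tt N10627 D20199) (tt N7421 F72176) (tt N8844 F72177) (tt N7607 F134501))
theorem Q8846 : ∀ i, i < 8846 → P i := stepQ 8845 Q8845 (allL N8845 (tt N9804 (iv F85336)) (tt N7694 F72179) (tt N10574 (iv F91213)) (tt N10627 (iv F91404)) (tt N7282 F72180) (tt N10628 D20200) (tt N7281 (iv D15801)) (tt N10629 D20201) (tt N8845 F72181) (tt N7776 F72182))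
theorem Q8847 : ∀ i, i < 8847 → P i := stepQ 8846 Q8846 (allL N8846 (tt N9805 (iv F85341)) (tt N7695 F72183) (tt N10575 (iv F91218)) (tt N7310 F72184) (tt N10629 (iv F91413)) (tt N7287 F72185) (tt N7423 F72186) (tt N7282 (iv D15802)) (tt N8846 F72187) (tt N7777 F72188))
theorem Q8848 : ∀ i, i < 8848 → P i := stepQ 8847 Q8847 (allL N8847 (tt N9806 (iv F85348)) (tt N7661 F72189) (tt N10630 D20202) (tt N7283 (iv D15803)) (tt N7311 F72190) (tt N7650 F72191) (tt N10631 D20203) (tt N7288 F72192) (tt N8847 F72193) (tt N7285 F72194))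
theorem Q8849 : ∀ i, i < 8849 → P i := stepQ 8848 Q8848 (allL N8848 (tt N9807 (iv F85355)) (tt N7662 F72195) (tt N10540 (iv F91057)) (tt N10631 (iv F91423)) (tt N7284 F72196) (tt N10632 D20204) (tt N7283 (iv D15804)) (tt N10633 D20205) (tt N8848 F72197) (tt N7286 F72198))
theorem Q8850 : ∀ i, i < 8850 → P i := stepQ 8849 Q8849 (allL N8849 (tt N9808 (iv F85360)) (tt N7663 F72199) (tt N10541 (iv F91062)) (tt N7313 F72200) (tt N10633 (iv F91432)) (tt N7777 F72201) (tt N7290 F72202) (tt N7284 (iv D15805)) (tt N8849 F72203) (tt N7287 F72204))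
theorem Q8851 : ∀ i, i < 8851 → P i := stepQ 8850 Q8850 (allL N8850 (tt N9809 (iv F85367)) (tt N10634 D20206) (tt N7285 (iv D15806)) (tt N10576 (iv F91223)) (tt N7314 F72205) (tt N10612 (iv F91340)) (tt N10635 D20207) (tt N7291 F72206) (tt N7295 F72207) (tt N10630 (iv F91421)))
theorem Q8852 : ∀ i, i < 8852 → P i := stepQ 8851 Q8851 (allL N8851 (tt N9810 (iv F85371)) (tt N7697 F72208) (tt N10635 (iv F91440)) (tt N7286 F72209) (tt N7315 F72210) (tt N10636 D20208) (tt N7285 (iv D15807)) (tt N10637 D20209) (tt N7296 F72211) (tt N10631 (iv F91426)))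
theorem Q8853 : ∀ i, i < 8853 → P i := stepQ 8852 Q8852 (allL N8852 (tt N9811 (iv F85376)) (tt N7698 F72212) (tt N10578 (iv F91228)) (tt N10636 (iv F91444)) (tt N10628 (iv F91409)) (tt N7286 (iv D15808)) (tt N10614 (iv F91351)) (tt N10638 D20210) (tt N10639 D20211) (tt N10632 (iv F91430)))
theorem Q8854 : ∀ i, i < 8854 → P i := stepQ 8853 Q8853 (allL N8853 (tt N9812 (iv F85378)) (tt N7699 F72213) (tt N10579 (iv F91229)) (tt N10637 (iv F91446)) (tt N7287 F72214) (tt N10638 (iv F91451)) (tt N7294 F72215) (tt N7286 (iv D15809)) (tt N7298 F72216) (tt N10633 (iv F91435)))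
theorem Q8855 : ∀ i, i < 8855 → P i := stepQ 8854 Q8854 (allL N8854 (tt N9813 (iv F85383)) (tt N10640 D20212) (tt N7288 (iv D15810)) (tt N10580 (iv F91233)) (tt N7318 F72217) (tt N10616 (iv F91359)) (tt N10641 D20213) (tt N10630 (iv F91419)) (tt N8854 F72218) (tt N7291 F72219))
theorem Q8856 : ∀ i, i < 8856 → P i := stepQ 8855 Q8855 (allL N8855 (tt N9814 (iv F85387)) (tt N7701 F72220) (tt N10641 (iv F91458)) (tt N7289 F72221) (tt N7319 F72222) (tt N10642 D20214) (tt N7288 (iv D15811)) (tt N10643 D20215) (tt N8855 F72223) (tt N7292 F72224))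
theorem Q8857 : ∀ i, i < 8857 → P i := stepQ 8856 Q8856 (allL N8856 (tt N9815 (iv F85393)) (tt N7702 F72225) (tt N10582 (iv F91239)) (tt N10642 (iv F91463)) (tt N7430 F72226) (tt N7289 (iv D15812)) (tt N10618 (iv F91370)) (tt N10644 D20216) (tt N10645 D20217) (tt N7293 F72227))
theorem Q8858 : ∀ i, i < 8858 → P i := stepQ 8857 Q8857 (allL N8857 (tt N9816 (iv F85397)) (tt N7703 F72228) (tt N10583 (iv F91242)) (tt N10643 (iv F91466)) (tt N7290 F72229) (tt N10644 (iv F91472)) (tt N10633 (iv F91433)) (tt N7289 (iv D15813)) (tt N8857 F72230) (tt N7294 F72231))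
theorem Q8859 : ∀ i, i < 8859 → P i := stepQ 8858 Q8858 (allL N8858 (tt N10646 D20218) (tt N7291 (iv D15814)) (tt N7704 F72232) (tt N10584 (iv F91246)) (tt N7322 F72233) (tt N10620 (iv F91379)) (tt N10647 D20219) (tt N10634 (iv F91438)) (tt N7299 F72234) (tt N10640 (iv F91457)))
theorem Q8860 : ∀ i, i < 8860 → P i := stepQ 8859 Q8859 (allL N8859 (tt N9818 (iv F85405)) (tt N10647 (iv F91480)) (tt N7292 F72235) (tt N10585 (iv F91249)) (tt N7323 F72236) (tt N10648 D20220) (tt N7291 (iv D15815)) (tt N10649 D20221) (tt N7300 F72237) (tt N10641 (iv F91461)))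
theorem Q8861 : ∀ i, i < 8861 → P i := stepQ 8860 Q8860 (allL N8860 (tt N9819 (iv F85409)) (tt N7706 F72238) (tt N10648 (iv F91484)) (tt N7293 F72239) (tt N10650 D20222) (tt N7292 (iv D15816)) (tt N10622 (iv F91386)) (tt N10651 D20223) (tt N10652 D20224) (tt N10642 (iv F91464)))
theorem Q8862 : ∀ i, i < 8862 → P i := stepQ 8861 Q8861 (allL N8861 (tt N9820 (iv F85412)) (tt N7707 F72240) (tt N10649 (iv F91485)) (tt N7294 F72241) (tt N7325 F72242) (tt N10651 (iv F91493)) (tt N10637 (iv F91448)) (tt N7292 (iv D15817)) (tt N7302 F72243) (tt N10643 (iv F91469)))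
theorem Q8863 : ∀ i, i < 8863 → P i := stepQ 8862 Q8862 (allL N8862 (tt N9821 (iv F85417)) (tt N7708 F72244) (tt N10588 (iv F91254)) (tt N10651 (iv F91492)) (tt N7436 F72245) (tt N7294 F72246) (tt N10653 D20225) (tt N7293 (iv D15818)) (tt N10654 D20226) (tt N10644 (iv F91473)))
theorem Q8864 : ∀ i, i < 8864 → P i := stepQ 8863 Q8863 (allL N8863 (tt N9822 (iv F85421)) (tt N7709 F72247) (tt N10589 (iv F91257)) (tt N10652 (iv F91495)) (tt N7437 F72248) (tt N7304 F72249) (tt N10625 (iv F91397)) (tt N10654 (iv F91502)) (tt N7293 (iv D15819)) (tt N10655 D20227))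
theorem Q8865 : ∀ i, i < 8865 → P i := stepQ 8864 Q8864 (allL N8864 (tt N10656 D20228) (tt N7295 (iv D15820)) (tt N7710 F72250) (tt N10590 (iv F91260)) (tt N7327 F72251) (tt N8864 F72252) (tt N10657 D20229) (tt N7299 F72253) (tt N10634 (iv F91439)) (tt N8864 F72254))
theorem Q8866 : ∀ i, i < 8866 → P i := stepQ 8865 Q8865 (allL N8865 (tt N9824 (iv F85430)) (tt N10657 (iv F91511)) (tt N7296 F72255) (tt N10591 (iv F91265)) (tt N7328 F72256) (tt N10658 D20230) (tt N7295 (iv D15821)) (tt N10659 D20231) (tt N10635 (iv F91442)) (tt N8865 F72257))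
theorem Q8867 : ∀ i, i < 8867 → P i := stepQ 8866 Q8866 (allL N8866 (tt N9825 (iv F85434)) (tt N7712 F72258) (tt N10658 (iv F91515)) (tt N7297 F72259) (tt N10660 D20232) (tt N7296 (iv D15822)) (tt N8866 F72260) (tt N10661 D20233) (tt N10662 D20234) (tt N8866 F72261))
theorem Q8868 : ∀ i, i < 8868 → P i := stepQ 8867 Q8867 (allL N8867 (tt N9826 (iv F85439)) (tt N7713 F72262) (tt N10659 (iv F91518)) (tt N7298 F72263) (tt N7330 F72264) (tt N10661 (iv F91530)) (tt N7302 F72265) (tt N7296 (iv D15823)) (tt N10637 (iv F91449)) (tt N8867 F72266))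
theorem Q8869 : ∀ i, i < 8869 → P i := stepQ 8868 Q8868 (allL N8868 (tt N9827 (iv F85445)) (tt N7714 F72267) (tt N10594 (iv F91273)) (tt N10661 (iv F91529)) (tt N8868 F72268) (tt N7298 F72269) (tt N10663 D20235) (tt N7297 (iv D15824)) (tt N10664 D20236) (tt N8868 F72270))
theorem Q8870 : ∀ i, i < 8870 → P i := stepQ 8869 Q8869 (allL N8869 (tt N9828 (iv F85450)) (tt N7715 F72271) (tt N10595 (iv F91277)) (tt N10662 (iv F91533)) (tt N8869 F72272) (tt N10639 (iv F91453)) (tt N8869 F72273) (tt N10664 (iv F91544)) (tt N7297 (iv D15825)) (tt N10665 D20237))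
theorem Q8871 : ∀ i, i < 8871 → P i := stepQ 8870 Q8870 (allL N8870 (tt N7299 (iv D15826)) (tt N9829 (iv F85454)) (tt N7716 F72274) (tt N10596 (iv F91280)) (tt N7333 F72275) (tt N8870 F72276) (tt N10666 D20238) (tt N10656 (iv F91509)) (tt N10646 (iv F91479)) (tt N8870 F72277))
theorem Q8872 : ∀ i, i < 8872 → P i := stepQ 8871 Q8871 (allL N8871 (tt N10666 (iv F91550)) (tt N7300 F72278) (tt N7717 F72279) (tt N10597 (iv F91284)) (tt N7334 F72280) (tt N10667 D20239) (tt N7299 (iv D15827)) (tt N10668 D20240) (tt N10647 (iv F91483)) (tt N8871 F72281))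
theorem Q8873 : ∀ i, i < 8873 → P i := stepQ 8872 Q8872 (allL N8872 (tt N9831 (iv F85463)) (tt N10667 (iv F91554)) (tt N7301 F72282) (tt N10598 (iv F91287)) (tt N8872 F72283) (tt N7300 (iv D15828)) (tt N8872 F72284) (tt N10669 D20241) (tt N10670 D20242) (tt N8872 F72285))
theorem Q8874 : ∀ i, i < 8874 → P i := stepQ 8873 Q8873 (allL N8873 (tt N9832 (iv F85468)) (tt N10668 (iv F91559)) (tt N7302 F72286) (tt N10599 (iv F91291)) (tt N7335 F72287) (tt N10669 (iv F91565)) (tt N10659 (iv F91520)) (tt N7300 (iv D15829)) (tt N10649 (iv F91487)) (tt N8873 F72288))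
theorem Q8875 : ∀ i, i < 8875 → P i := stepQ 8874 Q8874 (allL N8874 (tt N9833 (iv F85472)) (tt N7720 F72289) (tt N10669 (iv F91563)) (tt N7303 F72290) (tt N8874 F72291) (tt N7302 F72292) (tt N10671 D20243) (tt N7301 (iv D15830)) (tt N10672 D20244) (tt N8874 F72293))
theorem Q8876 : ∀ i, i < 8876 → P i := stepQ 8875 Q8875 (allL N8875 (tt N9834 (iv F85478)) (tt N7721 F72294) (tt N10670 (iv F91567)) (tt N7304 F72295) (tt N8875 F72296) (tt N10652 (iv F91496)) (tt N8875 F72297) (tt N10672 (iv F91578)) (tt N7301 (iv D15831)) (tt N10673 D20245))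
theorem Q8877 : ∀ i, i < 8877 → P i := stepQ 8876 Q8876 (allL N8876 (tt N9835 (iv F85483)) (tt N7722 F72298) (tt N10603 (iv F91301)) (tt N10671 (iv F91571)) (tt N7305 F72299) (tt N10663 (iv F91539)) (tt N7303 (iv D15832)) (tt N8876 F72300) (tt N10674 D20246) (tt N8876 F72301))
theorem Q8878 : ∀ i, i < 8878 → P i := stepQ 8877 Q8877 (allL N8877 (tt N9836 (iv F85488)) (tt N7723 F72302) (tt N10604 (iv F91305)) (tt N10672 (iv F91576)) (tt N7306 F72303) (tt N10654 (iv F91501)) (tt N10674 (iv F91586)) (tt N7304 F72304) (tt N7303 (iv D15833)) (tt N10675 D20247))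
theorem Q8879 : ∀ i, i < 8879 → P i := stepQ 8878 Q8878 (allL N8878 (tt N9837 (iv F85492)) (tt N7724 F72305) (tt N10605 (iv F91308)) (tt N10673 (iv F91580)) (tt N7307 F72306) (tt N10655 (iv F91505)) (tt N8878 F72307) (tt N10675 (iv F91590)) (tt N8878 F72308) (tt N7304 (iv D15834)))
theorem Q8880 : ∀ i, i < 8880 → P i := stepQ 8879 Q8879 (allL N8879 (tt N9838 (iv F85497)) (tt N7725 F72309) (tt N10610 (iv F91332)) (tt N8879 F72310) (tt N10674 (iv F91585)) (tt N10676 D20248) (tt N7306 F72311) (tt N8879 F72312) (tt N7305 (iv D15835)) (tt N10677 D20249))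
theorem Q8881 : ∀ i, i < 8881 → P i := stepQ 8880 Q8880 (allL N8880 (tt N9839 (iv F85502)) (tt N7726 F72313) (tt N10611 (iv F91335)) (tt N8880 F72314) (tt N10675 (iv F91589)) (tt N7450 F72315) (tt N10677 (iv F91599)) (tt N7307 F72316) (tt N8880 F72317) (tt N7306 (iv D15836)))
theorem Q8882 : ∀ i, i < 8882 → P i := stepQ 8881 Q8881 (allL N8881 (tt N9840 (iv F85508)) (tt N10678 D20250) (tt N7308 (iv D15837)) (tt N9844 (iv F85533)) (tt N10626 (iv F91398)) (tt N8881 F72318) (tt N10679 D20251) (tt N7451 F72319) (tt N8881 F72320) (tt N9613 (iv F84200)))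
theorem Q8883 : ∀ i, i < 8883 → P i := stepQ 8882 Q8882 (allL N8882 (tt N9841 (iv F85514)) (tt N7731 F72321) (tt N10679 (iv F91606)) (tt N7309 F72322) (tt N10627 (iv F91405)) (tt N10680 D20252) (tt N7308 (iv D15838)) (tt N10681 D20253) (tt N8882 F72323) (tt N9614 (iv F84206)))
theorem Q8884 : ∀ i, i < 8884 → P i := stepQ 8883 Q8883 (allL N8883 (tt N9842 (iv F85519)) (tt N7732 F72324) (tt N9846 (iv F85545)) (tt N10680 (iv F91609)) (tt N7316 F72325) (tt N7309 (iv D15839)) (tt N8883 F72326) (tt N10682 D20254) (tt N10683 D20255) (tt N9615 (iv F84212)))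
theorem Q8885 : ∀ i, i < 8885 → P i := stepQ 8884 Q8884 (allL N8884 (tt N9843 (iv F85525)) (tt N7733 F72327) (tt N9847 (iv F85551)) (tt N10681 (iv F91612)) (tt N7310 F72328) (tt N10682 (iv F91617)) (tt N7454 F72329) (tt N7309 (iv D15840)) (tt N8884 F72330) (tt N9616 (iv F84219)))
theorem Q8886 : ∀ i, i < 8886 → P i := stepQ 8885 Q8885 (allL N8885 (tt N9844 (iv F85532)) (tt N10684 D20256) (tt N7311 (iv D15841)) (tt N9840 (iv F85509)) (tt N10630 (iv F91417)) (tt N8885 F72331) (tt N10685 D20257) (tt N7318 F72332) (tt N8885 F72333) (tt N7314 F72334))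
theorem Q8887 : ∀ i, i < 8887 → P i := stepQ 8886 Q8886 (allL N8886 (tt N9845 (iv F85538)) (tt N7735 F72335) (tt N10685 (iv F91627)) (tt N7312 F72336) (tt N10631 (iv F91424)) (tt N10686 D20258) (tt N7311 (iv D15842)) (tt N10687 D20259) (tt N8886 F72337) (tt N7315 F72338))
theorem Q8888 : ∀ i, i < 8888 → P i := stepQ 8887 Q8887 (allL N8887 (tt N9846 (iv F85543)) (tt N7736 F72339) (tt N9842 (iv F85521)) (tt N10686 (iv F91631)) (tt N9615 (iv F84210)) (tt N7312 (iv D15843)) (tt N8887 F72340) (tt N10688 D20260) (tt N10689 D20261) (tt N7316 F72341))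
theorem Q8889 : ∀ i, i < 8889 → P i := stepQ 8888 Q8888 (allL N8888 (tt N9847 (iv F85549)) (tt N7737 F72342) (tt N9843 (iv F85527)) (tt N10687 (iv F91635)) (tt N7313 F72343) (tt N10688 (iv F91640)) (tt N7321 F72344) (tt N7312 (iv D15844)) (tt N8888 F72345) (tt N7317 F72346))
theorem Q8890 : ∀ i, i < 8890 → P i := stepQ 8889 Q8889 (allL N8889 (tt N10690 D20262) (tt N7314 (iv D15845)) (tt N7738 F72347) (tt N10373 (iv F90261)) (tt N10634 (iv F91437)) (tt N8889 F72348) (tt N10691 D20263) (tt N7322 F72349) (tt N7327 F72350) (tt N10684 (iv F91626)))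
theorem Q8891 : ∀ i, i < 8891 → P i := stepQ 8890 Q8890 (allL N8890 (tt N9849 (iv F85560)) (tt N10691 (iv F91649)) (tt N7315 F72351) (tt N10374 (iv F90266)) (tt N10635 (iv F91441)) (tt N10692 D20264) (tt N7314 (iv D15846)) (tt N10693 D20265) (tt N7328 F72352) (tt N10685 (iv F91629)))
theorem Q8892 : ∀ i, i < 8892 → P i := stepQ 8891 Q8891 (allL N8891 (tt N9850 (iv F85563)) (tt N7740 F72353) (tt N10692 (iv F91652)) (tt N7316 F72354) (tt N10694 D20266) (tt N7315 (iv D15847)) (tt N8891 F72355) (tt N10695 D20267) (tt N10696 D20268) (tt N10686 (iv F91633)))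
theorem Q8893 : ∀ i, i < 8893 → P i := stepQ 8892 Q8892 (allL N8892 (tt N9851 (iv F85567)) (tt N7741 F72356) (tt N10693 (iv F91654)) (tt N7317 F72357) (tt N10637 (iv F91447)) (tt N10695 (iv F91662)) (tt N7325 F72358) (tt N7315 (iv D15848)) (tt N7330 F72359) (tt N10687 (iv F91638)))
theorem Q8894 : ∀ i, i < 8894 → P i := stepQ 8893 Q8893 (allL N8893 (tt N9852 (iv F85572)) (tt N7742 F72360) (tt N10377 (iv F90276)) (tt N10695 (iv F91661)) (tt N10682 (iv F91616)) (tt N7317 F72361) (tt N10697 D20269) (tt N7316 (iv D15849)) (tt N10698 D20270) (tt N10688 (iv F91641)))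
theorem Q8895 : ∀ i, i < 8895 → P i := stepQ 8894 Q8894 (allL N8894 (tt N9853 (iv F85575)) (tt N7743 F72362) (tt N10378 (iv F90279)) (tt N10696 (iv F91664)) (tt N10683 (iv F91619)) (tt N7332 F72363) (tt N8894 F72364) (tt N10698 (iv F91674)) (tt N7316 (iv D15850)) (tt N10699 D20271))
theorem Q8896 : ∀ i, i < 8896 → P i := stepQ 8895 Q8895 (allL N8895 (tt N10700 D20272) (tt N7318 (iv D15851)) (tt N7744 F72365) (tt N10037 (iv F86527)) (tt N10640 (iv F91455)) (tt N8895 F72366) (tt N10701 D20273) (tt N10684 (iv F91624)) (tt N8895 F72367) (tt N7322 F72368))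
theorem Q8897 : ∀ i, i < 8897 → P i := stepQ 8896 Q8896 (allL N8896 (tt N9855 (iv F85584)) (tt N10701 (iv F91683)) (tt N7319 F72369) (tt N10038 (iv F86533)) (tt N10641 (iv F91459)) (tt N10702 D20274) (tt N7318 (iv D15852)) (tt N10703 D20275) (tt N8896 F72370) (tt N7323 F72371))
theorem Q8898 : ∀ i, i < 8898 → P i := stepQ 8897 Q8897 (allL N8897 (tt N9856 (iv F85589)) (tt N7746 F72372) (tt N10702 (iv F91687)) (tt N7320 F72373) (tt N10704 D20276) (tt N7319 (iv D15853)) (tt N8897 F72374) (tt N10705 D20277) (tt N10706 D20278) (tt N7324 F72375))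
theorem Q8899 : ∀ i, i < 8899 → P i := stepQ 8898 Q8898 (allL N8898 (tt N9857 (iv F85594)) (tt N7747 F72376) (tt N10703 (iv F91690)) (tt N7321 F72377) (tt N10643 (iv F91467)) (tt N10705 (iv F91699)) (tt N10687 (iv F91636)) (tt N7319 (iv D15854)) (tt N8898 F72378) (tt N7325 F72379))
theorem Q8900 : ∀ i, i < 8900 → P i := stepQ 8899 Q8899 (allL N8899 (tt N9858 (iv F85599)) (tt N7748 F72380) (tt N10041 (iv F86548)) (tt N10705 (iv F91698)) (tt N7463 F72381) (tt N7321 F72382) (tt N10707 D20279) (tt N7320 (iv D15855)) (tt N10708 D20280) (tt N7326 F72383))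
theorem Q8901 : ∀ i, i < 8901 → P i := stepQ 8900 Q8900 (allL N8900 (tt N9859 (iv F85605)) (tt N7749 F72384) (tt N10042 (iv F86554)) (tt N10706 (iv F91702)) (tt N7464 F72385) (tt N8900 F72386) (tt N8900 F72387) (tt N10708 (iv F91713)) (tt N7320 (iv D15856)) (tt N8900 F72388))
theorem Q8902 : ∀ i, i < 8902 → P i := stepQ 8901 Q8901 (allL N8901 (tt N7322 (iv D15857)) (tt N9860 (iv F85612)) (tt N7750 F72389) (tt N10379 (iv F90283)) (tt N10646 (iv F91478)) (tt N8901 F72390) (tt N10709 D20281) (tt N10690 (iv F91647)) (tt N7333 F72391) (tt N10700 (iv F91682)))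
theorem Q8903 : ∀ i, i < 8903 → P i := stepQ 8902 Q8902 (allL N8902 (tt N10709 (iv F91715)) (tt N7323 F72392) (tt N7751 F72393) (tt N10380 (iv F90288)) (tt N10647 (iv F91482)) (tt N10710 D20282) (tt N7322 (iv D15858)) (tt N10711 D20283) (tt N7334 F72394) (tt N10701 (iv F91686)))
theorem Q8904 : ∀ i, i < 8904 → P i := stepQ 8903 Q8903 (allL N8903 (tt N9862 (iv F85619)) (tt N10710 (iv F91718)) (tt N7324 F72395) (tt N10381 (iv F90291)) (tt N10712 D20284) (tt N7323 (iv D15859)) (tt N8903 F72396) (tt N10713 D20285) (tt N8903 F72397) (tt N10702 (iv F91689)))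
theorem Q8905 : ∀ i, i < 8905 → P i := stepQ 8904 Q8904 (allL N8904 (tt N9863 (iv F85623)) (tt N10711 (iv F91722)) (tt N7325 F72398) (tt N10382 (iv F90295)) (tt N10649 (iv F91486)) (tt N10713 (iv F91729)) (tt N10693 (iv F91655)) (tt N7323 (iv D15860)) (tt N7335 F72399) (tt N10703 (iv F91692)))
theorem Q8906 : ∀ i, i < 8906 → P i := stepQ 8905 Q8905 (allL N8905 (tt N9864 (iv F85626)) (tt N7754 F72400) (tt N10712 (iv F91725)) (tt N7468 F72401) (tt N7324 (iv D15861)) (tt N10650 (iv F91490)) (tt N8905 F72402) (tt N10714 D20286) (tt N8905 F72403) (tt N10704 (iv F91696)))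
theorem Q8907 : ∀ i, i < 8907 → P i := stepQ 8906 Q8906 (allL N8906 (tt N9865 (iv F85631)) (tt N7755 F72404) (tt N10713 (iv F91728)) (tt N7326 F72405) (tt N10714 (iv F91733)) (tt N7325 F72406) (tt N10715 D20287) (tt N7324 (iv D15862)) (tt N8906 F72407) (tt N10705 (iv F91700)))
theorem Q8908 : ∀ i, i < 8908 → P i := stepQ 8907 Q8907 (allL N8907 (tt N9866 (iv F85636)) (tt N7756 F72408) (tt N10385 (iv F90306)) (tt N10715 (iv F91736)) (tt N7470 F72409) (tt N10697 (iv F91670)) (tt N7326 (iv D15863)) (tt N8907 F72410) (tt N8907 F72411) (tt N10707 (iv F91709)))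
theorem Q8909 : ∀ i, i < 8909 → P i := stepQ 8908 Q8908 (allL N8908 (tt N7327 (iv D15864)) (tt N9867 (iv F85641)) (tt N7757 F72412) (tt N10316 F134928) (tt N10656 (iv F91507)) (tt N7336 F72413) (tt N10329 F134929) (tt N7333 F72414) (tt N10690 (iv F91648)) (tt N8908 F72415))
theorem Q8910 : ∀ i, i < 8910 → P i := stepQ 8909 Q8909 (allL N8909 (tt N10329 F134904) (tt N7328 F72416) (tt N7758 F72417) (tt N10320 (iv F135319)) (tt N10657 (iv F91513)) (tt N10319 F134905) (tt N7327 (iv D15865)) (tt N10716 D20290) (tt N10691 (iv F91651)) (tt N8909 F72418))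
theorem Q8911 : ∀ i, i < 8911 → P i := stepQ 8910 Q8910 (allL N8910 (tt N9588 F134419) (tt N10319 F134420) (tt N7329 F72419) (tt N9586 (iv F135107)) (tt N9737 F134421) (tt N7328 (iv D15866)) (tt N7338 F72420) (tt N10717 D20292) (tt N9632 F134422) (tt N8910 F72421))
theorem Q8912 : ∀ i, i < 8912 → P i := stepQ 8911 Q8911 (allL N8911 (tt N9868 (iv F85653)) (tt N10716 (iv F91748)) (tt N7330 F72422) (tt N10386 (iv F90324)) (tt N10659 (iv F91519)) (tt N10717 (iv F91758)) (tt N7335 F72423) (tt N7328 (iv D15867)) (tt N10693 (iv F91656)) (tt N8911 F72424))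
theorem Q8913 : ∀ i, i < 8913 → P i := stepQ 8912 Q8912 (allL N8912 (tt N9749 F133555) (tt N7761 F72425) (tt N9737 (iv F133731)) (tt N8912 F72426) (tt N7329 (iv D15868)) (tt N10660 (iv F91524)) (tt N7339 F72427) (tt N10718 D20294) (tt N7640 F133558) (tt N8912 F72428))
theorem Q8914 : ∀ i, i < 8914 → P i := stepQ 8913 Q8913 (allL N8913 (tt N9869 (iv F85663)) (tt N7762 F72430) (tt N10717 (iv F91757)) (tt N7331 F72431) (tt N10718 (iv F91768)) (tt N7330 F72432) (tt N8913 F72433) (tt N7329 (iv D15869)) (tt N10719 D20295) (tt N8913 F72434))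
theorem Q8915 : ∀ i, i < 8915 → P i := stepQ 8914 Q8914 (allL N8914 (tt N9642 F133554) (tt N7763 F72435) (tt N9632 (iv F133704)) (tt N7332 F72436) (tt N7640 F133556) (tt N10696 (iv F91666)) (tt N7340 F72438) (tt N10719 (iv F91776)) (tt N7329 (iv D15870)) (tt N7639 F133557))
theorem Q8916 : ∀ i, i < 8916 → P i := stepQ 8915 Q8915 (allL N8915 (tt N9870 (iv F85675)) (tt N7764 F72440) (tt N10387 (iv F90340)) (tt N10719 (iv F91773)) (tt N8915 F72441) (tt N10698 (iv F91673)) (tt N8915 F72442) (tt N7332 F72443) (tt N7331 (iv D15871)) (tt N10720 D20296))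
theorem Q8917 : ∀ i, i < 8917 → P i := stepQ 8916 Q8916 (allL N8916 (tt N9571 F133553) (tt N7765 F72444) (tt N9568 (iv F134381)) (tt N7639 F133560) (tt N8916 F72446) (tt N10699 (iv F91677)) (tt N7341 F72447) (tt N10720 (iv F91782)) (tt N8916 F72448) (tt N7332 (iv D15872)))
theorem Q8918 : ∀ i, i < 8918 → P i := stepQ 8917 Q8917 (allL N8917 (tt N7334 F72449) (tt N9871 (iv F85687)) (tt N7766 F72450) (tt N10388 (iv F90351)) (tt N10666 (iv F91552)) (tt N8917 F72451) (tt N7333 (iv D15873)) (tt N10721 D20297) (tt N10709 (iv F91717)) (tt N8917 F72452))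
theorem Q8919 : ∀ i, i < 8919 → P i := stepQ 8918 Q8918 (allL N8918 (tt N10721 (iv F91784)) (tt N7335 F72453) (tt N7767 F72454) (tt N10389 (iv F90356)) (tt N10668 (iv F91561)) (tt N8918 F72455) (tt N10716 (iv F91750)) (tt N7334 (iv D15874)) (tt N10711 (iv F91724)) (tt N8918 F72456))
theorem Q8920 : ∀ i, i < 8920 → P i := stepQ 8919 Q8919 (allL N8919 (tt N7356 F72481) (tt N9877 (iv F85747)) (tt N7769 F72482) (tt N10722 D20298) (tt N7342 (iv D15879)) (tt N9763 (iv F85131)) (tt N10723 D20299) (tt N9627 (iv F84336)) (tt N7472 F72483) (tt N7343 F72484))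
theorem Q8921 : ∀ i, i < 8921 → P i := stepQ 8920 Q8920 (allL N8920 (tt N7357 F72485) (tt N9878 (iv F85754)) (tt N7770 F72486) (tt N9876 (iv F85742)) (tt N10723 (iv F91793)) (tt N9757 (iv F85100)) (tt N7342 (iv D15880)) (tt N10724 D20300) (tt N7473 F72487) (tt N7344 F72488))
theorem Q8922 : ∀ i, i < 8922 → P i := stepQ 8921 Q8921 (allL N8921 (tt N7358 F72489) (tt N9879 (iv F85761)) (tt N10239 (iv F134183)) (tt N7343 (iv D15881)) (tt N10390 (iv F90391)) (tt N10336 (iv F90058)) (tt N10725 D20302) (tt N10333 (iv F90045)) (tt N7347 F72490) (tt N10722 (iv F91790)))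
theorem Q8923 : ∀ i, i < 8923 → P i := stepQ 8922 Q8922 (allL N8922 (tt N7359 F72491) (tt N9880 (iv F85764)) (tt N7771 F72492) (tt N10725 (iv F91804)) (tt N7344 F72493) (tt N10726 D20303) (tt N7343 (iv D15882)) (tt N10727 D20304) (tt N7348 F72494) (tt N10723 (iv F91795)))
theorem Q8924 : ∀ i, i < 8924 → P i := stepQ 8923 Q8923 (allL N8923 (tt N7360 F72495) (tt N9881 (iv F85769)) (tt N7772 F72496) (tt N10392 (iv F90399)) (tt N10727 (iv F91810)) (tt N10531 (iv F91005)) (tt N10335 (iv F90054)) (tt N7344 (iv D15883)) (tt N7349 F72497) (tt N10724 (iv F91799)))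
theorem Q8925 : ∀ i, i < 8925 → P i := stepQ 8924 Q8924 (allL N8924 (tt N7361 F72498) (tt N9882 (iv F85773)) (tt N10238 F133281) (tt N7345 (iv D15884)) (tt N10062 (iv F86777)) (tt N7561 F72499) (tt N10728 D20306) (tt N7347 F72500) (tt N10333 (iv F90046)) (tt N7477 F72501))
theorem Q8926 : ∀ i, i < 8926 → P i := stepQ 8925 Q8925 (allL N8925 (tt N7362 F72502) (tt N9883 (iv F85779)) (tt N7773 F72503) (tt N10728 (iv F91818)) (tt N7346 F72504) (tt N10279 F133284) (tt N7345 (iv D15885)) (tt N10729 D20308) (tt N10334 (iv F90050)) (tt N7478 F72505))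
theorem Q8927 : ∀ i, i < 8927 → P i := stepQ 8926 Q8926 (allL N8926 (tt N7363 F72506) (tt N9884 (iv F85784)) (tt N7774 F72507) (tt N10064 (iv F86789)) (tt N10729 (iv F91827)) (tt N8926 F72508) (tt N7349 F72509) (tt N7346 (iv D15886)) (tt N10335 (iv F90055)) (tt N7479 F72510))
theorem Q8928 : ∀ i, i < 8928 → P i := stepQ 8927 Q8927 (allL N8927 (tt N7365 F72515) (tt N9886 (iv F85795)) (tt N9958 (iv F134181)) (tt N7348 F72516) (tt N10393 (iv F90408)) (tt N9957 (iv F134135)) (tt N7347 (iv D15888)) (tt N10730 D20312) (tt N10725 (iv F91805)) (tt N7480 F72517))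
theorem Q8929 : ∀ i, i < 8929 → P i := stepQ 8928 Q8928 (allL N8928 (tt N7367 F72523) (tt N9888 (iv F85805)) (tt N7775 F72524) (tt N10730 (iv F91842)) (tt N7349 F72525) (tt N10021 (iv F134138)) (tt N10729 (iv F91828)) (tt N7348 (iv D15890)) (tt N10727 (iv F91811)) (tt N7481 F72526))
theorem Q8930 : ∀ i, i < 8930 → P i := stepQ 8929 Q8929 (allL N8929 (tt N7368 F72540) (tt N9889 (iv F85825)) (tt N7555 (iv F134234)) (tt N7351 F72541) (tt N10397 (iv F90436)) (tt N7553 (iv F134157)) (tt N8929 F72542) (tt N7350 (iv D15894)) (tt N10537 (iv F91041)) (tt N7482 F72543))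
theorem Q8931 : ∀ i, i < 8931 → P i := stepQ 8930 Q8930 (allL N8930 (tt N10336 (iv F90056)) (tt N7378 F72551) (tt N10731 D20324) (tt N7352 (iv D15897)) (tt N9767 (iv F85158)) (tt N7358 F72552) (tt N10732 D20325) (tt N9591 (iv F84071)) (tt N7562 F72553) (tt N10573 (iv F91211)))
theorem Q8932 : ∀ i, i < 8932 → P i := stepQ 8931 Q8931 (allL N8931 (tt N10337 (iv F90061)) (tt N7379 F72554) (tt N7776 F72555) (tt N10732 (iv F91893)) (tt N7353 F72556) (tt N10733 D20326) (tt N7352 (iv D15898)) (tt N10734 D20327) (tt N7563 F72557) (tt N10574 (iv F91216)))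
theorem Q8933 : ∀ i, i < 8933 → P i := stepQ 8932 Q8932 (allL N8932 (tt N10338 (iv F90065)) (tt N7380 F72558) (tt N7777 F72559) (tt N9769 (iv F85169)) (tt N10734 (iv F91900)) (tt N10541 (iv F91063)) (tt N9593 (iv F84085)) (tt N7353 (iv D15899)) (tt N7564 F72560) (tt N10575 (iv F91222)))
theorem Q8934 : ∀ i, i < 8934 → P i := stepQ 8933 Q8933 (allL N8933 (tt N10333 (iv F90043)) (tt N7383 F72561) (tt N10735 D20328) (tt N7354 (iv D15900)) (tt N9902 (iv F85893)) (tt N9591 (iv F84070)) (tt N10736 D20329) (tt N7358 F72562) (tt N7361 F72563) (tt N9635 (iv F84388)))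
theorem Q8935 : ∀ i, i < 8935 → P i := stepQ 8934 Q8934 (allL N8934 (tt N10334 (iv F90047)) (tt N7384 F72564) (tt N7778 F72565) (tt N10736 (iv F91906)) (tt N7355 F72566) (tt N10737 D20330) (tt N7354 (iv D15901)) (tt N10738 D20331) (tt N7362 F72567) (tt N9636 (iv F84393)))
theorem Q8936 : ∀ i, i < 8936 → P i := stepQ 8935 Q8935 (allL N8935 (tt N10335 (iv F90051)) (tt N7385 F72568) (tt N7779 F72569) (tt N9904 (iv F85904)) (tt N10738 (iv F91912)) (tt N9651 (iv F84467)) (tt N7360 F72570) (tt N7355 (iv D15902)) (tt N7363 F72571) (tt N9637 (iv F84400)))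
theorem Q8937 : ∀ i, i < 8937 → P i := stepQ 8936 Q8936 (allL N8936 (tt N10722 (iv F91788)) (tt N7386 F72572) (tt N10739 D20332) (tt N7356 (iv D15903)) (tt N9899 (iv F85877)) (tt N10573 (iv F91208)) (tt N10740 D20333) (tt N9635 (iv F84386)) (tt N7483 F72573) (tt N7358 F72574))
theorem Q8938 : ∀ i, i < 8938 → P i := stepQ 8937 Q8937 (allL N8937 (tt N10723 (iv F91791)) (tt N7387 F72575) (tt N7780 F72576) (tt N10740 (iv F91919)) (tt N7357 F72577) (tt N10741 D20334) (tt N7356 (iv D15904)) (tt N10742 D20335) (tt N7484 F72578) (tt N7359 F72579))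
theorem Q8939 : ∀ i, i < 8939 → P i := stepQ 8938 Q8938 (allL N8938 (tt N10724 (iv F91796)) (tt N7388 F72580) (tt N7781 F72581) (tt N9901 (iv F85888)) (tt N10742 (iv F91927)) (tt N10547 (iv F91095)) (tt N9637 (iv F84398)) (tt N7357 (iv D15905)) (tt N7485 F72582) (tt N7360 F72583))
theorem Q8940 : ∀ i, i < 8940 → P i := stepQ 8939 Q8939 (allL N8939 (tt N10239 (iv F134182)) (tt N10743 D20336) (tt N7358 (iv D15906)) (tt N7591 (iv F133895)) (tt N10403 (iv F90457)) (tt N10731 (iv F91890)) (tt N10744 D20337) (tt N10735 (iv F91903)) (tt N7364 F72585) (tt N10739 (iv F91917)))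
theorem Q8941 : ∀ i, i < 8941 → P i := stepQ 8940 Q8940 (allL N8940 (tt N10725 (iv F91803)) (tt N7390 F72586) (tt N10744 (iv F91933)) (tt N7359 F72587) (tt N10404 (iv F90461)) (tt N10745 D20338) (tt N7358 (iv D15907)) (tt N10746 D20339) (tt N7365 F72588) (tt N10740 (iv F91921)))
theorem Q8942 : ∀ i, i < 8942 → P i := stepQ 8941 Q8941 (allL N8941 (tt N10726 (iv F91806)) (tt N7391 F72589) (tt N7782 F72590) (tt N10745 (iv F91937)) (tt N10550 (iv F91106)) (tt N7359 (iv D15908)) (tt N10733 (iv F91897)) (tt N10747 D20340) (tt N10748 D20341) (tt N10741 (iv F91924)))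
theorem Q8943 : ∀ i, i < 8943 → P i := stepQ 8942 Q8942 (allL N8942 (tt N10727 (iv F91808)) (tt N7392 F72591) (tt N7783 F72592) (tt N10746 (iv F91939)) (tt N7360 F72593) (tt N10747 (iv F91943)) (tt N10738 (iv F91913)) (tt N7359 (iv D15909)) (tt N7367 F72594) (tt N10742 (iv F91929)))
theorem Q8944 : ∀ i, i < 8944 → P i := stepQ 8943 Q8943 (allL N8943 (tt N10238 F133282) (tt N7592 F133290) (tt N7361 (iv D15910)) (tt N7590 F133283) (tt N10078 (iv F86910)) (tt N7570 F72596) (tt N10749 D20343) (tt N7364 F72597) (tt N10735 (iv F91904)) (tt N7490 F72598))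
theorem Q8945 : ∀ i, i < 8945 → P i := stepQ 8944 Q8944 (allL N8944 (tt N10728 (iv F91817)) (tt N7394 F72599) (tt N10749 (iv F91952)) (tt N7362 F72600) (tt N10079 (iv F86916)) (tt N10750 D20344) (tt N7361 (iv D15911)) (tt N10751 D20345) (tt N10736 (iv F91907)) (tt N7491 F72601))
theorem Q8946 : ∀ i, i < 8946 → P i := stepQ 8945 Q8945 (allL N8945 (tt N10279 F133354) (tt N7395 F72602) (tt N7619 F133355) (tt N10750 (iv F91956)) (tt N8945 F72604) (tt N7362 (iv D15912)) (tt N7572 F72605) (tt N10752 D20346) (tt N10753 D20347) (tt N7492 F72606))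
theorem Q8947 : ∀ i, i < 8947 → P i := stepQ 8946 Q8946 (allL N8946 (tt N10729 (iv F91825)) (tt N7396 F72607) (tt N7784 F72608) (tt N10751 (iv F91960)) (tt N7363 F72609) (tt N10752 (iv F91966)) (tt N7367 F72610) (tt N7362 (iv D15913)) (tt N10738 (iv F91914)) (tt N7493 F72611))
theorem Q8948 : ∀ i, i < 8948 → P i := stepQ 8947 Q8947 (allL N8947 (tt N10245 F133288) (tt N7364 (iv D15914)) (tt N7397 F72612) (tt N7572 F133291) (tt N10407 (iv F90471)) (tt N7571 F133292) (tt N10750 (iv F134097)) (tt N7592 F133289) (tt N10743 (iv F91932)) (tt N7494 F72615))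
theorem Q8949 : ∀ i, i < 8949 → P i := stepQ 8948 Q8948 (allL N8948 (tt N9958 (iv F134180)) (tt N10750 (iv F134095)) (tt N7365 F72616) (tt N7395 (iv F133885)) (tt N10408 (iv F90476)) (tt N7394 (iv F134091)) (tt N7364 (iv D15915)) (tt N10754 D20351) (tt N10744 (iv F91935)) (tt N7495 F72618))
theorem Q8950 : ∀ i, i < 8950 → P i := stepQ 8949 Q8949 (allL N8949 (tt N9957 (iv F134133)) (tt N7399 F72619) (tt N7394 (iv F134090)) (tt N7366 F72620) (tt N10104 (iv F134140)) (tt N7365 (iv D15916)) (tt N7393 F133314) (tt N10755 D20353) (tt N10756 D20354) (tt N7496 F72622))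
theorem Q8951 : ∀ i, i < 8951 → P i := stepQ 8950 Q8950 (allL N8950 (tt N10730 (iv F91841)) (tt N7400 F72623) (tt N10754 (iv F91984)) (tt N7367 F72624) (tt N10410 (iv F90484)) (tt N10755 (iv F91993)) (tt N10751 (iv F91961)) (tt N7365 (iv D15917)) (tt N10746 (iv F91940)) (tt N7497 F72625))
theorem Q8952 : ∀ i, i < 8952 → P i := stepQ 8951 Q8951 (allL N8951 (tt N10021 (iv F134136)) (tt N7401 F72626) (tt N7438 (iv F133891)) (tt N10755 (iv F91992)) (tt N7369 F72628) (tt N7367 F72629) (tt N7443 (iv F134129)) (tt N7366 (iv D15918)) (tt N10757 D20356) (tt N7498 F72630))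
theorem Q8953 : ∀ i, i < 8953 → P i := stepQ 8952 Q8952 (allL N8952 (tt N10001 (iv F134074)) (tt N7402 F72631) (tt N7425 (iv F133894)) (tt N10756 (iv F91996)) (tt N7370 F72633) (tt N10748 (iv F91946)) (tt N7424 F133315) (tt N10757 (iv F92006)) (tt N7366 (iv D15919)) (tt N9671 (iv F134073)))
theorem Q8954 : ∀ i, i < 8954 → P i := stepQ 8953 Q8953 (allL N8953 (tt N10044 (iv F134080)) (tt N7407 F72660) (tt N7456 (iv F133951)) (tt N10050 (iv F134085)) (tt N10757 (iv F92005)) (tt N10565 (iv F91180)) (tt N7467 (iv F134083)) (tt N7370 F72662) (tt N7369 (iv D15926)) (tt N9686 (iv F134079)))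
theorem Q8955 : ∀ i, i < 8955 → P i := stepQ 8954 Q8954 (allL N8954 (tt N9740 (iv F85006)) (tt N9765 (iv F85143)) (tt N8954 F72667) (tt N10758 D20368) (tt N7371 (iv D15928)) (tt N9732 (iv F84954)) (tt N10759 D20369) (tt N9647 (iv F84442)) (tt N8954 F72668) (tt N7372 F72669))
theorem Q8956 : ∀ i, i < 8956 → P i := stepQ 8955 Q8955 (allL N8955 (tt N9741 (iv F85013)) (tt N9766 (iv F85150)) (tt N8955 F72670) (tt N7377 F72671) (tt N10759 (iv F92055)) (tt N9874 (iv F85729)) (tt N7371 (iv D15929)) (tt N10760 D20370) (tt N8955 F72672) (tt N7373 F72673))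
theorem Q8957 : ∀ i, i < 8957 → P i := stepQ 8956 Q8956 (allL N8956 (tt N9926 (iv F85993)) (tt N9767 (iv F85157)) (tt N10761 D20371) (tt N7372 (iv D15930)) (tt N7378 F72674) (tt N10418 (iv F90530)) (tt N10762 D20372) (tt N9742 (iv F85022)) (tt N7573 F72675) (tt N10758 (iv F92053)))
theorem Q8958 : ∀ i, i < 8958 → P i := stepQ 8957 Q8957 (allL N8957 (tt N9927 (iv F85996)) (tt N9768 (iv F85162)) (tt N8957 F72676) (tt N10762 (iv F92065)) (tt N7373 F72677) (tt N10763 D20373) (tt N7372 (iv D15931)) (tt N10764 D20374) (tt N7574 F72678) (tt N10759 (iv F92057)))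
theorem Q8959 : ∀ i, i < 8959 → P i := stepQ 8958 Q8958 (allL N8958 (tt N9928 (iv F86000)) (tt N9769 (iv F85167)) (tt N8958 F72679) (tt N7380 F72680) (tt N10764 (iv F92070)) (tt N10568 (iv F91194)) (tt N9744 (iv F85032)) (tt N7373 (iv D15932)) (tt N7575 F72681) (tt N10760 (iv F92061)))
theorem Q8960 : ∀ i, i < 8960 → P i := stepQ 8959 Q8959 (allL N8959 (tt N9929 (iv F86004)) (tt N9591 (iv F84068)) (tt N10765 D20375) (tt N7374 (iv D15933)) (tt N9742 (iv F85021)) (tt N7383 F72682) (tt N10766 D20376) (tt N7378 F72683) (tt N7576 F72684) (tt N9649 (iv F84457)))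
theorem Q8961 : ∀ i, i < 8961 → P i := stepQ 8960 Q8960 (allL N8960 (tt N9930 (iv F86009)) (tt N9592 (iv F84075)) (tt N7412 F72685) (tt N10766 (iv F92076)) (tt N7375 F72686) (tt N10767 D20377) (tt N7374 (iv D15934)) (tt N10768 D20378) (tt N7577 F72687) (tt N9650 (iv F84463)))
theorem Q8962 : ∀ i, i < 8962 → P i := stepQ 8961 Q8961 (allL N8961 (tt N9931 (iv F86014)) (tt N9593 (iv F84081)) (tt N7413 F72688) (tt N9744 (iv F85030)) (tt N10768 (iv F92081)) (tt N9637 (iv F84397)) (tt N7380 F72689) (tt N7375 (iv D15935)) (tt N7578 F72690) (tt N9651 (iv F84470)))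
theorem Q8963 : ∀ i, i < 8963 → P i := stepQ 8962 Q8962 (allL N8962 (tt N9932 (iv F86019)) (tt N10573 (iv F91207)) (tt N10769 D20379) (tt N7376 (iv D15936)) (tt N10758 (iv F92051)) (tt N7386 F72691) (tt N10770 D20380) (tt N9649 (iv F84455)) (tt N8962 F72692) (tt N7378 F72693))
theorem Q8964 : ∀ i, i < 8964 → P i := stepQ 8963 Q8963 (allL N8963 (tt N9933 (iv F86024)) (tt N10574 (iv F91212)) (tt N7415 F72694) (tt N10770 (iv F92088)) (tt N7377 F72695) (tt N10771 D20381) (tt N7376 (iv D15937)) (tt N10772 D20382) (tt N8963 F72696) (tt N7379 F72697))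
theorem Q8965 : ∀ i, i < 8965 → P i := stepQ 8964 Q8964 (allL N8964 (tt N9934 (iv F86029)) (tt N10575 (iv F91217)) (tt N7416 F72698) (tt N10760 (iv F92059)) (tt N10772 (iv F92095)) (tt N10544 (iv F91079)) (tt N9651 (iv F84468)) (tt N7377 (iv D15938)) (tt N8964 F72699) (tt N7380 F72700))
theorem Q8966 : ∀ i, i < 8966 → P i := stepQ 8965 Q8965 (allL N8965 (tt N9935 (iv F86034)) (tt N10773 D20383) (tt N7378 (iv D15939)) (tt N7417 F72701) (tt N10761 (iv F92063)) (tt N7389 F72702) (tt N10774 D20384) (tt N10765 (iv F92074)) (tt N7579 F72703) (tt N10769 (iv F92087)))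
theorem Q8967 : ∀ i, i < 8967 → P i := stepQ 8966 Q8966 (allL N8966 (tt N9936 (iv F86038)) (tt N10732 (iv F91892)) (tt N10774 (iv F92101)) (tt N7379 F72704) (tt N10762 (iv F92066)) (tt N10775 D20385) (tt N7378 (iv D15940)) (tt N10776 D20386) (tt N7580 F72705) (tt N10770 (iv F92090)))
theorem Q8968 : ∀ i, i < 8968 → P i := stepQ 8967 Q8967 (allL N8967 (tt N9937 (iv F86041)) (tt N10733 (iv F91895)) (tt N7419 F72706) (tt N10775 (iv F92104)) (tt N10571 (iv F91202)) (tt N7379 (iv D15941)) (tt N7391 F72707) (tt N10777 D20387) (tt N10778 D20388) (tt N10771 (iv F92093)))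
theorem Q8969 : ∀ i, i < 8969 → P i := stepQ 8968 Q8968 (allL N8968 (tt N9938 (iv F86044)) (tt N10734 (iv F91898)) (tt N7420 F72708) (tt N10776 (iv F92106)) (tt N7380 F72709) (tt N10777 (iv F92109)) (tt N10768 (iv F92082)) (tt N7379 (iv D15942)) (tt N7582 F72710) (tt N10772 (iv F92097)))
theorem Q8970 : ∀ i, i < 8970 → P i := stepQ 8969 Q8969 (allL N8969 (tt N9939 (iv F86048)) (tt N9649 (iv F84453)) (tt N10779 D20389) (tt N7381 (iv D15943)) (tt N9770 (iv F85173)) (tt N9635 (iv F84385)) (tt N10780 D20390) (tt N10573 (iv F91209)) (tt N8969 F72711) (tt N9591 (iv F84073)))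
theorem Q8971 : ∀ i, i < 8971 → P i := stepQ 8970 Q8970 (allL N8970 (tt N9940 (iv F86052)) (tt N9650 (iv F84459)) (tt N7422 F72712) (tt N10780 (iv F92115)) (tt N7382 F72713) (tt N10781 D20391) (tt N7381 (iv D15944)) (tt N10782 D20392) (tt N8970 F72714) (tt N9592 (iv F84079)))
theorem Q8972 : ∀ i, i < 8972 → P i := stepQ 8971 Q8971 (allL N8971 (tt N9941 (iv F86057)) (tt N9651 (iv F84465)) (tt N7423 F72715) (tt N9772 (iv F85183)) (tt N10782 (iv F92120)) (tt N7385 F72716) (tt N10575 (iv F91220)) (tt N7382 (iv D15945)) (tt N8971 F72717) (tt N9593 (iv F84087)))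
theorem Q8973 : ∀ i, i < 8973 → P i := stepQ 8972 Q8972 (allL N8972 (tt N9942 (iv F86063)) (tt N7594 (iv F134118)) (tt N7383 (iv D15946)) (tt N7424 F72718) (tt N9946 (iv F86085)) (tt N10765 (iv F92073)) (tt N10756 (iv F134141)) (tt N7389 F72719) (tt N7393 F72720) (tt N9652 (iv F84476)))
theorem Q8974 : ∀ i, i < 8974 → P i := stepQ 8973 Q8973 (allL N8973 (tt N9943 (iv F86069)) (tt N10736 (iv F91905)) (tt N10756 F134737) (tt N7384 F72721) (tt N9947 (iv F86091)) (tt N10783 D20395) (tt N7383 (iv D15947)) (tt N10784 D20396) (tt N7394 F72722) (tt N9653 (iv F84481)))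
theorem Q8975 : ∀ i, i < 8975 → P i := stepQ 8974 Q8974 (allL N8974 (tt N9944 (iv F86074)) (tt N10737 (iv F91908)) (tt N7426 F72723) (tt N10783 (iv F92128)) (tt N10781 (iv F92118)) (tt N7384 (iv D15948)) (tt N10767 (iv F92079)) (tt N10785 D20397) (tt N10786 D20398) (tt N9654 (iv F84484)))
theorem Q8976 : ∀ i, i < 8976 → P i := stepQ 8975 Q8975 (allL N8975 (tt N9945 (iv F86077)) (tt N10738 (iv F91910)) (tt N7427 F72724) (tt N10784 (iv F92129)) (tt N7385 F72725) (tt N10785 (iv F92133)) (tt N7392 F72726) (tt N7384 (iv D15949)) (tt N7396 F72727) (tt N9655 (iv F84490)))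
theorem Q8977 : ∀ i, i < 8977 → P i := stepQ 8976 Q8976 (allL N8976 (tt N9946 (iv F86083)) (tt N10787 D20399) (tt N7386 (iv D15950)) (tt N7428 F72728) (tt N9942 (iv F86065)) (tt N10769 (iv F92085)) (tt N10788 D20400) (tt N9652 (iv F84474)) (tt N7499 F72729) (tt N7389 F72730))
theorem Q8978 : ∀ i, i < 8978 → P i := stepQ 8977 Q8977 (allL N8977 (tt N9947 (iv F86089)) (tt N10740 (iv F91918)) (tt N10788 (iv F92139)) (tt N7387 F72731) (tt N9943 (iv F86071)) (tt N10789 D20401) (tt N7386 (iv D15951)) (tt N10790 D20402) (tt N7500 F72732) (tt N7390 F72733))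
theorem Q8979 : ∀ i, i < 8979 → P i := stepQ 8978 Q8978 (allL N8978 (tt N9948 (iv F86094)) (tt N10741 (iv F91922)) (tt N7430 F72734) (tt N10789 (iv F92143)) (tt N10582 (iv F91240)) (tt N7387 (iv D15952)) (tt N10771 (iv F92092)) (tt N10791 D20403) (tt N10792 D20404) (tt N7391 F72735))
theorem Q8980 : ∀ i, i < 8980 → P i := stepQ 8979 Q8979 (allL N8979 (tt N9949 (iv F86097)) (tt N10742 (iv F91925)) (tt N7431 F72736) (tt N10790 (iv F92145)) (tt N7388 F72737) (tt N10791 (iv F92149)) (tt N9655 (iv F84488)) (tt N7387 (iv D15953)) (tt N7502 F72738) (tt N7392 F72739))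
theorem Q8981 : ∀ i, i < 8981 → P i := stepQ 8980 Q8980 (allL N8980 (tt N10250 (iv F134115)) (tt N7389 (iv D15954)) (tt N10743 (iv F91930)) (tt N7432 F72740) (tt N10425 (iv F90549)) (tt N10773 (iv F92099)) (tt N10793 D20406) (tt N7594 (iv F134119)) (tt N7397 F72741) (tt N10787 (iv F92138)))
theorem Q8982 : ∀ i, i < 8982 → P i := stepQ 8981 Q8981 (allL N8981 (tt N9951 (iv F86105)) (tt N10793 (iv F92155)) (tt N7390 F72742) (tt N7433 F72743) (tt N10426 (iv F90553)) (tt N10794 D20407) (tt N7389 (iv D15955)) (tt N10795 D20408) (tt N7398 F72744) (tt N10788 (iv F92142)))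
theorem Q8983 : ∀ i, i < 8983 → P i := stepQ 8982 Q8982 (allL N8982 (tt N9952 (iv F86109)) (tt N10745 (iv F91936)) (tt N10794 (iv F92158)) (tt N7391 F72745) (tt N10796 D20409) (tt N7390 (iv D15956)) (tt N10775 (iv F92105)) (tt N10797 D20410) (tt N10798 D20411) (tt N10789 (iv F92144)))
theorem Q8984 : ∀ i, i < 8984 → P i := stepQ 8983 Q8983 (allL N8983 (tt N9953 (iv F86111)) (tt N10746 (iv F91938)) (tt N10795 (iv F92160)) (tt N7392 F72746) (tt N10428 (iv F90557)) (tt N10797 (iv F92164)) (tt N10784 (iv F92130)) (tt N7390 (iv D15957)) (tt N7400 F72747) (tt N10790 (iv F92147)))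
theorem Q8985 : ∀ i, i < 8985 → P i := stepQ 8984 Q8984 (allL N8984 (tt N9954 (iv F86114)) (tt N10747 (iv F91941)) (tt N7436 F72748) (tt N10797 (iv F92163)) (tt N10588 (iv F91255)) (tt N7392 F72749) (tt N10799 D20412) (tt N7391 (iv D15958)) (tt N10800 D20413) (tt N10791 (iv F92150)))
theorem Q8986 : ∀ i, i < 8986 → P i := stepQ 8985 Q8985 (allL N8985 (tt N9955 (iv F86117)) (tt N10748 (iv F91944)) (tt N7437 F72750) (tt N10798 (iv F92165)) (tt N10589 (iv F91258)) (tt N7402 F72751) (tt N10778 (iv F92112)) (tt N10800 (iv F92170)) (tt N7391 (iv D15959)) (tt N10801 D20414))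
theorem Q8987 : ∀ i, i < 8987 → P i := stepQ 8986 Q8986 (allL N8986 (tt N9959 (iv F86134)) (tt N10751 (iv F91959)) (tt N10755 F134735) (tt N7396 F72762) (tt N10106 (iv F87075)) (tt N10754 F134736) (tt N7400 F72763) (tt N7394 (iv D15963)) (tt N10784 (iv F92131)) (tt N7509 F72764))
theorem Q8988 : ∀ i, i < 8988 → P i := stepQ 8987 Q8987 (allL N8987 (tt N9960 (iv F86139)) (tt N10752 (iv F91963)) (tt N7439 F72765) (tt N10754 F134479) (tt N8987 F72766) (tt N7396 F72767) (tt N10802 D20422) (tt N7395 (iv D15964)) (tt N10803 D20423) (tt N7510 F72768))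
theorem Q8989 : ∀ i, i < 8989 → P i := stepQ 8988 Q8988 (allL N8988 (tt N9961 (iv F86144)) (tt N10753 (iv F91968)) (tt N7440 F72769) (tt N10744 F134480) (tt N8988 F72770) (tt N10786 (iv F92135)) (tt N7591 F72771) (tt N10803 (iv F92203)) (tt N7395 (iv D15965)) (tt N10804 D20424))
theorem Q8990 : ∀ i, i < 8990 → P i := stepQ 8989 Q8989 (allL N8989 (tt N10249 (iv F134113)) (tt N7398 F72775) (tt N10750 (iv F134096)) (tt N7441 F72776) (tt N10431 (iv F90569)) (tt N10749 (iv F134094)) (tt N7397 (iv D15967)) (tt N10805 D20427) (tt N10793 (iv F92157)) (tt N7512 F72777))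
theorem Q8991 : ∀ i, i < 8991 → P i := stepQ 8990 Q8990 (allL N8990 (tt N9964 (iv F86155)) (tt N10749 (iv F134092)) (tt N7399 F72778) (tt N7442 F72779) (tt N10806 D20428) (tt N7398 (iv D15968)) (tt N7592 F72780) (tt N10807 D20429) (tt N10808 D20430) (tt N7513 F72781))
theorem Q8992 : ∀ i, i < 8992 → P i := stepQ 8991 Q8991 (allL N8991 (tt N9965 (iv F86160)) (tt N10805 (iv F92215)) (tt N7400 F72782) (tt N7443 F72783) (tt N10433 (iv F90577)) (tt N10807 (iv F92224)) (tt N10755 F134689) (tt N7398 (iv D15969)) (tt N10795 (iv F92162)) (tt N7514 F72784))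
theorem Q8993 : ∀ i, i < 8993 → P i := stepQ 8992 Q8992 (allL N8992 (tt N9966 (iv F86164)) (tt N10104 (iv F134139)) (tt N10806 (iv F92218)) (tt N7403 F72785) (tt N7399 (iv D15970)) (tt N10434 (iv F90580)) (tt N7593 F72786) (tt N10809 D20431) (tt N10810 D20432) (tt N7515 F72787))
theorem Q8994 : ∀ i, i < 8994 → P i := stepQ 8993 Q8993 (allL N8993 (tt N9967 (iv F86168)) (tt N10755 (iv F91991)) (tt N10807 (iv F92222)) (tt N7401 F72788) (tt N10809 (iv F92230)) (tt N7400 F72789) (tt N10805 F134770) (tt N7399 (iv D15971)) (tt N10811 D20434) (tt N7516 F72790))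
theorem Q8995 : ∀ i, i < 8995 → P i := stepQ 8994 Q8994 (allL N8994 (tt N9968 (iv F86172)) (tt N10756 (iv F91995)) (tt N10808 (iv F92226)) (tt N7402 F72791) (tt N10810 (iv F92233)) (tt N10798 (iv F92166)) (tt N7594 F72792) (tt N10811 (iv F92239)) (tt N7399 (iv D15972)) (tt N10812 D20435))
theorem Q8996 : ∀ i, i < 8996 → P i := stepQ 8995 Q8995 (allL N8995 (tt N9969 (iv F86175)) (tt N7443 (iv F134128)) (tt N7446 F72793) (tt N10805 (iv F134117)) (tt N7406 F72794) (tt N10802 (iv F92198)) (tt N7401 (iv D15973)) (tt N7441 F133309) (tt N10813 D20436) (tt N7518 F72796))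
theorem Q8997 : ∀ i, i < 8997 → P i := stepQ 8996 Q8996 (allL N8996 (tt N9970 (iv F86180)) (tt N10757 (iv F92003)) (tt N7447 F72797) (tt N10811 (iv F92238)) (tt N7407 F72798) (tt N10800 (iv F92169)) (tt N10813 (iv F92245)) (tt N7402 F72799) (tt N7401 (iv D15974)) (tt N10814 D20437))
theorem Q8998 : ∀ i, i < 8998 → P i := stepQ 8997 Q8997 (allL N8997 (tt N9971 (iv F86184)) (tt N9671 (iv F134072)) (tt N7448 F72800) (tt N10812 (iv F92240)) (tt N7408 F72801) (tt N10801 (iv F92172)) (tt N7595 F72802) (tt N10814 (iv F92249)) (tt N7520 F72803) (tt N7402 (iv D15975)))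
theorem Q8999 : ∀ i, i < 8999 → P i := stepQ 8998 Q8998 (allL N8998 (tt N9972 (iv F86189)) (tt N10137 (iv F134069)) (tt N8998 F72804) (tt N10809 (iv F92229)) (tt N7404 F72805) (tt N10440 (iv F90601)) (tt N10463 (iv F134067)) (tt N7403 (iv D15976)) (tt N10815 D20439) (tt N7521 F72806))
theorem Q9000 : ∀ i, i < 9000 → P i := stepQ 8999 Q8999 (allL N8999 (tt N9973 (iv F86193)) (tt N10006 (iv F134151)) (tt N8999 F72807) (tt N10810 (iv F92232)) (tt N7405 F72808) (tt N10816 D20440) (tt N7596 F72809) (tt N10815 (iv F92257)) (tt N7403 (iv D15977)) (tt N10012 (iv F134330)))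
theorem Q9001 : ∀ i, i < 9001 → P i := stepQ 9000 Q9000 (allL N9000 (tt N9975 (iv F86203)) (tt N10050 (iv F134084)) (tt N9000 F72815) (tt N7407 F72816) (tt N10815 (iv F92256)) (tt N10609 (iv F91325)) (tt N10474 (iv F134077)) (tt N7405 F72817) (tt N7404 (iv D15979)) (tt N10057 (iv F134333)))
theorem Q9002 : ∀ i, i < 9002 → P i := stepQ 9001 Q9001 (allL N9001 (tt N9977 (iv F86212)) (tt N7467 (iv F134082)) (tt N7449 F72822) (tt N10474 (iv F134076)) (tt N10813 (iv F92244)) (tt N10817 D20444) (tt N7407 F72823) (tt N7465 F133323) (tt N7406 (iv D15981)) (tt N10818 D20445))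
theorem Q9003 : ∀ i, i < 9003 → P i := stepQ 9002 Q9002 (allL N9002 (tt N9978 (iv F86216)) (tt N9686 (iv F134078)) (tt N7450 F72825) (tt N10057 (iv F134332)) (tt N10814 (iv F92248)) (tt N10611 (iv F91336)) (tt N10818 (iv F92275)) (tt N7408 F72826) (tt N7523 F72827) (tt N7407 (iv D15982)))
theorem Q9004 : ∀ i, i < 9004 → P i := stepQ 9003 Q9003 (allL N9003 (tt N9979 (iv F86220)) (tt N7795 F72828) (tt N10819 D20446) (tt N7409 (iv D15983)) (tt N9003 F72829) (tt N7421 F72830) (tt N10820 D20447) (tt N7617 (iv F133901)) (tt N7633 F133517) (tt N7616 F133518))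
theorem Q9005 : ∀ i, i < 9005 → P i := stepQ 9004 Q9004 (allL N9004 (tt N9980 (iv F86227)) (tt N7796 F72834) (tt N9636 (iv F84390)) (tt N10820 (iv F92284)) (tt N7410 F72835) (tt N10821 D20448) (tt N7409 (iv D15984)) (tt N10822 D20449) (tt N7880 F72836) (tt N7778 F72837))
theorem Q9006 : ∀ i, i < 9006 → P i := stepQ 9005 Q9005 (allL N9005 (tt N9981 (iv F86232)) (tt N7797 F72838) (tt N9637 (iv F84395)) (tt N9005 F72839) (tt N10822 (iv F92293)) (tt N7413 F72840) (tt N7781 F72841) (tt N7410 (iv D15985)) (tt N7881 F72842) (tt N7779 F72843))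
theorem Q9007 : ∀ i, i < 9007 → P i := stepQ 9006 Q9006 (allL N9006 (tt N9982 (iv F86239)) (tt N7589 (iv F134125)) (tt N7411 (iv D15986)) (tt N10765 (iv F92072)) (tt N9006 F72844) (tt N7424 F72845) (tt N10823 D20451) (tt N7417 F72846) (tt N7569 F133316) (tt N9667 (iv F84550)))
theorem Q9008 : ∀ i, i < 9008 → P i := stepQ 9007 Q9007 (allL N9007 (tt N9983 (iv F86245)) (tt N7815 F72848) (tt N10823 (iv F92302)) (tt N7412 F72849) (tt N9007 F72850) (tt N10824 D20452) (tt N7411 (iv D15987)) (tt N10825 D20453) (tt N7599 F72851) (tt N9668 (iv F84556)))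
theorem Q9009 : ∀ i, i < 9009 → P i := stepQ 9008 Q9008 (allL N9008 (tt N9984 (iv F86251)) (tt N7816 F72852) (tt N10767 (iv F92078)) (tt N10824 (iv F92306)) (tt N10821 (iv F92289)) (tt N7412 (iv D15988)) (tt N7426 F72853) (tt N10826 D20454) (tt N10827 D20455) (tt N9669 (iv F84561)))
theorem Q9010 : ∀ i, i < 9010 → P i := stepQ 9009 Q9009 (allL N9009 (tt N9985 (iv F86255)) (tt N7817 F72854) (tt N10768 (iv F92080)) (tt N10825 (iv F92309)) (tt N7413 F72855) (tt N10826 (iv F92314)) (tt N7420 F72856) (tt N7412 (iv D15989)) (tt N7601 F72857) (tt N9670 (iv F84567)))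
theorem Q9011 : ∀ i, i < 9011 → P i := stepQ 9010 Q9010 (allL N9010 (tt N9986 (iv F86261)) (tt N10828 D20456) (tt N7414 (iv D15990)) (tt N10769 (iv F92084)) (tt N9010 F72858) (tt N7428 F72859) (tt N10829 D20457) (tt N9667 (iv F84548)) (tt N9010 F72860) (tt N7417 F72861))
theorem Q9012 : ∀ i, i < 9012 → P i := stepQ 9011 Q9011 (allL N9011 (tt N9987 (iv F86267)) (tt N7819 F72862) (tt N10829 (iv F92323)) (tt N7415 F72863) (tt N9011 F72864) (tt N10830 D20458) (tt N7414 (iv D15991)) (tt N10831 D20459) (tt N9011 F72865) (tt N7418 F72866))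
theorem Q9013 : ∀ i, i < 9013 → P i := stepQ 9012 Q9012 (allL N9012 (tt N9988 (iv F86273)) (tt N7820 F72867) (tt N10771 (iv F92091)) (tt N10830 (iv F92328)) (tt N10618 (iv F91369)) (tt N7415 (iv D15992)) (tt N7430 F72868) (tt N10832 D20460) (tt N10833 D20461) (tt N7419 F72869))
theorem Q9014 : ∀ i, i < 9014 → P i := stepQ 9013 Q9013 (allL N9013 (tt N9989 (iv F86277)) (tt N7821 F72870) (tt N10772 (iv F92094)) (tt N10831 (iv F92332)) (tt N7416 F72871) (tt N10832 (iv F92337)) (tt N9670 (iv F84565)) (tt N7415 (iv D15993)) (tt N9013 F72872) (tt N7420 F72873))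
theorem Q9015 : ∀ i, i < 9015 → P i := stepQ 9014 Q9014 (allL N9014 (tt N10235 (iv F134120)) (tt N7417 (iv D15994)) (tt N7613 (iv F133931)) (tt N10773 (iv F92098)) (tt N9014 F72875) (tt N7432 F72876) (tt N10834 D20463) (tt N7589 (iv F134126)) (tt N7588 F133301) (tt N10828 (iv F92322)))
theorem Q9016 : ∀ i, i < 9016 → P i := stepQ 9015 Q9015 (allL N9015 (tt N9991 (iv F86287)) (tt N10834 (iv F92346)) (tt N7418 F72878) (tt N10774 (iv F92102)) (tt N9015 F72879) (tt N10835 D20464) (tt N7417 (iv D15995)) (tt N10836 D20465) (tt N7602 F72880) (tt N10829 (iv F92326)))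
theorem Q9017 : ∀ i, i < 9017 → P i := stepQ 9016 Q9016 (allL N9016 (tt N9992 (iv F86291)) (tt N7823 F72881) (tt N10835 (iv F92350)) (tt N7419 F72882) (tt N10837 D20466) (tt N7418 (iv D15996)) (tt N7434 F72883) (tt N10838 D20467) (tt N10839 D20468) (tt N10830 (iv F92330)))
theorem Q9018 : ∀ i, i < 9018 → P i := stepQ 9017 Q9017 (allL N9017 (tt N9993 (iv F86295)) (tt N7824 F72884) (tt N10836 (iv F92352)) (tt N7420 F72885) (tt N9017 F72886) (tt N10838 (iv F92360)) (tt N10825 (iv F92311)) (tt N7418 (iv D15997)) (tt N7604 F72887) (tt N10831 (iv F92335)))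
theorem Q9019 : ∀ i, i < 9019 → P i := stepQ 9018 Q9018 (allL N9018 (tt N9994 (iv F86300)) (tt N7825 F72888) (tt N10777 (iv F92108)) (tt N10838 (iv F92359)) (tt N10624 (iv F91392)) (tt N7420 F72889) (tt N10840 D20469) (tt N7419 (iv D15998)) (tt N10841 D20470) (tt N10832 (iv F92338)))
theorem Q9020 : ∀ i, i < 9020 → P i := stepQ 9019 Q9019 (allL N9019 (tt N9995 (iv F86303)) (tt N7826 F72890) (tt N10778 (iv F92110)) (tt N10839 (iv F92362)) (tt N10625 (iv F91395)) (tt N7606 F72891) (tt N7437 F72892) (tt N10841 (iv F92369)) (tt N7419 (iv D15999)) (tt N10842 D20471))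
theorem Q9021 : ∀ i, i < 9021 → P i := stepQ 9020 Q9020 (allL N9020 (tt N9996 (iv F86307)) (tt N10843 D20472) (tt N7421 (iv D16000)) (tt N10779 (iv F92113)) (tt N7451 F72893) (tt N10819 (iv F92279)) (tt N10844 D20473) (tt N10626 (iv F91400)) (tt N9020 F72894) (tt N9602 (iv F84134)))
theorem Q9022 : ∀ i, i < 9022 → P i := stepQ 9021 Q9021 (allL N9021 (tt N9997 (iv F86311)) (tt N7828 F72895) (tt N10844 (iv F92376)) (tt N7422 F72896) (tt N7452 F72897) (tt N10845 D20474) (tt N7421 (iv D16001)) (tt N10846 D20475) (tt N9021 F72898) (tt N9603 (iv F84140)))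
theorem Q9023 : ∀ i, i < 9023 → P i := stepQ 9022 Q9022 (allL N9022 (tt N9998 (iv F86317)) (tt N7829 F72899) (tt N10781 (iv F92117)) (tt N10845 (iv F92380)) (tt N7426 F72900) (tt N7422 (iv D16002)) (tt N10821 (iv F92290)) (tt N10847 D20476) (tt N10848 D20477) (tt N9604 (iv F84145)))
theorem Q9024 : ∀ i, i < 9024 → P i := stepQ 9023 Q9023 (allL N9023 (tt N9999 (iv F86321)) (tt N7830 F72901) (tt N10782 (iv F92119)) (tt N10846 (iv F92382)) (tt N7423 F72902) (tt N10847 (iv F92387)) (tt N10629 (iv F91414)) (tt N7422 (iv D16003)) (tt N9023 F72903) (tt N9605 (iv F84151)))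
theorem Q9025 : ∀ i, i < 9025 → P i := stepQ 9024 Q9024 (allL N9024 (tt N10002 (iv F86336)) (tt N7809 F134489) (tt N10748 F134490) (tt N7426 F72912) (tt N10849 D20482) (tt N7425 (iv D16006)) (tt N10824 (iv F92307)) (tt N10850 D20483) (tt N7782 F134491) (tt N9672 (iv F84581)))
theorem Q9026 : ∀ i, i < 9026 → P i := stepQ 9025 Q9025 (allL N9025 (tt N10003 (iv F86340)) (tt N7812 F134487) (tt N10757 F134488) (tt N7427 F72914) (tt N7456 F72915) (tt N10850 (iv F92408)) (tt N7435 F72916) (tt N7425 (iv D16007)) (tt N7438 F72917) (tt N9673 (iv F84588)))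
theorem Q9027 : ∀ i, i < 9027 → P i := stepQ 9026 Q9026 (allL N9026 (tt N10004 (iv F86347)) (tt N7833 F72918) (tt N10785 (iv F92132)) (tt N10850 (iv F92407)) (tt N10847 (iv F92386)) (tt N7427 F72919) (tt N10851 D20485) (tt N7426 (iv D16008)) (tt N10852 D20486) (tt N9674 (iv F84592)))
theorem Q9028 : ∀ i, i < 9028 → P i := stepQ 9027 Q9027 (allL N9027 (tt N10005 (iv F86351)) (tt N7806 F134483) (tt N10786 (iv F92134)) (tt N7782 F134484) (tt N10848 (iv F92389)) (tt N7440 F72921) (tt N10827 (iv F92317)) (tt N10852 (iv F92416)) (tt N7426 (iv D16009)) (tt N10853 D20487))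
theorem Q9029 : ∀ i, i < 9029 → P i := stepQ 9028 Q9028 (allL N9028 (tt N10210 F133293) (tt N7428 (iv D16010)) (tt N7623 (iv F133936)) (tt N10787 (iv F92136)) (tt N7459 F72923) (tt N10828 (iv F92320)) (tt N10854 D20489) (tt N7595 F133294) (tt N7524 F72924) (tt N7432 F72925))
theorem Q9030 : ∀ i, i < 9030 → P i := stepQ 9029 Q9029 (allL N9029 (tt N10006 (iv F86359)) (tt N10854 (iv F92423)) (tt N7429 F72926) (tt N10788 (iv F92140)) (tt N7460 F72927) (tt N10855 D20490) (tt N7428 (iv D16011)) (tt N10856 D20491) (tt N7525 F72928) (tt N7433 F72929))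
theorem Q9031 : ∀ i, i < 9031 → P i := stepQ 9030 Q9030 (allL N9030 (tt N10007 (iv F86364)) (tt N7835 F72930) (tt N10855 (iv F92428)) (tt N7430 F72931) (tt N10857 D20492) (tt N7429 (iv D16012)) (tt N10830 (iv F92329)) (tt N10858 D20493) (tt N10859 D20494) (tt N7434 F72932))
theorem Q9032 : ∀ i, i < 9032 → P i := stepQ 9031 Q9031 (allL N9031 (tt N10008 (iv F86368)) (tt N7836 F72933) (tt N10856 (iv F92430)) (tt N7431 F72934) (tt N7462 F72935) (tt N10858 (iv F92439)) (tt N9673 (iv F84586)) (tt N7429 (iv D16013)) (tt N7527 F72936) (tt N7435 F72937))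
theorem Q9033 : ∀ i, i < 9033 → P i := stepQ 9032 Q9032 (allL N9032 (tt N10009 (iv F86375)) (tt N7837 F72938) (tt N10791 (iv F92148)) (tt N10858 (iv F92438)) (tt N10644 (iv F91471)) (tt N7431 F72939) (tt N10860 D20495) (tt N7430 (iv D16014)) (tt N10861 D20496) (tt N7436 F72940))
theorem Q9034 : ∀ i, i < 9034 → P i := stepQ 9033 Q9033 (allL N9033 (tt N10010 (iv F86379)) (tt N7838 F72941) (tt N10792 (iv F92151)) (tt N10859 (iv F92442)) (tt N10645 (iv F91475)) (tt N7529 F72942) (tt N10833 (iv F92341)) (tt N10861 (iv F92448)) (tt N7430 (iv D16015)) (tt N10862 D20497))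
theorem Q9035 : ∀ i, i < 9035 → P i := stepQ 9034 Q9034 (allL N9034 (tt N10252 (iv F134122)) (tt N7433 F72946) (tt N7622 (iv F133933)) (tt N10793 (iv F92156)) (tt N7465 F72948) (tt N10863 D20499) (tt N7432 (iv D16017)) (tt N10813 (iv F134127)) (tt N7441 F72949) (tt N10854 (iv F92427)))
theorem Q9036 : ∀ i, i < 9036 → P i := stepQ 9035 Q9035 (allL N9035 (tt N10013 (iv F86390)) (tt N10863 (iv F92456)) (tt N7434 F72950) (tt N10794 (iv F92159)) (tt N10864 D20501) (tt N7433 (iv D16018)) (tt N10835 (iv F92351)) (tt N10865 D20502) (tt N10866 D20503) (tt N10855 (iv F92429)))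
theorem Q9037 : ∀ i, i < 9037 → P i := stepQ 9036 Q9036 (allL N9036 (tt N10014 (iv F86392)) (tt N10813 F134728) (tt N7435 F72951) (tt N10795 (iv F92161)) (tt N7467 F72952) (tt N10865 (iv F92465)) (tt N10757 F134729) (tt N7433 (iv D16019)) (tt N7443 F72953) (tt N10856 (iv F92433)))
theorem Q9038 : ∀ i, i < 9038 → P i := stepQ 9037 Q9037 (allL N9037 (tt N10015 (iv F86396)) (tt N7841 F72954) (tt N10864 (iv F92462)) (tt N10650 (iv F91489)) (tt N7434 (iv D16020)) (tt N7468 F72955) (tt N10837 (iv F92357)) (tt N10867 D20504) (tt N10868 D20505) (tt N10857 (iv F92436)))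
theorem Q9039 : ∀ i, i < 9039 → P i := stepQ 9038 Q9038 (allL N9038 (tt N10016 (iv F86399)) (tt N7842 F72956) (tt N10865 (iv F92464)) (tt N7436 F72957) (tt N10867 (iv F92469)) (tt N7435 F72958) (tt N10869 D20506) (tt N7434 (iv D16021)) (tt N10870 D20507) (tt N10858 (iv F92440)))
theorem Q9040 : ∀ i, i < 9040 → P i := stepQ 9039 Q9039 (allL N9039 (tt N10017 (iv F86403)) (tt N7843 F72959) (tt N10866 (iv F92466)) (tt N7437 F72960) (tt N10868 (iv F92472)) (tt N7445 F72961) (tt N10839 (iv F92364)) (tt N10870 (iv F92479)) (tt N7434 (iv D16022)) (tt N10871 D20508))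
theorem Q9041 : ∀ i, i < 9041 → P i := stepQ 9040 Q9040 (allL N9040 (tt N10018 (iv F86407)) (tt N7844 F72962) (tt N10799 (iv F92167)) (tt N10869 (iv F92475)) (tt N10653 (iv F91498)) (tt N10851 (iv F92413)) (tt N7436 (iv D16023)) (tt N10840 (iv F92366)) (tt N10872 D20509) (tt N10860 (iv F92445)))
theorem Q9042 : ∀ i, i < 9042 → P i := stepQ 9041 Q9041 (allL N9041 (tt N10019 (iv F86409)) (tt N7845 F72963) (tt N10800 (iv F92168)) (tt N10870 (iv F92477)) (tt N10654 (iv F91500)) (tt N7447 F72964) (tt N10872 (iv F92484)) (tt N7437 F72965) (tt N7436 (iv D16024)) (tt N10873 D20510))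
theorem Q9043 : ∀ i, i < 9043 → P i := stepQ 9042 Q9042 (allL N9042 (tt N10020 (iv F86413)) (tt N7846 F72966) (tt N10801 (iv F92171)) (tt N10871 (iv F92481)) (tt N10655 (iv F91504)) (tt N7448 F72967) (tt N10842 (iv F92372)) (tt N10873 (iv F92487)) (tt N10862 (iv F92451)) (tt N7437 (iv D16025)))
theorem Q9044 : ∀ i, i < 9044 → P i := stepQ 9043 Q9043 (allL N9043 (tt N10022 (iv F86450)) (tt N7810 (iv F133913)) (tt N10802 (iv F92196)) (tt N7784 (iv F133880)) (tt N9043 F72997) (tt N7446 F72998) (tt N7439 (iv D16033)) (tt N7615 F72999) (tt N10874 D20522) (tt N7539 F73000))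
theorem Q9045 : ∀ i, i < 9045 → P i := stepQ 9044 Q9044 (allL N9044 (tt N10023 (iv F86456)) (tt N7807 F134481) (tt N10803 (iv F92201)) (tt N7783 F134482) (tt N9044 F73002) (tt N10852 (iv F92415)) (tt N10874 (iv F92533)) (tt N7440 F73003) (tt N7439 (iv D16034)) (tt N10875 D20523))
theorem Q9046 : ∀ i, i < 9046 → P i := stepQ 9045 Q9045 (allL N9045 (tt N10024 (iv F86460)) (tt N7802 F134485) (tt N10804 (iv F92204)) (tt N7780 F134486) (tt N9045 F73005) (tt N10853 (iv F92418)) (tt N7617 F73006) (tt N10875 (iv F92537)) (tt N7541 F73007) (tt N7440 (iv D16035)))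
theorem Q9047 : ∀ i, i < 9047 → P i := stepQ 9046 Q9046 (allL N9046 (tt N10240 F133306) (tt N7442 F73012) (tt N7615 F133307) (tt N10749 (iv F134093)) (tt N9046 F73014) (tt N7441 (iv D16037)) (tt N7590 F133308) (tt N10802 (iv F134112)) (tt N10876 D20527) (tt N7542 F73016))
theorem Q9048 : ∀ i, i < 9048 → P i := stepQ 9047 Q9047 (allL N9047 (tt N10028 (iv F86479)) (tt N10802 (iv F134111)) (tt N7444 F73021) (tt N10807 (iv F92223)) (tt N9047 F73022) (tt N7443 F73023) (tt N10752 (iv F134100)) (tt N7442 (iv D16039)) (tt N10877 D20529) (tt N7543 F73024))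
theorem Q9049 : ∀ i, i < 9049 → P i := stepQ 9048 Q9048 (allL N9048 (tt N10029 (iv F86484)) (tt N10876 (iv F92553)) (tt N7445 F73025) (tt N10808 (iv F92227)) (tt N9048 F73026) (tt N10866 (iv F92467)) (tt N7618 F73027) (tt N10877 (iv F92563)) (tt N7442 (iv D16040)) (tt N10878 D20530))
theorem Q9050 : ∀ i, i < 9050 → P i := stepQ 9049 Q9049 (allL N9049 (tt N10030 (iv F86488)) (tt N7811 (iv F133914)) (tt N10752 (iv F134099)) (tt N7446 F73029) (tt N9049 F73030) (tt N7784 (iv F133881)) (tt N7444 (iv D16041)) (tt N7619 F73031) (tt N10879 D20531) (tt N7545 F73032))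
theorem Q9051 : ∀ i, i < 9051 → P i := stepQ 9050 Q9050 (allL N9050 (tt N10031 (iv F86494)) (tt N7847 F73033) (tt N10877 (iv F92561)) (tt N7447 F73034) (tt N9050 F73035) (tt N10870 (iv F92478)) (tt N10879 (iv F92571)) (tt N7445 F73036) (tt N7444 (iv D16042)) (tt N10880 D20532))
theorem Q9052 : ∀ i, i < 9052 → P i := stepQ 9051 Q9051 (allL N9051 (tt N10032 (iv F86499)) (tt N7848 F73037) (tt N10878 (iv F92564)) (tt N7448 F73038) (tt N9051 F73039) (tt N10871 (iv F92482)) (tt N7621 F73040) (tt N10880 (iv F92576)) (tt N7547 F73041) (tt N7445 (iv D16043)))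
theorem Q9053 : ∀ i, i < 9053 → P i := stepQ 9052 Q9052 (allL N9052 (tt N10033 (iv F86505)) (tt N7840 F134536) (tt N10813 (iv F92243)) (tt N10879 (iv F92569)) (tt N7449 F73043) (tt N10881 D20533) (tt N7447 F73044) (tt N7622 F73045) (tt N7446 (iv D16044)) (tt N10882 D20534))
theorem Q9054 : ∀ i, i < 9054 → P i := stepQ 9053 Q9053 (allL N9053 (tt N10034 (iv F86510)) (tt N7849 F73046) (tt N10814 (iv F92247)) (tt N10880 (iv F92574)) (tt N7450 F73047) (tt N10873 (iv F92486)) (tt N10882 (iv F92582)) (tt N7448 F73048) (tt N7549 F73049) (tt N7447 (iv D16045)))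
theorem Q9055 : ∀ i, i < 9055 → P i := stepQ 9054 Q9054 (allL N9054 (tt N10035 (iv F86515)) (tt N7850 F73050) (tt N10817 (iv F92271)) (tt N9054 F73051) (tt N10883 D20535) (tt N7449 (iv D16046)) (tt N10676 (iv F91594)) (tt N7624 F73052) (tt N9054 F73053) (tt N10884 D20536))
theorem Q9056 : ∀ i, i < 9056 → P i := stepQ 9055 Q9055 (allL N9055 (tt N10036 (iv F86520)) (tt N7851 F73054) (tt N10818 (iv F92274)) (tt N9055 F73055) (tt N10882 (iv F92581)) (tt N10884 (iv F92590)) (tt N7450 F73056) (tt N7625 F73057) (tt N7551 F73058) (tt N7449 (iv D16047)))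
theorem Q9057 : ∀ i, i < 9057 → P i := stepQ 9056 Q9056 (allL N9056 (tt N10885 D20537) (tt N7451 (iv D16048)) (tt N7856 F73059) (tt N9854 (iv F85580)) (tt N10843 (iv F92374)) (tt N9056 F73060) (tt N10886 D20538) (tt N10678 (iv F91604)) (tt N9056 F73061) (tt N9617 (iv F84224)))
theorem Q9058 : ∀ i, i < 9058 → P i := stepQ 9057 Q9057 (allL N9057 (tt N10038 (iv F86531)) (tt N10886 (iv F92595)) (tt N7452 F73062) (tt N9855 (iv F85586)) (tt N10844 (iv F92377)) (tt N10887 D20539) (tt N7451 (iv D16049)) (tt N10888 D20540) (tt N9057 F73063) (tt N9618 (iv F84229)))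
theorem Q9059 : ∀ i, i < 9059 → P i := stepQ 9058 Q9058 (allL N9058 (tt N10039 (iv F86536)) (tt N7858 F73064) (tt N10887 (iv F92598)) (tt N7453 F73065) (tt N10889 D20541) (tt N7452 (iv D16050)) (tt N9058 F73066) (tt N10890 D20542) (tt N10891 D20543) (tt N9619 (iv F84235)))
theorem Q9060 : ∀ i, i < 9060 → P i := stepQ 9059 Q9059 (allL N9059 (tt N10040 (iv F86541)) (tt N7859 F73067) (tt N10888 (iv F92600)) (tt N7454 F73068) (tt N10846 (iv F92383)) (tt N10890 (iv F92607)) (tt N10681 (iv F91613)) (tt N7452 (iv D16051)) (tt N9059 F73069) (tt N9620 (iv F84240)))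
theorem Q9061 : ∀ i, i < 9061 → P i := stepQ 9060 Q9060 (allL N9060 (tt N10041 (iv F86546)) (tt N7860 F73070) (tt N9858 (iv F85601)) (tt N10890 (iv F92606)) (tt N7457 F73071) (tt N7454 F73072) (tt N10892 D20544) (tt N7453 (iv D16052)) (tt N10893 D20545) (tt N9621 (iv F84247)))
theorem Q9062 : ∀ i, i < 9062 → P i := stepQ 9061 Q9061 (allL N9061 (tt N10042 (iv F86552)) (tt N7684 F134643) (tt N9859 (iv F85607)) (tt N10891 (iv F92609)) (tt N7458 F73074) (tt N9061 F73075) (tt N9061 F73076) (tt N10893 (iv F92619)) (tt N7453 (iv D16053)) (tt N9061 F73077))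
theorem Q9063 : ∀ i, i < 9063 → P i := stepQ 9062 Q9062 (allL N9062 (tt N10045 (iv F86582)) (tt N7683 F134554) (tt N10561 F134555) (tt N10889 (iv F92603)) (tt N7455 (iv D16058)) (tt N10849 (iv F92405)) (tt N9062 F73091) (tt N10894 D20552) (tt N7658 F134556) (tt N9687 (iv F84678)))
theorem Q9064 : ∀ i, i < 9064 → P i := stepQ 9063 Q9063 (allL N9063 (tt N10046 (iv F86586)) (tt N7687 F134557) (tt N10565 F134558) (tt N7457 F73093) (tt N10894 (iv F92640)) (tt N7456 F73094) (tt N10895 D20554) (tt N7455 (iv D16059)) (tt N7660 F134559) (tt N9688 (iv F84684)))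
theorem Q9065 : ∀ i, i < 9065 → P i := stepQ 9064 Q9064 (allL N9064 (tt N10047 (iv F86597)) (tt N7862 F73100) (tt N10054 (iv F86649)) (tt N10895 (iv F92646)) (tt N10892 (iv F92614)) (tt N7470 F73101) (tt N7457 (iv D16061)) (tt N9064 F73102) (tt N10896 D20556) (tt N9689 (iv F84691)))
theorem Q9066 : ∀ i, i < 9066 → P i := stepQ 9065 Q9065 (allL N9065 (tt N10048 (iv F86603)) (tt N7685 F134641) (tt N10055 (iv F86655)) (tt N7660 F134642) (tt N10893 (iv F92617)) (tt N7471 F73104) (tt N10896 (iv F92656)) (tt N7458 F73105) (tt N7457 (iv D16062)) (tt N9065 F73106))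
theorem Q9067 : ∀ i, i < 9067 → P i := stepQ 9066 Q9066 (allL N9066 (tt N9922 F133318) (tt N7460 F73111) (tt N7625 (iv F133946)) (tt N9891 F133319) (tt N10854 (iv F92425)) (tt N10897 D20558) (tt N7459 (iv D16064)) (tt N10818 (iv F134146)) (tt N7552 F73113) (tt N7465 F73114))
theorem Q9068 : ∀ i, i < 9068 → P i := stepQ 9067 Q9067 (allL N9067 (tt N10049 (iv F86621)) (tt N10897 (iv F92663)) (tt N7461 F73115) (tt N10043 (iv F86573)) (tt N10898 D20560) (tt N7460 (iv D16065)) (tt N9067 F73116) (tt N10899 D20561) (tt N10536 (iv F134236)) (tt N7466 F73117))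
theorem Q9069 : ∀ i, i < 9069 → P i := stepQ 9068 Q9068 (allL N9068 (tt N10050 (iv F86626)) (tt N10818 F134147) (tt N7462 F73118) (tt N10044 (iv F86578)) (tt N10856 (iv F92431)) (tt N10899 (iv F92675)) (tt N9686 (iv F84671)) (tt N7460 (iv D16066)) (tt N7553 F73119) (tt N7467 F73120))
theorem Q9070 : ∀ i, i < 9070 → P i := stepQ 9069 Q9069 (allL N9069 (tt N10051 (iv F86632)) (tt N7864 F73121) (tt N10898 (iv F92671)) (tt N10704 (iv F91694)) (tt N7461 (iv D16067)) (tt N10857 (iv F92435)) (tt N9069 F73122) (tt N10900 D20563) (tt N10901 D20564) (tt N7468 F73123))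
theorem Q9071 : ∀ i, i < 9071 → P i := stepQ 9070 Q9070 (allL N9070 (tt N10052 (iv F86636)) (tt N7865 F73124) (tt N10899 (iv F92674)) (tt N7463 F73125) (tt N10900 (iv F92682)) (tt N7462 F73126) (tt N10902 D20565) (tt N7461 (iv D16068)) (tt N10903 D20566) (tt N7469 F73127))
theorem Q9072 : ∀ i, i < 9072 → P i := stepQ 9071 Q9071 (allL N9071 (tt N10053 (iv F86641)) (tt N7866 F73128) (tt N10536 F134282) (tt N7464 F73129) (tt N10901 (iv F92685)) (tt N7556 F73130) (tt N9071 F73131) (tt N10903 (iv F92696)) (tt N7461 (iv D16069)) (tt N9071 F73132))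
theorem Q9073 : ∀ i, i < 9073 → P i := stepQ 9072 Q9072 (allL N9072 (tt N10054 (iv F86647)) (tt N7867 F73133) (tt N10047 (iv F86599)) (tt N10902 (iv F92690)) (tt N10707 (iv F91707)) (tt N9689 (iv F84688)) (tt N7463 (iv D16070)) (tt N9072 F73134) (tt N10904 D20567) (tt N7470 F73135))
theorem Q9074 : ∀ i, i < 9074 → P i := stepQ 9073 Q9073 (allL N9073 (tt N10055 (iv F86653)) (tt N7868 F73136) (tt N10048 (iv F86605)) (tt N10903 (iv F92694)) (tt N10708 (iv F91711)) (tt N7557 F73137) (tt N10904 (iv F92700)) (tt N7464 F73138) (tt N7463 (iv D16071)) (tt N9073 F73139))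
theorem Q9075 : ∀ i, i < 9075 → P i := stepQ 9074 Q9074 (allL N9074 (tt N10254 (iv F134144)) (tt N7466 F73143) (tt N7624 (iv F133944)) (tt N10473 (iv F90725)) (tt N10905 D20570) (tt N7465 (iv D16073)) (tt N9074 F73145) (tt N10817 (iv F134145)) (tt N9074 F73146) (tt N10897 (iv F92666)))
theorem Q9076 : ∀ i, i < 9076 → P i := stepQ 9075 Q9075 (allL N9075 (tt N10058 (iv F86670)) (tt N10905 (iv F92710)) (tt N7468 F73150) (tt N10906 D20572) (tt N7466 (iv D16075)) (tt N10864 (iv F92463)) (tt N9075 F73151) (tt N10907 D20573) (tt N9075 F73152) (tt N10898 (iv F92673)))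
theorem Q9077 : ∀ i, i < 9077 → P i := stepQ 9076 Q9076 (allL N9076 (tt N10059 (iv F86674)) (tt N10817 F134727) (tt N7469 F73153) (tt N10476 (iv F90736)) (tt N10907 (iv F92721)) (tt N7467 F73154) (tt N10908 D20574) (tt N7466 (iv D16076)) (tt N9076 F73155) (tt N10899 (iv F92676)))
theorem Q9078 : ∀ i, i < 9078 → P i := stepQ 9077 Q9077 (allL N9077 (tt N10060 (iv F86678)) (tt N7870 F73156) (tt N10907 (iv F92720)) (tt N10714 (iv F91732)) (tt N7469 F73157) (tt N10867 (iv F92470)) (tt N10909 D20575) (tt N7468 (iv D16077)) (tt N9077 F73158) (tt N10900 (iv F92683)))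
theorem Q9079 : ∀ i, i < 9079 → P i := stepQ 9078 Q9078 (allL N9078 (tt N10061 (iv F86682)) (tt N7871 F73159) (tt N10908 (iv F92723)) (tt N7470 F73160) (tt N10909 (iv F92727)) (tt N10895 (iv F92647)) (tt N7469 (iv D16078)) (tt N9078 F73161) (tt N9078 F73162) (tt N10902 (iv F92692)))
theorem Q9080 : ∀ i, i < 9080 → P i := stepQ 9079 Q9079 (allL N9079 (tt N7483 F73231) (tt N10062 (iv F86776)) (tt N10301 (iv F134198)) (tt N7472 (iv D16095)) (tt N9882 (iv F85774)) (tt N9079 F73232) (tt N10910 D20595) (tt N9629 (iv F84350)) (tt N10722 (iv F91789)) (tt N7474 F73233))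
theorem Q9081 : ∀ i, i < 9081 → P i := stepQ 9080 Q9080 (allL N9080 (tt N7484 F73234) (tt N10063 (iv F86782)) (tt N7876 F73235) (tt N10910 (iv F92813)) (tt N7473 F73236) (tt N10522 (iv F134211)) (tt N7472 (iv D16096)) (tt N10911 D20597) (tt N10723 (iv F91794)) (tt N7475 F73237))
theorem Q9082 : ∀ i, i < 9082 → P i := stepQ 9081 Q9081 (allL N9081 (tt N7485 F73238) (tt N10064 (iv F86787)) (tt N7877 F73239) (tt N9884 (iv F85786)) (tt N10911 (iv F92822)) (tt N9081 F73240) (tt N9631 (iv F84362)) (tt N7473 (iv D16097)) (tt N10724 (iv F91798)) (tt N7476 F73241))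
theorem Q9083 : ∀ i, i < 9083 → P i := stepQ 9082 Q9082 (allL N9082 (tt N7487 F73246) (tt N10066 (iv F86800)) (tt N10120 (iv F134196)) (tt N7475 F73247) (tt N10070 (iv F86824)) (tt N10504 (iv F134203)) (tt N7474 (iv D16099)) (tt N10912 D20601) (tt N7480 F73248) (tt N10910 (iv F92814)))
theorem Q9084 : ∀ i, i < 9084 → P i := stepQ 9083 Q9083 (allL N9083 (tt N7489 F73253) (tt N10068 (iv F86810)) (tt N7878 F73254) (tt N10912 (iv F92835)) (tt N7476 F73255) (tt N10521 (iv F134210)) (tt N9693 (iv F84724)) (tt N7475 (iv D16101)) (tt N7481 F73256) (tt N10911 (iv F92823)))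
theorem Q9085 : ∀ i, i < 9085 → P i := stepQ 9084 Q9084 (allL N9084 (tt N7491 F73261) (tt N10070 (iv F86822)) (tt N10300 F133341) (tt N7478 F73262) (tt N10066 (iv F86802)) (tt N10306 F133342) (tt N7477 (iv D16103)) (tt N10913 D20607) (tt N9691 (iv F84714)) (tt N10728 (iv F91819)))
theorem Q9086 : ∀ i, i < 9086 → P i := stepQ 9085 Q9085 (allL N9085 (tt N7493 F73267) (tt N10072 (iv F86832)) (tt N7879 F73268) (tt N10913 (iv F92856)) (tt N7479 F73269) (tt N10157 F133343) (tt N7481 F73270) (tt N7478 (iv D16105)) (tt N9693 (iv F84725)) (tt N10729 (iv F91829)))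
theorem Q9087 : ∀ i, i < 9087 → P i := stepQ 9086 Q9086 (allL N9086 (tt N7497 F73279) (tt N10076 (iv F86848)) (tt N10119 (iv F134194)) (tt N7481 F73280) (tt N10480 (iv F90763)) (tt N10117 (iv F134202)) (tt N10913 (iv F92857)) (tt N7480 (iv D16109)) (tt N10912 (iv F92836)) (tt N10730 (iv F91843)))
theorem Q9088 : ∀ i, i < 9088 → P i := stepQ 9087 Q9087 (allL N9087 (tt N10301 (iv F134197)) (tt N10914 D20632) (tt N7483 (iv D16121)) (tt N7628 (iv F133973)) (tt N9909 (iv F85920)) (tt N9087 F73324) (tt N10915 D20633) (tt N9638 (iv F84404)) (tt N10739 (iv F91916)) (tt N7486 F73325))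
theorem Q9089 : ∀ i, i < 9089 → P i := stepQ 9088 Q9088 (allL N9088 (tt N10910 (iv F92812)) (tt N7500 F73326) (tt N10915 (iv F92960)) (tt N7484 F73327) (tt N9910 (iv F85926)) (tt N10916 D20634) (tt N7483 (iv D16122)) (tt N10917 D20635) (tt N10740 (iv F91920)) (tt N7487 F73328))
theorem Q9090 : ∀ i, i < 9090 → P i := stepQ 9089 Q9089 (allL N9089 (tt N10522 F134578) (tt N7501 F73329) (tt N7884 F73330) (tt N10916 (iv F92964)) (tt N9089 F73331) (tt N7484 (iv D16123)) (tt N9089 F73332) (tt N10918 D20636) (tt N10919 D20637) (tt N7488 F73333))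
theorem Q9091 : ∀ i, i < 9091 → P i := stepQ 9090 Q9090 (allL N9090 (tt N10911 (iv F92820)) (tt N7502 F73334) (tt N7885 F73335) (tt N10917 (iv F92968)) (tt N7485 F73336) (tt N10918 (iv F92973)) (tt N9641 (iv F84418)) (tt N7484 (iv D16124)) (tt N10742 (iv F91928)) (tt N7489 F73337))
theorem Q9092 : ∀ i, i < 9092 → P i := stepQ 9091 Q9091 (allL N9091 (tt N10298 F133373) (tt N7486 (iv D16125)) (tt N7503 F73338) (tt N7626 F133374) (tt N10087 (iv F86957)) (tt N9091 F73340) (tt N10920 D20639) (tt N7630 F133372) (tt N7494 F73341) (tt N10914 (iv F92959)))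
theorem Q9093 : ∀ i, i < 9093 → P i := stepQ 9092 Q9092 (allL N9092 (tt N10120 (iv F134195)) (tt N10920 (iv F92983)) (tt N7487 F73342) (tt N7511 (iv F133964)) (tt N10088 (iv F86963)) (tt N9715 (iv F134207)) (tt N7486 (iv D16126)) (tt N10921 D20641) (tt N7495 F73344) (tt N10915 (iv F92962)))
theorem Q9094 : ∀ i, i < 9094 → P i := stepQ 9093 Q9093 (allL N9093 (tt N10504 F134573) (tt N7505 F73345) (tt N9715 F134574) (tt N7488 F73346) (tt N10922 D20642) (tt N7487 (iv D16127)) (tt N9093 F73347) (tt N10923 D20643) (tt N9711 F134575) (tt N10916 (iv F92966)))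
theorem Q9095 : ∀ i, i < 9095 → P i := stepQ 9094 Q9094 (allL N9094 (tt N10912 (iv F92834)) (tt N7506 F73348) (tt N10921 (iv F92990)) (tt N7489 F73349) (tt N10090 (iv F86970)) (tt N10923 (iv F92998)) (tt N9700 (iv F84769)) (tt N7487 (iv D16128)) (tt N7497 F73350) (tt N10917 (iv F92969)))
theorem Q9096 : ∀ i, i < 9096 → P i := stepQ 9095 Q9095 (allL N9095 (tt N10521 F134576) (tt N7507 F73351) (tt N7886 F73352) (tt N10923 (iv F92997)) (tt N9095 F73353) (tt N7489 F73354) (tt N10924 D20645) (tt N7488 (iv D16129)) (tt N9726 F134577) (tt N10918 (iv F92974)))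
theorem Q9097 : ∀ i, i < 9097 → P i := stepQ 9096 Q9096 (allL N9096 (tt N10300 F133344) (tt N7513 F133348) (tt N7491 F73364) (tt N7542 F133349) (tt N10082 (iv F86936)) (tt N7512 F133350) (tt N7490 (iv D16132)) (tt N10925 D20651) (tt N9698 (iv F84762)) (tt N10749 (iv F91954)))
theorem Q9098 : ∀ i, i < 9098 → P i := stepQ 9097 Q9097 (allL N9097 (tt N10306 F133345) (tt N7495 F133351) (tt N7512 F133352) (tt N7492 F73367) (tt N10488 (iv F134056)) (tt N7491 (iv D16133)) (tt N7494 F133353) (tt N10926 D20653) (tt N10920 (iv F134173)) (tt N10750 (iv F91958)))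
theorem Q9099 : ∀ i, i < 9099 → P i := stepQ 9098 Q9098 (allL N9098 (tt N10913 (iv F92855)) (tt N7509 F73369) (tt N10925 (iv F93027)) (tt N7493 F73370) (tt N10084 (iv F86943)) (tt N10926 (iv F93035)) (tt N7497 F73371) (tt N7491 (iv D16134)) (tt N9700 (iv F84770)) (tt N10751 (iv F91962)))
theorem Q9100 : ∀ i, i < 9100 → P i := stepQ 9099 Q9099 (allL N9099 (tt N10157 F133356) (tt N7510 F73372) (tt N7545 F133357) (tt N10926 (iv F93034)) (tt N9099 F73374) (tt N7493 F73375) (tt N7543 F133358) (tt N7492 (iv D16135)) (tt N10927 D20656) (tt N10752 (iv F91967)))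
theorem Q9101 : ∀ i, i < 9101 → P i := stepQ 9100 Q9100 (allL N9100 (tt N10311 F133383) (tt N7511 F73376) (tt N7635 F133384) (tt N10920 (iv F134171)) (tt N9100 F73378) (tt N9702 (iv F84778)) (tt N7626 F73379) (tt N10927 (iv F93047)) (tt N7492 (iv D16136)) (tt N10928 D20657))
theorem Q9102 : ∀ i, i < 9102 → P i := stepQ 9101 Q9101 (allL N9101 (tt N10119 (iv F134193)) (tt N10926 (iv F134168)) (tt N7497 F73389) (tt N7510 (iv F133976)) (tt N10489 (iv F90822)) (tt N7509 (iv F134165)) (tt N10925 (iv F93029)) (tt N7495 (iv D16140)) (tt N10921 (iv F92992)) (tt N10754 (iv F91986)))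
theorem Q9103 : ∀ i, i < 9103 → P i := stepQ 9102 Q9102 (allL N9102 (tt N10117 (iv F134200)) (tt N7516 F73394) (tt N7509 (iv F134164)) (tt N7498 F73395) (tt N10110 (iv F134061)) (tt N7497 F73396) (tt N7514 (iv F134059)) (tt N7496 (iv D16142)) (tt N9712 (iv F134216)) (tt N10755 (iv F91994)))
theorem Q9104 : ∀ i, i < 9104 → P i := stepQ 9103 Q9103 (allL N9103 (tt N10207 F133381) (tt N7499 (iv D16157)) (tt N10914 (iv F92956)) (tt N7524 F73449) (tt N9956 (iv F86121)) (tt N9103 F73450) (tt N10929 D20686) (tt N7631 F133382) (tt N10787 (iv F92137)) (tt N7503 F73451))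
theorem Q9105 : ∀ i, i < 9105 → P i := stepQ 9104 Q9104 (allL N9104 (tt N10104 (iv F87064)) (tt N10929 (iv F93159)) (tt N7500 F73452) (tt N7525 F73453) (tt N9957 (iv F86128)) (tt N10930 D20687) (tt N7499 (iv D16158)) (tt N10931 D20688) (tt N10788 (iv F92141)) (tt N7504 F73454))
theorem Q9106 : ∀ i, i < 9106 → P i := stepQ 9105 Q9105 (allL N9105 (tt N10105 (iv F87069)) (tt N10916 (iv F92963)) (tt N10930 (iv F93162)) (tt N7501 F73455) (tt N10932 D20689) (tt N7500 (iv D16159)) (tt N9105 F73456) (tt N10933 D20690) (tt N10934 D20691) (tt N7505 F73457))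
theorem Q9107 : ∀ i, i < 9107 → P i := stepQ 9106 Q9106 (allL N9106 (tt N10106 (iv F87073)) (tt N10917 (iv F92967)) (tt N10931 (iv F93166)) (tt N7502 F73458) (tt N9959 (iv F86136)) (tt N10933 (iv F93173)) (tt N9658 (iv F84508)) (tt N7500 (iv D16160)) (tt N10790 (iv F92146)) (tt N7506 F73459))
theorem Q9108 : ∀ i, i < 9108 → P i := stepQ 9107 Q9107 (allL N9107 (tt N10107 (iv F87078)) (tt N10918 (iv F92970)) (tt N7528 F73460) (tt N10933 (iv F93172)) (tt N9107 F73461) (tt N7502 F73462) (tt N10935 D20692) (tt N7501 (iv D16161)) (tt N10936 D20693) (tt N7507 F73463))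
theorem Q9109 : ∀ i, i < 9109 → P i := stepQ 9108 Q9108 (allL N9108 (tt N10108 (iv F87083)) (tt N10919 (iv F92975)) (tt N7529 F73464) (tt N10934 (iv F93175)) (tt N9108 F73465) (tt N10792 (iv F92152)) (tt N9108 F73466) (tt N10936 (iv F93183)) (tt N7501 (iv D16162)) (tt N10937 D20694))
theorem Q9110 : ∀ i, i < 9110 → P i := stepQ 9109 Q9109 (allL N9109 (tt N10097 F133379) (tt N7504 F73470) (tt N10920 (iv F92984)) (tt N7530 F73471) (tt N10075 F133380) (tt N10938 D20696) (tt N7503 (iv D16164)) (tt N10939 D20697) (tt N7512 F73472) (tt N10929 (iv F93161)))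
theorem Q9111 : ∀ i, i < 9111 → P i := stepQ 9110 Q9110 (allL N9110 (tt N10109 (iv F87097)) (tt N10938 (iv F93191)) (tt N7505 F73473) (tt N7531 F73474) (tt N10479 F134214) (tt N7504 (iv D16165)) (tt N9110 F73475) (tt N10940 D20699) (tt N10941 D20700) (tt N10930 (iv F93165)))
theorem Q9112 : ∀ i, i < 9112 → P i := stepQ 9111 Q9111 (allL N9111 (tt N10110 (iv F87101)) (tt N10939 (iv F93194)) (tt N7506 F73476) (tt N7532 F73477) (tt N10117 (iv F87150)) (tt N10940 (iv F93201)) (tt N9712 (iv F84825)) (tt N7504 (iv D16166)) (tt N7514 F73478) (tt N10931 (iv F93168)))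
theorem Q9113 : ∀ i, i < 9113 → P i := stepQ 9112 Q9112 (allL N9112 (tt N10111 (iv F87107)) (tt N10922 (iv F92993)) (tt N10479 F134841) (tt N9112 F73479) (tt N7505 (iv D16167)) (tt N10118 (iv F87155)) (tt N9112 F73480) (tt N10942 D20701) (tt N10943 D20702) (tt N10932 (iv F93171)))
theorem Q9114 : ∀ i, i < 9114 → P i := stepQ 9113 Q9113 (allL N9113 (tt N10112 (iv F87111)) (tt N10923 (iv F92996)) (tt N10940 (iv F93199)) (tt N7507 F73481) (tt N10942 (iv F93207)) (tt N7506 F73482) (tt N10944 D20703) (tt N7505 (iv D16168)) (tt N10945 D20704) (tt N10933 (iv F93174)))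
theorem Q9115 : ∀ i, i < 9115 → P i := stepQ 9114 Q9114 (allL N9114 (tt N10113 (iv F87114)) (tt N9711 (iv F134247)) (tt N10941 (iv F93202)) (tt N7508 F73483) (tt N10943 (iv F93209)) (tt N7517 F73484) (tt N9114 F73485) (tt N10945 (iv F93215)) (tt N7505 (iv D16169)) (tt N10946 D20705))
theorem Q9116 : ∀ i, i < 9116 → P i := stepQ 9115 Q9115 (allL N9115 (tt N10114 (iv F87118)) (tt N10924 (iv F93003)) (tt N7536 F73486) (tt N10944 (iv F93211)) (tt N9115 F73487) (tt N9716 (iv F84841)) (tt N7507 (iv D16170)) (tt N9115 F73488) (tt N10947 D20706) (tt N10935 (iv F93180)))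
theorem Q9117 : ∀ i, i < 9117 → P i := stepQ 9116 Q9116 (allL N9116 (tt N10115 (iv F87123)) (tt N9726 (iv F134249)) (tt N7537 F73489) (tt N10945 (iv F93213)) (tt N9116 F73490) (tt N7519 F73491) (tt N10947 (iv F93221)) (tt N7508 F73492) (tt N7507 (iv D16171)) (tt N10948 D20707))
theorem Q9118 : ∀ i, i < 9118 → P i := stepQ 9117 Q9117 (allL N9117 (tt N10116 (iv F87128)) (tt N9676 (iv F134250)) (tt N7538 F73493) (tt N10946 (iv F93216)) (tt N9117 F73494) (tt N7520 F73495) (tt N9117 F73496) (tt N10948 (iv F93226)) (tt N10937 (iv F93187)) (tt N7508 (iv D16172)))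
theorem Q9119 : ∀ i, i < 9119 → P i := stepQ 9118 Q9118 (allL N9118 (tt N10121 (iv F87164)) (tt N7543 F133388) (tt N7539 F73514) (tt N10925 (iv F134161)) (tt N9118 F73515) (tt N7518 F73516) (tt N7510 (iv D16180)) (tt N7542 F133389) (tt N10949 D20719) (tt N10802 (iv F92200)))
theorem Q9120 : ∀ i, i < 9120 → P i := stepQ 9119 Q9119 (allL N9119 (tt N10122 (iv F87169)) (tt N10927 (iv F93044)) (tt N7540 F73518) (tt N10921 F134579) (tt N9119 F73519) (tt N9717 (iv F84846)) (tt N10949 (iv F93257)) (tt N7511 F73520) (tt N7510 (iv D16181)) (tt N10950 D20720))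
theorem Q9121 : ∀ i, i < 9121 → P i := stepQ 9120 Q9120 (allL N9120 (tt N10123 (iv F87174)) (tt N10928 (iv F93048)) (tt N7541 F73521) (tt N10915 F134580) (tt N9120 F73522) (tt N9718 (iv F84851)) (tt N7628 F73523) (tt N10950 (iv F93261)) (tt N10804 (iv F92207)) (tt N7511 (iv D16182)))
theorem Q9122 : ∀ i, i < 9122 → P i := stepQ 9121 Q9121 (allL N9121 (tt N10131 (iv F134223)) (tt N7514 F73529) (tt N10926 (iv F134169)) (tt N7518 F133387) (tt N10501 (iv F90892)) (tt N10925 (iv F134167)) (tt N7516 (iv F134224)) (tt N7512 (iv D16185)) (tt N10939 (iv F93196)) (tt N10805 (iv F92217)))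
theorem Q9123 : ∀ i, i < 9123 → P i := stepQ 9122 Q9122 (allL N9122 (tt N10127 (iv F87187)) (tt N10082 F133435) (tt N7515 F73531) (tt N9122 F73532) (tt N7513 (iv D16186)) (tt N10502 (iv F90895)) (tt N7629 F73533) (tt N10951 D20726) (tt N10094 (iv F134276)) (tt N10806 (iv F92221)))
theorem Q9124 : ∀ i, i < 9124 → P i := stepQ 9123 Q9123 (allL N9123 (tt N10128 (iv F87191)) (tt N10925 (iv F134166)) (tt N7516 F73534) (tt N7543 F73535) (tt N10951 (iv F93278)) (tt N7514 F73536) (tt N10926 (iv F134163)) (tt N7513 (iv D16187)) (tt N10952 D20729) (tt N10807 (iv F92225)))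
theorem Q9125 : ∀ i, i < 9125 → P i := stepQ 9124 Q9124 (allL N9124 (tt N10129 (iv F87195)) (tt N9698 F133436) (tt N7517 F73537) (tt N7544 F73538) (tt N10094 (iv F134275)) (tt N10941 (iv F93204)) (tt N7630 F73539) (tt N10952 (iv F93288)) (tt N7513 (iv D16188)) (tt N10953 D20730))
theorem Q9126 : ∀ i, i < 9126 → P i := stepQ 9125 Q9125 (allL N9125 (tt N10130 (iv F87199)) (tt N10110 (iv F134060)) (tt N10951 (iv F93276)) (tt N7521 F73540) (tt N7516 F73541) (tt N10505 (iv F90905)) (tt N10501 (iv F134058)) (tt N7515 (iv D16189)) (tt N10126 (iv F134280)) (tt N10809 (iv F92231)))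
theorem Q9127 : ∀ i, i < 9127 → P i := stepQ 9126 Q9126 (allL N9126 (tt N10132 (iv F87209)) (tt N9712 (iv F134215)) (tt N10952 (iv F93286)) (tt N7519 F73547) (tt N10126 (iv F134279)) (tt N10945 (iv F93214)) (tt N10939 (iv F134213)) (tt N7517 F73548) (tt N7516 (iv D16192)) (tt N10954 D20736))
theorem Q9128 : ∀ i, i < 9128 → P i := stepQ 9127 Q9127 (allL N9127 (tt N10133 (iv F87212)) (tt N9656 (iv F134248)) (tt N10953 (iv F93289)) (tt N7520 F73549) (tt N9963 (iv F134281)) (tt N10946 (iv F93217)) (tt N7631 F73550) (tt N10954 (iv F93306)) (tt N10812 (iv F92242)) (tt N7517 (iv D16193)))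
theorem Q9129 : ∀ i, i < 9129 → P i := stepQ 9128 Q9128 (allL N9128 (tt N10103 F133390) (tt N7532 F133419) (tt N7548 F73551) (tt N10939 (iv F134212)) (tt N7522 F73552) (tt N10955 D20737) (tt N7519 F73553) (tt N7530 F133420) (tt N7518 (iv D16194)) (tt N10956 D20738))
theorem Q9130 : ∀ i, i < 9130 → P i := stepQ 9129 Q9129 (allL N9129 (tt N10134 (iv F87220)) (tt N9677 (iv F134068)) (tt N7549 F73555) (tt N10954 (iv F93305)) (tt N7523 F73556) (tt N10948 (iv F93225)) (tt N10956 (iv F93311)) (tt N7520 F73557) (tt N10814 (iv F92250)) (tt N7519 (iv D16195)))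
theorem Q9131 : ∀ i, i < 9131 → P i := stepQ 9130 Q9130 (allL N9130 (tt N9921 F133440) (tt N7553 F133443) (tt N7551 F73581) (tt N9890 F133441) (tt N10956 (iv F93310)) (tt N9889 F133442) (tt N7523 F73582) (tt N7552 F133444) (tt N10818 (iv F92277)) (tt N7522 (iv D16203)))
theorem Q9132 : ∀ i, i < 9132 → P i := stepQ 9131 Q9131 (allL N9131 (tt N9920 F133421) (tt N7525 F73588) (tt N7638 (iv F133995)) (tt N10929 (iv F93160)) (tt N7552 F73590) (tt N10957 D20750) (tt N7524 (iv D16205)) (tt N10956 (iv F134259)) (tt N10854 (iv F92426)) (tt N7530 F73591))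
theorem Q9133 : ∀ i, i < 9133 → P i := stepQ 9132 Q9132 (allL N9132 (tt N10136 (iv F87270)) (tt N10957 (iv F93356)) (tt N7526 F73592) (tt N10930 (iv F93163)) (tt N10396 F134261) (tt N7525 (iv D16206)) (tt N9132 F73593) (tt N10958 D20753) (tt N10959 D20754) (tt N7531 F73594))
theorem Q9134 : ∀ i, i < 9134 → P i := stepQ 9133 Q9133 (allL N9133 (tt N10137 (iv F87274)) (tt N10956 (iv F134258)) (tt N7527 F73595) (tt N10931 (iv F93167)) (tt N7553 F73596) (tt N10958 (iv F93369)) (tt N9677 (iv F84614)) (tt N7525 (iv D16207)) (tt N10856 (iv F92432)) (tt N7532 F73597))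
theorem Q9135 : ∀ i, i < 9135 → P i := stepQ 9134 Q9134 (allL N9134 (tt N10138 (iv F87279)) (tt N7910 F73598) (tt N10396 F134264) (tt N9134 F73599) (tt N7526 (iv D16208)) (tt N7554 F73600) (tt N9134 F73601) (tt N10960 D20755) (tt N10961 D20756) (tt N7533 F73602))
theorem Q9136 : ∀ i, i < 9136 → P i := stepQ 9135 Q9135 (allL N9135 (tt N10139 (iv F87285)) (tt N7911 F73603) (tt N10958 (iv F93368)) (tt N7528 F73604) (tt N10960 (iv F93375)) (tt N7527 F73605) (tt N10962 D20757) (tt N7526 (iv D16209)) (tt N10963 D20758) (tt N7534 F73606))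
theorem Q9137 : ∀ i, i < 9137 → P i := stepQ 9136 Q9136 (allL N9136 (tt N10140 (iv F87290)) (tt N7912 F73607) (tt N10959 (iv F93371)) (tt N7529 F73608) (tt N10961 (iv F93380)) (tt N10859 (iv F92443)) (tt N9136 F73609) (tt N10963 (iv F93389)) (tt N7526 (iv D16210)) (tt N10964 D20759))
theorem Q9138 : ∀ i, i < 9138 → P i := stepQ 9137 Q9137 (allL N9137 (tt N10141 (iv F87294)) (tt N7913 F73610) (tt N10935 (iv F93177)) (tt N10962 (iv F93384)) (tt N9137 F73611) (tt N9680 (iv F84630)) (tt N7528 (iv D16211)) (tt N9137 F73612) (tt N10965 D20760) (tt N7536 F73613))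
theorem Q9139 : ∀ i, i < 9139 → P i := stepQ 9138 Q9138 (allL N9138 (tt N10142 (iv F87300)) (tt N7914 F73614) (tt N10936 (iv F93181)) (tt N10963 (iv F93388)) (tt N9138 F73615) (tt N10861 (iv F92447)) (tt N10965 (iv F93396)) (tt N7529 F73616) (tt N7528 (iv D16212)) (tt N10966 D20761))
theorem Q9140 : ∀ i, i < 9140 → P i := stepQ 9139 Q9139 (allL N9139 (tt N10143 (iv F87304)) (tt N7915 F73617) (tt N10937 (iv F93184)) (tt N10964 (iv F93391)) (tt N9139 F73618) (tt N10862 (iv F92450)) (tt N9139 F73619) (tt N10966 (iv F93400)) (tt N7538 F73620) (tt N7529 (iv D16213)))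
theorem Q9141 : ∀ i, i < 9141 → P i := stepQ 9140 Q9140 (allL N9140 (tt N9705 F133418) (tt N7531 F73625) (tt N7637 (iv F134001)) (tt N10938 (iv F93192)) (tt N9694 (iv F134225)) (tt N7530 (iv D16215)) (tt N9140 F73627) (tt N10955 (iv F134257)) (tt N10967 D20766) (tt N10957 (iv F93359)))
theorem Q9142 : ∀ i, i < 9142 → P i := stepQ 9141 Q9141 (allL N9141 (tt N10144 (iv F87326)) (tt N10955 F134262) (tt N7534 F73635) (tt N10940 (iv F93200)) (tt N10483 F134263) (tt N7532 F73636) (tt N10968 D20770) (tt N7531 (iv D16218)) (tt N10969 D20771) (tt N10958 (iv F93370)))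
theorem Q9143 : ∀ i, i < 9143 → P i := stepQ 9142 Q9142 (allL N9142 (tt N10145 (iv F87329)) (tt N10967 (iv F93416)) (tt N7535 F73637) (tt N10941 (iv F93203)) (tt N10484 (iv F134230)) (tt N7544 F73638) (tt N9142 F73639) (tt N10969 (iv F93434)) (tt N7531 (iv D16219)) (tt N10970 D20772))
theorem Q9144 : ∀ i, i < 9144 → P i := stepQ 9143 Q9143 (allL N9143 (tt N10146 (iv F87333)) (tt N7918 F73640) (tt N10483 F134886) (tt N9143 F73641) (tt N7534 F73642) (tt N7558 F73643) (tt N10971 D20773) (tt N7533 (iv D16220)) (tt N10972 D20774) (tt N10960 (iv F93377)))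
theorem Q9145 : ∀ i, i < 9145 → P i := stepQ 9144 Q9144 (allL N9144 (tt N10147 (iv F87338)) (tt N7919 F73644) (tt N10484 F134628) (tt N9144 F73645) (tt N7535 F73646) (tt N9144 F73647) (tt N9144 F73648) (tt N10972 (iv F93447)) (tt N7533 (iv D16221)) (tt N10973 D20775))
theorem Q9146 : ∀ i, i < 9146 → P i := stepQ 9145 Q9145 (allL N9145 (tt N10148 (iv F87344)) (tt N7920 F73649) (tt N10968 (iv F93430)) (tt N7536 F73650) (tt N10971 (iv F93440)) (tt N9727 (iv F84911)) (tt N7534 (iv D16222)) (tt N9145 F73651) (tt N10974 D20776) (tt N10962 (iv F93386)))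
theorem Q9147 : ∀ i, i < 9147 → P i := stepQ 9146 Q9146 (allL N9146 (tt N10149 (iv F87349)) (tt N7921 F73652) (tt N10969 (iv F93432)) (tt N7537 F73653) (tt N10972 (iv F93445)) (tt N7546 F73654) (tt N10974 (iv F93455)) (tt N7535 F73655) (tt N7534 (iv D16223)) (tt N10975 D20777))
theorem Q9148 : ∀ i, i < 9148 → P i := stepQ 9147 Q9147 (allL N9147 (tt N10150 (iv F87354)) (tt N7922 F73656) (tt N10970 (iv F93435)) (tt N7538 F73657) (tt N10973 (iv F93450)) (tt N7547 F73658) (tt N9147 F73659) (tt N10975 (iv F93460)) (tt N10964 (iv F93393)) (tt N7535 (iv D16224)))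
theorem Q9149 : ∀ i, i < 9149 → P i := stepQ 9148 Q9148 (allL N9148 (tt N10151 (iv F87359)) (tt N7923 F73660) (tt N10947 (iv F93219)) (tt N10974 (iv F93454)) (tt N9148 F73661) (tt N10976 D20778) (tt N7537 F73662) (tt N9148 F73663) (tt N7536 (iv D16225)) (tt N10977 D20779))
theorem Q9150 : ∀ i, i < 9150 → P i := stepQ 9149 Q9149 (allL N9149 (tt N10152 (iv F87364)) (tt N7924 F73664) (tt N10948 (iv F93223)) (tt N10975 (iv F93458)) (tt N9149 F73665) (tt N7549 F73666) (tt N10977 (iv F93466)) (tt N7538 F73667) (tt N10966 (iv F93401)) (tt N7537 (iv D16226)))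
theorem Q9151 : ∀ i, i < 9151 → P i := stepQ 9150 Q9150 (allL N9150 (tt N10153 (iv F87419)) (tt N7891 F133428) (tt N10949 (iv F93255)) (tt N7883 F133429) (tt N9150 F73705) (tt N10978 D20796) (tt N7540 F73706) (tt N7632 F73707) (tt N7539 (iv D16238)) (tt N10979 D20797))
theorem Q9152 : ∀ i, i < 9152 → P i := stepQ 9151 Q9151 (allL N9151 (tt N10154 (iv F87424)) (tt N7896 F134585) (tt N10950 (iv F93259)) (tt N7885 F134586) (tt N9151 F73709) (tt N9729 (iv F84933)) (tt N10979 (iv F93529)) (tt N7541 F73710) (tt N10875 (iv F92538)) (tt N7540 (iv D16239)))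
theorem Q9153 : ∀ i, i < 9153 → P i := stepQ 9152 Q9152 (allL N9152 (tt N10302 F133431) (tt N7544 F73722) (tt N7632 F133432) (tt N9698 F133430) (tt N9152 F73724) (tt N10967 (iv F93418)) (tt N7627 F133433) (tt N10949 (iv F134219)) (tt N7542 (iv D16243)) (tt N10980 D20802))
theorem Q9154 : ∀ i, i < 9154 → P i := stepQ 9153 Q9153 (allL N9153 (tt N10158 (iv F87450)) (tt N10949 (iv F134218)) (tt N7546 F73729) (tt N10952 (iv F93287)) (tt N9153 F73730) (tt N10969 (iv F93433)) (tt N10927 (iv F134176)) (tt N7544 F73731) (tt N7543 (iv D16245)) (tt N10981 D20804))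
theorem Q9155 : ∀ i, i < 9155 → P i := stepQ 9154 Q9154 (allL N9154 (tt N10159 (iv F87454)) (tt N10980 (iv F93547)) (tt N7547 F73732) (tt N10953 (iv F93290)) (tt N9154 F73733) (tt N10970 (iv F93436)) (tt N7634 F73734) (tt N10981 (iv F93557)) (tt N10878 (iv F92567)) (tt N7544 (iv D16246)))
theorem Q9156 : ∀ i, i < 9156 → P i := stepQ 9155 Q9155 (allL N9155 (tt N10160 (iv F87458)) (tt N7899 (iv F133979)) (tt N10927 (iv F134175)) (tt N7548 F73736) (tt N9155 F73737) (tt N10982 D20805) (tt N7546 F73738) (tt N7635 F73739) (tt N7545 (iv D16247)) (tt N10983 D20806))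
theorem Q9157 : ∀ i, i < 9157 → P i := stepQ 9156 Q9156 (allL N9156 (tt N10161 (iv F87464)) (tt N7925 F73740) (tt N10981 (iv F93555)) (tt N7549 F73741) (tt N9156 F73742) (tt N10975 (iv F93459)) (tt N10983 (iv F93564)) (tt N7547 F73743) (tt N10880 (iv F92577)) (tt N7546 (iv D16248)))
theorem Q9158 : ∀ i, i < 9158 → P i := stepQ 9157 Q9157 (allL N9157 (tt N10162 (iv F87469)) (tt N7917 F134623) (tt N10955 (iv F93307)) (tt N10982 (iv F93559)) (tt N10984 D20807) (tt N7548 (iv D16249)) (tt N10976 (iv F93462)) (tt N7637 F73745) (tt N10978 (iv F93526)) (tt N10985 D20808))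
theorem Q9159 : ∀ i, i < 9159 → P i := stepQ 9158 Q9158 (allL N9158 (tt N10163 (iv F87472)) (tt N7909 F134618) (tt N10956 (iv F93309)) (tt N10983 (iv F93562)) (tt N7551 F73747) (tt N10985 (iv F93570)) (tt N7549 F73748) (tt N7638 F73749) (tt N10882 (iv F92584)) (tt N7548 (iv D16250)))
theorem Q9160 : ∀ i, i < 9160 → P i := stepQ 9159 Q9159 (allL N9159 (tt N9704 F133445) (tt N7926 F73750) (tt N9695 F133446) (tt N10720 (iv F134384)) (tt N7550 (iv D16251)) (tt N10984 (iv F93567)) (tt N9159 F73751) (tt N7639 F73752) (tt N9159 F73753) (tt N10719 (iv F134386)))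
theorem Q9161 : ∀ i, i < 9161 → P i := stepQ 9160 Q9160 (allL N9160 (tt N9919 F133447) (tt N7927 F73754) (tt N9889 F133448) (tt N9160 F73755) (tt N10719 (iv F134385)) (tt N7551 F73756) (tt N9160 F73757) (tt N7640 F73758) (tt N10718 (iv F134387)) (tt N7550 (iv D16252)))
theorem Q9162 : ∀ i, i < 9162 → P i := stepQ 9161 Q9161 (allL N9161 (tt N10164 (iv F87518)) (tt N7928 F73779) (tt N10397 F134887) (tt N9161 F73780) (tt N7555 F73781) (tt N10960 (iv F93376)) (tt N9161 F73782) (tt N7554 (iv D16259)) (tt N10986 D20818) (tt N7558 F73783))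
theorem Q9163 : ∀ i, i < 9163 → P i := stepQ 9162 Q9162 (allL N9162 (tt N10165 (iv F87524)) (tt N7759 F73784) (tt N10319 F134888) (tt N9162 F73785) (tt N7556 F73786) (tt N7758 (iv F73789)) (tt N7559 F73787) (tt N10986 (iv F93613)) (tt N7554 (iv D16260)) (tt N9162 F73788))
theorem Q9164 : ∀ i, i < 9164 → P i := stepQ 9163 Q9163 (allL N9163 (tt N10166 (iv F87531)) (tt N7929 F73790) (tt N10537 F134906) (tt N7557 F73791) (tt N10986 (iv F93611)) (tt N10903 (iv F92695)) (tt N9163 F73792) (tt N7556 F73793) (tt N7555 (iv D16261)) (tt N9163 F73794))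
theorem Q9165 : ∀ i, i < 9165 → P i := stepQ 9164 Q9164 (allL N9164 (tt N10225 (iv F134302)) (tt N10987 D20866) (tt N7562 (iv D16303)) (tt N7583 (iv F134022)) (tt N9777 (iv F85202)) (tt N7567 F73967) (tt N10988 D20867) (tt N9594 (iv F84092)) (tt N10731 (iv F91891)) (tt N9164 F73968))
theorem Q9166 : ∀ i, i < 9166 → P i := stepQ 9165 Q9165 (allL N9165 (tt N10343 (iv F90087)) (tt N7580 F73969) (tt N10988 (iv F93820)) (tt N7563 F73970) (tt N9778 (iv F85209)) (tt N10989 D20868) (tt N7562 (iv D16304)) (tt N10990 D20869) (tt N10732 (iv F91894)) (tt N9165 F73971))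
theorem Q9167 : ∀ i, i < 9167 → P i := stepQ 9166 Q9166 (allL N9166 (tt N10256 (iv F134307)) (tt N7581 F73972) (tt N7599 (iv F134028)) (tt N10989 (iv F93824)) (tt N9166 F73974) (tt N7563 (iv D16305)) (tt N7569 F73975) (tt N10991 D20870) (tt N10823 (iv F134143)) (tt N9166 F73976))
theorem Q9168 : ∀ i, i < 9168 → P i := stepQ 9167 Q9167 (allL N9167 (tt N10344 (iv F90096)) (tt N7582 F73977) (tt N7930 F73978) (tt N10990 (iv F93828)) (tt N7564 F73979) (tt N10991 (iv F93833)) (tt N9597 (iv F84109)) (tt N7563 (iv D16306)) (tt N10734 (iv F91901)) (tt N9167 F73980))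
theorem Q9169 : ∀ i, i < 9169 → P i := stepQ 9168 Q9168 (allL N9168 (tt N10226 F133464) (tt N7586 F133475) (tt N7565 (iv D16307)) (tt N7584 F133465) (tt N9168 F73982) (tt N9594 (iv F84091)) (tt N7585 F133476) (tt N7567 F73983) (tt N7570 F73984) (tt N9168 F73985))
theorem Q9170 : ∀ i, i < 9170 → P i := stepQ 9169 Q9169 (allL N9169 (tt N10230 F133466) (tt N7567 F133468) (tt N7585 F133469) (tt N7566 F73987) (tt N9169 F73988) (tt N10987 (iv F134295)) (tt N7565 (iv D16308)) (tt N7586 F133467) (tt N7571 F73989) (tt N9169 F73990))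
theorem Q9171 : ∀ i, i < 9171 → P i := stepQ 9170 Q9170 (allL N9170 (tt N10270 (iv F134283)) (tt N7583 F73991) (tt N7610 F133470) (tt N10987 (iv F134294)) (tt N9584 (iv F83992)) (tt N7566 (iv D16309)) (tt N9596 (iv F84103)) (tt N7608 F133471) (tt N10992 D20877) (tt N9170 F73993))
theorem Q9172 : ∀ i, i < 9172 → P i := stepQ 9171 Q9171 (allL N9171 (tt N10215 (iv F134305)) (tt N7587 F74010) (tt N7576 (iv F134290)) (tt N7569 F74011) (tt N9745 (iv F134311)) (tt N7568 (iv D16313)) (tt N10989 (iv F93825)) (tt N7579 (iv F134312)) (tt N10765 (iv F134142)) (tt N9171 F74012))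
theorem Q9173 : ∀ i, i < 9173 → P i := stepQ 9172 Q9172 (allL N9172 (tt N10280 F133477) (tt N7591 F74049) (tt N7620 F133478) (tt N10743 (iv F134106)) (tt N9172 F74051) (tt N10992 (iv F93865)) (tt N10753 (iv F91971)) (tt N7618 F133479) (tt N7572 (iv D16322)) (tt N10993 D20897))
theorem Q9174 : ∀ i, i < 9174 → P i := stepQ 9173 Q9173 (allL N9173 (tt N10211 (iv F88034)) (tt N10994 D20925) (tt N7573 (iv D16343)) (tt N9173 F74129) (tt N7579 F74130) (tt N9173 F74131) (tt N10995 D20926) (tt N9745 (iv F85037)) (tt N10761 (iv F92064)) (tt N9173 F74132))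
theorem Q9175 : ∀ i, i < 9175 → P i := stepQ 9174 Q9174 (allL N9174 (tt N10212 (iv F88039)) (tt N9778 (iv F85207)) (tt N10995 (iv F94060)) (tt N7574 F74133) (tt N7580 F74134) (tt N10996 D20927) (tt N7573 (iv D16344)) (tt N10997 D20928) (tt N10762 (iv F92067)) (tt N9174 F74135))
theorem Q9176 : ∀ i, i < 9176 → P i := stepQ 9175 Q9175 (allL N9175 (tt N10213 (iv F88043)) (tt N9779 (iv F85212)) (tt N9175 F74136) (tt N10996 (iv F94064)) (tt N9175 F74137) (tt N7574 (iv D16345)) (tt N9175 F74138) (tt N10998 D20929) (tt N10999 D20930) (tt N9175 F74139))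
theorem Q9177 : ∀ i, i < 9177 → P i := stepQ 9176 Q9176 (allL N9176 (tt N10214 (iv F88048)) (tt N9780 (iv F85218)) (tt N9176 F74140) (tt N10997 (iv F94067)) (tt N7575 F74141) (tt N10998 (iv F94072)) (tt N9748 (iv F85051)) (tt N7574 (iv D16346)) (tt N10764 (iv F92071)) (tt N9176 F74142))
theorem Q9178 : ∀ i, i < 9178 → P i := stepQ 9177 Q9177 (allL N9177 (tt N10216 (iv F88057)) (tt N9595 (iv F84095)) (tt N10989 F134972) (tt N7577 F74147) (tt N9746 (iv F85041)) (tt N10988 F134973) (tt N7576 (iv D16348)) (tt N11000 D20934) (tt N10766 (iv F92077)) (tt N9177 F74148))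
theorem Q9179 : ∀ i, i < 9179 → P i := stepQ 9178 Q9178 (allL N9178 (tt N10217 (iv F88060)) (tt N9596 (iv F84100)) (tt N7600 F74149) (tt N10988 F134649) (tt N9589 (iv F84058)) (tt N7577 (iv D16349)) (tt N7583 F74150) (tt N11001 D20935) (tt N11002 D20936) (tt N9178 F74151))
theorem Q9180 : ∀ i, i < 9180 → P i := stepQ 9179 Q9179 (allL N9179 (tt N10218 (iv F88064)) (tt N9597 (iv F84106)) (tt N7601 F74152) (tt N11000 (iv F94087)) (tt N7578 F74153) (tt N11001 (iv F94091)) (tt N7582 F74154) (tt N7577 (iv D16350)) (tt N10768 (iv F92083)) (tt N9179 F74155))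
theorem Q9181 : ∀ i, i < 9181 → P i := stepQ 9180 Q9180 (allL N9180 (tt N10232 (iv F134321)) (tt N7579 (iv D16351)) (tt N10987 (iv F93816)) (tt N7588 F133493) (tt N10994 (iv F94057)) (tt N7585 F74157) (tt N11003 D20938) (tt N7587 (iv F134310)) (tt N10773 (iv F92100)) (tt N9180 F74158))
theorem Q9182 : ∀ i, i < 9182 → P i := stepQ 9181 Q9181 (allL N9181 (tt N10220 (iv F88072)) (tt N11003 (iv F94098)) (tt N7580 F74159) (tt N7602 F74160) (tt N10995 (iv F94062)) (tt N11004 D20939) (tt N7579 (iv D16352)) (tt N11005 D20940) (tt N10774 (iv F92103)) (tt N9181 F74161))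
theorem Q9183 : ∀ i, i < 9183 → P i := stepQ 9182 Q9182 (allL N9182 (tt N10221 (iv F88076)) (tt N10989 (iv F93823)) (tt N11004 (iv F94101)) (tt N7581 F74162) (tt N11006 D20941) (tt N7580 (iv D16353)) (tt N7587 F74163) (tt N11007 D20942) (tt N11008 D20943) (tt N9182 F74164))
theorem Q9184 : ∀ i, i < 9184 → P i := stepQ 9183 Q9183 (allL N9183 (tt N10222 (iv F88080)) (tt N10990 (iv F93827)) (tt N11005 (iv F94105)) (tt N7582 F74165) (tt N10997 (iv F94068)) (tt N11007 (iv F94112)) (tt N11000 (iv F94088)) (tt N7580 (iv D16354)) (tt N10776 (iv F92107)) (tt N9183 F74166))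
theorem Q9185 : ∀ i, i < 9185 → P i := stepQ 9184 Q9184 (allL N9184 (tt N10223 (iv F88083)) (tt N10991 (iv F93830)) (tt N7605 F74167) (tt N11007 (iv F94111)) (tt N9184 F74168) (tt N7582 F74169) (tt N11009 D20944) (tt N7581 (iv D16355)) (tt N11010 D20945) (tt N9184 F74170))
theorem Q9186 : ∀ i, i < 9186 → P i := stepQ 9185 Q9185 (allL N9185 (tt N10224 (iv F88088)) (tt N10823 F134783) (tt N7606 F74171) (tt N11008 (iv F94114)) (tt N9185 F74172) (tt N10778 (iv F92111)) (tt N7589 F74173) (tt N11010 (iv F94122)) (tt N7581 (iv D16356)) (tt N11011 D20946))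
theorem Q9187 : ∀ i, i < 9187 → P i := stepQ 9186 Q9186 (allL N9186 (tt N10227 (iv F88137)) (tt N10992 (iv F93863)) (tt N7607 F74212) (tt N10731 F134493) (tt N9613 (iv F135185)) (tt N7591 F74213) (tt N11002 (iv F94094)) (tt N9602 F134494) (tt N7583 (iv D16366)) (tt N10626 (iv F135188)))
theorem Q9188 : ∀ i, i < 9188 → P i := stepQ 9187 Q9187 (allL N9187 (tt N10229 (iv F88150)) (tt N9594 (iv F134291)) (tt N7587 F74223) (tt N7608 F74224) (tt N9781 (iv F134326)) (tt N7586 (iv D16369)) (tt N11004 (iv F94103)) (tt N10987 (iv F134293)) (tt N11012 D20967) (tt N9187 F74225))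
theorem Q9189 : ∀ i, i < 9189 → P i := stepQ 9188 Q9188 (allL N9188 (tt N10231 (iv F88160)) (tt N9745 F134992) (tt N9781 F134993) (tt N9188 F74231) (tt N7587 (iv D16371)) (tt N9188 F74232) (tt N11006 (iv F94109)) (tt N10994 F134994) (tt N11013 D20969) (tt N9188 F74233))
theorem Q9190 : ∀ i, i < 9190 → P i := stepQ 9189 Q9189 (allL N9189 (tt N10233 (iv F88168)) (tt N10765 F134773) (tt N11012 (iv F94202)) (tt N7589 F74237) (tt N11013 (iv F94210)) (tt N7594 F74238) (tt N11008 (iv F94115)) (tt N10773 F134774) (tt N7587 (iv D16373)) (tt N11014 D20972))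
theorem Q9191 : ∀ i, i < 9191 → P i := stepQ 9190 Q9190 (allL N9190 (tt N10234 (iv F88171)) (tt N7602 (iv F134313)) (tt N7612 F74239) (tt N11003 (iv F134322)) (tt N9190 F74240) (tt N9606 (iv F134319)) (tt N7588 (iv D16374)) (tt N11009 (iv F94118)) (tt N10834 (iv F134124)) (tt N9190 F74241))
theorem Q9192 : ∀ i, i < 9192 → P i := stepQ 9191 Q9191 (allL N9191 (tt N10236 (iv F88180)) (tt N9667 (iv F134110)) (tt N7614 F74246) (tt N11014 (iv F94216)) (tt N9191 F74247) (tt N7595 F74248) (tt N11011 (iv F94125)) (tt N10828 (iv F134108)) (tt N9191 F74249) (tt N7589 (iv D16376)))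
theorem Q9193 : ∀ i, i < 9193 → P i := stepQ 9192 Q9192 (allL N9192 (tt N10241 (iv F88219)) (tt N7618 F133494) (tt N7616 F74277) (tt N10735 (iv F134088)) (tt N9192 F74278) (tt N9602 (iv F134320)) (tt N10876 (iv F134132)) (tt N7591 F74279) (tt N7590 (iv D16385)) (tt N10819 (iv F134324)))
theorem Q9194 : ∀ i, i < 9194 → P i := stepQ 9193 Q9193 (allL N9193 (tt N10242 (iv F88223)) (tt N10993 (iv F93947)) (tt N7617 F74280) (tt N10739 F134495) (tt N9193 F74281) (tt N10626 (iv F135187)) (tt N10804 (iv F92206)) (tt N10819 F134496) (tt N7628 F74282) (tt N7591 (iv D16386)))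
theorem Q9195 : ∀ i, i < 9195 → P i := stepQ 9194 Q9194 (allL N9194 (tt N10244 (iv F88239)) (tt N10078 F133497) (tt N7593 F74294) (tt N9194 F74295) (tt N7592 (iv D16390)) (tt N9194 F74296) (tt N10806 (iv F92220)) (tt N10407 (iv F134054)) (tt N11015 D20994) (tt N7629 F74297))
theorem Q9196 : ∀ i, i < 9196 → P i := stepQ 9195 Q9195 (allL N9195 (tt N10246 (iv F88249)) (tt N10735 (iv F134101)) (tt N7594 F74302) (tt N7618 F74303) (tt N11015 (iv F94292)) (tt N11012 (iv F94204)) (tt N10808 (iv F92228)) (tt N10743 (iv F134103)) (tt N7592 (iv D16392)) (tt N11016 D20997))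
theorem Q9197 : ∀ i, i < 9197 → P i := stepQ 9196 Q9196 (allL N9196 (tt N10248 (iv F88257)) (tt N9946 (iv F134063)) (tt N11015 (iv F94290)) (tt N7596 F74308) (tt N7594 F74309) (tt N11017 D21000) (tt N10810 (iv F92234)) (tt N10425 (iv F134062)) (tt N7593 (iv D16394)) (tt N9950 (iv F134328)))
theorem Q9198 : ∀ i, i < 9198 → P i := stepQ 9197 Q9197 (allL N9197 (tt N10251 (iv F88266)) (tt N9652 (iv F134109)) (tt N11016 (iv F94299)) (tt N7595 F74314) (tt N9950 (iv F134327)) (tt N11014 (iv F94217)) (tt N10812 (iv F92241)) (tt N10787 (iv F134107)) (tt N7631 F74315) (tt N7594 (iv D16397)))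
theorem Q9199 : ∀ i, i < 9199 → P i := stepQ 9198 Q9198 (allL N9198 (tt N10253 (iv F88286)) (tt N9986 (iv F134071)) (tt N9198 F74329) (tt N11017 (iv F94308)) (tt N9198 F74330) (tt N7596 (iv D16402)) (tt N11018 D21010) (tt N10447 (iv F134070)) (tt N9198 F74331) (tt N9990 (iv F134331)))
theorem Q9200 : ∀ i, i < 9200 → P i := stepQ 9199 Q9199 (allL N9199 (tt N10255 (iv F88327)) (tt N7940 F74362) (tt N9590 (iv F84062)) (tt N9623 F135378) (tt N7598 F74363) (tt N9622 F135379) (tt N9199 F74364) (tt N7597 (iv D16411)) (tt N9560 (iv F83855)) (tt N9199 F74365))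
theorem Q9201 : ∀ i, i < 9201 → P i := stepQ 9200 Q9200 (allL N9200 (tt N10257 (iv F88346)) (tt N7939 F134654) (tt N10991 F134655) (tt N7601 F74379) (tt N9200 F74380) (tt N7930 F134656) (tt N7604 F74381) (tt N7599 (iv D16415)) (tt N10825 (iv F92312)) (tt N9200 F74382))
theorem Q9202 : ∀ i, i < 9202 → P i := stepQ 9201 Q9201 (allL N9201 (tt N10258 (iv F88352)) (tt N7938 F134651) (tt N11001 (iv F94090)) (tt N7930 F134652) (tt N9622 (iv F135341)) (tt N7601 F74384) (tt N9607 F134653) (tt N7600 (iv D16416)) (tt N11019 D21029) (tt N9201 F74385))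
theorem Q9203 : ∀ i, i < 9203 → P i := stepQ 9202 Q9202 (allL N9202 (tt N10259 (iv F88356)) (tt N7789 F134498) (tt N11002 (iv F94093)) (tt N7776 F134499) (tt N9614 (iv F135189)) (tt N10827 (iv F92316)) (tt N7607 F74387) (tt N11019 (iv F94410)) (tt N7600 (iv D16417)) (tt N10627 (iv F135193)))
theorem Q9204 : ∀ i, i < 9204 → P i := stepQ 9203 Q9203 (allL N9203 (tt N10261 (iv F88368)) (tt N9606 (iv F134317)) (tt N7603 F74396) (tt N11004 (iv F94102)) (tt N9625 (iv F134343)) (tt N7602 (iv D16420)) (tt N7608 F74397) (tt N11020 D21035) (tt N11021 D21036) (tt N9203 F74398))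
theorem Q9205 : ∀ i, i < 9205 → P i := stepQ 9204 Q9204 (allL N9204 (tt N10262 (iv F88372)) (tt N11009 F134999) (tt N7604 F74399) (tt N11005 (iv F94106)) (tt N9204 F74400) (tt N11020 (iv F94431)) (tt N10991 F135000) (tt N7602 (iv D16421)) (tt N10836 (iv F92354)) (tt N9204 F74401))
theorem Q9206 : ∀ i, i < 9206 → P i := stepQ 9205 Q9205 (allL N9205 (tt N10263 (iv F88376)) (tt N7942 F74402) (tt N9625 (iv F134342)) (tt N9205 F74403) (tt N7603 (iv D16422)) (tt N9205 F74404) (tt N7609 F74405) (tt N9610 (iv F134337)) (tt N11022 D21038) (tt N9205 F74406))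
theorem Q9207 : ∀ i, i < 9207 → P i := stepQ 9206 Q9206 (allL N9206 (tt N10264 (iv F88382)) (tt N7943 F74407) (tt N11020 (iv F94430)) (tt N7605 F74408) (tt N9610 F134671) (tt N7604 F74409) (tt N9608 F134672) (tt N7603 (iv D16423)) (tt N11023 D21040) (tt N9206 F74410))
theorem Q9208 : ∀ i, i < 9208 → P i := stepQ 9207 Q9207 (allL N9207 (tt N10265 (iv F88387)) (tt N7944 F74411) (tt N11021 (iv F94433)) (tt N7606 F74412) (tt N11022 (iv F94442)) (tt N10839 (iv F92363)) (tt N7611 F74413) (tt N11023 (iv F94450)) (tt N7603 (iv D16424)) (tt N11024 D21041))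
theorem Q9209 : ∀ i, i < 9209 → P i := stepQ 9208 Q9208 (allL N9208 (tt N10266 (iv F88391)) (tt N7941 F134670) (tt N11009 (iv F94116)) (tt N9608 (iv F134355)) (tt N9208 F74415) (tt N9607 (iv F134339)) (tt N7605 (iv D16425)) (tt N7612 F74416) (tt N11025 D21042) (tt N9208 F74417))
theorem Q9210 : ∀ i, i < 9210 → P i := stepQ 9209 Q9209 (allL N9209 (tt N10267 (iv F88396)) (tt N7945 F74418) (tt N11010 (iv F94120)) (tt N11023 (iv F94449)) (tt N9209 F74419) (tt N10841 (iv F92368)) (tt N11025 (iv F94457)) (tt N7606 F74420) (tt N7605 (iv D16426)) (tt N11026 D21043))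
theorem Q9211 : ∀ i, i < 9211 → P i := stepQ 9210 Q9210 (allL N9210 (tt N10268 (iv F88400)) (tt N7946 F74421) (tt N11011 (iv F94123)) (tt N11024 (iv F94452)) (tt N9210 F74422) (tt N10842 (iv F92371)) (tt N7614 F74423) (tt N11026 (iv F94461)) (tt N9210 F74424) (tt N7606 (iv D16427)))
theorem Q9212 : ∀ i, i < 9212 → P i := stepQ 9211 Q9211 (allL N9211 (tt N10271 (iv F88503)) (tt N9602 (iv F134318)) (tt N7611 F74501) (tt N11012 (iv F94203)) (tt N9617 (iv F134346)) (tt N7618 F74502) (tt N11021 (iv F94434)) (tt N10992 (iv F134298)) (tt N7608 (iv D16448)) (tt N10843 (iv F134366)))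
theorem Q9213 : ∀ i, i < 9213 → P i := stepQ 9212 Q9212 (allL N9212 (tt N10272 (iv F88512)) (tt N7852 (iv F134044)) (tt N9617 (iv F134345)) (tt N9212 F74509) (tt N7611 F74510) (tt N9212 F74511) (tt N11022 (iv F94443)) (tt N9585 (iv F134351)) (tt N7609 (iv D16450)) (tt N7856 (iv F134368)))
theorem Q9214 : ∀ i, i < 9214 → P i := stepQ 9213 Q9213 (allL N9213 (tt N10273 (iv F88521)) (tt N7788 (iv F133907)) (tt N10992 (iv F134297)) (tt N7613 F74516) (tt N9585 (iv F134350)) (tt N7620 F74517) (tt N9609 (iv F134353)) (tt N7611 F74518) (tt N7610 (iv D16452)) (tt N11027 D21080))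
theorem Q9215 : ∀ i, i < 9215 → P i := stepQ 9214 Q9214 (allL N9214 (tt N10274 (iv F88526)) (tt N7827 (iv F134047)) (tt N10843 (iv F134364)) (tt N7614 F74520) (tt N7856 (iv F134367)) (tt N7621 F74521) (tt N11024 (iv F94453)) (tt N11027 (iv F94598)) (tt N9214 F74522) (tt N7611 (iv D16453)))
theorem Q9216 : ∀ i, i < 9216 → P i := stepQ 9215 Q9215 (allL N9215 (tt N10275 (iv F88531)) (tt N7822 F134356) (tt N10834 F134357) (tt N9609 (iv F134352)) (tt N9215 F74524) (tt N11028 D21081) (tt N7613 F74525) (tt N11025 (iv F94458)) (tt N7612 (iv D16454)) (tt N11029 D21082))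
theorem Q9217 : ∀ i, i < 9217 → P i := stepQ 9216 Q9216 (allL N9216 (tt N10276 (iv F88535)) (tt N7818 F134528) (tt N10828 F134529) (tt N11027 (iv F94596)) (tt N9216 F74527) (tt N7623 F74528) (tt N11029 (iv F94604)) (tt N7614 F74529) (tt N9216 F74530) (tt N7613 (iv D16455)))
theorem Q9218 : ∀ i, i < 9218 → P i := stepQ 9217 Q9217 (allL N9217 (tt N10277 (iv F88587)) (tt N7798 (iv F133903)) (tt N10876 (iv F134131)) (tt N7778 (iv F133879)) (tt N9217 F74569) (tt N11030 D21100) (tt N7616 F74570) (tt N10874 (iv F92534)) (tt N7615 (iv D16467)) (tt N10820 (iv F134359)))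
theorem Q9219 : ∀ i, i < 9219 → P i := stepQ 9218 Q9218 (allL N9218 (tt N10281 (iv F88622)) (tt N10819 (iv F134325)) (tt N7621 F74597) (tt N11016 (iv F94300)) (tt N9218 F74598) (tt N10843 (iv F134365)) (tt N10878 (iv F92566)) (tt N10993 (iv F134301)) (tt N7634 F74599) (tt N7618 (iv D16475)))
theorem Q9220 : ∀ i, i < 9220 → P i := stepQ 9219 Q9219 (allL N9219 (tt N10282 (iv F88626)) (tt N7805 (iv F133909)) (tt N10753 (iv F134105)) (tt N7622 F74601) (tt N9219 F74602) (tt N11031 D21109) (tt N7620 F74603) (tt N10879 (iv F92572)) (tt N7619 (iv D16476)) (tt N11032 D21110))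
theorem Q9221 : ∀ i, i < 9221 → P i := stepQ 9220 Q9220 (allL N9220 (tt N10283 (iv F88631)) (tt N7801 (iv F133910)) (tt N10993 (iv F134300)) (tt N7623 F74605) (tt N9220 F74606) (tt N11027 (iv F94597)) (tt N11032 (iv F94701)) (tt N7621 F74607) (tt N7636 F74608) (tt N7620 (iv D16477)))
theorem Q9222 : ∀ i, i < 9222 → P i := stepQ 9221 Q9221 (allL N9221 (tt N10284 (iv F88637)) (tt N7839 F134534) (tt N10863 F134535) (tt N11031 (iv F94697)) (tt N11033 D21111) (tt N7622 (iv D16478)) (tt N11028 (iv F94601)) (tt N10881 (iv F92579)) (tt N11030 (iv F94664)) (tt N11034 D21112))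
theorem Q9223 : ∀ i, i < 9223 → P i := stepQ 9222 Q9222 (allL N9222 (tt N10285 (iv F88639)) (tt N7834 F134537) (tt N10854 F134538) (tt N11032 (iv F94699)) (tt N7625 F74611) (tt N11034 (iv F94706)) (tt N7623 F74612) (tt N10882 (iv F92583)) (tt N7638 F74613) (tt N7622 (iv D16479)))
theorem Q9224 : ∀ i, i < 9224 → P i := stepQ 9223 Q9223 (allL N9223 (tt N10286 (iv F88644)) (tt N7869 F134548) (tt N10905 F134549) (tt N10665 (iv F135267)) (tt N7624 (iv D16480)) (tt N11033 (iv F94704)) (tt N9223 F74615) (tt N10883 (iv F92586)) (tt N9223 F74616) (tt N10662 (iv F135269)))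
theorem Q9225 : ∀ i, i < 9225 → P i := stepQ 9224 Q9224 (allL N9224 (tt N10287 (iv F88648)) (tt N7863 F134550) (tt N10897 F134551) (tt N9224 F74618) (tt N10662 (iv F135268)) (tt N7625 F74619) (tt N9224 F74620) (tt N10884 (iv F92591)) (tt N10660 F134552) (tt N7624 (iv D16481)))
theorem Q9226 : ∀ i, i < 9226 → P i := stepQ 9225 Q9225 (allL N9225 (tt N10312 F133521) (tt N7628 F75012) (tt N7636 F133522) (tt N10914 (iv F134209)) (tt N9225 F75014) (tt N9225 F75015) (tt N10928 (iv F93051)) (tt N7634 F133523) (tt N10993 (iv F93950)) (tt N7626 (iv D16572)))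
theorem Q9227 : ∀ i, i < 9227 → P i := stepQ 9226 Q9226 (allL N9226 (tt N10303 (iv F89259)) (tt N7634 F133528) (tt N7633 F75151) (tt N9638 F133527) (tt N9226 F75152) (tt N9226 F75153) (tt N10980 (iv F134274)) (tt N7628 F75154) (tt N10819 (iv F134323)) (tt N7627 (iv D16612)))
theorem Q9228 : ∀ i, i < 9228 → P i := stepQ 9227 Q9227 (allL N9227 (tt N10307 (iv F89298)) (tt N9638 F133532) (tt N7631 F75183) (tt N7634 F75184) (tt N9913 (iv F134370)) (tt N9227 F75185) (tt N10953 (iv F93291)) (tt N10914 (iv F134204)) (tt N11016 (iv F94301)) (tt N7630 (iv D16622)))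
theorem Q9229 : ∀ i, i < 9229 → P i := stepQ 9228 Q9228 (allL N9228 (tt N10308 (iv F89441)) (tt N7890 F133541) (tt N10967 (iv F134260)) (tt N7882 F133542) (tt N11035 D21327) (tt N7632 (iv D16658)) (tt N9228 F75295) (tt N10978 (iv F93525)) (tt N7637 F75296) (tt N11036 D21328))
theorem Q9230 : ∀ i, i < 9230 → P i := stepQ 9229 Q9229 (allL N9229 (tt N10309 (iv F89445)) (tt N7887 F133543) (tt N10980 (iv F134273)) (tt N7880 F133544) (tt N9229 F75298) (tt N11036 (iv F95578)) (tt N7633 F75299) (tt N10979 (iv F93530)) (tt N10820 (iv F134358)) (tt N7632 (iv D16659)))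
theorem Q9231 : ∀ i, i < 9231 → P i := stepQ 9230 Q9230 (allL N9230 (tt N10313 (iv F89480)) (tt N7893 F133547) (tt N9702 (iv F134220)) (tt N7637 F75328) (tt N9575 (iv F134378)) (tt N7635 (iv D16667)) (tt N9230 F75329) (tt N10982 (iv F93560)) (tt N7882 F133548) (tt N11037 D21337))
theorem Q9232 : ∀ i, i < 9232 → P i := stepQ 9231 Q9231 (allL N9231 (tt N10314 (iv F89484)) (tt N7894 (iv F133981)) (tt N10928 (iv F134222)) (tt N7638 F75331) (tt N9231 F75332) (tt N11037 (iv F95611)) (tt N7636 F75333) (tt N10983 (iv F93565)) (tt N11032 (iv F94702)) (tt N7635 (iv D16668)))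
theorem Q9233 : ∀ i, i < 9233 → P i := stepQ 9232 Q9232 (allL N9232 (tt N9703 F133551) (tt N7916 (iv F134003)) (tt N9694 F133552) (tt N10699 (iv F134382)) (tt N7637 (iv D16669)) (tt N7639 F75335) (tt N9232 F75336) (tt N10984 (iv F93568)) (tt N11035 (iv F95576)) (tt N10696 (iv F134383)))
theorem Q9234 : ∀ i, i < 9234 → P i := stepQ 9233 Q9233 (allL N9233 (tt N10315 (iv F89493)) (tt N7908 F134615) (tt N10957 F134616) (tt N11037 (iv F95610)) (tt N10696 F134617) (tt N7638 F75338) (tt N9233 F75339) (tt N10985 (iv F93571)) (tt N10694 (iv F135324)) (tt N7637 (iv D16670)))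
theorem Q9235 : ∀ i, i < 9235 → P i := stepQ 9234 Q9234 (allL N9234 (tt N7650 F75680) (tt N9234 F75681) (tt N11038 D21413) (tt N7641 (iv D16740)) (tt N9234 F75682) (tt N9806 (iv F85351)) (tt N11039 D21414) (tt N9796 (iv F85297)) (tt N7645 F75683) (tt N9793 (iv F85280)))
theorem Q9236 : ∀ i, i < 9236 → P i := stepQ 9235 Q9235 (allL N9235 (tt N7651 F75684) (tt N9235 F75685) (tt N10530 (iv F91000)) (tt N11039 (iv F96015)) (tt N7642 F75686) (tt N11040 D21415) (tt N7641 (iv D16741)) (tt N11041 D21416) (tt N7646 F75687) (tt N9794 (iv F85285)))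
theorem Q9237 : ∀ i, i < 9237 → P i := stepQ 9236 Q9236 (allL N9236 (tt N7652 F75688) (tt N9236 F75689) (tt N10531 (iv F91004)) (tt N9236 F75690) (tt N11041 (iv F96023)) (tt N7772 F75691) (tt N9798 (iv F85309)) (tt N7642 (iv D16742)) (tt N7647 F75692) (tt N9795 (iv F85292)))
theorem Q9238 : ∀ i, i < 9238 → P i := stepQ 9237 Q9237 (allL N9237 (tt N7653 F75693) (tt N9237 F75694) (tt N11042 D21417) (tt N7643 (iv D16743)) (tt N9237 F75695) (tt N9237 F75696) (tt N11043 D21418) (tt N7645 F75697) (tt N9796 (iv F85298)) (tt N9237 F75698))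
theorem Q9239 : ∀ i, i < 9239 → P i := stepQ 9238 Q9238 (allL N9238 (tt N7654 F75699) (tt N9238 F75700) (tt N10181 (iv F87820)) (tt N11043 (iv F96032)) (tt N7644 F75701) (tt N11044 D21419) (tt N7643 (iv D16744)) (tt N11045 D21420) (tt N9797 (iv F85303)) (tt N9238 F75702))
theorem Q9240 : ∀ i, i < 9240 → P i := stepQ 9239 Q9239 (allL N9239 (tt N7655 F75703) (tt N9239 F75704) (tt N10182 (iv F87825)) (tt N9239 F75705) (tt N11045 (iv F96042)) (tt N9239 F75706) (tt N7647 F75707) (tt N7644 (iv D16745)) (tt N9798 (iv F85310)) (tt N9239 F75708))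
theorem Q9241 : ∀ i, i < 9241 → P i := stepQ 9240 Q9240 (allL N9240 (tt N7656 F75709) (tt N11046 D21421) (tt N7645 (iv D16746)) (tt N10532 (iv F91008)) (tt N9240 F75710) (tt N9240 F75711) (tt N11047 D21422) (tt N11042 (iv F96028)) (tt N11038 (iv F96012)) (tt N9240 F75712))
theorem Q9242 : ∀ i, i < 9242 → P i := stepQ 9241 Q9241 (allL N9241 (tt N7657 F75713) (tt N9241 F75714) (tt N11047 (iv F96050)) (tt N7646 F75715) (tt N9241 F75716) (tt N11048 D21423) (tt N7645 (iv D16747)) (tt N11049 D21424) (tt N11039 (iv F96017)) (tt N9241 F75717))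
theorem Q9243 : ∀ i, i < 9243 → P i := stepQ 9242 Q9242 (allL N9242 (tt N7658 F75718) (tt N9242 F75719) (tt N10534 (iv F91015)) (tt N11048 (iv F96055)) (tt N7648 F75720) (tt N7646 (iv D16748)) (tt N9242 F75721) (tt N11050 D21425) (tt N10045 (iv F135270)) (tt N9242 F75722))
theorem Q9244 : ∀ i, i < 9244 → P i := stepQ 9243 Q9243 (allL N9243 (tt N7659 F75723) (tt N9243 F75724) (tt N10535 (iv F91020)) (tt N11049 (iv F96060)) (tt N7647 F75725) (tt N11050 (iv F96066)) (tt N11045 (iv F96043)) (tt N7646 (iv D16749)) (tt N11041 (iv F96024)) (tt N9243 F75726))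
theorem Q9245 : ∀ i, i < 9245 → P i := stepQ 9244 Q9244 (allL N9244 (tt N7660 F75751) (tt N9244 F75752) (tt N10538 (iv F91044)) (tt N10048 (iv F135321)) (tt N11050 (iv F96065)) (tt N7649 F75753) (tt N11051 D21433) (tt N7648 (iv D16754)) (tt N10046 (iv F135271)) (tt N9244 F75754))
theorem Q9246 : ∀ i, i < 9246 → P i := stepQ 9245 Q9245 (allL N9245 (tt N11038 (iv F96010)) (tt N11052 D21436) (tt N7650 (iv D16756)) (tt N10548 (iv F91099)) (tt N9245 F75759) (tt N10630 (iv F91418)) (tt N11053 D21437) (tt N10616 (iv F91360)) (tt N7656 F75760) (tt N10612 (iv F91343)))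
theorem Q9247 : ∀ i, i < 9247 → P i := stepQ 9246 Q9246 (allL N9246 (tt N11039 (iv F96013)) (tt N7671 F75761) (tt N11053 (iv F96120)) (tt N7651 F75762) (tt N9246 F75763) (tt N11054 D21438) (tt N7650 (iv D16757)) (tt N11055 D21439) (tt N7657 F75764) (tt N10613 (iv F91348)))
theorem Q9248 : ∀ i, i < 9248 → P i := stepQ 9247 Q9247 (allL N9247 (tt N11040 (iv F96018)) (tt N7672 F75765) (tt N10550 (iv F91105)) (tt N11054 (iv F96124)) (tt N7782 F75766) (tt N7651 (iv D16758)) (tt N10632 (iv F91429)) (tt N11056 D21440) (tt N10849 (iv F135179)) (tt N10614 (iv F91352)))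
theorem Q9249 : ∀ i, i < 9249 → P i := stepQ 9248 Q9248 (allL N9248 (tt N11041 (iv F96021)) (tt N7673 F75767) (tt N10551 (iv F91108)) (tt N11055 (iv F96126)) (tt N7652 F75768) (tt N11056 (iv F96131)) (tt N10619 (iv F91374)) (tt N7651 (iv D16759)) (tt N7659 F75769) (tt N10615 (iv F91357)))
theorem Q9250 : ∀ i, i < 9250 → P i := stepQ 9249 Q9249 (allL N9249 (tt N11042 (iv F96025)) (tt N11057 D21442) (tt N7653 (iv D16760)) (tt N10552 (iv F91111)) (tt N9249 F75770) (tt N9249 F75771) (tt N11058 D21443) (tt N7656 F75772) (tt N10616 (iv F91361)) (tt N9249 F75773))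
theorem Q9251 : ∀ i, i < 9251 → P i := stepQ 9250 Q9250 (allL N9250 (tt N11043 (iv F96030)) (tt N7675 F75774) (tt N11058 (iv F96140)) (tt N7654 F75775) (tt N9250 F75776) (tt N11059 D21444) (tt N7653 (iv D16761)) (tt N11060 D21445) (tt N10617 (iv F91366)) (tt N9250 F75777))
theorem Q9252 : ∀ i, i < 9252 → P i := stepQ 9251 Q9251 (allL N9251 (tt N11044 (iv F96035)) (tt N7676 F75778) (tt N10554 (iv F91119)) (tt N11059 (iv F96144)) (tt N9251 F75779) (tt N7654 (iv D16762)) (tt N9251 F75780) (tt N11061 D21446) (tt N11062 D21447) (tt N9251 F75781))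
theorem Q9253 : ∀ i, i < 9253 → P i := stepQ 9252 Q9252 (allL N9252 (tt N11045 (iv F96040)) (tt N7677 F75782) (tt N10555 (iv F91124)) (tt N11060 (iv F96148)) (tt N7655 F75783) (tt N11061 (iv F96154)) (tt N7659 F75784) (tt N7654 (iv D16763)) (tt N10619 (iv F91375)) (tt N9252 F75785))
theorem Q9254 : ∀ i, i < 9254 → P i := stepQ 9253 Q9253 (allL N9253 (tt N11063 D21448) (tt N7656 (iv D16764)) (tt N7678 F75786) (tt N10556 (iv F91129)) (tt N9253 F75787) (tt N9253 F75788) (tt N11064 D21449) (tt N11057 (iv F96138)) (tt N11052 (iv F96119)) (tt N9253 F75789))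
theorem Q9255 : ∀ i, i < 9255 → P i := stepQ 9254 Q9254 (allL N9254 (tt N11047 (iv F96049)) (tt N11064 (iv F96163)) (tt N7657 F75790) (tt N10557 (iv F91133)) (tt N9254 F75791) (tt N11065 D21450) (tt N7656 (iv D16765)) (tt N11066 D21451) (tt N11053 (iv F96122)) (tt N9254 F75792))
theorem Q9256 : ∀ i, i < 9256 → P i := stepQ 9255 Q9255 (allL N9255 (tt N11048 (iv F96053)) (tt N7680 F75793) (tt N11065 (iv F96167)) (tt N7658 F75794) (tt N10891 (iv F135334)) (tt N7657 (iv D16766)) (tt N9255 F75795) (tt N11067 D21453) (tt N10889 (iv F135273)) (tt N9255 F75796))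
theorem Q9257 : ∀ i, i < 9257 → P i := stepQ 9256 Q9256 (allL N9256 (tt N11049 (iv F96058)) (tt N7681 F75797) (tt N11066 (iv F96170)) (tt N7659 F75798) (tt N9256 F75799) (tt N11067 (iv F96180)) (tt N11060 (iv F96150)) (tt N7657 (iv D16767)) (tt N11055 (iv F96128)) (tt N9256 F75800))
theorem Q9258 : ∀ i, i < 9258 → P i := stepQ 9257 Q9257 (allL N9257 (tt N11050 (iv F96063)) (tt N7682 F75801) (tt N10560 (iv F91143)) (tt N11067 (iv F96179)) (tt N7660 F75802) (tt N7659 F75803) (tt N11068 D21455) (tt N7658 (iv D16768)) (tt N10894 (iv F135276)) (tt N9257 F75804))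
theorem Q9259 : ∀ i, i < 9259 → P i := stepQ 9258 Q9258 (allL N9258 (tt N11051 (iv F96103)) (tt N7686 F75830) (tt N10564 (iv F91174)) (tt N10896 (iv F135332)) (tt N11068 (iv F96186)) (tt N9258 F75831) (tt N7660 (iv D16775)) (tt N9258 F75832) (tt N10895 (iv F135280)) (tt N9258 F75833))
theorem Q9260 : ∀ i, i < 9260 → P i := stepQ 9259 Q9259 (allL N9259 (tt N9259 F75841) (tt N11069 D21468) (tt N7661 (iv D16778)) (tt N7689 F75842) (tt N7734 F75843) (tt N7670 F75844) (tt N11070 D21469) (tt N7700 F75845) (tt N9259 F75846) (tt N7696 F75847))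
theorem Q9261 : ∀ i, i < 9261 → P i := stepQ 9260 Q9260 (allL N9260 (tt N9260 F75848) (tt N10631 (iv F91422)) (tt N11070 (iv F96244)) (tt N7662 F75849) (tt N7735 F75850) (tt N11071 D21470) (tt N7661 (iv D16779)) (tt N11072 D21471) (tt N9260 F75851) (tt N7697 F75852))
theorem Q9262 : ∀ i, i < 9262 → P i := stepQ 9261 Q9261 (allL N9261 (tt N9261 F75853) (tt N10632 (iv F91427)) (tt N7691 F75854) (tt N11071 (iv F96250)) (tt N7790 F75855) (tt N7662 (iv D16780)) (tt N7672 F75856) (tt N11073 D21472) (tt N11074 D21473) (tt N7698 F75857))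
theorem Q9263 : ∀ i, i < 9263 → P i := stepQ 9262 Q9262 (allL N9262 (tt N9262 F75858) (tt N10633 (iv F91431)) (tt N7692 F75859) (tt N11072 (iv F96254)) (tt N7663 F75860) (tt N11073 (iv F96262)) (tt N7703 F75861) (tt N7662 (iv D16781)) (tt N9262 F75862) (tt N7699 F75863))
theorem Q9264 : ∀ i, i < 9264 → P i := stepQ 9263 Q9263 (allL N9263 (tt N9263 F75864) (tt N11075 D21474) (tt N7664 (iv D16782)) (tt N7696 F75865) (tt N9263 F75866) (tt N7700 F75867) (tt N11076 D21475) (tt N7670 F75868) (tt N7674 F75869) (tt N7689 F75870))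
theorem Q9265 : ∀ i, i < 9265 → P i := stepQ 9264 Q9264 (allL N9264 (tt N9264 F75871) (tt N10617 (iv F91363)) (tt N11076 (iv F96276)) (tt N7665 F75872) (tt N9264 F75873) (tt N11077 D21476) (tt N7664 (iv D16783)) (tt N11078 D21477) (tt N7675 F75874) (tt N7690 F75875))
theorem Q9266 : ∀ i, i < 9266 → P i := stepQ 9265 Q9265 (allL N9265 (tt N9265 F75876) (tt N10618 (iv F91368)) (tt N7698 F75877) (tt N11077 (iv F96282)) (tt N7820 F75878) (tt N7665 (iv D16784)) (tt N7702 F75879) (tt N11079 D21478) (tt N11080 D21479) (tt N7691 F75880))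
theorem Q9267 : ∀ i, i < 9267 → P i := stepQ 9266 Q9266 (allL N9266 (tt N9266 F75881) (tt N10619 (iv F91372)) (tt N7699 F75882) (tt N11078 (iv F96286)) (tt N7666 F75883) (tt N11079 (iv F96294)) (tt N7673 F75884) (tt N7665 (iv D16785)) (tt N7677 F75885) (tt N7692 F75886))
theorem Q9268 : ∀ i, i < 9268 → P i := stepQ 9267 Q9267 (allL N9267 (tt N9267 F75887) (tt N11081 D21480) (tt N7667 (iv D16786)) (tt N7700 F75888) (tt N9267 F75889) (tt N7696 F75890) (tt N11082 D21481) (tt N7689 F75891) (tt N9267 F75892) (tt N7670 F75893))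
theorem Q9269 : ∀ i, i < 9269 → P i := stepQ 9268 Q9268 (allL N9268 (tt N9268 F75894) (tt N10613 (iv F91344)) (tt N11082 (iv F96308)) (tt N7668 F75895) (tt N9268 F75896) (tt N11083 D21482) (tt N7667 (iv D16787)) (tt N11084 D21483) (tt N9268 F75897) (tt N7671 F75898))
theorem Q9270 : ∀ i, i < 9270 → P i := stepQ 9269 Q9269 (allL N9269 (tt N9269 F75899) (tt N10614 (iv F91349)) (tt N7702 F75900) (tt N11083 (iv F96314)) (tt N7803 F75901) (tt N7668 (iv D16788)) (tt N7698 F75902) (tt N11085 D21484) (tt N11086 D21485) (tt N7672 F75903))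
theorem Q9271 : ∀ i, i < 9271 → P i := stepQ 9270 Q9270 (allL N9270 (tt N9270 F75904) (tt N10615 (iv F91353)) (tt N7703 F75905) (tt N11084 (iv F96318)) (tt N7669 F75906) (tt N11085 (iv F96326)) (tt N7692 F75907) (tt N7668 (iv D16789)) (tt N9270 F75908) (tt N7673 F75909))
theorem Q9272 : ∀ i, i < 9272 → P i := stepQ 9271 Q9271 (allL N9271 (tt N11087 D21486) (tt N7670 (iv D16790)) (tt N11052 (iv F96117)) (tt N7704 F75910) (tt N9271 F75911) (tt N11069 (iv F96239)) (tt N11088 D21487) (tt N11075 (iv F96272)) (tt N7678 F75912) (tt N11081 (iv F96306)))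
theorem Q9273 : ∀ i, i < 9273 → P i := stepQ 9272 Q9272 (allL N9272 (tt N9272 F75913) (tt N11088 (iv F96337)) (tt N7671 F75914) (tt N7705 F75915) (tt N9272 F75916) (tt N11089 D21488) (tt N7670 (iv D16791)) (tt N11090 D21489) (tt N7679 F75917) (tt N11082 (iv F96312)))
theorem Q9274 : ∀ i, i < 9274 → P i := stepQ 9273 Q9273 (allL N9273 (tt N9273 F75918) (tt N11054 (iv F96123)) (tt N11089 (iv F96342)) (tt N7672 F75919) (tt N11091 D21490) (tt N7671 (iv D16792)) (tt N11071 (iv F96251)) (tt N11092 D21491) (tt N11093 D21492) (tt N11083 (iv F96316)))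
theorem Q9275 : ∀ i, i < 9275 → P i := stepQ 9274 Q9274 (allL N9274 (tt N9274 F75920) (tt N11055 (iv F96125)) (tt N11090 (iv F96345)) (tt N7673 F75921) (tt N9274 F75922) (tt N11092 (iv F96354)) (tt N11078 (iv F96288)) (tt N7671 (iv D16793)) (tt N7681 F75923) (tt N11084 (iv F96322)))
theorem Q9276 : ∀ i, i < 9276 → P i := stepQ 9275 Q9275 (allL N9275 (tt N9275 F75924) (tt N11056 (iv F96129)) (tt N7708 F75925) (tt N11092 (iv F96353)) (tt N7808 F75926) (tt N7673 F75927) (tt N11094 D21493) (tt N7672 (iv D16794)) (tt N11095 D21494) (tt N11085 (iv F96327)))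
theorem Q9277 : ∀ i, i < 9277 → P i := stepQ 9276 Q9276 (allL N9276 (tt N9276 F75928) (tt N10849 (iv F135177)) (tt N7709 F75929) (tt N11093 (iv F96356)) (tt N7809 F75930) (tt N7683 F75931) (tt N11074 (iv F96268)) (tt N11095 (iv F96365)) (tt N7672 (iv D16795)) (tt N11096 D21495))
theorem Q9278 : ∀ i, i < 9278 → P i := stepQ 9277 Q9277 (allL N9277 (tt N11097 D21496) (tt N7674 (iv D16796)) (tt N11057 (iv F96135)) (tt N7710 F75932) (tt N9277 F75933) (tt N9277 F75934) (tt N11098 D21497) (tt N7678 F75935) (tt N11075 (iv F96273)) (tt N9277 F75936))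
theorem Q9279 : ∀ i, i < 9279 → P i := stepQ 9278 Q9278 (allL N9278 (tt N9278 F75937) (tt N11098 (iv F96376)) (tt N7675 F75938) (tt N7711 F75939) (tt N9278 F75940) (tt N11099 D21498) (tt N7674 (iv D16797)) (tt N11100 D21499) (tt N11076 (iv F96279)) (tt N9278 F75941))
theorem Q9280 : ∀ i, i < 9280 → P i := stepQ 9279 Q9279 (allL N9279 (tt N9279 F75942) (tt N11059 (iv F96143)) (tt N11099 (iv F96381)) (tt N7676 F75943) (tt N11101 D21500) (tt N7675 (iv D16798)) (tt N9279 F75944) (tt N11102 D21501) (tt N11103 D21502) (tt N9279 F75945))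
theorem Q9281 : ∀ i, i < 9281 → P i := stepQ 9280 Q9280 (allL N9280 (tt N9280 F75946) (tt N11060 (iv F96147)) (tt N11100 (iv F96388)) (tt N7677 F75947) (tt N9280 F75948) (tt N11102 (iv F96402)) (tt N7681 F75949) (tt N7675 (iv D16799)) (tt N11078 (iv F96289)) (tt N9280 F75950))
theorem Q9282 : ∀ i, i < 9282 → P i := stepQ 9281 Q9281 (allL N9281 (tt N9281 F75951) (tt N11061 (iv F96152)) (tt N7714 F75952) (tt N11102 (iv F96401)) (tt N9281 F75953) (tt N7677 F75954) (tt N11104 D21503) (tt N7676 (iv D16800)) (tt N11105 D21504) (tt N9281 F75955))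
theorem Q9283 : ∀ i, i < 9283 → P i := stepQ 9282 Q9282 (allL N9282 (tt N9282 F75956) (tt N11062 (iv F96156)) (tt N7715 F75957) (tt N11103 (iv F96406)) (tt N9282 F75958) (tt N11080 (iv F96299)) (tt N9282 F75959) (tt N11105 (iv F96419)) (tt N7676 (iv D16801)) (tt N11106 D21505))
theorem Q9284 : ∀ i, i < 9284 → P i := stepQ 9283 Q9283 (allL N9283 (tt N7678 (iv D16802)) (tt N9283 F75960) (tt N11063 (iv F96159)) (tt N7716 F75961) (tt N9283 F75962) (tt N9283 F75963) (tt N11107 D21506) (tt N11097 (iv F96374)) (tt N11087 (iv F96336)) (tt N9283 F75964))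
theorem Q9285 : ∀ i, i < 9285 → P i := stepQ 9284 Q9284 (allL N9284 (tt N11107 (iv F96426)) (tt N7679 F75965) (tt N11064 (iv F96164)) (tt N7717 F75966) (tt N9284 F75967) (tt N11108 D21507) (tt N7678 (iv D16803)) (tt N11109 D21508) (tt N11088 (iv F96340)) (tt N9284 F75968))
theorem Q9286 : ∀ i, i < 9286 → P i := stepQ 9285 Q9285 (allL N9285 (tt N9285 F75969) (tt N11108 (iv F96431)) (tt N7680 F75970) (tt N7718 F75971) (tt N11110 D21509) (tt N7679 (iv D16804)) (tt N9285 F75972) (tt N11111 D21510) (tt N11112 D21511) (tt N9285 F75973))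
theorem Q9287 : ∀ i, i < 9287 → P i := stepQ 9286 Q9286 (allL N9286 (tt N9286 F75974) (tt N11109 (iv F96435)) (tt N7681 F75975) (tt N7719 F75976) (tt N9286 F75977) (tt N11111 (iv F96448)) (tt N11100 (iv F96391)) (tt N7679 (iv D16805)) (tt N11090 (iv F96348)) (tt N9286 F75978))
theorem Q9288 : ∀ i, i < 9288 → P i := stepQ 9287 Q9287 (allL N9287 (tt N9287 F75979) (tt N10891 (iv F135333)) (tt N11110 (iv F96440)) (tt N7684 F75980) (tt N7680 (iv D16806)) (tt N9287 F75981) (tt N9287 F75982) (tt N11113 D21512) (tt N7858 (iv F135283)) (tt N9287 F75983))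
theorem Q9289 : ∀ i, i < 9289 → P i := stepQ 9288 Q9288 (allL N9288 (tt N9288 F75984) (tt N11067 (iv F96178)) (tt N11111 (iv F96446)) (tt N7682 F75985) (tt N11113 (iv F96456)) (tt N7681 F75986) (tt N11114 D21514) (tt N7680 (iv D16807)) (tt N11115 D21515) (tt N9288 F75987))
theorem Q9290 : ∀ i, i < 9290 → P i := stepQ 9289 Q9289 (allL N9289 (tt N9289 F75988) (tt N10889 (iv F135272)) (tt N11112 (iv F96451)) (tt N7683 F75989) (tt N7858 (iv F135282)) (tt N11093 (iv F96357)) (tt N9289 F75990) (tt N11115 (iv F96469)) (tt N7680 (iv D16808)) (tt N11116 D21516))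
theorem Q9291 : ∀ i, i < 9291 → P i := stepQ 9290 Q9290 (allL N9290 (tt N9290 F75991) (tt N11068 (iv F96185)) (tt N7722 F75992) (tt N11114 (iv F96464)) (tt N7686 F75993) (tt N11104 (iv F96413)) (tt N7682 (iv D16809)) (tt N9290 F75994) (tt N11117 D21517) (tt N9290 F75995))
theorem Q9292 : ∀ i, i < 9292 → P i := stepQ 9291 Q9291 (allL N9291 (tt N9291 F75996) (tt N10894 (iv F135274)) (tt N7723 F75997) (tt N11115 (iv F96468)) (tt N7687 F75998) (tt N11095 (iv F96364)) (tt N11117 (iv F96477)) (tt N7683 F75999) (tt N7682 (iv D16810)) (tt N11118 D21518))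
theorem Q9293 : ∀ i, i < 9293 → P i := stepQ 9292 Q9292 (allL N9292 (tt N9292 F76000) (tt N9687 (iv F135277)) (tt N7724 F76001) (tt N11116 (iv F96471)) (tt N7688 F76002) (tt N11096 (iv F96369)) (tt N9292 F76003) (tt N11118 (iv F96482)) (tt N9292 F76004) (tt N7683 (iv D16811)))
theorem Q9294 : ∀ i, i < 9294 → P i := stepQ 9293 Q9293 (allL N9293 (tt N9293 F76005) (tt N10893 (iv F135330)) (tt N9293 F76006) (tt N11113 (iv F96455)) (tt N7685 F76007) (tt N9293 F76008) (tt N11119 D21519) (tt N7684 (iv D16812)) (tt N7860 (iv F135284)) (tt N9293 F76009))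
theorem Q9295 : ∀ i, i < 9295 → P i := stepQ 9294 Q9294 (allL N9294 (tt N9294 F76014) (tt N10896 (iv F135331)) (tt N9294 F76015) (tt N7686 F76016) (tt N11119 (iv F96486)) (tt N9294 F76017) (tt N7685 (iv D16814)) (tt N9294 F76018) (tt N7862 (iv F135286)) (tt N9294 F76019))
theorem Q9296 : ∀ i, i < 9296 → P i := stepQ 9295 Q9295 (allL N9295 (tt N9295 F76031) (tt N10895 (iv F135278)) (tt N7725 F76032) (tt N7862 (iv F135285)) (tt N11117 (iv F96476)) (tt N7871 (iv F135260)) (tt N7687 F76033) (tt N9295 F76034) (tt N7686 (iv D16817)) (tt N11120 D21526))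
theorem Q9297 : ∀ i, i < 9297 → P i := stepQ 9296 Q9296 (allL N9296 (tt N9296 F76035) (tt N9688 (iv F135281)) (tt N7726 F76036) (tt N7861 (iv F135287)) (tt N11118 (iv F96481)) (tt N7814 F76037) (tt N11120 (iv F96520)) (tt N7688 F76038) (tt N9296 F76039) (tt N7687 (iv D16818)))
theorem Q9298 : ∀ i, i < 9298 → P i := stepQ 9297 Q9297 (allL N9297 (tt N11121 D21527) (tt N7689 (iv D16819)) (tt N10620 (iv F91377)) (tt N11069 (iv F96237)) (tt N9297 F76040) (tt N7704 F76041) (tt N11122 D21528) (tt N11081 (iv F96304)) (tt N9297 F76042) (tt N11075 (iv F96274)))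
theorem Q9299 : ∀ i, i < 9299 → P i := stepQ 9298 Q9298 (allL N9298 (tt N9298 F76043) (tt N11122 (iv F96527)) (tt N7690 F76044) (tt N11070 (iv F96245)) (tt N9298 F76045) (tt N11123 D21529) (tt N7689 (iv D16820)) (tt N11124 D21530) (tt N9298 F76046) (tt N11076 (iv F96280)))
theorem Q9300 : ∀ i, i < 9300 → P i := stepQ 9299 Q9299 (allL N9299 (tt N9299 F76047) (tt N10622 (iv F91384)) (tt N11123 (iv F96531)) (tt N7691 F76048) (tt N11125 D21531) (tt N7690 (iv D16821)) (tt N7706 F76049) (tt N11126 D21532) (tt N11127 D21533) (tt N11077 (iv F96284)))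
theorem Q9301 : ∀ i, i < 9301 → P i := stepQ 9300 Q9300 (allL N9300 (tt N9300 F76050) (tt N10623 (iv F91387)) (tt N11124 (iv F96534)) (tt N7692 F76051) (tt N9300 F76052) (tt N11126 (iv F96543)) (tt N11084 (iv F96320)) (tt N7690 (iv D16822)) (tt N9300 F76053) (tt N11078 (iv F96290)))
theorem Q9302 : ∀ i, i < 9302 → P i := stepQ 9301 Q9301 (allL N9301 (tt N9301 F76054) (tt N10624 (iv F91391)) (tt N11073 (iv F96260)) (tt N11126 (iv F96542)) (tt N7825 F76055) (tt N7692 F76056) (tt N11128 D21534) (tt N7691 (iv D16823)) (tt N11129 D21535) (tt N11079 (iv F96295)))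
theorem Q9303 : ∀ i, i < 9303 → P i := stepQ 9302 Q9302 (allL N9302 (tt N9302 F76057) (tt N10625 (iv F91394)) (tt N11074 (iv F96265)) (tt N11127 (iv F96545)) (tt N7826 F76058) (tt N9302 F76059) (tt N7709 F76060) (tt N11129 (iv F96554)) (tt N7691 (iv D16824)) (tt N11130 D21536))
theorem Q9304 : ∀ i, i < 9304 → P i := stepQ 9303 Q9303 (allL N9303 (tt N9303 F76061) (tt N11027 F134516) (tt N7693 (iv D16825)) (tt N7818 F76062) (tt N7730 F76063) (tt N7801 F76064) (tt N11131 D21538) (tt N7827 F76065) (tt N9303 F76066) (tt N7788 F76067))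
theorem Q9305 : ∀ i, i < 9305 → P i := stepQ 9304 Q9304 (allL N9304 (tt N9304 F76068) (tt N10627 (iv F91403)) (tt N11131 (iv F96566)) (tt N7694 F76069) (tt N7731 F76070) (tt N11132 D21539) (tt N7693 (iv D16826)) (tt N11133 D21540) (tt N9304 F76071) (tt N7789 F76072))
theorem Q9306 : ∀ i, i < 9306 → P i := stepQ 9305 Q9305 (allL N9305 (tt N9305 F76073) (tt N10628 (iv F91408)) (tt N7820 F76074) (tt N11132 (iv F96572)) (tt N7698 F76075) (tt N7694 (iv D16827)) (tt N7803 F76076) (tt N11134 D21541) (tt N11135 D21542) (tt N7790 F76077))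
theorem Q9307 : ∀ i, i < 9307 → P i := stepQ 9306 Q9306 (allL N9306 (tt N9306 F76078) (tt N10629 (iv F91412)) (tt N7821 F76079) (tt N11133 (iv F96576)) (tt N7695 F76080) (tt N11134 (iv F96584)) (tt N7830 F76081) (tt N7694 (iv D16828)) (tt N9306 F76082) (tt N7791 F76083))
theorem Q9308 : ∀ i, i < 9308 → P i := stepQ 9307 Q9307 (allL N9307 (tt N11136 D21543) (tt N7696 (iv D16829)) (tt N10634 (iv F91436)) (tt N11075 (iv F96269)) (tt N7738 F76084) (tt N11081 (iv F96303)) (tt N11137 D21544) (tt N7704 F76085) (tt N7710 F76086) (tt N11069 (iv F96242)))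
theorem Q9309 : ∀ i, i < 9309 → P i := stepQ 9308 Q9308 (allL N9308 (tt N9308 F76087) (tt N11137 (iv F96595)) (tt N7697 F76088) (tt N11076 (iv F96277)) (tt N7739 F76089) (tt N11138 D21545) (tt N7696 (iv D16830)) (tt N11139 D21546) (tt N7711 F76090) (tt N11070 (iv F96248)))
theorem Q9310 : ∀ i, i < 9310 → P i := stepQ 9309 Q9309 (allL N9309 (tt N9309 F76091) (tt N10636 (iv F91443)) (tt N11138 (iv F96599)) (tt N7698 F76092) (tt N11140 D21547) (tt N7697 (iv D16831)) (tt N11083 (iv F96315)) (tt N11141 D21548) (tt N11142 D21549) (tt N11071 (iv F96252)))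
theorem Q9311 : ∀ i, i < 9311 → P i := stepQ 9310 Q9310 (allL N9310 (tt N9310 F76093) (tt N10637 (iv F91445)) (tt N11139 (iv F96603)) (tt N7699 F76094) (tt N7741 F76095) (tt N11141 (iv F96613)) (tt N7707 F76096) (tt N7697 (iv D16832)) (tt N7713 F76097) (tt N11072 (iv F96258)))
theorem Q9312 : ∀ i, i < 9312 → P i := stepQ 9311 Q9311 (allL N9311 (tt N9311 F76098) (tt N10638 (iv F91450)) (tt N11079 (iv F96292)) (tt N11141 (iv F96612)) (tt N11134 (iv F96583)) (tt N7699 F76099) (tt N11143 D21550) (tt N7698 (iv D16833)) (tt N11144 D21551) (tt N11073 (iv F96263)))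
theorem Q9313 : ∀ i, i < 9313 → P i := stepQ 9312 Q9312 (allL N9312 (tt N9312 F76100) (tt N10639 (iv F91452)) (tt N11080 (iv F96297)) (tt N11142 (iv F96616)) (tt N11135 (iv F96588)) (tt N7715 F76101) (tt N11086 (iv F96332)) (tt N11144 (iv F96624)) (tt N7698 (iv D16834)) (tt N11145 D21552))
theorem Q9314 : ∀ i, i < 9314 → P i := stepQ 9313 Q9313 (allL N9313 (tt N11146 D21553) (tt N7700 (iv D16835)) (tt N10640 (iv F91454)) (tt N11081 (iv F96301)) (tt N7744 F76102) (tt N11075 (iv F96271)) (tt N11147 D21554) (tt N11069 (iv F96240)) (tt N9313 F76103) (tt N7704 F76104))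
theorem Q9315 : ∀ i, i < 9315 → P i := stepQ 9314 Q9314 (allL N9314 (tt N9314 F76105) (tt N11147 (iv F96632)) (tt N7701 F76106) (tt N11082 (iv F96309)) (tt N7745 F76107) (tt N11148 D21555) (tt N7700 (iv D16836)) (tt N11149 D21556) (tt N9314 F76108) (tt N7705 F76109))
theorem Q9316 : ∀ i, i < 9316 → P i := stepQ 9315 Q9315 (allL N9315 (tt N9315 F76110) (tt N10642 (iv F91462)) (tt N11148 (iv F96637)) (tt N7702 F76111) (tt N11150 D21557) (tt N7701 (iv D16837)) (tt N11077 (iv F96283)) (tt N11151 D21558) (tt N11152 D21559) (tt N7706 F76112))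
theorem Q9317 : ∀ i, i < 9317 → P i := stepQ 9316 Q9316 (allL N9316 (tt N9316 F76113) (tt N10643 (iv F91465)) (tt N11149 (iv F96640)) (tt N7703 F76114) (tt N7747 F76115) (tt N11151 (iv F96650)) (tt N11072 (iv F96256)) (tt N7701 (iv D16838)) (tt N9316 F76116) (tt N7707 F76117))
theorem Q9318 : ∀ i, i < 9318 → P i := stepQ 9317 Q9317 (allL N9317 (tt N9317 F76118) (tt N10644 (iv F91470)) (tt N11085 (iv F96324)) (tt N11151 (iv F96649)) (tt N7837 F76119) (tt N7703 F76120) (tt N11153 D21560) (tt N7702 (iv D16839)) (tt N11154 D21561) (tt N7708 F76121))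
theorem Q9319 : ∀ i, i < 9319 → P i := stepQ 9318 Q9318 (allL N9318 (tt N9318 F76122) (tt N10645 (iv F91474)) (tt N11086 (iv F96329)) (tt N11152 (iv F96653)) (tt N7838 F76123) (tt N9318 F76124) (tt N11080 (iv F96300)) (tt N11154 (iv F96661)) (tt N7702 (iv D16840)) (tt N11155 D21562))
theorem Q9320 : ∀ i, i < 9320 → P i := stepQ 9319 Q9319 (allL N9319 (tt N7704 (iv D16841)) (tt N9319 F76125) (tt N10646 (iv F91477)) (tt N11087 (iv F96334)) (tt N7750 F76126) (tt N11121 (iv F96525)) (tt N11156 D21563) (tt N11136 (iv F96593)) (tt N7716 F76127) (tt N11146 (iv F96631)))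
theorem Q9321 : ∀ i, i < 9321 → P i := stepQ 9320 Q9320 (allL N9320 (tt N11156 (iv F96666)) (tt N7705 F76128) (tt N10647 (iv F91481)) (tt N11088 (iv F96338)) (tt N7751 F76129) (tt N11157 D21564) (tt N7704 (iv D16842)) (tt N11158 D21565) (tt N7717 F76130) (tt N11147 (iv F96635)))
theorem Q9322 : ∀ i, i < 9322 → P i := stepQ 9321 Q9321 (allL N9321 (tt N9321 F76131) (tt N11157 (iv F96670)) (tt N7706 F76132) (tt N11089 (iv F96343)) (tt N11159 D21566) (tt N7705 (iv D16843)) (tt N11123 (iv F96532)) (tt N11160 D21567) (tt N11161 D21568) (tt N11148 (iv F96638)))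
theorem Q9323 : ∀ i, i < 9323 → P i := stepQ 9322 Q9322 (allL N9322 (tt N9322 F76133) (tt N11158 (iv F96671)) (tt N7707 F76134) (tt N11090 (iv F96346)) (tt N7753 F76135) (tt N11160 (iv F96679)) (tt N11139 (iv F96605)) (tt N7705 (iv D16844)) (tt N7719 F76136) (tt N11149 (iv F96643)))
theorem Q9324 : ∀ i, i < 9324 → P i := stepQ 9323 Q9323 (allL N9323 (tt N9323 F76137) (tt N10650 (iv F91488)) (tt N11159 (iv F96675)) (tt N7841 F76138) (tt N7706 (iv D16845)) (tt N7754 F76139) (tt N11125 (iv F96540)) (tt N11162 D21569) (tt N11163 D21570) (tt N11150 (iv F96647)))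
theorem Q9325 : ∀ i, i < 9325 → P i := stepQ 9324 Q9324 (allL N9324 (tt N9324 F76140) (tt N10651 (iv F91491)) (tt N11160 (iv F96678)) (tt N7708 F76141) (tt N11162 (iv F96685)) (tt N7707 F76142) (tt N11164 D21571) (tt N7706 (iv D16846)) (tt N11165 D21572) (tt N11151 (iv F96651)))
theorem Q9326 : ∀ i, i < 9326 → P i := stepQ 9325 Q9325 (allL N9325 (tt N9325 F76143) (tt N10652 (iv F91494)) (tt N11161 (iv F96681)) (tt N7709 F76144) (tt N11163 (iv F96689)) (tt N7721 F76145) (tt N11127 (iv F96547)) (tt N11165 (iv F96696)) (tt N7706 (iv D16847)) (tt N11166 D21573))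
theorem Q9327 : ∀ i, i < 9327 → P i := stepQ 9326 Q9326 (allL N9326 (tt N9326 F76146) (tt N10653 (iv F91497)) (tt N11094 (iv F96359)) (tt N11164 (iv F96692)) (tt N7844 F76147) (tt N11143 (iv F96621)) (tt N7708 (iv D16848)) (tt N11128 (iv F96550)) (tt N11167 D21574) (tt N11153 (iv F96657)))
theorem Q9328 : ∀ i, i < 9328 → P i := stepQ 9327 Q9327 (allL N9327 (tt N9327 F76148) (tt N10654 (iv F91499)) (tt N11095 (iv F96362)) (tt N11165 (iv F96694)) (tt N7845 F76149) (tt N7723 F76150) (tt N11167 (iv F96702)) (tt N7709 F76151) (tt N7708 (iv D16849)) (tt N11168 D21575))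
theorem Q9329 : ∀ i, i < 9329 → P i := stepQ 9328 Q9328 (allL N9328 (tt N9328 F76152) (tt N10655 (iv F91503)) (tt N11096 (iv F96367)) (tt N11166 (iv F96698)) (tt N7846 F76153) (tt N7724 F76154) (tt N11130 (iv F96558)) (tt N11168 (iv F96706)) (tt N11155 (iv F96665)) (tt N7709 (iv D16850)))
theorem Q9330 : ∀ i, i < 9330 → P i := stepQ 9329 Q9329 (allL N9329 (tt N7710 (iv D16851)) (tt N9329 F76155) (tt N10656 (iv F91506)) (tt N11097 (iv F96371)) (tt N7757 F76156) (tt N9329 F76157) (tt N11169 D21576) (tt N7716 F76158) (tt N11136 (iv F96594)) (tt N9329 F76159))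
theorem Q9331 : ∀ i, i < 9331 → P i := stepQ 9330 Q9330 (allL N9330 (tt N11169 (iv F96707)) (tt N7711 F76160) (tt N10657 (iv F91512)) (tt N11098 (iv F96377)) (tt N7758 F76161) (tt N10901 F92688) (tt N7710 (iv D16852)) (tt N11170 D21577) (tt N11137 (iv F96597)) (tt N9330 F76162))
theorem Q9332 : ∀ i, i < 9332 → P i := stepQ 9331 Q9331 (allL N9331 (tt N9331 F76163) (tt N10901 (iv F92684)) (tt N7712 F76164) (tt N11099 (iv F96382)) (tt N7866 F76165) (tt N7711 (iv D16853)) (tt N9331 F76166) (tt N11171 D21578) (tt N7864 (iv F76168)) (tt N9331 F76167))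
theorem Q9333 : ∀ i, i < 9333 → P i := stepQ 9332 Q9332 (allL N9332 (tt N9332 F76169) (tt N11170 (iv F96711)) (tt N7713 F76170) (tt N11100 (iv F96389)) (tt N7760 F76171) (tt N11171 (iv F96718)) (tt N7719 F76172) (tt N7711 (iv D16854)) (tt N11139 (iv F96606)) (tt N9332 F76173))
theorem Q9334 : ∀ i, i < 9334 → P i := stepQ 9333 Q9333 (allL N9333 (tt N9333 F76174) (tt N10660 (iv F91522)) (tt N7866 F76175) (tt N9333 F76176) (tt N7712 (iv D16855)) (tt N7761 F76177) (tt N9333 F76178) (tt N11172 D21579) (tt N7863 (iv F76180)) (tt N9333 F76179))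
theorem Q9335 : ∀ i, i < 9335 → P i := stepQ 9334 Q9334 (allL N9334 (tt N9334 F76181) (tt N10661 (iv F91528)) (tt N11171 (iv F96716)) (tt N7714 F76182) (tt N11172 (iv F96724)) (tt N7713 F76183) (tt N11173 D21580) (tt N7712 (iv D16856)) (tt N11174 D21581) (tt N9334 F76184))
theorem Q9336 : ∀ i, i < 9336 → P i := stepQ 9335 Q9335 (allL N9335 (tt N9335 F76185) (tt N10662 (iv F91532)) (tt N7864 F76186) (tt N7715 F76187) (tt N7863 F76188) (tt N11142 (iv F96618)) (tt N9335 F76189) (tt N11174 (iv F96737)) (tt N7712 (iv D16857)) (tt N7869 (iv F76190)))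
theorem Q9337 : ∀ i, i < 9337 → P i := stepQ 9336 Q9336 (allL N9336 (tt N9336 F76191) (tt N10663 (iv F91537)) (tt N11104 (iv F96411)) (tt N11173 (iv F96729)) (tt N9336 F76192) (tt N7722 F76193) (tt N7714 (iv D16858)) (tt N9336 F76194) (tt N11175 D21582) (tt N9336 F76195))
theorem Q9338 : ∀ i, i < 9338 → P i := stepQ 9337 Q9337 (allL N9337 (tt N9337 F76196) (tt N10664 (iv F91542)) (tt N11105 (iv F96417)) (tt N11174 (iv F96735)) (tt N9337 F76197) (tt N11144 (iv F96623)) (tt N11175 (iv F96741)) (tt N7715 F76198) (tt N7714 (iv D16859)) (tt N11176 D21583))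
theorem Q9339 : ∀ i, i < 9339 → P i := stepQ 9338 Q9338 (allL N9338 (tt N9338 F76199) (tt N10665 (iv F91545)) (tt N11106 (iv F96421)) (tt N7869 F76200) (tt N9338 F76201) (tt N11145 (iv F96627)) (tt N9338 F76202) (tt N11176 (iv F96746)) (tt N9338 F76203) (tt N7715 (iv D16860)))
theorem Q9340 : ∀ i, i < 9340 → P i := stepQ 9339 Q9339 (allL N9339 (tt N7717 F76204) (tt N9339 F76205) (tt N10666 (iv F91551)) (tt N11107 (iv F96428)) (tt N7766 F76206) (tt N11177 D21584) (tt N7716 (iv D16861)) (tt N11178 D21585) (tt N11156 (iv F96669)) (tt N9339 F76207))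
theorem Q9341 : ∀ i, i < 9341 → P i := stepQ 9340 Q9340 (allL N9340 (tt N11177 (iv F96748)) (tt N7718 F76208) (tt N10667 (iv F91555)) (tt N11108 (iv F96432)) (tt N9340 F76209) (tt N7717 (iv D16862)) (tt N9340 F76210) (tt N11179 D21586) (tt N11180 D21587) (tt N9340 F76211))
theorem Q9342 : ∀ i, i < 9342 → P i := stepQ 9341 Q9341 (allL N9341 (tt N11178 (iv F96753)) (tt N7719 F76212) (tt N10668 (iv F91560)) (tt N11109 (iv F96436)) (tt N7767 F76213) (tt N11179 (iv F96759)) (tt N11170 (iv F96713)) (tt N7717 (iv D16863)) (tt N11158 (iv F96673)) (tt N9341 F76214))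
theorem Q9343 : ∀ i, i < 9343 → P i := stepQ 9342 Q9342 (allL N9342 (tt N9342 F76215) (tt N11179 (iv F96757)) (tt N7720 F76216) (tt N11111 (iv F96447)) (tt N9342 F76217) (tt N7719 F76218) (tt N11181 D21588) (tt N7718 (iv D16864)) (tt N11182 D21589) (tt N9342 F76219))
theorem Q9344 : ∀ i, i < 9344 → P i := stepQ 9343 Q9343 (allL N9343 (tt N9343 F76220) (tt N11180 (iv F96761)) (tt N7721 F76221) (tt N11112 (iv F96452)) (tt N9343 F76222) (tt N11161 (iv F96682)) (tt N9343 F76223) (tt N11182 (iv F96772)) (tt N7718 (iv D16865)) (tt N11183 D21590))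
theorem Q9345 : ∀ i, i < 9345 → P i := stepQ 9344 Q9344 (allL N9344 (tt N9344 F76224) (tt N10671 (iv F91570)) (tt N11181 (iv F96765)) (tt N7722 F76225) (tt N9344 F76226) (tt N11173 (iv F96730)) (tt N7720 (iv D16866)) (tt N9344 F76227) (tt N11184 D21591) (tt N9344 F76228))
theorem Q9346 : ∀ i, i < 9346 → P i := stepQ 9345 Q9345 (allL N9345 (tt N9345 F76229) (tt N10672 (iv F91575)) (tt N11182 (iv F96770)) (tt N7723 F76230) (tt N9345 F76231) (tt N11165 (iv F96695)) (tt N11184 (iv F96781)) (tt N7721 F76232) (tt N7720 (iv D16867)) (tt N11185 D21592))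
theorem Q9347 : ∀ i, i < 9347 → P i := stepQ 9346 Q9346 (allL N9346 (tt N9346 F76233) (tt N10673 (iv F91579)) (tt N11183 (iv F96774)) (tt N7724 F76234) (tt N9346 F76235) (tt N11166 (iv F96699)) (tt N9346 F76236) (tt N11185 (iv F96786)) (tt N9346 F76237) (tt N7721 (iv D16868)))
theorem Q9348 : ∀ i, i < 9348 → P i := stepQ 9347 Q9347 (allL N9347 (tt N9347 F76238) (tt N10674 (iv F91584)) (tt N11117 (iv F96475)) (tt N11184 (iv F96779)) (tt N7725 F76239) (tt N11186 D21593) (tt N7723 F76240) (tt N9347 F76241) (tt N7722 (iv D16869)) (tt N11187 D21594))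
theorem Q9349 : ∀ i, i < 9349 → P i := stepQ 9348 Q9348 (allL N9348 (tt N9348 F76242) (tt N10675 (iv F91588)) (tt N11118 (iv F96480)) (tt N11185 (iv F96784)) (tt N7726 F76243) (tt N11168 (iv F96705)) (tt N11187 (iv F96792)) (tt N7724 F76244) (tt N9348 F76245) (tt N7723 (iv D16870)))
theorem Q9350 : ∀ i, i < 9350 → P i := stepQ 9349 Q9349 (allL N9349 (tt N9349 F76246) (tt N10676 (iv F91592)) (tt N7871 (iv F135259)) (tt N9349 F76247) (tt N11188 D21595) (tt N7725 (iv D16871)) (tt N7850 F76248) (tt N9349 F76249) (tt N9349 F76250) (tt N11189 D21596))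
theorem Q9351 : ∀ i, i < 9351 → P i := stepQ 9350 Q9350 (allL N9350 (tt N9350 F76251) (tt N10677 (iv F91597)) (tt N11120 (iv F96519)) (tt N9350 F76252) (tt N11187 (iv F96791)) (tt N11189 (iv F96801)) (tt N7726 F76253) (tt N9350 F76254) (tt N9350 F76255) (tt N7725 (iv D16872)))
theorem Q9352 : ∀ i, i < 9352 → P i := stepQ 9351 Q9351 (allL N9351 (tt N9351 F76256) (tt N9585 F134520) (tt N7727 (iv D16873)) (tt N9351 F76257) (tt N7788 F76258) (tt N9351 F76259) (tt N9554 (iv F135232)) (tt N7852 F76260) (tt N7931 F76261) (tt N7730 F76262))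
theorem Q9353 : ∀ i, i < 9353 → P i := stepQ 9352 Q9352 (allL N9352 (tt N9352 F76263) (tt N9614 (iv F84202)) (tt N9554 (iv F135230)) (tt N7728 F76264) (tt N7789 F76265) (tt N9564 (iv F135236)) (tt N7727 (iv D16874)) (tt N11190 D21600) (tt N7932 F76266) (tt N7731 F76267))
theorem Q9354 : ∀ i, i < 9354 → P i := stepQ 9353 Q9353 (allL N9353 (tt N9353 F76268) (tt N9615 (iv F84208)) (tt N9353 F76269) (tt N9564 F135395) (tt N7736 F76270) (tt N7728 (iv D16875)) (tt N9353 F76271) (tt N11191 D21601) (tt N9561 F135396) (tt N7732 F76272))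
theorem Q9355 : ∀ i, i < 9355 → P i := stepQ 9354 Q9354 (allL N9354 (tt N9354 F76273) (tt N9616 (iv F84214)) (tt N9354 F76274) (tt N11190 (iv F96821)) (tt N7729 F76275) (tt N11191 (iv F96829)) (tt N7855 F76276) (tt N7728 (iv D16876)) (tt N7934 F76277) (tt N7733 F76278))
theorem Q9356 : ∀ i, i < 9356 → P i := stepQ 9355 Q9355 (allL N9355 (tt N10318 F135043) (tt N7730 (iv D16877)) (tt N10678 (iv F91602)) (tt N9355 F76279) (tt N11027 F135042) (tt N9355 F76280) (tt N9612 (iv F135353)) (tt N7856 F76281) (tt N9355 F76282) (tt N9585 F135044))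
theorem Q9357 : ∀ i, i < 9357 → P i := stepQ 9356 Q9356 (allL N9356 (tt N9356 F76283) (tt N9612 F135485) (tt N7731 F76284) (tt N9356 F76285) (tt N11131 (iv F96568)) (tt N9567 F135486) (tt N7730 (iv D16878)) (tt N11192 D21606) (tt N9356 F76286) (tt N9554 F135487))
theorem Q9358 : ∀ i, i < 9358 → P i := stepQ 9357 Q9357 (allL N9357 (tt N9357 F76287) (tt N10680 (iv F91608)) (tt N9567 F135361) (tt N7732 F76288) (tt N11193 D21607) (tt N7731 (iv D16879)) (tt N9357 F76289) (tt N11194 D21608) (tt N9581 F135362) (tt N9564 F135363))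
theorem Q9359 : ∀ i, i < 9359 → P i := stepQ 9358 Q9358 (allL N9358 (tt N9358 F76290) (tt N10681 (iv F91611)) (tt N11192 (iv F96849)) (tt N7733 F76291) (tt N11133 (iv F96577)) (tt N11194 (iv F96862)) (tt N7859 F76292) (tt N7731 (iv D16880)) (tt N9358 F76293) (tt N11190 (iv F96825)))
theorem Q9360 : ∀ i, i < 9360 → P i := stepQ 9359 Q9359 (allL N9359 (tt N9359 F76294) (tt N10682 (iv F91615)) (tt N9359 F76295) (tt N11194 (iv F96861)) (tt N7742 F76296) (tt N7733 F76297) (tt N11195 D21610) (tt N7732 (iv D16881)) (tt N11196 D21611) (tt N11191 (iv F96830)))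
theorem Q9361 : ∀ i, i < 9361 → P i := stepQ 9360 Q9360 (allL N9360 (tt N9360 F76298) (tt N10683 (iv F91618)) (tt N9360 F76299) (tt N9581 F135357) (tt N7743 F76300) (tt N9360 F76301) (tt N9360 F76302) (tt N11196 (iv F96879)) (tt N7732 (iv D16882)) (tt N9578 F135358))
theorem Q9362 : ∀ i, i < 9362 → P i := stepQ 9361 Q9361 (allL N9361 (tt N11197 D21613) (tt N7734 (iv D16883)) (tt N10684 (iv F91622)) (tt N9361 F76303) (tt N11069 (iv F96238)) (tt N9361 F76304) (tt N11198 D21614) (tt N7744 F76305) (tt N9361 F76306) (tt N7738 F76307))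
theorem Q9363 : ∀ i, i < 9363 → P i := stepQ 9362 Q9362 (allL N9362 (tt N9362 F76308) (tt N11198 (iv F96892)) (tt N7735 F76309) (tt N9362 F76310) (tt N11070 (iv F96246)) (tt N11199 D21615) (tt N7734 (iv D16884)) (tt N11200 D21616) (tt N9362 F76311) (tt N7739 F76312))
theorem Q9364 : ∀ i, i < 9364 → P i := stepQ 9363 Q9363 (allL N9363 (tt N9363 F76313) (tt N10686 (iv F91630)) (tt N11199 (iv F96897)) (tt N7736 F76314) (tt N11201 D21617) (tt N7735 (iv D16885)) (tt N9363 F76315) (tt N11202 D21618) (tt N11203 D21619) (tt N7740 F76316))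
theorem Q9365 : ∀ i, i < 9365 → P i := stepQ 9364 Q9364 (allL N9364 (tt N9364 F76317) (tt N10687 (iv F91634)) (tt N11200 (iv F96904)) (tt N7737 F76318) (tt N11072 (iv F96255)) (tt N11202 (iv F96916)) (tt N7747 F76319) (tt N7735 (iv D16886)) (tt N9364 F76320) (tt N7741 F76321))
theorem Q9366 : ∀ i, i < 9366 → P i := stepQ 9365 Q9365 (allL N9365 (tt N9365 F76322) (tt N10688 (iv F91639)) (tt N9365 F76323) (tt N11202 (iv F96915)) (tt N11191 (iv F96828)) (tt N7737 F76324) (tt N11204 D21620) (tt N7736 (iv D16887)) (tt N11205 D21621) (tt N7742 F76325))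
theorem Q9367 : ∀ i, i < 9367 → P i := stepQ 9366 Q9366 (allL N9366 (tt N9366 F76326) (tt N10689 (iv F91642)) (tt N9366 F76327) (tt N11203 (iv F96920)) (tt N9561 (iv F135317)) (tt N9366 F76328) (tt N9366 F76329) (tt N11205 (iv F96933)) (tt N7736 (iv D16888)) (tt N9576 F135083))
theorem Q9368 : ∀ i, i < 9368 → P i := stepQ 9367 Q9367 (allL N9367 (tt N7738 (iv D16889)) (tt N9367 F76330) (tt N10690 (iv F91645)) (tt N9367 F76331) (tt N11136 (iv F96592)) (tt N9367 F76332) (tt N11206 D21623) (tt N7750 F76333) (tt N7757 F76334) (tt N11197 (iv F96891)))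
theorem Q9369 : ∀ i, i < 9369 → P i := stepQ 9368 Q9368 (allL N9368 (tt N11206 (iv F96940)) (tt N7739 F76335) (tt N10691 (iv F91650)) (tt N9368 F76336) (tt N11137 (iv F96596)) (tt N10961 (iv F93381)) (tt N7738 (iv D16890)) (tt N11207 D21624) (tt N7758 F76337) (tt N11198 (iv F96895)))
theorem Q9370 : ∀ i, i < 9370 → P i := stepQ 9369 Q9369 (allL N9369 (tt N9369 F76338) (tt N10961 (iv F93378)) (tt N7740 F76339) (tt N9369 F76340) (tt N7912 (iv F76343)) (tt N7739 (iv D16891)) (tt N9369 F76341) (tt N11208 D21625) (tt N7910 F76342) (tt N11199 (iv F96900)))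
theorem Q9371 : ∀ i, i < 9371 → P i := stepQ 9370 Q9370 (allL N9370 (tt N9370 F76344) (tt N11207 (iv F96944)) (tt N7741 F76345) (tt N9370 F76346) (tt N11139 (iv F96604)) (tt N11208 (iv F96952)) (tt N7753 F76347) (tt N7739 (iv D16892)) (tt N7760 F76348) (tt N11200 (iv F96908)))
theorem Q9372 : ∀ i, i < 9372 → P i := stepQ 9371 Q9371 (allL N9371 (tt N9371 F76349) (tt N10694 (iv F91657)) (tt N7912 F76350) (tt N11193 (iv F96854)) (tt N7740 (iv D16893)) (tt N11140 (iv F96609)) (tt N9371 F76351) (tt N11209 D21626) (tt N7908 (iv F76352)) (tt N11201 (iv F96912)))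
theorem Q9373 : ∀ i, i < 9373 → P i := stepQ 9372 Q9372 (allL N9372 (tt N9372 F76353) (tt N10695 (iv F91660)) (tt N11208 (iv F96949)) (tt N7742 F76354) (tt N11209 (iv F96956)) (tt N7741 F76355) (tt N11210 D21627) (tt N7740 (iv D16894)) (tt N11211 D21628) (tt N11202 (iv F96917)))
theorem Q9374 : ∀ i, i < 9374 → P i := stepQ 9373 Q9373 (allL N9373 (tt N9373 F76356) (tt N10696 (iv F91663)) (tt N7910 F76357) (tt N7743 F76358) (tt N7908 F76359) (tt N7763 F76360) (tt N9373 F76361) (tt N11211 (iv F96967)) (tt N7740 (iv D16895)) (tt N7916 (iv F76362)))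
theorem Q9375 : ∀ i, i < 9375 → P i := stepQ 9374 Q9374 (allL N9374 (tt N9374 F76363) (tt N10697 (iv F91669)) (tt N9374 F76364) (tt N11210 (iv F96959)) (tt N11195 (iv F96872)) (tt N7756 F76365) (tt N7742 (iv D16896)) (tt N9374 F76366) (tt N11212 D21629) (tt N11204 (iv F96929)))
theorem Q9376 : ∀ i, i < 9376 → P i := stepQ 9375 Q9375 (allL N9375 (tt N9375 F76367) (tt N10698 (iv F91672)) (tt N9375 F76368) (tt N11211 (iv F96964)) (tt N11196 (iv F96877)) (tt N7764 F76369) (tt N11212 (iv F96972)) (tt N7743 F76370) (tt N7742 (iv D16897)) (tt N11213 D21630))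
theorem Q9377 : ∀ i, i < 9377 → P i := stepQ 9376 Q9376 (allL N9376 (tt N9376 F76371) (tt N10699 (iv F91675)) (tt N9376 F76372) (tt N7916 F76373) (tt N9578 (iv F135098)) (tt N7765 F76374) (tt N9376 F76375) (tt N11213 (iv F96978)) (tt N9576 F134619) (tt N7743 (iv D16898)))
theorem Q9378 : ∀ i, i < 9378 → P i := stepQ 9377 Q9377 (allL N9377 (tt N7744 (iv D16899)) (tt N9377 F76376) (tt N10700 (iv F91679)) (tt N9377 F76377) (tt N11146 (iv F96629)) (tt N9377 F76378) (tt N11214 D21631) (tt N11197 (iv F96889)) (tt N9377 F76379) (tt N7750 F76380))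
theorem Q9379 : ∀ i, i < 9379 → P i := stepQ 9378 Q9378 (allL N9378 (tt N11214 (iv F96979)) (tt N7745 F76381) (tt N10701 (iv F91684)) (tt N9378 F76382) (tt N11147 (iv F96633)) (tt N11215 D21632) (tt N7744 (iv D16900)) (tt N11216 D21633) (tt N9378 F76383) (tt N7751 F76384))
theorem Q9380 : ∀ i, i < 9380 → P i := stepQ 9379 Q9379 (allL N9379 (tt N9379 F76385) (tt N11215 (iv F96984)) (tt N7746 F76386) (tt N9379 F76387) (tt N11103 (iv F96407)) (tt N7745 (iv D16901)) (tt N9379 F76388) (tt N11217 D21634) (tt N11101 F96399) (tt N7752 F76389))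
theorem Q9381 : ∀ i, i < 9381 → P i := stepQ 9380 Q9380 (allL N9380 (tt N9380 F76390) (tt N11216 (iv F96988)) (tt N7747 F76391) (tt N9380 F76392) (tt N11149 (iv F96641)) (tt N11217 (iv F96995)) (tt N11200 (iv F96906)) (tt N7745 (iv D16902)) (tt N9380 F76393) (tt N7753 F76394))
theorem Q9382 : ∀ i, i < 9382 → P i := stepQ 9381 Q9381 (allL N9381 (tt N9381 F76395) (tt N10704 (iv F91693)) (tt N11103 (iv F96405)) (tt N7864 F76396) (tt N7746 (iv D16903)) (tt N11150 (iv F96646)) (tt N9381 F76397) (tt N11218 D21635) (tt N11099 F96386) (tt N7754 F76398))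
theorem Q9383 : ∀ i, i < 9383 → P i := stepQ 9382 Q9382 (allL N9382 (tt N9382 F76399) (tt N10705 (iv F91697)) (tt N11217 (iv F96993)) (tt N7748 F76400) (tt N11218 (iv F96999)) (tt N7747 F76401) (tt N11219 D21636) (tt N7746 (iv D16904)) (tt N11220 D21637) (tt N7755 F76402))
theorem Q9384 : ∀ i, i < 9384 → P i := stepQ 9383 Q9383 (allL N9383 (tt N9383 F76403) (tt N10706 (iv F91701)) (tt N11101 (iv F96394)) (tt N7749 F76404) (tt N11099 F96385) (tt N9383 F76405) (tt N9383 F76406) (tt N11220 (iv F97008)) (tt N7746 (iv D16905)) (tt N9383 F76407))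
theorem Q9385 : ∀ i, i < 9385 → P i := stepQ 9384 Q9384 (allL N9384 (tt N9384 F76408) (tt N10707 (iv F91706)) (tt N9384 F76409) (tt N11219 (iv F97002)) (tt N7867 F76410) (tt N11204 (iv F96927)) (tt N7748 (iv D16906)) (tt N9384 F76411) (tt N11221 D21638) (tt N7756 F76412))
theorem Q9386 : ∀ i, i < 9386 → P i := stepQ 9385 Q9385 (allL N9385 (tt N9385 F76413) (tt N10708 (iv F91710)) (tt N9385 F76414) (tt N11220 (iv F97006)) (tt N7868 F76415) (tt N9385 F76416) (tt N11221 (iv F97013)) (tt N7749 F76417) (tt N7748 (iv D16907)) (tt N9385 F76418))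
theorem Q9387 : ∀ i, i < 9387 → P i := stepQ 9386 Q9386 (allL N9386 (tt N7751 F76419) (tt N9386 F76420) (tt N10709 (iv F91716)) (tt N9386 F76421) (tt N11156 (iv F96668)) (tt N11222 D21639) (tt N7750 (iv D16908)) (tt N11223 D21640) (tt N7766 F76422) (tt N11214 (iv F96983)))
theorem Q9388 : ∀ i, i < 9388 → P i := stepQ 9387 Q9387 (allL N9387 (tt N11222 (iv F97016)) (tt N7752 F76423) (tt N10710 (iv F91719)) (tt N9387 F76424) (tt N11224 D21641) (tt N7751 (iv D16909)) (tt N9387 F76425) (tt N11225 D21642) (tt N9387 F76426) (tt N11215 (iv F96987)))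
theorem Q9389 : ∀ i, i < 9389 → P i := stepQ 9388 Q9388 (allL N9388 (tt N11223 (iv F97021)) (tt N7753 F76427) (tt N10711 (iv F91723)) (tt N9388 F76428) (tt N11158 (iv F96672)) (tt N11225 (iv F97030)) (tt N11207 (iv F96946)) (tt N7751 (iv D16910)) (tt N7767 F76429) (tt N11216 (iv F96991)))
theorem Q9390 : ∀ i, i < 9390 → P i := stepQ 9389 Q9389 (allL N9389 (tt N9389 F76430) (tt N11224 (iv F97025)) (tt N7754 F76431) (tt N11106 (iv F96422)) (tt N7752 (iv D16911)) (tt N11159 (iv F96676)) (tt N9389 F76432) (tt N11226 D21643) (tt N9389 F76433) (tt N11103 F96409))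
theorem Q9391 : ∀ i, i < 9391 → P i := stepQ 9390 Q9390 (allL N9390 (tt N9390 F76434) (tt N11225 (iv F97028)) (tt N7755 F76435) (tt N9390 F76436) (tt N11226 (iv F97034)) (tt N7753 F76437) (tt N11227 D21644) (tt N7752 (iv D16912)) (tt N9390 F76438) (tt N11217 (iv F96996)))
theorem Q9392 : ∀ i, i < 9392 → P i := stepQ 9391 Q9391 (allL N9391 (tt N9391 F76439) (tt N10714 (iv F91731)) (tt N11226 (iv F97033)) (tt N7870 F76440) (tt N7755 F76441) (tt N11162 (iv F96686)) (tt N11228 D21645) (tt N7754 (iv D16913)) (tt N9391 F76442) (tt N11218 (iv F97000)))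
theorem Q9393 : ∀ i, i < 9393 → P i := stepQ 9392 Q9392 (allL N9392 (tt N9392 F76443) (tt N10715 (iv F91735)) (tt N11227 (iv F97037)) (tt N7756 F76444) (tt N11228 (iv F97043)) (tt N11210 (iv F96960)) (tt N7755 (iv D16914)) (tt N9392 F76445) (tt N9392 F76446) (tt N11219 (iv F97004)))
theorem Q9394 : ∀ i, i < 9394 → P i := stepQ 9393 Q9393 (allL N9393 (tt N7758 F76447) (tt N9393 F76448) (tt N10329 F134919) (tt N9393 F76449) (tt N11169 (iv F96709)) (tt N10165 F87530) (tt N7757 (iv D16915)) (tt N11229 D21646) (tt N11206 (iv F96943)) (tt N9393 F76450))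
theorem Q9395 : ∀ i, i < 9395 → P i := stepQ 9394 Q9394 (allL N9394 (tt N11229 (iv F97046)) (tt N7760 F76451) (tt N10716 (iv F91749)) (tt N9394 F76452) (tt N11170 (iv F96712)) (tt N10986 F93615) (tt N7767 F76453) (tt N7758 (iv D16916)) (tt N11207 (iv F96947)) (tt N9394 F76454))
theorem Q9396 : ∀ i, i < 9396 → P i := stepQ 9395 Q9395 (allL N9395 (tt N9395 F76455) (tt N10986 (iv F93609)) (tt N7762 F76456) (tt N9395 F76457) (tt N7929 F76458) (tt N7760 F76459) (tt N9395 F76460) (tt N7759 (iv D16917)) (tt N7928 F76461) (tt N9395 F76462))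
theorem Q9397 : ∀ i, i < 9397 → P i := stepQ 9396 Q9396 (allL N9396 (tt N9396 F76463) (tt N10718 (iv F91766)) (tt N7929 F76464) (tt N9396 F76465) (tt N7762 F76466) (tt N11172 (iv F96725)) (tt N9396 F76467) (tt N7761 (iv D16918)) (tt N7927 F134640) (tt N9396 F76469))
theorem Q9398 : ∀ i, i < 9398 → P i := stepQ 9397 Q9397 (allL N9397 (tt N9397 F76470) (tt N10719 (iv F91772)) (tt N7928 F76471) (tt N7764 F76472) (tt N7927 F134638) (tt N11211 (iv F96966)) (tt N9397 F76474) (tt N7763 F76475) (tt N7762 (iv D16919)) (tt N7926 F134639))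
theorem Q9399 : ∀ i, i < 9399 → P i := stepQ 9398 Q9398 (allL N9398 (tt N9398 F76477) (tt N10720 (iv F91778)) (tt N9398 F76478) (tt N7926 F134637) (tt N9398 F76480) (tt N11213 (iv F96977)) (tt N9398 F76481) (tt N7765 F76482) (tt N9398 F76483) (tt N7764 (iv D16920)))
theorem Q9400 : ∀ i, i < 9400 → P i := stepQ 9399 Q9399 (allL N9399 (tt N7767 F76484) (tt N9399 F76485) (tt N10721 (iv F91785)) (tt N9399 F76486) (tt N11178 (iv F96755)) (tt N9399 F76487) (tt N11229 (iv F97049)) (tt N7766 (iv D16921)) (tt N11223 (iv F97024)) (tt N9399 F76488))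
theorem Q9401 : ∀ i, i < 9401 → P i := stepQ 9400 Q9400 (allL N9400 (tt N7780 F76494) (tt N9400 F76495) (tt N10723 (iv F91792)) (tt N10024 (iv F135154)) (tt N7770 F76496) (tt N11230 D21649) (tt N7769 (iv D16923)) (tt N11231 D21650) (tt N7876 F76497) (tt N7771 F76498))
theorem Q9402 : ∀ i, i < 9402 → P i := stepQ 9401 Q9401 (allL N9401 (tt N7781 F76499) (tt N9401 F76500) (tt N10724 (iv F91797)) (tt N9401 F76501) (tt N11231 (iv F97066)) (tt N9795 (iv F85289)) (tt N9981 (iv F86236)) (tt N7770 (iv D16924)) (tt N7877 F76502) (tt N7772 F76503))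
theorem Q9403 : ∀ i, i < 9403 → P i := stepQ 9402 Q9402 (allL N9402 (tt N7782 F76512) (tt N9402 F76513) (tt N10726 (iv F91807)) (tt N10005 (iv F135153)) (tt N11040 (iv F96020)) (tt N7771 (iv D16927)) (tt N10359 (iv F90169)) (tt N11232 D21655) (tt N10002 (iv F135159)) (tt N11230 (iv F97063)))
theorem Q9404 : ∀ i, i < 9404 → P i := stepQ 9403 Q9403 (allL N9403 (tt N7783 F76514) (tt N9403 F76515) (tt N10727 (iv F91809)) (tt N10023 (iv F135152)) (tt N7772 F76516) (tt N11232 (iv F97086)) (tt N10358 (iv F90155)) (tt N7771 (iv D16928)) (tt N7775 F76517) (tt N11231 (iv F97068)))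
theorem Q9405 : ∀ i, i < 9405 → P i := stepQ 9404 Q9404 (allL N9404 (tt N7784 F76533) (tt N9404 F76534) (tt N10729 (iv F91826)) (tt N10022 (iv F134265)) (tt N7774 F76535) (tt N10030 F133660) (tt N7775 F76536) (tt N7773 (iv D16932)) (tt N10358 (iv F90156)) (tt N7879 F76537))
theorem Q9406 : ∀ i, i < 9406 → P i := stepQ 9405 Q9405 (allL N9405 (tt N10359 (iv F90167)) (tt N7790 F76610) (tt N10733 (iv F91896)) (tt N10827 (iv F135170)) (tt N10632 (iv F91428)) (tt N7776 (iv D16950)) (tt N7782 F76611) (tt N11233 D21689) (tt N10824 (iv F135182)) (tt N10628 (iv F91411)))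
theorem Q9407 : ∀ i, i < 9407 → P i := stepQ 9406 Q9406 (allL N9406 (tt N10360 (iv F90170)) (tt N7791 F76612) (tt N10734 (iv F91899)) (tt N11019 (iv F135191)) (tt N7777 F76613) (tt N11233 (iv F97232)) (tt N9605 (iv F84149)) (tt N7776 (iv D16951)) (tt N7930 F76614) (tt N10629 (iv F91416)))
theorem Q9408 : ∀ i, i < 9408 → P i := stepQ 9407 Q9407 (allL N9407 (tt N10357 (iv F90148)) (tt N7799 F76622) (tt N10737 (iv F91909)) (tt N11030 F134470) (tt N9669 (iv F84559)) (tt N7778 (iv D16954)) (tt N9604 (iv F84144)) (tt N11234 D21695) (tt N11031 F134471) (tt N10821 (iv F92291)))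
theorem Q9409 : ∀ i, i < 9409 → P i := stepQ 9408 Q9408 (allL N9408 (tt N10358 (iv F90152)) (tt N7800 F76623) (tt N10738 (iv F91911)) (tt N10874 F134472) (tt N7779 F76624) (tt N11234 (iv F97251)) (tt N7783 F76625) (tt N7778 (iv D16955)) (tt N7784 F76626) (tt N10822 (iv F92296)))
theorem Q9410 : ∀ i, i < 9410 → P i := stepQ 9409 Q9409 (allL N9409 (tt N11230 (iv F97061)) (tt N7803 F76635) (tt N10741 (iv F91923)) (tt N10853 (iv F135172)) (tt N10614 (iv F91350)) (tt N7780 (iv D16958)) (tt N10628 (iv F91410)) (tt N11235 D21701) (tt N11236 D21702) (tt N7782 F76636))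
theorem Q9411 : ∀ i, i < 9411 → P i := stepQ 9410 Q9410 (allL N9410 (tt N11231 (iv F97064)) (tt N7804 F76637) (tt N10742 (iv F91926)) (tt N10875 (iv F135166)) (tt N7781 F76638) (tt N11235 (iv F97271)) (tt N10822 (iv F92294)) (tt N7780 (iv D16959)) (tt N7885 F76639) (tt N7783 F76640))
theorem Q9412 : ∀ i, i < 9412 → P i := stepQ 9411 Q9411 (allL N9411 (tt N11232 (iv F97084)) (tt N7808 F76653) (tt N10747 (iv F91942)) (tt N10852 (iv F135164)) (tt N11056 (iv F96130)) (tt N7783 F76654) (tt N11237 D21710) (tt N7782 (iv D16964)) (tt N10850 (iv F135175)) (tt N11235 (iv F97272)))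
theorem Q9413 : ∀ i, i < 9413 → P i := stepQ 9412 Q9412 (allL N9412 (tt N9412 F76762) (tt N9603 (iv F84136)) (tt N7944 F134502) (tt N7786 F76763) (tt N7853 F76764) (tt N11238 D21752) (tt N7785 (iv D16993)) (tt N11239 D21753) (tt N7935 F76765) (tt N7828 F76766))
theorem Q9414 : ∀ i, i < 9414 → P i := stepQ 9413 Q9413 (allL N9413 (tt N9413 F76767) (tt N9604 (iv F84142)) (tt N7816 F76768) (tt N11238 (iv F97455)) (tt N7831 F76769) (tt N7786 (iv D16994)) (tt N7799 F76770) (tt N11240 D21754) (tt N11241 D21755) (tt N7829 F76771))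
theorem Q9415 : ∀ i, i < 9415 → P i := stepQ 9414 Q9414 (allL N9414 (tt N9414 F76772) (tt N9605 (iv F84147)) (tt N7817 F76773) (tt N11239 (iv F97459)) (tt N7787 F76774) (tt N11240 (iv F97467)) (tt N7791 F76775) (tt N7786 (iv D16995)) (tt N7937 F76776) (tt N7830 F76777))
theorem Q9416 : ∀ i, i < 9416 → P i := stepQ 9415 Q9415 (allL N9415 (tt N9415 F76781) (tt N9609 F134521) (tt N7789 F76782) (tt N7822 F76783) (tt N9554 (iv F135231)) (tt N11241 (iv F135202)) (tt N7788 (iv D16997)) (tt N11242 D21759) (tt N7936 F134522) (tt N11131 (iv F96570)))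
theorem Q9417 : ∀ i, i < 9417 → P i := stepQ 9416 Q9416 (allL N9416 (tt N9416 F76785) (tt N10827 (iv F135169)) (tt N11241 (iv F135200)) (tt N7790 F76786) (tt N11243 D21760) (tt N7789 (iv D16998)) (tt N7806 F76787) (tt N11244 D21761) (tt N7816 (iv F135195)) (tt N11132 (iv F96574)))
theorem Q9418 : ∀ i, i < 9418 → P i := stepQ 9417 Q9417 (allL N9417 (tt N9417 F76788) (tt N11019 (iv F135190)) (tt N11242 (iv F97486)) (tt N7791 F76789) (tt N11190 (iv F96822)) (tt N11244 (iv F97493)) (tt N11239 (iv F97461)) (tt N7789 (iv D16999)) (tt N7938 F76790) (tt N11133 (iv F96580)))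
theorem Q9419 : ∀ i, i < 9419 → P i := stepQ 9418 Q9418 (allL N9418 (tt N9418 F76791) (tt N11233 (iv F97231)) (tt N7825 F76792) (tt N11244 (iv F97492)) (tt N11073 (iv F96261)) (tt N7791 F76793) (tt N11245 D21763) (tt N7790 (iv D17000)) (tt N11246 D21764) (tt N11134 (iv F96585)))
theorem Q9420 : ∀ i, i < 9420 → P i := stepQ 9419 Q9419 (allL N9419 (tt N9419 F76794) (tt N10824 (iv F135180)) (tt N7826 F76795) (tt N7816 (iv F135194)) (tt N11074 (iv F96266)) (tt N7815 F134531) (tt N7809 F76797) (tt N11246 (iv F97504)) (tt N7790 (iv D17001)) (tt N11247 D21765))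
theorem Q9421 : ∀ i, i < 9421 → P i := stepQ 9420 Q9420 (allL N9420 (tt N9420 F76805) (tt N9668 (iv F84552)) (tt N7946 F134533) (tt N7793 F76806) (tt N9420 F76807) (tt N11247 (iv F135217)) (tt N7792 (iv D17003)) (tt N11248 D21769) (tt N9420 F76808) (tt N7815 F76809))
theorem Q9422 : ∀ i, i < 9422 → P i := stepQ 9421 Q9421 (allL N9421 (tt N9421 F76810) (tt N9669 (iv F84558)) (tt N7829 F76811) (tt N11247 (iv F135216)) (tt N7799 F76812) (tt N7793 (iv D17004)) (tt N7831 F76813) (tt N11249 D21770) (tt N11250 D21771) (tt N7816 F76814))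
theorem Q9423 : ∀ i, i < 9423 → P i := stepQ 9422 Q9422 (allL N9422 (tt N9422 F76815) (tt N9670 (iv F84563)) (tt N7830 F76816) (tt N11248 (iv F97526)) (tt N7794 F76817) (tt N11249 (iv F97534)) (tt N7821 F76818) (tt N7793 (iv D17005)) (tt N9422 F76819) (tt N7817 F76820))
theorem Q9424 : ∀ i, i < 9424 → P i := stepQ 9423 Q9423 (allL N9423 (tt N9423 F76828) (tt N10820 (iv F92283)) (tt N7848 (iv F133938)) (tt N7796 F76829) (tt N9423 F76830) (tt N11251 D21774) (tt N7795 (iv D17007)) (tt N11252 D21775) (tt N7887 F76831) (tt N7798 F76832))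
theorem Q9425 : ∀ i, i < 9425 → P i := stepQ 9424 Q9424 (allL N9424 (tt N9424 F76833) (tt N10821 (iv F92288)) (tt N7831 F76834) (tt N11251 (iv F97554)) (tt N7816 F76835) (tt N7796 (iv D17008)) (tt N7829 F76836) (tt N11253 D21776) (tt N11243 (iv F135226)) (tt N7799 F76837))
theorem Q9426 : ∀ i, i < 9426 → P i := stepQ 9425 Q9425 (allL N9425 (tt N9425 F76838) (tt N10822 (iv F92292)) (tt N7832 F76839) (tt N11252 (iv F97558)) (tt N7797 F76840) (tt N11253 (iv F97566)) (tt N7804 F76841) (tt N7796 (iv D17009)) (tt N7889 F76842) (tt N7800 F76843))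
theorem Q9427 : ∀ i, i < 9427 → P i := stepQ 9426 Q9426 (allL N9426 (tt N9426 F76853) (tt N11030 F134503) (tt N7843 F134510) (tt N7799 F76854) (tt N11254 D21782) (tt N7798 (iv D17012)) (tt N11238 (iv F97456)) (tt N11255 D21783) (tt N7839 F134511) (tt N11251 (iv F97556)))
theorem Q9428 : ∀ i, i < 9428 → P i := stepQ 9427 Q9427 (allL N9427 (tt N9427 F76855) (tt N10874 F134504) (tt N7847 F134512) (tt N7800 F76856) (tt N9427 F76857) (tt N11255 (iv F97595)) (tt N7807 F76858) (tt N7798 (iv D17013)) (tt N7810 F76859) (tt N11252 (iv F97562)))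
theorem Q9429 : ∀ i, i < 9429 → P i := stepQ 9428 Q9428 (allL N9428 (tt N9428 F76860) (tt N11234 (iv F97250)) (tt N7833 F76861) (tt N11255 (iv F97594)) (tt N11249 (iv F97533)) (tt N7800 F76862) (tt N11256 D21785) (tt N7799 (iv D17014)) (tt N11257 D21786) (tt N11253 (iv F97567)))
theorem Q9430 : ∀ i, i < 9430 → P i := stepQ 9429 Q9429 (allL N9429 (tt N9429 F76863) (tt N11031 F134505) (tt N7806 F134513) (tt N7839 F134514) (tt N11250 (iv F97538)) (tt N7805 F134515) (tt N11241 (iv F97473)) (tt N11257 (iv F97605)) (tt N7799 (iv D17015)) (tt N11258 D21787))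
theorem Q9431 : ∀ i, i < 9431 → P i := stepQ 9430 Q9430 (allL N9430 (tt N9430 F76870) (tt N11032 F134519) (tt N7802 F76871) (tt N7834 F76872) (tt N9430 F76873) (tt N11258 (iv F135224)) (tt N7801 (iv D17017)) (tt N11259 D21791) (tt N7894 F76874) (tt N7805 F76875))
theorem Q9432 : ∀ i, i < 9432 → P i := stepQ 9431 Q9431 (allL N9431 (tt N9431 F76876) (tt N10853 (iv F135171)) (tt N11258 (iv F135222)) (tt N7803 F76877) (tt N11260 D21792) (tt N7802 (iv D17018)) (tt N11132 (iv F96573)) (tt N11261 D21793) (tt N11262 D21794) (tt N7806 F76878))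
theorem Q9433 : ∀ i, i < 9433 → P i := stepQ 9432 Q9432 (allL N9432 (tt N9432 F76879) (tt N10875 (iv F135165)) (tt N11259 (iv F97624)) (tt N7804 F76880) (tt N9432 F76881) (tt N11261 (iv F97634)) (tt N11252 (iv F97560)) (tt N7802 (iv D17019)) (tt N7896 F76882) (tt N7807 F76883))
theorem Q9434 : ∀ i, i < 9434 → P i := stepQ 9433 Q9433 (allL N9433 (tt N9433 F76884) (tt N11235 (iv F97270)) (tt N7837 F76885) (tt N11261 (iv F97633)) (tt N11085 (iv F96325)) (tt N7804 F76886) (tt N11263 D21795) (tt N7803 (iv D17020)) (tt N11264 D21796) (tt N7808 F76887))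
theorem Q9435 : ∀ i, i < 9435 → P i := stepQ 9434 Q9434 (allL N9434 (tt N9434 F76888) (tt N11236 (iv F97273)) (tt N7838 F76889) (tt N11262 (iv F97637)) (tt N11086 (iv F96330)) (tt N7898 F76890) (tt N11135 (iv F96590)) (tt N11264 (iv F97645)) (tt N7803 (iv D17021)) (tt N11265 D21797))
theorem Q9436 : ∀ i, i < 9436 → P i := stepQ 9435 Q9435 (allL N9435 (tt N9435 F76902) (tt N10879 F134517) (tt N7807 F76903) (tt N7840 F76904) (tt N9435 F76905) (tt N11257 (iv F135221)) (tt N7847 F134518) (tt N7805 (iv D17025)) (tt N7811 F134523) (tt N11259 (iv F97628)))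
theorem Q9437 : ∀ i, i < 9437 → P i := stepQ 9436 Q9436 (allL N9436 (tt N9436 F76907) (tt N10848 (iv F135168)) (tt N11250 (iv F135218)) (tt N11091 (iv F96350)) (tt N7806 (iv D17026)) (tt N9436 F76908) (tt N11243 (iv F97490)) (tt N11266 D21804) (tt N7829 (iv F135203)) (tt N11260 (iv F97631)))
theorem Q9438 : ∀ i, i < 9438 → P i := stepQ 9437 Q9437 (allL N9437 (tt N9437 F76909) (tt N10852 (iv F135163)) (tt N11257 (iv F135219)) (tt N7808 F76910) (tt N11266 (iv F97673)) (tt N7807 F76911) (tt N11267 D21806) (tt N7806 (iv D17027)) (tt N7833 (iv F135209)) (tt N11261 (iv F97635)))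
theorem Q9439 : ∀ i, i < 9439 → P i := stepQ 9438 Q9438 (allL N9438 (tt N9438 F76915) (tt N11237 (iv F97294)) (tt N7844 F76916) (tt N11267 (iv F97678)) (tt N11094 (iv F96360)) (tt N11256 (iv F97601)) (tt N7808 (iv D17029)) (tt N11245 (iv F97500)) (tt N11268 D21809) (tt N11263 (iv F97641)))
theorem Q9440 : ∀ i, i < 9440 → P i := stepQ 9439 Q9439 (allL N9439 (tt N9439 F76917) (tt N10850 (iv F135173)) (tt N7845 F76918) (tt N7833 (iv F135208)) (tt N11095 (iv F96363)) (tt N7812 F76919) (tt N11268 (iv F97688)) (tt N7809 F76920) (tt N7808 (iv D17030)) (tt N11269 D21810))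
theorem Q9441 : ∀ i, i < 9441 → P i := stepQ 9440 Q9440 (allL N9440 (tt N9440 F76921) (tt N9672 (iv F135183)) (tt N7846 F76922) (tt N7831 (iv F135199)) (tt N11096 (iv F96368)) (tt N7813 F76923) (tt N11247 (iv F97508)) (tt N11269 (iv F97692)) (tt N11265 (iv F97649)) (tt N7809 (iv D17031)))
theorem Q9442 : ∀ i, i < 9442 → P i := stepQ 9441 Q9441 (allL N9441 (tt N9441 F77025) (tt N9673 (iv F135176)) (tt N7849 F77026) (tt N7832 (iv F135210)) (tt N7814 F77027) (tt N11269 (iv F97691)) (tt N7836 (iv F135238)) (tt N7813 F77028) (tt N7904 F77029) (tt N7812 (iv D17054)))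
theorem Q9443 : ∀ i, i < 9443 → P i := stepQ 9442 Q9442 (allL N9442 (tt N9442 F77077) (tt N10825 (iv F92308)) (tt N7945 (iv F135241)) (tt N7817 F77078) (tt N9442 F77079) (tt N11246 (iv F135245)) (tt N7824 F77080) (tt N7815 (iv D17066)) (tt N7939 F134532) (tt N11248 (iv F97530)))
theorem Q9444 : ∀ i, i < 9444 → P i := stepQ 9443 Q9443 (allL N9443 (tt N9443 F77082) (tt N10826 (iv F92313)) (tt N11240 (iv F97465)) (tt N11246 F135446) (tt N11253 (iv F97565)) (tt N7817 F77083) (tt N11270 D21859) (tt N7816 (iv D17067)) (tt N11244 F135447) (tt N11249 (iv F97535)))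
theorem Q9445 : ∀ i, i < 9445 → P i := stepQ 9444 Q9444 (allL N9444 (tt N9444 F77091) (tt N11029 F134527) (tt N7819 F77092) (tt N11131 (iv F96567)) (tt N9444 F77093) (tt N11271 D21864) (tt N7818 (iv D17070)) (tt N11272 D21865) (tt N9444 F77094) (tt N7822 F77095))
theorem Q9446 : ∀ i, i < 9446 → P i := stepQ 9445 Q9445 (allL N9445 (tt N9445 F77096) (tt N10830 (iv F92327)) (tt N11271 (iv F97924)) (tt N7820 F77097) (tt N11273 D21866) (tt N7819 (iv D17071)) (tt N7835 F77098) (tt N11274 D21867) (tt N11275 D21868) (tt N7823 F77099))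
theorem Q9447 : ∀ i, i < 9447 → P i := stepQ 9446 Q9446 (allL N9446 (tt N9446 F77100) (tt N10831 (iv F92331)) (tt N11272 (iv F97928)) (tt N7821 F77101) (tt N9446 F77102) (tt N11274 (iv F97938)) (tt N11248 (iv F97528)) (tt N7819 (iv D17072)) (tt N9446 F77103) (tt N7824 F77104))
theorem Q9448 : ∀ i, i < 9448 → P i := stepQ 9447 Q9447 (allL N9447 (tt N9447 F77105) (tt N10832 (iv F92336)) (tt N11134 (iv F96582)) (tt N11274 (iv F97937)) (tt N11079 (iv F96293)) (tt N7821 F77106) (tt N11276 D21869) (tt N7820 (iv D17073)) (tt N11277 D21870) (tt N7825 F77107))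
theorem Q9449 : ∀ i, i < 9449 → P i := stepQ 9448 Q9448 (allL N9448 (tt N9448 F77108) (tt N10833 (iv F92339)) (tt N11135 (iv F96587)) (tt N11275 (iv F97941)) (tt N11080 (iv F96298)) (tt N9448 F77109) (tt N7838 F77110) (tt N11277 (iv F97949)) (tt N7820 (iv D17074)) (tt N11278 D21871))
theorem Q9450 : ∀ i, i < 9450 → P i := stepQ 9449 Q9449 (allL N9449 (tt N9449 F77118) (tt N11028 (iv F135055)) (tt N7823 F77119) (tt N11241 (iv F135201)) (tt N11279 D21875) (tt N7822 (iv D17077)) (tt N7839 F77120) (tt N11280 D21876) (tt N11238 (iv F135197)) (tt N11271 (iv F97926)))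
theorem Q9451 : ∀ i, i < 9451 → P i := stepQ 9450 Q9450 (allL N9450 (tt N9450 F77121) (tt N11025 F134526) (tt N7824 F77122) (tt N11242 (iv F97487)) (tt N9450 F77123) (tt N11280 (iv F97969)) (tt N7945 (iv F135242)) (tt N7822 (iv D17078)) (tt N7941 F77124) (tt N11272 (iv F97931)))
theorem Q9452 : ∀ i, i < 9452 → P i := stepQ 9451 Q9451 (allL N9451 (tt N9451 F77125) (tt N10837 (iv F92355)) (tt N11279 (iv F97964)) (tt N11125 (iv F96538)) (tt N7823 (iv D17079)) (tt N9451 F77126) (tt N7841 F77127) (tt N11281 D21878) (tt N11282 D21879) (tt N11273 (iv F97935)))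
theorem Q9453 : ∀ i, i < 9453 → P i := stepQ 9452 Q9452 (allL N9452 (tt N9452 F77128) (tt N10838 (iv F92358)) (tt N11280 (iv F97968)) (tt N7825 F77129) (tt N11281 (iv F97975)) (tt N7824 F77130) (tt N11283 D21880) (tt N7823 (iv D17080)) (tt N11284 D21881) (tt N11274 (iv F97939)))
theorem Q9454 : ∀ i, i < 9454 → P i := stepQ 9453 Q9453 (allL N9453 (tt N9453 F77131) (tt N10839 (iv F92361)) (tt N11238 (iv F135196)) (tt N7826 F77132) (tt N11282 (iv F97978)) (tt N7944 F77133) (tt N7843 F77134) (tt N11284 (iv F97986)) (tt N7823 (iv D17081)) (tt N11285 D21882))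
theorem Q9455 : ∀ i, i < 9455 → P i := stepQ 9454 Q9454 (allL N9454 (tt N9454 F77135) (tt N10840 (iv F92365)) (tt N11245 (iv F97499)) (tt N11283 (iv F97981)) (tt N11128 (iv F96549)) (tt N11270 (iv F97906)) (tt N7825 (iv D17082)) (tt N7844 F77136) (tt N11286 D21883) (tt N11276 (iv F97946)))
theorem Q9456 : ∀ i, i < 9456 → P i := stepQ 9455 Q9455 (allL N9455 (tt N9455 F77137) (tt N10841 (iv F92367)) (tt N11246 (iv F97502)) (tt N11284 (iv F97984)) (tt N11129 (iv F96552)) (tt N7945 F77138) (tt N11286 (iv F97992)) (tt N7826 F77139) (tt N7825 (iv D17083)) (tt N11287 D21884))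
theorem Q9457 : ∀ i, i < 9457 → P i := stepQ 9456 Q9456 (allL N9456 (tt N9456 F77140) (tt N10842 (iv F92370)) (tt N11247 (iv F97506)) (tt N11285 (iv F97988)) (tt N11130 (iv F96556)) (tt N7946 F77141) (tt N7846 F77142) (tt N11287 (iv F97996)) (tt N11278 (iv F97953)) (tt N7826 (iv D17084)))
theorem Q9458 : ∀ i, i < 9458 → P i := stepQ 9457 Q9457 (allL N9457 (tt N9457 F77145) (tt N11024 F134677) (tt N7828 F77146) (tt N7946 F134678) (tt N7857 F77147) (tt N11285 (iv F135256)) (tt N7827 (iv D17086)) (tt N11288 D21888) (tt N9457 F77148) (tt N7944 F134679))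
theorem Q9459 : ∀ i, i < 9459 → P i := stepQ 9458 Q9458 (allL N9458 (tt N9458 F77149) (tt N10845 (iv F92379)) (tt N11285 (iv F135255)) (tt N7829 F77150) (tt N11093 (iv F135247)) (tt N7828 (iv D17087)) (tt N11251 (iv F97555)) (tt N11289 D21890) (tt N11091 (iv F135237)) (tt N11238 (iv F97457)))
theorem Q9460 : ∀ i, i < 9460 → P i := stepQ 9459 Q9459 (allL N9459 (tt N9459 F77151) (tt N10846 (iv F92381)) (tt N11288 (iv F98006)) (tt N7830 F77152) (tt N7859 F77153) (tt N11289 (iv F98014)) (tt N11133 (iv F96578)) (tt N7828 (iv D17088)) (tt N9459 F77154) (tt N11239 (iv F97463)))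
theorem Q9461 : ∀ i, i < 9461 → P i := stepQ 9460 Q9460 (allL N9460 (tt N9460 F77155) (tt N10847 (iv F92385)) (tt N11249 (iv F97532)) (tt N11289 (iv F98013)) (tt N7833 F77156) (tt N7830 F77157) (tt N11290 D21892) (tt N7829 (iv D17089)) (tt N11266 F135461) (tt N11240 (iv F97468)))
theorem Q9462 : ∀ i, i < 9462 → P i := stepQ 9461 Q9461 (allL N9461 (tt N9461 F77179) (tt N9674 (iv F84590)) (tt N11253 (iv F97564)) (tt N11269 F135452) (tt N11240 (iv F97466)) (tt N7832 F77180) (tt N11291 D21902) (tt N7831 (iv D17095)) (tt N11292 D21903) (tt N7833 F77181))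
theorem Q9463 : ∀ i, i < 9463 → P i := stepQ 9462 Q9462 (allL N9462 (tt N9462 F77182) (tt N9675 (iv F84594)) (tt N11243 F135453) (tt N11265 F135454) (tt N11241 (iv F97471)) (tt N7906 F77183) (tt N11250 (iv F97540)) (tt N11292 (iv F98060)) (tt N7831 (iv D17096)) (tt N11262 F135455))
theorem Q9464 : ∀ i, i < 9464 → P i := stepQ 9463 Q9463 (allL N9463 (tt N9463 F77206) (tt N10851 (iv F92412)) (tt N11256 (iv F97600)) (tt N11268 F135463) (tt N11290 (iv F98019)) (tt N7844 F77207) (tt N7833 (iv D17104)) (tt N11270 (iv F97907)) (tt N11267 F135464) (tt N11291 (iv F98057)))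
theorem Q9465 : ∀ i, i < 9465 → P i := stepQ 9464 Q9464 (allL N9464 (tt N9464 F77221) (tt N11034 (iv F135251)) (tt N7835 F77222) (tt N11258 (iv F135223)) (tt N11142 (iv F96617)) (tt N7834 (iv D17109)) (tt N11271 (iv F97925)) (tt N11293 D21921) (tt N11140 F96610) (tt N7839 F77223))
theorem Q9466 : ∀ i, i < 9466 → P i := stepQ 9465 Q9465 (allL N9465 (tt N9465 F77224) (tt N10882 (iv F135253)) (tt N7836 F77225) (tt N11259 (iv F97625)) (tt N7851 F134539) (tt N11293 (iv F98115)) (tt N7849 F134540) (tt N7834 (iv D17110)) (tt N7909 F77227) (tt N7840 F77228))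
theorem Q9467 : ∀ i, i < 9467 → P i := stepQ 9466 Q9466 (allL N9466 (tt N9466 F77229) (tt N10857 (iv F92434)) (tt N11142 (iv F96615)) (tt N11150 (iv F96645)) (tt N7835 (iv D17111)) (tt N7864 F77230) (tt N11273 (iv F97934)) (tt N11294 D21922) (tt N11138 (iv F96601)) (tt N7841 F77231))
theorem Q9468 : ∀ i, i < 9468 → P i := stepQ 9467 Q9467 (allL N9467 (tt N9467 F77232) (tt N10858 (iv F92437)) (tt N11293 (iv F98114)) (tt N7837 F77233) (tt N11294 (iv F98118)) (tt N7836 F77234) (tt N11295 D21923) (tt N7835 (iv D17112)) (tt N11296 D21924) (tt N7842 F77235))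
theorem Q9469 : ∀ i, i < 9469 → P i := stepQ 9468 Q9468 (allL N9468 (tt N9468 F77236) (tt N10859 (iv F92441)) (tt N11140 (iv F96608)) (tt N7838 F77237) (tt N11138 (iv F96600)) (tt N7912 F77238) (tt N11275 (iv F97943)) (tt N11296 (iv F98127)) (tt N7835 (iv D17113)) (tt N11297 D21925))
theorem Q9470 : ∀ i, i < 9470 → P i := stepQ 9469 Q9469 (allL N9469 (tt N9469 F77239) (tt N10860 (iv F92444)) (tt N11263 (iv F97640)) (tt N11295 (iv F98122)) (tt N11153 (iv F96656)) (tt N11291 (iv F98056)) (tt N7837 (iv D17114)) (tt N11276 (iv F97945)) (tt N11298 D21926) (tt N7844 F77240))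
theorem Q9471 : ∀ i, i < 9471 → P i := stepQ 9470 Q9470 (allL N9470 (tt N9470 F77241) (tt N10861 (iv F92446)) (tt N11264 (iv F97643)) (tt N11296 (iv F98125)) (tt N11154 (iv F96659)) (tt N7914 F77242) (tt N11298 (iv F98133)) (tt N7838 F77243) (tt N7837 (iv D17115)) (tt N11299 D21927))
theorem Q9472 : ∀ i, i < 9472 → P i := stepQ 9471 Q9471 (allL N9471 (tt N9471 F77244) (tt N10862 (iv F92449)) (tt N11265 (iv F97647)) (tt N11297 (iv F98129)) (tt N11155 (iv F96663)) (tt N7915 F77245) (tt N11278 (iv F97952)) (tt N11299 (iv F98136)) (tt N7846 F77246) (tt N7838 (iv D17116)))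
theorem Q9473 : ∀ i, i < 9473 → P i := stepQ 9472 Q9472 (allL N9472 (tt N9472 F77255) (tt N11033 (iv F135248)) (tt N7841 F77256) (tt N11145 (iv F96626)) (tt N7839 (iv D17120)) (tt N7869 F77257) (tt N11279 (iv F97966)) (tt N11300 D21933) (tt N11254 (iv F135212)) (tt N11142 F96619))
theorem Q9474 : ∀ i, i < 9474 → P i := stepQ 9473 Q9473 (allL N9473 (tt N9473 F77258) (tt N10881 (iv F135250)) (tt N7842 F77259) (tt N11257 (iv F135220)) (tt N11300 (iv F98152)) (tt N7840 F77260) (tt N11301 D21935) (tt N7839 (iv D17121)) (tt N11255 (iv F135215)) (tt N11293 (iv F98116)))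
theorem Q9475 : ∀ i, i < 9475 → P i := stepQ 9474 Q9474 (allL N9474 (tt N9474 F77264) (tt N10867 (iv F92468)) (tt N11300 (iv F98151)) (tt N11162 (iv F96684)) (tt N7842 F77265) (tt N7870 F77266) (tt N11302 D21938) (tt N7841 (iv D17123)) (tt N11303 D21939) (tt N11294 (iv F98120)))
theorem Q9476 : ∀ i, i < 9476 → P i := stepQ 9475 Q9475 (allL N9475 (tt N9475 F77267) (tt N10868 (iv F92471)) (tt N11254 (iv F135211)) (tt N11163 (iv F96688)) (tt N7843 F77268) (tt N9475 F77269) (tt N11282 (iv F97979)) (tt N11303 (iv F98172)) (tt N7841 (iv D17124)) (tt N11304 D21940))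
theorem Q9477 : ∀ i, i < 9477 → P i := stepQ 9476 Q9476 (allL N9476 (tt N9476 F77270) (tt N10869 (iv F92474)) (tt N11301 (iv F98159)) (tt N7844 F77271) (tt N11302 (iv F98168)) (tt N11268 F135500) (tt N7842 (iv D17125)) (tt N11283 (iv F97982)) (tt N11305 D21941) (tt N11295 (iv F98123)))
theorem Q9478 : ∀ i, i < 9478 → P i := stepQ 9477 Q9477 (allL N9477 (tt N9477 F77272) (tt N10870 (iv F92476)) (tt N11255 (iv F135214)) (tt N7845 F77273) (tt N11303 (iv F98170)) (tt N7847 F77274) (tt N11305 (iv F98178)) (tt N7843 F77275) (tt N7842 (iv D17126)) (tt N11306 D21942))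
theorem Q9479 : ∀ i, i < 9479 → P i := stepQ 9478 Q9478 (allL N9478 (tt N9478 F77276) (tt N10871 (iv F92480)) (tt N11251 F134541) (tt N7846 F77277) (tt N11304 (iv F98174)) (tt N7848 F77278) (tt N11285 (iv F97990)) (tt N11306 (iv F98182)) (tt N11297 (iv F98131)) (tt N7843 (iv D17127)))
theorem Q9480 : ∀ i, i < 9480 → P i := stepQ 9479 Q9479 (allL N9479 (tt N9479 F77279) (tt N10872 (iv F92483)) (tt N11268 (iv F97687)) (tt N11305 (iv F98177)) (tt N11167 (iv F96701)) (tt N11301 F135499) (tt N7845 F77280) (tt N11286 (iv F97993)) (tt N7844 (iv D17128)) (tt N11307 D21944))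
theorem Q9481 : ∀ i, i < 9481 → P i := stepQ 9480 Q9480 (allL N9480 (tt N9480 F77281) (tt N10873 (iv F92485)) (tt N11269 (iv F97690)) (tt N11306 (iv F98180)) (tt N11168 (iv F96704)) (tt N7849 F77282) (tt N11307 (iv F98186)) (tt N7846 F77283) (tt N11299 (iv F98137)) (tt N7845 (iv D17129)))
theorem Q9482 : ∀ i, i < 9482 → P i := stepQ 9481 Q9481 (allL N9481 (tt N9481 F77371) (tt N10880 (iv F92573)) (tt N11252 F134542) (tt N7849 F77372) (tt N9481 F77373) (tt N11306 (iv F98181)) (tt N11259 (iv F135229)) (tt N7848 F77374) (tt N7925 F77375) (tt N7847 (iv D17151)))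
theorem Q9483 : ∀ i, i < 9483 → P i := stepQ 9482 Q9482 (allL N9482 (tt N9482 F77383) (tt N10883 (iv F92585)) (tt N7870 (iv F135258)) (tt N11176 (iv F135262)) (tt N7850 (iv D17154)) (tt N11300 (iv F135254)) (tt N11188 (iv F96796)) (tt N7869 F134546) (tt N9482 F77385) (tt N11174 (iv F135264)))
theorem Q9484 : ∀ i, i < 9484 → P i := stepQ 9483 Q9483 (allL N9483 (tt N9483 F77386) (tt N10884 (iv F92588)) (tt N7865 (iv F135261)) (tt N9483 F77387) (tt N11174 (iv F135263)) (tt N7851 F77388) (tt N11189 (iv F96802)) (tt N7863 F134547) (tt N11172 (iv F135265)) (tt N7850 (iv D17155)))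
theorem Q9485 : ∀ i, i < 9485 → P i := stepQ 9484 Q9484 (allL N9484 (tt N9484 F77393) (tt N11022 F134674) (tt N7853 F77394) (tt N9484 F77395) (tt N7944 F134675) (tt N11308 D21980) (tt N7852 (iv D17157)) (tt N11309 D21981) (tt N7942 F134676) (tt N7857 F77396))
theorem Q9486 : ∀ i, i < 9486 → P i := stepQ 9485 Q9485 (allL N9485 (tt N9485 F77397) (tt N9619 (iv F84231)) (tt N11308 (iv F98330)) (tt N7854 F77398) (tt N11116 F135445) (tt N7853 (iv D17158)) (tt N9485 F77399) (tt N11310 D21983) (tt N9485 F77400) (tt N7858 F77401))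
theorem Q9487 : ∀ i, i < 9487 → P i := stepQ 9486 Q9486 (allL N9486 (tt N9486 F77402) (tt N9620 (iv F84237)) (tt N11309 (iv F98336)) (tt N7855 F77403) (tt N11239 (iv F97460)) (tt N11310 (iv F98346)) (tt N11190 (iv F96823)) (tt N7853 (iv D17159)) (tt N9555 (iv F83803)) (tt N7859 F77404))
theorem Q9488 : ∀ i, i < 9488 → P i := stepQ 9487 Q9487 (allL N9487 (tt N9487 F77405) (tt N9621 (iv F84242)) (tt N9487 F77406) (tt N11310 (iv F98345)) (tt N7861 F77407) (tt N7855 F77408) (tt N11311 D21984) (tt N7854 (iv D17160)) (tt N9487 F77409) (tt N7860 F77410))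
theorem Q9489 : ∀ i, i < 9489 → P i := stepQ 9488 Q9488 (allL N9488 (tt N7856 (iv D17161)) (tt N9488 F77411) (tt N10885 (iv F92592)) (tt N9488 F77412) (tt N10274 F133821) (tt N9488 F77413) (tt N11312 D21985) (tt N10318 (iv F134457)) (tt N9488 F77414) (tt N10272 F133822))
theorem Q9490 : ∀ i, i < 9490 → P i := stepQ 9489 Q9489 (allL N9489 (tt N11312 (iv F98355)) (tt N7857 F77415) (tt N10886 (iv F92596)) (tt N9489 F77416) (tt N11024 F135040) (tt N11313 D21986) (tt N7856 (iv D17162)) (tt N11314 D21987) (tt N9489 F77417) (tt N11022 F135041))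
theorem Q9491 : ∀ i, i < 9491 → P i := stepQ 9490 Q9490 (allL N9490 (tt N9490 F77418) (tt N11313 (iv F98359)) (tt N7858 F77419) (tt N9490 F77420) (tt N11112 F135541) (tt N7857 (iv D17163)) (tt N9490 F77421) (tt N11315 D21989) (tt N11110 F135542) (tt N11308 (iv F98334)))
theorem Q9492 : ∀ i, i < 9492 → P i := stepQ 9491 Q9491 (allL N9491 (tt N9491 F77422) (tt N11314 (iv F98362)) (tt N7859 F77423) (tt N9491 F77424) (tt N11288 (iv F98007)) (tt N11315 (iv F98371)) (tt N11192 (iv F96851)) (tt N7857 (iv D17164)) (tt N9491 F77425) (tt N11309 (iv F98338)))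
theorem Q9493 : ∀ i, i < 9493 → P i := stepQ 9492 Q9492 (allL N9492 (tt N9492 F77429) (tt N10890 (iv F92605)) (tt N11315 (iv F98369)) (tt N7860 F77430) (tt N11115 F135543) (tt N7859 F77431) (tt N11316 D21993) (tt N7858 (iv D17166)) (tt N11113 F135544) (tt N11310 (iv F98348)))
theorem Q9494 : ∀ i, i < 9494 → P i := stepQ 9493 Q9493 (allL N9493 (tt N9493 F77437) (tt N10892 (iv F92613)) (tt N9493 F77438) (tt N11316 (iv F98387)) (tt N7862 F77439) (tt N11195 (iv F96873)) (tt N7860 (iv D17168)) (tt N9493 F77440) (tt N11119 F135545) (tt N11311 (iv F98354)))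
theorem Q9495 : ∀ i, i < 9495 → P i := stepQ 9494 Q9494 (allL N9494 (tt N9494 F77478) (tt N9689 (iv F84686)) (tt N9494 F77479) (tt N11120 F135546) (tt N11311 (iv F98351)) (tt N7867 F77480) (tt N7861 (iv D17176)) (tt N9494 F77481) (tt N9494 F77482) (tt N7862 F77483))
theorem Q9496 : ∀ i, i < 9496 → P i := stepQ 9495 Q9495 (allL N9495 (tt N9495 F77547) (tt N10900 (iv F92681)) (tt N11174 (iv F96734)) (tt N11218 (iv F96998)) (tt N7865 F77548) (tt N11294 (iv F98119)) (tt N11317 D22021) (tt N7864 (iv D17192)) (tt N11171 (iv F96719)) (tt N7870 F77549))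
theorem Q9497 : ∀ i, i < 9497 → P i := stepQ 9496 Q9496 (allL N9496 (tt N9496 F77550) (tt N10902 (iv F92689)) (tt N11189 F135522) (tt N7867 F77551) (tt N11317 (iv F98513)) (tt N11120 F135523) (tt N7865 (iv D17193)) (tt N9496 F77552) (tt N11318 D22022) (tt N7871 F77553))
theorem Q9498 : ∀ i, i < 9498 → P i := stepQ 9497 Q9497 (allL N9497 (tt N9497 F77554) (tt N10903 (iv F92693)) (tt N11172 (iv F96722)) (tt N7868 F77555) (tt N11171 (iv F96717)) (tt N7929 F77556) (tt N11318 (iv F98519)) (tt N7866 F77557) (tt N7865 (iv D17194)) (tt N9497 F77558))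
theorem Q9499 : ∀ i, i < 9499 → P i := stepQ 9498 Q9498 (allL N9498 (tt N9498 F77559) (tt N10904 (iv F92698)) (tt N9498 F77560) (tt N11318 (iv F98517)) (tt N11221 (iv F97012)) (tt N9498 F77561) (tt N7868 F77562) (tt N9498 F77563) (tt N7867 (iv D17195)) (tt N9498 F77564))
theorem Q9500 : ∀ i, i < 9500 → P i := stepQ 9499 Q9499 (allL N9499 (tt N9499 F77590) (tt N10909 (iv F92726)) (tt N11188 F135521) (tt N11228 (iv F97042)) (tt N7871 F77591) (tt N11319 D22028) (tt N7870 (iv D17202)) (tt N9499 F77592) (tt N9499 F77593) (tt N11317 (iv F98515)))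
theorem Q9501 : ∀ i, i < 9501 → P i := stepQ 9500 Q9500 (allL N9500 (tt N7880 F77689) (tt N9500 F77690) (tt N9630 (iv F84354)) (tt N10309 (iv F134372)) (tt N7873 F77691) (tt N11320 D22052) (tt N7872 (iv D17222)) (tt N11321 D22053) (tt N9980 (iv F86230)) (tt N7874 F77692))
theorem Q9502 : ∀ i, i < 9502 → P i := stepQ 9501 Q9501 (allL N9501 (tt N7881 F77693) (tt N9501 F77694) (tt N9631 (iv F84359)) (tt N9501 F77695) (tt N11321 (iv F98665)) (tt N9557 (iv F83830)) (tt N7877 F77696) (tt N7873 (iv D17223)) (tt N9981 (iv F86237)) (tt N7875 F77697))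
theorem Q9503 : ∀ i, i < 9503 → P i := stepQ 9502 Q9502 (allL N9502 (tt N7882 F77708) (tt N9502 F77709) (tt N9692 (iv F84717)) (tt N10308 (iv F133860)) (tt N9569 (iv F83911)) (tt N7874 (iv D17226)) (tt N9502 F77710) (tt N11322 D22058) (tt N10313 F133561) (tt N11320 (iv F98662)))
theorem Q9504 : ∀ i, i < 9504 → P i := stepQ 9503 Q9503 (allL N9503 (tt N7883 F77711) (tt N9503 F77712) (tt N9693 (iv F84722)) (tt N10153 (iv F134266)) (tt N7875 F77713) (tt N11322 (iv F98689)) (tt N7878 F77714) (tt N7874 (iv D17227)) (tt N7879 F77715) (tt N11321 (iv F98667)))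
theorem Q9505 : ∀ i, i < 9505 → P i := stepQ 9504 Q9504 (allL N9504 (tt N7885 F77730) (tt N9504 F77731) (tt N10911 (iv F92821)) (tt N10154 (iv F135288)) (tt N7877 F77732) (tt N10524 (iv F135291)) (tt N11321 (iv F98666)) (tt N7876 (iv D17231)) (tt N11231 (iv F97067)) (tt N7878 F77733))
theorem Q9506 : ∀ i, i < 9506 → P i := stepQ 9505 Q9505 (allL N9505 (tt N11320 (iv F98659)) (tt N7888 F77882) (tt N9640 (iv F84411)) (tt N11036 (iv F134377)) (tt N9559 (iv F83848)) (tt N7880 (iv D17268)) (tt N9505 F77883) (tt N11323 D22115) (tt N11324 D22116) (tt N7882 F77884))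
theorem Q9507 : ∀ i, i < 9507 → P i := stepQ 9506 Q9506 (allL N9506 (tt N11321 (iv F98663)) (tt N7889 F77885) (tt N9641 (iv F84416)) (tt N10979 (iv F134270)) (tt N7881 F77886) (tt N11323 (iv F98939)) (tt N7885 F77887) (tt N7880 (iv D17269)) (tt N10822 (iv F92295)) (tt N7883 F77888))
theorem Q9508 : ∀ i, i < 9508 → P i := stepQ 9507 Q9507 (allL N9507 (tt N11322 (iv F98687)) (tt N7892 F77905) (tt N9701 (iv F84772)) (tt N10978 (iv F134268)) (tt N9574 (iv F83934)) (tt N7883 F77906) (tt N11325 D22124) (tt N7882 (iv D17274)) (tt N10982 (iv F134278)) (tt N11323 (iv F98940)))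
theorem Q9509 : ∀ i, i < 9509 → P i := stepQ 9508 Q9508 (allL N9508 (tt N10524 (iv F135290)) (tt N7897 F77925) (tt N10918 (iv F92971)) (tt N9729 (iv F135297)) (tt N9508 F77926) (tt N7885 F77927) (tt N11326 D22134) (tt N7884 (iv D17280)) (tt N11327 D22135) (tt N7886 F77928))
theorem Q9510 : ∀ i, i < 9510 → P i := stepQ 9509 Q9509 (allL N9509 (tt N10468 (iv F135292)) (tt N7898 F77929) (tt N10919 (iv F92976)) (tt N9682 (iv F135299)) (tt N9509 F77930) (tt N11236 (iv F97274)) (tt N9509 F77931) (tt N11327 (iv F99009)) (tt N7884 (iv D17281)) (tt N9679 (iv F135304)))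
theorem Q9511 : ∀ i, i < 9511 → P i := stepQ 9510 Q9510 (allL N9510 (tt N10523 (iv F135289)) (tt N7901 F77956) (tt N10924 (iv F93004)) (tt N9728 (iv F135295)) (tt N9510 F77957) (tt N11325 (iv F98969)) (tt N7886 (iv D17289)) (tt N9510 F77958) (tt N9727 (iv F135301)) (tt N11326 (iv F99006)))
theorem Q9512 : ∀ i, i < 9512 → P i := stepQ 9511 Q9511 (allL N9511 (tt N9511 F78099) (tt N11036 (iv F134376)) (tt N7922 (iv F134006)) (tt N7888 F78100) (tt N11203 (iv F134390)) (tt N7887 (iv D17331)) (tt N9511 F78101) (tt N11328 D22200) (tt N11201 (iv F134392)) (tt N7890 F78102))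
theorem Q9513 : ∀ i, i < 9513 → P i := stepQ 9512 Q9512 (allL N9512 (tt N9512 F78103) (tt N10979 (iv F134269)) (tt N7925 (iv F134007)) (tt N7889 F78104) (tt N9512 F78105) (tt N11328 (iv F99256)) (tt N7896 F78106) (tt N7887 (iv D17332)) (tt N11252 (iv F97561)) (tt N7891 F78107))
theorem Q9514 : ∀ i, i < 9514 → P i := stepQ 9513 Q9513 (allL N9513 (tt N9513 F78108) (tt N11323 (iv F98938)) (tt N7905 F78109) (tt N11328 (iv F99255)) (tt N9563 (iv F83871)) (tt N7889 F78110) (tt N11329 D22202) (tt N7888 (iv D17333)) (tt N11330 D22203) (tt N7892 F78111))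
theorem Q9515 : ∀ i, i < 9515 → P i := stepQ 9514 Q9514 (allL N9514 (tt N9514 F78112) (tt N11324 (iv F98941)) (tt N7906 F78113) (tt N11201 F134608) (tt N9564 (iv F83876)) (tt N11243 (iv F135225)) (tt N9514 F78114) (tt N11330 (iv F99268)) (tt N7888 (iv D17334)) (tt N11193 (iv F135309)))
theorem Q9516 : ∀ i, i < 9516 → P i := stepQ 9515 Q9515 (allL N9515 (tt N9515 F78135) (tt N11035 (iv F134374)) (tt N7919 (iv F134004)) (tt N9576 (iv F83943)) (tt N7890 (iv D17339)) (tt N9515 F78136) (tt N9515 F78137) (tt N11331 D22211) (tt N7916 (iv F133998)) (tt N11203 (iv F134391)))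
theorem Q9517 : ∀ i, i < 9517 → P i := stepQ 9516 Q9516 (allL N9516 (tt N9516 F78138) (tt N10978 (iv F134267)) (tt N7921 (iv F134005)) (tt N7892 F78139) (tt N11331 (iv F99301)) (tt N7891 F78140) (tt N11332 D22213) (tt N7890 (iv D17340)) (tt N7917 (iv F133999)) (tt N11328 (iv F99257)))
theorem Q9518 : ∀ i, i < 9518 → P i := stepQ 9517 Q9517 (allL N9517 (tt N9517 F78145) (tt N11325 (iv F98968)) (tt N7907 F78146) (tt N11332 (iv F99307)) (tt N9579 (iv F83957)) (tt N7901 F78147) (tt N7892 (iv D17342)) (tt N9517 F78148) (tt N11333 D22216) (tt N11329 (iv F99265)))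
theorem Q9519 : ∀ i, i < 9519 → P i := stepQ 9518 Q9518 (allL N9518 (tt N9518 F78149) (tt N10982 (iv F134277)) (tt N7900 F134595) (tt N7917 F134596) (tt N9580 (iv F83962)) (tt N7899 F134597) (tt N11333 (iv F99320)) (tt N7893 F78152) (tt N7892 (iv D17343)) (tt N11334 D22217))
theorem Q9520 : ∀ i, i < 9520 → P i := stepQ 9519 Q9519 (allL N9519 (tt N9519 F78153) (tt N11037 (iv F134379)) (tt N7895 F134598) (tt N7908 F134599) (tt N9581 (iv F83967)) (tt N7894 F134600) (tt N9519 F78156) (tt N11334 (iv F99325)) (tt N11193 (iv F135308)) (tt N7893 (iv D17344)))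
theorem Q9521 : ∀ i, i < 9521 → P i := stepQ 9520 Q9520 (allL N9520 (tt N9520 F78171) (tt N10983 F134593) (tt N7896 F78172) (tt N7909 F78173) (tt N9520 F78174) (tt N11334 (iv F135307)) (tt N7925 F134594) (tt N7894 (iv D17348)) (tt N11259 (iv F97627)) (tt N7899 F78175))
theorem Q9522 : ∀ i, i < 9522 → P i := stepQ 9521 Q9521 (allL N9521 (tt N9521 F78181) (tt N9729 (iv F135296)) (tt N11334 (iv F135305)) (tt N7897 F78182) (tt N9583 (iv F135311)) (tt N7896 F78183) (tt N11335 D22223) (tt N7895 (iv D17350)) (tt N11336 D22224) (tt N7900 F78184))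
theorem Q9523 : ∀ i, i < 9523 → P i := stepQ 9522 Q9522 (allL N9522 (tt N9522 F78185) (tt N9682 (iv F135298)) (tt N11193 F96856) (tt N7898 F78186) (tt N9567 (iv F135312)) (tt N11262 (iv F97638)) (tt N9522 F78187) (tt N11336 (iv F99355)) (tt N7895 (iv D17351)) (tt N7906 (iv F135316)))
theorem Q9524 : ∀ i, i < 9524 → P i := stepQ 9523 Q9523 (allL N9523 (tt N9523 F78188) (tt N11326 (iv F99003)) (tt N7913 F78189) (tt N11335 (iv F99350)) (tt N9523 F78190) (tt N11329 (iv F99263)) (tt N7897 (iv D17352)) (tt N9523 F78191) (tt N11337 D22226) (tt N7901 F78192))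
theorem Q9525 : ∀ i, i < 9525 → P i := stepQ 9524 Q9524 (allL N9524 (tt N9524 F78193) (tt N11327 (iv F99007)) (tt N7914 F78194) (tt N11336 (iv F99354)) (tt N9524 F78195) (tt N11264 (iv F97644)) (tt N11337 (iv F99363)) (tt N7898 F78196) (tt N7897 (iv D17353)) (tt N11338 D22227))
theorem Q9526 : ∀ i, i < 9526 → P i := stepQ 9525 Q9525 (allL N9525 (tt N9525 F78197) (tt N9679 (iv F135303)) (tt N7915 F78198) (tt N7906 (iv F135315)) (tt N9525 F78199) (tt N11265 (iv F97648)) (tt N9525 F78200) (tt N11338 (iv F99368)) (tt N7903 F78201) (tt N7898 (iv D17354)))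
theorem Q9527 : ∀ i, i < 9527 → P i := stepQ 9526 Q9526 (allL N9526 (tt N9526 F78235) (tt N9728 (iv F135294)) (tt N11333 F134603) (tt N7901 F78236) (tt N9582 (iv F135310)) (tt N11332 (iv F99308)) (tt N7900 (iv D17363)) (tt N9526 F78237) (tt N7907 (iv F134634)) (tt N11335 (iv F99352)))
theorem Q9528 : ∀ i, i < 9528 → P i := stepQ 9527 Q9527 (allL N9527 (tt N9527 F78246) (tt N9727 (iv F135300)) (tt N7923 F78247) (tt N7907 (iv F134633)) (tt N9527 F78248) (tt N7920 (iv F134632)) (tt N7902 F78249) (tt N9527 F78250) (tt N7901 (iv D17366)) (tt N11339 D22245))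
theorem Q9529 : ∀ i, i < 9529 → P i := stepQ 9528 Q9528 (allL N9528 (tt N9528 F78251) (tt N9678 (iv F135302)) (tt N7924 F78252) (tt N7905 (iv F135314)) (tt N9528 F78253) (tt N7904 F78254) (tt N11339 (iv F99442)) (tt N7903 F78255) (tt N11338 (iv F99369)) (tt N7902 (iv D17367)))
theorem Q9530 : ∀ i, i < 9530 → P i := stepQ 9529 Q9529 (allL N9529 (tt N9529 F78458) (tt N9680 (iv F84628)) (tt N11329 (iv F99262)) (tt N11339 F135329) (tt N9565 (iv F83882)) (tt N7913 F78459) (tt N7905 (iv D17415)) (tt N9529 F78460) (tt N11340 D22298) (tt N7907 F78461))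
theorem Q9531 : ∀ i, i < 9531 → P i := stepQ 9530 Q9530 (allL N9530 (tt N9530 F78462) (tt N9681 (iv F84634)) (tt N11330 (iv F99267)) (tt N11338 F135573) (tt N9566 (iv F83889)) (tt N11292 (iv F98059)) (tt N11340 (iv F99677)) (tt N7906 F78463) (tt N7905 (iv D17416)) (tt N11336 F135574))
theorem Q9532 : ∀ i, i < 9532 → P i := stepQ 9531 Q9531 (allL N9531 (tt N9531 F78518) (tt N10985 (iv F135322)) (tt N7911 F78519) (tt N11334 (iv F135306)) (tt N11211 (iv F96965)) (tt N7909 F78520) (tt N11341 D22314) (tt N7908 (iv D17431)) (tt N11209 (iv F96957)) (tt N7917 F78521))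
theorem Q9533 : ∀ i, i < 9533 → P i := stepQ 9532 Q9532 (allL N9532 (tt N9532 F78522) (tt N10960 (iv F93373)) (tt N11211 (iv F96963)) (tt N9532 F78523) (tt N7911 F78524) (tt N7928 F78525) (tt N11342 D22315) (tt N7910 (iv D17432)) (tt N11208 (iv F96953)) (tt N7918 F78526))
theorem Q9534 : ∀ i, i < 9534 → P i := stepQ 9533 Q9533 (allL N9533 (tt N9533 F78527) (tt N10962 (iv F93383)) (tt N11341 (iv F99742)) (tt N7913 F78528) (tt N11342 (iv F99747)) (tt N11339 F135326) (tt N7911 (iv D17433)) (tt N9533 F78529) (tt N11343 D22316) (tt N7920 F78530))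
theorem Q9535 : ∀ i, i < 9535 → P i := stepQ 9534 Q9534 (allL N9534 (tt N9534 F78531) (tt N10963 (iv F93387)) (tt N11209 (iv F96955)) (tt N7914 F78532) (tt N11208 (iv F96951)) (tt N11296 (iv F98126)) (tt N11343 (iv F99753)) (tt N7912 F78533) (tt N7911 (iv D17434)) (tt N11344 D22317))
theorem Q9536 : ∀ i, i < 9536 → P i := stepQ 9535 Q9535 (allL N9535 (tt N9535 F78534) (tt N10964 (iv F93390)) (tt N11201 (iv F96910)) (tt N7915 F78535) (tt N11199 F96901) (tt N11297 (iv F98130)) (tt N9535 F78536) (tt N11344 (iv F99757)) (tt N7922 F78537) (tt N7912 (iv D17435)))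
theorem Q9537 : ∀ i, i < 9537 → P i := stepQ 9536 Q9536 (allL N9536 (tt N9536 F78538) (tt N10965 (iv F93394)) (tt N11337 (iv F99361)) (tt N11343 (iv F99752)) (tt N9536 F78539) (tt N11345 D22318) (tt N7914 F78540) (tt N9536 F78541) (tt N7913 (iv D17436)) (tt N11346 D22319))
theorem Q9538 : ∀ i, i < 9538 → P i := stepQ 9537 Q9537 (allL N9537 (tt N9537 F78542) (tt N10966 (iv F93398)) (tt N11338 (iv F99366)) (tt N11344 (iv F99756)) (tt N9537 F78543) (tt N11299 (iv F98135)) (tt N11346 (iv F99763)) (tt N7915 F78544) (tt N7924 F78545) (tt N7914 (iv D17437)))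
theorem Q9539 : ∀ i, i < 9539 → P i := stepQ 9538 Q9538 (allL N9538 (tt N9538 F78561) (tt N10984 F134624) (tt N7918 F78562) (tt N11213 (iv F96976)) (tt N7917 F78563) (tt N7926 F134625) (tt N11347 D22328) (tt N7916 (iv D17443)) (tt N11331 F134620) (tt N11211 F96968))
theorem Q9540 : ∀ i, i < 9540 → P i := stepQ 9539 Q9539 (allL N9539 (tt N9539 F78570) (tt N10976 (iv F135327)) (tt N7920 F78571) (tt N11333 F134621) (tt N11347 (iv F99794)) (tt N7923 F134626) (tt N7917 (iv D17445)) (tt N9539 F78572) (tt N11332 F134622) (tt N11341 (iv F99744)))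
theorem Q9541 : ∀ i, i < 9541 → P i := stepQ 9540 Q9540 (allL N9540 (tt N9540 F78581) (tt N10971 (iv F93438)) (tt N11347 (iv F99793)) (tt N9540 F78582) (tt N7920 F78583) (tt N9540 F78584) (tt N7918 (iv D17448)) (tt N9540 F78585) (tt N11348 D22332) (tt N11342 (iv F99750)))
theorem Q9542 : ∀ i, i < 9542 → P i := stepQ 9541 Q9541 (allL N9541 (tt N9541 F78586) (tt N10972 (iv F93443)) (tt N11331 F134629) (tt N9541 F78587) (tt N7921 F78588) (tt N9541 F78589) (tt N11348 (iv F99813)) (tt N7919 F78590) (tt N7918 (iv D17449)) (tt N11349 D22333))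
theorem Q9543 : ∀ i, i < 9543 → P i := stepQ 9542 Q9542 (allL N9542 (tt N9542 F78591) (tt N10973 (iv F93448)) (tt N11203 (iv F96919)) (tt N9542 F78592) (tt N7922 F78593) (tt N9542 F78594) (tt N9542 F78595) (tt N11349 (iv F99819)) (tt N11199 F96902) (tt N7919 (iv D17450)))
theorem Q9544 : ∀ i, i < 9544 → P i := stepQ 9543 Q9543 (allL N9543 (tt N9543 F78596) (tt N10974 (iv F93453)) (tt N11332 F134630) (tt N7923 F78597) (tt N11348 (iv F99812)) (tt N11333 F134627) (tt N7921 F78598) (tt N9543 F78599) (tt N7920 (iv D17451)) (tt N11350 D22335))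
theorem Q9545 : ∀ i, i < 9545 → P i := stepQ 9544 Q9544 (allL N9544 (tt N9544 F78600) (tt N10975 (iv F93457)) (tt N11328 F134631) (tt N7924 F78601) (tt N11349 (iv F99817)) (tt N7925 F78602) (tt N11350 (iv F99826)) (tt N7922 F78603) (tt N11344 (iv F99758)) (tt N7921 (iv D17452)))
theorem Q9546 : ∀ i, i < 9546 → P i := stepQ 9545 Q9545 (allL N9545 (tt N9545 F78607) (tt N10977 (iv F93464)) (tt N11339 (iv F99440)) (tt N11350 (iv F99825)) (tt N9545 F78608) (tt N11341 (iv F135325)) (tt N7924 F78609) (tt N9545 F78610) (tt N11346 (iv F99765)) (tt N7923 (iv D17454)))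
theorem Q9547 : ∀ i, i < 9547 → P i := stepQ 9546 Q9546 (allL N9546 (tt N9546 F79176) (tt N9622 (iv F84265)) (tt N9553 (iv F135344)) (tt N7934 F79177) (tt N7938 F79178) (tt N7940 (iv F135345)) (tt N9555 (iv F83802)) (tt N7932 (iv D17599)) (tt N11190 (iv F96824)) (tt N9546 F79179))
theorem Q9548 : ∀ i, i < 9548 → P i := stepQ 9547 Q9547 (allL N9547 (tt N9547 F79180) (tt N9623 (iv F84271)) (tt N9547 F79181) (tt N7940 F135393) (tt N9547 F79182) (tt N7934 F79183) (tt N9547 F79184) (tt N7933 (iv D17600)) (tt N9562 F135394) (tt N9547 F79185))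
theorem Q9549 : ∀ i, i < 9549 → P i := stepQ 9548 Q9548 (allL N9548 (tt N9548 F79203) (tt N9607 (iv F84168)) (tt N7943 F134663) (tt N7937 F79204) (tt N9555 (iv F83800)) (tt N7941 F134664) (tt N7938 F79205) (tt N7935 (iv D17605)) (tt N11239 (iv F97462)) (tt N9548 F79206))
theorem Q9550 : ∀ i, i < 9550 → P i := stepQ 9549 Q9549 (allL N9549 (tt N9549 F79207) (tt N9608 (iv F84174)) (tt N7938 F134665) (tt N7941 F134666) (tt N9553 (iv F83773)) (tt N7937 F79209) (tt N7943 F134660) (tt N7936 (iv D17606)) (tt N11242 (iv F135234)) (tt N9549 F79210))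
theorem Q9551 : ∀ i, i < 9551 → P i := stepQ 9550 Q9550 (allL N9550 (tt N9550 F79611) (tt N9610 F134673) (tt N9555 (iv F135342)) (tt N9550 F79612) (tt N7943 F79613) (tt N9550 F79614) (tt N9553 (iv F135343)) (tt N7942 (iv D17703)) (tt N11309 (iv F135347)) (tt N9550 F79615))
theorem Q9552 : ∀ i, i < 9552 → P i := stepQ 9551 Q9551 (allL N9551 (tt N9551 F79624) (tt N11023 (iv F94448)) (tt N11239 (iv F135198)) (tt N7945 F79625) (tt N11309 (iv F135346)) (tt N11284 (iv F97985)) (tt N11242 (iv F135227)) (tt N7944 F79626) (tt N7943 (iv D17706)) (tt N11288 (iv F135350)))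
theorem Q9553 : ∀ i, i < 9553 → P i := stepQ 9552 Q9552 (allL N9552 (tt N9552 F79635) (tt N11026 (iv F94459)) (tt N11248 (iv F135246)) (tt N11288 (iv F135349)) (tt N9552 F79636) (tt N11287 (iv F97995)) (tt N11272 (iv F135244)) (tt N7946 F79637) (tt N9552 F79638) (tt N7945 (iv D17709)))
theorem Q9554 : ∀ i, i < 9554 → P i := stepQ 9553 Q9553 (allL N9553 (tt N9553 F83769) (tt N7998 F83770) (tt N9546 F135344) (tt N9553 F83772) (tt N9549 F83773) (tt N7948 F83774) (tt N9550 F135343) (tt N7947 (iv D18551)) (tt N11351 D23444) (tt N9553 F83775))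
theorem Q9555 : ∀ i, i < 9555 → P i := stepQ 9554 Q9554 (allL N9554 (tt N9554 F83776) (tt N7999 F83777) (tt N9352 F135230) (tt N9554 F83779) (tt N9415 F135231) (tt N7960 F83781) (tt N9351 F135232) (tt N11351 (iv F105024)) (tt N7947 (iv D18552)) (tt N9356 (iv F135487)))
theorem Q9556 : ∀ i, i < 9556 → P i := stepQ 9555 Q9555 (allL N9555 (tt N9555 F83797) (tt N8013 F83798) (tt N9550 F135342) (tt N7950 F83799) (tt N9548 F83800) (tt N9555 F83801) (tt N9546 F83802) (tt N7949 (iv D18555)) (tt N9486 F83803) (tt N9555 F83804))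
theorem Q9557 : ∀ i, i < 9557 → P i := stepQ 9556 Q9556 (allL N9556 (tt N7954 F83820) (tt N9556 F83821) (tt N8019 F83822) (tt N8655 F135106) (tt N7952 F83823) (tt N11352 D23451) (tt N7951 (iv D18558)) (tt N11353 D23452) (tt N8519 F83824) (tt N7962 F83825))
theorem Q9558 : ∀ i, i < 9558 → P i := stepQ 9557 Q9557 (allL N9557 (tt N7955 F83826) (tt N9557 F83827) (tt N8020 F83828) (tt N9557 F83829) (tt N11353 (iv F105078)) (tt N9501 F83830) (tt N9557 F83831) (tt N7952 (iv D18559)) (tt N8520 F83832) (tt N7963 F83833))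
theorem Q9559 : ∀ i, i < 9559 → P i := stepQ 9558 Q9558 (allL N9558 (tt N8655 (iv F135079)) (tt N7956 F83841) (tt N8197 F134413) (tt N7954 F83842) (tt N9558 F83843) (tt N11354 D23454) (tt N7953 (iv D18561)) (tt N11355 D23455) (tt N8009 (iv F135027)) (tt N7965 F83845))
theorem Q9560 : ∀ i, i < 9560 → P i := stepQ 9559 Q9559 (allL N9559 (tt N11352 (iv F105069)) (tt N7957 F83846) (tt N8028 F83847) (tt N11354 (iv F105089)) (tt N9505 F83848) (tt N7954 (iv D18562)) (tt N9559 F83849) (tt N11356 D23456) (tt N11357 D23457) (tt N7966 F83850))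
theorem Q9561 : ∀ i, i < 9561 → P i := stepQ 9560 Q9560 (allL N9560 (tt N11353 (iv F105075)) (tt N7958 F83851) (tt N8029 F83852) (tt N11355 (iv F105093)) (tt N7955 F83853) (tt N11356 (iv F105101)) (tt N9560 F83854) (tt N7954 (iv D18563)) (tt N9199 F83855) (tt N7967 F83856))
theorem Q9562 : ∀ i, i < 9562 → P i := stepQ 9561 Q9561 (allL N9561 (tt N9561 F83857) (tt N11354 (iv F105088)) (tt N9561 F83858) (tt N7957 F83859) (tt N9366 F135317) (tt N7956 (iv D18564)) (tt N9561 F83860) (tt N11358 D23459) (tt N9353 (iv F135396)) (tt N7968 F83861))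
theorem Q9563 : ∀ i, i < 9563 → P i := stepQ 9562 Q9562 (allL N9562 (tt N9562 F83862) (tt N11355 (iv F105092)) (tt N9562 F83863) (tt N7958 F83864) (tt N9562 F83865) (tt N11358 (iv F105117)) (tt N9562 F83866) (tt N7956 (iv D18565)) (tt N9547 (iv F135394)) (tt N7969 F83868))
theorem Q9564 : ∀ i, i < 9564 → P i := stepQ 9563 Q9563 (allL N9563 (tt N9563 F83869) (tt N11356 (iv F105098)) (tt N7959 F83870) (tt N11358 (iv F105116)) (tt N9513 F83871) (tt N7958 F83872) (tt N11359 D23461) (tt N7957 (iv D18566)) (tt N11360 D23462) (tt N7970 F83873))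
theorem Q9565 : ∀ i, i < 9565 → P i := stepQ 9564 Q9564 (allL N9564 (tt N9564 F83874) (tt N11357 (iv F105103)) (tt N7960 F83875) (tt N9353 (iv F135395)) (tt N9514 F83876) (tt N9352 F135236) (tt N9564 F83878) (tt N11360 (iv F105134)) (tt N7957 (iv D18567)) (tt N9357 (iv F135363)))
theorem Q9566 : ∀ i, i < 9566 → P i := stepQ 9565 Q9565 (allL N9565 (tt N9565 F83879) (tt N8056 F83880) (tt N11359 (iv F105125)) (tt N9565 F83881) (tt N9529 F83882) (tt N9565 F83883) (tt N7959 (iv D18568)) (tt N9565 F83884) (tt N11361 D23464) (tt N7972 F83885))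
theorem Q9567 : ∀ i, i < 9567 → P i := stepQ 9566 Q9566 (allL N9566 (tt N9566 F83886) (tt N8057 F83887) (tt N11360 (iv F105131)) (tt N9566 F83888) (tt N9530 F83889) (tt N11351 (iv F105023)) (tt N11361 (iv F105145)) (tt N7960 F83890) (tt N7959 (iv D18569)) (tt N11362 D23465))
theorem Q9568 : ∀ i, i < 9568 → P i := stepQ 9567 Q9567 (allL N9567 (tt N9567 F83891) (tt N8058 F83892) (tt N9357 (iv F135361)) (tt N9567 F83893) (tt N9522 F135312) (tt N9356 (iv F135486)) (tt N9567 F83895) (tt N11362 (iv F105151)) (tt N7974 F83896) (tt N7960 (iv D18570)))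
theorem Q9569 : ∀ i, i < 9569 → P i := stepQ 9568 Q9568 (allL N9568 (tt N7965 F83903) (tt N9568 F83904) (tt N8916 F134381) (tt N7962 F83905) (tt N9568 F83906) (tt N11363 D23468) (tt N7961 (iv D18572)) (tt N11364 D23469) (tt N9568 F83907) (tt N8655 (iv F135080)))
theorem Q9570 : ∀ i, i < 9570 → P i := stepQ 9569 Q9569 (allL N9569 (tt N7966 F83908) (tt N9569 F83909) (tt N8068 F83910) (tt N11363 (iv F105167)) (tt N9502 F83911) (tt N7962 (iv D18573)) (tt N9569 F83912) (tt N11365 D23470) (tt N11366 D23471) (tt N11352 (iv F105074)))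
theorem Q9571 : ∀ i, i < 9571 → P i := stepQ 9570 Q9570 (allL N9570 (tt N7967 F83913) (tt N9570 F83914) (tt N8069 F83915) (tt N11364 (iv F105171)) (tt N7963 F83916) (tt N11365 (iv F105179)) (tt N9570 F83917) (tt N7962 (iv D18574)) (tt N9570 F83918) (tt N11353 (iv F105081)))
theorem Q9572 : ∀ i, i < 9572 → P i := stepQ 9571 Q9571 (allL N9571 (tt N8916 (iv F133553)) (tt N9571 F83919) (tt N7965 F83920) (tt N8074 F83921) (tt N9571 F83922) (tt N11367 D23472) (tt N7964 (iv D18575)) (tt N11368 D23473) (tt N9571 F83923) (tt N8197 (iv F133685)))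
theorem Q9573 : ∀ i, i < 9573 → P i := stepQ 9572 Q9572 (allL N9572 (tt N11363 (iv F105165)) (tt N7968 F83924) (tt N11367 (iv F105187)) (tt N7966 F83925) (tt N11369 D23474) (tt N7965 (iv D18576)) (tt N9572 F83926) (tt N11370 D23475) (tt N11371 D23476) (tt N11354 (iv F105091)))
theorem Q9574 : ∀ i, i < 9574 → P i := stepQ 9573 Q9573 (allL N9573 (tt N11364 (iv F105169)) (tt N7969 F83927) (tt N11368 (iv F105191)) (tt N7967 F83928) (tt N9573 F83929) (tt N11370 (iv F105202)) (tt N9573 F83930) (tt N7965 (iv D18577)) (tt N9573 F83931) (tt N11355 (iv F105097)))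
theorem Q9575 : ∀ i, i < 9575 → P i := stepQ 9574 Q9574 (allL N9574 (tt N11365 (iv F105175)) (tt N7970 F83932) (tt N8077 F83933) (tt N11370 (iv F105201)) (tt N9507 F83934) (tt N7967 F83935) (tt N11372 D23477) (tt N7966 (iv D18578)) (tt N11373 D23478) (tt N11356 (iv F105102)))
theorem Q9576 : ∀ i, i < 9576 → P i := stepQ 9575 Q9575 (allL N9575 (tt N11366 (iv F105180)) (tt N7971 F83936) (tt N8078 F83937) (tt N11371 (iv F105204)) (tt N9230 F134378) (tt N9575 F83939) (tt N9575 F83940) (tt N11373 (iv F105216)) (tt N7966 (iv D18579)) (tt N11374 D23479))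
theorem Q9577 : ∀ i, i < 9577 → P i := stepQ 9576 Q9576 (allL N9576 (tt N9576 F83941) (tt N11369 (iv F105196)) (tt N9576 F83942) (tt N9515 F83943) (tt N7968 (iv D18580)) (tt N9576 F83944) (tt N9576 F83945) (tt N11375 D23480) (tt N9376 (iv F134619)) (tt N9366 (iv F135083)))
theorem Q9578 : ∀ i, i < 9578 → P i := stepQ 9577 Q9577 (allL N9577 (tt N9577 F83946) (tt N11370 (iv F105200)) (tt N9577 F83947) (tt N7970 F83948) (tt N11375 (iv F105225)) (tt N7969 F83949) (tt N11376 D23482) (tt N7968 (iv D18581)) (tt N11377 D23483) (tt N11358 (iv F105118)))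
theorem Q9579 : ∀ i, i < 9579 → P i := stepQ 9578 Q9578 (allL N9578 (tt N9578 F83950) (tt N11371 (iv F105203)) (tt N9578 F83951) (tt N7971 F83952) (tt N9376 F135098) (tt N9578 F83953) (tt N9578 F83954) (tt N11377 (iv F105241)) (tt N7968 (iv D18582)) (tt N9360 (iv F135358)))
theorem Q9580 : ∀ i, i < 9580 → P i := stepQ 9579 Q9579 (allL N9579 (tt N9579 F83955) (tt N11372 (iv F105207)) (tt N7972 F83956) (tt N11376 (iv F105234)) (tt N9517 F83957) (tt N9579 F83958) (tt N7970 (iv D18583)) (tt N9579 F83959) (tt N11378 D23485) (tt N11359 (iv F105129)))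
theorem Q9581 : ∀ i, i < 9581 → P i := stepQ 9580 Q9580 (allL N9580 (tt N9580 F83960) (tt N11373 (iv F105212)) (tt N7973 F83961) (tt N11377 (iv F105239)) (tt N9518 F83962) (tt N9580 F83963) (tt N11378 (iv F105250)) (tt N7971 F83964) (tt N7970 (iv D18584)) (tt N11379 D23486))
theorem Q9582 : ∀ i, i < 9582 → P i := stepQ 9581 Q9581 (allL N9581 (tt N9581 F83965) (tt N11374 (iv F105217)) (tt N7974 F83966) (tt N9360 (iv F135357)) (tt N9519 F83967) (tt N9581 F83968) (tt N9581 F83969) (tt N11379 (iv F105256)) (tt N9357 (iv F135362)) (tt N7971 (iv D18585)))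
theorem Q9583 : ∀ i, i < 9583 → P i := stepQ 9582 Q9582 (allL N9582 (tt N9582 F83970) (tt N8096 F83971) (tt N11378 (iv F105248)) (tt N9582 F83972) (tt N9526 F135310) (tt N11380 D23487) (tt N7973 F83974) (tt N9582 F83975) (tt N7972 (iv D18586)) (tt N11381 D23488))
theorem Q9584 : ∀ i, i < 9584 → P i := stepQ 9583 Q9583 (allL N9583 (tt N9583 F83976) (tt N8097 F83977) (tt N11379 (iv F105253)) (tt N9583 F83978) (tt N9521 F135311) (tt N9583 F83980) (tt N11381 (iv F105267)) (tt N7974 F83981) (tt N11362 (iv F105152)) (tt N7973 (iv D18587)))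
theorem Q9585 : ∀ i, i < 9585 → P i := stepQ 9584 Q9584 (allL N9584 (tt N8594 F83989) (tt N8007 (iv F134647)) (tt N7977 F83991) (tt N8192 (iv F134968)) (tt N9170 F83992) (tt N7976 (iv D18589)) (tt N7989 F83993) (tt N8011 F134289) (tt N11382 D23492) (tt N9584 F83994))
theorem Q9586 : ∀ i, i < 9586 → P i := stepQ 9585 Q9585 (allL N9585 (tt N8595 F84008) (tt N9351 (iv F134520)) (tt N11382 (iv F105291)) (tt N9585 F84010) (tt N9213 F134350) (tt N9585 F84012) (tt N7999 F84013) (tt N9212 F134351) (tt N7977 (iv D18592)) (tt N9355 (iv F135044)))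
theorem Q9587 : ∀ i, i < 9587 → P i := stepQ 9586 Q9586 (allL N9586 (tt N7981 F84030) (tt N8597 F84031) (tt N8519 F84032) (tt N8910 F135107) (tt N7979 F84033) (tt N8652 (iv F135134)) (tt N7978 (iv D18595)) (tt N11383 D23499) (tt N8019 F84034) (tt N9586 F84035))
theorem Q9588 : ∀ i, i < 9588 → P i := stepQ 9587 Q9587 (allL N9587 (tt N7982 F84036) (tt N8598 F84037) (tt N8520 F84038) (tt N8103 F84039) (tt N11383 (iv F105337)) (tt N8488 F84040) (tt N9587 F84041) (tt N7979 (iv D18596)) (tt N8020 F84042) (tt N9587 F84043))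
theorem Q9589 : ∀ i, i < 9589 → P i := stepQ 9588 Q9588 (allL N9588 (tt N8910 (iv F134419)) (tt N7988 F84051) (tt N8194 F133705) (tt N7981 F84052) (tt N8111 F84053) (tt N8193 (iv F134423)) (tt N7980 (iv D18598)) (tt N11384 D23502) (tt N8027 F84054) (tt N9588 F84055))
theorem Q9590 : ∀ i, i < 9590 → P i := stepQ 9589 Q9589 (allL N9589 (tt N8652 (iv F135132)) (tt N7989 F84056) (tt N8008 F135112) (tt N8193 F135113) (tt N9178 F84058) (tt N7981 (iv D18599)) (tt N8007 F135114) (tt N11385 D23503) (tt N11386 D23504) (tt N9589 F84060))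
theorem Q9591 : ∀ i, i < 9591 → P i := stepQ 9590 Q9590 (allL N9590 (tt N11383 (iv F105334)) (tt N7990 F84061) (tt N9199 F84062) (tt N11384 (iv F105352)) (tt N7982 F84063) (tt N11385 (iv F105360)) (tt N9590 F84064) (tt N7981 (iv D18600)) (tt N8029 F84065) (tt N9590 F84066))
theorem Q9592 : ∀ i, i < 9592 → P i := stepQ 9591 Q9591 (allL N9591 (tt N8611 F84067) (tt N8959 F84068) (tt N11387 D23505) (tt N7983 (iv D18601)) (tt N8125 F84069) (tt N8933 F84070) (tt N11388 D23506) (tt N8930 F84071) (tt N7985 F84072) (tt N8969 F84073))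
theorem Q9593 : ∀ i, i < 9593 → P i := stepQ 9592 Q9592 (allL N9592 (tt N8612 F84074) (tt N8960 F84075) (tt N7992 F84076) (tt N11388 (iv F105376)) (tt N7984 F84077) (tt N11389 D23507) (tt N7983 (iv D18602)) (tt N11390 D23508) (tt N7986 F84078) (tt N8970 F84079))
theorem Q9594 : ∀ i, i < 9594 → P i := stepQ 9593 Q9593 (allL N9593 (tt N8613 F84080) (tt N8961 F84081) (tt N7993 F84082) (tt N8127 F84083) (tt N11390 (iv F105389)) (tt N8035 F84084) (tt N8932 F84085) (tt N7984 (iv D18603)) (tt N7987 F84086) (tt N8971 F84087))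
theorem Q9595 : ∀ i, i < 9595 → P i := stepQ 9594 Q9594 (allL N9594 (tt N8617 F84088) (tt N9187 F134291) (tt N7985 (iv D18604)) (tt N7994 F84089) (tt N8131 F84090) (tt N9168 F84091) (tt N11391 D23510) (tt N9164 F84092) (tt N11387 (iv F105372)) (tt N9594 F84093))
theorem Q9596 : ∀ i, i < 9596 → P i := stepQ 9595 Q9595 (allL N9595 (tt N8618 F84094) (tt N9177 F84095) (tt N11391 (iv F105400)) (tt N7986 F84096) (tt N8132 F84097) (tt N11392 D23511) (tt N7985 (iv D18605)) (tt N11393 D23512) (tt N11388 (iv F105378)) (tt N9595 F84098))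
theorem Q9597 : ∀ i, i < 9597 → P i := stepQ 9596 Q9596 (allL N9596 (tt N8619 F84099) (tt N9178 F84100) (tt N7996 F84101) (tt N11392 (iv F105406)) (tt N7989 F84102) (tt N7986 (iv D18606)) (tt N9170 F84103) (tt N11394 D23513) (tt N11395 D23514) (tt N9596 F84104))
theorem Q9598 : ∀ i, i < 9598 → P i := stepQ 9597 Q9597 (allL N9597 (tt N8620 F84105) (tt N9179 F84106) (tt N7997 F84107) (tt N11393 (iv F105411)) (tt N7987 F84108) (tt N11394 (iv F105419)) (tt N9167 F84109) (tt N7986 (iv D18607)) (tt N11390 (iv F105391)) (tt N9597 F84110))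
theorem Q9599 : ∀ i, i < 9599 → P i := stepQ 9598 Q9598 (allL N9598 (tt N8621 F84111) (tt N8193 F135108) (tt N9598 F84112) (tt N7989 F84113) (tt N11396 D23515) (tt N7988 (iv D18608)) (tt N8192 F135109) (tt N11397 D23516) (tt N11398 D23517) (tt N9598 F84114))
theorem Q9600 : ∀ i, i < 9600 → P i := stepQ 9599 Q9599 (allL N9599 (tt N8622 F84115) (tt N11384 (iv F105351)) (tt N9599 F84116) (tt N7990 F84117) (tt N8136 F84118) (tt N11397 (iv F105433)) (tt N9599 F84119) (tt N7988 (iv D18609)) (tt N8041 F84120) (tt N9599 F84121))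
theorem Q9601 : ∀ i, i < 9601 → P i := stepQ 9600 Q9600 (allL N9600 (tt N8623 F84122) (tt N11385 (iv F105357)) (tt N7998 F84123) (tt N11397 (iv F105432)) (tt N11394 (iv F105418)) (tt N7990 F84124) (tt N11399 D23518) (tt N7989 (iv D18610)) (tt N11400 D23519) (tt N9600 F84125))
theorem Q9602 : ∀ i, i < 9602 → P i := stepQ 9601 Q9601 (allL N9601 (tt N8624 F84126) (tt N11386 (iv F105362)) (tt N7999 F84127) (tt N11398 (iv F105437)) (tt N11395 (iv F105424)) (tt N8043 F84128) (tt N11382 (iv F105294)) (tt N11400 (iv F105446)) (tt N7989 (iv D18611)) (tt N11401 D23520))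
theorem Q9603 : ∀ i, i < 9603 → P i := stepQ 9602 Q9602 (allL N9602 (tt N8629 F84129) (tt N9211 F134318) (tt N7991 (iv D18612)) (tt N11387 (iv F105368)) (tt N8003 F84130) (tt N9192 F134320) (tt N11402 D23522) (tt N9186 (iv F134494)) (tt N7994 F84133) (tt N9020 F84134))
theorem Q9604 : ∀ i, i < 9604 → P i := stepQ 9603 Q9603 (allL N9603 (tt N8630 F84135) (tt N9412 F84136) (tt N11402 (iv F105458)) (tt N7992 F84137) (tt N8004 F84138) (tt N11403 D23523) (tt N7991 (iv D18613)) (tt N11404 D23524) (tt N7995 F84139) (tt N9021 F84140))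
theorem Q9605 : ∀ i, i < 9605 → P i := stepQ 9604 Q9604 (allL N9604 (tt N8631 F84141) (tt N9413 F84142) (tt N11389 (iv F105382)) (tt N11403 (iv F105464)) (tt N8049 F84143) (tt N7992 (iv D18614)) (tt N9407 F84144) (tt N11405 D23525) (tt N11406 D23526) (tt N9022 F84145))
theorem Q9606 : ∀ i, i < 9606 → P i := stepQ 9605 Q9605 (allL N9605 (tt N8632 F84146) (tt N9414 F84147) (tt N11390 (iv F105388)) (tt N11404 (iv F105469)) (tt N7993 F84148) (tt N11405 (iv F105477)) (tt N9406 F84149) (tt N7992 (iv D18615)) (tt N7997 F84150) (tt N9023 F84151))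
theorem Q9607 : ∀ i, i < 9607 → P i := stepQ 9606 Q9606 (allL N9606 (tt N8635 F84157) (tt N9203 F134317) (tt N7995 F84158) (tt N11391 (iv F105401)) (tt N8012 F84159) (tt N9190 F134319) (tt N7994 (iv D18617)) (tt N11407 D23530) (tt N11402 (iv F105460)) (tt N9606 F84160))
theorem Q9608 : ∀ i, i < 9608 → P i := stepQ 9607 Q9607 (allL N9607 (tt N8636 F84167) (tt N9548 F84168) (tt N11407 (iv F105500)) (tt N7997 F84169) (tt N8013 F84170) (tt N9208 F134339) (tt N9201 (iv F134653)) (tt N7995 (iv D18619)) (tt N11404 (iv F105472)) (tt N9607 F84172))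
theorem Q9609 : ∀ i, i < 9609 → P i := stepQ 9608 Q9608 (allL N9608 (tt N8637 F84173) (tt N9549 F84174) (tt N11394 (iv F105417)) (tt N9208 F134355) (tt N7998 F84175) (tt N7997 F84176) (tt N9206 (iv F134672)) (tt N7996 (iv D18620)) (tt N11408 D23534) (tt N9608 F84177))
theorem Q9610 : ∀ i, i < 9610 → P i := stepQ 9609 Q9609 (allL N9609 (tt N8638 F84178) (tt N9415 (iv F134521)) (tt N11395 (iv F105423)) (tt N9215 F134352) (tt N7999 F84180) (tt N11406 (iv F105482)) (tt N9213 F134353) (tt N11408 (iv F105524)) (tt N7996 (iv D18621)) (tt N11409 D23535))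
theorem Q9611 : ∀ i, i < 9611 → P i := stepQ 9610 Q9610 (allL N9610 (tt N8639 F84182) (tt N9550 (iv F134673)) (tt N11399 (iv F105440)) (tt N9610 F84183) (tt N9206 (iv F134671)) (tt N9610 F84184) (tt N7998 (iv D18622)) (tt N9205 F134337) (tt N11410 D23536) (tt N9610 F84185))
theorem Q9612 : ∀ i, i < 9612 → P i := stepQ 9611 Q9611 (allL N9611 (tt N8640 F84186) (tt N11351 (iv F105019)) (tt N11400 (iv F105444)) (tt N9611 F84187) (tt N11408 (iv F105523)) (tt N8057 F84188) (tt N11410 (iv F105532)) (tt N7999 F84189) (tt N7998 (iv D18623)) (tt N11411 D23537))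
theorem Q9613 : ∀ i, i < 9613 → P i := stepQ 9612 Q9612 (allL N9612 (tt N8641 F84190) (tt N9356 (iv F135485)) (tt N11401 (iv F105448)) (tt N9612 F84191) (tt N11409 (iv F105527)) (tt N8058 F84192) (tt N9355 F135353) (tt N11411 (iv F105536)) (tt N9612 F84193) (tt N7999 (iv D18624)))
theorem Q9614 : ∀ i, i < 9614 → P i := stepQ 9613 Q9613 (allL N9613 (tt N8642 F84194) (tt N11382 F135184) (tt N8000 (iv D18625)) (tt N8179 F84195) (tt N9186 F135185) (tt N9613 F84197) (tt N11386 (iv F135387)) (tt N8003 F84198) (tt N8007 F84199) (tt N8881 F84200))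
theorem Q9615 : ∀ i, i < 9615 → P i := stepQ 9614 Q9614 (allL N9614 (tt N8643 F84201) (tt N9352 F84202) (tt N11386 (iv F135385)) (tt N8001 F84203) (tt N9202 F135189) (tt N11357 (iv F135441)) (tt N8000 (iv D18626)) (tt N11412 D23541) (tt N8008 F84205) (tt N8882 F84206))
theorem Q9616 : ∀ i, i < 9616 → P i := stepQ 9615 Q9615 (allL N9615 (tt N8644 F84207) (tt N9353 F84208) (tt N8181 F84209) (tt N11357 (iv F135440)) (tt N8887 F84210) (tt N8001 (iv D18627)) (tt N9615 F84211) (tt N11413 D23542) (tt N11354 (iv F135102)) (tt N8883 F84212))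
theorem Q9617 : ∀ i, i < 9617 → P i := stepQ 9616 Q9616 (allL N9616 (tt N8645 F84213) (tt N9354 F84214) (tt N8182 F84215) (tt N11412 (iv F105558)) (tt N8002 F84216) (tt N11413 (iv F105567)) (tt N8006 F84217) (tt N8001 (iv D18628)) (tt N8010 F84218) (tt N8884 F84219))
theorem Q9618 : ∀ i, i < 9618 → P i := stepQ 9617 Q9617 (allL N9617 (tt N11414 D23544) (tt N8003 (iv D18629)) (tt N9212 F134345) (tt N8187 F84221) (tt N9211 F134346) (tt N9617 F84222) (tt N11415 D23545) (tt N11382 (iv F134970)) (tt N8011 F84223) (tt N9056 F84224))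
theorem Q9619 : ∀ i, i < 9619 → P i := stepQ 9618 Q9618 (allL N9618 (tt N8647 F84225) (tt N11415 (iv F105581)) (tt N8004 F84226) (tt N8188 F84227) (tt N11402 (iv F105459)) (tt N11416 D23546) (tt N8003 (iv D18630)) (tt N11417 D23547) (tt N8012 F84228) (tt N9057 F84229))
theorem Q9620 : ∀ i, i < 9620 → P i := stepQ 9619 Q9619 (allL N9619 (tt N8648 F84230) (tt N9485 F84231) (tt N11416 (iv F105587)) (tt N8005 F84232) (tt N11418 D23548) (tt N8004 (iv D18631)) (tt N9619 F84233) (tt N11419 D23549) (tt N9619 F84234) (tt N9058 F84235))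
theorem Q9621 : ∀ i, i < 9621 → P i := stepQ 9620 Q9620 (allL N9620 (tt N8649 F84236) (tt N9486 F84237) (tt N11417 (iv F105593)) (tt N8006 F84238) (tt N11404 (iv F105470)) (tt N11419 (iv F105606)) (tt N11412 (iv F105560)) (tt N8004 (iv D18632)) (tt N8013 F84239) (tt N9059 F84240))
theorem Q9622 : ∀ i, i < 9622 → P i := stepQ 9621 Q9621 (allL N9621 (tt N8650 F84241) (tt N9487 F84242) (tt N8191 F84243) (tt N11419 (iv F105605)) (tt N8062 F84244) (tt N8006 F84245) (tt N11420 D23550) (tt N8005 (iv D18633)) (tt N9621 F84246) (tt N9060 F84247))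
theorem Q9623 : ∀ i, i < 9623 → P i := stepQ 9622 Q9622 (allL N9622 (tt N8653 F84264) (tt N9546 F84265) (tt N11385 (iv F135381)) (tt N8010 F84266) (tt N9201 F135341) (tt N9199 (iv F135379)) (tt N8013 F84268) (tt N8008 (iv D18637)) (tt N11412 (iv F105561)) (tt N9622 F84269))
theorem Q9624 : ∀ i, i < 9624 → P i := stepQ 9623 Q9623 (allL N9623 (tt N8654 F84270) (tt N9547 F84271) (tt N8196 F84272) (tt N9199 (iv F135378)) (tt N9623 F84273) (tt N8010 F84274) (tt N9623 F84275) (tt N8009 (iv D18638)) (tt N11355 F135352) (tt N9623 F84276))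
theorem Q9625 : ∀ i, i < 9625 → P i := stepQ 9624 Q9624 (allL N9624 (tt N8011 (iv D18640)) (tt N8656 F84282) (tt N8535 (iv F134347)) (tt N8198 F84283) (tt N8533 F134344) (tt N8014 F84284) (tt N11421 D23560) (tt N8594 (iv F133810)) (tt N11414 (iv F105579)) (tt N9624 F84285))
theorem Q9626 : ∀ i, i < 9626 → P i := stepQ 9625 Q9625 (allL N9625 (tt N11421 (iv F105667)) (tt N8012 F84286) (tt N9205 F134342) (tt N8199 F84287) (tt N9203 F134343) (tt N9625 F84288) (tt N8011 (iv D18641)) (tt N11399 (iv F135034)) (tt N11415 (iv F105584)) (tt N9625 F84289))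
theorem Q9627 : ∀ i, i < 9627 → P i := stepQ 9626 Q9626 (allL N9626 (tt N8658 F84290) (tt N11399 (iv F135032)) (tt N8013 F84291) (tt N8200 F84292) (tt N11407 (iv F105501)) (tt N9626 F84293) (tt N11385 (iv F135383)) (tt N8012 (iv D18642)) (tt N11417 (iv F105595)) (tt N9626 F84294))
theorem Q9628 : ∀ i, i < 9628 → P i := stepQ 9627 Q9627 (allL N9627 (tt N8021 F84332) (tt N8659 F84333) (tt N8275 F84334) (tt N11422 D23568) (tt N8015 (iv D18649)) (tt N8247 F84335) (tt N11423 D23569) (tt N8919 F84336) (tt N8016 F84337) (tt N8607 F84338))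
theorem Q9629 : ∀ i, i < 9629 → P i := stepQ 9628 Q9628 (allL N9628 (tt N8022 F84339) (tt N8660 F84340) (tt N8276 F84341) (tt N8206 F84342) (tt N11423 (iv F105722)) (tt N8241 F84343) (tt N8015 (iv D18650)) (tt N11424 D23570) (tt N8017 F84344) (tt N8608 F84345))
theorem Q9630 : ∀ i, i < 9630 → P i := stepQ 9629 Q9629 (allL N9629 (tt N8023 F84346) (tt N8661 F84347) (tt N11425 D23571) (tt N8016 (iv D18651)) (tt N8209 F84348) (tt N9629 F84349) (tt N11426 D23572) (tt N9079 F84350) (tt N11422 (iv F105717)) (tt N8064 F84351))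
theorem Q9631 : ∀ i, i < 9631 → P i := stepQ 9630 Q9630 (allL N9630 (tt N8024 F84352) (tt N8662 F84353) (tt N9500 F84354) (tt N11426 (iv F105741)) (tt N8017 F84355) (tt N11427 D23573) (tt N8016 (iv D18652)) (tt N11428 D23574) (tt N11423 (iv F105723)) (tt N8065 F84356))
theorem Q9632 : ∀ i, i < 9632 → P i := stepQ 9631 Q9631 (allL N9631 (tt N8025 F84357) (tt N8663 F84358) (tt N9501 F84359) (tt N8211 F84360) (tt N11428 (iv F105753)) (tt N8020 F84361) (tt N9081 F84362) (tt N8017 (iv D18653)) (tt N11424 (iv F105731)) (tt N8066 F84363))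
theorem Q9633 : ∀ i, i < 9633 → P i := stepQ 9632 Q9632 (allL N9632 (tt N8027 F84369) (tt N8664 F84370) (tt N8914 F133704) (tt N8019 F84371) (tt N8212 F84372) (tt N11429 D23577) (tt N8018 (iv D18655)) (tt N11430 D23578) (tt N8910 (iv F134422)) (tt N8067 F84373))
theorem Q9634 : ∀ i, i < 9634 → P i := stepQ 9633 Q9633 (allL N9633 (tt N8028 F84374) (tt N8665 F84375) (tt N11352 (iv F105071)) (tt N11429 (iv F105768)) (tt N11427 (iv F105747)) (tt N8019 (iv D18656)) (tt N9633 F84376) (tt N11431 D23579) (tt N11432 D23580) (tt N8068 F84377))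
theorem Q9635 : ∀ i, i < 9635 → P i := stepQ 9634 Q9634 (allL N9634 (tt N8029 F84378) (tt N8666 F84379) (tt N11353 (iv F105077)) (tt N11430 (iv F105773)) (tt N8020 F84380) (tt N11431 (iv F105779)) (tt N9634 F84381) (tt N8019 (iv D18657)) (tt N11383 (iv F105339)) (tt N8069 F84382))
theorem Q9636 : ∀ i, i < 9636 → P i := stepQ 9635 Q9635 (allL N9635 (tt N11422 (iv F105712)) (tt N8033 F84383) (tt N11433 D23581) (tt N8021 (iv D18658)) (tt N8223 F84384) (tt N8969 F84385) (tt N11434 D23582) (tt N8936 F84386) (tt N8023 F84387) (tt N8933 F84388))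
theorem Q9637 : ∀ i, i < 9637 → P i := stepQ 9636 Q9636 (allL N9636 (tt N11423 (iv F105719)) (tt N8034 F84389) (tt N9004 F84390) (tt N11434 (iv F105791)) (tt N8022 F84391) (tt N11435 D23583) (tt N8021 (iv D18659)) (tt N11436 D23584) (tt N8024 F84392) (tt N8934 F84393))
theorem Q9638 : ∀ i, i < 9638 → P i := stepQ 9637 Q9637 (allL N9637 (tt N11424 (iv F105725)) (tt N8035 F84394) (tt N9005 F84395) (tt N8225 F84396) (tt N11436 (iv F105802)) (tt N8961 F84397) (tt N8938 F84398) (tt N8022 (iv D18660)) (tt N8025 F84399) (tt N8935 F84400))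
theorem Q9639 : ∀ i, i < 9639 → P i := stepQ 9638 Q9638 (allL N9638 (tt N11425 (iv F105733)) (tt N9227 (iv F133532)) (tt N8023 (iv D18661)) (tt N9226 (iv F133527)) (tt N8229 F84402) (tt N9638 F84403) (tt N11437 D23586) (tt N9087 F84404) (tt N11433 (iv F105788)) (tt N8070 F84405))
theorem Q9640 : ∀ i, i < 9640 → P i := stepQ 9639 Q9639 (allL N9639 (tt N11426 (iv F105739)) (tt N8037 F84406) (tt N11437 (iv F105812)) (tt N8024 F84407) (tt N8230 F84408) (tt N11438 D23587) (tt N8023 (iv D18662)) (tt N11439 D23588) (tt N11434 (iv F105793)) (tt N8071 F84409))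
theorem Q9641 : ∀ i, i < 9641 → P i := stepQ 9640 Q9640 (allL N9640 (tt N11427 (iv F105744)) (tt N8038 F84410) (tt N9505 F84411) (tt N11438 (iv F105817)) (tt N8028 F84412) (tt N8024 (iv D18663)) (tt N9640 F84413) (tt N11440 D23589) (tt N11441 D23590) (tt N8072 F84414))
theorem Q9642 : ∀ i, i < 9642 → P i := stepQ 9641 Q9641 (allL N9641 (tt N11428 (iv F105750)) (tt N8039 F84415) (tt N9506 F84416) (tt N11439 (iv F105821)) (tt N8025 F84417) (tt N11440 (iv F105828)) (tt N9090 F84418) (tt N8024 (iv D18664)) (tt N11436 (iv F105804)) (tt N8073 F84419))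
theorem Q9643 : ∀ i, i < 9643 → P i := stepQ 9642 Q9642 (allL N9642 (tt N8914 (iv F133554)) (tt N9642 F84420) (tt N8027 F84421) (tt N8197 (iv F133684)) (tt N8233 F84422) (tt N11442 D23591) (tt N8026 (iv D18665)) (tt N11443 D23592) (tt N8194 (iv F133699)) (tt N8074 F84423))
theorem Q9644 : ∀ i, i < 9644 → P i := stepQ 9643 Q9643 (allL N9643 (tt N11429 (iv F105766)) (tt N8040 F84424) (tt N11442 (iv F105835)) (tt N8028 F84425) (tt N11444 D23593) (tt N8027 (iv D18666)) (tt N9643 F84426) (tt N11445 D23594) (tt N11446 D23595) (tt N8075 F84427))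
theorem Q9645 : ∀ i, i < 9645 → P i := stepQ 9644 Q9644 (allL N9644 (tt N11430 (iv F105771)) (tt N8041 F84428) (tt N11443 (iv F105839)) (tt N8029 F84429) (tt N8235 F84430) (tt N11445 (iv F105849)) (tt N9644 F84431) (tt N8027 (iv D18667)) (tt N11384 (iv F105355)) (tt N8076 F84432))
theorem Q9646 : ∀ i, i < 9646 → P i := stepQ 9645 Q9645 (allL N9645 (tt N11431 (iv F105777)) (tt N8042 F84433) (tt N11356 (iv F105099)) (tt N11445 (iv F105848)) (tt N11440 (iv F105827)) (tt N8029 F84434) (tt N11447 D23596) (tt N8028 (iv D18668)) (tt N11448 D23597) (tt N8077 F84435))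
theorem Q9647 : ∀ i, i < 9647 → P i := stepQ 9646 Q9646 (allL N9646 (tt N11432 (iv F105781)) (tt N8043 F84436) (tt N11357 (iv F105104)) (tt N11446 (iv F105852)) (tt N11441 (iv F105832)) (tt N11386 (iv F105365)) (tt N9646 F84437) (tt N11448 (iv F105859)) (tt N8028 (iv D18669)) (tt N11449 D23598))
theorem Q9648 : ∀ i, i < 9648 → P i := stepQ 9647 Q9647 (allL N9647 (tt N8680 F84438) (tt N8123 F84439) (tt N9647 F84440) (tt N11450 D23599) (tt N8030 (iv D18670)) (tt N8238 F84441) (tt N11451 D23600) (tt N8954 F84442) (tt N9647 F84443) (tt N8105 F84444))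
theorem Q9649 : ∀ i, i < 9649 → P i := stepQ 9648 Q9648 (allL N9648 (tt N8681 F84445) (tt N8124 F84446) (tt N9648 F84447) (tt N8032 F84448) (tt N11451 (iv F105873)) (tt N8222 F84449) (tt N8030 (iv D18671)) (tt N11452 D23601) (tt N9648 F84450) (tt N8106 F84451))
theorem Q9650 : ∀ i, i < 9650 → P i := stepQ 9649 Q9649 (allL N9649 (tt N8682 F84452) (tt N8969 F84453) (tt N11453 D23602) (tt N8031 (iv D18672)) (tt N11450 (iv F105865)) (tt N8033 F84454) (tt N11454 D23603) (tt N8962 F84455) (tt N9649 F84456) (tt N8959 F84457))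
theorem Q9651 : ∀ i, i < 9651 → P i := stepQ 9650 Q9650 (allL N9650 (tt N8683 F84458) (tt N8970 F84459) (tt N8045 F84460) (tt N11454 (iv F105892)) (tt N8032 F84461) (tt N11455 D23604) (tt N8031 (iv D18673)) (tt N11456 D23605) (tt N9650 F84462) (tt N8960 F84463))
theorem Q9652 : ∀ i, i < 9652 → P i := stepQ 9651 Q9651 (allL N9651 (tt N8684 F84464) (tt N8971 F84465) (tt N8046 F84466) (tt N11452 (iv F105879)) (tt N11456 (iv F105904)) (tt N8935 F84467) (tt N8964 F84468) (tt N8032 (iv D18674)) (tt N9651 F84469) (tt N8961 F84470))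
theorem Q9653 : ∀ i, i < 9653 → P i := stepQ 9652 Q9652 (allL N9652 (tt N8685 F84471) (tt N9197 F134109) (tt N8033 (iv D18675)) (tt N8047 F84472) (tt N8255 F84473) (tt N11453 (iv F105886)) (tt N11457 D23607) (tt N8976 F84474) (tt N8036 F84475) (tt N8972 F84476))
theorem Q9654 : ∀ i, i < 9654 → P i := stepQ 9653 Q9653 (allL N9653 (tt N8686 F84477) (tt N11434 (iv F105790)) (tt N11457 (iv F105914)) (tt N8034 F84478) (tt N8256 F84479) (tt N11458 D23608) (tt N8033 (iv D18676)) (tt N11459 D23609) (tt N8037 F84480) (tt N8973 F84481))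
theorem Q9655 : ∀ i, i < 9655 → P i := stepQ 9654 Q9654 (allL N9654 (tt N8687 F84482) (tt N11435 (iv F105795)) (tt N8049 F84483) (tt N11458 (iv F105920)) (tt N11389 (iv F105383)) (tt N8034 (iv D18677)) (tt N11455 (iv F105899)) (tt N11460 D23610) (tt N11461 D23611) (tt N8974 F84484))
theorem Q9656 : ∀ i, i < 9656 → P i := stepQ 9655 Q9655 (allL N9655 (tt N8688 F84485) (tt N11436 (iv F105800)) (tt N8050 F84486) (tt N11459 (iv F105923)) (tt N8035 F84487) (tt N11460 (iv F105930)) (tt N8979 F84488) (tt N8034 (iv D18678)) (tt N8039 F84489) (tt N8975 F84490))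
theorem Q9657 : ∀ i, i < 9657 → P i := stepQ 9656 Q9656 (allL N9656 (tt N8690 F84496) (tt N9127 F134248) (tt N8037 F84497) (tt N8051 F84498) (tt N8264 F84499) (tt N11462 D23614) (tt N8036 (iv D18680)) (tt N11463 D23615) (tt N11457 (iv F105917)) (tt N8079 F84500))
theorem Q9658 : ∀ i, i < 9658 → P i := stepQ 9657 Q9657 (allL N9657 (tt N8691 F84501) (tt N11438 (iv F105816)) (tt N11462 (iv F105946)) (tt N8038 F84502) (tt N11464 D23616) (tt N8037 (iv D18681)) (tt N9657 F84503) (tt N11465 D23617) (tt N11466 D23618) (tt N8080 F84504))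
theorem Q9659 : ∀ i, i < 9659 → P i := stepQ 9658 Q9658 (allL N9658 (tt N8692 F84505) (tt N11439 (iv F105820)) (tt N11463 (iv F105951)) (tt N8039 F84506) (tt N8266 F84507) (tt N11465 (iv F105963)) (tt N9106 F84508) (tt N8037 (iv D18682)) (tt N11459 (iv F105926)) (tt N8081 F84509))
theorem Q9660 : ∀ i, i < 9660 → P i := stepQ 9659 Q9659 (allL N9659 (tt N8693 F84510) (tt N11440 (iv F105825)) (tt N8054 F84511) (tt N11465 (iv F105962)) (tt N8042 F84512) (tt N8039 F84513) (tt N11467 D23619) (tt N8038 (iv D18683)) (tt N11468 D23620) (tt N8082 F84514))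
theorem Q9661 : ∀ i, i < 9661 → P i := stepQ 9660 Q9660 (allL N9660 (tt N8694 F84515) (tt N11441 (iv F105830)) (tt N8055 F84516) (tt N11466 (iv F105966)) (tt N8043 F84517) (tt N11461 (iv F105934)) (tt N9660 F84518) (tt N11468 (iv F105977)) (tt N8038 (iv D18684)) (tt N11469 D23621))
theorem Q9662 : ∀ i, i < 9662 → P i := stepQ 9661 Q9661 (allL N9661 (tt N8695 F84519) (tt N11444 (iv F105843)) (tt N9661 F84520) (tt N11464 (iv F105957)) (tt N8040 (iv D18685)) (tt N8269 F84521) (tt N9661 F84522) (tt N11470 D23622) (tt N11471 D23623) (tt N8084 F84523))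
theorem Q9663 : ∀ i, i < 9663 → P i := stepQ 9662 Q9662 (allL N9662 (tt N8696 F84524) (tt N11445 (iv F105847)) (tt N9662 F84525) (tt N8042 F84526) (tt N11470 (iv F105985)) (tt N8041 F84527) (tt N11472 D23624) (tt N8040 (iv D18686)) (tt N11473 D23625) (tt N8085 F84528))
theorem Q9664 : ∀ i, i < 9664 → P i := stepQ 9663 Q9663 (allL N9663 (tt N8697 F84529) (tt N11446 (iv F105851)) (tt N9663 F84530) (tt N8043 F84531) (tt N11471 (iv F105990)) (tt N11398 (iv F105438)) (tt N9663 F84532) (tt N11473 (iv F106001)) (tt N8040 (iv D18687)) (tt N11474 D23626))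
theorem Q9665 : ∀ i, i < 9665 → P i := stepQ 9664 Q9664 (allL N9664 (tt N8698 F84533) (tt N11447 (iv F105854)) (tt N8056 F84534) (tt N11472 (iv F105994)) (tt N11467 (iv F105970)) (tt N9664 F84535) (tt N8042 (iv D18688)) (tt N9664 F84536) (tt N11475 D23627) (tt N8087 F84537))
theorem Q9666 : ∀ i, i < 9666 → P i := stepQ 9665 Q9665 (allL N9665 (tt N8699 F84538) (tt N11448 (iv F105858)) (tt N8057 F84539) (tt N11473 (iv F106000)) (tt N11468 (iv F105976)) (tt N11400 (iv F105445)) (tt N11475 (iv F106009)) (tt N8043 F84540) (tt N8042 (iv D18689)) (tt N11476 D23628))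
theorem Q9667 : ∀ i, i < 9667 → P i := stepQ 9666 Q9666 (allL N9666 (tt N8700 F84541) (tt N11449 (iv F105860)) (tt N8058 F84542) (tt N11474 (iv F106004)) (tt N11469 (iv F105980)) (tt N11401 (iv F105449)) (tt N9666 F84543) (tt N11476 (iv F106013)) (tt N8089 F84544) (tt N8043 (iv D18690)))
theorem Q9668 : ∀ i, i < 9668 → P i := stepQ 9667 Q9667 (allL N9667 (tt N8701 F84545) (tt N9191 F134110) (tt N8044 (iv D18691)) (tt N11453 (iv F105885)) (tt N9667 F84546) (tt N8047 F84547) (tt N11477 D23630) (tt N9010 F84548) (tt N9667 F84549) (tt N9006 F84550))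
theorem Q9669 : ∀ i, i < 9669 → P i := stepQ 9668 Q9668 (allL N9668 (tt N8702 F84551) (tt N9420 F84552) (tt N11477 (iv F106022)) (tt N8045 F84553) (tt N9668 F84554) (tt N11478 D23631) (tt N8044 (iv D18692)) (tt N11479 D23632) (tt N9668 F84555) (tt N9007 F84556))
theorem Q9670 : ∀ i, i < 9670 → P i := stepQ 9669 Q9669 (allL N9669 (tt N8703 F84557) (tt N9421 F84558) (tt N11455 (iv F105897)) (tt N11478 (iv F106028)) (tt N9407 F84559) (tt N8045 (iv D18693)) (tt N8049 F84560) (tt N11480 D23633) (tt N11481 D23634) (tt N9008 F84561))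
theorem Q9671 : ∀ i, i < 9671 → P i := stepQ 9670 Q9670 (allL N9670 (tt N8704 F84562) (tt N9422 F84563) (tt N11456 (iv F105903)) (tt N11479 (iv F106033)) (tt N8046 F84564) (tt N11480 (iv F106041)) (tt N9013 F84565) (tt N8045 (iv D18694)) (tt N9670 F84566) (tt N9009 F84567))
theorem Q9672 : ∀ i, i < 9672 → P i := stepQ 9671 Q9671 (allL N9671 (tt N8706 F84573) (tt N8997 F134072) (tt N8048 F84574) (tt N11457 (iv F105915)) (tt N8059 F84575) (tt N11482 D23637) (tt N8047 (iv D18696)) (tt N11483 D23638) (tt N8051 F84576) (tt N8952 F134073))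
theorem Q9673 : ∀ i, i < 9673 → P i := stepQ 9672 Q9672 (allL N9672 (tt N8707 F84578) (tt N9440 F135183) (tt N11482 (iv F106060)) (tt N8049 F84580) (tt N11484 D23639) (tt N8048 (iv D18697)) (tt N11478 (iv F106029)) (tt N11485 D23640) (tt N11486 D23641) (tt N9024 F84581))
theorem Q9674 : ∀ i, i < 9674 → P i := stepQ 9673 Q9673 (allL N9673 (tt N8708 F84582) (tt N9441 F135176) (tt N11483 (iv F106063)) (tt N8050 F84584) (tt N8061 F84585) (tt N11485 (iv F106075)) (tt N9031 F84586) (tt N8048 (iv D18698)) (tt N8053 F84587) (tt N9025 F84588))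
theorem Q9675 : ∀ i, i < 9675 → P i := stepQ 9674 Q9674 (allL N9674 (tt N8709 F84589) (tt N9461 F84590) (tt N11460 (iv F105929)) (tt N11485 (iv F106074)) (tt N11405 (iv F105476)) (tt N8050 F84591) (tt N11487 D23642) (tt N8049 (iv D18699)) (tt N11488 D23643) (tt N9026 F84592))
theorem Q9676 : ∀ i, i < 9676 → P i := stepQ 9675 Q9675 (allL N9675 (tt N8710 F84593) (tt N9462 F84594) (tt N11461 (iv F105933)) (tt N11486 (iv F106079)) (tt N11406 (iv F105481)) (tt N8055 F84595) (tt N11481 (iv F106047)) (tt N11488 (iv F106088)) (tt N8049 (iv D18700)) (tt N11489 D23644))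
theorem Q9677 : ∀ i, i < 9677 → P i := stepQ 9676 Q9676 (allL N9676 (tt N8712 F84606) (tt N9117 F134250) (tt N8052 F84607) (tt N11462 (iv F105947)) (tt N9676 F84608) (tt N8051 (iv D18703)) (tt N9676 F84609) (tt N11490 D23648) (tt N11491 D23649) (tt N8090 F84610))
theorem Q9678 : ∀ i, i < 9678 → P i := stepQ 9677 Q9677 (allL N9677 (tt N8713 F84611) (tt N9129 F134068) (tt N8053 F84612) (tt N11463 (iv F105952)) (tt N8063 F84613) (tt N11490 (iv F106111)) (tt N9133 F84614) (tt N8051 (iv D18704)) (tt N11483 (iv F106066)) (tt N8091 F84615))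
theorem Q9679 : ∀ i, i < 9679 → P i := stepQ 9678 Q9678 (allL N9678 (tt N8714 F84616) (tt N9528 F135302) (tt N11490 (iv F106109)) (tt N8054 F84618) (tt N9678 F84619) (tt N8053 F84620) (tt N11492 D23650) (tt N8052 (iv D18705)) (tt N11493 D23651) (tt N8092 F84621))
theorem Q9680 : ∀ i, i < 9680 → P i := stepQ 9679 Q9679 (allL N9679 (tt N8715 F84622) (tt N9525 F135303) (tt N11491 (iv F106114)) (tt N8055 F84624) (tt N9679 F84625) (tt N11486 (iv F106080)) (tt N9679 F84626) (tt N11493 (iv F106128)) (tt N8052 (iv D18706)) (tt N9509 F135304))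
theorem Q9681 : ∀ i, i < 9681 → P i := stepQ 9680 Q9680 (allL N9680 (tt N8716 F84627) (tt N9529 F84628) (tt N11467 (iv F105969)) (tt N11492 (iv F106119)) (tt N8056 F84629) (tt N9137 F84630) (tt N8054 (iv D18707)) (tt N9680 F84631) (tt N11494 D23653) (tt N8093 F84632))
theorem Q9682 : ∀ i, i < 9682 → P i := stepQ 9681 Q9681 (allL N9681 (tt N8717 F84633) (tt N9530 F84634) (tt N11468 (iv F105975)) (tt N11493 (iv F106126)) (tt N8057 F84635) (tt N11488 (iv F106087)) (tt N11494 (iv F106138)) (tt N8055 F84636) (tt N8054 (iv D18708)) (tt N11495 D23654))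
theorem Q9683 : ∀ i, i < 9683 → P i := stepQ 9682 Q9682 (allL N9682 (tt N8718 F84637) (tt N9522 F135298) (tt N11469 (iv F105979)) (tt N9509 F135299) (tt N8058 F84639) (tt N11489 (iv F106091)) (tt N9682 F84640) (tt N11495 (iv F106143)) (tt N8095 F84641) (tt N8055 (iv D18709)))
theorem Q9684 : ∀ i, i < 9684 → P i := stepQ 9683 Q9683 (allL N9683 (tt N8719 F84642) (tt N11361 (iv F105142)) (tt N11475 (iv F106008)) (tt N9683 F84643) (tt N11494 (iv F106137)) (tt N11496 D23655) (tt N8057 F84644) (tt N9683 F84645) (tt N8056 (iv D18710)) (tt N11497 D23656))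
theorem Q9685 : ∀ i, i < 9685 → P i := stepQ 9684 Q9684 (allL N9684 (tt N8720 F84646) (tt N11362 (iv F105148)) (tt N11476 (iv F106012)) (tt N9684 F84647) (tt N11495 (iv F106142)) (tt N11411 (iv F105535)) (tt N11497 (iv F106151)) (tt N8058 F84648) (tt N8097 F84649) (tt N8057 (iv D18711)))
theorem Q9686 : ∀ i, i < 9686 → P i := stepQ 9685 Q9685 (allL N9685 (tt N8722 F84662) (tt N8833 F134155) (tt N8060 F84663) (tt N8337 F84664) (tt N11498 D23660) (tt N8059 (iv D18714)) (tt N9685 F84665) (tt N11499 D23661) (tt N9685 F84666) (tt N8800 F134156))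
theorem Q9687 : ∀ i, i < 9687 → P i := stepQ 9686 Q9686 (allL N9686 (tt N8723 F84668) (tt N9002 F134078) (tt N8061 F84669) (tt N8338 F84670) (tt N11483 (iv F106064)) (tt N11499 (iv F106180)) (tt N9068 F84671) (tt N8059 (iv D18715)) (tt N8063 F84672) (tt N8953 F134079))
theorem Q9688 : ∀ i, i < 9688 → P i := stepQ 9687 Q9687 (allL N9687 (tt N8724 F84674) (tt N9292 F135277) (tt N11498 (iv F106173)) (tt N11418 (iv F105599)) (tt N8060 (iv D18716)) (tt N11484 (iv F106070)) (tt N9687 F84676) (tt N11500 D23662) (tt N9687 F84677) (tt N9062 F84678))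
theorem Q9689 : ∀ i, i < 9689 → P i := stepQ 9688 Q9688 (allL N9688 (tt N8725 F84679) (tt N9296 F135281) (tt N11499 (iv F106178)) (tt N8062 F84681) (tt N11500 (iv F106185)) (tt N8061 F84682) (tt N11501 D23663) (tt N8060 (iv D18717)) (tt N9688 F84683) (tt N9063 F84684))
theorem Q9690 : ∀ i, i < 9690 → P i := stepQ 9689 Q9689 (allL N9689 (tt N8726 F84685) (tt N9494 F84686) (tt N8341 F84687) (tt N11501 (iv F106190)) (tt N11420 (iv F105612)) (tt N9072 F84688) (tt N8062 (iv D18718)) (tt N9689 F84689) (tt N9689 F84690) (tt N9064 F84691))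
theorem Q9691 : ∀ i, i < 9691 → P i := stepQ 9690 Q9690 (allL N9690 (tt N8070 F84704) (tt N11502 D23665) (tt N8064 (iv D18721)) (tt N8573 F133049) (tt N8354 F84706) (tt N9690 F84707) (tt N11503 D23666) (tt N8571 (iv F133368)) (tt N8570 F133050) (tt N11425 (iv F105738)))
theorem Q9692 : ∀ i, i < 9692 → P i := stepQ 9691 Q9691 (allL N9691 (tt N8071 F84710) (tt N8728 F84711) (tt N11503 (iv F106209)) (tt N8065 F84712) (tt N8355 F84713) (tt N11504 D23667) (tt N8064 (iv D18722)) (tt N11505 D23668) (tt N9084 F84714) (tt N11426 (iv F105743)))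
theorem Q9693 : ∀ i, i < 9693 → P i := stepQ 9692 Q9692 (allL N9692 (tt N8072 F84715) (tt N8729 F84716) (tt N9502 F84717) (tt N11504 (iv F106215)) (tt N8068 F84718) (tt N8065 (iv D18723)) (tt N9692 F84719) (tt N11506 D23669) (tt N11507 D23670) (tt N11427 (iv F105749)))
theorem Q9694 : ∀ i, i < 9694 → P i := stepQ 9693 Q9693 (allL N9693 (tt N8073 F84720) (tt N8730 F84721) (tt N9503 F84722) (tt N11505 (iv F106219)) (tt N8066 F84723) (tt N11506 (iv F106227)) (tt N9083 F84724) (tt N8065 (iv D18724)) (tt N9085 F84725) (tt N11428 (iv F105755)))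
theorem Q9695 : ∀ i, i < 9695 → P i := stepQ 9694 Q9694 (allL N9694 (tt N8075 F84736) (tt N8731 F84737) (tt N9232 (iv F133552)) (tt N8068 F84738) (tt N9140 F134225) (tt N8067 (iv D18727)) (tt N9694 F84739) (tt N11508 D23675) (tt N11509 D23676) (tt N11429 (iv F105770)))
theorem Q9696 : ∀ i, i < 9696 → P i := stepQ 9695 Q9695 (allL N9695 (tt N8076 F84740) (tt N8732 F84741) (tt N9159 (iv F133446)) (tt N8069 F84742) (tt N8358 F84743) (tt N11508 (iv F106260)) (tt N9695 F84744) (tt N8067 (iv D18728)) (tt N9695 F84745) (tt N11430 (iv F105776)))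
theorem Q9697 : ∀ i, i < 9697 → P i := stepQ 9696 Q9696 (allL N9696 (tt N8077 F84746) (tt N8733 F84747) (tt N11365 (iv F105177)) (tt N11508 (iv F106259)) (tt N11506 (iv F106226)) (tt N8069 F84748) (tt N11510 D23677) (tt N8068 (iv D18729)) (tt N11511 D23678) (tt N11431 (iv F105780)))
theorem Q9698 : ∀ i, i < 9698 → P i := stepQ 9697 Q9697 (allL N9697 (tt N8078 F84749) (tt N8734 F84750) (tt N11366 (iv F105182)) (tt N11509 (iv F106264)) (tt N11507 (iv F106231)) (tt N9697 F84751) (tt N9697 F84752) (tt N11511 (iv F106275)) (tt N8068 (iv D18730)) (tt N11512 D23679))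
theorem Q9699 : ∀ i, i < 9699 → P i := stepQ 9698 Q9698 (allL N9698 (tt N11503 (iv F106208)) (tt N9124 (iv F133436)) (tt N8071 F84759) (tt N9152 (iv F133430)) (tt N8372 F84761) (tt N11513 D23682) (tt N8070 (iv D18732)) (tt N11514 D23683) (tt N9096 F84762) (tt N11437 (iv F105815)))
theorem Q9700 : ∀ i, i < 9700 → P i := stepQ 9699 Q9699 (allL N9699 (tt N11504 (iv F106213)) (tt N8080 F84763) (tt N11513 (iv F106291)) (tt N8072 F84764) (tt N11515 D23684) (tt N8071 (iv D18733)) (tt N9699 F84765) (tt N11516 D23685) (tt N11517 D23686) (tt N11438 (iv F105819)))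
theorem Q9701 : ∀ i, i < 9701 → P i := stepQ 9700 Q9700 (allL N9700 (tt N11505 (iv F106217)) (tt N8081 F84766) (tt N11514 (iv F106294)) (tt N8073 F84767) (tt N8374 F84768) (tt N11516 (iv F106305)) (tt N9094 F84769) (tt N8071 (iv D18734)) (tt N9098 F84770) (tt N11439 (iv F105824)))
theorem Q9702 : ∀ i, i < 9702 → P i := stepQ 9701 Q9701 (allL N9701 (tt N11506 (iv F106223)) (tt N8082 F84771) (tt N9507 F84772) (tt N11516 (iv F106304)) (tt N8077 F84773) (tt N8073 F84774) (tt N11518 D23687) (tt N8072 (iv D18735)) (tt N11519 D23688) (tt N11440 (iv F105829)))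
theorem Q9703 : ∀ i, i < 9703 → P i := stepQ 9702 Q9702 (allL N9702 (tt N11507 (iv F106228)) (tt N8083 F84775) (tt N9230 F134220) (tt N11517 (iv F106307)) (tt N8078 F84777) (tt N9100 F84778) (tt N9702 F84779) (tt N11519 (iv F106319)) (tt N8072 (iv D18736)) (tt N11520 D23689))
theorem Q9704 : ∀ i, i < 9704 → P i := stepQ 9703 Q9703 (allL N9703 (tt N9232 (iv F133551)) (tt N9703 F84780) (tt N8075 F84781) (tt N11367 (iv F105188)) (tt N8589 (iv F133700)) (tt N8074 (iv D18737)) (tt N9703 F84782) (tt N11521 D23691) (tt N11522 D23692) (tt N11442 (iv F105837)))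
theorem Q9705 : ∀ i, i < 9705 → P i := stepQ 9704 Q9704 (allL N9704 (tt N9159 (iv F133445)) (tt N9704 F84783) (tt N8076 F84784) (tt N11368 (iv F105192)) (tt N8377 F84785) (tt N11521 (iv F106334)) (tt N9704 F84786) (tt N8074 (iv D18738)) (tt N9704 F84787) (tt N11443 (iv F105842)))
theorem Q9706 : ∀ i, i < 9706 → P i := stepQ 9705 Q9705 (allL N9705 (tt N9140 (iv F133418)) (tt N8084 F84788) (tt N8589 F132975) (tt N11515 (iv F106300)) (tt N8075 (iv D18739)) (tt N8378 F84789) (tt N9705 F84790) (tt N11523 D23693) (tt N11524 D23694) (tt N11444 (iv F105846)))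
theorem Q9707 : ∀ i, i < 9707 → P i := stepQ 9706 Q9706 (allL N9706 (tt N11508 (iv F106257)) (tt N8085 F84791) (tt N11521 (iv F106333)) (tt N8077 F84792) (tt N11523 (iv F106342)) (tt N8076 F84793) (tt N11525 D23695) (tt N8075 (iv D18740)) (tt N11526 D23696) (tt N11445 (iv F105850)))
theorem Q9708 : ∀ i, i < 9708 → P i := stepQ 9707 Q9707 (allL N9707 (tt N11509 (iv F106261)) (tt N8086 F84794) (tt N11522 (iv F106337)) (tt N8078 F84795) (tt N11524 (iv F106347)) (tt N9707 F84796) (tt N9707 F84797) (tt N11526 (iv F106357)) (tt N8075 (iv D18741)) (tt N11527 D23697))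
theorem Q9709 : ∀ i, i < 9709 → P i := stepQ 9708 Q9708 (allL N9708 (tt N11510 (iv F106268)) (tt N8087 F84798) (tt N11372 (iv F105208)) (tt N11525 (iv F106351)) (tt N11518 (iv F106312)) (tt N9708 F84799) (tt N8077 (iv D18742)) (tt N9708 F84800) (tt N11528 D23698) (tt N11447 (iv F105857)))
theorem Q9710 : ∀ i, i < 9710 → P i := stepQ 9709 Q9709 (allL N9709 (tt N11511 (iv F106272)) (tt N8088 F84801) (tt N11373 (iv F105213)) (tt N11526 (iv F106355)) (tt N11519 (iv F106317)) (tt N9709 F84802) (tt N11528 (iv F106363)) (tt N8078 F84803) (tt N8077 (iv D18743)) (tt N11529 D23699))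
theorem Q9711 : ∀ i, i < 9711 → P i := stepQ 9710 Q9710 (allL N9710 (tt N11512 (iv F106276)) (tt N8089 F84804) (tt N11374 (iv F105218)) (tt N11527 (iv F106359)) (tt N11520 (iv F106322)) (tt N9710 F84805) (tt N9710 F84806) (tt N11529 (iv F106367)) (tt N11449 (iv F105862)) (tt N8078 (iv D18744)))
theorem Q9712 : ∀ i, i < 9712 → P i := stepQ 9711 Q9711 (allL N9711 (tt N8747 F84817) (tt N9114 F134247) (tt N8080 F84818) (tt N8090 F84819) (tt N11530 D23703) (tt N8079 (iv D18747)) (tt N9711 F84820) (tt N11531 D23704) (tt N9093 (iv F134575)) (tt N11462 (iv F105949)))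
theorem Q9713 : ∀ i, i < 9713 → P i := stepQ 9712 Q9712 (allL N9712 (tt N8748 F84821) (tt N9126 F134215) (tt N8081 F84822) (tt N8091 F84823) (tt N8401 F84824) (tt N11531 (iv F106389)) (tt N9111 F84825) (tt N8079 (iv D18748)) (tt N9102 F134216) (tt N11463 (iv F105955)))
theorem Q9714 : ∀ i, i < 9714 → P i := stepQ 9713 Q9713 (allL N9713 (tt N8749 F84827) (tt N11515 (iv F106299)) (tt N11530 (iv F106382)) (tt N8084 F84828) (tt N8080 (iv D18749)) (tt N8402 F84829) (tt N9713 F84830) (tt N11532 D23706) (tt N11533 D23707) (tt N11464 (iv F105960)))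
theorem Q9715 : ∀ i, i < 9715 → P i := stepQ 9714 Q9714 (allL N9714 (tt N8750 F84831) (tt N11516 (iv F106303)) (tt N11531 (iv F106387)) (tt N8082 F84832) (tt N11532 (iv F106397)) (tt N8081 F84833) (tt N11534 D23708) (tt N8080 (iv D18750)) (tt N11535 D23709) (tt N11465 (iv F105964)))
theorem Q9716 : ∀ i, i < 9716 → P i := stepQ 9715 Q9715 (allL N9715 (tt N8751 F84834) (tt N11517 (iv F106306)) (tt N9093 (iv F134574)) (tt N8083 F84835) (tt N11533 (iv F106401)) (tt N9092 F134207) (tt N9715 F84837) (tt N11535 (iv F106410)) (tt N8080 (iv D18751)) (tt N11536 D23710))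
theorem Q9717 : ∀ i, i < 9717 → P i := stepQ 9716 Q9716 (allL N9716 (tt N8752 F84838) (tt N11518 (iv F106310)) (tt N8093 F84839) (tt N11534 (iv F106404)) (tt N8087 F84840) (tt N9115 F84841) (tt N8082 (iv D18752)) (tt N9716 F84842) (tt N11537 D23711) (tt N11467 (iv F105973)))
theorem Q9718 : ∀ i, i < 9718 → P i := stepQ 9717 Q9717 (allL N9717 (tt N8753 F84843) (tt N11519 (iv F106315)) (tt N8094 F84844) (tt N11535 (iv F106408)) (tt N8088 F84845) (tt N9119 F84846) (tt N11537 (iv F106418)) (tt N8083 F84847) (tt N8082 (iv D18753)) (tt N11538 D23712))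
theorem Q9719 : ∀ i, i < 9719 → P i := stepQ 9718 Q9718 (allL N9718 (tt N8754 F84848) (tt N11520 (iv F106320)) (tt N8095 F84849) (tt N11536 (iv F106412)) (tt N8089 F84850) (tt N9120 F84851) (tt N9718 F84852) (tt N11538 (iv F106424)) (tt N11469 (iv F105982)) (tt N8083 (iv D18754)))
theorem Q9720 : ∀ i, i < 9720 → P i := stepQ 9719 Q9719 (allL N9719 (tt N8755 F84853) (tt N11523 (iv F106341)) (tt N9719 F84854) (tt N11532 (iv F106396)) (tt N8085 F84855) (tt N8408 F84856) (tt N11539 D23713) (tt N8084 (iv D18755)) (tt N11540 D23714) (tt N11470 (iv F105987)))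
theorem Q9721 : ∀ i, i < 9721 → P i := stepQ 9720 Q9720 (allL N9720 (tt N8756 F84857) (tt N11524 (iv F106345)) (tt N9720 F84858) (tt N11533 (iv F106400)) (tt N8086 F84859) (tt N11541 D23715) (tt N9720 F84860) (tt N11540 (iv F106432)) (tt N8084 (iv D18756)) (tt N11542 D23716))
theorem Q9722 : ∀ i, i < 9722 → P i := stepQ 9721 Q9721 (allL N9721 (tt N8757 F84861) (tt N11525 (iv F106350)) (tt N9721 F84862) (tt N8087 F84863) (tt N11539 (iv F106427)) (tt N9721 F84864) (tt N8085 (iv D18757)) (tt N9721 F84865) (tt N11543 D23717) (tt N11472 (iv F105997)))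
theorem Q9723 : ∀ i, i < 9723 → P i := stepQ 9722 Q9722 (allL N9722 (tt N8758 F84866) (tt N11526 (iv F106354)) (tt N9722 F84867) (tt N8088 F84868) (tt N11540 (iv F106431)) (tt N9722 F84869) (tt N11543 (iv F106446)) (tt N8086 F84870) (tt N8085 (iv D18758)) (tt N11544 D23718))
theorem Q9724 : ∀ i, i < 9724 → P i := stepQ 9723 Q9723 (allL N9723 (tt N8759 F84871) (tt N11527 (iv F106358)) (tt N9723 F84872) (tt N8089 F84873) (tt N11542 (iv F106441)) (tt N9723 F84874) (tt N9723 F84875) (tt N11544 (iv F106452)) (tt N11474 (iv F106006)) (tt N8086 (iv D18759)))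
theorem Q9725 : ∀ i, i < 9725 → P i := stepQ 9724 Q9724 (allL N9724 (tt N8760 F84876) (tt N11528 (iv F106362)) (tt N8096 F84877) (tt N11543 (iv F106445)) (tt N11537 (iv F106417)) (tt N11545 D23719) (tt N8088 F84878) (tt N9724 F84879) (tt N8087 (iv D18760)) (tt N11546 D23720))
theorem Q9726 : ∀ i, i < 9726 → P i := stepQ 9725 Q9725 (allL N9725 (tt N8761 F84880) (tt N11529 (iv F106365)) (tt N8097 F84881) (tt N11544 (iv F106450)) (tt N11538 (iv F106422)) (tt N9725 F84882) (tt N11546 (iv F106460)) (tt N8089 F84883) (tt N11476 (iv F106014)) (tt N8088 (iv D18761)))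
theorem Q9727 : ∀ i, i < 9727 → P i := stepQ 9726 Q9726 (allL N9726 (tt N8764 F84898) (tt N9116 F134249) (tt N8092 F84899) (tt N11531 (iv F106388)) (tt N9726 F84900) (tt N8091 F84901) (tt N11547 D23725) (tt N8090 (iv D18765)) (tt N9095 (iv F134577)) (tt N11490 (iv F106112)))
theorem Q9728 : ∀ i, i < 9728 → P i := stepQ 9727 Q9727 (allL N9727 (tt N8766 F84907) (tt N9527 F135300) (tt N11547 (iv F106483)) (tt N8093 F84909) (tt N9727 F84910) (tt N9145 F84911) (tt N8092 (iv D18767)) (tt N9727 F84912) (tt N9510 F135301) (tt N11492 (iv F106123)))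
theorem Q9729 : ∀ i, i < 9729 → P i := stepQ 9728 Q9728 (allL N9728 (tt N8769 F84925) (tt N9526 F135294) (tt N11537 (iv F106416)) (tt N9510 F135295) (tt N8096 F84927) (tt N11548 D23730) (tt N8094 F84928) (tt N9728 F84929) (tt N8093 (iv D18770)) (tt N11549 D23731))
theorem Q9730 : ∀ i, i < 9730 → P i := stepQ 9729 Q9729 (allL N9729 (tt N8770 F84930) (tt N9521 F135296) (tt N11538 (iv F106421)) (tt N9508 F135297) (tt N8097 F84932) (tt N9151 F84933) (tt N11549 (iv F106517)) (tt N8095 F84934) (tt N11495 (iv F106144)) (tt N8094 (iv D18771)))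
theorem Q9731 : ∀ i, i < 9731 → P i := stepQ 9730 Q9730 (allL N9730 (tt N8771 F84935) (tt N11380 (iv F105258)) (tt N11545 (iv F106454)) (tt N9730 F84936) (tt N11550 D23732) (tt N8096 (iv D18772)) (tt N9730 F84937) (tt N9730 F84938) (tt N9730 F84939) (tt N11551 D23733))
theorem Q9732 : ∀ i, i < 9732 → P i := stepQ 9731 Q9731 (allL N9731 (tt N8772 F84940) (tt N11381 (iv F105264)) (tt N11546 (iv F106459)) (tt N9731 F84941) (tt N11549 (iv F106516)) (tt N11551 (iv F106525)) (tt N8097 F84942) (tt N9731 F84943) (tt N11497 (iv F106153)) (tt N8096 (iv D18773)))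
theorem Q9733 : ∀ i, i < 9733 → P i := stepQ 9732 Q9732 (allL N9732 (tt N8105 F84951) (tt N8773 F84952) (tt N9732 F84953) (tt N11552 D23734) (tt N8098 (iv D18775)) (tt N8954 F84954) (tt N11553 D23735) (tt N8238 F84955) (tt N8099 F84956) (tt N8680 F84957))
theorem Q9734 : ∀ i, i < 9734 → P i := stepQ 9733 Q9733 (allL N9733 (tt N8106 F84958) (tt N8774 F84959) (tt N9733 F84960) (tt N8241 F84961) (tt N11553 (iv F106538)) (tt N8206 F84962) (tt N8098 (iv D18776)) (tt N11554 D23736) (tt N8100 F84963) (tt N8681 F84964))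
theorem Q9735 : ∀ i, i < 9735 → P i := stepQ 9734 Q9734 (allL N9734 (tt N8107 F84965) (tt N8775 F84966) (tt N11555 D23737) (tt N8099 (iv D18777)) (tt N8486 F84967) (tt N9734 F84968) (tt N11556 D23738) (tt N8483 F84969) (tt N11552 (iv F106533)) (tt N9734 F84970))
theorem Q9736 : ∀ i, i < 9736 → P i := stepQ 9735 Q9735 (allL N9735 (tt N8108 F84971) (tt N8776 F84972) (tt N9735 F84973) (tt N11556 (iv F106557)) (tt N8100 F84974) (tt N11557 D23739) (tt N8099 (iv D18778)) (tt N11558 D23740) (tt N11553 (iv F106539)) (tt N9735 F84975))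
theorem Q9737 : ∀ i, i < 9737 → P i := stepQ 9736 Q9736 (allL N9736 (tt N8109 F84976) (tt N8777 F84977) (tt N9736 F84978) (tt N8488 F84979) (tt N11558 (iv F106569)) (tt N8103 F84980) (tt N8485 F84981) (tt N8100 (iv D18779)) (tt N11554 (iv F106547)) (tt N9736 F84982))
theorem Q9738 : ∀ i, i < 9738 → P i := stepQ 9737 Q9737 (allL N9737 (tt N8111 F84989) (tt N8778 F84990) (tt N8912 F133731) (tt N8102 F84991) (tt N8910 (iv F134421)) (tt N11559 D23743) (tt N8101 (iv D18781)) (tt N11560 D23744) (tt N8212 F84992) (tt N9737 F84993))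
theorem Q9739 : ∀ i, i < 9739 → P i := stepQ 9738 Q9738 (allL N9738 (tt N8112 F84994) (tt N8779 F84995) (tt N9738 F84996) (tt N11559 (iv F106586)) (tt N11557 (iv F106563)) (tt N8102 (iv D18782)) (tt N9738 F84997) (tt N11561 D23745) (tt N11562 D23746) (tt N9738 F84998))
theorem Q9740 : ∀ i, i < 9740 → P i := stepQ 9739 Q9739 (allL N9739 (tt N8113 F84999) (tt N8780 F85000) (tt N9739 F85001) (tt N11560 (iv F106591)) (tt N8103 F85002) (tt N11561 (iv F106598)) (tt N9739 F85003) (tt N8102 (iv D18783)) (tt N8214 F85004) (tt N9739 F85005))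
theorem Q9741 : ∀ i, i < 9741 → P i := stepQ 9740 Q9740 (allL N9740 (tt N8954 F85006) (tt N8117 F85007) (tt N9740 F85008) (tt N11563 D23747) (tt N8104 (iv D18784)) (tt N8105 F85009) (tt N11564 D23748) (tt N8680 F85010) (tt N9740 F85011) (tt N8238 F85012))
theorem Q9742 : ∀ i, i < 9742 → P i := stepQ 9741 Q9741 (allL N9741 (tt N8955 F85013) (tt N8118 F85014) (tt N9741 F85015) (tt N8243 F85016) (tt N11564 (iv F106615)) (tt N8217 F85017) (tt N8104 (iv D18785)) (tt N11565 D23749) (tt N9741 F85018) (tt N8239 F85019))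
theorem Q9743 : ∀ i, i < 9743 → P i := stepQ 9742 Q9742 (allL N9742 (tt N11552 (iv F106528)) (tt N8125 F85020) (tt N11566 D23750) (tt N8105 (iv D18786)) (tt N8959 F85021) (tt N11563 (iv F106608)) (tt N11567 D23751) (tt N8956 F85022) (tt N8107 F85023) (tt N11450 (iv F105869)))
theorem Q9744 : ∀ i, i < 9744 → P i := stepQ 9743 Q9743 (allL N9743 (tt N11553 (iv F106535)) (tt N8126 F85024) (tt N9743 F85025) (tt N11567 (iv F106631)) (tt N8106 F85026) (tt N11568 D23752) (tt N8105 (iv D18787)) (tt N11569 D23753) (tt N8108 F85027) (tt N11451 (iv F105875)))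
theorem Q9745 : ∀ i, i < 9745 → P i := stepQ 9744 Q9744 (allL N9744 (tt N11554 (iv F106541)) (tt N8127 F85028) (tt N9744 F85029) (tt N8961 F85030) (tt N11569 (iv F106639)) (tt N8225 F85031) (tt N8958 F85032) (tt N8106 (iv D18788)) (tt N8109 F85033) (tt N11452 (iv F105883)))
theorem Q9746 : ∀ i, i < 9746 → P i := stepQ 9745 Q9745 (allL N9745 (tt N11555 (iv F106549)) (tt N9188 (iv F134992)) (tt N8107 (iv D18789)) (tt N9745 F85034) (tt N9171 F134311) (tt N9745 F85036) (tt N11570 D23755) (tt N9173 F85037) (tt N11566 (iv F106629)) (tt N9745 F85038))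
theorem Q9747 : ∀ i, i < 9747 → P i := stepQ 9746 Q9746 (allL N9746 (tt N11556 (iv F106555)) (tt N8132 F85039) (tt N11570 (iv F106648)) (tt N8108 F85040) (tt N9177 F85041) (tt N11571 D23756) (tt N8107 (iv D18790)) (tt N11572 D23757) (tt N11567 (iv F106633)) (tt N9746 F85042))
theorem Q9748 : ∀ i, i < 9748 → P i := stepQ 9747 Q9747 (allL N9747 (tt N11557 (iv F106560)) (tt N8133 F85043) (tt N9747 F85044) (tt N11571 (iv F106653)) (tt N8112 F85045) (tt N8108 (iv D18791)) (tt N9747 F85046) (tt N11573 D23758) (tt N11574 D23759) (tt N9747 F85047))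
theorem Q9749 : ∀ i, i < 9749 → P i := stepQ 9748 Q9748 (allL N9748 (tt N11558 (iv F106566)) (tt N8134 F85048) (tt N9748 F85049) (tt N11572 (iv F106657)) (tt N8109 F85050) (tt N11573 (iv F106664)) (tt N9176 F85051) (tt N8108 (iv D18792)) (tt N11569 (iv F106641)) (tt N9748 F85052))
theorem Q9750 : ∀ i, i < 9750 → P i := stepQ 9749 Q9749 (allL N9749 (tt N8912 (iv F133555)) (tt N9749 F85053) (tt N8111 F85054) (tt N9749 F85055) (tt N8194 (iv F133698)) (tt N11575 D23760) (tt N8110 (iv D18793)) (tt N11576 D23761) (tt N8233 F85056) (tt N9749 F85057))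
theorem Q9751 : ∀ i, i < 9751 → P i := stepQ 9750 Q9750 (allL N9750 (tt N11559 (iv F106584)) (tt N8135 F85058) (tt N11575 (iv F106671)) (tt N8112 F85059) (tt N11577 D23762) (tt N8111 (iv D18794)) (tt N9750 F85060) (tt N11578 D23763) (tt N11579 D23764) (tt N9750 F85061))
theorem Q9752 : ∀ i, i < 9752 → P i := stepQ 9751 Q9751 (allL N9751 (tt N11560 (iv F106589)) (tt N8136 F85062) (tt N11576 (iv F106676)) (tt N8113 F85063) (tt N11384 (iv F105353)) (tt N11578 (iv F106686)) (tt N9751 F85064) (tt N8111 (iv D18795)) (tt N8235 F85065) (tt N9751 F85066))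
theorem Q9753 : ∀ i, i < 9753 → P i := stepQ 9752 Q9752 (allL N9752 (tt N11561 (iv F106595)) (tt N8137 F85067) (tt N9752 F85068) (tt N11578 (iv F106685)) (tt N11573 (iv F106663)) (tt N8113 F85069) (tt N11580 D23765) (tt N8112 (iv D18796)) (tt N11581 D23766) (tt N9752 F85070))
theorem Q9754 : ∀ i, i < 9754 → P i := stepQ 9753 Q9753 (allL N9753 (tt N11562 (iv F106600)) (tt N8138 F85071) (tt N9753 F85072) (tt N11579 (iv F106689)) (tt N11574 (iv F106668)) (tt N8237 F85073) (tt N9753 F85074) (tt N11581 (iv F106700)) (tt N8112 (iv D18797)) (tt N11582 D23767))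
theorem Q9755 : ∀ i, i < 9755 → P i := stepQ 9754 Q9754 (allL N9754 (tt N8801 F85075) (tt N8242 F85076) (tt N9754 F85077) (tt N11583 D23768) (tt N8114 (iv D18798)) (tt N8221 F85078) (tt N11584 D23769) (tt N8667 F85079) (tt N9754 F85080) (tt N8216 F85081))
theorem Q9756 : ∀ i, i < 9756 → P i := stepQ 9755 Q9755 (allL N9755 (tt N8802 F85082) (tt N8243 F85083) (tt N9755 F85084) (tt N8118 F85085) (tt N11584 (iv F106716)) (tt N8239 F85086) (tt N8114 (iv D18799)) (tt N11585 D23770) (tt N9755 F85087) (tt N8217 F85088))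
theorem Q9757 : ∀ i, i < 9757 → P i := stepQ 9756 Q9756 (allL N9756 (tt N8785 F85089) (tt N8680 F85090) (tt N8139 F85091) (tt N11586 D23771) (tt N8115 (iv D18800)) (tt N8121 F85092) (tt N11587 D23772) (tt N8117 F85093) (tt N9756 F85094) (tt N8773 F85095))
theorem Q9758 : ∀ i, i < 9758 → P i := stepQ 9757 Q9757 (allL N9757 (tt N8786 F85096) (tt N8681 F85097) (tt N8140 F85098) (tt N8668 F85099) (tt N11587 (iv F106737)) (tt N8920 F85100) (tt N8115 (iv D18801)) (tt N11588 D23773) (tt N9757 F85101) (tt N8774 F85102))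
theorem Q9759 : ∀ i, i < 9759 → P i := stepQ 9758 Q9758 (allL N9758 (tt N8783 F85103) (tt N8238 F85104) (tt N8141 F85105) (tt N11589 D23774) (tt N8116 (iv D18802)) (tt N8123 F85106) (tt N11590 D23775) (tt N8773 F85107) (tt N8455 F85108) (tt N8117 F85109))
theorem Q9760 : ∀ i, i < 9760 → P i := stepQ 9759 Q9759 (allL N9759 (tt N8784 F85110) (tt N8239 F85111) (tt N8142 F85112) (tt N8217 F85113) (tt N11590 (iv F106758)) (tt N8243 F85114) (tt N8116 (iv D18803)) (tt N11591 D23776) (tt N8456 F85115) (tt N8118 F85116))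
theorem Q9761 : ∀ i, i < 9761 → P i := stepQ 9760 Q9760 (allL N9760 (tt N8803 F85117) (tt N11563 (iv F106606)) (tt N11592 D23777) (tt N8117 (iv D18804)) (tt N11583 (iv F106708)) (tt N8125 F85118) (tt N11593 D23778) (tt N11586 (iv F106731)) (tt N9760 F85119) (tt N11589 (iv F106754)))
theorem Q9762 : ∀ i, i < 9762 → P i := stepQ 9761 Q9761 (allL N9761 (tt N8804 F85120) (tt N11564 (iv F106613)) (tt N8144 F85121) (tt N11593 (iv F106774)) (tt N8118 F85122) (tt N11594 D23779) (tt N8117 (iv D18805)) (tt N11595 D23780) (tt N9761 F85123) (tt N11590 (iv F106760)))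
theorem Q9763 : ∀ i, i < 9763 → P i := stepQ 9762 Q9762 (allL N9762 (tt N8805 F85124) (tt N11565 (iv F106619)) (tt N8145 F85125) (tt N11585 (iv F106722)) (tt N11595 (iv F106782)) (tt N8246 F85126) (tt N11588 (iv F106745)) (tt N8118 (iv D18806)) (tt N9762 F85127) (tt N11591 (iv F106768)))
theorem Q9764 : ∀ i, i < 9764 → P i := stepQ 9763 Q9763 (allL N9763 (tt N8806 F85128) (tt N8801 F85129) (tt N8146 F85130) (tt N11596 D23781) (tt N8119 (iv D18807)) (tt N8919 F85131) (tt N11597 D23782) (tt N8247 F85132) (tt N9763 F85133) (tt N8609 F85134))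
theorem Q9765 : ∀ i, i < 9765 → P i := stepQ 9764 Q9764 (allL N9764 (tt N8807 F85135) (tt N8802 F85136) (tt N8147 F85137) (tt N8782 F85138) (tt N11597 (iv F106794)) (tt N8122 F85139) (tt N8119 (iv D18808)) (tt N11598 D23783) (tt N9764 F85140) (tt N8610 F85141))
theorem Q9766 : ∀ i, i < 9766 → P i := stepQ 9765 Q9765 (allL N9765 (tt N8781 F85142) (tt N8954 F85143) (tt N8148 F85144) (tt N11599 D23784) (tt N8120 (iv D18809)) (tt N8773 F85145) (tt N11600 D23785) (tt N8123 F85146) (tt N9765 F85147) (tt N8121 F85148))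
theorem Q9767 : ∀ i, i < 9767 → P i := stepQ 9766 Q9766 (allL N9766 (tt N8782 F85149) (tt N8955 F85150) (tt N8149 F85151) (tt N8807 F85152) (tt N11600 (iv F106815)) (tt N8610 F85153) (tt N8120 (iv D18810)) (tt N11601 D23786) (tt N9766 F85154) (tt N8122 F85155))
theorem Q9768 : ∀ i, i < 9768 → P i := stepQ 9767 Q9767 (allL N9767 (tt N8808 F85156) (tt N8956 F85157) (tt N11602 D23787) (tt N8121 (iv D18811)) (tt N8930 F85158) (tt N11586 (iv F106730)) (tt N11603 D23788) (tt N8125 F85159) (tt N8128 F85160) (tt N11599 (iv F106811)))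
theorem Q9769 : ∀ i, i < 9769 → P i := stepQ 9768 Q9768 (allL N9768 (tt N8809 F85161) (tt N8957 F85162) (tt N8151 F85163) (tt N11603 (iv F106833)) (tt N8122 F85164) (tt N11604 D23789) (tt N8121 (iv D18812)) (tt N11605 D23790) (tt N8129 F85165) (tt N11600 (iv F106817)))
theorem Q9770 : ∀ i, i < 9770 → P i := stepQ 9769 Q9769 (allL N9769 (tt N8810 F85166) (tt N8958 F85167) (tt N8152 F85168) (tt N8932 F85169) (tt N11605 (iv F106842)) (tt N11598 (iv F106801)) (tt N8127 F85170) (tt N8122 (iv D18813)) (tt N8130 F85171) (tt N11601 (iv F106825)))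
theorem Q9771 : ∀ i, i < 9771 → P i := stepQ 9770 Q9770 (allL N9770 (tt N8811 F85172) (tt N11450 (iv F105864)) (tt N11606 D23791) (tt N8123 (iv D18814)) (tt N8969 F85173) (tt N11589 (iv F106751)) (tt N11607 D23792) (tt N11599 (iv F106809)) (tt N9770 F85174) (tt N8125 F85175))
theorem Q9772 : ∀ i, i < 9772 → P i := stepQ 9771 Q9771 (allL N9771 (tt N8812 F85176) (tt N11451 (iv F105871)) (tt N8154 F85177) (tt N11607 (iv F106851)) (tt N8124 F85178) (tt N11608 D23793) (tt N8123 (iv D18815)) (tt N11609 D23794) (tt N9771 F85179) (tt N8126 F85180))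
theorem Q9773 : ∀ i, i < 9773 → P i := stepQ 9772 Q9772 (allL N9772 (tt N8813 F85181) (tt N11452 (iv F105877)) (tt N8155 F85182) (tt N8971 F85183) (tt N11609 (iv F106861)) (tt N8254 F85184) (tt N11601 (iv F106823)) (tt N8124 (iv D18816)) (tt N9772 F85185) (tt N8127 F85186))
theorem Q9774 : ∀ i, i < 9774 → P i := stepQ 9773 Q9773 (allL N9773 (tt N8814 F85187) (tt N11610 D23795) (tt N8125 (iv D18817)) (tt N8156 F85188) (tt N11387 (iv F105369)) (tt N11592 (iv F106771)) (tt N11611 D23796) (tt N11602 (iv F106829)) (tt N8131 F85189) (tt N11606 (iv F106849)))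
theorem Q9775 : ∀ i, i < 9775 → P i := stepQ 9774 Q9774 (allL N9774 (tt N8815 F85190) (tt N11567 (iv F106630)) (tt N11611 (iv F106867)) (tt N8126 F85191) (tt N11388 (iv F105377)) (tt N11612 D23797) (tt N8125 (iv D18818)) (tt N11613 D23798) (tt N8132 F85192) (tt N11607 (iv F106854)))
theorem Q9776 : ∀ i, i < 9776 → P i := stepQ 9775 Q9775 (allL N9775 (tt N8816 F85193) (tt N11568 (iv F106634)) (tt N8158 F85194) (tt N11612 (iv F106871)) (tt N8257 F85195) (tt N8126 (iv D18819)) (tt N11594 (iv F106779)) (tt N11614 D23799) (tt N11615 D23800) (tt N11608 (iv F106858)))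
theorem Q9777 : ∀ i, i < 9777 → P i := stepQ 9776 Q9776 (allL N9776 (tt N8817 F85196) (tt N11569 (iv F106637)) (tt N8159 F85197) (tt N11613 (iv F106873)) (tt N8127 F85198) (tt N11614 (iv F106878)) (tt N11605 (iv F106843)) (tt N8126 (iv D18820)) (tt N8134 F85199) (tt N11609 (iv F106863)))
theorem Q9778 : ∀ i, i < 9778 → P i := stepQ 9777 Q9777 (allL N9777 (tt N8818 F85200) (tt N11616 D23801) (tt N8128 (iv D18821)) (tt N8160 F85201) (tt N9164 F85202) (tt N9777 F85203) (tt N11617 D23802) (tt N8131 F85204) (tt N11602 (iv F106830)) (tt N9777 F85205))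
theorem Q9779 : ∀ i, i < 9779 → P i := stepQ 9778 Q9778 (allL N9778 (tt N8819 F85206) (tt N9174 F85207) (tt N11617 (iv F106890)) (tt N8129 F85208) (tt N9165 F85209) (tt N11618 D23803) (tt N8128 (iv D18822)) (tt N11619 D23804) (tt N11603 (iv F106835)) (tt N9778 F85210))
theorem Q9780 : ∀ i, i < 9780 → P i := stepQ 9779 Q9779 (allL N9779 (tt N8820 F85211) (tt N9175 F85212) (tt N8162 F85213) (tt N11618 (iv F106896)) (tt N9779 F85214) (tt N8129 (iv D18823)) (tt N9779 F85215) (tt N11620 D23805) (tt N11621 D23806) (tt N9779 F85216))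
theorem Q9781 : ∀ i, i < 9781 → P i := stepQ 9780 Q9780 (allL N9780 (tt N8821 F85217) (tt N9176 F85218) (tt N8163 F85219) (tt N11619 (iv F106901)) (tt N8130 F85220) (tt N11620 (iv F106909)) (tt N8134 F85221) (tt N8129 (iv D18824)) (tt N11605 (iv F106844)) (tt N9780 F85222))
theorem Q9782 : ∀ i, i < 9782 → P i := stepQ 9781 Q9781 (allL N9781 (tt N11622 D23807) (tt N8131 (iv D18825)) (tt N9188 (iv F134993)) (tt N8164 F85223) (tt N9187 F134326) (tt N9781 F85224) (tt N11623 D23808) (tt N11616 (iv F106887)) (tt N11610 (iv F106865)) (tt N9781 F85225))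
theorem Q9783 : ∀ i, i < 9783 → P i := stepQ 9782 Q9782 (allL N9782 (tt N8823 F85226) (tt N11623 (iv F106920)) (tt N8132 F85227) (tt N8165 F85228) (tt N11391 (iv F105402)) (tt N11624 D23809) (tt N8131 (iv D18826)) (tt N11625 D23810) (tt N11611 (iv F106869)) (tt N9782 F85229))
theorem Q9784 : ∀ i, i < 9784 → P i := stepQ 9783 Q9783 (allL N9783 (tt N8824 F85230) (tt N11571 (iv F106652)) (tt N11624 (iv F106924)) (tt N8133 F85231) (tt N11626 D23811) (tt N8132 (iv D18827)) (tt N9783 F85232) (tt N11627 D23812) (tt N11628 D23813) (tt N9783 F85233))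
theorem Q9785 : ∀ i, i < 9785 → P i := stepQ 9784 Q9784 (allL N9784 (tt N8825 F85234) (tt N11572 (iv F106656)) (tt N11625 (iv F106929)) (tt N8134 F85235) (tt N11393 (iv F105412)) (tt N11627 (iv F106938)) (tt N11619 (iv F106903)) (tt N8132 (iv D18828)) (tt N11613 (iv F106874)) (tt N9784 F85236))
theorem Q9786 : ∀ i, i < 9786 → P i := stepQ 9785 Q9785 (allL N9785 (tt N8826 F85237) (tt N11573 (iv F106661)) (tt N8168 F85238) (tt N11627 (iv F106937)) (tt N8137 F85239) (tt N8134 F85240) (tt N11629 D23814) (tt N8133 (iv D18829)) (tt N11630 D23815) (tt N9785 F85241))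
theorem Q9787 : ∀ i, i < 9787 → P i := stepQ 9786 Q9786 (allL N9786 (tt N8827 F85242) (tt N11574 (iv F106666)) (tt N8169 F85243) (tt N11628 (iv F106941)) (tt N8138 F85244) (tt N11615 (iv F106882)) (tt N9786 F85245) (tt N11630 (iv F106951)) (tt N8133 (iv D18830)) (tt N11631 D23816))
theorem Q9788 : ∀ i, i < 9788 → P i := stepQ 9787 Q9787 (allL N9787 (tt N8828 F85246) (tt N11577 (iv F106681)) (tt N9787 F85247) (tt N11626 (iv F106933)) (tt N8135 (iv D18831)) (tt N11396 (iv F105428)) (tt N9787 F85248) (tt N11632 D23817) (tt N11633 D23818) (tt N9787 F85249))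
theorem Q9789 : ∀ i, i < 9789 → P i := stepQ 9788 Q9788 (allL N9788 (tt N8829 F85250) (tt N11578 (iv F106684)) (tt N9788 F85251) (tt N8137 F85252) (tt N11632 (iv F106959)) (tt N8136 F85253) (tt N11634 D23819) (tt N8135 (iv D18832)) (tt N11635 D23820) (tt N9788 F85254))
theorem Q9790 : ∀ i, i < 9790 → P i := stepQ 9789 Q9789 (allL N9789 (tt N8830 F85255) (tt N11579 (iv F106688)) (tt N9789 F85256) (tt N8138 F85257) (tt N11633 (iv F106963)) (tt N8271 F85258) (tt N9789 F85259) (tt N11635 (iv F106975)) (tt N8135 (iv D18833)) (tt N11636 D23821))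
theorem Q9791 : ∀ i, i < 9791 → P i := stepQ 9790 Q9790 (allL N9790 (tt N8831 F85260) (tt N11580 (iv F106692)) (tt N8170 F85261) (tt N11634 (iv F106967)) (tt N11629 (iv F106945)) (tt N9790 F85262) (tt N8137 (iv D18834)) (tt N9790 F85263) (tt N11637 D23822) (tt N9790 F85264))
theorem Q9792 : ∀ i, i < 9792 → P i := stepQ 9791 Q9791 (allL N9791 (tt N8832 F85265) (tt N11581 (iv F106697)) (tt N8171 F85266) (tt N11635 (iv F106973)) (tt N11630 (iv F106950)) (tt N8273 F85267) (tt N11637 (iv F106984)) (tt N8138 F85268) (tt N8137 (iv D18835)) (tt N11638 D23823))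
theorem Q9793 : ∀ i, i < 9793 → P i := stepQ 9792 Q9792 (allL N9792 (tt N8833 F85269) (tt N11582 (iv F106701)) (tt N8172 F85270) (tt N11636 (iv F106978)) (tt N11631 (iv F106954)) (tt N8274 F85271) (tt N9792 F85272) (tt N11638 (iv F106989)) (tt N9792 F85273) (tt N8138 (iv D18836)))
theorem Q9794 : ∀ i, i < 9794 → P i := stepQ 9793 Q9793 (allL N9793 (tt N8834 F85274) (tt N9793 F85275) (tt N11639 D23824) (tt N8139 (iv D18837)) (tt N9793 F85276) (tt N8150 F85277) (tt N11640 D23825) (tt N8143 F85278) (tt N9793 F85279) (tt N9234 F85280))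
theorem Q9795 : ∀ i, i < 9795 → P i := stepQ 9794 Q9794 (allL N9794 (tt N8835 F85281) (tt N9794 F85282) (tt N11587 (iv F106736)) (tt N11640 (iv F106999)) (tt N8140 F85283) (tt N11641 D23826) (tt N8139 (iv D18838)) (tt N11642 D23827) (tt N9794 F85284) (tt N9235 F85285))
theorem Q9796 : ∀ i, i < 9796 → P i := stepQ 9795 Q9795 (allL N9795 (tt N8836 F85286) (tt N9795 F85287) (tt N11588 (iv F106742)) (tt N9795 F85288) (tt N11642 (iv F107010)) (tt N9401 F85289) (tt N8145 F85290) (tt N8140 (iv D18839)) (tt N9795 F85291) (tt N9236 F85292))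
theorem Q9797 : ∀ i, i < 9797 → P i := stepQ 9796 Q9796 (allL N9796 (tt N8837 F85293) (tt N9796 F85294) (tt N11643 D23828) (tt N8141 (iv D18840)) (tt N9796 F85295) (tt N8153 F85296) (tt N11644 D23829) (tt N9234 F85297) (tt N9237 F85298) (tt N8143 F85299))
theorem Q9798 : ∀ i, i < 9798 → P i := stepQ 9797 Q9797 (allL N9797 (tt N8838 F85300) (tt N9797 F85301) (tt N11590 (iv F106757)) (tt N11644 (iv F107022)) (tt N8142 F85302) (tt N11645 D23830) (tt N8141 (iv D18841)) (tt N11646 D23831) (tt N9238 F85303) (tt N8144 F85304))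
theorem Q9799 : ∀ i, i < 9799 → P i := stepQ 9798 Q9798 (allL N9798 (tt N8839 F85305) (tt N9798 F85306) (tt N11591 (iv F106763)) (tt N9798 F85307) (tt N11646 (iv F107033)) (tt N8282 F85308) (tt N9236 F85309) (tt N8142 (iv D18842)) (tt N9239 F85310) (tt N8145 F85311))
theorem Q9800 : ∀ i, i < 9800 → P i := stepQ 9799 Q9799 (allL N9799 (tt N8840 F85312) (tt N11647 D23832) (tt N8143 (iv D18843)) (tt N11592 (iv F106770)) (tt N9799 F85313) (tt N8156 F85314) (tt N11648 D23833) (tt N11639 (iv F106994)) (tt N9799 F85315) (tt N11643 (iv F107019)))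
theorem Q9801 : ∀ i, i < 9801 → P i := stepQ 9800 Q9800 (allL N9800 (tt N8841 F85316) (tt N9800 F85317) (tt N11648 (iv F107042)) (tt N8144 F85318) (tt N9800 F85319) (tt N11649 D23834) (tt N8143 (iv D18844)) (tt N11650 D23835) (tt N9800 F85320) (tt N11644 (iv F107025)))
theorem Q9802 : ∀ i, i < 9802 → P i := stepQ 9801 Q9801 (allL N9801 (tt N8842 F85321) (tt N9801 F85322) (tt N11594 (iv F106777)) (tt N11649 (iv F107047)) (tt N8285 F85323) (tt N8144 (iv D18845)) (tt N8158 F85324) (tt N11651 D23836) (tt N11652 D23837) (tt N11645 (iv F107030)))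
theorem Q9803 : ∀ i, i < 9803 → P i := stepQ 9802 Q9802 (allL N9802 (tt N8843 F85325) (tt N9802 F85326) (tt N11595 (iv F106781)) (tt N11650 (iv F107051)) (tt N8145 F85327) (tt N11651 (iv F107057)) (tt N11642 (iv F107011)) (tt N8144 (iv D18846)) (tt N9802 F85328) (tt N11646 (iv F107036)))
theorem Q9804 : ∀ i, i < 9804 → P i := stepQ 9803 Q9803 (allL N9803 (tt N8844 F85329) (tt N9803 F85330) (tt N11653 D23838) (tt N8146 (iv D18847)) (tt N8173 F85331) (tt N8543 F135157) (tt N11654 D23839) (tt N8287 F85333) (tt N9803 F85334) (tt N8531 F135158))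
theorem Q9805 : ∀ i, i < 9805 → P i := stepQ 9804 Q9804 (allL N9804 (tt N8845 F85336) (tt N9804 F85337) (tt N11597 (iv F106793)) (tt N11654 (iv F107071)) (tt N8147 F85338) (tt N11655 D23840) (tt N8146 (iv D18848)) (tt N11656 D23841) (tt N9804 F85339) (tt N8627 F85340))
theorem Q9806 : ∀ i, i < 9806 → P i := stepQ 9805 Q9805 (allL N9805 (tt N8846 F85341) (tt N9805 F85342) (tt N11598 (iv F106799)) (tt N8175 F85343) (tt N11656 (iv F107082)) (tt N8152 F85344) (tt N8289 F85345) (tt N8147 (iv D18849)) (tt N9805 F85346) (tt N8628 F85347))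
theorem Q9807 : ∀ i, i < 9807 → P i := stepQ 9806 Q9806 (allL N9806 (tt N8847 F85348) (tt N9806 F85349) (tt N11657 D23842) (tt N8148 (iv D18850)) (tt N8176 F85350) (tt N9234 F85351) (tt N11658 D23843) (tt N8153 F85352) (tt N9806 F85353) (tt N8150 F85354))
theorem Q9808 : ∀ i, i < 9808 → P i := stepQ 9807 Q9807 (allL N9807 (tt N8848 F85355) (tt N9807 F85356) (tt N11600 (iv F106814)) (tt N11658 (iv F107094)) (tt N8149 F85357) (tt N11659 D23844) (tt N8148 (iv D18851)) (tt N11660 D23845) (tt N9807 F85358) (tt N8151 F85359))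
theorem Q9809 : ∀ i, i < 9809 → P i := stepQ 9808 Q9808 (allL N9808 (tt N8849 F85360) (tt N9808 F85361) (tt N11601 (iv F106820)) (tt N8178 F85362) (tt N11660 (iv F107105)) (tt N8628 F85363) (tt N8155 F85364) (tt N8149 (iv D18852)) (tt N9808 F85365) (tt N8152 F85366))
theorem Q9810 : ∀ i, i < 9810 → P i := stepQ 9809 Q9809 (allL N9809 (tt N8850 F85367) (tt N11661 D23846) (tt N8150 (iv D18853)) (tt N11602 (iv F106827)) (tt N8179 F85368) (tt N11639 (iv F106993)) (tt N11662 D23847) (tt N8156 F85369) (tt N8160 F85370) (tt N11657 (iv F107091)))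
theorem Q9811 : ∀ i, i < 9811 → P i := stepQ 9810 Q9810 (allL N9810 (tt N8851 F85371) (tt N9810 F85372) (tt N11662 (iv F107114)) (tt N8151 F85373) (tt N8180 F85374) (tt N11663 D23848) (tt N8150 (iv D18854)) (tt N11664 D23849) (tt N8161 F85375) (tt N11658 (iv F107097)))
theorem Q9812 : ∀ i, i < 9812 → P i := stepQ 9811 Q9811 (allL N9811 (tt N8852 F85376) (tt N9811 F85377) (tt N11604 (iv F106838)) (tt N11663 (iv F107119)) (tt N11655 (iv F107077)) (tt N8151 (iv D18855)) (tt N11641 (iv F107006)) (tt N11665 D23850) (tt N11666 D23851) (tt N11659 (iv F107102)))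
theorem Q9813 : ∀ i, i < 9813 → P i := stepQ 9812 Q9812 (allL N9812 (tt N8853 F85378) (tt N9812 F85379) (tt N11605 (iv F106841)) (tt N11664 (iv F107122)) (tt N8152 F85380) (tt N11665 (iv F107128)) (tt N8159 F85381) (tt N8151 (iv D18856)) (tt N8163 F85382) (tt N11660 (iv F107108)))
theorem Q9814 : ∀ i, i < 9814 → P i := stepQ 9813 Q9813 (allL N9813 (tt N8854 F85383) (tt N11667 D23852) (tt N8153 (iv D18857)) (tt N11606 (iv F106846)) (tt N8183 F85384) (tt N11643 (iv F107016)) (tt N11668 D23853) (tt N11657 (iv F107089)) (tt N9813 F85385) (tt N8156 F85386))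
theorem Q9815 : ∀ i, i < 9815 → P i := stepQ 9814 Q9814 (allL N9814 (tt N8855 F85387) (tt N9814 F85388) (tt N11668 (iv F107137)) (tt N8154 F85389) (tt N8184 F85390) (tt N11669 D23854) (tt N8153 (iv D18858)) (tt N11670 D23855) (tt N9814 F85391) (tt N8157 F85392))
theorem Q9816 : ∀ i, i < 9816 → P i := stepQ 9815 Q9815 (allL N9815 (tt N8856 F85393) (tt N9815 F85394) (tt N11608 (iv F106856)) (tt N11669 (iv F107143)) (tt N8296 F85395) (tt N8154 (iv D18859)) (tt N11645 (iv F107029)) (tt N11671 D23856) (tt N11672 D23857) (tt N8158 F85396))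
theorem Q9817 : ∀ i, i < 9817 → P i := stepQ 9816 Q9816 (allL N9816 (tt N8857 F85397) (tt N9816 F85398) (tt N11609 (iv F106860)) (tt N11670 (iv F107147)) (tt N8155 F85399) (tt N11671 (iv F107154)) (tt N11660 (iv F107106)) (tt N8154 (iv D18860)) (tt N9816 F85400) (tt N8159 F85401))
theorem Q9818 : ∀ i, i < 9818 → P i := stepQ 9817 Q9817 (allL N9817 (tt N11673 D23858) (tt N8156 (iv D18861)) (tt N9817 F85402) (tt N11610 (iv F106864)) (tt N8187 F85403) (tt N11647 (iv F107039)) (tt N11674 D23859) (tt N11661 (iv F107111)) (tt N8164 F85404) (tt N11667 (iv F107135)))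
theorem Q9819 : ∀ i, i < 9819 → P i := stepQ 9818 Q9818 (allL N9818 (tt N8859 F85405) (tt N11674 (iv F107164)) (tt N8157 F85406) (tt N11611 (iv F106868)) (tt N8188 F85407) (tt N11675 D23860) (tt N8156 (iv D18862)) (tt N11676 D23861) (tt N8165 F85408) (tt N11668 (iv F107140)))
theorem Q9820 : ∀ i, i < 9820 → P i := stepQ 9819 Q9819 (allL N9819 (tt N8860 F85409) (tt N9819 F85410) (tt N11675 (iv F107169)) (tt N8158 F85411) (tt N11677 D23862) (tt N8157 (iv D18863)) (tt N11649 (iv F107048)) (tt N11678 D23863) (tt N11679 D23864) (tt N11669 (iv F107144)))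
theorem Q9821 : ∀ i, i < 9821 → P i := stepQ 9820 Q9820 (allL N9820 (tt N8861 F85412) (tt N9820 F85413) (tt N11676 (iv F107171)) (tt N8159 F85414) (tt N8190 F85415) (tt N11678 (iv F107181)) (tt N11664 (iv F107124)) (tt N8157 (iv D18864)) (tt N8167 F85416) (tt N11670 (iv F107150)))
theorem Q9822 : ∀ i, i < 9822 → P i := stepQ 9821 Q9821 (allL N9821 (tt N8862 F85417) (tt N9821 F85418) (tt N11614 (iv F106876)) (tt N11678 (iv F107180)) (tt N8302 F85419) (tt N8159 F85420) (tt N11680 D23865) (tt N8158 (iv D18865)) (tt N11681 D23866) (tt N11671 (iv F107155)))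
theorem Q9823 : ∀ i, i < 9823 → P i := stepQ 9822 Q9822 (allL N9822 (tt N8863 F85421) (tt N9822 F85422) (tt N11615 (iv F106880)) (tt N11679 (iv F107184)) (tt N8303 F85423) (tt N8169 F85424) (tt N11652 (iv F107062)) (tt N11681 (iv F107193)) (tt N8158 (iv D18866)) (tt N11682 D23867))
theorem Q9824 : ∀ i, i < 9824 → P i := stepQ 9823 Q9823 (allL N9823 (tt N11683 D23868) (tt N8160 (iv D18867)) (tt N9823 F85425) (tt N11616 (iv F106884)) (tt N8192 F85426) (tt N9823 F85427) (tt N11396 (iv F135373)) (tt N8164 F85428) (tt N11661 (iv F107112)) (tt N9823 F85429))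
theorem Q9825 : ∀ i, i < 9825 → P i := stepQ 9824 Q9824 (allL N9824 (tt N8865 F85430) (tt N11396 (iv F135372)) (tt N8161 F85431) (tt N11617 (iv F106891)) (tt N8193 F85432) (tt N11577 (iv F135621)) (tt N8160 (iv D18868)) (tt N11684 D23871) (tt N11662 (iv F107116)) (tt N9824 F85433))
theorem Q9826 : ∀ i, i < 9826 → P i := stepQ 9825 Q9825 (allL N9825 (tt N8866 F85434) (tt N9825 F85435) (tt N11577 (iv F135620)) (tt N8162 F85436) (tt N11575 (iv F133709)) (tt N8161 (iv D18869)) (tt N9825 F85437) (tt N11685 D23873) (tt N11686 D23874) (tt N9825 F85438))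
theorem Q9827 : ∀ i, i < 9827 → P i := stepQ 9826 Q9826 (allL N9826 (tt N8867 F85439) (tt N9826 F85440) (tt N11684 (iv F107213)) (tt N8163 F85441) (tt N8195 F85442) (tt N11685 (iv F107227)) (tt N8167 F85443) (tt N8161 (iv D18870)) (tt N11664 (iv F107125)) (tt N9826 F85444))
theorem Q9828 : ∀ i, i < 9828 → P i := stepQ 9827 Q9827 (allL N9827 (tt N8868 F85445) (tt N9827 F85446) (tt N11620 (iv F106907)) (tt N11685 (iv F107226)) (tt N9827 F85447) (tt N8163 F85448) (tt N11687 D23875) (tt N8162 (iv D18871)) (tt N11688 D23876) (tt N9827 F85449))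
theorem Q9829 : ∀ i, i < 9829 → P i := stepQ 9828 Q9828 (allL N9828 (tt N8869 F85450) (tt N9828 F85451) (tt N11621 (iv F106913)) (tt N11686 (iv F107231)) (tt N9828 F85452) (tt N11666 (iv F107131)) (tt N9828 F85453) (tt N11688 (iv F107244)) (tt N8162 (iv D18872)) (tt N11689 D23877))
theorem Q9830 : ∀ i, i < 9830 → P i := stepQ 9829 Q9829 (allL N9829 (tt N8164 (iv D18873)) (tt N8870 F85454) (tt N9829 F85455) (tt N11622 (iv F106917)) (tt N8198 F85456) (tt N9829 F85457) (tt N11690 D23878) (tt N11683 (iv F107202)) (tt N11673 (iv F107163)) (tt N9829 F85458))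
theorem Q9831 : ∀ i, i < 9831 → P i := stepQ 9830 Q9830 (allL N9830 (tt N11690 (iv F107251)) (tt N8165 F85459) (tt N9830 F85460) (tt N11623 (iv F106921)) (tt N8199 F85461) (tt N11691 D23879) (tt N8164 (iv D18874)) (tt N11692 D23880) (tt N11674 (iv F107167)) (tt N9830 F85462))
theorem Q9832 : ∀ i, i < 9832 → P i := stepQ 9831 Q9831 (allL N9831 (tt N8872 F85463) (tt N11691 (iv F107256)) (tt N8166 F85464) (tt N11624 (iv F106925)) (tt N9831 F85465) (tt N8165 (iv D18875)) (tt N9831 F85466) (tt N11693 D23881) (tt N11694 D23882) (tt N9831 F85467))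
theorem Q9833 : ∀ i, i < 9833 → P i := stepQ 9832 Q9832 (allL N9832 (tt N8873 F85468) (tt N11692 (iv F107261)) (tt N8167 F85469) (tt N11625 (iv F106930)) (tt N8200 F85470) (tt N11693 (iv F107268)) (tt N11684 (iv F107215)) (tt N8165 (iv D18876)) (tt N11676 (iv F107173)) (tt N9832 F85471))
theorem Q9834 : ∀ i, i < 9834 → P i := stepQ 9833 Q9833 (allL N9833 (tt N8874 F85472) (tt N9833 F85473) (tt N11693 (iv F107266)) (tt N8168 F85474) (tt N9833 F85475) (tt N8167 F85476) (tt N11695 D23883) (tt N8166 (iv D18877)) (tt N11696 D23884) (tt N9833 F85477))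
theorem Q9835 : ∀ i, i < 9835 → P i := stepQ 9834 Q9834 (allL N9834 (tt N8875 F85478) (tt N9834 F85479) (tt N11694 (iv F107271)) (tt N8169 F85480) (tt N9834 F85481) (tt N11679 (iv F107185)) (tt N9834 F85482) (tt N11696 (iv F107284)) (tt N8166 (iv D18878)) (tt N11697 D23885))
theorem Q9836 : ∀ i, i < 9836 → P i := stepQ 9835 Q9835 (allL N9835 (tt N8876 F85483) (tt N9835 F85484) (tt N11629 (iv F106944)) (tt N11695 (iv F107276)) (tt N8170 F85485) (tt N11687 (iv F107238)) (tt N8168 (iv D18879)) (tt N9835 F85486) (tt N11698 D23886) (tt N9835 F85487))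
theorem Q9837 : ∀ i, i < 9837 → P i := stepQ 9836 Q9836 (allL N9836 (tt N8877 F85488) (tt N9836 F85489) (tt N11630 (iv F106949)) (tt N11696 (iv F107282)) (tt N8171 F85490) (tt N11681 (iv F107192)) (tt N11698 (iv F107294)) (tt N8169 F85491) (tt N8168 (iv D18880)) (tt N11699 D23887))
theorem Q9838 : ∀ i, i < 9838 → P i := stepQ 9837 Q9837 (allL N9837 (tt N8878 F85492) (tt N9837 F85493) (tt N11631 (iv F106953)) (tt N11697 (iv F107287)) (tt N8172 F85494) (tt N11682 (iv F107197)) (tt N9837 F85495) (tt N11699 (iv F107299)) (tt N9837 F85496) (tt N8169 (iv D18881)))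
theorem Q9839 : ∀ i, i < 9839 → P i := stepQ 9838 Q9838 (allL N9838 (tt N8879 F85497) (tt N9838 F85498) (tt N11637 (iv F106983)) (tt N9838 F85499) (tt N11698 (iv F107293)) (tt N11700 D23888) (tt N8171 F85500) (tt N9838 F85501) (tt N8170 (iv D18882)) (tt N11701 D23889))
theorem Q9840 : ∀ i, i < 9840 → P i := stepQ 9839 Q9839 (allL N9839 (tt N8880 F85502) (tt N9839 F85503) (tt N11638 (iv F106987)) (tt N9839 F85504) (tt N11699 (iv F107298)) (tt N8319 F85505) (tt N11701 (iv F107310)) (tt N8172 F85506) (tt N9839 F85507) (tt N8171 (iv D18883)))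
theorem Q9841 : ∀ i, i < 9841 → P i := stepQ 9840 Q9840 (allL N9840 (tt N8881 F85508) (tt N11702 D23890) (tt N8173 (iv D18884)) (tt N8885 F85509) (tt N11653 (iv F107064)) (tt N9840 F85510) (tt N11703 D23891) (tt N8320 F85511) (tt N9840 F85512) (tt N8642 F85513))
theorem Q9842 : ∀ i, i < 9842 → P i := stepQ 9841 Q9841 (allL N9841 (tt N8882 F85514) (tt N9841 F85515) (tt N11703 (iv F107320)) (tt N8174 F85516) (tt N11654 (iv F107072)) (tt N11704 D23892) (tt N8173 (iv D18885)) (tt N11705 D23893) (tt N9841 F85517) (tt N8643 F85518))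
theorem Q9843 : ∀ i, i < 9843 → P i := stepQ 9842 Q9842 (allL N9842 (tt N8883 F85519) (tt N9842 F85520) (tt N8887 F85521) (tt N11704 (iv F107326)) (tt N8181 F85522) (tt N8174 (iv D18886)) (tt N9842 F85523) (tt N11706 D23894) (tt N11707 D23895) (tt N8644 F85524))
theorem Q9844 : ∀ i, i < 9844 → P i := stepQ 9843 Q9843 (allL N9843 (tt N8884 F85525) (tt N9843 F85526) (tt N8888 F85527) (tt N11705 (iv F107331)) (tt N8175 F85528) (tt N11706 (iv F107339)) (tt N8323 F85529) (tt N8174 (iv D18887)) (tt N9843 F85530) (tt N8645 F85531))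
theorem Q9845 : ∀ i, i < 9845 → P i := stepQ 9844 Q9844 (allL N9844 (tt N8885 F85532) (tt N11708 D23896) (tt N8176 (iv D18888)) (tt N8881 F85533) (tt N11657 (iv F107087)) (tt N9844 F85534) (tt N11709 D23897) (tt N8183 F85535) (tt N9844 F85536) (tt N8179 F85537))
theorem Q9846 : ∀ i, i < 9846 → P i := stepQ 9845 Q9845 (allL N9845 (tt N8886 F85538) (tt N9845 F85539) (tt N11709 (iv F107354)) (tt N8177 F85540) (tt N11658 (iv F107095)) (tt N11710 D23898) (tt N8176 (iv D18889)) (tt N11711 D23899) (tt N9845 F85541) (tt N8180 F85542))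
theorem Q9847 : ∀ i, i < 9847 → P i := stepQ 9846 Q9846 (allL N9846 (tt N8887 F85543) (tt N9846 F85544) (tt N8883 F85545) (tt N11710 (iv F107360)) (tt N8644 F85546) (tt N8177 (iv D18890)) (tt N9846 F85547) (tt N11712 D23900) (tt N11713 D23901) (tt N8181 F85548))
theorem Q9848 : ∀ i, i < 9848 → P i := stepQ 9847 Q9847 (allL N9847 (tt N8888 F85549) (tt N9847 F85550) (tt N8884 F85551) (tt N11711 (iv F107365)) (tt N8178 F85552) (tt N11712 (iv F107373)) (tt N8186 F85553) (tt N8177 (iv D18891)) (tt N9847 F85554) (tt N8182 F85555))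
theorem Q9849 : ∀ i, i < 9849 → P i := stepQ 9848 Q9848 (allL N9848 (tt N11714 D23902) (tt N8179 (iv D18892)) (tt N9848 F85556) (tt N11382 (iv F134969)) (tt N11661 (iv F107110)) (tt N9848 F85557) (tt N11398 (iv F135377)) (tt N8187 F85558) (tt N8192 F85559) (tt N11708 (iv F107352)))
theorem Q9850 : ∀ i, i < 9850 → P i := stepQ 9849 Q9849 (allL N9849 (tt N8890 F85560) (tt N11398 (iv F135376)) (tt N8180 F85561) (tt N11386 (iv F135386)) (tt N11662 (iv F107115)) (tt N11446 (iv F135611)) (tt N8179 (iv D18893)) (tt N11715 D23905) (tt N8193 F85562) (tt N11709 (iv F107357)))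
theorem Q9851 : ∀ i, i < 9851 → P i := stepQ 9850 Q9850 (allL N9850 (tt N8891 F85563) (tt N9850 F85564) (tt N11446 (iv F135610)) (tt N8181 F85565) (tt N11716 D23906) (tt N8180 (iv D18894)) (tt N9850 F85566) (tt N11717 D23907) (tt N11442 (iv F133694)) (tt N11710 (iv F107362)))
theorem Q9852 : ∀ i, i < 9852 → P i := stepQ 9851 Q9851 (allL N9851 (tt N8892 F85567) (tt N9851 F85568) (tt N11715 (iv F107393)) (tt N8182 F85569) (tt N11664 (iv F107123)) (tt N11717 (iv F107403)) (tt N8190 F85570) (tt N8180 (iv D18895)) (tt N8195 F85571) (tt N11711 (iv F107368)))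
theorem Q9853 : ∀ i, i < 9853 → P i := stepQ 9852 Q9852 (allL N9852 (tt N8893 F85572) (tt N9852 F85573) (tt N11413 (iv F105565)) (tt N11717 (iv F107402)) (tt N11706 (iv F107338)) (tt N8182 F85574) (tt N11718 D23909) (tt N8181 (iv D18896)) (tt N11719 D23910) (tt N11712 (iv F107374)))
theorem Q9854 : ∀ i, i < 9854 → P i := stepQ 9853 Q9853 (allL N9853 (tt N8894 F85575) (tt N9853 F85576) (tt N11354 (iv F135100)) (tt N11442 (iv F133692)) (tt N11707 (iv F107344)) (tt N8197 F85577) (tt N9853 F85578) (tt N11719 (iv F107418)) (tt N8181 (iv D18897)) (tt N11367 (iv F133687)))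
theorem Q9855 : ∀ i, i < 9855 → P i := stepQ 9854 Q9854 (allL N9854 (tt N11720 D23912) (tt N8183 (iv D18898)) (tt N9854 F85579) (tt N9056 F85580) (tt N11667 (iv F107133)) (tt N9854 F85581) (tt N11721 D23913) (tt N11708 (iv F107350)) (tt N9854 F85582) (tt N8187 F85583))
theorem Q9856 : ∀ i, i < 9856 → P i := stepQ 9855 Q9855 (allL N9855 (tt N8896 F85584) (tt N11721 (iv F107430)) (tt N8184 F85585) (tt N9057 F85586) (tt N11668 (iv F107138)) (tt N11722 D23914) (tt N8183 (iv D18899)) (tt N11723 D23915) (tt N9855 F85587) (tt N8188 F85588))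
theorem Q9857 : ∀ i, i < 9857 → P i := stepQ 9856 Q9856 (allL N9856 (tt N8897 F85589) (tt N9856 F85590) (tt N11722 (iv F107436)) (tt N8185 F85591) (tt N11724 D23916) (tt N8184 (iv D18900)) (tt N9856 F85592) (tt N11725 D23917) (tt N11726 D23918) (tt N8189 F85593))
theorem Q9858 : ∀ i, i < 9858 → P i := stepQ 9857 Q9857 (allL N9857 (tt N8898 F85594) (tt N9857 F85595) (tt N11723 (iv F107441)) (tt N8186 F85596) (tt N11670 (iv F107148)) (tt N11725 (iv F107453)) (tt N11711 (iv F107366)) (tt N8184 (iv D18901)) (tt N9857 F85597) (tt N8190 F85598))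
theorem Q9859 : ∀ i, i < 9859 → P i := stepQ 9858 Q9858 (allL N9858 (tt N8899 F85599) (tt N9858 F85600) (tt N9060 F85601) (tt N11725 (iv F107452)) (tt N8333 F85602) (tt N8186 F85603) (tt N11727 D23919) (tt N8185 (iv D18902)) (tt N11728 D23920) (tt N8191 F85604))
theorem Q9860 : ∀ i, i < 9860 → P i := stepQ 9859 Q9859 (allL N9859 (tt N8900 F85605) (tt N9859 F85606) (tt N9061 F85607) (tt N11726 (iv F107457)) (tt N8334 F85608) (tt N9859 F85609) (tt N9859 F85610) (tt N11728 (iv F107472)) (tt N8185 (iv D18903)) (tt N9859 F85611))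
theorem Q9861 : ∀ i, i < 9861 → P i := stepQ 9860 Q9860 (allL N9860 (tt N8187 (iv D18904)) (tt N8901 F85612) (tt N9860 F85613) (tt N11414 (iv F105577)) (tt N11673 (iv F107162)) (tt N9860 F85614) (tt N11729 D23921) (tt N11714 (iv F107384)) (tt N8198 F85615) (tt N11720 (iv F107429)))
theorem Q9862 : ∀ i, i < 9862 → P i := stepQ 9861 Q9861 (allL N9861 (tt N11729 (iv F107474)) (tt N8188 F85616) (tt N9861 F85617) (tt N11415 (iv F105583)) (tt N11674 (iv F107166)) (tt N11730 D23922) (tt N8187 (iv D18905)) (tt N11731 D23923) (tt N8199 F85618) (tt N11721 (iv F107434)))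
theorem Q9863 : ∀ i, i < 9863 → P i := stepQ 9862 Q9862 (allL N9862 (tt N8903 F85619) (tt N11730 (iv F107478)) (tt N8189 F85620) (tt N11416 (iv F105588)) (tt N11732 D23924) (tt N8188 (iv D18906)) (tt N9862 F85621) (tt N11733 D23925) (tt N9862 F85622) (tt N11722 (iv F107439)))
theorem Q9864 : ∀ i, i < 9864 → P i := stepQ 9863 Q9863 (allL N9863 (tt N8904 F85623) (tt N11731 (iv F107482)) (tt N8190 F85624) (tt N11417 (iv F105594)) (tt N11676 (iv F107172)) (tt N11733 (iv F107491)) (tt N11715 (iv F107394)) (tt N8188 (iv D18907)) (tt N8200 F85625) (tt N11723 (iv F107444)))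
theorem Q9865 : ∀ i, i < 9865 → P i := stepQ 9864 Q9864 (allL N9864 (tt N8905 F85626) (tt N9864 F85627) (tt N11732 (iv F107486)) (tt N8339 F85628) (tt N8189 (iv D18908)) (tt N11677 (iv F107177)) (tt N9864 F85629) (tt N11734 D23926) (tt N9864 F85630) (tt N11724 (iv F107449)))
theorem Q9866 : ∀ i, i < 9866 → P i := stepQ 9865 Q9865 (allL N9865 (tt N8906 F85631) (tt N9865 F85632) (tt N11733 (iv F107490)) (tt N8191 F85633) (tt N11734 (iv F107496)) (tt N8190 F85634) (tt N11735 D23927) (tt N8189 (iv D18909)) (tt N9865 F85635) (tt N11725 (iv F107454)))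
theorem Q9867 : ∀ i, i < 9867 → P i := stepQ 9866 Q9866 (allL N9866 (tt N8907 F85636) (tt N9866 F85637) (tt N11420 (iv F105611)) (tt N11735 (iv F107500)) (tt N8341 F85638) (tt N11718 (iv F107413)) (tt N8191 (iv D18910)) (tt N9866 F85639) (tt N9866 F85640) (tt N11727 (iv F107466)))
theorem Q9868 : ∀ i, i < 9868 → P i := stepQ 9867 Q9867 (allL N9867 (tt N8192 (iv D18911)) (tt N8908 F85641) (tt N9867 F85642) (tt N8594 F134452) (tt N11683 (iv F107200)) (tt N8201 F85643) (tt N8621 (iv F134924)) (tt N8198 F85644) (tt N11714 (iv F107385)) (tt N9867 F85645))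
theorem Q9869 : ∀ i, i < 9869 → P i := stepQ 9868 Q9868 (allL N9868 (tt N8911 F85653) (tt N11397 (iv F135374)) (tt N8195 F85654) (tt N11385 (iv F135382)) (tt N11684 (iv F107214)) (tt N11384 (iv F134426)) (tt N8200 F85655) (tt N8193 (iv D18914)) (tt N11715 (iv F107395)) (tt N9868 F85656))
theorem Q9870 : ∀ i, i < 9870 → P i := stepQ 9869 Q9869 (allL N9869 (tt N8913 F85663) (tt N9869 F85664) (tt N11384 (iv F134425)) (tt N8196 F85665) (tt N11576 (iv F133707)) (tt N8195 F85666) (tt N9869 F85667) (tt N8194 (iv D18916)) (tt N11443 (iv F133697)) (tt N9869 F85668))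
theorem Q9871 : ∀ i, i < 9871 → P i := stepQ 9870 Q9870 (allL N9870 (tt N8915 F85675) (tt N9870 F85676) (tt N11355 (iv F135104)) (tt N11443 (iv F133696)) (tt N9870 F85677) (tt N11719 (iv F107417)) (tt N9870 F85678) (tt N8197 F85679) (tt N8196 (iv D18918)) (tt N11368 (iv F133689)))
theorem Q9872 : ∀ i, i < 9872 → P i := stepQ 9871 Q9871 (allL N9871 (tt N8199 F85686) (tt N8917 F85687) (tt N9871 F85688) (tt N11421 (iv F105669)) (tt N11690 (iv F107254)) (tt N9871 F85689) (tt N8198 (iv D18920)) (tt N11736 D23937) (tt N11729 (iv F107477)) (tt N9871 F85690))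
theorem Q9873 : ∀ i, i < 9873 → P i := stepQ 9872 Q9872 (allL N9872 (tt N11736 (iv F107551)) (tt N8200 F85691) (tt N9872 F85692) (tt N11399 (iv F135033)) (tt N11692 (iv F107263)) (tt N9872 F85693) (tt N11397 (iv F135375)) (tt N8199 (iv D18921)) (tt N11731 (iv F107484)) (tt N9872 F85694))
theorem Q9874 : ∀ i, i < 9874 → P i := stepQ 9873 Q9873 (allL N9873 (tt N8216 F85718) (tt N8609 F85719) (tt N9873 F85720) (tt N11737 D23942) (tt N8202 (iv D18926)) (tt N8205 F85721) (tt N11738 D23943) (tt N8599 F85722) (tt N8445 F85723) (tt N8801 F85724))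
theorem Q9875 : ∀ i, i < 9875 → P i := stepQ 9874 Q9874 (allL N9874 (tt N8217 F85725) (tt N8610 F85726) (tt N9874 F85727) (tt N8784 F85728) (tt N11738 (iv F107595)) (tt N8955 F85729) (tt N8202 (iv D18927)) (tt N11739 D23944) (tt N8446 F85730) (tt N8802 F85731))
theorem Q9876 : ∀ i, i < 9876 → P i := stepQ 9875 Q9875 (allL N9875 (tt N8219 F85732) (tt N8607 F85733) (tt N9875 F85734) (tt N11740 D23945) (tt N8203 (iv D18928)) (tt N8599 F85735) (tt N11741 D23946) (tt N8205 F85736) (tt N8207 F85737) (tt N8659 F85738))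
theorem Q9877 : ∀ i, i < 9877 → P i := stepQ 9876 Q9876 (allL N9876 (tt N8220 F85739) (tt N8608 F85740) (tt N9876 F85741) (tt N8920 F85742) (tt N11741 (iv F107616)) (tt N8668 F85743) (tt N8203 (iv D18929)) (tt N11742 D23947) (tt N8208 F85744) (tt N8660 F85745))
theorem Q9878 : ∀ i, i < 9878 → P i := stepQ 9877 Q9877 (allL N9877 (tt N8221 F85746) (tt N8919 F85747) (tt N9877 F85748) (tt N11743 D23948) (tt N8204 (iv D18930)) (tt N8801 F85749) (tt N11744 D23949) (tt N8659 F85750) (tt N8346 F85751) (tt N8205 F85752))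
theorem Q9879 : ∀ i, i < 9879 → P i := stepQ 9878 Q9878 (allL N9878 (tt N8222 F85753) (tt N8920 F85754) (tt N9878 F85755) (tt N8608 F85756) (tt N11744 (iv F107637)) (tt N8681 F85757) (tt N8204 (iv D18931)) (tt N11745 D23950) (tt N8347 F85758) (tt N8206 F85759))
theorem Q9880 : ∀ i, i < 9880 → P i := stepQ 9879 Q9879 (allL N9879 (tt N8223 F85760) (tt N8921 F85761) (tt N11746 D23951) (tt N8205 (iv D18932)) (tt N11422 (iv F105714)) (tt N11737 (iv F107588)) (tt N11747 D23952) (tt N11740 (iv F107610)) (tt N8209 F85762) (tt N11743 (iv F107633)))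
theorem Q9881 : ∀ i, i < 9881 → P i := stepQ 9880 Q9880 (allL N9880 (tt N8224 F85763) (tt N8922 F85764) (tt N9880 F85765) (tt N11747 (iv F107653)) (tt N8206 F85766) (tt N11748 D23953) (tt N8205 (iv D18933)) (tt N11749 D23954) (tt N8210 F85767) (tt N11744 (iv F107639)))
theorem Q9882 : ∀ i, i < 9882 → P i := stepQ 9881 Q9881 (allL N9881 (tt N8225 F85768) (tt N8923 F85769) (tt N9881 F85770) (tt N11424 (iv F105728)) (tt N11749 (iv F107661)) (tt N11554 (iv F106545)) (tt N11742 (iv F107624)) (tt N8206 (iv D18934)) (tt N8211 F85771) (tt N11745 (iv F107647)))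
theorem Q9883 : ∀ i, i < 9883 → P i := stepQ 9882 Q9882 (allL N9882 (tt N8226 F85772) (tt N8924 F85773) (tt N11750 D23955) (tt N8207 (iv D18935)) (tt N9079 F85774) (tt N8451 F85775) (tt N11751 D23956) (tt N8209 F85776) (tt N11740 (iv F107611)) (tt N8351 F85777))
theorem Q9884 : ∀ i, i < 9884 → P i := stepQ 9883 Q9883 (allL N9883 (tt N8227 F85778) (tt N8925 F85779) (tt N9883 F85780) (tt N11751 (iv F107671)) (tt N8208 F85781) (tt N11752 D23957) (tt N8207 (iv D18936)) (tt N11753 D23958) (tt N11741 (iv F107617)) (tt N8352 F85782))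
theorem Q9885 : ∀ i, i < 9885 → P i := stepQ 9884 Q9884 (allL N9884 (tt N8228 F85783) (tt N8926 F85784) (tt N9884 F85785) (tt N9081 F85786) (tt N11753 (iv F107683)) (tt N9884 F85787) (tt N8211 F85788) (tt N8208 (iv D18937)) (tt N11742 (iv F107625)) (tt N8353 F85789))
theorem Q9886 : ∀ i, i < 9886 → P i := stepQ 9885 Q9885 (allL N9885 (tt N8229 F85790) (tt N11754 D23959) (tt N8209 (iv D18938)) (tt N9885 F85791) (tt N11425 (iv F105735)) (tt N8453 F85792) (tt N11755 D23960) (tt N11750 (iv F107667)) (tt N11746 (iv F107650)) (tt N8354 F85793))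
theorem Q9887 : ∀ i, i < 9887 → P i := stepQ 9886 Q9886 (allL N9886 (tt N8230 F85794) (tt N8927 F85795) (tt N11755 (iv F107691)) (tt N8210 F85796) (tt N11426 (iv F105742)) (tt N11756 D23961) (tt N8209 (iv D18939)) (tt N11757 D23962) (tt N11747 (iv F107654)) (tt N8355 F85797))
theorem Q9888 : ∀ i, i < 9888 → P i := stepQ 9887 Q9887 (allL N9887 (tt N8231 F85798) (tt N8305 (iv F133311)) (tt N9887 F85800) (tt N11756 (iv F107696)) (tt N8213 F85801) (tt N8210 (iv D18940)) (tt N8304 F132942) (tt N11758 D23963) (tt N11759 D23964) (tt N8356 F85803))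
theorem Q9889 : ∀ i, i < 9889 → P i := stepQ 9888 Q9888 (allL N9888 (tt N8232 F85804) (tt N8928 F85805) (tt N9888 F85806) (tt N11757 (iv F107701)) (tt N8211 F85807) (tt N11758 (iv F107707)) (tt N11753 (iv F107684)) (tt N8210 (iv D18941)) (tt N11749 (iv F107662)) (tt N8357 F85808))
theorem Q9890 : ∀ i, i < 9890 → P i := stepQ 9889 Q9889 (allL N9889 (tt N8235 F85824) (tt N8929 F85825) (tt N9160 (iv F133448)) (tt N8214 F85826) (tt N11430 (iv F105774)) (tt N9130 (iv F133442)) (tt N9889 F85827) (tt N8212 (iv D18945)) (tt N11560 (iv F106593)) (tt N8358 F85828))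
theorem Q9891 : ∀ i, i < 9891 → P i := stepQ 9890 Q9890 (allL N9890 (tt N8236 F85829) (tt N8342 (iv F133335)) (tt N9890 F85831) (tt N9130 (iv F133441)) (tt N11758 (iv F107706)) (tt N8214 F85832) (tt N8345 F132964) (tt N8213 (iv D18946)) (tt N11760 D23972) (tt N8359 F85833))
theorem Q9892 : ∀ i, i < 9892 → P i := stepQ 9891 Q9891 (allL N9891 (tt N8237 F85834) (tt N8325 (iv F133327)) (tt N9891 F85836) (tt N9066 (iv F133319)) (tt N11759 (iv F107712)) (tt N11562 (iv F106603)) (tt N8324 F132965) (tt N11760 (iv F107755)) (tt N8213 (iv D18947)) (tt N8721 (iv F133277)))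
theorem Q9893 : ∀ i, i < 9893 → P i := stepQ 9892 Q9892 (allL N9892 (tt N8599 F85838) (tt N8240 F85839) (tt N9892 F85840) (tt N11761 D23974) (tt N8215 (iv D18948)) (tt N8219 F85841) (tt N11762 D23975) (tt N8216 F85842) (tt N8457 F85843) (tt N8667 F85844))
theorem Q9894 : ∀ i, i < 9894 → P i := stepQ 9893 Q9893 (allL N9893 (tt N8600 F85845) (tt N8241 F85846) (tt N9893 F85847) (tt N8774 F85848) (tt N11762 (iv F107771)) (tt N8660 F85849) (tt N8215 (iv D18949)) (tt N11763 D23976) (tt N8458 F85850) (tt N8668 F85851))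
theorem Q9895 : ∀ i, i < 9895 → P i := stepQ 9894 Q9894 (allL N9894 (tt N11737 (iv F107585)) (tt N8244 F85852) (tt N11764 D23977) (tt N8216 (iv D18950)) (tt N11589 (iv F106750)) (tt N8223 F85853) (tt N11765 D23978) (tt N11761 (iv F107765)) (tt N8459 F85854) (tt N11583 (iv F106712)))
theorem Q9896 : ∀ i, i < 9896 → P i := stepQ 9895 Q9895 (allL N9895 (tt N11738 (iv F107592)) (tt N8245 F85855) (tt N9895 F85856) (tt N11765 (iv F107786)) (tt N8217 F85857) (tt N11766 D23979) (tt N8216 (iv D18951)) (tt N11767 D23980) (tt N8460 F85858) (tt N11584 (iv F106718)))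
theorem Q9897 : ∀ i, i < 9897 → P i := stepQ 9896 Q9896 (allL N9896 (tt N11739 (iv F107598)) (tt N8246 F85859) (tt N9896 F85860) (tt N11591 (iv F106764)) (tt N11767 (iv F107793)) (tt N11565 (iv F106622)) (tt N11763 (iv F107779)) (tt N8217 (iv D18952)) (tt N8461 F85861) (tt N11585 (iv F106726)))
theorem Q9898 : ∀ i, i < 9898 → P i := stepQ 9897 Q9897 (allL N9897 (tt N8667 F85862) (tt N8247 F85863) (tt N9897 F85864) (tt N11768 D23981) (tt N8218 (iv D18953)) (tt N8659 F85865) (tt N11769 D23982) (tt N8801 F85866) (tt N9897 F85867) (tt N8599 F85868))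
theorem Q9899 : ∀ i, i < 9899 → P i := stepQ 9898 Q9898 (allL N9898 (tt N8668 F85869) (tt N8248 F85870) (tt N9898 F85871) (tt N8786 F85872) (tt N11769 (iv F107805)) (tt N8220 F85873) (tt N8218 (iv D18954)) (tt N11770 D23983) (tt N9898 F85874) (tt N8600 F85875))
theorem Q9900 : ∀ i, i < 9900 → P i := stepQ 9899 Q9899 (allL N9899 (tt N11740 (iv F107606)) (tt N8249 F85876) (tt N11771 D23984) (tt N8219 (iv D18955)) (tt N8936 F85877) (tt N11761 (iv F107764)) (tt N11772 D23985) (tt N8223 F85878) (tt N8226 F85879) (tt N8669 F85880))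
theorem Q9901 : ∀ i, i < 9901 → P i := stepQ 9900 Q9900 (allL N9900 (tt N11741 (iv F107613)) (tt N8250 F85881) (tt N9900 F85882) (tt N11772 (iv F107822)) (tt N8220 F85883) (tt N11773 D23986) (tt N8219 (iv D18956)) (tt N11774 D23987) (tt N8227 F85884) (tt N8670 F85885))
theorem Q9902 : ∀ i, i < 9902 → P i := stepQ 9901 Q9901 (allL N9901 (tt N11742 (iv F107619)) (tt N8251 F85886) (tt N9901 F85887) (tt N8938 F85888) (tt N11774 (iv F107831)) (tt N11770 (iv F107812)) (tt N8225 F85889) (tt N8220 (iv D18957)) (tt N8228 F85890) (tt N8671 F85891))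
theorem Q9903 : ∀ i, i < 9903 → P i := stepQ 9902 Q9902 (allL N9902 (tt N11743 (iv F107627)) (tt N8252 F85892) (tt N11775 D23988) (tt N8221 (iv D18958)) (tt N8933 F85893) (tt N11583 (iv F106709)) (tt N11776 D23989) (tt N8669 F85894) (tt N8360 F85895) (tt N8223 F85896))
theorem Q9904 : ∀ i, i < 9904 → P i := stepQ 9903 Q9903 (allL N9903 (tt N11744 (iv F107634)) (tt N8253 F85897) (tt N9903 F85898) (tt N11776 (iv F107841)) (tt N8222 F85899) (tt N11777 D23990) (tt N8221 (iv D18959)) (tt N11778 D23991) (tt N8361 F85900) (tt N8224 F85901))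
theorem Q9905 : ∀ i, i < 9905 → P i := stepQ 9904 Q9904 (allL N9904 (tt N11745 (iv F107640)) (tt N8254 F85902) (tt N9904 F85903) (tt N8935 F85904) (tt N11778 (iv F107850)) (tt N11452 (iv F105880)) (tt N8671 F85905) (tt N8222 (iv D18960)) (tt N8362 F85906) (tt N8225 F85907))
theorem Q9906 : ∀ i, i < 9906 → P i := stepQ 9905 Q9905 (allL N9905 (tt N11746 (iv F107648)) (tt N11779 D23992) (tt N8223 (iv D18961)) (tt N9905 F85908) (tt N11433 (iv F105785)) (tt N11764 (iv F107783)) (tt N11780 D23993) (tt N11771 (iv F107818)) (tt N8229 F85909) (tt N11775 (iv F107839)))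
theorem Q9907 : ∀ i, i < 9907 → P i := stepQ 9906 Q9906 (allL N9906 (tt N11747 (iv F107651)) (tt N8256 F85910) (tt N11780 (iv F107857)) (tt N8224 F85911) (tt N11434 (iv F105792)) (tt N11781 D23994) (tt N8223 (iv D18962)) (tt N11782 D23995) (tt N8230 F85912) (tt N11776 (iv F107844)))
theorem Q9908 : ∀ i, i < 9908 → P i := stepQ 9907 Q9907 (allL N9907 (tt N11748 (iv F107655)) (tt N8257 F85913) (tt N9907 F85914) (tt N11781 (iv F107861)) (tt N11568 (iv F106636)) (tt N8224 (iv D18963)) (tt N11766 (iv F107790)) (tt N11783 D23996) (tt N11784 D23997) (tt N11777 (iv F107847)))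
theorem Q9909 : ∀ i, i < 9909 → P i := stepQ 9908 Q9908 (allL N9908 (tt N11749 (iv F107658)) (tt N8258 F85915) (tt N9908 F85916) (tt N11782 (iv F107863)) (tt N8225 F85917) (tt N11783 (iv F107867)) (tt N11774 (iv F107832)) (tt N8224 (iv D18964)) (tt N8232 F85918) (tt N11778 (iv F107853)))
theorem Q9910 : ∀ i, i < 9910 → P i := stepQ 9909 Q9909 (allL N9909 (tt N11750 (iv F107663)) (tt N11785 D23998) (tt N8226 (iv D18965)) (tt N9909 F85919) (tt N9087 F85920) (tt N8471 F85921) (tt N11786 D23999) (tt N8229 F85922) (tt N11771 (iv F107819)) (tt N8367 F85923))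
theorem Q9911 : ∀ i, i < 9911 → P i := stepQ 9910 Q9910 (allL N9910 (tt N11751 (iv F107669)) (tt N8260 F85924) (tt N11786 (iv F107877)) (tt N8227 F85925) (tt N9088 F85926) (tt N11787 D24000) (tt N8226 (iv D18966)) (tt N11788 D24001) (tt N11772 (iv F107824)) (tt N8368 F85927))
theorem Q9912 : ∀ i, i < 9912 → P i := stepQ 9911 Q9911 (allL N9911 (tt N11752 (iv F107674)) (tt N8261 F85928) (tt N9911 F85929) (tt N11787 (iv F107882)) (tt N9911 F85930) (tt N8227 (iv D18967)) (tt N8473 F85931) (tt N11789 D24002) (tt N11790 D24003) (tt N8369 F85932))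
theorem Q9913 : ∀ i, i < 9913 → P i := stepQ 9912 Q9912 (allL N9912 (tt N11753 (iv F107680)) (tt N8262 F85933) (tt N9912 F85934) (tt N11788 (iv F107886)) (tt N8228 F85935) (tt N11789 (iv F107893)) (tt N8232 F85936) (tt N8227 (iv D18968)) (tt N11774 (iv F107833)) (tt N8370 F85937))
theorem Q9914 : ∀ i, i < 9914 → P i := stepQ 9913 Q9913 (allL N9913 (tt N11791 D24004) (tt N8229 (iv D18969)) (tt N8263 F85938) (tt N9913 F85939) (tt N9227 F134370) (tt N8475 F85940) (tt N11792 D24005) (tt N11785 (iv F107875)) (tt N11779 (iv F107856)) (tt N8371 F85941))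
theorem Q9915 : ∀ i, i < 9915 → P i := stepQ 9914 Q9914 (allL N9914 (tt N11755 (iv F107690)) (tt N11792 (iv F107903)) (tt N8230 F85942) (tt N9914 F85943) (tt N11437 (iv F105814)) (tt N11793 D24006) (tt N8229 (iv D18970)) (tt N11794 D24007) (tt N11780 (iv F107859)) (tt N8372 F85944))
theorem Q9916 : ∀ i, i < 9916 → P i := stepQ 9915 Q9915 (allL N9915 (tt N11756 (iv F107694)) (tt N8265 F85945) (tt N11793 (iv F107907)) (tt N8231 F85946) (tt N11795 D24008) (tt N8230 (iv D18971)) (tt N8477 F85947) (tt N11796 D24009) (tt N11797 D24010) (tt N8373 F85948))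
theorem Q9917 : ∀ i, i < 9917 → P i := stepQ 9916 Q9916 (allL N9916 (tt N11757 (iv F107699)) (tt N8266 F85949) (tt N11794 (iv F107911)) (tt N8232 F85950) (tt N11439 (iv F105822)) (tt N11796 (iv F107920)) (tt N11788 (iv F107888)) (tt N8230 (iv D18972)) (tt N11782 (iv F107864)) (tt N8374 F85951))
theorem Q9918 : ∀ i, i < 9918 → P i := stepQ 9917 Q9917 (allL N9917 (tt N11758 (iv F107703)) (tt N8267 F85952) (tt N9917 F85953) (tt N11796 (iv F107919)) (tt N8236 F85954) (tt N8232 F85955) (tt N11798 D24011) (tt N8231 (iv D18973)) (tt N11799 D24012) (tt N8375 F85956))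
theorem Q9919 : ∀ i, i < 9919 → P i := stepQ 9918 Q9918 (allL N9918 (tt N11759 (iv F107709)) (tt N8268 F85957) (tt N9918 F85958) (tt N11797 (iv F107923)) (tt N8237 F85959) (tt N11784 (iv F107870)) (tt N8479 F85960) (tt N11799 (iv F107933)) (tt N8231 (iv D18974)) (tt N11800 D24013))
theorem Q9920 : ∀ i, i < 9920 → P i := stepQ 9919 Q9919 (allL N9919 (tt N9160 (iv F133447)) (tt N9919 F85966) (tt N8235 F85967) (tt N9919 F85968) (tt N11443 (iv F105840)) (tt N8437 (iv F133711)) (tt N9919 F85969) (tt N8233 (iv D18976)) (tt N11576 (iv F106679)) (tt N8377 F85970))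
theorem Q9921 : ∀ i, i < 9921 → P i := stepQ 9920 Q9920 (allL N9920 (tt N9131 (iv F133421)) (tt N8269 F85971) (tt N8590 F132980) (tt N11795 (iv F107915)) (tt N8234 (iv D18977)) (tt N11444 (iv F105844)) (tt N8480 F85972) (tt N11801 D24017) (tt N11802 D24018) (tt N8378 F85973))
theorem Q9922 : ∀ i, i < 9922 → P i := stepQ 9921 Q9921 (allL N9921 (tt N9130 (iv F133440)) (tt N8270 F85974) (tt N8437 F132978) (tt N8236 F85975) (tt N11801 (iv F107955)) (tt N8235 F85976) (tt N8410 F132979) (tt N8234 (iv D18978)) (tt N11803 D24020) (tt N8379 F85977))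
theorem Q9923 : ∀ i, i < 9923 → P i := stepQ 9922 Q9922 (allL N9922 (tt N9066 (iv F133318)) (tt N8271 F85978) (tt N8553 F132981) (tt N8237 F85979) (tt N11802 (iv F107958)) (tt N11579 (iv F106690)) (tt N8481 F85980) (tt N11803 (iv F107967)) (tt N8234 (iv D18979)) (tt N8518 F132982))
theorem Q9924 : ∀ i, i < 9924 → P i := stepQ 9923 Q9923 (allL N9923 (tt N8345 F132985) (tt N8272 F85981) (tt N9923 F85982) (tt N8410 F132987) (tt N11798 (iv F107927)) (tt N9923 F85983) (tt N8236 (iv D18980)) (tt N8344 F132986) (tt N11804 D24022) (tt N8380 F85985))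
theorem Q9925 : ∀ i, i < 9925 → P i := stepQ 9924 Q9924 (allL N9924 (tt N11760 (iv F107752)) (tt N8273 F85986) (tt N9924 F85987) (tt N11803 (iv F107966)) (tt N11799 (iv F107932)) (tt N11581 (iv F106699)) (tt N11804 (iv F107974)) (tt N8237 F85988) (tt N8236 (iv D18981)) (tt N11805 D24023))
theorem Q9926 : ∀ i, i < 9926 → P i := stepQ 9925 Q9925 (allL N9925 (tt N8721 (iv F133276)) (tt N8274 F85989) (tt N9925 F85990) (tt N8518 F132988) (tt N11800 (iv F107936)) (tt N11582 (iv F106703)) (tt N8482 F85991) (tt N11805 (iv F107978)) (tt N8382 F85992) (tt N8237 (iv D18982)))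
theorem Q9927 : ∀ i, i < 9927 → P i := stepQ 9926 Q9926 (allL N9926 (tt N8956 F85993) (tt N11589 (iv F106749)) (tt N11806 D24024) (tt N8238 (iv D18983)) (tt N8244 F85994) (tt N11450 (iv F105866)) (tt N11807 D24025) (tt N11552 (iv F106532)) (tt N8483 F85995) (tt N11563 (iv F106611)))
theorem Q9928 : ∀ i, i < 9928 → P i := stepQ 9927 Q9927 (allL N9927 (tt N8957 F85996) (tt N11590 (iv F106756)) (tt N9927 F85997) (tt N11807 (iv F107985)) (tt N8239 F85998) (tt N11808 D24026) (tt N8238 (iv D18984)) (tt N11809 D24027) (tt N8484 F85999) (tt N11564 (iv F106617)))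
theorem Q9929 : ∀ i, i < 9929 → P i := stepQ 9928 Q9928 (allL N9928 (tt N8958 F86000) (tt N11591 (iv F106762)) (tt N9928 F86001) (tt N8246 F86002) (tt N11809 (iv F107992)) (tt N11585 (iv F106723)) (tt N11554 (iv F106546)) (tt N8239 (iv D18985)) (tt N8485 F86003) (tt N11565 (iv F106625)))
theorem Q9930 : ∀ i, i < 9930 → P i := stepQ 9929 Q9929 (allL N9929 (tt N8959 F86004) (tt N11761 (iv F107762)) (tt N11810 D24028) (tt N8240 (iv D18986)) (tt N11552 (iv F106530)) (tt N8249 F86005) (tt N11811 D24029) (tt N8244 F86006) (tt N8486 F86007) (tt N8682 F86008))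
theorem Q9931 : ∀ i, i < 9931 → P i := stepQ 9930 Q9930 (allL N9930 (tt N8960 F86009) (tt N11762 (iv F107769)) (tt N8278 F86010) (tt N11811 (iv F108001)) (tt N8241 F86011) (tt N11812 D24030) (tt N8240 (iv D18987)) (tt N11813 D24031) (tt N8487 F86012) (tt N8683 F86013))
theorem Q9932 : ∀ i, i < 9932 → P i := stepQ 9931 Q9931 (allL N9931 (tt N8961 F86014) (tt N11763 (iv F107775)) (tt N8279 F86015) (tt N11554 (iv F106544)) (tt N11813 (iv F108010)) (tt N11424 (iv F105729)) (tt N8246 F86016) (tt N8241 (iv D18988)) (tt N8488 F86017) (tt N8684 F86018))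
theorem Q9933 : ∀ i, i < 9933 → P i := stepQ 9932 Q9932 (allL N9932 (tt N8962 F86019) (tt N11583 (iv F106707)) (tt N11814 D24032) (tt N8242 (iv D18989)) (tt N11563 (iv F106607)) (tt N8252 F86020) (tt N11815 D24033) (tt N8682 F86021) (tt N9932 F86022) (tt N8244 F86023))
theorem Q9934 : ∀ i, i < 9934 → P i := stepQ 9933 Q9933 (allL N9933 (tt N8963 F86024) (tt N11584 (iv F106714)) (tt N8281 F86025) (tt N11815 (iv F108021)) (tt N8243 F86026) (tt N11816 D24034) (tt N8242 (iv D18990)) (tt N11817 D24035) (tt N9933 F86027) (tt N8245 F86028))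
theorem Q9935 : ∀ i, i < 9935 → P i := stepQ 9934 Q9934 (allL N9934 (tt N8964 F86029) (tt N11585 (iv F106720)) (tt N8282 F86030) (tt N11565 (iv F106621)) (tt N11817 (iv F108030)) (tt N11591 (iv F106765)) (tt N8684 F86031) (tt N8243 (iv D18991)) (tt N9934 F86032) (tt N8246 F86033))
theorem Q9936 : ∀ i, i < 9936 → P i := stepQ 9935 Q9935 (allL N9935 (tt N8965 F86034) (tt N11818 D24036) (tt N8244 (iv D18992)) (tt N8283 F86035) (tt N11806 (iv F107982)) (tt N8255 F86036) (tt N11819 D24037) (tt N11810 (iv F107997)) (tt N8489 F86037) (tt N11814 (iv F108019)))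
theorem Q9937 : ∀ i, i < 9937 → P i := stepQ 9936 Q9936 (allL N9936 (tt N8966 F86038) (tt N11765 (iv F107785)) (tt N11819 (iv F108038)) (tt N8245 F86039) (tt N11807 (iv F107986)) (tt N11820 D24038) (tt N8244 (iv D18993)) (tt N11821 D24039) (tt N8490 F86040) (tt N11815 (iv F108023)))
theorem Q9938 : ∀ i, i < 9938 → P i := stepQ 9937 Q9937 (allL N9937 (tt N8967 F86041) (tt N11766 (iv F107788)) (tt N8285 F86042) (tt N11820 (iv F108042)) (tt N11594 (iv F106778)) (tt N8245 (iv D18994)) (tt N8257 F86043) (tt N11822 D24040) (tt N11823 D24041) (tt N11816 (iv F108027)))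
theorem Q9939 : ∀ i, i < 9939 → P i := stepQ 9938 Q9938 (allL N9938 (tt N8968 F86044) (tt N11767 (iv F107791)) (tt N8286 F86045) (tt N11821 (iv F108045)) (tt N8246 F86046) (tt N11822 (iv F108049)) (tt N11813 (iv F108011)) (tt N8245 (iv D18995)) (tt N8492 F86047) (tt N11817 (iv F108033)))
theorem Q9940 : ∀ i, i < 9940 → P i := stepQ 9939 Q9939 (allL N9939 (tt N8969 F86048) (tt N11768 (iv F107796)) (tt N11824 D24042) (tt N8247 (iv D18996)) (tt N8811 F86049) (tt N11422 (iv F105715)) (tt N11825 D24043) (tt N11596 (iv F106788)) (tt N9939 F86050) (tt N8611 F86051))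
theorem Q9941 : ∀ i, i < 9941 → P i := stepQ 9940 Q9940 (allL N9940 (tt N8970 F86052) (tt N11769 (iv F107803)) (tt N8288 F86053) (tt N11825 (iv F108060)) (tt N8248 F86054) (tt N11826 D24044) (tt N8247 (iv D18997)) (tt N11827 D24045) (tt N9940 F86055) (tt N8612 F86056))
theorem Q9942 : ∀ i, i < 9942 → P i := stepQ 9941 Q9941 (allL N9941 (tt N8971 F86057) (tt N11770 (iv F107809)) (tt N8289 F86058) (tt N8813 F86059) (tt N11827 (iv F108070)) (tt N8251 F86060) (tt N11598 (iv F106802)) (tt N8248 (iv D18998)) (tt N9941 F86061) (tt N8613 F86062))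
theorem Q9943 : ∀ i, i < 9943 → P i := stepQ 9942 Q9942 (allL N9942 (tt N8972 F86063) (tt N11828 D24046) (tt N8249 (iv D18999)) (tt N8290 F86064) (tt N8976 F86065) (tt N11810 (iv F107996)) (tt N11829 D24047) (tt N8255 F86066) (tt N8259 F86067) (tt N8685 F86068))
theorem Q9944 : ∀ i, i < 9944 → P i := stepQ 9943 Q9943 (allL N9943 (tt N8973 F86069) (tt N11772 (iv F107821)) (tt N11829 (iv F108079)) (tt N8250 F86070) (tt N8977 F86071) (tt N11830 D24048) (tt N8249 (iv D19000)) (tt N11831 D24049) (tt N8260 F86072) (tt N8686 F86073))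
theorem Q9945 : ∀ i, i < 9945 → P i := stepQ 9944 Q9944 (allL N9944 (tt N8974 F86074) (tt N11773 (iv F107826)) (tt N8292 F86075) (tt N11830 (iv F108085)) (tt N11826 (iv F108066)) (tt N8250 (iv D19001)) (tt N11812 (iv F108006)) (tt N11832 D24050) (tt N11833 D24051) (tt N8687 F86076))
theorem Q9946 : ∀ i, i < 9946 → P i := stepQ 9945 Q9945 (allL N9945 (tt N8975 F86077) (tt N11774 (iv F107829)) (tt N8293 F86078) (tt N11831 (iv F108088)) (tt N8251 F86079) (tt N11832 (iv F108095)) (tt N8258 F86080) (tt N8250 (iv D19002)) (tt N8262 F86081) (tt N8688 F86082))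
theorem Q9947 : ∀ i, i < 9947 → P i := stepQ 9946 Q9946 (allL N9946 (tt N8976 F86083) (tt N9196 F134063) (tt N8252 (iv D19003)) (tt N8294 F86084) (tt N8972 F86085) (tt N11814 (iv F108016)) (tt N11834 D24053) (tt N8685 F86086) (tt N8383 F86087) (tt N8255 F86088))
theorem Q9948 : ∀ i, i < 9948 → P i := stepQ 9947 Q9947 (allL N9947 (tt N8977 F86089) (tt N11776 (iv F107840)) (tt N11834 (iv F108106)) (tt N8253 F86090) (tt N8973 F86091) (tt N11835 D24054) (tt N8252 (iv D19004)) (tt N11836 D24055) (tt N8384 F86092) (tt N8256 F86093))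
theorem Q9949 : ∀ i, i < 9949 → P i := stepQ 9948 Q9948 (allL N9948 (tt N8978 F86094) (tt N11777 (iv F107845)) (tt N8296 F86095) (tt N11835 (iv F108112)) (tt N11608 (iv F106857)) (tt N8253 (iv D19005)) (tt N11816 (iv F108026)) (tt N11837 D24056) (tt N11838 D24057) (tt N8257 F86096))
theorem Q9950 : ∀ i, i < 9950 → P i := stepQ 9949 Q9949 (allL N9949 (tt N8979 F86097) (tt N11778 (iv F107848)) (tt N8297 F86098) (tt N11836 (iv F108115)) (tt N8254 F86099) (tt N11837 (iv F108122)) (tt N8688 F86100) (tt N8253 (iv D19006)) (tt N8386 F86101) (tt N8258 F86102))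
theorem Q9951 : ∀ i, i < 9951 → P i := stepQ 9950 Q9950 (allL N9950 (tt N11839 D24058) (tt N8255 (iv D19007)) (tt N11779 (iv F107854)) (tt N8298 F86103) (tt N9197 F134327) (tt N11818 (iv F108035)) (tt N11840 D24059) (tt N11828 (iv F108075)) (tt N8263 F86104) (tt N9196 F134328))
theorem Q9952 : ∀ i, i < 9952 → P i := stepQ 9951 Q9951 (allL N9951 (tt N8981 F86105) (tt N11840 (iv F108130)) (tt N8256 F86106) (tt N8299 F86107) (tt N11457 (iv F105916)) (tt N11841 D24060) (tt N8255 (iv D19008)) (tt N11842 D24061) (tt N8264 F86108) (tt N11834 (iv F108110)))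
theorem Q9953 : ∀ i, i < 9953 → P i := stepQ 9952 Q9952 (allL N9952 (tt N8982 F86109) (tt N11781 (iv F107860)) (tt N11841 (iv F108134)) (tt N8257 F86110) (tt N11843 D24062) (tt N8256 (iv D19009)) (tt N11820 (iv F108043)) (tt N11844 D24063) (tt N11845 D24064) (tt N11835 (iv F108113)))
theorem Q9954 : ∀ i, i < 9954 → P i := stepQ 9953 Q9953 (allL N9953 (tt N8983 F86111) (tt N11782 (iv F107862)) (tt N11842 (iv F108137)) (tt N8258 F86112) (tt N11459 (iv F105924)) (tt N11844 (iv F108143)) (tt N11831 (iv F108090)) (tt N8256 (iv D19010)) (tt N8266 F86113) (tt N11836 (iv F108119)))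
theorem Q9955 : ∀ i, i < 9955 → P i := stepQ 9954 Q9954 (allL N9954 (tt N8984 F86114) (tt N11783 (iv F107865)) (tt N8302 F86115) (tt N11844 (iv F108142)) (tt N11614 (iv F106877)) (tt N8258 F86116) (tt N11846 D24065) (tt N8257 (iv D19011)) (tt N11847 D24066) (tt N11837 (iv F108123)))
theorem Q9956 : ∀ i, i < 9956 → P i := stepQ 9955 Q9955 (allL N9955 (tt N8985 F86117) (tt N11784 (iv F107868)) (tt N8303 F86118) (tt N11845 (iv F108145)) (tt N11615 (iv F106881)) (tt N8268 F86119) (tt N11823 (iv F108053)) (tt N11847 (iv F108152)) (tt N8257 (iv D19012)) (tt N11848 D24067))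
theorem Q9957 : ∀ i, i < 9957 → P i := stepQ 9956 Q9956 (allL N9956 (tt N8477 (iv F133628)) (tt N8259 (iv D19013)) (tt N11785 (iv F107871)) (tt N8304 F86120) (tt N9103 F86121) (tt N8454 F132946) (tt N11756 (iv F133591)) (tt N8263 F86123) (tt N11828 (iv F108076)) (tt N8392 F86124))
theorem Q9958 : ∀ i, i < 9958 → P i := stepQ 9957 Q9957 (allL N9957 (tt N8949 F134133) (tt N11756 F134134) (tt N8260 F86126) (tt N8305 F86127) (tt N9104 F86128) (tt N8927 F134135) (tt N8259 (iv D19014)) (tt N11849 D24071) (tt N11829 (iv F108082)) (tt N8393 F86129))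
theorem Q9959 : ∀ i, i < 9959 → P i := stepQ 9958 Q9958 (allL N9958 (tt N8948 F134180) (tt N11787 (iv F107881)) (tt N8927 F134181) (tt N8261 F86131) (tt N11850 D24072) (tt N8260 (iv D19015)) (tt N8503 F86132) (tt N11851 D24073) (tt N11852 D24074) (tt N8394 F86133))
theorem Q9960 : ∀ i, i < 9960 → P i := stepQ 9959 Q9959 (allL N9959 (tt N8986 F86134) (tt N11788 (iv F107885)) (tt N11849 (iv F108172)) (tt N8262 F86135) (tt N9106 F86136) (tt N11851 (iv F108184)) (tt N8266 F86137) (tt N8260 (iv D19016)) (tt N11831 (iv F108091)) (tt N8395 F86138))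
theorem Q9961 : ∀ i, i < 9961 → P i := stepQ 9960 Q9960 (allL N9960 (tt N8987 F86139) (tt N11789 (iv F107890)) (tt N8307 F86140) (tt N11851 (iv F108183)) (tt N9960 F86141) (tt N8262 F86142) (tt N11853 D24075) (tt N8261 (iv D19017)) (tt N11854 D24076) (tt N8396 F86143))
theorem Q9962 : ∀ i, i < 9962 → P i := stepQ 9961 Q9961 (allL N9961 (tt N8988 F86144) (tt N11790 (iv F107895)) (tt N8308 F86145) (tt N11852 (iv F108187)) (tt N9961 F86146) (tt N11833 (iv F108099)) (tt N8506 F86147) (tt N11854 (iv F108198)) (tt N8261 (iv D19018)) (tt N11855 D24077))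
theorem Q9963 : ∀ i, i < 9963 → P i := stepQ 9962 Q9962 (allL N9962 (tt N8263 (iv D19019)) (tt N8511 (iv F133296)) (tt N11791 (iv F107899)) (tt N8309 F86149) (tt N8580 (iv F133533)) (tt N8478 F132948) (tt N11856 D24078) (tt N8477 (iv F133629)) (tt N11839 (iv F108129)) (tt N8398 F86151))
theorem Q9964 : ∀ i, i < 9964 → P i := stepQ 9963 Q9963 (allL N9963 (tt N11856 (iv F108204)) (tt N8264 F86152) (tt N11792 (iv F107904)) (tt N8310 F86153) (tt N9127 F134281) (tt N11857 D24079) (tt N8263 (iv D19020)) (tt N11858 D24080) (tt N11840 (iv F108132)) (tt N8399 F86154))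
theorem Q9965 : ∀ i, i < 9965 → P i := stepQ 9964 Q9964 (allL N9964 (tt N8990 F86155) (tt N11857 (iv F108208)) (tt N8265 F86156) (tt N8311 F86157) (tt N11859 D24081) (tt N8264 (iv D19021)) (tt N8508 F86158) (tt N11860 D24082) (tt N11861 D24083) (tt N8400 F86159))
theorem Q9966 : ∀ i, i < 9966 → P i := stepQ 9965 Q9965 (allL N9965 (tt N8991 F86160) (tt N11858 (iv F108212)) (tt N8266 F86161) (tt N8312 F86162) (tt N11463 (iv F105953)) (tt N11860 (iv F108223)) (tt N11849 (iv F108175)) (tt N8264 (iv D19022)) (tt N11842 (iv F108139)) (tt N8401 F86163))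
theorem Q9967 : ∀ i, i < 9967 → P i := stepQ 9966 Q9966 (allL N9966 (tt N8992 F86164) (tt N11795 (iv F107914)) (tt N11859 (iv F108216)) (tt N8269 F86165) (tt N8265 (iv D19023)) (tt N11464 (iv F105958)) (tt N8510 F86166) (tt N11862 D24084) (tt N11863 D24085) (tt N8402 F86167))
theorem Q9968 : ∀ i, i < 9968 → P i := stepQ 9967 Q9967 (allL N9967 (tt N8993 F86168) (tt N11796 (iv F107918)) (tt N11860 (iv F108221)) (tt N8267 F86169) (tt N11862 (iv F108231)) (tt N8266 F86170) (tt N11864 D24086) (tt N8265 (iv D19024)) (tt N11865 D24087) (tt N8403 F86171))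
theorem Q9969 : ∀ i, i < 9969 → P i := stepQ 9968 Q9968 (allL N9968 (tt N8994 F86172) (tt N11797 (iv F107922)) (tt N11861 (iv F108226)) (tt N8268 F86173) (tt N11863 (iv F108235)) (tt N11845 (iv F108146)) (tt N8512 F86174) (tt N11865 (iv F108243)) (tt N8265 (iv D19025)) (tt N11866 D24088))
theorem Q9970 : ∀ i, i < 9970 → P i := stepQ 9969 Q9969 (allL N9969 (tt N8995 F86175) (tt N11798 (iv F107925)) (tt N8315 F86176) (tt N11864 (iv F108238)) (tt N8272 F86177) (tt N11853 (iv F108192)) (tt N8267 (iv D19026)) (tt N8513 F86178) (tt N11867 D24089) (tt N8405 F86179))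
theorem Q9971 : ∀ i, i < 9971 → P i := stepQ 9970 Q9970 (allL N9970 (tt N8996 F86180) (tt N11799 (iv F107930)) (tt N8316 F86181) (tt N11865 (iv F108242)) (tt N8273 F86182) (tt N11847 (iv F108151)) (tt N11867 (iv F108251)) (tt N8268 F86183) (tt N8267 (iv D19027)) (tt N11868 D24090))
theorem Q9972 : ∀ i, i < 9972 → P i := stepQ 9971 Q9971 (allL N9971 (tt N8997 F86184) (tt N11800 (iv F107934)) (tt N8317 F86185) (tt N11866 (iv F108245)) (tt N8274 F86186) (tt N11848 (iv F108155)) (tt N8515 F86187) (tt N11868 (iv F108256)) (tt N8407 F86188) (tt N8268 (iv D19028)))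
theorem Q9973 : ∀ i, i < 9973 → P i := stepQ 9972 Q9972 (allL N9972 (tt N8998 F86189) (tt N11801 (iv F107954)) (tt N9972 F86190) (tt N11862 (iv F108230)) (tt N8270 F86191) (tt N11470 (iv F105986)) (tt N11869 D24091) (tt N8269 (iv D19029)) (tt N11870 D24092) (tt N8408 F86192))
theorem Q9974 : ∀ i, i < 9974 → P i := stepQ 9973 Q9973 (allL N9973 (tt N8999 F86193) (tt N11802 (iv F107957)) (tt N9973 F86194) (tt N11863 (iv F108234)) (tt N8271 F86195) (tt N11871 D24093) (tt N8517 F86196) (tt N11870 (iv F108266)) (tt N8269 (iv D19030)) (tt N11872 D24094))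
theorem Q9975 : ∀ i, i < 9975 → P i := stepQ 9974 Q9974 (allL N9974 (tt N8727 (iv F133278)) (tt N8410 F132991) (tt N9974 F86198) (tt N8272 F86199) (tt N11869 (iv F108260)) (tt N9974 F86200) (tt N8270 (iv D19031)) (tt N8382 F132992) (tt N11805 (iv F133742)) (tt N8381 F132993))
theorem Q9976 : ∀ i, i < 9976 → P i := stepQ 9975 Q9975 (allL N9975 (tt N9000 F86203) (tt N11803 (iv F107965)) (tt N9975 F86204) (tt N8273 F86205) (tt N11870 (iv F108265)) (tt N11635 (iv F106974)) (tt N11805 (iv F133741)) (tt N8271 F86206) (tt N8270 (iv D19032)) (tt N11804 (iv F133745)))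
theorem Q9977 : ∀ i, i < 9977 → P i := stepQ 9976 Q9976 (allL N9976 (tt N8336 (iv F133500)) (tt N8518 F132994) (tt N9976 F86208) (tt N8274 F86209) (tt N11872 (iv F108271)) (tt N11636 (iv F106979)) (tt N8335 F132995) (tt N11804 (iv F133744)) (tt N8344 F132996) (tt N8271 (iv D19033)))
theorem Q9978 : ∀ i, i < 9978 → P i := stepQ 9977 Q9977 (allL N9977 (tt N9001 F86212) (tt N11804 (iv F107972)) (tt N8318 F86213) (tt N11805 (iv F133740)) (tt N11867 (iv F108250)) (tt N11873 D24097) (tt N8273 F86214) (tt N8518 F86215) (tt N8272 (iv D19034)) (tt N11803 (iv F133726)))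
theorem Q9979 : ∀ i, i < 9979 → P i := stepQ 9978 Q9978 (allL N9978 (tt N9002 F86216) (tt N11805 (iv F107976)) (tt N8319 F86217) (tt N11804 (iv F133743)) (tt N11868 (iv F108255)) (tt N11638 (iv F106988)) (tt N11803 (iv F133725)) (tt N8274 F86218) (tt N8410 F86219) (tt N8273 (iv D19035)))
theorem Q9980 : ∀ i, i < 9980 → P i := stepQ 9979 Q9979 (allL N9979 (tt N9003 F86220) (tt N9979 F86221) (tt N11874 D24099) (tt N8275 (iv D19036)) (tt N9979 F86222) (tt N8287 F86223) (tt N11875 D24100) (tt N8543 (iv F134478)) (tt N8582 F134361) (tt N8542 F134362))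
theorem Q9981 : ∀ i, i < 9981 → P i := stepQ 9980 Q9980 (allL N9980 (tt N9004 F86227) (tt N9980 F86228) (tt N11423 (iv F105721)) (tt N11875 (iv F108301)) (tt N8276 F86229) (tt N11876 D24101) (tt N8275 (iv D19037)) (tt N11877 D24102) (tt N9500 F86230) (tt N8625 F86231))
theorem Q9982 : ∀ i, i < 9982 → P i := stepQ 9981 Q9981 (allL N9981 (tt N9005 F86232) (tt N9981 F86233) (tt N11424 (iv F105727)) (tt N9981 F86234) (tt N11877 (iv F108312)) (tt N8279 F86235) (tt N9401 F86236) (tt N8276 (iv D19038)) (tt N9501 F86237) (tt N8626 F86238))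
theorem Q9983 : ∀ i, i < 9983 → P i := stepQ 9982 Q9982 (allL N9982 (tt N9006 F86239) (tt N11878 D24103) (tt N8277 (iv D19039)) (tt N11810 (iv F107995)) (tt N9982 F86240) (tt N8290 F86241) (tt N11879 D24104) (tt N8283 F86242) (tt N8521 F86243) (tt N8701 F86244))
theorem Q9984 : ∀ i, i < 9984 → P i := stepQ 9983 Q9983 (allL N9983 (tt N9007 F86245) (tt N9983 F86246) (tt N11879 (iv F108323)) (tt N8278 F86247) (tt N9983 F86248) (tt N11880 D24105) (tt N8277 (iv D19040)) (tt N11881 D24106) (tt N8522 F86249) (tt N8702 F86250))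
theorem Q9985 : ∀ i, i < 9985 → P i := stepQ 9984 Q9984 (allL N9984 (tt N9008 F86251) (tt N9984 F86252) (tt N11812 (iv F108005)) (tt N11880 (iv F108329)) (tt N11876 (iv F108307)) (tt N8278 (iv D19041)) (tt N8292 F86253) (tt N11882 D24107) (tt N11883 D24108) (tt N8703 F86254))
theorem Q9986 : ∀ i, i < 9986 → P i := stepQ 9985 Q9985 (allL N9985 (tt N9009 F86255) (tt N9985 F86256) (tt N11813 (iv F108009)) (tt N11881 (iv F108334)) (tt N8279 F86257) (tt N11882 (iv F108341)) (tt N8286 F86258) (tt N8278 (iv D19042)) (tt N8524 F86259) (tt N8704 F86260))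
theorem Q9987 : ∀ i, i < 9987 → P i := stepQ 9986 Q9986 (allL N9986 (tt N9010 F86261) (tt N9198 F134071) (tt N8280 (iv D19043)) (tt N11814 (iv F108015)) (tt N9986 F86262) (tt N8294 F86263) (tt N11884 D24110) (tt N8701 F86264) (tt N9986 F86265) (tt N8283 F86266))
theorem Q9988 : ∀ i, i < 9988 → P i := stepQ 9987 Q9987 (allL N9987 (tt N9011 F86267) (tt N9987 F86268) (tt N11884 (iv F108354)) (tt N8281 F86269) (tt N9987 F86270) (tt N11885 D24111) (tt N8280 (iv D19044)) (tt N11886 D24112) (tt N9987 F86271) (tt N8284 F86272))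
theorem Q9989 : ∀ i, i < 9989 → P i := stepQ 9988 Q9988 (allL N9988 (tt N9012 F86273) (tt N9988 F86274) (tt N11816 (iv F108025)) (tt N11885 (iv F108360)) (tt N11645 (iv F107028)) (tt N8281 (iv D19045)) (tt N8296 F86275) (tt N11887 D24113) (tt N11888 D24114) (tt N8285 F86276))
theorem Q9990 : ∀ i, i < 9990 → P i := stepQ 9989 Q9989 (allL N9989 (tt N9013 F86277) (tt N9989 F86278) (tt N11817 (iv F108029)) (tt N11886 (iv F108365)) (tt N8282 F86279) (tt N11887 (iv F108372)) (tt N8704 F86280) (tt N8281 (iv D19046)) (tt N9989 F86281) (tt N8286 F86282))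
theorem Q9991 : ∀ i, i < 9991 → P i := stepQ 9990 Q9990 (allL N9990 (tt N11889 D24115) (tt N8283 (iv D19047)) (tt N9990 F86283) (tt N11818 (iv F108034)) (tt N9990 F86284) (tt N8298 F86285) (tt N11890 D24116) (tt N11878 (iv F108319)) (tt N8525 F86286) (tt N9198 F134331))
theorem Q9992 : ∀ i, i < 9992 → P i := stepQ 9991 Q9991 (allL N9991 (tt N9015 F86287) (tt N11890 (iv F108383)) (tt N8284 F86288) (tt N11819 (iv F108039)) (tt N9991 F86289) (tt N11891 D24117) (tt N8283 (iv D19048)) (tt N11892 D24118) (tt N8526 F86290) (tt N11884 (iv F108357)))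
theorem Q9993 : ∀ i, i < 9993 → P i := stepQ 9992 Q9992 (allL N9992 (tt N9016 F86291) (tt N9992 F86292) (tt N11891 (iv F108388)) (tt N8285 F86293) (tt N11893 D24119) (tt N8284 (iv D19049)) (tt N8300 F86294) (tt N11894 D24120) (tt N11895 D24121) (tt N11885 (iv F108362)))
theorem Q9994 : ∀ i, i < 9994 → P i := stepQ 9993 Q9993 (allL N9993 (tt N9017 F86295) (tt N9993 F86296) (tt N11892 (iv F108391)) (tt N8286 F86297) (tt N9993 F86298) (tt N11894 (iv F108401)) (tt N11881 (iv F108336)) (tt N8284 (iv D19050)) (tt N8528 F86299) (tt N11886 (iv F108369)))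
theorem Q9995 : ∀ i, i < 9995 → P i := stepQ 9994 Q9994 (allL N9994 (tt N9018 F86300) (tt N9994 F86301) (tt N11822 (iv F108048)) (tt N11894 (iv F108400)) (tt N11651 (iv F107056)) (tt N8286 F86302) (tt N11896 D24122) (tt N8285 (iv D19051)) (tt N11897 D24123) (tt N11887 (iv F108373)))
theorem Q9996 : ∀ i, i < 9996 → P i := stepQ 9995 Q9995 (allL N9995 (tt N9019 F86303) (tt N9995 F86304) (tt N11823 (iv F108051)) (tt N11895 (iv F108404)) (tt N11652 (iv F107060)) (tt N8530 F86305) (tt N8303 F86306) (tt N11897 (iv F108413)) (tt N8285 (iv D19052)) (tt N11898 D24124))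
theorem Q9997 : ∀ i, i < 9997 → P i := stepQ 9996 Q9996 (allL N9996 (tt N9020 F86307) (tt N11899 D24125) (tt N8287 (iv D19053)) (tt N11824 (iv F108055)) (tt N8320 F86308) (tt N11874 (iv F108295)) (tt N11900 D24126) (tt N11653 (iv F107066)) (tt N9996 F86309) (tt N8629 F86310))
theorem Q9998 : ∀ i, i < 9998 → P i := stepQ 9997 Q9997 (allL N9997 (tt N9021 F86311) (tt N9997 F86312) (tt N11900 (iv F108423)) (tt N8288 F86313) (tt N8321 F86314) (tt N11901 D24127) (tt N8287 (iv D19054)) (tt N11902 D24128) (tt N9997 F86315) (tt N8630 F86316))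
theorem Q9999 : ∀ i, i < 9999 → P i := stepQ 9998 Q9998 (allL N9998 (tt N9022 F86317) (tt N9998 F86318) (tt N11826 (iv F108065)) (tt N11901 (iv F108429)) (tt N8292 F86319) (tt N8288 (iv D19055)) (tt N11876 (iv F108308)) (tt N11903 D24129) (tt N11904 D24130) (tt N8631 F86320))
theorem Q10000 : ∀ i, i < 10000 → P i := stepQ 9999 Q9999 (allL N9999 (tt N9023 F86321) (tt N9999 F86322) (tt N11827 (iv F108069)) (tt N11902 (iv F108433)) (tt N8289 F86323) (tt N11903 (iv F108440)) (tt N11656 (iv F107083)) (tt N8288 (iv D19056)) (tt N9999 F86324) (tt N8632 F86325))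
theorem Q10001 : ∀ i, i < 10001 → P i := stepQ 10000 Q10000 (allL N10000 (tt N8479 (iv F133646)) (tt N8290 (iv D19057)) (tt N10000 F86326) (tt N11828 (iv F108073)) (tt N8324 F86327) (tt N11878 (iv F108318)) (tt N11759 (iv F133593)) (tt N8298 F86328) (tt N8304 F86329) (tt N8705 F86330))
theorem Q10002 : ∀ i, i < 10002 → P i := stepQ 10001 Q10001 (allL N10001 (tt N8952 F134074) (tt N11759 F134075) (tt N8291 F86332) (tt N11829 (iv F108080)) (tt N8325 F86333) (tt N11905 D24133) (tt N8290 (iv D19058)) (tt N11906 D24134) (tt N8305 F86334) (tt N8706 F86335))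
theorem Q10003 : ∀ i, i < 10003 → P i := stepQ 10002 Q10002 (allL N10002 (tt N9024 F86336) (tt N10002 F86337) (tt N11905 (iv F108458)) (tt N8292 F86338) (tt N11907 D24135) (tt N8291 (iv D19059)) (tt N11880 (iv F108330)) (tt N11908 D24136) (tt N9402 F135159) (tt N8707 F86339))
theorem Q10004 : ∀ i, i < 10004 → P i := stepQ 10003 Q10003 (allL N10003 (tt N9025 F86340) (tt N10003 F86341) (tt N11906 (iv F108461)) (tt N8293 F86342) (tt N8327 F86343) (tt N11908 (iv F108473)) (tt N8301 F86344) (tt N8291 (iv D19060)) (tt N8306 F86345) (tt N8708 F86346))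
theorem Q10005 : ∀ i, i < 10005 → P i := stepQ 10004 Q10004 (allL N10004 (tt N9026 F86347) (tt N10004 F86348) (tt N11832 (iv F108094)) (tt N11908 (iv F108472)) (tt N11903 (iv F108439)) (tt N8293 F86349) (tt N11909 D24138) (tt N8292 (iv D19061)) (tt N11910 D24139) (tt N8709 F86350))
theorem Q10006 : ∀ i, i < 10006 → P i := stepQ 10005 Q10005 (allL N10005 (tt N9027 F86351) (tt N10005 F86352) (tt N11833 (iv F108098)) (tt N9402 F135153) (tt N11904 (iv F108444)) (tt N8308 F86353) (tt N11883 (iv F108346)) (tt N11910 (iv F108486)) (tt N8292 (iv D19062)) (tt N11911 D24140))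
theorem Q10007 : ∀ i, i < 10007 → P i := stepQ 10006 Q10006 (allL N10006 (tt N9029 F86359) (tt N8999 F134151) (tt N8295 F86360) (tt N11834 (iv F108107)) (tt N8330 F86361) (tt N11912 D24143) (tt N8294 (iv D19064)) (tt N11913 D24144) (tt N8411 F86362) (tt N8299 F86363))
theorem Q10008 : ∀ i, i < 10008 → P i := stepQ 10007 Q10007 (allL N10007 (tt N9030 F86364) (tt N10007 F86365) (tt N11912 (iv F108503)) (tt N8296 F86366) (tt N11914 D24145) (tt N8295 (iv D19065)) (tt N11885 (iv F108361)) (tt N11915 D24146) (tt N11916 D24147) (tt N8300 F86367))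
theorem Q10009 : ∀ i, i < 10009 → P i := stepQ 10008 Q10008 (allL N10008 (tt N9031 F86368) (tt N10008 F86369) (tt N11913 (iv F108506)) (tt N8297 F86370) (tt N8332 F86371) (tt N11915 (iv F108518)) (tt N8708 F86372) (tt N8295 (iv D19066)) (tt N8413 F86373) (tt N8301 F86374))
theorem Q10010 : ∀ i, i < 10010 → P i := stepQ 10009 Q10009 (allL N10009 (tt N9032 F86375) (tt N10009 F86376) (tt N11837 (iv F108121)) (tt N11915 (iv F108517)) (tt N11671 (iv F107153)) (tt N8297 F86377) (tt N11917 D24148) (tt N8296 (iv D19067)) (tt N11918 D24149) (tt N8302 F86378))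
theorem Q10011 : ∀ i, i < 10011 → P i := stepQ 10010 Q10010 (allL N10010 (tt N9033 F86379) (tt N10010 F86380) (tt N11838 (iv F108125)) (tt N11916 (iv F108522)) (tt N11672 (iv F107158)) (tt N8415 F86381) (tt N11888 (iv F108377)) (tt N11918 (iv F108531)) (tt N8296 (iv D19068)) (tt N11919 D24150))
theorem Q10012 : ∀ i, i < 10012 → P i := stepQ 10011 Q10011 (allL N10011 (tt N8298 (iv D19069)) (tt N8514 (iv F133300)) (tt N10011 F86383) (tt N11839 (iv F108128)) (tt N8335 F86384) (tt N11889 (iv F108381)) (tt N11872 (iv F133652)) (tt N8479 (iv F133647)) (tt N8309 F86385) (tt N8517 (iv F133498)))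
theorem Q10013 : ∀ i, i < 10013 → P i := stepQ 10012 Q10012 (allL N10012 (tt N11872 F134329) (tt N8299 F86386) (tt N10012 F86387) (tt N11840 (iv F108131)) (tt N8336 F86388) (tt N11920 D24152) (tt N8298 (iv D19070)) (tt N11921 D24153) (tt N8310 F86389) (tt N8999 F134330))
theorem Q10014 : ∀ i, i < 10014 → P i := stepQ 10013 Q10013 (allL N10013 (tt N9035 F86390) (tt N11920 (iv F108541)) (tt N8300 F86391) (tt N11841 (iv F108135)) (tt N11922 D24154) (tt N8299 (iv D19071)) (tt N11891 (iv F108389)) (tt N11923 D24155) (tt N11924 D24156) (tt N11912 (iv F108504)))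
theorem Q10015 : ∀ i, i < 10015 → P i := stepQ 10014 Q10014 (allL N10014 (tt N9036 F86392) (tt N11921 (iv F108543)) (tt N8301 F86393) (tt N11842 (iv F108138)) (tt N8338 F86394) (tt N11923 (iv F108552)) (tt N11906 (iv F108463)) (tt N8299 (iv D19072)) (tt N8312 F86395) (tt N11913 (iv F108510)))
theorem Q10016 : ∀ i, i < 10016 → P i := stepQ 10015 Q10015 (allL N10015 (tt N9037 F86396) (tt N10015 F86397) (tt N11922 (iv F108548)) (tt N11677 (iv F107176)) (tt N8300 (iv D19073)) (tt N8339 F86398) (tt N11893 (iv F108397)) (tt N11925 D24157) (tt N11926 D24158) (tt N11914 (iv F108514)))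
theorem Q10017 : ∀ i, i < 10017 → P i := stepQ 10016 Q10016 (allL N10016 (tt N9038 F86399) (tt N10016 F86400) (tt N11923 (iv F108551)) (tt N8302 F86401) (tt N11925 (iv F108558)) (tt N8301 F86402) (tt N11927 D24159) (tt N8300 (iv D19074)) (tt N11928 D24160) (tt N11915 (iv F108519)))
theorem Q10018 : ∀ i, i < 10018 → P i := stepQ 10017 Q10017 (allL N10017 (tt N9039 F86403) (tt N10017 F86404) (tt N11924 (iv F108554)) (tt N8303 F86405) (tt N11926 (iv F108562)) (tt N8314 F86406) (tt N11895 (iv F108406)) (tt N11928 (iv F108571)) (tt N8300 (iv D19075)) (tt N11929 D24161))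
theorem Q10019 : ∀ i, i < 10019 → P i := stepQ 10018 Q10018 (allL N10018 (tt N9040 F86407) (tt N10018 F86408) (tt N11846 (iv F108148)) (tt N11927 (iv F108566)) (tt N11680 (iv F107188)) (tt N11909 (iv F108481)) (tt N8302 (iv D19076)) (tt N11896 (iv F108409)) (tt N11930 D24162) (tt N11917 (iv F108527)))
theorem Q10020 : ∀ i, i < 10020 → P i := stepQ 10019 Q10019 (allL N10019 (tt N9041 F86409) (tt N10019 F86410) (tt N11847 (iv F108150)) (tt N11928 (iv F108569)) (tt N11681 (iv F107191)) (tt N8316 F86411) (tt N11930 (iv F108578)) (tt N8303 F86412) (tt N8302 (iv D19077)) (tt N11931 D24163))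
theorem Q10021 : ∀ i, i < 10021 → P i := stepQ 10020 Q10020 (allL N10020 (tt N9042 F86413) (tt N10020 F86414) (tt N11848 (iv F108154)) (tt N11929 (iv F108574)) (tt N11682 (iv F107196)) (tt N8317 F86415) (tt N11898 (iv F108417)) (tt N11931 (iv F108582)) (tt N11919 (iv F108535)) (tt N8303 (iv D19078)))
theorem Q10022 : ∀ i, i < 10022 → P i := stepQ 10021 Q10021 (allL N10021 (tt N8951 F134136) (tt N11758 F134137) (tt N8306 F86431) (tt N11849 (iv F108173)) (tt N8342 F86432) (tt N8928 F134138) (tt N8312 F86433) (tt N8305 (iv D19082)) (tt N11906 (iv F108464)) (tt N8424 F86434))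
theorem Q10023 : ∀ i, i < 10023 → P i := stepQ 10022 Q10022 (allL N10022 (tt N9043 F86450) (tt N10022 F86451) (tt N11853 (iv F108190)) (tt N9404 F134265) (tt N10022 F86452) (tt N8315 F86453) (tt N8307 (iv D19086)) (tt N8541 F86454) (tt N11932 D24175) (tt N8425 F86455))
theorem Q10024 : ∀ i, i < 10024 → P i := stepQ 10023 Q10023 (allL N10023 (tt N9044 F86456) (tt N10023 F86457) (tt N11854 (iv F108196)) (tt N9403 F135152) (tt N10023 F86458) (tt N11910 (iv F108485)) (tt N11932 (iv F108638)) (tt N8308 F86459) (tt N8307 (iv D19087)) (tt N11933 D24176))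
theorem Q10025 : ∀ i, i < 10025 → P i := stepQ 10024 Q10024 (allL N10024 (tt N9045 F86460) (tt N10024 F86461) (tt N11855 (iv F108200)) (tt N9400 F135154) (tt N10024 F86462) (tt N11911 (iv F108489)) (tt N8543 F86463) (tt N11933 (iv F108643)) (tt N8427 F86464) (tt N8308 (iv D19088)))
theorem Q10026 : ∀ i, i < 10026 → P i := stepQ 10025 Q10025 (allL N10025 (tt N8310 F86465) (tt N8513 (iv F133305)) (tt N10025 F86467) (tt N11856 (iv F108206)) (tt N8344 F86468) (tt N11934 D24177) (tt N8309 (iv D19089)) (tt N11798 (iv F133612)) (tt N11872 (iv F133653)) (tt N8409 F132956))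
theorem Q10027 : ∀ i, i < 10027 → P i := stepQ 10026 Q10026 (allL N10026 (tt N11934 (iv F108645)) (tt N8311 F86470) (tt N10026 F86471) (tt N11857 (iv F108209)) (tt N10026 F86472) (tt N8310 (iv D19090)) (tt N8544 F86473) (tt N11935 D24179) (tt N11936 D24180) (tt N8428 F86474))
theorem Q10028 : ∀ i, i < 10028 → P i := stepQ 10027 Q10027 (allL N10027 (tt N11798 (iv F133611)) (tt N8312 F86475) (tt N10027 F86476) (tt N11858 (iv F108213)) (tt N8345 F86477) (tt N11935 (iv F108659)) (tt N11758 (iv F133592)) (tt N8310 (iv D19091)) (tt N11921 (iv F108546)) (tt N8429 F86478))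
theorem Q10029 : ∀ i, i < 10029 → P i := stepQ 10028 Q10028 (allL N10028 (tt N9047 F86479) (tt N11935 (iv F108656)) (tt N8313 F86480) (tt N11860 (iv F108222)) (tt N10028 F86481) (tt N8312 F86482) (tt N11937 D24181) (tt N8311 (iv D19092)) (tt N11938 D24182) (tt N8430 F86483))
theorem Q10030 : ∀ i, i < 10030 → P i := stepQ 10029 Q10029 (allL N10029 (tt N9048 F86484) (tt N11936 (iv F108661)) (tt N8314 F86485) (tt N11861 (iv F108227)) (tt N10029 F86486) (tt N11924 (iv F108555)) (tt N8546 F86487) (tt N11938 (iv F108673)) (tt N8311 (iv D19093)) (tt N11939 D24183))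
theorem Q10031 : ∀ i, i < 10031 → P i := stepQ 10030 Q10030 (allL N10030 (tt N9049 F86488) (tt N10030 F86489) (tt N11937 (iv F108666)) (tt N8315 F86490) (tt N10030 F86491) (tt N9404 (iv F133660)) (tt N8313 (iv D19094)) (tt N8547 F86492) (tt N11940 D24184) (tt N8432 F86493))
theorem Q10032 : ∀ i, i < 10032 → P i := stepQ 10031 Q10031 (allL N10031 (tt N9050 F86494) (tt N10031 F86495) (tt N11938 (iv F108671)) (tt N8316 F86496) (tt N10031 F86497) (tt N11928 (iv F108570)) (tt N11940 (iv F108683)) (tt N8314 F86498) (tt N8313 (iv D19095)) (tt N11941 D24185))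
theorem Q10033 : ∀ i, i < 10033 → P i := stepQ 10032 Q10032 (allL N10032 (tt N9051 F86499) (tt N10032 F86500) (tt N11939 (iv F108675)) (tt N8317 F86501) (tt N10032 F86502) (tt N11929 (iv F108575)) (tt N8549 F86503) (tt N11941 (iv F108689)) (tt N8434 F86504) (tt N8314 (iv D19096)))
theorem Q10034 : ∀ i, i < 10034 → P i := stepQ 10033 Q10033 (allL N10033 (tt N9052 F86505) (tt N10033 F86506) (tt N11867 (iv F108249)) (tt N11940 (iv F108681)) (tt N8318 F86507) (tt N11942 D24186) (tt N8316 F86508) (tt N8550 F86509) (tt N8315 (iv D19097)) (tt N11943 D24187))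
theorem Q10035 : ∀ i, i < 10035 → P i := stepQ 10034 Q10034 (allL N10034 (tt N9053 F86510) (tt N10034 F86511) (tt N11868 (iv F108254)) (tt N11941 (iv F108687)) (tt N8319 F86512) (tt N11931 (iv F108581)) (tt N11943 (iv F108697)) (tt N8317 F86513) (tt N8436 F86514) (tt N8316 (iv D19098)))
theorem Q10036 : ∀ i, i < 10036 → P i := stepQ 10035 Q10035 (allL N10035 (tt N9054 F86515) (tt N10035 F86516) (tt N11873 (iv F108285)) (tt N10035 F86517) (tt N11944 D24188) (tt N8318 (iv D19099)) (tt N11700 (iv F107304)) (tt N8552 F86518) (tt N10035 F86519) (tt N11945 D24189))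
theorem Q10037 : ∀ i, i < 10037 → P i := stepQ 10036 Q10036 (allL N10036 (tt N9055 F86520) (tt N10036 F86521) (tt N11803 (iv F133724)) (tt N10036 F86522) (tt N11943 (iv F108696)) (tt N11945 (iv F108707)) (tt N8319 F86523) (tt N8553 F86524) (tt N8437 F86525) (tt N8318 (iv D19100)))
theorem Q10038 : ∀ i, i < 10038 → P i := stepQ 10037 Q10037 (allL N10037 (tt N11946 D24190) (tt N8320 (iv D19101)) (tt N10037 F86526) (tt N8895 F86527) (tt N11899 (iv F108419)) (tt N10037 F86528) (tt N11947 D24191) (tt N11702 (iv F107316)) (tt N10037 F86529) (tt N8646 F86530))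
theorem Q10039 : ∀ i, i < 10039 → P i := stepQ 10038 Q10038 (allL N10038 (tt N9057 F86531) (tt N11947 (iv F108715)) (tt N8321 F86532) (tt N8896 F86533) (tt N11900 (iv F108424)) (tt N11948 D24192) (tt N8320 (iv D19102)) (tt N11949 D24193) (tt N10038 F86534) (tt N8647 F86535))
theorem Q10040 : ∀ i, i < 10040 → P i := stepQ 10039 Q10039 (allL N10039 (tt N9058 F86536) (tt N10039 F86537) (tt N11948 (iv F108721)) (tt N8322 F86538) (tt N11950 D24194) (tt N8321 (iv D19103)) (tt N10039 F86539) (tt N11951 D24195) (tt N11952 D24196) (tt N8648 F86540))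
theorem Q10041 : ∀ i, i < 10041 → P i := stepQ 10040 Q10040 (allL N10040 (tt N9059 F86541) (tt N10040 F86542) (tt N11949 (iv F108726)) (tt N8323 F86543) (tt N11902 (iv F108434)) (tt N11951 (iv F108738)) (tt N11705 (iv F107332)) (tt N8321 (iv D19104)) (tt N10040 F86544) (tt N8649 F86545))
theorem Q10042 : ∀ i, i < 10042 → P i := stepQ 10041 Q10041 (allL N10041 (tt N9060 F86546) (tt N10041 F86547) (tt N8899 F86548) (tt N11951 (iv F108737)) (tt N8328 F86549) (tt N8323 F86550) (tt N11953 D24197) (tt N8322 (iv D19105)) (tt N11954 D24198) (tt N8650 F86551))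
theorem Q10043 : ∀ i, i < 10043 → P i := stepQ 10042 Q10042 (allL N10042 (tt N9061 F86552) (tt N10042 F86553) (tt N8900 F86554) (tt N11952 (iv F108742)) (tt N8329 F86555) (tt N10042 F86556) (tt N10042 F86557) (tt N11954 (iv F108757)) (tt N8322 (iv D19106)) (tt N10042 F86558))
theorem Q10044 : ∀ i, i < 10044 → P i := stepQ 10043 Q10043 (allL N10043 (tt N8800 F134148) (tt N11562 F134149) (tt N8326 F86572) (tt N9067 F86573) (tt N11955 D24202) (tt N8325 (iv D19109)) (tt N10043 F86574) (tt N11956 D24203) (tt N8779 F134150) (tt N8722 F86575))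
theorem Q10045 : ∀ i, i < 10045 → P i := stepQ 10044 Q10044 (allL N10044 (tt N8953 F134080) (tt N11760 F134081) (tt N8327 F86577) (tt N9068 F86578) (tt N11906 (iv F108462)) (tt N11956 (iv F108783)) (tt N8338 F86579) (tt N8325 (iv D19110)) (tt N8342 F86580) (tt N8723 F86581))
theorem Q10046 : ∀ i, i < 10046 → P i := stepQ 10045 Q10045 (allL N10045 (tt N9062 F86582) (tt N10045 F86583) (tt N11955 (iv F108777)) (tt N11950 (iv F108732)) (tt N8326 (iv D19111)) (tt N11907 (iv F108468)) (tt N10045 F86584) (tt N11957 D24205) (tt N9242 F135270) (tt N8724 F86585))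
theorem Q10047 : ∀ i, i < 10047 → P i := stepQ 10046 Q10046 (allL N10046 (tt N9063 F86586) (tt N10046 F86587) (tt N11956 (iv F108781)) (tt N8328 F86588) (tt N11957 (iv F108793)) (tt N8327 F86589) (tt N11958 D24207) (tt N8326 (iv D19112)) (tt N9244 F135271) (tt N8725 F86590))
theorem Q10048 : ∀ i, i < 10048 → P i := stepQ 10047 Q10047 (allL N10047 (tt N9064 F86597) (tt N10047 F86598) (tt N9072 F86599) (tt N11958 (iv F108802)) (tt N11953 (iv F108749)) (tt N8341 F86600) (tt N8328 (iv D19114)) (tt N10047 F86601) (tt N11959 D24209) (tt N8726 F86602))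
theorem Q10049 : ∀ i, i < 10049 → P i := stepQ 10048 Q10048 (allL N10048 (tt N9065 F86603) (tt N10048 F86604) (tt N9073 F86605) (tt N9244 F135321) (tt N11954 (iv F108755)) (tt N8343 F86606) (tt N11959 (iv F108816)) (tt N8329 F86607) (tt N8328 (iv D19115)) (tt N10048 F86608))
theorem Q10050 : ∀ i, i < 10050 → P i := stepQ 10049 Q10049 (allL N10049 (tt N9067 F86621) (tt N8830 F134152) (tt N8331 F86622) (tt N8800 F134153) (tt N11960 D24213) (tt N8330 (iv D19118)) (tt N10049 F86624) (tt N11961 D24214) (tt N8797 F134154) (tt N8337 F86625))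
theorem Q10051 : ∀ i, i < 10051 → P i := stepQ 10050 Q10050 (allL N10050 (tt N9068 F86626) (tt N9000 F134084) (tt N8332 F86627) (tt N8953 F134085) (tt N11913 (iv F108507)) (tt N11961 (iv F108843)) (tt N8723 F86629) (tt N8330 (iv D19119)) (tt N8438 F86630) (tt N8338 F86631))
theorem Q10052 : ∀ i, i < 10052 → P i := stepQ 10051 Q10051 (allL N10051 (tt N9069 F86632) (tt N10051 F86633) (tt N11960 (iv F108837)) (tt N11724 (iv F107447)) (tt N8331 (iv D19120)) (tt N11914 (iv F108513)) (tt N10051 F86634) (tt N11962 D24216) (tt N11963 D24217) (tt N8339 F86635))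
theorem Q10053 : ∀ i, i < 10053 → P i := stepQ 10052 Q10052 (allL N10052 (tt N9070 F86636) (tt N10052 F86637) (tt N11961 (iv F108841)) (tt N8333 F86638) (tt N11962 (iv F108853)) (tt N8332 F86639) (tt N11964 D24218) (tt N8331 (iv D19121)) (tt N11965 D24219) (tt N8340 F86640))
theorem Q10054 : ∀ i, i < 10054 → P i := stepQ 10053 Q10053 (allL N10053 (tt N9071 F86641) (tt N10053 F86642) (tt N8797 F134243) (tt N8334 F86643) (tt N11963 (iv F108857)) (tt N8441 F86644) (tt N10053 F86645) (tt N11965 (iv F108871)) (tt N8331 (iv D19122)) (tt N10053 F86646))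
theorem Q10055 : ∀ i, i < 10055 → P i := stepQ 10054 Q10054 (allL N10054 (tt N9072 F86647) (tt N10054 F86648) (tt N9064 F86649) (tt N11964 (iv F108863)) (tt N11727 (iv F107464)) (tt N8726 F86650) (tt N8333 (iv D19123)) (tt N10054 F86651) (tt N11966 D24220) (tt N8341 F86652))
theorem Q10056 : ∀ i, i < 10056 → P i := stepQ 10055 Q10055 (allL N10055 (tt N9073 F86653) (tt N10055 F86654) (tt N9065 F86655) (tt N11965 (iv F108869)) (tt N11728 (iv F107470)) (tt N8442 F86656) (tt N11966 (iv F108877)) (tt N8334 F86657) (tt N8333 (iv D19124)) (tt N10055 F86658))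
theorem Q10057 : ∀ i, i < 10057 → P i := stepQ 10056 Q10056 (allL N10056 (tt N11636 F134334) (tt N8337 F86663) (tt N10056 F86664) (tt N8833 F134335) (tt N11967 D24223) (tt N8336 (iv D19126)) (tt N10056 F86665) (tt N11968 D24224) (tt N10056 F86666) (tt N8830 F134336))
theorem Q10058 : ∀ i, i < 10058 → P i := stepQ 10057 Q10057 (allL N10057 (tt N11804 (iv F133737)) (tt N8338 F86667) (tt N10057 F86668) (tt N9002 F134332) (tt N11921 (iv F108545)) (tt N11968 (iv F108895)) (tt N11760 (iv F133680)) (tt N8336 (iv D19127)) (tt N8345 F86669) (tt N9000 F134333))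
theorem Q10059 : ∀ i, i < 10059 → P i := stepQ 10058 Q10058 (allL N10058 (tt N9075 F86670) (tt N11967 (iv F108889)) (tt N8339 F86671) (tt N11969 D24225) (tt N8337 (iv D19128)) (tt N11922 (iv F108549)) (tt N10058 F86672) (tt N11970 D24226) (tt N10058 F86673) (tt N11960 (iv F108839)))
theorem Q10060 : ∀ i, i < 10060 → P i := stepQ 10059 Q10059 (allL N10059 (tt N9076 F86674) (tt N11968 (iv F108893)) (tt N8340 F86675) (tt N11499 (iv F106179)) (tt N11970 (iv F108902)) (tt N8338 F86676) (tt N11971 D24227) (tt N8337 (iv D19129)) (tt N10059 F86677) (tt N11961 (iv F108844)))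
theorem Q10061 : ∀ i, i < 10061 → P i := stepQ 10060 Q10060 (allL N10060 (tt N9077 F86678) (tt N10060 F86679) (tt N11970 (iv F108901)) (tt N11734 (iv F107495)) (tt N8340 F86680) (tt N11925 (iv F108559)) (tt N11972 D24228) (tt N8339 (iv D19130)) (tt N10060 F86681) (tt N11962 (iv F108854)))
theorem Q10062 : ∀ i, i < 10062 → P i := stepQ 10061 Q10061 (allL N10061 (tt N9078 F86682) (tt N10061 F86683) (tt N11971 (iv F108905)) (tt N8341 F86684) (tt N11972 (iv F108910)) (tt N11958 (iv F108803)) (tt N8340 (iv D19131)) (tt N10061 F86685) (tt N10061 F86686) (tt N11964 (iv F108866)))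
theorem Q10063 : ∀ i, i < 10063 → P i := stepQ 10062 Q10062 (allL N10062 (tt N8360 F86775) (tt N9079 F86776) (tt N11973 D24246) (tt N8346 (iv D19148)) (tt N8924 F86777) (tt N10062 F86778) (tt N11974 D24247) (tt N8661 F86779) (tt N11743 (iv F107632)) (tt N8348 F86780))
theorem Q10064 : ∀ i, i < 10064 → P i := stepQ 10063 Q10063 (allL N10063 (tt N8361 F86781) (tt N9080 F86782) (tt N10063 F86783) (tt N11974 (iv F109018)) (tt N8347 F86784) (tt N11975 D24248) (tt N8346 (iv D19149)) (tt N11976 D24249) (tt N11744 (iv F107638)) (tt N8349 F86785))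
theorem Q10065 : ∀ i, i < 10065 → P i := stepQ 10064 Q10064 (allL N10064 (tt N8362 F86786) (tt N9081 F86787) (tt N10064 F86788) (tt N8926 F86789) (tt N11976 (iv F109030)) (tt N10064 F86790) (tt N8663 F86791) (tt N8347 (iv D19150)) (tt N11745 (iv F107646)) (tt N8350 F86792))
theorem Q10066 : ∀ i, i < 10066 → P i := stepQ 10065 Q10065 (allL N10065 (tt N8363 F86793) (tt N11977 D24250) (tt N8348 (iv D19151)) (tt N10065 F86794) (tt N8570 F133048) (tt N10065 F86796) (tt N11978 D24251) (tt N8569 (iv F133363)) (tt N8354 F86798) (tt N11973 (iv F109015)))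
theorem Q10067 : ∀ i, i < 10067 → P i := stepQ 10066 Q10066 (allL N10066 (tt N8364 F86799) (tt N9082 F86800) (tt N11978 (iv F109040)) (tt N8349 F86801) (tt N9084 F86802) (tt N11979 D24252) (tt N8348 (iv D19152)) (tt N11980 D24253) (tt N8355 F86803) (tt N11974 (iv F109020)))
theorem Q10068 : ∀ i, i < 10068 → P i := stepQ 10067 Q10067 (allL N10067 (tt N8365 F86804) (tt N8765 F134064) (tt N10067 F86806) (tt N11979 (iv F109046)) (tt N10067 F86807) (tt N8349 (iv D19153)) (tt N10067 F86808) (tt N11981 D24254) (tt N8762 F134065) (tt N11975 (iv F109026)))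
theorem Q10069 : ∀ i, i < 10069 → P i := stepQ 10068 Q10068 (allL N10068 (tt N8366 F86809) (tt N9083 F86810) (tt N10068 F86811) (tt N11980 (iv F109050)) (tt N8350 F86812) (tt N11981 (iv F109058)) (tt N8730 F86813) (tt N8349 (iv D19154)) (tt N8357 F86814) (tt N11976 (iv F109032)))
theorem Q10070 : ∀ i, i < 10070 → P i := stepQ 10069 Q10069 (allL N10069 (tt N8367 F86815) (tt N11982 D24256) (tt N8351 (iv D19155)) (tt N10069 F86816) (tt N8571 F133584) (tt N8555 F86818) (tt N11983 D24257) (tt N8354 F86819) (tt N8569 F133585) (tt N11750 (iv F107668)))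
theorem Q10071 : ∀ i, i < 10071 → P i := stepQ 10070 Q10070 (allL N10070 (tt N8368 F86821) (tt N9084 F86822) (tt N11983 (iv F109072)) (tt N8352 F86823) (tt N9082 F86824) (tt N11984 D24258) (tt N8351 (iv D19156)) (tt N11985 D24259) (tt N8728 F86825) (tt N11751 (iv F107673)))
theorem Q10072 : ∀ i, i < 10072 → P i := stepQ 10071 Q10071 (allL N10071 (tt N8369 F86826) (tt N8584 F133034) (tt N10071 F86828) (tt N11984 (iv F109078)) (tt N10071 F86829) (tt N8352 (iv D19157)) (tt N8557 F86830) (tt N11986 D24260) (tt N11987 D24261) (tt N11752 (iv F107679)))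
theorem Q10073 : ∀ i, i < 10073 → P i := stepQ 10072 Q10072 (allL N10072 (tt N8370 F86831) (tt N9085 F86832) (tt N10072 F86833) (tt N11985 (iv F109082)) (tt N8353 F86834) (tt N11986 (iv F109090)) (tt N8357 F86835) (tt N8352 (iv D19158)) (tt N8730 F86836) (tt N11753 (iv F107685)))
theorem Q10074 : ∀ i, i < 10074 → P i := stepQ 10073 Q10073 (allL N10073 (tt N11988 D24262) (tt N8354 (iv D19159)) (tt N8560 F134184) (tt N10073 F86838) (tt N11502 (iv F106204)) (tt N8558 F86839) (tt N11989 D24263) (tt N11982 (iv F109069)) (tt N11977 (iv F109038)) (tt N11754 (iv F107689)))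
theorem Q10075 : ∀ i, i < 10075 → P i := stepQ 10074 Q10074 (allL N10074 (tt N8372 F86840) (tt N11989 (iv F109101)) (tt N8355 F86841) (tt N10074 F86842) (tt N11503 (iv F106211)) (tt N11990 D24264) (tt N8354 (iv D19160)) (tt N11991 D24265) (tt N11978 (iv F109043)) (tt N11755 (iv F107693)))
theorem Q10076 : ∀ i, i < 10076 → P i := stepQ 10075 Q10075 (allL N10075 (tt N8373 F86843) (tt N8393 (iv F133370)) (tt N11990 (iv F109107)) (tt N8356 F86845) (tt N9109 (iv F133380)) (tt N8355 (iv D19161)) (tt N8392 F132940) (tt N11992 D24267) (tt N8746 (iv F133266)) (tt N11756 (iv F107698)))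
theorem Q10077 : ∀ i, i < 10077 → P i := stepQ 10076 Q10076 (allL N10076 (tt N8374 F86847) (tt N9086 F86848) (tt N11991 (iv F109113)) (tt N8357 F86849) (tt N11505 (iv F106220)) (tt N11992 (iv F109124)) (tt N11985 (iv F109084)) (tt N8355 (iv D19162)) (tt N11980 (iv F109053)) (tt N11757 (iv F107702)))
theorem Q10078 : ∀ i, i < 10078 → P i := stepQ 10077 Q10077 (allL N10077 (tt N8375 F86850) (tt N8424 (iv F133376)) (tt N10077 F86852) (tt N11992 (iv F109123)) (tt N8359 F86853) (tt N8357 F86854) (tt N8429 F132941) (tt N8356 (iv D19163)) (tt N8763 (iv F133271)) (tt N11758 (iv F107708)))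
theorem Q10079 : ∀ i, i < 10079 → P i := stepQ 10078 Q10078 (allL N10078 (tt N11973 (iv F109010)) (tt N9194 (iv F133497)) (tt N8360 (iv D19174)) (tt N10078 F86909) (tt N8943 F86910) (tt N10078 F86911) (tt N11993 D24281) (tt N8672 F86912) (tt N11775 (iv F107838)) (tt N8363 F86913))
theorem Q10080 : ∀ i, i < 10080 → P i := stepQ 10079 Q10079 (allL N10079 (tt N11974 (iv F109016)) (tt N8384 F86914) (tt N11993 (iv F109200)) (tt N8361 F86915) (tt N8944 F86916) (tt N11994 D24282) (tt N8360 (iv D19175)) (tt N11995 D24283) (tt N11776 (iv F107843)) (tt N8364 F86917))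
theorem Q10081 : ∀ i, i < 10081 → P i := stepQ 10080 Q10080 (allL N10080 (tt N11975 (iv F109021)) (tt N8385 F86918) (tt N10080 F86919) (tt N11994 (iv F109205)) (tt N10080 F86920) (tt N8361 (iv D19176)) (tt N10080 F86921) (tt N11996 D24284) (tt N11997 D24285) (tt N8365 F86922))
theorem Q10082 : ∀ i, i < 10082 → P i := stepQ 10081 Q10081 (allL N10081 (tt N11976 (iv F109027)) (tt N8386 F86923) (tt N10081 F86924) (tt N11995 (iv F109209)) (tt N8362 F86925) (tt N11996 (iv F109216)) (tt N8675 F86926) (tt N8361 (iv D19177)) (tt N11778 (iv F107852)) (tt N8366 F86927))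
theorem Q10083 : ∀ i, i < 10083 → P i := stepQ 10082 Q10082 (allL N10082 (tt N11978 (iv F109039)) (tt N9122 (iv F133435)) (tt N8364 F86934) (tt N10082 F86935) (tt N9096 F86936) (tt N11998 D24288) (tt N8363 (iv D19179)) (tt N11999 D24289) (tt N8372 F86937) (tt N11993 (iv F109203)))
theorem Q10084 : ∀ i, i < 10084 → P i := stepQ 10083 Q10083 (allL N10083 (tt N11979 (iv F109044)) (tt N8388 F86938) (tt N11998 (iv F109233)) (tt N8365 F86939) (tt N12000 D24290) (tt N8364 (iv D19180)) (tt N10083 F86940) (tt N12001 D24291) (tt N12002 D24292) (tt N11994 (iv F109207)))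
theorem Q10085 : ∀ i, i < 10085 → P i := stepQ 10084 Q10084 (allL N10084 (tt N11980 (iv F109048)) (tt N8389 F86941) (tt N11999 (iv F109236)) (tt N8366 F86942) (tt N9098 F86943) (tt N12001 (iv F109247)) (tt N8738 F86944) (tt N8364 (iv D19181)) (tt N8374 F86945) (tt N11995 (iv F109212)))
theorem Q10086 : ∀ i, i < 10086 → P i := stepQ 10085 Q10085 (allL N10085 (tt N11981 (iv F109054)) (tt N8390 F86946) (tt N10085 F86947) (tt N12001 (iv F109246)) (tt N10085 F86948) (tt N8366 F86949) (tt N12003 D24293) (tt N8365 (iv D19182)) (tt N12004 D24294) (tt N11996 (iv F109217)))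
theorem Q10087 : ∀ i, i < 10087 → P i := stepQ 10086 Q10086 (allL N10086 (tt N8762 (iv F133269)) (tt N8391 F86950) (tt N10086 F86951) (tt N12002 (iv F109249)) (tt N10086 F86952) (tt N8376 F86953) (tt N10086 F86954) (tt N12004 (iv F109261)) (tt N8365 (iv D19183)) (tt N12005 D24295))
theorem Q10088 : ∀ i, i < 10088 → P i := stepQ 10087 Q10087 (allL N10087 (tt N8566 (iv F133624)) (tt N8367 (iv D19184)) (tt N8392 F86955) (tt N10087 F86956) (tt N9091 F86957) (tt N8559 F132945) (tt N11990 (iv F133586)) (tt N8371 F86959) (tt N8735 F86960) (tt N11785 (iv F107876)))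
theorem Q10089 : ∀ i, i < 10089 → P i := stepQ 10088 Q10088 (allL N10088 (tt N11983 (iv F109071)) (tt N11990 F134206) (tt N8368 F86961) (tt N10088 F86962) (tt N9092 F86963) (tt N11989 (iv F134840)) (tt N8367 (iv D19185)) (tt N12006 D24299) (tt N8736 F86964) (tt N11786 (iv F107880)))
theorem Q10090 : ∀ i, i < 10090 → P i := stepQ 10089 Q10089 (allL N10089 (tt N11984 (iv F109076)) (tt N8394 F86965) (tt N11989 (iv F134839)) (tt N8369 F86966) (tt N12007 D24300) (tt N8368 (iv D19186)) (tt N8560 F86967) (tt N12008 D24301) (tt N12009 D24302) (tt N11787 (iv F107884)))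
theorem Q10091 : ∀ i, i < 10091 → P i := stepQ 10090 Q10090 (allL N10090 (tt N11985 (iv F109080)) (tt N8395 F86968) (tt N12006 (iv F109281)) (tt N8370 F86969) (tt N9094 F86970) (tt N12008 (iv F109292)) (tt N8374 F86971) (tt N8368 (iv D19187)) (tt N8738 F86972) (tt N11788 (iv F107889)))
theorem Q10092 : ∀ i, i < 10092 → P i := stepQ 10091 Q10091 (allL N10091 (tt N11986 (iv F109086)) (tt N8396 F86973) (tt N10091 F86974) (tt N12008 (iv F109291)) (tt N10091 F86975) (tt N8370 F86976) (tt N12010 D24303) (tt N8369 (iv D19188)) (tt N12011 D24304) (tt N11789 (iv F107894)))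
theorem Q10093 : ∀ i, i < 10093 → P i := stepQ 10092 Q10092 (allL N10092 (tt N11987 (iv F109091)) (tt N8397 F86977) (tt N10092 F86978) (tt N12009 (iv F109294)) (tt N10092 F86979) (tt N8740 F86980) (tt N8563 F86981) (tt N12011 (iv F109306)) (tt N8369 (iv D19189)) (tt N12012 D24305))
theorem Q10094 : ∀ i, i < 10094 → P i := stepQ 10093 Q10093 (allL N10093 (tt N8371 (iv D19190)) (tt N11988 (iv F109097)) (tt N8398 F86982) (tt N10093 F86983) (tt N8578 (iv F133053)) (tt N8564 F86984) (tt N12013 D24306) (tt N8566 (iv F133625)) (tt N8576 (iv F133529)) (tt N11791 (iv F107902)))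
theorem Q10095 : ∀ i, i < 10095 → P i := stepQ 10094 Q10094 (allL N10094 (tt N12013 (iv F109312)) (tt N8372 F86985) (tt N8399 F86986) (tt N10094 F86987) (tt N9124 F134275) (tt N12014 D24307) (tt N8371 (iv D19191)) (tt N12015 D24308) (tt N9122 F134276) (tt N11792 (iv F107906)))
theorem Q10096 : ∀ i, i < 10096 → P i := stepQ 10095 Q10095 (allL N10095 (tt N11990 (iv F109105)) (tt N12014 (iv F109315)) (tt N8373 F86988) (tt N10095 F86989) (tt N12016 D24309) (tt N8372 (iv D19192)) (tt N8566 F86990) (tt N12017 D24310) (tt N12018 D24311) (tt N11793 (iv F107910)))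
theorem Q10097 : ∀ i, i < 10097 → P i := stepQ 10096 Q10096 (allL N10096 (tt N11991 (iv F109112)) (tt N12015 (iv F109319)) (tt N8374 F86991) (tt N10096 F86992) (tt N11514 (iv F106296)) (tt N12017 (iv F109329)) (tt N12006 (iv F109284)) (tt N8372 (iv D19193)) (tt N11999 (iv F109240)) (tt N11794 (iv F107913)))
theorem Q10098 : ∀ i, i < 10098 → P i := stepQ 10097 Q10097 (allL N10097 (tt N9109 (iv F133379)) (tt N8402 F86993) (tt N12016 (iv F109323)) (tt N8378 F86994) (tt N8373 (iv D19194)) (tt N11515 (iv F106301)) (tt N8567 F86995) (tt N12019 D24312) (tt N8579 F132974) (tt N11795 (iv F107917)))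
theorem Q10099 : ∀ i, i < 10099 → P i := stepQ 10098 Q10098 (allL N10098 (tt N11992 (iv F109121)) (tt N8403 F86996) (tt N12017 (iv F109327)) (tt N8375 F86997) (tt N12019 (iv F109337)) (tt N8374 F86998) (tt N12020 D24314) (tt N8373 (iv D19195)) (tt N12021 D24315) (tt N11796 (iv F107921)))
theorem Q10100 : ∀ i, i < 10100 → P i := stepQ 10099 Q10099 (allL N10099 (tt N8746 (iv F133265)) (tt N8404 F86999) (tt N12018 (iv F109331)) (tt N8376 F87000) (tt N8579 F132944) (tt N12002 (iv F109250)) (tt N8568 F87001) (tt N12021 (iv F109350)) (tt N8373 (iv D19196)) (tt N12022 D24316))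
theorem Q10101 : ∀ i, i < 10101 → P i := stepQ 10100 Q10100 (allL N10100 (tt N8429 F132943) (tt N8405 F87002) (tt N10100 F87003) (tt N12020 (iv F109346)) (tt N8380 F87004) (tt N12010 (iv F109300)) (tt N8375 (iv D19197)) (tt N8409 F132959) (tt N8408 (iv F132990)) (tt N11798 (iv F107929)))
theorem Q10102 : ∀ i, i < 10102 → P i := stepQ 10101 Q10101 (allL N10101 (tt N8763 (iv F133270)) (tt N8406 F87006) (tt N10101 F87007) (tt N12021 (iv F109349)) (tt N8381 F87008) (tt N12004 (iv F109260)) (tt N8408 (iv F132989)) (tt N8376 F87009) (tt N8375 (iv D19198)) (tt N11869 (iv F133622)))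
theorem Q10103 : ∀ i, i < 10103 → P i := stepQ 10102 Q10102 (allL N10102 (tt N8711 (iv F133272)) (tt N8407 F87010) (tt N10102 F87011) (tt N12022 (iv F109352)) (tt N8382 F87012) (tt N12005 (iv F109265)) (tt N8516 F132950) (tt N11869 (iv F133621)) (tt N11800 (iv F107938)) (tt N8376 (iv D19199)))
theorem Q10104 : ∀ i, i < 10104 → P i := stepQ 10103 Q10103 (allL N10103 (tt N9128 (iv F133390)) (tt N8408 F87031) (tt N8435 (iv F133671)) (tt N12019 (iv F109336)) (tt N8379 F87032) (tt N11523 (iv F106343)) (tt N8406 F132976) (tt N8378 (iv D19203)) (tt N8405 F132977) (tt N11801 (iv F107956)))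
theorem Q10105 : ∀ i, i < 10105 → P i := stepQ 10104 Q10104 (allL N10104 (tt N9104 F87064) (tt N8992 F134139) (tt N8384 F87065) (tt N8411 F87066) (tt N8949 F134140) (tt N12023 D24332) (tt N8383 (iv D19211)) (tt N12024 D24333) (tt N11834 (iv F108109)) (tt N8387 F87068))
theorem Q10106 : ∀ i, i < 10106 → P i := stepQ 10105 Q10105 (allL N10105 (tt N9105 F87069) (tt N11994 (iv F109204)) (tt N12023 (iv F109431)) (tt N8385 F87070) (tt N12025 D24334) (tt N8384 (iv D19212)) (tt N10105 F87071) (tt N12026 D24335) (tt N12027 D24336) (tt N8388 F87072))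
theorem Q10107 : ∀ i, i < 10107 → P i := stepQ 10106 Q10106 (allL N10106 (tt N9106 F87073) (tt N11995 (iv F109208)) (tt N12024 (iv F109436)) (tt N8386 F87074) (tt N8986 F87075) (tt N12026 (iv F109448)) (tt N8692 F87076) (tt N8384 (iv D19213)) (tt N11836 (iv F108118)) (tt N8389 F87077))
theorem Q10108 : ∀ i, i < 10108 → P i := stepQ 10107 Q10107 (allL N10107 (tt N9107 F87078) (tt N11996 (iv F109213)) (tt N8414 F87079) (tt N12026 (iv F109447)) (tt N10107 F87080) (tt N8386 F87081) (tt N12028 D24337) (tt N8385 (iv D19214)) (tt N12029 D24338) (tt N8390 F87082))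
theorem Q10109 : ∀ i, i < 10109 → P i := stepQ 10108 Q10108 (allL N10108 (tt N9108 F87083) (tt N11997 (iv F109218)) (tt N8415 F87084) (tt N12027 (iv F109451)) (tt N10108 F87085) (tt N11838 (iv F108126)) (tt N10108 F87086) (tt N12029 (iv F109462)) (tt N8385 (iv D19215)) (tt N12030 D24339))
theorem Q10110 : ∀ i, i < 10110 → P i := stepQ 10109 Q10109 (allL N10109 (tt N9110 F87097) (tt N8749 F134244) (tt N8388 F87098) (tt N8416 F87099) (tt N8737 (iv F134591)) (tt N8387 (iv D19218)) (tt N10109 F87100) (tt N12031 D24344) (tt N12032 D24345) (tt N12023 (iv F109434)))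
theorem Q10111 : ∀ i, i < 10111 → P i := stepQ 10110 Q10110 (allL N10110 (tt N9111 F87101) (tt N9125 F134060) (tt N8389 F87102) (tt N8417 F87103) (tt N9102 F134061) (tt N12031 (iv F109488)) (tt N8748 F87105) (tt N8387 (iv D19219)) (tt N8401 F87106) (tt N12024 (iv F109440)))
theorem Q10112 : ∀ i, i < 10112 → P i := stepQ 10111 Q10111 (allL N10111 (tt N9112 F87107) (tt N12000 (iv F109241)) (tt N8737 (iv F134590)) (tt N10111 F87108) (tt N8388 (iv D19220)) (tt N8736 F134205) (tt N10111 F87110) (tt N12033 D24346) (tt N12034 D24347) (tt N12025 (iv F109445)))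
theorem Q10113 : ∀ i, i < 10113 → P i := stepQ 10112 Q10112 (allL N10112 (tt N9113 F87111) (tt N12001 (iv F109245)) (tt N12031 (iv F109486)) (tt N8390 F87112) (tt N12033 (iv F109496)) (tt N8389 F87113) (tt N12035 D24348) (tt N8388 (iv D19221)) (tt N12036 D24349) (tt N12026 (iv F109449)))
theorem Q10114 : ∀ i, i < 10114 → P i := stepQ 10113 Q10113 (allL N10113 (tt N9114 F87114) (tt N12002 (iv F109248)) (tt N12032 (iv F109490)) (tt N8391 F87115) (tt N12034 (iv F109500)) (tt N8404 F87116) (tt N10113 F87117) (tt N12036 (iv F109509)) (tt N8388 (iv D19222)) (tt N12037 D24350))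
theorem Q10115 : ∀ i, i < 10115 → P i := stepQ 10114 Q10114 (allL N10114 (tt N9115 F87118) (tt N12003 (iv F109252)) (tt N8421 F87119) (tt N12035 (iv F109503)) (tt N10114 F87120) (tt N8752 F87121) (tt N8390 (iv D19223)) (tt N10114 F87122) (tt N12038 D24351) (tt N12028 (iv F109458)))
theorem Q10116 : ∀ i, i < 10116 → P i := stepQ 10115 Q10115 (allL N10115 (tt N9116 F87123) (tt N12004 (iv F109257)) (tt N8422 F87124) (tt N12036 (iv F109507)) (tt N10115 F87125) (tt N8406 F87126) (tt N12038 (iv F109517)) (tt N8391 F87127) (tt N8390 (iv D19224)) (tt N12039 D24352))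
theorem Q10117 : ∀ i, i < 10117 → P i := stepQ 10116 Q10116 (allL N10116 (tt N9117 F87128) (tt N12005 (iv F109262)) (tt N8423 F87129) (tt N12037 (iv F109511)) (tt N10116 F87130) (tt N8407 F87131) (tt N10116 F87132) (tt N12039 (iv F109523)) (tt N12030 (iv F109467)) (tt N8391 (iv D19225)))
theorem Q10118 : ∀ i, i < 10118 → P i := stepQ 10117 Q10117 (allL N10117 (tt N9102 F134200) (tt N11992 F134201) (tt N8395 F87148) (tt N8424 F87149) (tt N9111 F87150) (tt N9086 F134202) (tt N8401 F87151) (tt N8393 (iv D19229)) (tt N8748 F87152) (tt N11849 (iv F108176)))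
theorem Q10119 : ∀ i, i < 10119 → P i := stepQ 10118 Q10118 (allL N10118 (tt N8736 F134191) (tt N12007 (iv F109286)) (tt N8728 F134192) (tt N10118 F87154) (tt N8394 (iv D19230)) (tt N9112 F87155) (tt N8569 F87156) (tt N12040 D24359) (tt N11983 (iv F134400)) (tt N11850 (iv F108181)))
theorem Q10120 : ∀ i, i < 10120 → P i := stepQ 10119 Q10119 (allL N10119 (tt N9101 F134193) (tt N12008 (iv F109290)) (tt N9086 F134194) (tt N8396 F87158) (tt N12040 (iv F109552)) (tt N8395 F87159) (tt N12041 D24361) (tt N8394 (iv D19231)) (tt N12042 D24362) (tt N11851 (iv F108185)))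
theorem Q10121 : ∀ i, i < 10121 → P i := stepQ 10120 Q10120 (allL N10120 (tt N9092 F134195) (tt N12009 (iv F109293)) (tt N9082 F134196) (tt N8397 F87161) (tt N11983 (iv F134399)) (tt N8751 F87162) (tt N8571 F87163) (tt N12042 (iv F109565)) (tt N8394 (iv D19232)) (tt N12043 D24363))
theorem Q10122 : ∀ i, i < 10122 → P i := stepQ 10121 Q10121 (allL N10121 (tt N9118 F87164) (tt N12010 (iv F109297)) (tt N8425 F87165) (tt N12041 (iv F109559)) (tt N10121 F87166) (tt N8405 F87167) (tt N8396 (iv D19233)) (tt N8572 F87168) (tt N12044 D24364) (tt N11853 (iv F108194)))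
theorem Q10123 : ∀ i, i < 10123 → P i := stepQ 10122 Q10122 (allL N10122 (tt N9119 F87169) (tt N12011 (iv F109302)) (tt N8426 F87170) (tt N12042 (iv F109563)) (tt N10122 F87171) (tt N8753 F87172) (tt N12044 (iv F109573)) (tt N8397 F87173) (tt N8396 (iv D19234)) (tt N12045 D24365))
theorem Q10124 : ∀ i, i < 10124 → P i := stepQ 10123 Q10123 (allL N10123 (tt N9120 F87174) (tt N12012 (iv F109307)) (tt N8427 F87175) (tt N12043 (iv F109567)) (tt N10123 F87176) (tt N8754 F87177) (tt N8574 F87178) (tt N12045 (iv F109579)) (tt N11855 (iv F108203)) (tt N8397 (iv D19235)))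
theorem Q10125 : ∀ i, i < 10125 → P i := stepQ 10124 Q10124 (allL N10124 (tt N8399 F87179) (tt N8579 (iv F133386)) (tt N12013 (iv F109313)) (tt N8409 F132947) (tt N8404 (iv F133437)) (tt N12046 D24366) (tt N8398 (iv D19236)) (tt N12020 (iv F133609)) (tt N8402 (iv F133535)) (tt N11856 (iv F108207)))
theorem Q10126 : ∀ i, i < 10126 → P i := stepQ 10125 Q10125 (allL N10125 (tt N12046 (iv F109580)) (tt N8400 F87182) (tt N12014 (iv F109316)) (tt N8428 F87183) (tt N12047 D24368) (tt N8399 (iv D19237)) (tt N8575 F87184) (tt N12048 D24369) (tt N12049 D24370) (tt N11857 (iv F108211)))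
theorem Q10127 : ∀ i, i < 10127 → P i := stepQ 10126 Q10126 (allL N10126 (tt N12020 (iv F133608)) (tt N8401 F87185) (tt N12015 (iv F109320)) (tt N8429 F87186) (tt N9126 F134279) (tt N12048 (iv F109592)) (tt N11992 (iv F133588)) (tt N8399 (iv D19238)) (tt N9125 F134280) (tt N11858 (iv F108214)))
theorem Q10128 : ∀ i, i < 10128 → P i := stepQ 10127 Q10127 (allL N10127 (tt N9122 F87187) (tt N12047 (iv F109587)) (tt N8402 F87188) (tt N10127 F87189) (tt N8400 (iv D19239)) (tt N11530 (iv F106384)) (tt N8576 F87190) (tt N12050 D24371) (tt N12013 (iv F133600)) (tt N11859 (iv F108219)))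
theorem Q10129 : ∀ i, i < 10129 → P i := stepQ 10128 Q10128 (allL N10128 (tt N9123 F87191) (tt N12048 (iv F109590)) (tt N8403 F87192) (tt N8430 F87193) (tt N12050 (iv F109599)) (tt N8401 F87194) (tt N12051 D24373) (tt N8400 (iv D19240)) (tt N12052 D24374) (tt N11860 (iv F108224)))
theorem Q10130 : ∀ i, i < 10130 → P i := stepQ 10129 Q10129 (allL N10129 (tt N9124 F87195) (tt N12049 (iv F109593)) (tt N8404 F87196) (tt N8431 F87197) (tt N12013 (iv F133599)) (tt N12032 (iv F109492)) (tt N8578 F87198) (tt N12052 (iv F109612)) (tt N8400 (iv D19241)) (tt N12053 D24375))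
theorem Q10131 : ∀ i, i < 10131 → P i := stepQ 10130 Q10130 (allL N10130 (tt N9125 F87199) (tt N12019 (iv F109335)) (tt N12050 (iv F109597)) (tt N8408 F87200) (tt N8403 F87201) (tt N11532 (iv F106398)) (tt N12021 (iv F133616)) (tt N8402 (iv D19242)) (tt N12020 (iv F133637)) (tt N11862 (iv F108232)))
theorem Q10132 : ∀ i, i < 10132 → P i := stepQ 10131 Q10131 (allL N10131 (tt N9121 F134223) (tt N12020 (iv F109345)) (tt N12051 (iv F109606)) (tt N8405 F87207) (tt N12021 (iv F133615)) (tt N12041 (iv F109560)) (tt N8403 (iv D19244)) (tt N8579 F87208) (tt N12019 (iv F133715)) (tt N11864 (iv F108240)))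
theorem Q10133 : ∀ i, i < 10133 → P i := stepQ 10132 Q10132 (allL N10132 (tt N9126 F87209) (tt N12021 (iv F109348)) (tt N12052 (iv F109610)) (tt N8406 F87210) (tt N12020 (iv F133636)) (tt N12036 (iv F109508)) (tt N12019 (iv F133714)) (tt N8404 F87211) (tt N8403 (iv D19245)) (tt N12054 D24381))
theorem Q10134 : ∀ i, i < 10134 → P i := stepQ 10133 Q10133 (allL N10133 (tt N9127 F87212) (tt N12022 (iv F109351)) (tt N12053 (iv F109614)) (tt N8407 F87213) (tt N11856 (iv F133638)) (tt N12037 (iv F109512)) (tt N8580 F87214) (tt N12054 (iv F109639)) (tt N11866 (iv F108247)) (tt N8404 (iv D19246)))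
theorem Q10135 : ∀ i, i < 10135 → P i := stepQ 10134 Q10134 (allL N10134 (tt N9129 F87220) (tt N11869 (iv F133620)) (tt N8436 F87221) (tt N12054 (iv F109638)) (tt N8410 F87222) (tt N12039 (iv F109522)) (tt N11801 (iv F133722)) (tt N8407 F87223) (tt N11868 (iv F108257)) (tt N8406 (iv D19248)))
theorem Q10136 : ∀ i, i < 10136 → P i := stepQ 10135 Q10135 (allL N10135 (tt N8428 (iv F133434)) (tt N8572 F132957) (tt N10135 F87234) (tt N12046 (iv F133635)) (tt N10135 F87235) (tt N8409 (iv D19251)) (tt N8562 F132958) (tt N12010 (iv F133631)) (tt N11541 (iv F106437)) (tt N11934 (iv F133651)))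
theorem Q10137 : ∀ i, i < 10137 → P i := stepQ 10136 Q10136 (allL N10136 (tt N9132 F87270) (tt N8695 F134158) (tt N8412 F87271) (tt N12023 (iv F109432)) (tt N8676 F134159) (tt N8411 (iv D19259)) (tt N10136 F87272) (tt N12055 D24397) (tt N12056 D24398) (tt N8416 F87273))
theorem Q10138 : ∀ i, i < 10138 → P i := stepQ 10137 Q10137 (allL N10137 (tt N9133 F87274) (tt N8998 F134069) (tt N8413 F87275) (tt N12024 (iv F109437)) (tt N8438 F87276) (tt N12055 (iv F109715)) (tt N8713 F87277) (tt N8411 (iv D19260)) (tt N11913 (iv F108509)) (tt N8417 F87278))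
theorem Q10139 : ∀ i, i < 10139 → P i := stepQ 10138 Q10138 (allL N10138 (tt N9134 F87279) (tt N10138 F87280) (tt N8676 F134239) (tt N10138 F87281) (tt N8412 (iv D19261)) (tt N8439 F87282) (tt N10138 F87283) (tt N12057 D24399) (tt N12058 D24400) (tt N8418 F87284))
theorem Q10140 : ∀ i, i < 10140 → P i := stepQ 10139 Q10139 (allL N10139 (tt N9135 F87285) (tt N10139 F87286) (tt N12055 (iv F109714)) (tt N8414 F87287) (tt N12057 (iv F109723)) (tt N8413 F87288) (tt N12059 D24401) (tt N8412 (iv D19262)) (tt N12060 D24402) (tt N8419 F87289))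
theorem Q10141 : ∀ i, i < 10141 → P i := stepQ 10140 Q10140 (allL N10140 (tt N9136 F87290) (tt N10140 F87291) (tt N12056 (iv F109718)) (tt N8415 F87292) (tt N12058 (iv F109729)) (tt N11916 (iv F108523)) (tt N10140 F87293) (tt N12060 (iv F109741)) (tt N8412 (iv D19263)) (tt N12061 D24403))
theorem Q10142 : ∀ i, i < 10142 → P i := stepQ 10141 Q10141 (allL N10141 (tt N9137 F87294) (tt N10141 F87295) (tt N12028 (iv F109454)) (tt N12059 (iv F109734)) (tt N10141 F87296) (tt N8716 F87297) (tt N8414 (iv D19264)) (tt N10141 F87298) (tt N12062 D24404) (tt N8421 F87299))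
theorem Q10143 : ∀ i, i < 10143 → P i := stepQ 10142 Q10142 (allL N10142 (tt N9138 F87300) (tt N10142 F87301) (tt N12029 (iv F109460)) (tt N12060 (iv F109740)) (tt N10142 F87302) (tt N11918 (iv F108530)) (tt N12062 (iv F109750)) (tt N8415 F87303) (tt N8414 (iv D19265)) (tt N12063 D24405))
theorem Q10144 : ∀ i, i < 10144 → P i := stepQ 10143 Q10143 (allL N10143 (tt N9139 F87304) (tt N10143 F87305) (tt N12030 (iv F109464)) (tt N12061 (iv F109744)) (tt N10143 F87306) (tt N11919 (iv F108534)) (tt N10143 F87307) (tt N12063 (iv F109755)) (tt N8423 F87308) (tt N8415 (iv D19266)))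
theorem Q10145 : ∀ i, i < 10145 → P i := stepQ 10144 Q10144 (allL N10144 (tt N9141 F87326) (tt N8755 F134245) (tt N8419 F87327) (tt N12031 (iv F109487)) (tt N8741 F134246) (tt N8417 F87328) (tt N12064 D24414) (tt N8416 (iv D19271)) (tt N12065 D24415) (tt N12055 (iv F109716)))
theorem Q10146 : ∀ i, i < 10146 → P i := stepQ 10145 Q10145 (allL N10145 (tt N9142 F87329) (tt N8756 F133667) (tt N8420 F87330) (tt N12032 (iv F109491)) (tt N8742 F133668) (tt N8431 F87331) (tt N10145 F87332) (tt N12065 (iv F109798)) (tt N8416 (iv D19272)) (tt N12066 D24416))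
theorem Q10147 : ∀ i, i < 10147 → P i := stepQ 10146 Q10146 (allL N10146 (tt N9143 F87333) (tt N10146 F87334) (tt N8741 F134237) (tt N10146 F87335) (tt N8419 F87336) (tt N8443 F87337) (tt N12067 D24417) (tt N8418 (iv D19273)) (tt N12068 D24418) (tt N12057 (iv F109725)))
theorem Q10148 : ∀ i, i < 10148 → P i := stepQ 10147 Q10147 (allL N10147 (tt N9144 F87338) (tt N10147 F87339) (tt N8742 F134238) (tt N10147 F87340) (tt N8420 F87341) (tt N10147 F87342) (tt N10147 F87343) (tt N12068 (iv F109814)) (tt N8418 (iv D19274)) (tt N12069 D24419))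
theorem Q10149 : ∀ i, i < 10149 → P i := stepQ 10148 Q10148 (allL N10148 (tt N9145 F87344) (tt N10148 F87345) (tt N12064 (iv F109792)) (tt N8421 F87346) (tt N12067 (iv F109806)) (tt N8766 F87347) (tt N8419 (iv D19275)) (tt N10148 F87348) (tt N12070 D24420) (tt N12059 (iv F109737)))
theorem Q10150 : ∀ i, i < 10150 → P i := stepQ 10149 Q10149 (allL N10149 (tt N9146 F87349) (tt N10149 F87350) (tt N12065 (iv F109796)) (tt N8422 F87351) (tt N12068 (iv F109812)) (tt N8433 F87352) (tt N12070 (iv F109824)) (tt N8420 F87353) (tt N8419 (iv D19276)) (tt N12071 D24421))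
theorem Q10151 : ∀ i, i < 10151 → P i := stepQ 10150 Q10150 (allL N10150 (tt N9147 F87354) (tt N10150 F87355) (tt N12066 (iv F109800)) (tt N8423 F87356) (tt N12069 (iv F109818)) (tt N8434 F87357) (tt N10150 F87358) (tt N12071 (iv F109830)) (tt N12061 (iv F109746)) (tt N8420 (iv D19277)))
theorem Q10152 : ∀ i, i < 10152 → P i := stepQ 10151 Q10151 (allL N10151 (tt N9148 F87359) (tt N10151 F87360) (tt N12038 (iv F109515)) (tt N12070 (iv F109823)) (tt N10151 F87361) (tt N12072 D24422) (tt N8422 F87362) (tt N10151 F87363) (tt N8421 (iv D19278)) (tt N12073 D24423))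
theorem Q10153 : ∀ i, i < 10153 → P i := stepQ 10152 Q10152 (allL N10152 (tt N9149 F87364) (tt N10152 F87365) (tt N12039 (iv F109520)) (tt N12071 (iv F109828)) (tt N10152 F87366) (tt N8436 F87367) (tt N12073 (iv F109839)) (tt N8423 F87368) (tt N12063 (iv F109756)) (tt N8422 (iv D19279)))
theorem Q10154 : ∀ i, i < 10154 → P i := stepQ 10153 Q10153 (allL N10153 (tt N9150 F87419) (tt N10153 F87420) (tt N12044 (iv F109571)) (tt N9503 F134266) (tt N10153 F87421) (tt N12074 D24440) (tt N8426 F87422) (tt N8581 F87423) (tt N8425 (iv D19291)) (tt N12075 D24441))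
theorem Q10155 : ∀ i, i < 10155 → P i := stepQ 10154 Q10154 (allL N10154 (tt N9151 F87424) (tt N10154 F87425) (tt N12045 (iv F109576)) (tt N9504 F135288) (tt N10154 F87426) (tt N8770 F87427) (tt N12075 (iv F109923)) (tt N8427 F87428) (tt N11933 (iv F108644)) (tt N8426 (iv D19292)))
theorem Q10156 : ∀ i, i < 10156 → P i := stepQ 10155 Q10155 (allL N10155 (tt N12010 (iv F133610)) (tt N8430 F87438) (tt N10155 F87439) (tt N12048 (iv F109591)) (tt N10155 F87440) (tt N8429 F87441) (tt N11986 (iv F133664)) (tt N8428 (iv D19295)) (tt N12076 D24445) (tt N11935 (iv F108660)))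
theorem Q10157 : ∀ i, i < 10157 → P i := stepQ 10156 Q10156 (allL N10156 (tt N11541 F133665) (tt N8431 F87442) (tt N10156 F87443) (tt N12049 (iv F109594)) (tt N10156 F87444) (tt N8756 F133666) (tt N8583 F87445) (tt N12076 (iv F109942)) (tt N8428 (iv D19296)) (tt N12077 D24446))
theorem Q10158 : ∀ i, i < 10158 → P i := stepQ 10157 Q10157 (allL N10157 (tt N9099 (iv F133356)) (tt N11986 (iv F133663)) (tt N8432 F87447) (tt N12051 (iv F109607)) (tt N10157 F87448) (tt N9085 (iv F133343)) (tt N8430 (iv D19297)) (tt N8584 F87449) (tt N12078 D24447) (tt N11937 (iv F108669)))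
theorem Q10159 : ∀ i, i < 10159 → P i := stepQ 10158 Q10158 (allL N10158 (tt N9153 F87450) (tt N12076 (iv F109939)) (tt N8433 F87451) (tt N12052 (iv F109611)) (tt N10158 F87452) (tt N12065 (iv F109797)) (tt N12078 (iv F109950)) (tt N8431 F87453) (tt N8430 (iv D19298)) (tt N12079 D24448))
theorem Q10160 : ∀ i, i < 10160 → P i := stepQ 10159 Q10159 (allL N10159 (tt N9154 F87454) (tt N12077 (iv F109943)) (tt N8434 F87455) (tt N12053 (iv F109615)) (tt N10159 F87456) (tt N12066 (iv F109801)) (tt N8586 F87457) (tt N12079 (iv F109955)) (tt N11939 (iv F108678)) (tt N8431 (iv D19299)))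
theorem Q10161 : ∀ i, i < 10161 → P i := stepQ 10160 Q10160 (allL N10160 (tt N9155 F87458) (tt N10160 F87459) (tt N12078 (iv F109948)) (tt N8435 F87460) (tt N10160 F87461) (tt N12080 D24449) (tt N8433 F87462) (tt N8587 F87463) (tt N8432 (iv D19300)) (tt N12081 D24450))
theorem Q10162 : ∀ i, i < 10162 → P i := stepQ 10161 Q10161 (allL N10161 (tt N9156 F87464) (tt N10161 F87465) (tt N12079 (iv F109953)) (tt N8436 F87466) (tt N10161 F87467) (tt N12071 (iv F109829)) (tt N12081 (iv F109964)) (tt N8434 F87468) (tt N11941 (iv F108690)) (tt N8433 (iv D19301)))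
theorem Q10163 : ∀ i, i < 10163 → P i := stepQ 10162 Q10162 (allL N10162 (tt N9157 F87469) (tt N10162 F87470) (tt N11523 F134411) (tt N12080 (iv F109958)) (tt N11521 (iv F133702)) (tt N8435 (iv D19302)) (tt N12072 (iv F109833)) (tt N8589 F87471) (tt N12074 (iv F109919)) (tt N12082 D24452))
theorem Q10164 : ∀ i, i < 10164 → P i := stepQ 10163 Q10163 (allL N10163 (tt N9158 F87472) (tt N10163 F87473) (tt N11801 F134412) (tt N12081 (iv F109962)) (tt N8437 F87474) (tt N12082 (iv F109972)) (tt N8436 F87475) (tt N8590 F87476) (tt N11943 (iv F108699)) (tt N8435 (iv D19303)))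
theorem Q10165 : ∀ i, i < 10165 → P i := stepQ 10164 Q10164 (allL N10164 (tt N9161 F87518) (tt N10164 F87519) (tt N8677 F134240) (tt N10164 F87520) (tt N8440 F87521) (tt N12057 (iv F109724)) (tt N10164 F87522) (tt N8439 (iv D19312)) (tt N12083 D24465) (tt N8443 F87523))
theorem Q10166 : ∀ i, i < 10166 → P i := stepQ 10165 Q10165 (allL N10165 (tt N9162 F87524) (tt N10165 F87525) (tt N8604 F134241) (tt N10165 F87526) (tt N8441 F87527) (tt N9393 (iv F87530)) (tt N8444 F87528) (tt N12083 (iv F110045)) (tt N8439 (iv D19313)) (tt N10165 F87529))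
theorem Q10167 : ∀ i, i < 10167 → P i := stepQ 10166 Q10166 (allL N10166 (tt N9163 F87531) (tt N10166 F87532) (tt N8798 F134242) (tt N8442 F87533) (tt N12083 (iv F110043)) (tt N11965 (iv F108870)) (tt N10166 F87534) (tt N8441 F87535) (tt N8440 (iv D19314)) (tt N10166 F87536))
theorem Q10168 : ∀ i, i < 10168 → P i := stepQ 10167 Q10167 (allL N10167 (tt N8459 F87652) (tt N8614 F87653) (tt N12084 D24482) (tt N8445 (iv D19336)) (tt N8790 F87654) (tt N8449 F87655) (tt N12085 D24483) (tt N8601 F87656) (tt N11737 (iv F107590)) (tt N10167 F87657))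
theorem Q10169 : ∀ i, i < 10169 → P i := stepQ 10168 Q10168 (allL N10168 (tt N8460 F87658) (tt N8615 F87659) (tt N10168 F87660) (tt N12085 (iv F110147)) (tt N8446 F87661) (tt N12086 D24484) (tt N8445 (iv D19337)) (tt N12087 D24485) (tt N11738 (iv F107596)) (tt N10168 F87662))
theorem Q10170 : ∀ i, i < 10170 → P i := stepQ 10169 Q10169 (allL N10169 (tt N8461 F87663) (tt N8616 F87664) (tt N10169 F87665) (tt N8792 F87666) (tt N12087 (iv F110159)) (tt N10169 F87667) (tt N8603 F87668) (tt N8446 (iv D19338)) (tt N11739 (iv F107604)) (tt N10169 F87669))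
theorem Q10171 : ∀ i, i < 10171 → P i := stepQ 10170 Q10170 (allL N10170 (tt N8464 F87670) (tt N8593 F87671) (tt N12088 D24486) (tt N8447 (iv D19339)) (tt N10170 F87672) (tt N8601 F87673) (tt N12089 D24487) (tt N8449 F87674) (tt N8451 F87675) (tt N10170 F87676))
theorem Q10172 : ∀ i, i < 10172 → P i := stepQ 10171 Q10171 (allL N10171 (tt N8465 F87677) (tt N8534 (iv F133458)) (tt N10171 F87679) (tt N12089 (iv F110171)) (tt N8448 F87680) (tt N12090 D24488) (tt N8447 (iv D19340)) (tt N8532 (iv F133756)) (tt N8452 F87681) (tt N10171 F87682))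
theorem Q10173 : ∀ i, i < 10173 → P i := stepQ 10172 Q10172 (allL N10172 (tt N8467 F87691) (tt N12091 D24490) (tt N8449 (iv D19342)) (tt N10172 F87692) (tt N10172 F87693) (tt N12084 (iv F110142)) (tt N12092 D24491) (tt N12088 (iv F110166)) (tt N8453 F87694) (tt N10172 F87695))
theorem Q10174 : ∀ i, i < 10174 → P i := stepQ 10173 Q10173 (allL N10173 (tt N8468 F87696) (tt N8493 (iv F133483)) (tt N12092 (iv F110194)) (tt N8450 F87698) (tt N10173 F87699) (tt N12093 D24492) (tt N8449 (iv D19343)) (tt N8497 (iv F133763)) (tt N8454 F87700) (tt N10173 F87701))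
theorem Q10175 : ∀ i, i < 10175 → P i := stepQ 10174 Q10174 (allL N10174 (tt N8469 F87702) (tt N8521 (iv F133486)) (tt N10174 F87704) (tt N12093 (iv F110201)) (tt N10174 F87705) (tt N8450 (iv D19344)) (tt N12086 (iv F110154)) (tt N8525 (iv F133766)) (tt N11878 (iv F133649)) (tt N10174 F87706))
theorem Q10176 : ∀ i, i < 10176 → P i := stepQ 10175 Q10175 (allL N10175 (tt N8471 F87713) (tt N12094 D24496) (tt N8451 (iv D19346)) (tt N10175 F87714) (tt N10175 F87715) (tt N11750 (iv F107666)) (tt N12095 D24497) (tt N8453 F87716) (tt N12088 (iv F110167)) (tt N8555 F87717))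
theorem Q10177 : ∀ i, i < 10177 → P i := stepQ 10176 Q10176 (allL N10176 (tt N8472 F87718) (tt N8509 F132999) (tt N12095 (iv F110226)) (tt N8452 F87720) (tt N10176 F87721) (tt N12096 D24498) (tt N8451 (iv D19347)) (tt N8507 (iv F133496)) (tt N12089 (iv F110173)) (tt N8556 F87722))
theorem Q10178 : ∀ i, i < 10178 → P i := stepQ 10177 Q10177 (allL N10177 (tt N8473 F87723) (tt N8545 F133006) (tt N10177 F87725) (tt N12096 (iv F110232)) (tt N10177 F87726) (tt N8452 (iv D19348)) (tt N11752 (iv F107678)) (tt N8544 (iv F133546)) (tt N12097 D24501) (tt N8557 F87727))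
theorem Q10179 : ∀ i, i < 10179 → P i := stepQ 10178 Q10178 (allL N10178 (tt N12095 F134314) (tt N8453 (iv D19350)) (tt N8472 F134315) (tt N10178 F87735) (tt N10178 F87736) (tt N11754 (iv F107688)) (tt N8471 F134316) (tt N12094 (iv F110223)) (tt N12091 (iv F110191)) (tt N8558 F87737))
theorem Q10180 : ∀ i, i < 10180 → P i := stepQ 10179 Q10179 (allL N10179 (tt N8476 F87738) (tt N8471 (iv F133758)) (tt N8454 F87739) (tt N10179 F87740) (tt N10179 F87741) (tt N11785 (iv F133627)) (tt N8453 (iv D19351)) (tt N8475 (iv F133759)) (tt N12092 (iv F110197)) (tt N8559 F87742))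
theorem Q10181 : ∀ i, i < 10181 → P i := stepQ 10180 Q10180 (allL N10180 (tt N8790 F87812) (tt N8483 F87813) (tt N12098 D24522) (tt N8455 (iv D19365)) (tt N8459 F87814) (tt N10180 F87815) (tt N12099 D24523) (tt N8775 F87816) (tt N11589 (iv F106753)) (tt N10180 F87817))
theorem Q10182 : ∀ i, i < 10182 → P i := stepQ 10181 Q10181 (allL N10181 (tt N8791 F87818) (tt N8484 F87819) (tt N9238 F87820) (tt N12099 (iv F110370)) (tt N8456 F87821) (tt N12100 D24524) (tt N8455 (iv D19366)) (tt N12101 D24525) (tt N11590 (iv F106759)) (tt N10181 F87822))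
theorem Q10183 : ∀ i, i < 10183 → P i := stepQ 10182 Q10182 (allL N10182 (tt N8792 F87823) (tt N8485 F87824) (tt N9239 F87825) (tt N8461 F87826) (tt N12101 (iv F110382)) (tt N10182 F87827) (tt N8777 F87828) (tt N8456 (iv D19367)) (tt N11591 (iv F106767)) (tt N10182 F87829))
theorem Q10184 : ∀ i, i < 10184 → P i := stepQ 10183 Q10183 (allL N10183 (tt N8601 F87830) (tt N8486 F87831) (tt N12102 D24526) (tt N8457 (iv D19368)) (tt N8775 F87832) (tt N8464 F87833) (tt N12103 D24527) (tt N8459 F87834) (tt N11761 (iv F107766)) (tt N10183 F87835))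
theorem Q10185 : ∀ i, i < 10185 → P i := stepQ 10184 Q10184 (allL N10184 (tt N8602 F87836) (tt N8487 F87837) (tt N10184 F87838) (tt N12103 (iv F110393)) (tt N8458 F87839) (tt N12104 D24528) (tt N8457 (iv D19369)) (tt N12105 D24529) (tt N11762 (iv F107772)) (tt N10184 F87840))
theorem Q10186 : ∀ i, i < 10186 → P i := stepQ 10185 Q10185 (allL N10185 (tt N8603 F87841) (tt N8488 F87842) (tt N10185 F87843) (tt N8777 F87844) (tt N12105 (iv F110405)) (tt N8598 F87845) (tt N8461 F87846) (tt N8458 (iv D19370)) (tt N11763 (iv F107780)) (tt N10185 F87847))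
theorem Q10187 : ∀ i, i < 10187 → P i := stepQ 10186 Q10186 (allL N10186 (tt N12084 (iv F110139)) (tt N12106 D24530) (tt N8459 (iv D19371)) (tt N10186 F87848) (tt N12098 (iv F110364)) (tt N8467 F87849) (tt N12107 D24531) (tt N12102 (iv F110389)) (tt N11764 (iv F107784)) (tt N10186 F87850))
theorem Q10188 : ∀ i, i < 10188 → P i := stepQ 10187 Q10187 (allL N10187 (tt N12085 (iv F110145)) (tt N8490 F87851) (tt N12107 (iv F110412)) (tt N8460 F87852) (tt N12099 (iv F110371)) (tt N12108 D24532) (tt N8459 (iv D19372)) (tt N12109 D24533) (tt N11765 (iv F107787)) (tt N10187 F87853))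
theorem Q10189 : ∀ i, i < 10189 → P i := stepQ 10188 Q10188 (allL N10188 (tt N12086 (iv F110150)) (tt N8491 F87854) (tt N10188 F87855) (tt N12108 (iv F110416)) (tt N10188 F87856) (tt N8460 (iv D19373)) (tt N8469 F87857) (tt N12110 D24534) (tt N12111 D24535) (tt N10188 F87858))
theorem Q10190 : ∀ i, i < 10190 → P i := stepQ 10189 Q10189 (allL N10189 (tt N12087 (iv F110156)) (tt N8492 F87859) (tt N10189 F87860) (tt N12109 (iv F110420)) (tt N8461 F87861) (tt N12110 (iv F110425)) (tt N12105 (iv F110406)) (tt N8460 (iv D19374)) (tt N11767 (iv F107794)) (tt N10189 F87862))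
theorem Q10191 : ∀ i, i < 10191 → P i := stepQ 10190 Q10190 (allL N10190 (tt N12088 (iv F110162)) (tt N12092 (iv F133760)) (tt N8464 (iv D19378)) (tt N10190 F87884) (tt N10190 F87885) (tt N12102 (iv F110388)) (tt N12091 (iv F134981)) (tt N8467 F87886) (tt N8471 F87887) (tt N10190 F87888))
theorem Q10192 : ∀ i, i < 10192 → P i := stepQ 10191 Q10191 (allL N10191 (tt N12089 (iv F110169)) (tt N8494 F87889) (tt N12091 (iv F134980)) (tt N8465 F87890) (tt N10191 F87891) (tt N12112 D24542) (tt N8464 (iv D19379)) (tt N12113 D24543) (tt N8472 F87892) (tt N10191 F87893))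
theorem Q10193 : ∀ i, i < 10193 → P i := stepQ 10192 Q10192 (allL N10192 (tt N12090 (iv F110175)) (tt N8495 F87894) (tt N10192 F87895) (tt N12112 (iv F110469)) (tt N8651 (iv F135122)) (tt N8465 (iv D19380)) (tt N12104 (iv F110400)) (tt N8634 F134437) (tt N12114 D24545) (tt N10192 F87896))
theorem Q10194 : ∀ i, i < 10194 → P i := stepQ 10193 Q10193 (allL N10193 (tt N8532 (iv F133755)) (tt N8496 F87897) (tt N10193 F87898) (tt N12113 (iv F110472)) (tt N8466 F87899) (tt N8634 (iv F133779)) (tt N8470 F87900) (tt N8465 (iv D19381)) (tt N8474 F87901) (tt N10193 F87902))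
theorem Q10195 : ∀ i, i < 10195 → P i := stepQ 10194 Q10194 (allL N10194 (tt N12115 D24546) (tt N8467 (iv D19382)) (tt N8497 F87903) (tt N10194 F87904) (tt N10194 F87905) (tt N12106 (iv F110410)) (tt N12116 D24547) (tt N12092 (iv F133761)) (tt N8475 F87906) (tt N10194 F87907))
theorem Q10196 : ∀ i, i < 10196 → P i := stepQ 10195 Q10195 (allL N10195 (tt N12092 (iv F110193)) (tt N12116 (iv F110489)) (tt N8468 F87908) (tt N10195 F87909) (tt N10195 F87910) (tt N12117 D24548) (tt N8467 (iv D19383)) (tt N12115 (iv F133786)) (tt N8476 F87911) (tt N10195 F87912))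
theorem Q10197 : ∀ i, i < 10197 → P i := stepQ 10196 Q10196 (allL N10196 (tt N12093 (iv F110199)) (tt N8499 F87913) (tt N12117 (iv F110495)) (tt N8469 F87914) (tt N12118 D24550) (tt N8468 (iv D19384)) (tt N12108 (iv F110417)) (tt N12119 D24551) (tt N12120 D24552) (tt N10196 F87915))
theorem Q10198 : ∀ i, i < 10198 → P i := stepQ 10197 Q10197 (allL N10197 (tt N8497 (iv F133762)) (tt N8500 F87916) (tt N12115 (iv F133785)) (tt N8470 F87917) (tt N10197 F87918) (tt N12119 (iv F110509)) (tt N12113 (iv F110474)) (tt N8468 (iv D19385)) (tt N8478 F87919) (tt N10197 F87920))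
theorem Q10199 : ∀ i, i < 10199 → P i := stepQ 10198 Q10198 (allL N10198 (tt N8525 (iv F133765)) (tt N8501 F87921) (tt N10198 F87922) (tt N12119 (iv F110508)) (tt N10198 F87923) (tt N8470 F87924) (tt N12121 D24553) (tt N8469 (iv D19386)) (tt N11889 (iv F133659)) (tt N10198 F87925))
theorem Q10200 : ∀ i, i < 10200 → P i := stepQ 10199 Q10199 (allL N10199 (tt N11878 (iv F133648)) (tt N8502 F87926) (tt N10199 F87927) (tt N12120 (iv F110512)) (tt N10199 F87928) (tt N8479 F87929) (tt N12111 (iv F110430)) (tt N11889 (iv F133658)) (tt N8469 (iv D19387)) (tt N12122 D24555))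
theorem Q10201 : ∀ i, i < 10201 → P i := stepQ 10200 Q10200 (allL N10200 (tt N12096 (iv F110230)) (tt N8503 F87939) (tt N11754 (iv F134824)) (tt N8473 F87940) (tt N12123 D24560) (tt N8472 (iv D19390)) (tt N11787 (iv F107883)) (tt N12124 D24561) (tt N12125 D24562) (tt N8560 F87941))
theorem Q10202 : ∀ i, i < 10202 → P i := stepQ 10201 Q10201 (allL N10201 (tt N8507 (iv F133495)) (tt N8504 F87942) (tt N12094 (iv F133776)) (tt N8474 F87943) (tt N10201 F87944) (tt N12124 (iv F110552)) (tt N8478 F87945) (tt N8472 (iv D19391)) (tt N12113 (iv F110475)) (tt N8561 F87946))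
theorem Q10203 : ∀ i, i < 10203 → P i := stepQ 10202 Q10202 (allL N10202 (tt N8544 (iv F133545)) (tt N8505 F87947) (tt N10202 F87948) (tt N12124 (iv F110551)) (tt N10202 F87949) (tt N8474 F87950) (tt N11934 (iv F133656)) (tt N8473 (iv D19392)) (tt N12126 D24564) (tt N8562 F87951))
theorem Q10204 : ∀ i, i < 10204 → P i := stepQ 10203 Q10203 (allL N10203 (tt N12097 (iv F110246)) (tt N8506 F87952) (tt N10203 F87953) (tt N12125 (iv F110555)) (tt N10203 F87954) (tt N12114 (iv F110483)) (tt N11790 (iv F107898)) (tt N12126 (iv F110564)) (tt N8473 (iv D19393)) (tt N12127 D24565))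
theorem Q10205 : ∀ i, i < 10205 → P i := stepQ 10204 Q10204 (allL N10204 (tt N8475 (iv D19394)) (tt N12095 (iv F133748)) (tt N8478 F133009) (tt N10204 F87956) (tt N10204 F87957) (tt N11791 (iv F107901)) (tt N12094 (iv F133781)) (tt N8476 (iv F133757)) (tt N12115 (iv F110487)) (tt N8564 F87958))
theorem Q10206 : ∀ i, i < 10206 → P i := stepQ 10205 Q10205 (allL N10205 (tt N12094 (iv F133780)) (tt N8476 F87959) (tt N8507 F87960) (tt N10205 F87961) (tt N10205 F87962) (tt N12128 D24567) (tt N8475 (iv D19395)) (tt N12095 (iv F133749)) (tt N12116 (iv F110493)) (tt N8565 F87963))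
theorem Q10207 : ∀ i, i < 10207 → P i := stepQ 10206 Q10206 (allL N10206 (tt N11785 (iv F133626)) (tt N12128 (iv F110574)) (tt N8477 F87964) (tt N10206 F87965) (tt N12129 D24569) (tt N8476 (iv D19396)) (tt N11793 (iv F107909)) (tt N11791 (iv F133634)) (tt N12130 D24571) (tt N8566 F87966))
theorem Q10208 : ∀ i, i < 10208 → P i := stepQ 10207 Q10207 (allL N10207 (tt N9103 (iv F133381)) (tt N8510 F87971) (tt N12129 (iv F110584)) (tt N8480 F87972) (tt N8477 (iv D19398)) (tt N10207 F87973) (tt N11795 (iv F107916)) (tt N8580 F133018) (tt N12131 D24573) (tt N8567 F87974))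
theorem Q10209 : ∀ i, i < 10209 → P i := stepQ 10208 Q10208 (allL N10208 (tt N11828 (iv F133630)) (tt N8512 F87979) (tt N12130 (iv F110592)) (tt N8479 F87980) (tt N12131 (iv F110601)) (tt N12120 (iv F110513)) (tt N11797 (iv F107924)) (tt N11839 (iv F133643)) (tt N8477 (iv D19400)) (tt N12132 D24576))
theorem Q10210 : ∀ i, i < 10210 → P i := stepQ 10209 Q10209 (allL N10209 (tt N8705 (iv F133273)) (tt N8515 F87989) (tt N10209 F87990) (tt N12132 (iv F110609)) (tt N8482 F87991) (tt N12122 (iv F110526)) (tt N11800 (iv F107937)) (tt N8517 F133023) (tt N8516 F133024) (tt N8479 (iv D19403)))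
theorem Q10211 : ∀ i, i < 10211 → P i := stepQ 10210 Q10210 (allL N10210 (tt N9028 (iv F133293)) (tt N8517 F88012) (tt N8551 (iv F133835)) (tt N12131 (iv F110600)) (tt N8481 F88013) (tt N12133 D24586) (tt N11802 (iv F107959)) (tt N8515 F133021) (tt N8480 (iv D19408)) (tt N8514 F133022))
theorem Q10212 : ∀ i, i < 10212 → P i := stepQ 10211 Q10211 (allL N10211 (tt N9173 F88034) (tt N12134 D24592) (tt N8483 (iv D19414)) (tt N10211 F88035) (tt N8489 F88036) (tt N10211 F88037) (tt N12135 D24593) (tt N11555 (iv F106553)) (tt N11806 (iv F107983)) (tt N10211 F88038))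
theorem Q10213 : ∀ i, i < 10213 → P i := stepQ 10212 Q10212 (allL N10212 (tt N9174 F88039) (tt N12099 (iv F110369)) (tt N12135 (iv F110685)) (tt N8484 F88040) (tt N8490 F88041) (tt N12136 D24594) (tt N8483 (iv D19415)) (tt N12137 D24595) (tt N11807 (iv F107987)) (tt N10212 F88042))
theorem Q10214 : ∀ i, i < 10214 → P i := stepQ 10213 Q10213 (allL N10213 (tt N9175 F88043) (tt N12100 (iv F110374)) (tt N10213 F88044) (tt N12136 (iv F110690)) (tt N10213 F88045) (tt N8484 (iv D19416)) (tt N10213 F88046) (tt N12138 D24596) (tt N12139 D24597) (tt N10213 F88047))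
theorem Q10215 : ∀ i, i < 10215 → P i := stepQ 10214 Q10214 (allL N10214 (tt N9176 F88048) (tt N12101 (iv F110380)) (tt N10214 F88049) (tt N12137 (iv F110694)) (tt N8485 F88050) (tt N12138 (iv F110700)) (tt N11558 (iv F106570)) (tt N8484 (iv D19417)) (tt N11809 (iv F107993)) (tt N10214 F88051))
theorem Q10216 : ∀ i, i < 10216 → P i := stepQ 10215 Q10215 (allL N10215 (tt N9171 F134305) (tt N12093 F134306) (tt N8486 (iv D19418)) (tt N8521 F88053) (tt N11555 (iv F106551)) (tt N8493 F88054) (tt N12140 D24599) (tt N8489 F88055) (tt N11810 (iv F107998)) (tt N10215 F88056))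
theorem Q10217 : ∀ i, i < 10217 → P i := stepQ 10216 Q10216 (allL N10216 (tt N9177 F88057) (tt N12103 (iv F110392)) (tt N12140 (iv F110711)) (tt N8487 F88058) (tt N11556 (iv F106558)) (tt N12141 D24600) (tt N8486 (iv D19419)) (tt N12142 D24601) (tt N11811 (iv F108002)) (tt N10216 F88059))
theorem Q10218 : ∀ i, i < 10218 → P i := stepQ 10217 Q10217 (allL N10217 (tt N9178 F88060) (tt N12104 (iv F110397)) (tt N8523 F88061) (tt N12141 (iv F110715)) (tt N8652 (iv F135133)) (tt N8487 (iv D19420)) (tt N8495 F88062) (tt N12143 D24602) (tt N12144 D24603) (tt N10217 F88063))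
theorem Q10219 : ∀ i, i < 10219 → P i := stepQ 10218 Q10218 (allL N10218 (tt N9179 F88064) (tt N12105 (iv F110403)) (tt N8524 F88065) (tt N12142 (iv F110719)) (tt N8488 F88066) (tt N12143 (iv F110724)) (tt N8492 F88067) (tt N8487 (iv D19421)) (tt N11813 (iv F108012)) (tt N10218 F88068))
theorem Q10220 : ∀ i, i < 10220 → P i := stepQ 10219 Q10219 (allL N10219 (tt N12119 (iv F133787)) (tt N8489 (iv D19422)) (tt N12106 (iv F110408)) (tt N8525 F88069) (tt N12134 (iv F110681)) (tt N8497 F88070) (tt N12145 D24605) (tt N12093 (iv F133764)) (tt N11818 (iv F108036)) (tt N10219 F88071))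
theorem Q10221 : ∀ i, i < 10221 → P i := stepQ 10220 Q10220 (allL N10220 (tt N9181 F88072) (tt N12145 (iv F110733)) (tt N8490 F88073) (tt N8526 F88074) (tt N12135 (iv F110687)) (tt N12146 D24606) (tt N8489 (iv D19423)) (tt N12147 D24607) (tt N11819 (iv F108040)) (tt N10220 F88075))
theorem Q10222 : ∀ i, i < 10222 → P i := stepQ 10221 Q10221 (allL N10221 (tt N9182 F88076) (tt N12108 (iv F110415)) (tt N12146 (iv F110737)) (tt N8491 F88077) (tt N12148 D24608) (tt N8490 (iv D19424)) (tt N8499 F88078) (tt N12149 D24609) (tt N12150 D24610) (tt N10221 F88079))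
theorem Q10223 : ∀ i, i < 10223 → P i := stepQ 10222 Q10222 (allL N10222 (tt N9183 F88080) (tt N12109 (iv F110419)) (tt N12147 (iv F110742)) (tt N8492 F88081) (tt N12137 (iv F110695)) (tt N12149 (iv F110751)) (tt N12142 (iv F110720)) (tt N8490 (iv D19425)) (tt N11821 (iv F108046)) (tt N10222 F88082))
theorem Q10224 : ∀ i, i < 10224 → P i := stepQ 10223 Q10223 (allL N10223 (tt N9184 F88083) (tt N12110 (iv F110422)) (tt N8529 F88084) (tt N12149 (iv F110750)) (tt N10223 F88085) (tt N8492 F88086) (tt N12151 D24611) (tt N8491 (iv D19426)) (tt N12152 D24612) (tt N10223 F88087))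
theorem Q10225 : ∀ i, i < 10225 → P i := stepQ 10224 Q10224 (allL N10224 (tt N9185 F88088) (tt N12111 (iv F110427)) (tt N8530 F88089) (tt N12150 (iv F110754)) (tt N10224 F88090) (tt N11823 (iv F108052)) (tt N8502 F88091) (tt N12152 (iv F110764)) (tt N8491 (iv D19427)) (tt N12153 D24613))
theorem Q10226 : ∀ i, i < 10226 → P i := stepQ 10225 Q10225 (allL N10225 (tt N9164 F134302) (tt N12112 (iv F110468)) (tt N8614 F134303) (tt N8495 F88125) (tt N8818 (iv F134984)) (tt N8494 (iv D19434)) (tt N12141 (iv F110716)) (tt N8617 F134304) (tt N12154 D24626) (tt N10225 F88126))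
theorem Q10227 : ∀ i, i < 10227 → P i := stepQ 10226 Q10226 (allL N10226 (tt N9168 (iv F133464)) (tt N12113 (iv F110471)) (tt N8593 (iv F133455)) (tt N8496 F88128) (tt N10226 F88129) (tt N8617 (iv F133791)) (tt N8500 F88130) (tt N8494 (iv D19435)) (tt N8504 F88131) (tt N10226 F88132))
theorem Q10228 : ∀ i, i < 10228 → P i := stepQ 10227 Q10227 (allL N10227 (tt N9186 F88137) (tt N12114 (iv F110481)) (tt N8531 F88138) (tt N12154 (iv F110830)) (tt N8642 (iv F135135)) (tt N8506 F88139) (tt N12144 (iv F110728)) (tt N8629 F134449) (tt N8495 (iv D19437)) (tt N11653 (iv F135140)))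
theorem Q10229 : ∀ i, i < 10229 → P i := stepQ 10228 Q10228 (allL N10228 (tt N12113 (iv F133783)) (tt N8498 F88145) (tt N12116 (iv F110490)) (tt N8532 F88146) (tt N10228 F88147) (tt N12155 D24631) (tt N8497 (iv D19439)) (tt N12089 (iv F133753)) (tt N8507 F88148) (tt N10228 F88149))
theorem Q10230 : ∀ i, i < 10230 → P i := stepQ 10229 Q10229 (allL N10229 (tt N9187 F88150) (tt N12155 (iv F110850)) (tt N8499 F88151) (tt N8533 F88152) (tt N11622 (iv F135009)) (tt N8498 (iv D19440)) (tt N12146 (iv F110739)) (tt N12156 D24634) (tt N12157 D24635) (tt N10229 F88153))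
theorem Q10231 : ∀ i, i < 10231 → P i := stepQ 10230 Q10230 (allL N10230 (tt N9169 (iv F133466)) (tt N12089 (iv F133752)) (tt N8500 F88155) (tt N8534 F88156) (tt N10230 F88157) (tt N12156 (iv F110865)) (tt N8593 (iv F133456)) (tt N8498 (iv D19441)) (tt N8509 F88158) (tt N10230 F88159))
theorem Q10232 : ∀ i, i < 10232 → P i := stepQ 10231 Q10231 (allL N10231 (tt N9188 F88160) (tt N12118 (iv F110503)) (tt N11622 (iv F135008)) (tt N10231 F88161) (tt N8499 (iv D19442)) (tt N10231 F88162) (tt N12148 (iv F110747)) (tt N12158 D24636) (tt N12159 D24637) (tt N10231 F88163))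
theorem Q10233 : ∀ i, i < 10233 → P i := stepQ 10232 Q10232 (allL N10232 (tt N9180 F134321) (tt N12119 (iv F110507)) (tt N12156 (iv F110863)) (tt N8501 F88165) (tt N12158 (iv F110873)) (tt N8500 F88166) (tt N12160 D24638) (tt N8499 (iv D19443)) (tt N12161 D24639) (tt N10232 F88167))
theorem Q10234 : ∀ i, i < 10234 → P i := stepQ 10233 Q10233 (allL N10233 (tt N9189 F88168) (tt N12120 (iv F110511)) (tt N12157 (iv F110868)) (tt N8502 F88169) (tt N12159 (iv F110878)) (tt N8512 F88170) (tt N12150 (iv F110755)) (tt N12161 (iv F110885)) (tt N8499 (iv D19444)) (tt N12162 D24640))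
theorem Q10235 : ∀ i, i < 10235 → P i := stepQ 10234 Q10234 (allL N10234 (tt N9190 F88171) (tt N12121 (iv F110514)) (tt N8538 F88172) (tt N12160 (iv F110880)) (tt N10234 F88173) (tt N8635 (iv F133792)) (tt N8501 (iv D19445)) (tt N12151 (iv F110759)) (tt N12163 D24641) (tt N10234 F88174))
theorem Q10236 : ∀ i, i < 10236 → P i := stepQ 10235 Q10235 (allL N10235 (tt N9014 F134120) (tt N11889 F134121) (tt N8539 F88176) (tt N12161 (iv F110883)) (tt N10235 F88177) (tt N8514 F88178) (tt N12163 (iv F110893)) (tt N8502 F88179) (tt N8501 (iv D19446)) (tt N12133 (iv F133841)))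
theorem Q10237 : ∀ i, i < 10237 → P i := stepQ 10236 Q10236 (allL N10236 (tt N9191 F88180) (tt N12122 (iv F110523)) (tt N8540 F88181) (tt N12162 (iv F110887)) (tt N10236 F88182) (tt N8515 F88183) (tt N12153 (iv F110768)) (tt N12133 (iv F133840)) (tt N10236 F88184) (tt N8502 (iv D19447)))
theorem Q10238 : ∀ i, i < 10238 → P i := stepQ 10237 Q10237 (allL N10237 (tt N8672 F134177) (tt N12123 (iv F110546)) (tt N8661 F134178) (tt N10237 F88205) (tt N8503 (iv D19452)) (tt N10237 F88206) (tt N11850 (iv F108180)) (tt N11973 F134179) (tt N12164 D24650) (tt N8569 F88207))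
theorem Q10239 : ∀ i, i < 10239 → P i := stepQ 10238 Q10238 (allL N10238 (tt N8943 (iv F133282)) (tt N12124 (iv F110550)) (tt N8924 (iv F133281)) (tt N8505 F88209) (tt N11973 (iv F133583)) (tt N8504 F88210) (tt N12165 D24651) (tt N8503 (iv D19453)) (tt N12166 D24652) (tt N8570 F88211))
theorem Q10240 : ∀ i, i < 10240 → P i := stepQ 10239 Q10239 (allL N10239 (tt N8939 F134182) (tt N12125 (iv F110554)) (tt N8921 F134183) (tt N8506 F88213) (tt N12164 (iv F110932)) (tt N12154 (iv F110831)) (tt N11852 (iv F108188)) (tt N12166 (iv F110939)) (tt N8503 (iv D19454)) (tt N12167 D24653))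
theorem Q10241 : ∀ i, i < 10241 → P i := stepQ 10240 Q10240 (allL N10240 (tt N9046 (iv F133306)) (tt N11934 (iv F133655)) (tt N8541 F88215) (tt N12165 (iv F110934)) (tt N10240 F88216) (tt N8513 F88217) (tt N8505 (iv D19455)) (tt N11853 (iv F108193)) (tt N12168 D24654) (tt N8572 F88218))
theorem Q10242 : ∀ i, i < 10242 → P i := stepQ 10241 Q10241 (allL N10241 (tt N9192 F88219) (tt N12126 (iv F110561)) (tt N8542 F88220) (tt N12166 (iv F110938)) (tt N10241 F88221) (tt N8629 (iv F133794)) (tt N12168 (iv F110946)) (tt N8506 F88222) (tt N8505 (iv D19456)) (tt N11874 (iv F133800)))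
theorem Q10243 : ∀ i, i < 10243 → P i := stepQ 10242 Q10242 (allL N10242 (tt N9193 F88223) (tt N12127 (iv F110565)) (tt N8543 F88224) (tt N12167 (iv F110941)) (tt N10242 F88225) (tt N11653 (iv F135139)) (tt N11855 (iv F108202)) (tt N11874 F134451) (tt N8574 F88226) (tt N8506 (iv D19457)))
theorem Q10244 : ∀ i, i < 10244 → P i := stepQ 10243 Q10243 (allL N10243 (tt N12124 (iv F133782)) (tt N8508 F88232) (tt N12128 (iv F110575)) (tt N8544 F88233) (tt N12169 D24658) (tt N8507 (iv D19459)) (tt N11857 (iv F108210)) (tt N12096 (iv F133751)) (tt N12170 D24660) (tt N8575 F88234))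
theorem Q10245 : ∀ i, i < 10245 → P i := stepQ 10244 Q10244 (allL N10244 (tt N9194 F88239) (tt N12169 (iv F110961)) (tt N8510 F88240) (tt N10244 F88241) (tt N8508 (iv D19461)) (tt N10244 F88242) (tt N11859 (iv F108218)) (tt N12171 D24661) (tt N12172 D24662) (tt N8576 F88243))
theorem Q10246 : ∀ i, i < 10246 → P i := stepQ 10245 Q10245 (allL N10245 (tt N8947 (iv F133288)) (tt N12096 (iv F133750)) (tt N8511 F88245) (tt N8545 F88246) (tt N12171 (iv F110974)) (tt N8509 F88247) (tt N12173 D24663) (tt N8508 (iv D19462)) (tt N12174 D24664) (tt N8577 F88248))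
theorem Q10247 : ∀ i, i < 10247 → P i := stepQ 10246 Q10246 (allL N10246 (tt N9195 F88249) (tt N12170 (iv F110969)) (tt N8512 F88250) (tt N8546 F88251) (tt N12172 (iv F110980)) (tt N12157 (iv F110870)) (tt N11861 (iv F108228)) (tt N12174 (iv F110988)) (tt N8508 (iv D19463)) (tt N12175 D24665))
theorem Q10248 : ∀ i, i < 10248 → P i := stepQ 10247 Q10247 (allL N10247 (tt N8689 (iv F133267)) (tt N8580 F133025) (tt N12171 (iv F110972)) (tt N8516 F88253) (tt N8511 F88254) (tt N10247 F88255) (tt N12022 (iv F133618)) (tt N8510 (iv D19464)) (tt N12132 (iv F133806)) (tt N8568 F133026))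
theorem Q10249 : ∀ i, i < 10249 → P i := stepQ 10248 Q10248 (allL N10248 (tt N9196 F88257) (tt N12131 (iv F110599)) (tt N12172 (iv F110978)) (tt N8517 F88258) (tt N8512 F88259) (tt N12176 D24668) (tt N11863 (iv F108236)) (tt N12132 (iv F133805)) (tt N8510 (iv D19465)) (tt N11839 (iv F133640)))
theorem Q10250 : ∀ i, i < 10250 → P i := stepQ 10249 Q10249 (allL N10249 (tt N8989 F134113) (tt N11856 F134114) (tt N12173 (iv F110982)) (tt N8513 F88261) (tt N12022 (iv F133617)) (tt N12165 (iv F110935)) (tt N8511 (iv D19466)) (tt N11864 (iv F108239)) (tt N12177 D24670) (tt N8579 F88262))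
theorem Q10251 : ∀ i, i < 10251 → P i := stepQ 10250 Q10250 (allL N10250 (tt N8980 F134115) (tt N11839 F134116) (tt N12174 (iv F110986)) (tt N8514 F88264) (tt N12132 (iv F133804)) (tt N12161 (iv F110884)) (tt N12177 (iv F111010)) (tt N8512 F88265) (tt N8511 (iv D19467)) (tt N12131 (iv F133839)))
theorem Q10252 : ∀ i, i < 10252 → P i := stepQ 10251 Q10251 (allL N10251 (tt N9197 F88266) (tt N12132 (iv F110608)) (tt N12175 (iv F110990)) (tt N8515 F88267) (tt N11839 (iv F133639)) (tt N12162 (iv F110888)) (tt N11866 (iv F108246)) (tt N12131 (iv F133838)) (tt N8580 F88268) (tt N8512 (iv D19468)))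
theorem Q10253 : ∀ i, i < 10253 → P i := stepQ 10252 Q10252 (allL N10252 (tt N9034 F134122) (tt N11872 (iv F133657)) (tt N8550 F88270) (tt N12177 (iv F111009)) (tt N8518 F88271) (tt N12178 D24672) (tt N8514 F88272) (tt N11867 (iv F108252)) (tt N8513 (iv D19469)) (tt N11802 (iv F133728)))
theorem Q10254 : ∀ i, i < 10254 → P i := stepQ 10253 Q10253 (allL N10253 (tt N9198 F88286) (tt N12133 (iv F110656)) (tt N10253 F88287) (tt N12176 (iv F111002)) (tt N10253 F88288) (tt N8517 (iv D19473)) (tt N12179 D24678) (tt N12122 (iv F133842)) (tt N10253 F88289) (tt N11889 (iv F133654)))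
theorem Q10255 : ∀ i, i < 10255 → P i := stepQ 10254 Q10254 (allL N10254 (tt N9074 F134144) (tt N11636 (iv F133747)) (tt N8552 F88305) (tt N11582 (iv F133746)) (tt N12180 D24682) (tt N8518 (iv D19477)) (tt N10254 F88306) (tt N11873 (iv F108286)) (tt N10254 F88307) (tt N11579 (iv F133730)))
theorem Q10256 : ∀ i, i < 10256 → P i := stepQ 10255 Q10255 (allL N10255 (tt N9199 F88327) (tt N10255 F88328) (tt N11383 (iv F105336)) (tt N8654 F135600) (tt N8520 F88329) (tt N8653 F135601) (tt N10255 F88330) (tt N8519 (iv D19482)) (tt N11353 (iv F105080)) (tt N10255 F88331))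
theorem Q10257 : ∀ i, i < 10257 → P i := stepQ 10256 Q10256 (allL N10256 (tt N9166 F134307) (tt N12086 F134308) (tt N8522 F88338) (tt N12140 (iv F110712)) (tt N10256 F88339) (tt N8615 F134309) (tt N8521 (iv D19484)) (tt N12181 D24693) (tt N11879 (iv F108325)) (tt N10256 F88340))
theorem Q10258 : ∀ i, i < 10258 → P i := stepQ 10257 Q10257 (allL N10257 (tt N9200 F88346) (tt N10257 F88347) (tt N12181 (iv F111112)) (tt N8524 F88348) (tt N10257 F88349) (tt N8633 F135338) (tt N8528 F88350) (tt N8522 (iv D19486)) (tt N11881 (iv F108337)) (tt N10257 F88351))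
theorem Q10259 : ∀ i, i < 10259 → P i := stepQ 10258 Q10258 (allL N10258 (tt N9201 F88352) (tt N10258 F88353) (tt N12143 (iv F110723)) (tt N8633 F135336) (tt N8653 (iv F135595)) (tt N8524 F88354) (tt N8636 F135337) (tt N8523 (iv D19487)) (tt N12182 D24698) (tt N10258 F88355))
theorem Q10260 : ∀ i, i < 10260 → P i := stepQ 10259 Q10259 (allL N10259 (tt N9202 F88356) (tt N10259 F88357) (tt N12144 (iv F110727)) (tt N8627 F135156) (tt N8643 (iv F135401)) (tt N11883 (iv F108345)) (tt N8531 F88358) (tt N12182 (iv F111137)) (tt N8523 (iv D19488)) (tt N11654 (iv F135405)))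
theorem Q10261 : ∀ i, i < 10261 → P i := stepQ 10260 Q10260 (allL N10260 (tt N12121 (iv F133788)) (tt N8526 F88364) (tt N10260 F88365) (tt N12145 (iv F110734)) (tt N10260 F88366) (tt N12183 D24701) (tt N8525 (iv D19490)) (tt N12184 D24702) (tt N11890 (iv F108386)) (tt N10260 F88367))
theorem Q10262 : ∀ i, i < 10262 → P i := stepQ 10261 Q10261 (allL N10261 (tt N9203 F88368) (tt N12183 (iv F111147)) (tt N8527 F88369) (tt N12146 (iv F110738)) (tt N11421 (iv F134454)) (tt N8526 (iv D19491)) (tt N8533 F88370) (tt N12185 D24704) (tt N12186 D24705) (tt N10261 F88371))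
theorem Q10263 : ∀ i, i < 10263 → P i := stepQ 10262 Q10262 (allL N10262 (tt N9204 F88372) (tt N12184 (iv F111151)) (tt N8528 F88373) (tt N12147 (iv F110743)) (tt N10262 F88374) (tt N12185 (iv F111162)) (tt N12181 (iv F111114)) (tt N8526 (iv D19492)) (tt N11892 (iv F108393)) (tt N10262 F88375))
theorem Q10264 : ∀ i, i < 10264 → P i := stepQ 10263 Q10263 (allL N10263 (tt N9205 F88376) (tt N10263 F88377) (tt N11421 (iv F134453)) (tt N10263 F88378) (tt N8527 (iv D19493)) (tt N10263 F88379) (tt N8535 F88380) (tt N8639 (iv F135023)) (tt N12187 D24707) (tt N10263 F88381))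
theorem Q10265 : ∀ i, i < 10265 → P i := stepQ 10264 Q10264 (allL N10264 (tt N9206 F88382) (tt N10264 F88383) (tt N12185 (iv F111161)) (tt N8529 F88384) (tt N8639 F135146) (tt N8528 F88385) (tt N8637 F135147) (tt N8527 (iv D19494)) (tt N12188 D24709) (tt N10264 F88386))
theorem Q10266 : ∀ i, i < 10266 → P i := stepQ 10265 Q10265 (allL N10265 (tt N9207 F88387) (tt N10265 F88388) (tt N12186 (iv F111165)) (tt N8530 F88389) (tt N12187 (iv F111176)) (tt N11895 (iv F108405)) (tt N8537 F88390) (tt N12188 (iv F111186)) (tt N8527 (iv D19495)) (tt N12189 D24710))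
theorem Q10267 : ∀ i, i < 10267 → P i := stepQ 10266 Q10266 (allL N10266 (tt N9208 F88391) (tt N10266 F88392) (tt N12151 (iv F110757)) (tt N8637 (iv F135054)) (tt N10266 F88393) (tt N8636 (iv F135028)) (tt N8529 (iv D19496)) (tt N8538 F88394) (tt N12190 D24711) (tt N10266 F88395))
theorem Q10268 : ∀ i, i < 10268 → P i := stepQ 10267 Q10267 (allL N10267 (tt N9209 F88396) (tt N10267 F88397) (tt N12152 (iv F110762)) (tt N12188 (iv F111185)) (tt N10267 F88398) (tt N11897 (iv F108412)) (tt N12190 (iv F111195)) (tt N8530 F88399) (tt N8529 (iv D19497)) (tt N12191 D24712))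
theorem Q10269 : ∀ i, i < 10269 → P i := stepQ 10268 Q10268 (allL N10268 (tt N9210 F88400) (tt N10268 F88401) (tt N12153 (iv F110766)) (tt N12189 (iv F111189)) (tt N10268 F88402) (tt N11898 (iv F108416)) (tt N8540 F88403) (tt N12191 (iv F111200)) (tt N10268 F88404) (tt N8530 (iv D19498)))
theorem Q10270 : ∀ i, i < 10270 → P i := stepQ 10269 Q10269 (allL N10269 (tt N8634 F134439) (tt N8533 F88487) (tt N10269 F88488) (tt N12155 (iv F110851)) (tt N8656 (iv F134463)) (tt N8532 (iv D19516)) (tt N12183 (iv F111149)) (tt N12090 F134440) (tt N12192 D24739) (tt N10269 F88489))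
theorem Q10271 : ∀ i, i < 10271 → P i := stepQ 10270 Q10270 (allL N10270 (tt N9170 F134283) (tt N12090 F134284) (tt N8536 F88500) (tt N12156 (iv F110864)) (tt N8594 (iv F134963)) (tt N8534 F88501) (tt N8619 (iv F134964)) (tt N8533 (iv D19519)) (tt N12193 D24744) (tt N10270 F88502))
theorem Q10272 : ∀ i, i < 10272 → P i := stepQ 10271 Q10271 (allL N10271 (tt N9211 F88503) (tt N12192 (iv F111321)) (tt N8537 F88504) (tt N12157 (iv F110869)) (tt N11414 (iv F134456)) (tt N8546 F88505) (tt N12186 (iv F111166)) (tt N12193 (iv F111343)) (tt N8533 (iv D19520)) (tt N12194 D24745))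
theorem Q10273 : ∀ i, i < 10273 → P i := stepQ 10272 Q10272 (allL N10272 (tt N9212 F88512) (tt N10272 F88513) (tt N11414 (iv F134455)) (tt N10272 F88514) (tt N8537 F88515) (tt N10272 F88516) (tt N12187 (iv F111177)) (tt N8595 F133817) (tt N8535 (iv D19522)) (tt N9488 (iv F133822)))
theorem Q10274 : ∀ i, i < 10274 → P i := stepQ 10273 Q10273 (allL N10273 (tt N9213 F88521) (tt N10273 F88522) (tt N12193 (iv F111341)) (tt N8539 F88523) (tt N8595 (iv F133815)) (tt N8548 F88524) (tt N8638 (iv F133816)) (tt N8537 F88525) (tt N8536 (iv D19524)) (tt N12195 D24750))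
theorem Q10275 : ∀ i, i < 10275 → P i := stepQ 10274 Q10274 (allL N10274 (tt N9214 F88526) (tt N10274 F88527) (tt N12194 (iv F111345)) (tt N8540 F88528) (tt N9488 (iv F133821)) (tt N8549 F88529) (tt N12189 (iv F111190)) (tt N12195 (iv F111373)) (tt N10274 F88530) (tt N8537 (iv D19525)))
theorem Q10276 : ∀ i, i < 10276 → P i := stepQ 10275 Q10275 (allL N10275 (tt N9215 F88531) (tt N10275 F88532) (tt N12163 (iv F110891)) (tt N8638 F133829) (tt N10275 F88533) (tt N12196 D24751) (tt N8539 F88534) (tt N12190 (iv F111196)) (tt N8538 (iv D19526)) (tt N12197 D24752))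
theorem Q10277 : ∀ i, i < 10277 → P i := stepQ 10276 Q10276 (allL N10276 (tt N9216 F88535) (tt N10276 F88536) (tt N12133 F134459) (tt N12195 (iv F111371)) (tt N10276 F88537) (tt N8551 F88538) (tt N12197 (iv F111381)) (tt N8540 F88539) (tt N10276 F88540) (tt N8539 (iv D19527)))
theorem Q10278 : ∀ i, i < 10278 → P i := stepQ 10277 Q10277 (allL N10277 (tt N9217 F88587) (tt N10277 F88588) (tt N12168 (iv F110944)) (tt N8625 F134360) (tt N10277 F88589) (tt N12198 D24770) (tt N8542 F88590) (tt N11932 (iv F108639)) (tt N8541 (iv D19539)) (tt N11875 (iv F135059)))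
theorem Q10279 : ∀ i, i < 10279 → P i := stepQ 10278 Q10278 (allL N10278 (tt N12126 (iv F133784)) (tt N8546 F88611) (tt N10278 F88612) (tt N12170 (iv F110970)) (tt N10278 F88613) (tt N12192 (iv F111323)) (tt N11936 (iv F108664)) (tt N12097 (iv F133770)) (tt N8544 (iv D19544)) (tt N12199 D24776))
theorem Q10280 : ∀ i, i < 10280 → P i := stepQ 10279 Q10279 (allL N10279 (tt N8945 (iv F133354)) (tt N11752 (iv F133768)) (tt N8547 F88615) (tt N12173 (iv F110983)) (tt N10279 F88616) (tt N8925 (iv F133284)) (tt N8545 (iv D19545)) (tt N11937 (iv F108668)) (tt N12200 D24777) (tt N8584 F88617))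
theorem Q10281 : ∀ i, i < 10281 → P i := stepQ 10280 Q10280 (allL N10280 (tt N9172 (iv F133477)) (tt N12097 (iv F133769)) (tt N8548 F88619) (tt N12174 (iv F110987)) (tt N10280 F88620) (tt N12193 (iv F111342)) (tt N12200 (iv F111487)) (tt N8546 F88621) (tt N8545 (iv D19546)) (tt N12201 D24778))
theorem Q10282 : ∀ i, i < 10282 → P i := stepQ 10281 Q10281 (allL N10281 (tt N9218 F88622) (tt N12199 (iv F111480)) (tt N8549 F88623) (tt N12175 (iv F110991)) (tt N10281 F88624) (tt N12194 (iv F111346)) (tt N11939 (iv F108677)) (tt N12201 (iv F111491)) (tt N8586 F88625) (tt N8546 (iv D19547)))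
theorem Q10283 : ∀ i, i < 10283 → P i := stepQ 10282 Q10282 (allL N10282 (tt N9219 F88626) (tt N10282 F88627) (tt N12200 (iv F111485)) (tt N8550 F88628) (tt N10282 F88629) (tt N12202 D24779) (tt N8548 F88630) (tt N11940 (iv F108684)) (tt N8547 (iv D19548)) (tt N12203 D24780))
theorem Q10284 : ∀ i, i < 10284 → P i := stepQ 10283 Q10283 (allL N10283 (tt N9220 F88631) (tt N10283 F88632) (tt N12201 (iv F111489)) (tt N8551 F88633) (tt N10283 F88634) (tt N12195 (iv F111372)) (tt N12203 (iv F111500)) (tt N8549 F88635) (tt N8588 F88636) (tt N8548 (iv D19549)))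
theorem Q10285 : ∀ i, i < 10285 → P i := stepQ 10284 Q10284 (allL N10284 (tt N9221 F88637) (tt N10284 F88638) (tt N12178 (iv F111016)) (tt N12202 (iv F111495)) (tt N12204 D24781) (tt N8550 (iv D19550)) (tt N12196 (iv F111377)) (tt N11942 (iv F108693)) (tt N12198 (iv F111456)) (tt N12205 D24782))
theorem Q10286 : ∀ i, i < 10286 → P i := stepQ 10285 Q10285 (allL N10285 (tt N9222 F88639) (tt N10285 F88640) (tt N11802 (iv F133727)) (tt N12203 (iv F111498)) (tt N8553 F88641) (tt N12205 (iv F111507)) (tt N8551 F88642) (tt N11943 (iv F108698)) (tt N8590 F88643) (tt N8550 (iv D19551)))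
theorem Q10287 : ∀ i, i < 10287 → P i := stepQ 10286 Q10286 (allL N10286 (tt N9223 F88644) (tt N10286 F88645) (tt N12180 (iv F111060)) (tt N11689 (iv F135529)) (tt N8552 (iv D19552)) (tt N12204 (iv F111504)) (tt N10286 F88646) (tt N11944 (iv F108702)) (tt N10286 F88647) (tt N11686 F135266))
theorem Q10288 : ∀ i, i < 10288 → P i := stepQ 10287 Q10287 (allL N10287 (tt N9224 F88648) (tt N10287 F88649) (tt N11579 (iv F133729)) (tt N10287 F88650) (tt N11686 (iv F135115)) (tt N8553 F88651) (tt N10287 F88652) (tt N11945 (iv F108708)) (tt N11575 F134427) (tt N8552 (iv D19553)))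
theorem Q10289 : ∀ i, i < 10289 → P i := stepQ 10288 Q10288 (allL N10288 (tt N8565 (iv F133042)) (tt N8555 (iv D19608)) (tt N8561 F133041) (tt N10288 F88943) (tt N10288 F88944) (tt N11982 (iv F109068)) (tt N8564 F133028) (tt N8558 F88945) (tt N10288 F88946) (tt N12094 (iv F110224)))
theorem Q10290 : ∀ i, i < 10290 → P i := stepQ 10289 Q10289 (allL N10289 (tt N8558 (iv F133524)) (tt N8564 F133030) (tt N8556 F88948) (tt N10289 F88949) (tt N10289 F88950) (tt N11988 (iv F133597)) (tt N8555 (iv D19609)) (tt N8565 F133029) (tt N10289 F88951) (tt N12095 (iv F110229)))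
theorem Q10291 : ∀ i, i < 10291 → P i := stepQ 10290 Q10290 (allL N10290 (tt N8560 F88952) (tt N8577 F133031) (tt N11988 (iv F133595)) (tt N8557 F88954) (tt N12206 D24859) (tt N8556 (iv D19610)) (tt N11984 (iv F109079)) (tt N8575 (iv F133052)) (tt N12207 D24861) (tt N12096 (iv F110233)))
theorem Q10292 : ∀ i, i < 10292 → P i := stepQ 10291 Q10291 (allL N10291 (tt N8563 F88966) (tt N8585 F133037) (tt N10291 F88968) (tt N12207 (iv F111921)) (tt N10291 F88969) (tt N10291 F88970) (tt N11987 (iv F109096)) (tt N8583 (iv F133550)) (tt N8557 (iv D19613)) (tt N12208 D24864))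
theorem Q10293 : ∀ i, i < 10293 → P i := stepQ 10292 Q10292 (allL N10292 (tt N12206 (iv F111908)) (tt N8569 F89088) (tt N11502 F134185) (tt N10292 F89089) (tt N8560 (iv D19636)) (tt N10292 F89090) (tt N12007 (iv F109289)) (tt N11977 F134186) (tt N11982 F134187) (tt N12123 (iv F110549)))
theorem Q10294 : ∀ i, i < 10294 → P i := stepQ 10293 Q10293 (allL N10293 (tt N8575 (iv F133051)) (tt N8570 F89091) (tt N11982 (iv F133852)) (tt N8562 F89092) (tt N11977 (iv F133853)) (tt N8561 F89093) (tt N12046 (iv F133642)) (tt N8560 (iv D19637)) (tt N11502 (iv F133855)) (tt N12124 (iv F110553)))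
theorem Q10295 : ∀ i, i < 10295 → P i := stepQ 10294 Q10294 (allL N10294 (tt N12207 (iv F111918)) (tt N8571 F89094) (tt N11977 F134188) (tt N8563 F89095) (tt N11982 F134189) (tt N10294 F89096) (tt N12009 (iv F109296)) (tt N11502 F134190) (tt N8560 (iv D19638)) (tt N12209 D24890))
theorem Q10296 : ∀ i, i < 10296 → P i := stepQ 10295 Q10295 (allL N10295 (tt N8583 (iv F133549)) (tt N8573 F89101) (tt N10295 F89102) (tt N11502 (iv F133854)) (tt N10295 F89103) (tt N10295 F89104) (tt N11541 (iv F133662)) (tt N8563 F89105) (tt N8562 (iv D19640)) (tt N12210 D24892))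
theorem Q10297 : ∀ i, i < 10297 → P i := stepQ 10296 Q10296 (allL N10296 (tt N12208 (iv F111935)) (tt N8574 F89106) (tt N10296 F89107) (tt N12209 (iv F112080)) (tt N10296 F89108) (tt N10296 F89109) (tt N12012 (iv F109311)) (tt N12210 (iv F112090)) (tt N12127 (iv F110568)) (tt N8563 (iv D19641)))
theorem Q10298 : ∀ i, i < 10298 → P i := stepQ 10297 Q10297 (allL N10297 (tt N11982 (iv F133845)) (tt N8566 F89115) (tt N8575 F89116) (tt N10297 F89117) (tt N12207 (iv F111922)) (tt N8565 (iv D19643)) (tt N12014 (iv F109318)) (tt N11988 (iv F133633)) (tt N12206 F111913) (tt N12128 (iv F110577)))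
theorem Q10299 : ∀ i, i < 10299 → P i := stepQ 10298 Q10298 (allL N10298 (tt N9091 (iv F133373)) (tt N12207 (iv F111919)) (tt N8567 F89124) (tt N8585 F133043) (tt N8566 (iv D19645)) (tt N10298 F89125) (tt N12016 (iv F109324)) (tt N8578 F133044) (tt N8577 F133045) (tt N12129 (iv F110586)))
theorem Q10300 : ∀ i, i < 10300 → P i := stepQ 10299 Q10299 (allL N10299 (tt N8735 (iv F133264)) (tt N12206 (iv F111909)) (tt N8568 F89132) (tt N10299 F89133) (tt N8577 F133046) (tt N10299 F89135) (tt N12018 (iv F109334)) (tt N8576 F133047) (tt N8566 (iv D19647)) (tt N12171 (iv F133801)))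
theorem Q10301 : ∀ i, i < 10301 → P i := stepQ 10300 Q10300 (allL N10300 (tt N9096 (iv F133344)) (tt N12046 (iv F133641)) (tt N9084 (iv F133341)) (tt N8572 F89246) (tt N11978 (iv F133582)) (tt N8579 F89247) (tt N8570 (iv D19674)) (tt N12041 (iv F109561)) (tt N11503 (iv F133572)) (tt N12165 (iv F110936)))
theorem Q10302 : ∀ i, i < 10302 → P i := stepQ 10301 Q10301 (allL N10301 (tt N9087 F134197) (tt N12209 (iv F112079)) (tt N9079 F134198) (tt N8574 F89253) (tt N11750 (iv F134401)) (tt N10301 F89254) (tt N12043 (iv F109569)) (tt N11425 F134199) (tt N12167 (iv F110942)) (tt N8571 (iv D19676)))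
theorem Q10303 : ∀ i, i < 10303 → P i := stepQ 10302 Q10302 (allL N10302 (tt N9152 (iv F133431)) (tt N11541 (iv F133661)) (tt N8581 F89256) (tt N11503 (iv F133571)) (tt N10302 F89257) (tt N11524 (iv F133717)) (tt N8573 F89258) (tt N12044 (iv F109574)) (tt N8572 (iv D19677)) (tt N12211 D24933))
theorem Q10304 : ∀ i, i < 10304 → P i := stepQ 10303 Q10303 (allL N10303 (tt N9226 F89259) (tt N12210 (iv F112086)) (tt N8582 F89260) (tt N11425 (iv F133573)) (tt N10303 F89261) (tt N10303 F89262) (tt N12211 (iv F112278)) (tt N8574 F89263) (tt N11874 (iv F133799)) (tt N8573 (iv D19678)))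
theorem Q10305 : ∀ i, i < 10305 → P i := stepQ 10304 Q10304 (allL N10304 (tt N11977 (iv F133576)) (tt N8576 F89272) (tt N12207 (iv F111920)) (tt N10304 F89273) (tt N8575 (iv D19681)) (tt N10304 F89274) (tt N12047 (iv F109589)) (tt N12206 (iv F133846)) (tt N11988 (iv F133598)) (tt N12169 (iv F110964)))
theorem Q10306 : ∀ i, i < 10306 → P i := stepQ 10305 Q10305 (allL N10305 (tt N11502 (iv F133565)) (tt N8578 F89278) (tt N12206 (iv F111910)) (tt N8583 F89279) (tt N11988 (iv F133596)) (tt N10305 F89280) (tt N12049 (iv F109595)) (tt N12207 (iv F133848)) (tt N8575 (iv D19683)) (tt N12212 D24938))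
theorem Q10307 : ∀ i, i < 10307 → P i := stepQ 10306 Q10306 (allL N10306 (tt N9097 (iv F133345)) (tt N11984 (iv F133847)) (tt N8579 F89291) (tt N8584 F89292) (tt N12018 (iv F133614)) (tt N9084 (iv F133342)) (tt N8577 (iv D19686)) (tt N12051 (iv F109608)) (tt N12016 (iv F133713)) (tt N12173 (iv F110984)))
theorem Q10308 : ∀ i, i < 10308 → P i := stepQ 10307 Q10307 (allL N10307 (tt N9227 F89298) (tt N12212 (iv F112293)) (tt N8580 F89299) (tt N8586 F89300) (tt N11791 (iv F133601)) (tt N10307 F89301) (tt N12053 (iv F109616)) (tt N12129 (iv F133837)) (tt N12175 (iv F110992)) (tt N8578 (iv D19688)))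
theorem Q10309 : ∀ i, i < 10309 → P i := stepQ 10308 Q10308 (allL N10308 (tt N9228 F89441) (tt N10308 F89442) (tt N11524 F133859) (tt N9502 F133860) (tt N11522 F133861) (tt N8581 (iv D19723)) (tt N10308 F89443) (tt N12074 (iv F109918)) (tt N8589 F89444) (tt N12213 D24987))
theorem Q10310 : ∀ i, i < 10310 → P i := stepQ 10309 Q10309 (allL N10309 (tt N9229 F89445) (tt N10309 F89446) (tt N12211 (iv F112276)) (tt N9500 F134372) (tt N10309 F89447) (tt N12213 (iv F112516)) (tt N8582 F89448) (tt N12075 (iv F109924)) (tt N11875 (iv F135058)) (tt N8581 (iv D19724)))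
theorem Q10311 : ∀ i, i < 10311 → P i := stepQ 10310 Q10310 (allL N10310 (tt N12210 (iv F133856)) (tt N8586 F89467) (tt N10310 F89468) (tt N12212 (iv F112294)) (tt N10310 F89469) (tt N10310 F89470) (tt N12077 (iv F109946)) (tt N12208 (iv F133851)) (tt N12199 (iv F111483)) (tt N8583 (iv D19729)))
theorem Q10312 : ∀ i, i < 10312 → P i := stepQ 10311 Q10311 (allL N10311 (tt N9100 (iv F133383)) (tt N11987 (iv F133849)) (tt N8587 F89472) (tt N12016 (iv F133712)) (tt N10311 F89473) (tt N11507 (iv F133864)) (tt N8585 F89474) (tt N12078 (iv F109951)) (tt N8584 (iv D19730)) (tt N12214 D24994))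
theorem Q10313 : ∀ i, i < 10313 → P i := stepQ 10312 Q10312 (allL N10312 (tt N9225 (iv F133521)) (tt N12208 (iv F133850)) (tt N8588 F89476) (tt N12129 (iv F133836)) (tt N10312 F89477) (tt N10312 F89478) (tt N12214 (iv F112548)) (tt N8586 F89479) (tt N12201 (iv F111492)) (tt N8585 (iv D19731)))
theorem Q10314 : ∀ i, i < 10314 → P i := stepQ 10313 Q10313 (allL N10313 (tt N9230 F89480) (tt N10313 F89481) (tt N11507 (iv F133863)) (tt N8589 F89482) (tt N11366 (iv F133865)) (tt N8587 (iv D19732)) (tt N10313 F89483) (tt N12080 (iv F109959)) (tt N9502 (iv F133561)) (tt N12215 D24996))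
theorem Q10315 : ∀ i, i < 10315 → P i := stepQ 10314 Q10314 (allL N10314 (tt N9231 F89484) (tt N10314 F89485) (tt N12214 (iv F112546)) (tt N8590 F89486) (tt N10314 F89487) (tt N12215 (iv F112556)) (tt N8588 F89488) (tt N12081 (iv F109965)) (tt N12203 (iv F111501)) (tt N8587 (iv D19733)))
theorem Q10316 : ∀ i, i < 10316 → P i := stepQ 10315 Q10315 (allL N10315 (tt N9233 F89493) (tt N10315 F89494) (tt N11444 (iv F133718)) (tt N12215 (iv F112555)) (tt N11442 F134415) (tt N8590 F89495) (tt N10315 F89496) (tt N12082 (iv F109973)) (tt N11716 (iv F135105)) (tt N8589 (iv D19735)))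
theorem Q10317 : ∀ i, i < 10317 → P i := stepQ 10316 Q10316 (allL N10316 (tt N8651 (iv F135121)) (tt N8594 F89820) (tt N10316 F89821) (tt N8908 (iv F134928)) (tt N12090 (iv F110178)) (tt N8592 (iv D19794)) (tt N8605 F89822) (tt N8656 F134438) (tt N12216 D25063) (tt N10316 F89823))
theorem Q10318 : ∀ i, i < 10318 → P i := stepQ 10317 Q10317 (allL N10317 (tt N11382 (iv F105289)) (tt N12216 (iv F112945)) (tt N8595 F89866) (tt N11714 (iv F135142)) (tt N12193 (iv F133813)) (tt N10317 F89867) (tt N8624 F89868) (tt N11414 (iv F133811)) (tt N8594 (iv D19803)) (tt N12217 D25075))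
theorem Q10319 : ∀ i, i < 10319 → P i := stepQ 10318 Q10318 (allL N10318 (tt N9355 (iv F135043)) (tt N10318 F89912) (tt N12217 (iv F113000)) (tt N10318 F89913) (tt N12195 (iv F133818)) (tt N10318 F89914) (tt N8641 F89915) (tt N9488 F134457) (tt N10318 F89916) (tt N8595 (iv D19812)))
theorem Q10320 : ∀ i, i < 10320 → P i := stepQ 10319 Q10319 (allL N10319 (tt N8604 F89980) (tt N8910 (iv F134420)) (tt N9162 (iv F134888)) (tt N8597 F89981) (tt N8778 F89982) (tt N8909 (iv F134905)) (tt N8596 (iv D19822)) (tt N12218 D25095) (tt N8664 F89983) (tt N10319 F89984))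
theorem Q10321 : ∀ i, i < 10321 → P i := stepQ 10320 Q10320 (allL N10320 (tt N8605 F89985) (tt N8652 F135318) (tt N10320 F89986) (tt N8909 F135319) (tt N12104 (iv F110399)) (tt N8597 (iv D19823)) (tt N8651 F135320) (tt N12219 D25096) (tt N12220 D25097) (tt N10320 F89987))
theorem Q10322 : ∀ i, i < 10322 → P i := stepQ 10321 Q10321 (allL N10321 (tt N8606 F89988) (tt N11383 (iv F105335)) (tt N10321 F89989) (tt N12218 (iv F113116)) (tt N8598 F89990) (tt N12219 (iv F113123)) (tt N10321 F89991) (tt N8597 (iv D19824)) (tt N8666 F89992) (tt N10321 F89993))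
theorem Q10323 : ∀ i, i < 10323 → P i := stepQ 10322 Q10322 (allL N10322 (tt N11761 (iv F107761)) (tt N8611 F89994) (tt N12221 D25098) (tt N8599 (iv D19825)) (tt N8787 F89995) (tt N11740 (iv F107609)) (tt N12222 D25099) (tt N11737 (iv F107589)) (tt N8601 F89996) (tt N11768 (iv F107801)))
theorem Q10324 : ∀ i, i < 10324 → P i := stepQ 10323 Q10323 (allL N10323 (tt N11762 (iv F107768)) (tt N8612 F89997) (tt N10323 F89998) (tt N12222 (iv F113132)) (tt N8600 F89999) (tt N12223 D25100) (tt N8599 (iv D19826)) (tt N12224 D25101) (tt N8602 F90000) (tt N11769 (iv F107807)))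
theorem Q10325 : ∀ i, i < 10325 → P i := stepQ 10324 Q10324 (allL N10324 (tt N11763 (iv F107774)) (tt N8613 F90001) (tt N10324 F90002) (tt N8789 F90003) (tt N12224 (iv F113140)) (tt N8671 F90004) (tt N11739 (iv F107603)) (tt N8600 (iv D19827)) (tt N8603 F90005) (tt N11770 (iv F107815)))
theorem Q10326 : ∀ i, i < 10326 → P i := stepQ 10325 Q10325 (allL N10325 (tt N12102 (iv F110385)) (tt N12225 D25102) (tt N8601 (iv D19828)) (tt N10325 F90006) (tt N8793 F90007) (tt N12088 (iv F110165)) (tt N12226 D25103) (tt N12084 (iv F110143)) (tt N12221 (iv F113130)) (tt N10325 F90008))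
theorem Q10327 : ∀ i, i < 10327 → P i := stepQ 10326 Q10326 (allL N10326 (tt N12103 (iv F110391)) (tt N8618 F90009) (tt N12226 (iv F113146)) (tt N8602 F90010) (tt N8794 F90011) (tt N12227 D25104) (tt N8601 (iv D19829)) (tt N12228 D25105) (tt N12222 (iv F113134)) (tt N10326 F90012))
theorem Q10328 : ∀ i, i < 10328 → P i := stepQ 10327 Q10327 (allL N10327 (tt N12104 (iv F110396)) (tt N8619 F90013) (tt N10327 F90014) (tt N12227 (iv F113151)) (tt N8605 F90015) (tt N8602 (iv D19830)) (tt N12090 (iv F110179)) (tt N12229 D25106) (tt N12230 D25107) (tt N10327 F90016))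
theorem Q10329 : ∀ i, i < 10329 → P i := stepQ 10328 Q10328 (allL N10328 (tt N12105 (iv F110402)) (tt N8620 F90017) (tt N10328 F90018) (tt N12228 (iv F113154)) (tt N8603 F90019) (tt N12229 (iv F113160)) (tt N12087 (iv F110160)) (tt N8602 (iv D19831)) (tt N12224 (iv F113141)) (tt N10328 F90020))
theorem Q10330 : ∀ i, i < 10330 → P i := stepQ 10329 Q10329 (allL N10329 (tt N8909 (iv F134904)) (tt N8621 F90027) (tt N9393 (iv F134919)) (tt N8605 F90028) (tt N12231 D25110) (tt N8604 (iv D19833)) (tt N8908 (iv F134929)) (tt N12232 D25111) (tt N12233 D25112) (tt N10329 F90029))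
theorem Q10331 : ∀ i, i < 10331 → P i := stepQ 10330 Q10330 (allL N10330 (tt N12218 (iv F113115)) (tt N8622 F90030) (tt N12083 (iv F134918)) (tt N8606 F90031) (tt N8798 F90032) (tt N12232 (iv F113181)) (tt N10330 F90033) (tt N8604 (iv D19834)) (tt N8677 F90034) (tt N10330 F90035))
theorem Q10332 : ∀ i, i < 10332 → P i := stepQ 10331 Q10331 (allL N10331 (tt N12219 (iv F113121)) (tt N8623 F90036) (tt N10331 F90037) (tt N12232 (iv F113180)) (tt N12229 (iv F113159)) (tt N8606 F90038) (tt N12234 D25113) (tt N8605 (iv D19835)) (tt N12235 D25114) (tt N10331 F90039))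
theorem Q10333 : ∀ i, i < 10333 → P i := stepQ 10332 Q10332 (allL N10332 (tt N12220 (iv F113125)) (tt N8624 F90040) (tt N10332 F90041) (tt N12233 (iv F113184)) (tt N12230 (iv F113164)) (tt N8679 F90042) (tt N12216 (iv F112948)) (tt N12235 (iv F113193)) (tt N8605 (iv D19836)) (tt N12236 D25115))
theorem Q10334 : ∀ i, i < 10334 → P i := stepQ 10333 Q10333 (allL N10333 (tt N8933 F90043) (tt N11740 (iv F107607)) (tt N12166 (iv F133797)) (tt N8607 (iv D19837)) (tt N11743 (iv F107629)) (tt N8611 F90044) (tt N12237 D25117) (tt N8921 F90045) (tt N8924 F90046) (tt N11422 (iv F105718)))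
theorem Q10335 : ∀ i, i < 10335 → P i := stepQ 10334 Q10334 (allL N10334 (tt N8934 F90047) (tt N11741 (iv F107614)) (tt N8625 F90048) (tt N12237 (iv F113204)) (tt N8608 F90049) (tt N12238 D25118) (tt N8607 (iv D19838)) (tt N12239 D25119) (tt N8925 F90050) (tt N11423 (iv F105724)))
theorem Q10336 : ∀ i, i < 10336 → P i := stepQ 10335 Q10335 (allL N10335 (tt N8935 F90051) (tt N11742 (iv F107620)) (tt N8626 F90052) (tt N11745 (iv F107643)) (tt N12239 (iv F113212)) (tt N8684 F90053) (tt N8923 F90054) (tt N8608 (iv D19839)) (tt N8926 F90055) (tt N11424 (iv F105732)))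
theorem Q10337 : ∀ i, i < 10337 → P i := stepQ 10336 Q10336 (allL N10336 (tt N8930 F90056) (tt N11737 (iv F107586)) (tt N12154 (iv F134834)) (tt N8609 (iv D19840)) (tt N8808 F90057) (tt N8921 F90058) (tt N12240 D25121) (tt N8611 F90059) (tt N8614 F90060) (tt N11596 (iv F106790)))
theorem Q10338 : ∀ i, i < 10338 → P i := stepQ 10337 Q10337 (allL N10337 (tt N8931 F90061) (tt N11738 (iv F107593)) (tt N8627 F90062) (tt N12240 (iv F113222)) (tt N8610 F90063) (tt N12241 D25122) (tt N8609 (iv D19841)) (tt N12242 D25123) (tt N8615 F90064) (tt N11597 (iv F106796)))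
theorem Q10339 : ∀ i, i < 10339 → P i := stepQ 10338 Q10338 (allL N10338 (tt N8932 F90065) (tt N11739 (iv F107599)) (tt N8628 F90066) (tt N8810 F90067) (tt N12242 (iv F113230)) (tt N11601 (iv F106822)) (tt N8613 F90068) (tt N8610 (iv D19842)) (tt N8616 F90069) (tt N11598 (iv F106804)))
theorem Q10340 : ∀ i, i < 10340 → P i := stepQ 10339 Q10339 (allL N10339 (tt N11387 (iv F105367)) (tt N12243 D25124) (tt N8611 (iv D19843)) (tt N8629 F90070) (tt N8814 F90071) (tt N12166 (iv F133798)) (tt N12244 D25125) (tt N12154 (iv F134836)) (tt N8617 F90072) (tt N11824 (iv F108058)))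
theorem Q10341 : ∀ i, i < 10341 → P i := stepQ 10340 Q10340 (allL N10340 (tt N11388 (iv F105374)) (tt N12222 (iv F113131)) (tt N12244 (iv F113236)) (tt N8612 F90073) (tt N8815 F90074) (tt N12245 D25126) (tt N8611 (iv D19844)) (tt N12246 D25127) (tt N8618 F90075) (tt N11825 (iv F108063)))
theorem Q10342 : ∀ i, i < 10342 → P i := stepQ 10341 Q10341 (allL N10341 (tt N11389 (iv F105380)) (tt N12223 (iv F113135)) (tt N8631 F90076) (tt N12245 (iv F113240)) (tt N8687 F90077) (tt N8612 (iv D19845)) (tt N12238 (iv F113209)) (tt N12247 D25128) (tt N12248 D25129) (tt N11826 (iv F108067)))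
theorem Q10343 : ∀ i, i < 10343 → P i := stepQ 10342 Q10342 (allL N10342 (tt N11390 (iv F105386)) (tt N12224 (iv F113138)) (tt N8632 F90078) (tt N12246 (iv F113241)) (tt N8613 F90079) (tt N12247 (iv F113246)) (tt N12242 (iv F113231)) (tt N8612 (iv D19846)) (tt N8620 F90080) (tt N11827 (iv F108072)))
theorem Q10344 : ∀ i, i < 10344 → P i := stepQ 10343 Q10343 (allL N10343 (tt N9165 F90087) (tt N12085 (iv F110146)) (tt N12141 (iv F134986)) (tt N8615 F90088) (tt N8819 F90089) (tt N12140 (iv F134989)) (tt N8614 (iv D19848)) (tt N12249 D25133) (tt N12240 (iv F113224)) (tt N10343 F90090))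
theorem Q10345 : ∀ i, i < 10345 → P i := stepQ 10344 Q10344 (allL N10344 (tt N9167 F90096) (tt N12087 (iv F110157)) (tt N8633 F90097) (tt N12249 (iv F113265)) (tt N8616 F90098) (tt N12181 (iv F134991)) (tt N8620 F90099) (tt N8615 (iv D19850)) (tt N12242 (iv F113232)) (tt N10344 F90100))
theorem Q10346 : ∀ i, i < 10346 → P i := stepQ 10345 Q10345 (allL N10345 (tt N12155 (iv F135126)) (tt N8617 (iv D19851)) (tt N12225 (iv F113142)) (tt N8634 F90101) (tt N8822 F90102) (tt N12113 (iv F133777)) (tt N12250 D25137) (tt N12112 (iv F134983)) (tt N12243 (iv F113235)) (tt N10345 F90103))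
theorem Q10347 : ∀ i, i < 10347 → P i := stepQ 10346 Q10346 (allL N10346 (tt N11391 (iv F105399)) (tt N12250 (iv F113281)) (tt N8618 F90104) (tt N8635 F90105) (tt N8823 F90106) (tt N12160 (iv F134445)) (tt N8617 (iv D19852)) (tt N12251 D25139) (tt N12244 (iv F113239)) (tt N10346 F90107))
theorem Q10348 : ∀ i, i < 10348 → P i := stepQ 10347 Q10347 (allL N10347 (tt N11392 (iv F105404)) (tt N12227 (iv F113150)) (tt N12160 (iv F134444)) (tt N8619 F90108) (tt N12252 D25140) (tt N8618 (iv D19853)) (tt N12156 (iv F133803)) (tt N12253 D25141) (tt N12254 D25142) (tt N10347 F90109))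
theorem Q10349 : ∀ i, i < 10349 → P i := stepQ 10348 Q10348 (allL N10348 (tt N11393 (iv F105409)) (tt N12228 (iv F113153)) (tt N12251 (iv F113288)) (tt N8620 F90110) (tt N8825 F90111) (tt N12253 (iv F113296)) (tt N12249 (iv F113267)) (tt N8618 (iv D19854)) (tt N12246 (iv F113243)) (tt N10348 F90112))
theorem Q10350 : ∀ i, i < 10350 → P i := stepQ 10349 Q10349 (allL N10349 (tt N11394 (iv F105415)) (tt N12229 (iv F113157)) (tt N8637 F90113) (tt N12253 (iv F113295)) (tt N8623 F90114) (tt N8620 F90115) (tt N12185 (iv F135390)) (tt N8619 (iv D19855)) (tt N12255 D25144) (tt N10349 F90116))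
theorem Q10351 : ∀ i, i < 10351 → P i := stepQ 10350 Q10350 (allL N10350 (tt N11395 (iv F105421)) (tt N12230 (iv F113162)) (tt N8638 F90117) (tt N12254 (iv F113298)) (tt N8624 F90118) (tt N12248 (iv F113249)) (tt N12193 (iv F133814)) (tt N12255 (iv F113304)) (tt N8619 (iv D19856)) (tt N12256 D25145))
theorem Q10352 : ∀ i, i < 10352 → P i := stepQ 10351 Q10351 (allL N10351 (tt N11396 (iv F105426)) (tt N12231 (iv F113176)) (tt N10351 F90119) (tt N12252 (iv F113292)) (tt N8621 (iv D19857)) (tt N8828 F90120) (tt N11683 (iv F135141)) (tt N12257 D25146) (tt N12258 D25147) (tt N10351 F90121))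
theorem Q10353 : ∀ i, i < 10353 → P i := stepQ 10352 Q10352 (allL N10352 (tt N11397 (iv F105430)) (tt N12232 (iv F113179)) (tt N10352 F90122) (tt N8623 F90123) (tt N12257 (iv F113309)) (tt N8622 F90124) (tt N11736 (iv F135616)) (tt N8621 (iv D19858)) (tt N12259 D25149) (tt N10352 F90125))
theorem Q10354 : ∀ i, i < 10354 → P i := stepQ 10353 Q10353 (allL N10353 (tt N11398 (iv F105435)) (tt N12233 (iv F113183)) (tt N10353 F90126) (tt N8624 F90127) (tt N12258 (iv F113313)) (tt N8697 F90128) (tt N11714 (iv F135143)) (tt N12259 (iv F113321)) (tt N8621 (iv D19859)) (tt N12260 D25150))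
theorem Q10355 : ∀ i, i < 10355 → P i := stepQ 10354 Q10354 (allL N10354 (tt N11399 (iv F105439)) (tt N12234 (iv F113186)) (tt N8639 F90129) (tt N11736 (iv F135615)) (tt N12185 (iv F135389)) (tt N10354 F90130) (tt N8623 (iv D19860)) (tt N11421 (iv F133809)) (tt N12261 D25151) (tt N10354 F90131))
theorem Q10356 : ∀ i, i < 10356 → P i := stepQ 10355 Q10355 (allL N10355 (tt N11400 (iv F105443)) (tt N12235 (iv F113190)) (tt N8640 F90132) (tt N12259 (iv F113319)) (tt N12255 (iv F113303)) (tt N8699 F90133) (tt N12261 (iv F113327)) (tt N8624 F90134) (tt N8623 (iv D19861)) (tt N12262 D25152))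
theorem Q10357 : ∀ i, i < 10357 → P i := stepQ 10356 Q10356 (allL N10356 (tt N11401 (iv F105447)) (tt N12236 (iv F113194)) (tt N8641 F90135) (tt N12260 (iv F113323)) (tt N12256 (iv F113306)) (tt N8700 F90136) (tt N12217 (iv F113002)) (tt N12262 (iv F113330)) (tt N10356 F90137) (tt N8624 (iv D19862)))
theorem Q10358 : ∀ i, i < 10358 → P i := stepQ 10357 Q10357 (allL N10357 (tt N9407 F90148) (tt N10357 F90149) (tt N12238 (iv F113207)) (tt N12198 (iv F135060)) (tt N8703 F90150) (tt N8625 (iv D19865)) (tt N8631 F90151) (tt N12263 D25157) (tt N12202 (iv F133834)) (tt N11876 (iv F108309)))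
theorem Q10359 : ∀ i, i < 10359 → P i := stepQ 10358 Q10358 (allL N10358 (tt N9408 F90152) (tt N10358 F90153) (tt N12239 (iv F113211)) (tt N11932 (iv F134763)) (tt N8626 F90154) (tt N12263 (iv F113354)) (tt N9403 F90155) (tt N8625 (iv D19866)) (tt N9404 F90156) (tt N11877 (iv F108315)))
theorem Q10360 : ∀ i, i < 10360 → P i := stepQ 10359 Q10359 (allL N10359 (tt N9405 F90167) (tt N10359 F90168) (tt N12241 (iv F113226)) (tt N11883 (iv F135399)) (tt N11659 (iv F107100)) (tt N8627 (iv D19869)) (tt N9402 F90169) (tt N12264 D25163) (tt N11880 (iv F135407)) (tt N11655 (iv F107079)))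
theorem Q10361 : ∀ i, i < 10361 → P i := stepQ 10360 Q10360 (allL N10360 (tt N9406 F90170) (tt N10360 F90171) (tt N12242 (iv F113229)) (tt N12182 (iv F135402)) (tt N8628 F90172) (tt N12264 (iv F113381)) (tt N8632 F90173) (tt N8627 (iv D19870)) (tt N8633 F90174) (tt N11656 (iv F107085)))
theorem Q10362 : ∀ i, i < 10362 → P i := stepQ 10361 Q10361 (allL N10361 (tt N12192 (iv F135130)) (tt N8629 (iv D19871)) (tt N10361 F90175) (tt N12243 (iv F113233)) (tt N8646 F90176) (tt N12126 (iv F133778)) (tt N12265 D25166) (tt N12114 (iv F135120)) (tt N8634 F90177) (tt N11899 (iv F108421)))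
theorem Q10363 : ∀ i, i < 10363 → P i := stepQ 10362 Q10362 (allL N10362 (tt N11402 (iv F105457)) (tt N12265 (iv F113389)) (tt N8630 F90178) (tt N12244 (iv F113237)) (tt N8647 F90179) (tt N12266 D25167) (tt N8629 (iv D19872)) (tt N12267 D25168) (tt N8635 F90180) (tt N11900 (iv F108426)))
theorem Q10364 : ∀ i, i < 10364 → P i := stepQ 10363 Q10363 (allL N10363 (tt N11403 (iv F105462)) (tt N10363 F90181) (tt N12266 (iv F113393)) (tt N8631 F90182) (tt N12268 D25169) (tt N8630 (iv D19873)) (tt N12198 (iv F135061)) (tt N12269 D25170) (tt N12196 (iv F134461)) (tt N11901 (iv F108430)))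
theorem Q10365 : ∀ i, i < 10365 → P i := stepQ 10364 Q10364 (allL N10364 (tt N11404 (iv F105467)) (tt N10364 F90183) (tt N12267 (iv F113394)) (tt N8632 F90184) (tt N8649 F90185) (tt N12269 (iv F113402)) (tt N12182 (iv F135404)) (tt N8630 (iv D19874)) (tt N8636 F90186) (tt N11902 (iv F108436)))
theorem Q10366 : ∀ i, i < 10366 → P i := stepQ 10365 Q10365 (allL N10365 (tt N11405 (iv F105474)) (tt N10365 F90187) (tt N12247 (iv F113244)) (tt N12269 (iv F113401)) (tt N8709 F90188) (tt N8632 F90189) (tt N12270 D25172) (tt N8631 (iv D19875)) (tt N12271 D25173) (tt N11903 (iv F108441)))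
theorem Q10367 : ∀ i, i < 10367 → P i := stepQ 10366 Q10366 (allL N10366 (tt N11406 (iv F105479)) (tt N10366 F90190) (tt N12248 (iv F113247)) (tt N12196 (iv F134460)) (tt N8710 F90191) (tt N8638 F90192) (tt N12202 (iv F133833)) (tt N12271 (iv F113411)) (tt N8631 (iv D19876)) (tt N12272 D25174))
theorem Q10368 : ∀ i, i < 10368 → P i := stepQ 10367 Q10367 (allL N10367 (tt N12183 (iv F135128)) (tt N8635 F90225) (tt N10367 F90226) (tt N12250 (iv F113282)) (tt N8657 F90227) (tt N12121 (iv F133789)) (tt N8634 (iv D19884)) (tt N12273 D25187) (tt N12265 (iv F113392)) (tt N10367 F90228))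
theorem Q10369 : ∀ i, i < 10369 → P i := stepQ 10368 Q10368 (allL N10368 (tt N11407 (iv F105499)) (tt N12273 (iv F113472)) (tt N8636 F90232) (tt N12251 (iv F113289)) (tt N8658 F90233) (tt N12151 (iv F133824)) (tt N12143 (iv F135137)) (tt N8635 (iv D19886)) (tt N12267 (iv F113396)) (tt N10368 F90234))
theorem Q10370 : ∀ i, i < 10370 → P i := stepQ 10369 Q10369 (allL N10369 (tt N11408 (iv F105521)) (tt N10369 F90246) (tt N12255 (iv F113302)) (tt N12190 (iv F133830)) (tt N8640 F90247) (tt N12271 (iv F113410)) (tt N12188 (iv F135392)) (tt N8638 F90248) (tt N8637 (iv D19890)) (tt N12274 D25194))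
theorem Q10371 : ∀ i, i < 10371 → P i := stepQ 10370 Q10370 (allL N10370 (tt N11409 (iv F105525)) (tt N10370 F90249) (tt N12256 (iv F113305)) (tt N12197 (iv F134462)) (tt N8641 F90250) (tt N12272 (iv F113414)) (tt N12195 (iv F133819)) (tt N12274 (iv F113499)) (tt N10370 F90251) (tt N8638 (iv D19891)))
theorem Q10372 : ∀ i, i < 10372 → P i := stepQ 10371 Q10371 (allL N10371 (tt N11410 (iv F105530)) (tt N10371 F90252) (tt N12261 (iv F113326)) (tt N10371 F90253) (tt N12188 (iv F135391)) (tt N12275 D25195) (tt N8640 F90254) (tt N12187 (iv F134458)) (tt N8639 (iv D19892)) (tt N12276 D25196))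
theorem Q10373 : ∀ i, i < 10373 → P i := stepQ 10372 Q10372 (allL N10372 (tt N11411 (iv F105533)) (tt N10372 F90255) (tt N12262 (iv F113328)) (tt N10372 F90256) (tt N12274 (iv F113498)) (tt N8720 F90257) (tt N12276 (iv F113507)) (tt N8641 F90258) (tt N10372 F90259) (tt N8640 (iv D19893)))
theorem Q10374 : ∀ i, i < 10374 → P i := stepQ 10373 Q10373 (allL N10373 (tt N12216 (iv F135123)) (tt N8642 (iv D19894)) (tt N10373 F90260) (tt N8889 F90261) (tt N12114 (iv F135119)) (tt N10373 F90262) (tt N12220 (iv F135583)) (tt N8646 F90263) (tt N8651 F90264) (tt N11702 (iv F107318)))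
theorem Q10375 : ∀ i, i < 10375 → P i := stepQ 10374 Q10374 (allL N10374 (tt N11386 (iv F135384)) (tt N12220 (iv F135581)) (tt N8643 F90265) (tt N8890 F90266) (tt N12144 (iv F135138)) (tt N11432 (iv F135608)) (tt N8642 (iv D19895)) (tt N12277 D25200) (tt N8652 F90267) (tt N11703 (iv F107323)))
theorem Q10376 : ∀ i, i < 10376 → P i := stepQ 10375 Q10375 (allL N10375 (tt N11357 (iv F135439)) (tt N10375 F90268) (tt N11432 (iv F135606)) (tt N8644 F90269) (tt N12278 D25201) (tt N8643 (iv D19896)) (tt N10375 F90270) (tt N12279 D25202) (tt N11352 (iv F135366)) (tt N11704 (iv F107328)))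
theorem Q10377 : ∀ i, i < 10377 → P i := stepQ 10376 Q10376 (allL N10376 (tt N11412 (iv F105556)) (tt N10376 F90271) (tt N12277 (iv F113521)) (tt N8645 F90272) (tt N12182 (iv F135403)) (tt N12279 (iv F113529)) (tt N8649 F90273) (tt N8643 (iv D19897)) (tt N8653 F90274) (tt N11705 (iv F107334)))
theorem Q10378 : ∀ i, i < 10378 → P i := stepQ 10377 Q10377 (allL N10377 (tt N11413 (iv F105563)) (tt N10377 F90275) (tt N8893 F90276) (tt N12279 (iv F113528)) (tt N11712 (iv F107372)) (tt N8645 F90277) (tt N12280 D25204) (tt N8644 (iv D19898)) (tt N12281 D25205) (tt N11706 (iv F107340)))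
theorem Q10379 : ∀ i, i < 10379 → P i := stepQ 10378 Q10378 (allL N10378 (tt N11354 (iv F135099)) (tt N10378 F90278) (tt N8894 F90279) (tt N11352 (iv F135365)) (tt N11713 (iv F107378)) (tt N8655 F90280) (tt N10378 F90281) (tt N12281 (iv F113541)) (tt N8644 (iv D19899)) (tt N11363 (iv F135076)))
theorem Q10380 : ∀ i, i < 10380 → P i := stepQ 10379 Q10379 (allL N10379 (tt N8646 (iv D19900)) (tt N11414 (iv F105575)) (tt N10379 F90282) (tt N8901 F90283) (tt N12192 (iv F135131)) (tt N10379 F90284) (tt N12282 D25207) (tt N12216 (iv F135125)) (tt N8656 F90285) (tt N11946 (iv F108714)))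
theorem Q10381 : ∀ i, i < 10381 → P i := stepQ 10380 Q10380 (allL N10380 (tt N12282 (iv F113546)) (tt N8647 F90286) (tt N10380 F90287) (tt N8902 F90288) (tt N12265 (iv F113391)) (tt N12283 D25208) (tt N8646 (iv D19901)) (tt N12284 D25209) (tt N8657 F90289) (tt N11947 (iv F108719)))
theorem Q10382 : ∀ i, i < 10382 → P i := stepQ 10381 Q10381 (allL N10381 (tt N11416 (iv F105586)) (tt N12283 (iv F113550)) (tt N8648 F90290) (tt N8903 F90291) (tt N12285 D25210) (tt N8647 (iv D19902)) (tt N10381 F90292) (tt N12286 D25211) (tt N10381 F90293) (tt N11948 (iv F108724)))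
theorem Q10383 : ∀ i, i < 10383 → P i := stepQ 10382 Q10382 (allL N10382 (tt N11417 (iv F105592)) (tt N12284 (iv F113555)) (tt N8649 F90294) (tt N8904 F90295) (tt N12267 (iv F113395)) (tt N12286 (iv F113564)) (tt N12277 (iv F113523)) (tt N8647 (iv D19903)) (tt N8658 F90296) (tt N11949 (iv F108729)))
theorem Q10384 : ∀ i, i < 10384 → P i := stepQ 10383 Q10383 (allL N10383 (tt N11418 (iv F105597)) (tt N10383 F90297) (tt N12285 (iv F113559)) (tt N8724 F90298) (tt N8648 (iv D19904)) (tt N12268 (iv F113399)) (tt N10383 F90299) (tt N12287 D25212) (tt N10383 F90300) (tt N11950 (iv F108734)))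
theorem Q10385 : ∀ i, i < 10385 → P i := stepQ 10384 Q10384 (allL N10384 (tt N11419 (iv F105603)) (tt N10384 F90301) (tt N12286 (iv F113562)) (tt N8650 F90302) (tt N12287 (iv F113568)) (tt N8649 F90303) (tt N12288 D25213) (tt N8648 (iv D19905)) (tt N10384 F90304) (tt N11951 (iv F108739)))
theorem Q10386 : ∀ i, i < 10386 → P i := stepQ 10385 Q10385 (allL N10385 (tt N11420 (iv F105609)) (tt N10385 F90305) (tt N8907 F90306) (tt N12288 (iv F113571)) (tt N8726 F90307) (tt N12280 (iv F113536)) (tt N8650 (iv D19906)) (tt N10385 F90308) (tt N10385 F90309) (tt N11953 (iv F108751)))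
theorem Q10387 : ∀ i, i < 10387 → P i := stepQ 10386 Q10386 (allL N10386 (tt N11385 (iv F135380)) (tt N12219 (iv F135578)) (tt N8653 F90323) (tt N8911 F90324) (tt N12143 (iv F135136)) (tt N11383 (iv F135371)) (tt N8658 F90325) (tt N8652 (iv D19910)) (tt N12277 (iv F113524)) (tt N10386 F90326))
theorem Q10388 : ∀ i, i < 10388 → P i := stepQ 10387 Q10387 (allL N10387 (tt N11355 (iv F135103)) (tt N10387 F90339) (tt N8915 F90340) (tt N11353 (iv F135367)) (tt N10387 F90341) (tt N12281 (iv F113540)) (tt N10387 F90342) (tt N8655 F90343) (tt N8654 (iv D19914)) (tt N11364 (iv F135078)))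
theorem Q10389 : ∀ i, i < 10389 → P i := stepQ 10388 Q10388 (allL N10388 (tt N8657 F90349) (tt N11421 (iv F105668)) (tt N10388 F90350) (tt N8917 F90351) (tt N12183 (iv F135129)) (tt N10388 F90352) (tt N8656 (iv D19916)) (tt N12234 (iv F135614)) (tt N12282 (iv F113549)) (tt N10388 F90353))
theorem Q10390 : ∀ i, i < 10390 → P i := stepQ 10389 Q10389 (allL N10389 (tt N12234 (iv F135612)) (tt N8658 F90354) (tt N10389 F90355) (tt N8918 F90356) (tt N12273 (iv F113474)) (tt N10389 F90357) (tt N12219 (iv F135580)) (tt N8657 (iv D19917)) (tt N12284 (iv F113558)) (tt N10389 F90358))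
theorem Q10391 : ∀ i, i < 10391 → P i := stepQ 10390 Q10390 (allL N10390 (tt N8669 F90390) (tt N11422 (iv F105713)) (tt N12164 (iv F134828)) (tt N8659 (iv D19924)) (tt N8921 F90391) (tt N11768 (iv F107798)) (tt N12289 D25227) (tt N11743 (iv F107631)) (tt N8661 F90392) (tt N11740 (iv F107612)))
theorem Q10392 : ∀ i, i < 10392 → P i := stepQ 10391 Q10391 (allL N10391 (tt N8670 F90393) (tt N11423 (iv F105720)) (tt N10391 F90394) (tt N12289 (iv F113636)) (tt N8660 F90395) (tt N12290 D25228) (tt N8659 (iv D19925)) (tt N12291 D25229) (tt N8662 F90396) (tt N11741 (iv F107618)))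
theorem Q10393 : ∀ i, i < 10393 → P i := stepQ 10392 Q10392 (allL N10392 (tt N8671 F90397) (tt N11424 (iv F105726)) (tt N10392 F90398) (tt N8923 F90399) (tt N12291 (iv F113643)) (tt N11763 (iv F107778)) (tt N11745 (iv F107645)) (tt N8660 (iv D19926)) (tt N8663 F90400) (tt N11742 (iv F107626)))
theorem Q10394 : ∀ i, i < 10394 → P i := stepQ 10393 Q10393 (allL N10393 (tt N8673 F90406) (tt N11426 (iv F105740)) (tt N11850 (iv F134826)) (tt N8662 F90407) (tt N8927 F90408) (tt N12292 D25232) (tt N8661 (iv D19928)) (tt N12293 D25233) (tt N12289 (iv F113638)) (tt N8728 F90409))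
theorem Q10395 : ∀ i, i < 10395 → P i := stepQ 10394 Q10394 (allL N10394 (tt N8674 F90410) (tt N11427 (iv F105745)) (tt N10394 F90411) (tt N12292 (iv F113655)) (tt N8665 F90412) (tt N8662 (iv D19929)) (tt N10394 F90413) (tt N12294 D25234) (tt N12295 D25235) (tt N8729 F90414))
theorem Q10396 : ∀ i, i < 10396 → P i := stepQ 10395 Q10395 (allL N10395 (tt N8675 F90415) (tt N11428 (iv F105751)) (tt N10395 F90416) (tt N12293 (iv F113659)) (tt N8663 F90417) (tt N12294 (iv F113665)) (tt N11976 (iv F109031)) (tt N8662 (iv D19930)) (tt N12291 (iv F113644)) (tt N8730 F90418))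
theorem Q10397 : ∀ i, i < 10397 → P i := stepQ 10396 Q10396 (allL N10396 (tt N8676 F90430) (tt N11429 (iv F105767)) (tt N9134 (iv F134264)) (tt N8665 F90431) (tt N9132 (iv F134261)) (tt N8664 (iv D19933)) (tt N10396 F90432) (tt N12296 D25240) (tt N12297 D25241) (tt N8731 F90433))
theorem Q10398 : ∀ i, i < 10398 → P i := stepQ 10397 Q10397 (allL N10397 (tt N8677 F90434) (tt N11430 (iv F105772)) (tt N9161 (iv F134887)) (tt N8666 F90435) (tt N8929 F90436) (tt N12296 (iv F113693)) (tt N10397 F90437) (tt N8664 (iv D19934)) (tt N12218 (iv F113119)) (tt N8732 F90438))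
theorem Q10399 : ∀ i, i < 10399 → P i := stepQ 10398 Q10398 (allL N10398 (tt N8678 F90439) (tt N11431 (iv F105778)) (tt N10398 F90440) (tt N12296 (iv F113692)) (tt N12294 (iv F113664)) (tt N8666 F90441) (tt N12298 D25242) (tt N8665 (iv D19935)) (tt N12299 D25243) (tt N8733 F90442))
theorem Q10400 : ∀ i, i < 10400 → P i := stepQ 10399 Q10399 (allL N10399 (tt N8679 F90443) (tt N11432 (iv F105782)) (tt N10399 F90444) (tt N12297 (iv F113696)) (tt N12295 (iv F113669)) (tt N12220 (iv F113127)) (tt N10399 F90445) (tt N12299 (iv F113705)) (tt N8665 (iv D19936)) (tt N12300 D25244))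
theorem Q10401 : ∀ i, i < 10401 → P i := stepQ 10400 Q10400 (allL N10400 (tt N11768 (iv F107795)) (tt N8682 F90446) (tt N12301 D25245) (tt N8667 (iv D19937)) (tt N11586 (iv F106729)) (tt N8669 F90447) (tt N12302 D25246) (tt N11583 (iv F106710)) (tt N10400 F90448) (tt N11761 (iv F107767)))
theorem Q10402 : ∀ i, i < 10402 → P i := stepQ 10401 Q10401 (allL N10401 (tt N11769 (iv F107802)) (tt N8683 F90449) (tt N10401 F90450) (tt N12302 (iv F113714)) (tt N8668 F90451) (tt N12303 D25247) (tt N8667 (iv D19938)) (tt N12304 D25248) (tt N10401 F90452) (tt N11762 (iv F107773)))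
theorem Q10403 : ∀ i, i < 10403 → P i := stepQ 10402 Q10402 (allL N10402 (tt N11770 (iv F107808)) (tt N8684 F90453) (tt N10402 F90454) (tt N11588 (iv F106743)) (tt N12304 (iv F113721)) (tt N11742 (iv F107623)) (tt N11585 (iv F106724)) (tt N8668 (iv D19939)) (tt N10402 F90455) (tt N11763 (iv F107781)))
theorem Q10404 : ∀ i, i < 10404 → P i := stepQ 10403 Q10403 (allL N10403 (tt N12164 (iv F134827)) (tt N12305 D25249) (tt N8669 (iv D19940)) (tt N10403 F90456) (tt N8939 F90457) (tt N12301 (iv F113711)) (tt N12306 D25250) (tt N11775 (iv F107837)) (tt N8672 F90458) (tt N11771 (iv F107820)))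
theorem Q10405 : ∀ i, i < 10405 → P i := stepQ 10404 Q10404 (allL N10404 (tt N12289 (iv F113635)) (tt N8686 F90459) (tt N12306 (iv F113727)) (tt N8670 F90460) (tt N8940 F90461) (tt N12307 D25251) (tt N8669 (iv D19941)) (tt N12308 D25252) (tt N8673 F90462) (tt N11772 (iv F107825)))
theorem Q10406 : ∀ i, i < 10406 → P i := stepQ 10405 Q10405 (allL N10405 (tt N12290 (iv F113639)) (tt N8687 F90463) (tt N10405 F90464) (tt N12307 (iv F113732)) (tt N12223 (iv F113137)) (tt N8670 (iv D19942)) (tt N12303 (iv F113718)) (tt N12309 D25253) (tt N12310 D25254) (tt N11773 (iv F107828)))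
theorem Q10407 : ∀ i, i < 10407 → P i := stepQ 10406 Q10406 (allL N10406 (tt N12291 (iv F113641)) (tt N8688 F90465) (tt N10406 F90466) (tt N12308 (iv F113734)) (tt N8671 F90467) (tt N12309 (iv F113739)) (tt N11778 (iv F107851)) (tt N8670 (iv D19943)) (tt N8675 F90468) (tt N11774 (iv F107834)))
theorem Q10408 : ∀ i, i < 10408 → P i := stepQ 10407 Q10407 (allL N10407 (tt N12171 F134053) (tt N8672 (iv D19944)) (tt N8689 F90469) (tt N10407 F90470) (tt N8947 F90471) (tt N10407 F90472) (tt N12311 D25256) (tt N9194 F134054) (tt N12305 (iv F113726)) (tt N8735 F90473))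
theorem Q10409 : ∀ i, i < 10409 → P i := stepQ 10408 Q10408 (allL N10408 (tt N11850 (iv F134825)) (tt N12311 (iv F113748)) (tt N8673 F90474) (tt N10408 F90475) (tt N8948 F90476) (tt N12025 (iv F134864)) (tt N8672 (iv D19945)) (tt N12312 D25258) (tt N12306 (iv F113730)) (tt N8736 F90477))
theorem Q10410 : ∀ i, i < 10410 → P i := stepQ 10409 Q10409 (allL N10409 (tt N12292 (iv F113654)) (tt N8691 F90478) (tt N12025 (iv F134863)) (tt N8674 F90479) (tt N12023 (iv F134791)) (tt N8673 (iv D19946)) (tt N10409 F90480) (tt N12313 D25260) (tt N12314 D25261) (tt N8737 F90481))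
theorem Q10411 : ∀ i, i < 10411 → P i := stepQ 10410 Q10410 (allL N10410 (tt N12293 (iv F113658)) (tt N8692 F90482) (tt N12312 (iv F113757)) (tt N8675 F90483) (tt N8950 F90484) (tt N12313 (iv F113768)) (tt N11995 (iv F109211)) (tt N8673 (iv D19947)) (tt N12308 (iv F113736)) (tt N8738 F90485))
theorem Q10412 : ∀ i, i < 10412 → P i := stepQ 10411 Q10411 (allL N10411 (tt N12294 (iv F113662)) (tt N8693 F90486) (tt N10411 F90487) (tt N12313 (iv F113767)) (tt N8678 F90488) (tt N8675 F90489) (tt N12315 D25262) (tt N8674 (iv D19948)) (tt N12316 D25263) (tt N8739 F90490))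
theorem Q10413 : ∀ i, i < 10413 → P i := stepQ 10412 Q10412 (allL N10412 (tt N12295 (iv F113667)) (tt N8694 F90491) (tt N10412 F90492) (tt N12314 (iv F113771)) (tt N8679 F90493) (tt N12310 (iv F113742)) (tt N10412 F90494) (tt N12316 (iv F113781)) (tt N8674 (iv D19949)) (tt N12317 D25264))
theorem Q10414 : ∀ i, i < 10414 → P i := stepQ 10413 Q10413 (allL N10413 (tt N12296 (iv F113691)) (tt N8696 F90510) (tt N12057 (iv F134915)) (tt N8678 F90511) (tt N12055 (iv F134711)) (tt N8677 F90512) (tt N12318 D25270) (tt N8676 (iv D19953)) (tt N12319 D25271) (tt N8741 F90513))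
theorem Q10415 : ∀ i, i < 10415 → P i := stepQ 10414 Q10414 (allL N10414 (tt N12297 (iv F113695)) (tt N8697 F90514) (tt N12058 (iv F134917)) (tt N8679 F90515) (tt N12056 (iv F134816)) (tt N12233 (iv F113185)) (tt N10414 F90516) (tt N12319 (iv F113815)) (tt N8676 (iv D19954)) (tt N12320 D25272))
theorem Q10416 : ∀ i, i < 10416 → P i := stepQ 10415 Q10415 (allL N10415 (tt N12298 (iv F113698)) (tt N8698 F90517) (tt N10415 F90518) (tt N12318 (iv F113809)) (tt N12315 (iv F113775)) (tt N10415 F90519) (tt N8678 (iv D19955)) (tt N10415 F90520) (tt N12321 D25273) (tt N8743 F90521))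
theorem Q10417 : ∀ i, i < 10417 → P i := stepQ 10416 Q10416 (allL N10416 (tt N12299 (iv F113703)) (tt N8699 F90522) (tt N10416 F90523) (tt N12319 (iv F113814)) (tt N12316 (iv F113780)) (tt N12235 (iv F113192)) (tt N12321 (iv F113822)) (tt N8679 F90524) (tt N8678 (iv D19956)) (tt N12322 D25274))
theorem Q10418 : ∀ i, i < 10418 → P i := stepQ 10417 Q10417 (allL N10417 (tt N12300 (iv F113706)) (tt N8700 F90525) (tt N10417 F90526) (tt N12320 (iv F113817)) (tt N12317 (iv F113784)) (tt N12236 (iv F113196)) (tt N10417 F90527) (tt N12322 (iv F113826)) (tt N8745 F90528) (tt N8679 (iv D19957)))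
theorem Q10419 : ∀ i, i < 10419 → P i := stepQ 10418 Q10418 (allL N10418 (tt N11450 (iv F105863)) (tt N11586 (iv F106728)) (tt N12323 D25275) (tt N8680 (iv D19958)) (tt N8682 F90529) (tt N8956 F90530) (tt N12324 D25276) (tt N11563 (iv F106609)) (tt N10418 F90531) (tt N11552 (iv F106534)))
theorem Q10420 : ∀ i, i < 10420 → P i := stepQ 10419 Q10419 (allL N10419 (tt N11451 (iv F105870)) (tt N11587 (iv F106735)) (tt N10419 F90532) (tt N12324 (iv F113832)) (tt N8681 F90533) (tt N12325 D25277) (tt N8680 (iv D19959)) (tt N12326 D25278) (tt N10419 F90534) (tt N11553 (iv F106540)))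
theorem Q10421 : ∀ i, i < 10421 → P i := stepQ 10420 Q10420 (allL N10420 (tt N11452 (iv F105876)) (tt N11588 (iv F106741)) (tt N10420 F90535) (tt N8684 F90536) (tt N12326 (iv F113838)) (tt N11745 (iv F107644)) (tt N11565 (iv F106623)) (tt N8681 (iv D19960)) (tt N10420 F90537) (tt N11554 (iv F106548)))
theorem Q10422 : ∀ i, i < 10422 → P i := stepQ 10421 Q10421 (allL N10421 (tt N11453 (iv F105884)) (tt N12327 D25279) (tt N8682 (iv D19961)) (tt N8701 F90538) (tt N12323 (iv F113829)) (tt N8685 F90539) (tt N12328 D25280) (tt N11814 (iv F108017)) (tt N10421 F90540) (tt N11810 (iv F107999)))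
theorem Q10423 : ∀ i, i < 10423 → P i := stepQ 10422 Q10422 (allL N10422 (tt N11454 (iv F105890)) (tt N12302 (iv F113713)) (tt N12328 (iv F113843)) (tt N8683 F90541) (tt N12324 (iv F113833)) (tt N12329 D25281) (tt N8682 (iv D19962)) (tt N12330 D25282) (tt N10422 F90542) (tt N11811 (iv F108003)))
theorem Q10424 : ∀ i, i < 10424 → P i := stepQ 10423 Q10423 (allL N10423 (tt N11455 (iv F105895)) (tt N12303 (iv F113716)) (tt N8703 F90543) (tt N12329 (iv F113846)) (tt N12238 (iv F113208)) (tt N8683 (iv D19963)) (tt N8687 F90544) (tt N12331 D25283) (tt N12332 D25284) (tt N11812 (iv F108007)))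
theorem Q10425 : ∀ i, i < 10425 → P i := stepQ 10424 Q10424 (allL N10424 (tt N11456 (iv F105901)) (tt N12304 (iv F113719)) (tt N8704 F90545) (tt N12330 (iv F113848)) (tt N8684 F90546) (tt N12331 (iv F113851)) (tt N11817 (iv F108031)) (tt N8683 (iv D19964)) (tt N10424 F90547) (tt N11813 (iv F108013)))
theorem Q10426 : ∀ i, i < 10426 → P i := stepQ 10425 Q10425 (allL N10425 (tt N12132 (iv F133774)) (tt N8685 (iv D19965)) (tt N12305 (iv F113723)) (tt N8705 F90548) (tt N8980 F90549) (tt N12327 (iv F113841)) (tt N12333 D25286) (tt N9196 F134062) (tt N8689 F90550) (tt N11828 (iv F108077)))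
theorem Q10427 : ∀ i, i < 10427 → P i := stepQ 10426 Q10426 (allL N10426 (tt N11457 (iv F105913)) (tt N12333 (iv F113858)) (tt N8686 F90551) (tt N8706 F90552) (tt N8981 F90553) (tt N12334 D25287) (tt N8685 (iv D19966)) (tt N12335 D25288) (tt N8690 F90554) (tt N11829 (iv F108083)))
theorem Q10428 : ∀ i, i < 10428 → P i := stepQ 10427 Q10427 (allL N10427 (tt N11458 (iv F105919)) (tt N12307 (iv F113731)) (tt N12334 (iv F113862)) (tt N8687 F90555) (tt N12336 D25289) (tt N8686 (iv D19967)) (tt N12329 (iv F113847)) (tt N12337 D25290) (tt N12338 D25291) (tt N11830 (iv F108086)))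
theorem Q10429 : ∀ i, i < 10429 → P i := stepQ 10428 Q10428 (allL N10428 (tt N11459 (iv F105922)) (tt N12308 (iv F113733)) (tt N12335 (iv F113864)) (tt N8688 F90556) (tt N8983 F90557) (tt N12337 (iv F113870)) (tt N11836 (iv F108117)) (tt N8686 (iv D19968)) (tt N8692 F90558) (tt N11831 (iv F108092)))
theorem Q10430 : ∀ i, i < 10430 → P i := stepQ 10429 Q10429 (allL N10429 (tt N11460 (iv F105928)) (tt N12309 (iv F113737)) (tt N8709 F90559) (tt N12337 (iv F113869)) (tt N12247 (iv F113245)) (tt N8688 F90560) (tt N12339 D25292) (tt N8687 (iv D19969)) (tt N12340 D25293) (tt N11832 (iv F108096)))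
theorem Q10431 : ∀ i, i < 10431 → P i := stepQ 10430 Q10430 (allL N10430 (tt N11461 (iv F105932)) (tt N12310 (iv F113740)) (tt N8710 F90561) (tt N12338 (iv F113871)) (tt N12248 (iv F113248)) (tt N8694 F90562) (tt N12332 (iv F113854)) (tt N12340 (iv F113876)) (tt N8687 (iv D19970)) (tt N12341 D25294))
theorem Q10432 : ∀ i, i < 10432 → P i := stepQ 10431 Q10431 (allL N10431 (tt N12022 (iv F133607)) (tt N8690 F90567) (tt N12311 (iv F113749)) (tt N8711 F90568) (tt N8989 F90569) (tt N12342 D25296) (tt N8689 (iv D19972)) (tt N12343 D25297) (tt N12333 (iv F113861)) (tt N8746 F90570))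
theorem Q10433 : ∀ i, i < 10433 → P i := stepQ 10432 Q10432 (allL N10432 (tt N11462 (iv F105945)) (tt N12342 (iv F113883)) (tt N8691 F90571) (tt N8712 F90572) (tt N12344 D25298) (tt N8690 (iv D19973)) (tt N10432 F90573) (tt N12345 D25299) (tt N12346 D25300) (tt N8747 F90574))
theorem Q10434 : ∀ i, i < 10434 → P i := stepQ 10433 Q10433 (allL N10433 (tt N11463 (iv F105950)) (tt N12343 (iv F113887)) (tt N8692 F90575) (tt N8713 F90576) (tt N8991 F90577) (tt N12345 (iv F113898)) (tt N12024 (iv F109439)) (tt N8690 (iv D19974)) (tt N12335 (iv F113867)) (tt N8748 F90578))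
theorem Q10435 : ∀ i, i < 10435 → P i := stepQ 10434 Q10434 (allL N10434 (tt N11464 (iv F105956)) (tt N12023 (iv F134790)) (tt N12344 (iv F113891)) (tt N8695 F90579) (tt N8691 (iv D19975)) (tt N8992 F90580) (tt N10434 F90581) (tt N12347 D25301) (tt N12348 D25302) (tt N8749 F90582))
theorem Q10436 : ∀ i, i < 10436 → P i := stepQ 10435 Q10435 (allL N10435 (tt N11465 (iv F105961)) (tt N12313 (iv F113766)) (tt N12345 (iv F113896)) (tt N8693 F90583) (tt N12347 (iv F113904)) (tt N8692 F90584) (tt N12349 D25303) (tt N8691 (iv D19976)) (tt N12350 D25304) (tt N8750 F90585))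
theorem Q10437 : ∀ i, i < 10437 → P i := stepQ 10436 Q10436 (allL N10436 (tt N11466 (iv F105965)) (tt N12314 (iv F113770)) (tt N12346 (iv F113900)) (tt N8694 F90586) (tt N12348 (iv F113908)) (tt N12338 (iv F113872)) (tt N10436 F90587) (tt N12350 (iv F113914)) (tt N8691 (iv D19977)) (tt N12351 D25305))
theorem Q10438 : ∀ i, i < 10438 → P i := stepQ 10437 Q10437 (allL N10437 (tt N11467 (iv F105968)) (tt N12315 (iv F113773)) (tt N8716 F90588) (tt N12349 (iv F113910)) (tt N8698 F90589) (tt N12028 (iv F109456)) (tt N8693 (iv D19978)) (tt N10437 F90590) (tt N12352 D25306) (tt N8752 F90591))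
theorem Q10439 : ∀ i, i < 10439 → P i := stepQ 10438 Q10438 (allL N10438 (tt N11468 (iv F105974)) (tt N12316 (iv F113778)) (tt N8717 F90592) (tt N12350 (iv F113913)) (tt N8699 F90593) (tt N12340 (iv F113875)) (tt N12352 (iv F113920)) (tt N8694 F90594) (tt N8693 (iv D19979)) (tt N12353 D25307))
theorem Q10440 : ∀ i, i < 10440 → P i := stepQ 10439 Q10439 (allL N10439 (tt N11469 (iv F105978)) (tt N12317 (iv F113782)) (tt N8718 F90595) (tt N12351 (iv F113915)) (tt N8700 F90596) (tt N12341 (iv F113878)) (tt N10439 F90597) (tt N12353 (iv F113924)) (tt N8754 F90598) (tt N8694 (iv D19980)))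
theorem Q10441 : ∀ i, i < 10441 → P i := stepQ 10440 Q10440 (allL N10440 (tt N11470 (iv F105983)) (tt N12055 (iv F134710)) (tt N10440 F90599) (tt N12347 (iv F113903)) (tt N8696 F90600) (tt N8998 F90601) (tt N12354 D25308) (tt N8695 (iv D19981)) (tt N12355 D25309) (tt N8755 F90602))
theorem Q10442 : ∀ i, i < 10442 → P i := stepQ 10441 Q10441 (allL N10441 (tt N11471 (iv F105988)) (tt N12056 (iv F134815)) (tt N10441 F90603) (tt N12348 (iv F113907)) (tt N8697 F90604) (tt N12356 D25310) (tt N10441 F90605) (tt N12355 (iv F113932)) (tt N8695 (iv D19982)) (tt N12357 D25311))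
theorem Q10443 : ∀ i, i < 10443 → P i := stepQ 10442 Q10442 (allL N10442 (tt N11472 (iv F105992)) (tt N12318 (iv F113808)) (tt N10442 F90606) (tt N8698 F90607) (tt N12354 (iv F113927)) (tt N10442 F90608) (tt N8696 (iv D19983)) (tt N10442 F90609) (tt N12358 D25312) (tt N8757 F90610))
theorem Q10444 : ∀ i, i < 10444 → P i := stepQ 10443 Q10443 (allL N10443 (tt N11473 (iv F105998)) (tt N12319 (iv F113813)) (tt N10443 F90611) (tt N8699 F90612) (tt N12355 (iv F113931)) (tt N12259 (iv F113320)) (tt N12358 (iv F113941)) (tt N8697 F90613) (tt N8696 (iv D19984)) (tt N12359 D25313))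
theorem Q10445 : ∀ i, i < 10445 → P i := stepQ 10444 Q10444 (allL N10444 (tt N11474 (iv F106002)) (tt N12320 (iv F113816)) (tt N10444 F90614) (tt N8700 F90615) (tt N12357 (iv F113936)) (tt N12260 (iv F113324)) (tt N10444 F90616) (tt N12359 (iv F113945)) (tt N8759 F90617) (tt N8697 (iv D19985)))
theorem Q10446 : ∀ i, i < 10446 → P i := stepQ 10445 Q10445 (allL N10445 (tt N11475 (iv F106007)) (tt N12321 (iv F113820)) (tt N8719 F90618) (tt N12358 (iv F113940)) (tt N12352 (iv F113919)) (tt N12360 D25314) (tt N8699 F90619) (tt N10445 F90620) (tt N8698 (iv D19986)) (tt N12361 D25315))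
theorem Q10447 : ∀ i, i < 10447 → P i := stepQ 10446 Q10446 (allL N10446 (tt N11476 (iv F106011)) (tt N12322 (iv F113824)) (tt N8720 F90621) (tt N12359 (iv F113944)) (tt N12353 (iv F113923)) (tt N12262 (iv F113329)) (tt N12361 (iv F113951)) (tt N8700 F90622) (tt N8761 F90623) (tt N8699 (iv D19987)))
theorem Q10448 : ∀ i, i < 10448 → P i := stepQ 10447 Q10447 (allL N10447 (tt N12122 (iv F133775)) (tt N8701 (iv D19988)) (tt N10447 F90624) (tt N12327 (iv F113840)) (tt N10447 F90625) (tt N8705 F90626) (tt N12362 D25317) (tt N9198 F134070) (tt N10447 F90627) (tt N11878 (iv F108321)))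
theorem Q10449 : ∀ i, i < 10449 → P i := stepQ 10448 Q10448 (allL N10448 (tt N11477 (iv F106021)) (tt N12362 (iv F113958)) (tt N8702 F90628) (tt N12328 (iv F113844)) (tt N10448 F90629) (tt N12363 D25318) (tt N8701 (iv D19989)) (tt N12364 D25319) (tt N10448 F90630) (tt N11879 (iv F108326)))
theorem Q10450 : ∀ i, i < 10450 → P i := stepQ 10449 Q10449 (allL N10449 (tt N11478 (iv F106026)) (tt N10449 F90631) (tt N12363 (iv F113962)) (tt N8703 F90632) (tt N12365 D25320) (tt N8702 (iv D19990)) (tt N8707 F90633) (tt N12366 D25321) (tt N12367 D25322) (tt N11880 (iv F108331)))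
theorem Q10451 : ∀ i, i < 10451 → P i := stepQ 10450 Q10450 (allL N10450 (tt N11479 (iv F106031)) (tt N10450 F90634) (tt N12364 (iv F113964)) (tt N8704 F90635) (tt N10450 F90636) (tt N12366 (iv F113972)) (tt N11886 (iv F108367)) (tt N8702 (iv D19991)) (tt N10450 F90637) (tt N11881 (iv F108338)))
theorem Q10452 : ∀ i, i < 10452 → P i := stepQ 10451 Q10451 (allL N10451 (tt N11480 (iv F106038)) (tt N10451 F90638) (tt N12331 (iv F113850)) (tt N12366 (iv F113971)) (tt N12263 (iv F113353)) (tt N8704 F90639) (tt N12368 D25323) (tt N8703 (iv D19992)) (tt N12369 D25324) (tt N11882 (iv F108342)))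
theorem Q10453 : ∀ i, i < 10453 → P i := stepQ 10452 Q10452 (allL N10452 (tt N11481 (iv F106043)) (tt N10452 F90640) (tt N12332 (iv F113852)) (tt N12367 (iv F113974)) (tt N12202 (iv F133832)) (tt N10452 F90641) (tt N8710 F90642) (tt N12369 (iv F113981)) (tt N8703 (iv D19993)) (tt N12370 D25325))
theorem Q10454 : ∀ i, i < 10454 → P i := stepQ 10453 Q10453 (allL N10453 (tt N11800 (iv F133623)) (tt N8706 F90646) (tt N10453 F90647) (tt N12333 (iv F113859)) (tt N8721 F90648) (tt N12371 D25327) (tt N8705 (iv D19995)) (tt N12372 D25328) (tt N8711 F90649) (tt N11759 (iv F133594)))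
theorem Q10455 : ∀ i, i < 10455 → P i := stepQ 10454 Q10454 (allL N10454 (tt N11482 (iv F106059)) (tt N12371 (iv F113989)) (tt N8707 F90650) (tt N12334 (iv F113863)) (tt N12373 D25329) (tt N8706 (iv D19996)) (tt N12363 (iv F113963)) (tt N12374 D25330) (tt N12375 D25331) (tt N11905 (iv F108459)))
theorem Q10456 : ∀ i, i < 10456 → P i := stepQ 10455 Q10455 (allL N10455 (tt N11483 (iv F106062)) (tt N12372 (iv F113991)) (tt N8708 F90651) (tt N12335 (iv F113865)) (tt N8723 F90652) (tt N12374 (iv F113998)) (tt N11913 (iv F108508)) (tt N8706 (iv D19997)) (tt N8713 F90653) (tt N11906 (iv F108465)))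
theorem Q10457 : ∀ i, i < 10457 → P i := stepQ 10456 Q10456 (allL N10456 (tt N11484 (iv F106068)) (tt N10456 F90654) (tt N12373 (iv F113995)) (tt N12268 (iv F113398)) (tt N8707 (iv D19998)) (tt N8724 F90655) (tt N12365 (iv F113969)) (tt N12376 D25332) (tt N12377 D25333) (tt N11907 (iv F108469)))
theorem Q10458 : ∀ i, i < 10458 → P i := stepQ 10457 Q10457 (allL N10457 (tt N11485 (iv F106072)) (tt N10457 F90656) (tt N12374 (iv F113997)) (tt N8709 F90657) (tt N12376 (iv F114002)) (tt N8708 F90658) (tt N12378 D25334) (tt N8707 (iv D19999)) (tt N12379 D25335) (tt N11908 (iv F108474)))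
theorem Q10459 : ∀ i, i < 10459 → P i := stepQ 10458 Q10458 (allL N10458 (tt N11486 (iv F106077)) (tt N10458 F90659) (tt N12375 (iv F113999)) (tt N8710 F90660) (tt N12377 (iv F114005)) (tt N8715 F90661) (tt N12367 (iv F113976)) (tt N12379 (iv F114012)) (tt N8707 (iv D20000)) (tt N12380 D25336))
theorem Q10460 : ∀ i, i < 10460 → P i := stepQ 10459 Q10459 (allL N10459 (tt N11487 (iv F106081)) (tt N10459 F90662) (tt N12339 (iv F113873)) (tt N12378 (iv F114008)) (tt N12270 (iv F113407)) (tt N11917 (iv F108526)) (tt N8709 (iv D20001)) (tt N12368 (iv F113978)) (tt N12381 D25337) (tt N11909 (iv F108482)))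
theorem Q10461 : ∀ i, i < 10461 → P i := stepQ 10460 Q10460 (allL N10460 (tt N11488 (iv F106085)) (tt N10460 F90663) (tt N12340 (iv F113874)) (tt N12379 (iv F114010)) (tt N12271 (iv F113409)) (tt N8717 F90664) (tt N12381 (iv F114017)) (tt N8710 F90665) (tt N8709 (iv D20002)) (tt N12382 D25338))
theorem Q10462 : ∀ i, i < 10462 → P i := stepQ 10461 Q10461 (allL N10461 (tt N11489 (iv F106089)) (tt N10461 F90666) (tt N12341 (iv F113877)) (tt N12380 (iv F114014)) (tt N12272 (iv F113413)) (tt N8718 F90667) (tt N12370 (iv F113984)) (tt N12382 (iv F114020)) (tt N11911 (iv F108490)) (tt N8710 (iv D20003)))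
theorem Q10463 : ∀ i, i < 10463 → P i := stepQ 10462 Q10462 (allL N10462 (tt N12005 (iv F133619)) (tt N8712 F90672) (tt N10462 F90673) (tt N12342 (iv F113884)) (tt N10462 F90674) (tt N8711 (iv D20005)) (tt N10462 F90675) (tt N12383 D25341) (tt N12384 D25342) (tt N8762 F90676))
theorem Q10464 : ∀ i, i < 10464 → P i := stepQ 10463 Q10463 (allL N10463 (tt N11869 F134066) (tt N8713 F90677) (tt N10463 F90678) (tt N12343 (iv F113888)) (tt N8727 F90679) (tt N12383 (iv F114033)) (tt N8998 F134067) (tt N8711 (iv D20006)) (tt N12372 (iv F113994)) (tt N8763 F90680))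
theorem Q10465 : ∀ i, i < 10465 → P i := stepQ 10464 Q10464 (allL N10464 (tt N11490 (iv F106108)) (tt N12383 (iv F114030)) (tt N8714 F90681) (tt N12345 (iv F113897)) (tt N10464 F90682) (tt N8713 F90683) (tt N12385 D25343) (tt N8712 (iv D20007)) (tt N12386 D25344) (tt N8764 F90684))
theorem Q10466 : ∀ i, i < 10466 → P i := stepQ 10465 Q10465 (allL N10465 (tt N11491 (iv F106113)) (tt N12384 (iv F114035)) (tt N8715 F90685) (tt N12346 (iv F113901)) (tt N10465 F90686) (tt N12375 (iv F114000)) (tt N10465 F90687) (tt N12386 (iv F114045)) (tt N8712 (iv D20008)) (tt N12387 D25345))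
theorem Q10467 : ∀ i, i < 10467 → P i := stepQ 10466 Q10466 (allL N10466 (tt N11492 (iv F106117)) (tt N10466 F90688) (tt N12385 (iv F114039)) (tt N8716 F90689) (tt N10466 F90690) (tt N12059 (iv F109735)) (tt N8714 (iv D20009)) (tt N10466 F90691) (tt N12388 D25346) (tt N8766 F90692))
theorem Q10468 : ∀ i, i < 10468 → P i := stepQ 10467 Q10467 (allL N10467 (tt N11493 (iv F106124)) (tt N10467 F90693) (tt N12386 (iv F114043)) (tt N8717 F90694) (tt N10467 F90695) (tt N12379 (iv F114011)) (tt N12388 (iv F114053)) (tt N8715 F90696) (tt N8714 (iv D20010)) (tt N12389 D25347))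
theorem Q10469 : ∀ i, i < 10469 → P i := stepQ 10468 Q10468 (allL N10468 (tt N9509 F135292) (tt N10468 F90697) (tt N12387 (iv F114046)) (tt N8718 F90698) (tt N10468 F90699) (tt N12380 (iv F114015)) (tt N10468 F90700) (tt N12389 (iv F114058)) (tt N8768 F90701) (tt N8715 (iv D20011)))
theorem Q10470 : ∀ i, i < 10470 → P i := stepQ 10469 Q10469 (allL N10469 (tt N11494 (iv F106135)) (tt N10469 F90702) (tt N12352 (iv F113918)) (tt N12388 (iv F114051)) (tt N8719 F90703) (tt N12390 D25348) (tt N8717 F90704) (tt N10469 F90705) (tt N8716 (iv D20012)) (tt N12391 D25349))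
theorem Q10471 : ∀ i, i < 10471 → P i := stepQ 10470 Q10470 (allL N10470 (tt N11495 (iv F106140)) (tt N10470 F90706) (tt N12353 (iv F113922)) (tt N12389 (iv F114056)) (tt N8720 F90707) (tt N12382 (iv F114019)) (tt N12391 (iv F114064)) (tt N8718 F90708) (tt N8770 F90709) (tt N8717 (iv D20013)))
theorem Q10472 : ∀ i, i < 10472 → P i := stepQ 10471 Q10471 (allL N10471 (tt N11496 (iv F106145)) (tt N10471 F90710) (tt N12360 (iv F113947)) (tt N10471 F90711) (tt N12392 D25350) (tt N8719 (iv D20014)) (tt N12275 (iv F113503)) (tt N10471 F90712) (tt N10471 F90713) (tt N12393 D25351))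
theorem Q10473 : ∀ i, i < 10473 → P i := stepQ 10472 Q10472 (allL N10472 (tt N11497 (iv F106149)) (tt N10472 F90714) (tt N12361 (iv F113950)) (tt N10472 F90715) (tt N12391 (iv F114063)) (tt N12393 (iv F114072)) (tt N8720 F90716) (tt N10472 F90717) (tt N8772 F90718) (tt N8719 (iv D20015)))
theorem Q10474 : ∀ i, i < 10474 → P i := stepQ 10473 Q10473 (allL N10473 (tt N11582 (iv F133739)) (tt N8722 F90723) (tt N10473 F90724) (tt N9074 F90725) (tt N12394 D25354) (tt N8721 (iv D20017)) (tt N10473 F90726) (tt N12395 D25355) (tt N10473 F90727) (tt N11562 (iv F133683)))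
theorem Q10475 : ∀ i, i < 10475 → P i := stepQ 10474 Q10474 (allL N10474 (tt N11805 (iv F133738)) (tt N8723 F90728) (tt N10474 F90729) (tt N9001 F134076) (tt N12372 (iv F113993)) (tt N12395 (iv F114090)) (tt N9000 F134077) (tt N8721 (iv D20018)) (tt N8727 F90731) (tt N11760 (iv F133681)))
theorem Q10476 : ∀ i, i < 10476 → P i := stepQ 10475 Q10475 (allL N10475 (tt N11498 (iv F106172)) (tt N12394 (iv F114083)) (tt N8724 F90732) (tt N12396 D25356) (tt N8722 (iv D20019)) (tt N12373 (iv F113996)) (tt N10475 F90733) (tt N12397 D25357) (tt N10475 F90734) (tt N11955 (iv F108779)))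
theorem Q10477 : ∀ i, i < 10477 → P i := stepQ 10476 Q10476 (allL N10476 (tt N11499 (iv F106177)) (tt N12395 (iv F114087)) (tt N8725 F90735) (tt N9076 F90736) (tt N12397 (iv F114096)) (tt N8723 F90737) (tt N12398 D25358) (tt N8722 (iv D20020)) (tt N10476 F90738) (tt N11956 (iv F108784)))
theorem Q10478 : ∀ i, i < 10478 → P i := stepQ 10477 Q10477 (allL N10477 (tt N11500 (iv F106183)) (tt N10477 F90739) (tt N12397 (iv F114095)) (tt N12287 (iv F113567)) (tt N8725 F90740) (tt N12376 (iv F114003)) (tt N12399 D25359) (tt N8724 (iv D20021)) (tt N10477 F90741) (tt N11957 (iv F108794)))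
theorem Q10479 : ∀ i, i < 10479 → P i := stepQ 10478 Q10478 (allL N10478 (tt N11501 (iv F106188)) (tt N10478 F90742) (tt N12398 (iv F114098)) (tt N8726 F90743) (tt N12399 (iv F114103)) (tt N11964 (iv F108864)) (tt N8725 (iv D20022)) (tt N10478 F90744) (tt N10478 F90745) (tt N11958 (iv F108805)))
theorem Q10480 : ∀ i, i < 10480 → P i := stepQ 10479 Q10479 (allL N10479 (tt N8737 F90758) (tt N11504 (iv F106214)) (tt N9112 (iv F134841)) (tt N8729 F90759) (tt N9110 (iv F134214)) (tt N8728 (iv D20026)) (tt N10479 F90760) (tt N12400 D25365) (tt N12401 D25366) (tt N12292 (iv F113657)))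
theorem Q10481 : ∀ i, i < 10481 → P i := stepQ 10480 Q10480 (allL N10480 (tt N8738 F90761) (tt N11505 (iv F106218)) (tt N12040 (iv F134843)) (tt N8730 F90762) (tt N9086 F90763) (tt N12400 (iv F114127)) (tt N11980 (iv F109052)) (tt N8728 (iv D20027)) (tt N11985 (iv F109085)) (tt N12293 (iv F113661)))
theorem Q10482 : ∀ i, i < 10482 → P i := stepQ 10481 Q10481 (allL N10481 (tt N8739 F90764) (tt N11506 (iv F106224)) (tt N10481 F90765) (tt N12400 (iv F114126)) (tt N8733 F90766) (tt N8730 F90767) (tt N12402 D25367) (tt N8729 (iv D20028)) (tt N12403 D25368) (tt N12294 (iv F113666)))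
theorem Q10483 : ∀ i, i < 10483 → P i := stepQ 10482 Q10482 (allL N10482 (tt N8740 F90768) (tt N11507 (iv F106229)) (tt N10482 F90769) (tt N12401 (iv F114129)) (tt N8734 F90770) (tt N11987 (iv F109095)) (tt N10482 F90771) (tt N12403 (iv F114138)) (tt N8729 (iv D20029)) (tt N12404 D25369))
theorem Q10484 : ∀ i, i < 10484 → P i := stepQ 10483 Q10483 (allL N10483 (tt N8741 F90790) (tt N11508 (iv F106258)) (tt N9143 (iv F134886)) (tt N8733 F90791) (tt N9141 (iv F134263)) (tt N8732 F90792) (tt N12405 D25377) (tt N8731 (iv D20034)) (tt N12406 D25378) (tt N12296 (iv F113694)))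
theorem Q10485 : ∀ i, i < 10485 → P i := stepQ 10484 Q10484 (allL N10484 (tt N8742 F90793) (tt N11509 (iv F106262)) (tt N9144 (iv F134628)) (tt N8734 F90794) (tt N9142 F134230) (tt N10484 F90795) (tt N10484 F90796) (tt N12406 (iv F114190)) (tt N8731 (iv D20035)) (tt N12407 D25379))
theorem Q10486 : ∀ i, i < 10486 → P i := stepQ 10485 Q10485 (allL N10485 (tt N8743 F90797) (tt N11510 (iv F106269)) (tt N10485 F90798) (tt N12405 (iv F114184)) (tt N12402 (iv F114133)) (tt N10485 F90799) (tt N8733 (iv D20036)) (tt N10485 F90800) (tt N12408 D25380) (tt N12298 (iv F113702)))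
theorem Q10487 : ∀ i, i < 10487 → P i := stepQ 10486 Q10486 (allL N10486 (tt N8744 F90801) (tt N11511 (iv F106273)) (tt N10486 F90802) (tt N12406 (iv F114188)) (tt N12403 (iv F114137)) (tt N10486 F90803) (tt N12408 (iv F114197)) (tt N8734 F90804) (tt N8733 (iv D20037)) (tt N12409 D25381))
theorem Q10488 : ∀ i, i < 10488 → P i := stepQ 10487 Q10487 (allL N10487 (tt N8745 F90805) (tt N11512 (iv F106277)) (tt N10487 F90806) (tt N12407 (iv F114192)) (tt N12404 (iv F114141)) (tt N10487 F90807) (tt N10487 F90808) (tt N12409 (iv F114202)) (tt N12300 (iv F113709)) (tt N8734 (iv D20038)))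
theorem Q10489 : ∀ i, i < 10489 → P i := stepQ 10488 Q10488 (allL N10488 (tt N12018 F134055) (tt N8736 F90813) (tt N8746 F90814) (tt N10488 F90815) (tt N9097 F134056) (tt N12000 (iv F134685)) (tt N8735 (iv D20040)) (tt N12410 D25384) (tt N11990 F134057) (tt N12311 (iv F113752)))
theorem Q10490 : ∀ i, i < 10490 → P i := stepQ 10489 Q10489 (allL N10489 (tt N12040 (iv F134842)) (tt N12410 (iv F114211)) (tt N8738 F90820) (tt N10489 F90821) (tt N9101 F90822) (tt N12033 (iv F134861)) (tt N11999 (iv F109239)) (tt N8736 (iv D20042)) (tt N12006 (iv F109285)) (tt N12312 (iv F113760)))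
theorem Q10491 : ∀ i, i < 10491 → P i := stepQ 10490 Q10490 (allL N10490 (tt N12400 (iv F114125)) (tt N8750 F90827) (tt N12033 (iv F134860)) (tt N8739 F90828) (tt N12031 (iv F134691)) (tt N8738 F90829) (tt N12411 D25390) (tt N8737 (iv D20044)) (tt N12412 D25391) (tt N12313 (iv F113769)))
theorem Q10492 : ∀ i, i < 10492 → P i := stepQ 10491 Q10491 (allL N10491 (tt N12401 (iv F114128)) (tt N8751 F90830) (tt N12034 (iv F134862)) (tt N8740 F90831) (tt N12032 (iv F134406)) (tt N12009 (iv F109295)) (tt N10491 F90832) (tt N12412 (iv F114237)) (tt N8737 (iv D20045)) (tt N12413 D25392))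
theorem Q10493 : ∀ i, i < 10493 → P i := stepQ 10492 Q10492 (allL N10492 (tt N12402 (iv F114131)) (tt N8752 F90833) (tt N10492 F90834) (tt N12411 (iv F114233)) (tt N8743 F90835) (tt N12003 (iv F109255)) (tt N8739 (iv D20046)) (tt N10492 F90836) (tt N12414 D25393) (tt N12315 (iv F113777)))
theorem Q10494 : ∀ i, i < 10494 → P i := stepQ 10493 Q10493 (allL N10493 (tt N12403 (iv F114135)) (tt N8753 F90837) (tt N10493 F90838) (tt N12412 (iv F114236)) (tt N8744 F90839) (tt N12011 (iv F109305)) (tt N12414 (iv F114244)) (tt N8740 F90840) (tt N8739 (iv D20047)) (tt N12415 D25394))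
theorem Q10495 : ∀ i, i < 10495 → P i := stepQ 10494 Q10494 (allL N10494 (tt N12404 (iv F114139)) (tt N8754 F90841) (tt N10494 F90842) (tt N12413 (iv F114239)) (tt N8745 F90843) (tt N12012 (iv F109310)) (tt N10494 F90844) (tt N12415 (iv F114249)) (tt N12317 (iv F113786)) (tt N8740 (iv D20048)))
theorem Q10496 : ∀ i, i < 10496 → P i := stepQ 10495 Q10495 (allL N10495 (tt N12405 (iv F114183)) (tt N8757 F90864) (tt N12067 (iv F134913)) (tt N8743 F90865) (tt N12064 (iv F134923)) (tt N10495 F90866) (tt N8741 (iv D20054)) (tt N10495 F90867) (tt N12416 D25405) (tt N12318 (iv F113812)))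
theorem Q10497 : ∀ i, i < 10497 → P i := stepQ 10496 Q10496 (allL N10496 (tt N12406 (iv F114187)) (tt N8758 F90868) (tt N12068 (iv F134914)) (tt N8744 F90869) (tt N12065 (iv F134408)) (tt N10496 F90870) (tt N12416 (iv F114299)) (tt N8742 F90871) (tt N8741 (iv D20055)) (tt N12417 D25406))
theorem Q10498 : ∀ i, i < 10498 → P i := stepQ 10497 Q10497 (allL N10497 (tt N12407 (iv F114191)) (tt N8759 F90872) (tt N12069 (iv F134916)) (tt N8745 F90873) (tt N12066 (iv F134410)) (tt N10497 F90874) (tt N10497 F90875) (tt N12417 (iv F114304)) (tt N12320 (iv F113819)) (tt N8742 (iv D20056)))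
theorem Q10499 : ∀ i, i < 10499 → P i := stepQ 10498 Q10498 (allL N10498 (tt N12408 (iv F114195)) (tt N8760 F90876) (tt N10498 F90877) (tt N12416 (iv F114298)) (tt N12414 (iv F114243)) (tt N12418 D25407) (tt N8744 F90878) (tt N10498 F90879) (tt N8743 (iv D20057)) (tt N12419 D25408))
theorem Q10500 : ∀ i, i < 10500 → P i := stepQ 10499 Q10499 (allL N10499 (tt N12409 (iv F114199)) (tt N8761 F90880) (tt N10499 F90881) (tt N12417 (iv F114302)) (tt N12415 (iv F114248)) (tt N10499 F90882) (tt N12419 (iv F114312)) (tt N8745 F90883) (tt N12322 (iv F113827)) (tt N8744 (iv D20058)))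
theorem Q10501 : ∀ i, i < 10501 → P i := stepQ 10500 Q10500 (allL N10500 (tt N12002 (iv F133605)) (tt N8747 F90887) (tt N12000 (iv F134684)) (tt N8762 F90888) (tt N11998 (iv F133578)) (tt N8746 (iv D20060)) (tt N10500 F90889) (tt N12420 D25412) (tt N11979 (iv F134699)) (tt N12342 (iv F113886)))
theorem Q10502 : ∀ i, i < 10502 → P i := stepQ 10501 Q10501 (allL N10501 (tt N12021 (iv F133606)) (tt N8748 F90890) (tt N12410 (iv F114212)) (tt N8763 F90891) (tt N9121 F90892) (tt N12420 (iv F114326)) (tt N9125 F134058) (tt N8746 (iv D20061)) (tt N11992 (iv F133589)) (tt N12343 (iv F113890)))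
theorem Q10503 : ∀ i, i < 10503 → P i := stepQ 10502 Q10502 (allL N10502 (tt N11530 (iv F106381)) (tt N11998 (iv F133577)) (tt N8749 F90893) (tt N10502 F90894) (tt N8747 (iv D20062)) (tt N9122 F90895) (tt N10502 F90896) (tt N12421 D25414) (tt N12422 D25415) (tt N12344 (iv F113895)))
theorem Q10504 : ∀ i, i < 10504 → P i := stepQ 10503 Q10503 (allL N10503 (tt N11531 (iv F106386)) (tt N12420 (iv F114324)) (tt N8750 F90897) (tt N8764 F90898) (tt N12421 (iv F114332)) (tt N8748 F90899) (tt N12423 D25416) (tt N8747 (iv D20063)) (tt N12424 D25417) (tt N12345 (iv F113899)))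
theorem Q10505 : ∀ i, i < 10505 → P i := stepQ 10504 Q10504 (allL N10504 (tt N9093 (iv F134573)) (tt N11979 (iv F134698)) (tt N8751 F90900) (tt N8765 F90901) (tt N12422 (iv F114336)) (tt N9082 F134203) (tt N10504 F90902) (tt N12424 (iv F114343)) (tt N8747 (iv D20064)) (tt N12425 D25418))
theorem Q10506 : ∀ i, i < 10506 → P i := stepQ 10505 Q10505 (allL N10505 (tt N11532 (iv F106395)) (tt N12031 (iv F134690)) (tt N12421 (iv F114330)) (tt N8755 F90903) (tt N8750 F90904) (tt N9125 F90905) (tt N12426 D25419) (tt N8749 (iv D20065)) (tt N12427 D25420) (tt N12347 (iv F113906)))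
theorem Q10507 : ∀ i, i < 10507 → P i := stepQ 10506 Q10506 (allL N10506 (tt N11533 (iv F106399)) (tt N12032 (iv F134405)) (tt N12422 (iv F114334)) (tt N8756 F90906) (tt N8751 F90907) (tt N12049 (iv F133858)) (tt N10506 F90908) (tt N12427 (iv F114352)) (tt N8749 (iv D20066)) (tt N12428 D25422))
theorem Q10508 : ∀ i, i < 10508 → P i := stepQ 10507 Q10507 (allL N10507 (tt N11534 (iv F106403)) (tt N12411 (iv F114232)) (tt N12423 (iv F114338)) (tt N8752 F90909) (tt N12426 (iv F114348)) (tt N12035 (iv F109504)) (tt N8750 (iv D20067)) (tt N10507 F90910) (tt N12429 D25423) (tt N12349 (iv F113912)))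
theorem Q10509 : ∀ i, i < 10509 → P i := stepQ 10508 Q10508 (allL N10508 (tt N11535 (iv F106407)) (tt N12412 (iv F114235)) (tt N12424 (iv F114341)) (tt N8753 F90911) (tt N12427 (iv F114351)) (tt N12042 (iv F109564)) (tt N12429 (iv F114359)) (tt N8751 F90912) (tt N8750 (iv D20068)) (tt N12430 D25424))
theorem Q10510 : ∀ i, i < 10510 → P i := stepQ 10509 Q10509 (allL N10509 (tt N11536 (iv F106411)) (tt N12413 (iv F114238)) (tt N12425 (iv F114344)) (tt N8754 F90913) (tt N12428 (iv F114356)) (tt N12043 (iv F109568)) (tt N10509 F90914) (tt N12430 (iv F114362)) (tt N12351 (iv F113917)) (tt N8751 (iv D20069)))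
theorem Q10511 : ∀ i, i < 10511 → P i := stepQ 10510 Q10510 (allL N10510 (tt N11537 (iv F106415)) (tt N12414 (iv F114241)) (tt N8769 F90915) (tt N12429 (iv F114358)) (tt N8760 F90916) (tt N12431 D25425) (tt N8753 F90917) (tt N10510 F90918) (tt N8752 (iv D20070)) (tt N12432 D25426))
theorem Q10512 : ∀ i, i < 10512 → P i := stepQ 10511 Q10511 (allL N10511 (tt N11538 (iv F106420)) (tt N12415 (iv F114246)) (tt N8770 F90919) (tt N12430 (iv F114361)) (tt N8761 F90920) (tt N12045 (iv F109578)) (tt N12432 (iv F114367)) (tt N8754 F90921) (tt N12353 (iv F113925)) (tt N8753 (iv D20071)))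
theorem Q10513 : ∀ i, i < 10513 → P i := stepQ 10512 Q10512 (allL N10512 (tt N11539 (iv F106425)) (tt N12064 (iv F134922)) (tt N10512 F90922) (tt N12426 (iv F114347)) (tt N8757 F90923) (tt N12433 D25427) (tt N8755 (iv D20072)) (tt N10512 F90924) (tt N12434 D25428) (tt N12354 (iv F113929)))
theorem Q10514 : ∀ i, i < 10514 → P i := stepQ 10513 Q10513 (allL N10513 (tt N11540 (iv F106429)) (tt N12065 (iv F134407)) (tt N10513 F90925) (tt N12427 (iv F114350)) (tt N8758 F90926) (tt N12076 (iv F134403)) (tt N12434 (iv F114375)) (tt N8756 F90927) (tt N8755 (iv D20073)) (tt N12435 D25430))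
theorem Q10515 : ∀ i, i < 10515 → P i := stepQ 10514 Q10514 (allL N10514 (tt N11542 (iv F106439)) (tt N12066 (iv F134409)) (tt N10514 F90931) (tt N12428 (iv F114355)) (tt N8759 F90932) (tt N12077 (iv F134404)) (tt N10514 F90933) (tt N12435 (iv F114383)) (tt N12357 (iv F113938)) (tt N8756 (iv D20075)))
theorem Q10516 : ∀ i, i < 10516 → P i := stepQ 10515 Q10515 (allL N10515 (tt N11543 (iv F106443)) (tt N12416 (iv F114297)) (tt N10515 F90934) (tt N8760 F90935) (tt N12434 (iv F114374)) (tt N12436 D25433) (tt N8758 F90936) (tt N10515 F90937) (tt N8757 (iv D20076)) (tt N12437 D25434))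
theorem Q10517 : ∀ i, i < 10517 → P i := stepQ 10516 Q10516 (allL N10516 (tt N11544 (iv F106448)) (tt N12417 (iv F114301)) (tt N10516 F90938) (tt N8761 F90939) (tt N12435 (iv F114382)) (tt N10516 F90940) (tt N12437 (iv F114401)) (tt N8759 F90941) (tt N12359 (iv F113946)) (tt N8758 (iv D20077)))
theorem Q10518 : ∀ i, i < 10518 → P i := stepQ 10517 Q10517 (allL N10517 (tt N11545 (iv F106453)) (tt N12418 (iv F114305)) (tt N8771 F90942) (tt N12436 (iv F114395)) (tt N12438 D25435) (tt N8760 (iv D20078)) (tt N10517 F90943) (tt N10517 F90944) (tt N10517 F90945) (tt N12439 D25436))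
theorem Q10519 : ∀ i, i < 10519 → P i := stepQ 10518 Q10518 (allL N10518 (tt N11546 (iv F106458)) (tt N12419 (iv F114310)) (tt N8772 F90946) (tt N12437 (iv F114400)) (tt N12432 (iv F114366)) (tt N12439 (iv F114408)) (tt N8761 F90947) (tt N10518 F90948) (tt N12361 (iv F113953)) (tt N8760 (iv D20079)))
theorem Q10520 : ∀ i, i < 10520 → P i := stepQ 10519 Q10519 (allL N10519 (tt N12004 (iv F133613)) (tt N8764 F90956) (tt N10519 F90957) (tt N12420 (iv F114325)) (tt N10519 F90958) (tt N8763 F90959) (tt N12433 (iv F134704)) (tt N8762 (iv D20082)) (tt N11981 (iv F134701)) (tt N12383 (iv F114034)))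
theorem Q10521 : ∀ i, i < 10521 → P i := stepQ 10520 Q10520 (allL N10520 (tt N11547 (iv F106482)) (tt N12433 (iv F134703)) (tt N8766 F90964) (tt N12423 (iv F114339)) (tt N10520 F90965) (tt N12064 (iv F109793)) (tt N8764 (iv D20084)) (tt N10520 F90966) (tt N12440 D25442) (tt N12385 (iv F114042)))
theorem Q10522 : ∀ i, i < 10522 → P i := stepQ 10521 Q10521 (allL N10521 (tt N9095 (iv F134576)) (tt N11981 (iv F134700)) (tt N8767 F90967) (tt N12424 (iv F114342)) (tt N10521 F90968) (tt N9083 F134210) (tt N12440 (iv F114433)) (tt N8765 F90969) (tt N8764 (iv D20085)) (tt N12441 D25443))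
theorem Q10523 : ∀ i, i < 10523 → P i := stepQ 10522 Q10522 (allL N10522 (tt N9089 (iv F134578)) (tt N11975 (iv F134702)) (tt N8768 F90970) (tt N12425 (iv F114345)) (tt N10522 F90971) (tt N9080 F134211) (tt N10522 F90972) (tt N12441 (iv F114437)) (tt N12387 (iv F114049)) (tt N8765 (iv D20086)))
theorem Q10524 : ∀ i, i < 10524 → P i := stepQ 10523 Q10523 (allL N10523 (tt N9510 F135289) (tt N10523 F90973) (tt N12440 (iv F114431)) (tt N8769 F90974) (tt N10523 F90975) (tt N12442 D25444) (tt N8767 F90976) (tt N10523 F90977) (tt N8766 (iv D20087)) (tt N12443 D25445))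
theorem Q10525 : ∀ i, i < 10525 → P i := stepQ 10524 Q10524 (allL N10524 (tt N9508 F135290) (tt N10524 F90978) (tt N12441 (iv F114435)) (tt N8770 F90979) (tt N10524 F90980) (tt N9504 F135291) (tt N12443 (iv F114444)) (tt N8768 F90981) (tt N12389 (iv F114059)) (tt N8767 (iv D20088)))
theorem Q10526 : ∀ i, i < 10526 → P i := stepQ 10525 Q10525 (allL N10525 (tt N11548 (iv F106509)) (tt N10525 F90982) (tt N12431 (iv F114363)) (tt N12442 (iv F114439)) (tt N12444 D25446) (tt N8769 (iv D20089)) (tt N12074 (iv F109917)) (tt N10525 F90983) (tt N12072 (iv F109835)) (tt N12445 D25447))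
theorem Q10527 : ∀ i, i < 10527 → P i := stepQ 10526 Q10526 (allL N10526 (tt N11549 (iv F106514)) (tt N10526 F90984) (tt N12432 (iv F114365)) (tt N12443 (iv F114442)) (tt N8772 F90985) (tt N12445 (iv F114450)) (tt N8770 F90986) (tt N10526 F90987) (tt N12391 (iv F114066)) (tt N8769 (iv D20090)))
theorem Q10528 : ∀ i, i < 10528 → P i := stepQ 10527 Q10527 (allL N10527 (tt N11550 (iv F106519)) (tt N10527 F90988) (tt N12438 (iv F114403)) (tt N12446 D25448) (tt N8771 (iv D20091)) (tt N12444 (iv F114447)) (tt N10527 F90989) (tt N10527 F90990) (tt N10527 F90991) (tt N12447 D25449))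
theorem Q10529 : ∀ i, i < 10529 → P i := stepQ 10528 Q10528 (allL N10528 (tt N11551 (iv F106523)) (tt N10528 F90992) (tt N12439 (iv F114407)) (tt N10528 F90993) (tt N12447 (iv F114458)) (tt N8772 F90994) (tt N10528 F90995) (tt N10528 F90996) (tt N12448 D25450) (tt N8771 (iv D20092)))
theorem Q10530 : ∀ i, i < 10530 → P i := stepQ 10529 Q10529 (allL N10529 (tt N8787 F90997) (tt N11552 (iv F106529)) (tt N12449 D25451) (tt N8773 (iv D20093)) (tt N11761 (iv F107763)) (tt N11599 (iv F106808)) (tt N12450 D25452) (tt N11589 (iv F106752)) (tt N8775 F90998) (tt N11586 (iv F106733)))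
theorem Q10531 : ∀ i, i < 10531 → P i := stepQ 10530 Q10530 (allL N10530 (tt N8788 F90999) (tt N11553 (iv F106536)) (tt N9235 F91000) (tt N12450 (iv F114470)) (tt N8774 F91001) (tt N12451 D25453) (tt N8773 (iv D20094)) (tt N12452 D25454) (tt N8776 F91002) (tt N11587 (iv F106739)))
theorem Q10532 : ∀ i, i < 10532 → P i := stepQ 10531 Q10531 (allL N10531 (tt N8789 F91003) (tt N11554 (iv F106542)) (tt N9236 F91004) (tt N11763 (iv F107777)) (tt N12452 (iv F114477)) (tt N8923 F91005) (tt N11591 (iv F106766)) (tt N8774 (iv D20095)) (tt N8777 F91006) (tt N11588 (iv F106747)))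
theorem Q10533 : ∀ i, i < 10533 → P i := stepQ 10532 Q10532 (allL N10532 (tt N8793 F91007) (tt N12453 D25455) (tt N8775 (iv D20096)) (tt N9240 F91008) (tt N12102 (iv F110387)) (tt N10532 F91009) (tt N12454 D25456) (tt N12098 (iv F110366)) (tt N12449 (iv F114468)) (tt N10532 F91010))
theorem Q10534 : ∀ i, i < 10534 → P i := stepQ 10533 Q10533 (allL N10533 (tt N8794 F91011) (tt N11556 (iv F106556)) (tt N12454 (iv F114483)) (tt N8776 F91012) (tt N12103 (iv F110394)) (tt N12455 D25457) (tt N8775 (iv D20097)) (tt N12456 D25458) (tt N12450 (iv F114471)) (tt N10533 F91013))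
theorem Q10535 : ∀ i, i < 10535 → P i := stepQ 10534 Q10534 (allL N10534 (tt N8795 F91014) (tt N11557 (iv F106561)) (tt N9242 F91015) (tt N12455 (iv F114487)) (tt N8779 F91016) (tt N8776 (iv D20098)) (tt N10534 F91017) (tt N12457 D25459) (tt N11955 (iv F134808)) (tt N10534 F91018))
theorem Q10536 : ∀ i, i < 10536 → P i := stepQ 10535 Q10535 (allL N10535 (tt N8796 F91019) (tt N11558 (iv F106567)) (tt N9243 F91020) (tt N12456 (iv F114491)) (tt N8777 F91021) (tt N12457 (iv F114496)) (tt N12101 (iv F110383)) (tt N8776 (iv D20099)) (tt N12452 (iv F114478)) (tt N10535 F91022))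
theorem Q10537 : ∀ i, i < 10537 → P i := stepQ 10536 Q10536 (allL N10536 (tt N8797 F91034) (tt N11559 (iv F106585)) (tt N9071 (iv F134282)) (tt N8779 F91035) (tt N12458 D25464) (tt N8778 (iv D20102)) (tt N10536 F91036) (tt N12459 D25465) (tt N9067 F134236) (tt N10536 F91037))
theorem Q10538 : ∀ i, i < 10538 → P i := stepQ 10537 Q10537 (allL N10537 (tt N8798 F91038) (tt N11560 (iv F106590)) (tt N9163 (iv F134906)) (tt N8780 F91039) (tt N12218 (iv F113117)) (tt N12459 (iv F114523)) (tt N10537 F91040) (tt N8778 (iv D20103)) (tt N8929 F91041) (tt N10537 F91042))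
theorem Q10539 : ∀ i, i < 10539 → P i := stepQ 10538 Q10538 (allL N10538 (tt N8799 F91043) (tt N11561 (iv F106596)) (tt N9244 F91044) (tt N12459 (iv F114522)) (tt N12457 (iv F114495)) (tt N8780 F91045) (tt N12460 D25467) (tt N8779 (iv D20104)) (tt N11956 (iv F134726)) (tt N10538 F91046))
theorem Q10540 : ∀ i, i < 10540 → P i := stepQ 10539 Q10539 (allL N10539 (tt N11599 (iv F106805)) (tt N8803 F91051) (tt N12461 D25470) (tt N8781 (iv D20106)) (tt N11596 (iv F106786)) (tt N8787 F91052) (tt N12462 D25471) (tt N8811 F91053) (tt N10539 F91054) (tt N8808 F91055))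
theorem Q10541 : ∀ i, i < 10541 → P i := stepQ 10540 Q10540 (allL N10540 (tt N11600 (iv F106812)) (tt N8804 F91056) (tt N8848 F91057) (tt N12462 (iv F114549)) (tt N8782 F91058) (tt N12463 D25472) (tt N8781 (iv D20107)) (tt N12464 D25473) (tt N10540 F91059) (tt N8809 F91060))
theorem Q10542 : ∀ i, i < 10542 → P i := stepQ 10541 Q10541 (allL N10541 (tt N11601 (iv F106818)) (tt N8805 F91061) (tt N8849 F91062) (tt N11598 (iv F106800)) (tt N12464 (iv F114559)) (tt N8932 F91063) (tt N8813 F91064) (tt N8782 (iv D20108)) (tt N10541 F91065) (tt N8810 F91066))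
theorem Q10543 : ∀ i, i < 10543 → P i := stepQ 10542 Q10542 (allL N10542 (tt N11589 (iv F106748)) (tt N8808 F91067) (tt N12465 D25474) (tt N8783 (iv D20109)) (tt N11737 (iv F107587)) (tt N8811 F91068) (tt N12466 D25475) (tt N8787 F91069) (tt N8790 F91070) (tt N8803 F91071))
theorem Q10544 : ∀ i, i < 10544 → P i := stepQ 10543 Q10543 (allL N10543 (tt N11590 (iv F106755)) (tt N8809 F91072) (tt N8838 F91073) (tt N12466 (iv F114569)) (tt N8784 F91074) (tt N12467 D25476) (tt N8783 (iv D20110)) (tt N12468 D25477) (tt N8791 F91075) (tt N8804 F91076))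
theorem Q10545 : ∀ i, i < 10545 → P i := stepQ 10544 Q10544 (allL N10544 (tt N11591 (iv F106761)) (tt N8810 F91077) (tt N8839 F91078) (tt N11739 (iv F107601)) (tt N12468 (iv F114579)) (tt N8964 F91079) (tt N8789 F91080) (tt N8784 (iv D20111)) (tt N8792 F91081) (tt N8805 F91082))
theorem Q10546 : ∀ i, i < 10546 → P i := stepQ 10545 Q10545 (allL N10545 (tt N11586 (iv F106727)) (tt N8811 F91083) (tt N12469 D25478) (tt N8785 (iv D20112)) (tt N11768 (iv F107797)) (tt N8808 F91084) (tt N12470 D25479) (tt N8803 F91085) (tt N10545 F91086) (tt N8787 F91087))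
theorem Q10547 : ∀ i, i < 10547 → P i := stepQ 10546 Q10546 (allL N10546 (tt N11587 (iv F106734)) (tt N8812 F91088) (tt N8835 F91089) (tt N12470 (iv F114589)) (tt N8786 F91090) (tt N12471 D25480) (tt N8785 (iv D20113)) (tt N12472 D25481) (tt N10546 F91091) (tt N8788 F91092))
theorem Q10548 : ∀ i, i < 10548 → P i := stepQ 10547 Q10547 (allL N10547 (tt N11588 (iv F106740)) (tt N8813 F91093) (tt N8836 F91094) (tt N11770 (iv F107811)) (tt N12472 (iv F114599)) (tt N8938 F91095) (tt N8805 F91096) (tt N8786 (iv D20114)) (tt N10547 F91097) (tt N8789 F91098))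
theorem Q10549 : ∀ i, i < 10549 → P i := stepQ 10548 Q10548 (allL N10548 (tt N12449 (iv F114466)) (tt N12473 D25482) (tt N8787 (iv D20115)) (tt N9245 F91099) (tt N12221 (iv F113129)) (tt N12461 (iv F114544)) (tt N12474 D25483) (tt N12465 (iv F114565)) (tt N8793 F91100) (tt N12469 (iv F114587)))
theorem Q10550 : ∀ i, i < 10550 → P i := stepQ 10549 Q10549 (allL N10549 (tt N12450 (iv F114469)) (tt N8815 F91101) (tt N12474 (iv F114606)) (tt N8788 F91102) (tt N12222 (iv F113133)) (tt N12475 D25484) (tt N8787 (iv D20116)) (tt N12476 D25485) (tt N8794 F91103) (tt N12470 (iv F114591)))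
theorem Q10551 : ∀ i, i < 10551 → P i := stepQ 10550 Q10550 (allL N10550 (tt N12451 (iv F114472)) (tt N8816 F91104) (tt N9247 F91105) (tt N12475 (iv F114610)) (tt N8941 F91106) (tt N8788 (iv D20117)) (tt N12463 (iv F114555)) (tt N12477 D25486) (tt N12478 D25487) (tt N12471 (iv F114596)))
theorem Q10552 : ∀ i, i < 10552 → P i := stepQ 10551 Q10551 (allL N10551 (tt N12452 (iv F114475)) (tt N8817 F91107) (tt N9248 F91108) (tt N12476 (iv F114612)) (tt N8789 F91109) (tt N12477 (iv F114617)) (tt N12468 (iv F114580)) (tt N8788 (iv D20118)) (tt N8796 F91110) (tt N12472 (iv F114602)))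
theorem Q10553 : ∀ i, i < 10553 → P i := stepQ 10552 Q10552 (allL N10552 (tt N12098 (iv F110362)) (tt N12479 D25488) (tt N8790 (iv D20119)) (tt N9249 F91111) (tt N12084 (iv F110141)) (tt N10552 F91112) (tt N12480 D25489) (tt N8793 F91113) (tt N12465 (iv F114566)) (tt N10552 F91114))
theorem Q10554 : ∀ i, i < 10554 → P i := stepQ 10553 Q10553 (allL N10553 (tt N12099 (iv F110368)) (tt N8819 F91115) (tt N12480 (iv F114627)) (tt N8791 F91116) (tt N12085 (iv F110148)) (tt N12481 D25490) (tt N8790 (iv D20120)) (tt N12482 D25491) (tt N12466 (iv F114570)) (tt N10553 F91117))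
theorem Q10555 : ∀ i, i < 10555 → P i := stepQ 10554 Q10554 (allL N10554 (tt N12100 (iv F110373)) (tt N8820 F91118) (tt N9251 F91119) (tt N12481 (iv F114631)) (tt N10554 F91120) (tt N8791 (iv D20121)) (tt N10554 F91121) (tt N12483 D25492) (tt N12484 D25493) (tt N10554 F91122))
theorem Q10556 : ∀ i, i < 10556 → P i := stepQ 10555 Q10555 (allL N10555 (tt N12101 (iv F110379)) (tt N8821 F91123) (tt N9252 F91124) (tt N12482 (iv F114635)) (tt N8792 F91125) (tt N12483 (iv F114641)) (tt N8796 F91126) (tt N8791 (iv D20122)) (tt N12468 (iv F114581)) (tt N10555 F91127))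
theorem Q10557 : ∀ i, i < 10557 → P i := stepQ 10556 Q10556 (allL N10556 (tt N12485 D25494) (tt N8793 (iv D20123)) (tt N8822 F91128) (tt N9253 F91129) (tt N12225 (iv F113144)) (tt N10556 F91130) (tt N12486 D25495) (tt N12479 (iv F114625)) (tt N12473 (iv F114605)) (tt N10556 F91131))
theorem Q10558 : ∀ i, i < 10558 → P i := stepQ 10557 Q10557 (allL N10557 (tt N12454 (iv F114482)) (tt N12486 (iv F114651)) (tt N8794 F91132) (tt N9254 F91133) (tt N12226 (iv F113148)) (tt N12487 D25496) (tt N8793 (iv D20124)) (tt N12488 D25497) (tt N12474 (iv F114608)) (tt N10557 F91134))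
theorem Q10559 : ∀ i, i < 10559 → P i := stepQ 10558 Q10558 (allL N10558 (tt N12455 (iv F114486)) (tt N8824 F91135) (tt N12487 (iv F114655)) (tt N8795 F91136) (tt N12489 D25498) (tt N8794 (iv D20125)) (tt N10558 F91137) (tt N12490 D25499) (tt N12491 D25500) (tt N10558 F91138))
theorem Q10560 : ∀ i, i < 10560 → P i := stepQ 10559 Q10559 (allL N10559 (tt N12456 (iv F114490)) (tt N8825 F91139) (tt N12488 (iv F114659)) (tt N8796 F91140) (tt N12228 (iv F113155)) (tt N12490 (iv F114668)) (tt N12482 (iv F114636)) (tt N8794 (iv D20126)) (tt N12476 (iv F114613)) (tt N10559 F91141))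
theorem Q10561 : ∀ i, i < 10561 → P i := stepQ 10560 Q10560 (allL N10560 (tt N12457 (iv F114493)) (tt N8826 F91142) (tt N9257 F91143) (tt N12490 (iv F114667)) (tt N8799 F91144) (tt N8796 F91145) (tt N12492 D25501) (tt N8795 (iv D20127)) (tt N12493 D25502) (tt N10560 F91146))
theorem Q10562 : ∀ i, i < 10562 → P i := stepQ 10561 Q10561 (allL N10561 (tt N11955 (iv F134807)) (tt N8827 F91147) (tt N9062 (iv F134555)) (tt N12491 (iv F114671)) (tt N8800 F91149) (tt N12478 (iv F114621)) (tt N10561 F91150) (tt N12493 (iv F114681)) (tt N8795 (iv D20128)) (tt N11498 (iv F134813)))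
theorem Q10563 : ∀ i, i < 10563 → P i := stepQ 10562 Q10562 (allL N10562 (tt N12458 (iv F114518)) (tt N8828 F91162) (tt N11963 (iv F134921)) (tt N12489 (iv F114663)) (tt N8797 (iv D20131)) (tt N12231 (iv F113177)) (tt N10562 F91163) (tt N12494 D25507) (tt N11960 (iv F134811)) (tt N10562 F91164))
theorem Q10564 : ∀ i, i < 10564 → P i := stepQ 10563 Q10563 (allL N10563 (tt N12459 (iv F114521)) (tt N8829 F91165) (tt N11965 (iv F134920)) (tt N8799 F91166) (tt N12494 (iv F114702)) (tt N8798 F91167) (tt N12495 D25509) (tt N8797 (iv D20132)) (tt N11961 (iv F134732)) (tt N10563 F91168))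
theorem Q10565 : ∀ i, i < 10565 → P i := stepQ 10564 Q10564 (allL N10564 (tt N12460 (iv F114529)) (tt N8831 F91173) (tt N9258 F91174) (tt N12495 (iv F114708)) (tt N12492 (iv F114675)) (tt N10564 F91175) (tt N8799 (iv D20134)) (tt N10564 F91176) (tt N12496 D25512) (tt N10564 F91177))
theorem Q10566 : ∀ i, i < 10566 → P i := stepQ 10565 Q10565 (allL N10565 (tt N11956 (iv F134725)) (tt N8832 F91178) (tt N9063 (iv F134558)) (tt N11961 (iv F134731)) (tt N12493 (iv F114680)) (tt N8953 F91180) (tt N12496 (iv F114723)) (tt N8800 F91181) (tt N8799 (iv D20135)) (tt N11499 (iv F134724)))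
theorem Q10567 : ∀ i, i < 10567 → P i := stepQ 10566 Q10566 (allL N10566 (tt N11583 (iv F106706)) (tt N11596 (iv F106785)) (tt N12497 D25514) (tt N8801 (iv D20137)) (tt N8803 F91187) (tt N11743 (iv F107630)) (tt N12498 D25515) (tt N11768 (iv F107799)) (tt N10566 F91188) (tt N11737 (iv F107591)))
theorem Q10568 : ∀ i, i < 10568 → P i := stepQ 10567 Q10567 (allL N10567 (tt N11584 (iv F106713)) (tt N11597 (iv F106792)) (tt N10567 F91189) (tt N12498 (iv F114733)) (tt N8802 F91190) (tt N12499 D25516) (tt N8801 (iv D20138)) (tt N12500 D25517) (tt N10567 F91191) (tt N11738 (iv F107597)))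
theorem Q10569 : ∀ i, i < 10569 → P i := stepQ 10568 Q10568 (allL N10568 (tt N11585 (iv F106719)) (tt N11598 (iv F106798)) (tt N10568 F91192) (tt N8805 F91193) (tt N12500 (iv F114739)) (tt N8958 F91194) (tt N11770 (iv F107813)) (tt N8802 (iv D20139)) (tt N10568 F91195) (tt N11739 (iv F107605)))
theorem Q10570 : ∀ i, i < 10570 → P i := stepQ 10569 Q10569 (allL N10569 (tt N11592 (iv F106769)) (tt N12501 D25518) (tt N8803 (iv D20140)) (tt N8840 F91196) (tt N12497 (iv F114731)) (tt N8814 F91197) (tt N12502 D25519) (tt N12469 (iv F114585)) (tt N10569 F91198) (tt N12465 (iv F114567)))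
theorem Q10571 : ∀ i, i < 10571 → P i := stepQ 10570 Q10570 (allL N10570 (tt N11593 (iv F106773)) (tt N12462 (iv F114548)) (tt N12502 (iv F114744)) (tt N8804 F91199) (tt N12498 (iv F114734)) (tt N12503 D25520) (tt N8803 (iv D20141)) (tt N12504 D25521) (tt N10570 F91200) (tt N12466 (iv F114571)))
theorem Q10572 : ∀ i, i < 10572 → P i := stepQ 10571 Q10571 (allL N10571 (tt N11594 (iv F106776)) (tt N12463 (iv F114552)) (tt N8842 F91201) (tt N12503 (iv F114747)) (tt N8967 F91202) (tt N8804 (iv D20142)) (tt N8816 F91203) (tt N12505 D25522) (tt N12506 D25523) (tt N12467 (iv F114576)))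
theorem Q10573 : ∀ i, i < 10573 → P i := stepQ 10572 Q10572 (allL N10572 (tt N11595 (iv F106780)) (tt N12464 (iv F114557)) (tt N8843 F91204) (tt N12504 (iv F114749)) (tt N8805 F91205) (tt N12505 (iv F114753)) (tt N12472 (iv F114600)) (tt N8804 (iv D20143)) (tt N10572 F91206) (tt N12468 (iv F114582)))
theorem Q10574 : ∀ i, i < 10574 → P i := stepQ 10573 Q10573 (allL N10573 (tt N11596 (iv F106784)) (tt N8962 F91207) (tt N12507 D25524) (tt N8806 (iv D20144)) (tt N11599 (iv F106807)) (tt N8936 F91208) (tt N12508 D25525) (tt N8969 F91209) (tt N10573 F91210) (tt N8930 F91211))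
theorem Q10575 : ∀ i, i < 10575 → P i := stepQ 10574 Q10574 (allL N10574 (tt N11597 (iv F106791)) (tt N8963 F91212) (tt N8845 F91213) (tt N12508 (iv F114764)) (tt N8807 F91214) (tt N12509 D25526) (tt N8806 (iv D20145)) (tt N12510 D25527) (tt N10574 F91215) (tt N8931 F91216))
theorem Q10576 : ∀ i, i < 10576 → P i := stepQ 10575 Q10575 (allL N10575 (tt N11598 (iv F106797)) (tt N8964 F91217) (tt N8846 F91218) (tt N11601 (iv F106821)) (tt N12510 (iv F114774)) (tt N8810 F91219) (tt N8971 F91220) (tt N8807 (iv D20146)) (tt N10575 F91221) (tt N8932 F91222))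
theorem Q10577 : ∀ i, i < 10577 → P i := stepQ 10576 Q10576 (allL N10576 (tt N11602 (iv F106826)) (tt N12511 D25528) (tt N8808 (iv D20147)) (tt N8850 F91223) (tt N12154 (iv F134835)) (tt N12469 (iv F114584)) (tt N12512 D25529) (tt N8814 F91224) (tt N8818 F91225) (tt N12461 (iv F114547)))
theorem Q10578 : ∀ i, i < 10578 → P i := stepQ 10577 Q10577 (allL N10577 (tt N11603 (iv F106831)) (tt N12466 (iv F114568)) (tt N12512 (iv F114781)) (tt N8809 F91226) (tt N12240 (iv F113223)) (tt N12513 D25530) (tt N8808 (iv D20148)) (tt N12514 D25531) (tt N8819 F91227) (tt N12462 (iv F114551)))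
theorem Q10579 : ∀ i, i < 10579 → P i := stepQ 10578 Q10578 (allL N10578 (tt N11604 (iv F106836)) (tt N12467 (iv F114572)) (tt N8852 F91228) (tt N12513 (iv F114784)) (tt N12509 (iv F114769)) (tt N8809 (iv D20149)) (tt N12471 (iv F114595)) (tt N12515 D25532) (tt N12516 D25533) (tt N12463 (iv F114556)))
theorem Q10580 : ∀ i, i < 10580 → P i := stepQ 10579 Q10579 (allL N10579 (tt N11605 (iv F106839)) (tt N12468 (iv F114577)) (tt N8853 F91229) (tt N12514 (iv F114785)) (tt N8810 F91230) (tt N12515 (iv F114789)) (tt N8817 F91231) (tt N8809 (iv D20150)) (tt N8821 F91232) (tt N12464 (iv F114562)))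
theorem Q10581 : ∀ i, i < 10581 → P i := stepQ 10580 Q10580 (allL N10580 (tt N11606 (iv F106845)) (tt N12517 D25534) (tt N8811 (iv D20151)) (tt N8854 F91233) (tt N11824 (iv F108056)) (tt N12465 (iv F114564)) (tt N12518 D25535) (tt N12461 (iv F114545)) (tt N10580 F91234) (tt N8814 F91235))
theorem Q10582 : ∀ i, i < 10582 → P i := stepQ 10581 Q10581 (allL N10581 (tt N11607 (iv F106850)) (tt N12470 (iv F114588)) (tt N12518 (iv F114795)) (tt N8812 F91236) (tt N11825 (iv F108061)) (tt N12519 D25536) (tt N8811 (iv D20152)) (tt N12520 D25537) (tt N10581 F91237) (tt N8815 F91238))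
theorem Q10583 : ∀ i, i < 10583 → P i := stepQ 10582 Q10582 (allL N10582 (tt N11608 (iv F106855)) (tt N12471 (iv F114592)) (tt N8856 F91239) (tt N12519 (iv F114799)) (tt N8978 F91240) (tt N8812 (iv D20153)) (tt N12467 (iv F114575)) (tt N12521 D25538) (tt N12522 D25539) (tt N8816 F91241))
theorem Q10584 : ∀ i, i < 10584 → P i := stepQ 10583 Q10583 (allL N10583 (tt N11609 (iv F106859)) (tt N12472 (iv F114597)) (tt N8857 F91242) (tt N12520 (iv F114801)) (tt N8813 F91243) (tt N12521 (iv F114806)) (tt N12464 (iv F114560)) (tt N8812 (iv D20154)) (tt N10583 F91244) (tt N8817 F91245))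
theorem Q10585 : ∀ i, i < 10585 → P i := stepQ 10584 Q10584 (allL N10584 (tt N12523 D25540) (tt N8814 (iv D20155)) (tt N12473 (iv F114603)) (tt N8858 F91246) (tt N12243 (iv F113234)) (tt N12501 (iv F114742)) (tt N12524 D25541) (tt N12511 (iv F114779)) (tt N8822 F91247) (tt N12517 (iv F114794)))
theorem Q10586 : ∀ i, i < 10586 → P i := stepQ 10585 Q10585 (allL N10585 (tt N11611 (iv F106866)) (tt N12524 (iv F114813)) (tt N8815 F91248) (tt N8859 F91249) (tt N12244 (iv F113238)) (tt N12525 D25542) (tt N8814 (iv D20156)) (tt N12526 D25543) (tt N8823 F91250) (tt N12518 (iv F114798)))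
theorem Q10587 : ∀ i, i < 10587 → P i := stepQ 10586 Q10586 (allL N10586 (tt N11612 (iv F106870)) (tt N12475 (iv F114609)) (tt N12525 (iv F114816)) (tt N8816 F91251) (tt N12527 D25544) (tt N8815 (iv D20157)) (tt N12503 (iv F114748)) (tt N12528 D25545) (tt N12529 D25546) (tt N12519 (iv F114800)))
theorem Q10588 : ∀ i, i < 10588 → P i := stepQ 10587 Q10587 (allL N10587 (tt N11613 (iv F106872)) (tt N12476 (iv F114611)) (tt N12526 (iv F114818)) (tt N8817 F91252) (tt N12246 (iv F113242)) (tt N12528 (iv F114823)) (tt N12514 (iv F114786)) (tt N8815 (iv D20158)) (tt N8825 F91253) (tt N12520 (iv F114803)))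
theorem Q10589 : ∀ i, i < 10589 → P i := stepQ 10588 Q10588 (allL N10588 (tt N11614 (iv F106875)) (tt N12477 (iv F114614)) (tt N8862 F91254) (tt N12528 (iv F114822)) (tt N8984 F91255) (tt N8817 F91256) (tt N12530 D25547) (tt N8816 (iv D20159)) (tt N12531 D25548) (tt N12521 (iv F114807)))
theorem Q10590 : ∀ i, i < 10590 → P i := stepQ 10589 Q10589 (allL N10589 (tt N11615 (iv F106879)) (tt N12478 (iv F114618)) (tt N8863 F91257) (tt N12529 (iv F114824)) (tt N8985 F91258) (tt N8827 F91259) (tt N12506 (iv F114757)) (tt N12531 (iv F114831)) (tt N8816 (iv D20160)) (tt N12532 D25549))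
theorem Q10591 : ∀ i, i < 10591 → P i := stepQ 10590 Q10590 (allL N10590 (tt N12533 D25550) (tt N8818 (iv D20161)) (tt N12479 (iv F114622)) (tt N8864 F91260) (tt N12112 (iv F134982)) (tt N10590 F91261) (tt N12534 D25551) (tt N8822 F91262) (tt N12511 (iv F114780)) (tt N10590 F91263))
theorem Q10592 : ∀ i, i < 10592 → P i := stepQ 10591 Q10591 (allL N10591 (tt N11617 (iv F106889)) (tt N12534 (iv F114839)) (tt N8819 F91264) (tt N8865 F91265) (tt N12141 (iv F134987)) (tt N12535 D25552) (tt N8818 (iv D20162)) (tt N12536 D25553) (tt N12512 (iv F114783)) (tt N10591 F91266))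
theorem Q10593 : ∀ i, i < 10593 → P i := stepQ 10592 Q10592 (allL N10592 (tt N11618 (iv F106894)) (tt N12481 (iv F114630)) (tt N12535 (iv F114842)) (tt N8820 F91267) (tt N12537 D25554) (tt N8819 (iv D20163)) (tt N10592 F91268) (tt N12538 D25555) (tt N12539 D25556) (tt N10592 F91269))
theorem Q10594 : ∀ i, i < 10594 → P i := stepQ 10593 Q10593 (allL N10593 (tt N11619 (iv F106899)) (tt N12482 (iv F114634)) (tt N12536 (iv F114846)) (tt N8821 F91270) (tt N12249 (iv F113266)) (tt N12538 (iv F114854)) (tt N8825 F91271) (tt N8819 (iv D20164)) (tt N12514 (iv F114787)) (tt N10593 F91272))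
theorem Q10595 : ∀ i, i < 10595 → P i := stepQ 10594 Q10594 (allL N10594 (tt N11620 (iv F106905)) (tt N12483 (iv F114638)) (tt N8868 F91273) (tt N12538 (iv F114853)) (tt N10594 F91274) (tt N8821 F91275) (tt N12540 D25557) (tt N8820 (iv D20165)) (tt N12541 D25558) (tt N10594 F91276))
theorem Q10596 : ∀ i, i < 10596 → P i := stepQ 10595 Q10595 (allL N10595 (tt N11621 (iv F106911)) (tt N12484 (iv F114643)) (tt N8869 F91277) (tt N12539 (iv F114856)) (tt N10595 F91278) (tt N12516 (iv F114791)) (tt N10595 F91279) (tt N12541 (iv F114865)) (tt N8820 (iv D20166)) (tt N12542 D25559))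
theorem Q10597 : ∀ i, i < 10597 → P i := stepQ 10596 Q10596 (allL N10596 (tt N8822 (iv D20167)) (tt N11622 (iv F106916)) (tt N12485 (iv F114647)) (tt N8870 F91280) (tt N12155 (iv F135127)) (tt N10596 F91281) (tt N12543 D25560) (tt N12533 (iv F114837)) (tt N12523 (iv F114812)) (tt N10596 F91282))
theorem Q10598 : ∀ i, i < 10598 → P i := stepQ 10597 Q10597 (allL N10597 (tt N12543 (iv F114870)) (tt N8823 F91283) (tt N12486 (iv F114652)) (tt N8871 F91284) (tt N12250 (iv F113283)) (tt N12544 D25561) (tt N8822 (iv D20168)) (tt N12545 D25562) (tt N12524 (iv F114815)) (tt N10597 F91285))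
theorem Q10599 : ∀ i, i < 10599 → P i := stepQ 10598 Q10598 (allL N10598 (tt N11624 (iv F106923)) (tt N12544 (iv F114873)) (tt N8824 F91286) (tt N8872 F91287) (tt N12546 D25563) (tt N8823 (iv D20169)) (tt N10598 F91288) (tt N12547 D25564) (tt N12548 D25565) (tt N10598 F91289))
theorem Q10600 : ∀ i, i < 10600 → P i := stepQ 10599 Q10599 (allL N10599 (tt N11625 (iv F106928)) (tt N12545 (iv F114877)) (tt N8825 F91290) (tt N8873 F91291) (tt N12251 (iv F113290)) (tt N12547 (iv F114886)) (tt N12536 (iv F114848)) (tt N8823 (iv D20170)) (tt N12526 (iv F114820)) (tt N10599 F91292))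
theorem Q10601 : ∀ i, i < 10601 → P i := stepQ 10600 Q10600 (allL N10600 (tt N11626 (iv F106932)) (tt N12489 (iv F114662)) (tt N12546 (iv F114880)) (tt N8828 F91293) (tt N8824 (iv D20171)) (tt N12252 (iv F113293)) (tt N10600 F91294) (tt N12549 D25566) (tt N12550 D25567) (tt N10600 F91295))
theorem Q10602 : ∀ i, i < 10602 → P i := stepQ 10601 Q10601 (allL N10601 (tt N11627 (iv F106936)) (tt N12490 (iv F114666)) (tt N12547 (iv F114884)) (tt N8826 F91296) (tt N12549 (iv F114892)) (tt N8825 F91297) (tt N12551 D25568) (tt N8824 (iv D20172)) (tt N12552 D25569) (tt N10601 F91298))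
theorem Q10603 : ∀ i, i < 10603 → P i := stepQ 10602 Q10602 (allL N10602 (tt N11628 (iv F106940)) (tt N12491 (iv F114670)) (tt N12548 (iv F114888)) (tt N8827 F91299) (tt N12550 (iv F114895)) (tt N12529 (iv F114825)) (tt N10602 F91300) (tt N12552 (iv F114901)) (tt N8824 (iv D20173)) (tt N12553 D25570))
theorem Q10604 : ∀ i, i < 10604 → P i := stepQ 10603 Q10603 (allL N10603 (tt N11629 (iv F106943)) (tt N12492 (iv F114673)) (tt N8876 F91301) (tt N12551 (iv F114897)) (tt N8831 F91302) (tt N12540 (iv F114860)) (tt N8826 (iv D20174)) (tt N10603 F91303) (tt N12554 D25571) (tt N10603 F91304))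
theorem Q10605 : ∀ i, i < 10605 → P i := stepQ 10604 Q10604 (allL N10604 (tt N11630 (iv F106948)) (tt N12493 (iv F114678)) (tt N8877 F91305) (tt N12552 (iv F114900)) (tt N8832 F91306) (tt N12531 (iv F114830)) (tt N12554 (iv F114907)) (tt N8827 F91307) (tt N8826 (iv D20175)) (tt N12555 D25572))
theorem Q10606 : ∀ i, i < 10606 → P i := stepQ 10605 Q10605 (allL N10605 (tt N11631 (iv F106952)) (tt N11498 (iv F134812)) (tt N8878 F91308) (tt N12553 (iv F114902)) (tt N8833 F91309) (tt N12532 (iv F114834)) (tt N10605 F91310) (tt N12555 (iv F114911)) (tt N10605 F91311) (tt N8827 (iv D20176)))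
theorem Q10607 : ∀ i, i < 10607 → P i := stepQ 10606 Q10606 (allL N10606 (tt N11632 (iv F106957)) (tt N12494 (iv F114701)) (tt N10606 F91312) (tt N12549 (iv F114891)) (tt N8829 F91313) (tt N12257 (iv F113310)) (tt N12556 D25573) (tt N8828 (iv D20177)) (tt N12557 D25574) (tt N10606 F91314))
theorem Q10608 : ∀ i, i < 10608 → P i := stepQ 10607 Q10607 (allL N10607 (tt N11633 (iv F106961)) (tt N11960 (iv F134810)) (tt N10607 F91315) (tt N12550 (iv F114894)) (tt N8830 F91316) (tt N12558 D25575) (tt N10607 F91317) (tt N12557 (iv F114919)) (tt N8828 (iv D20178)) (tt N11967 (iv F135022)))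
theorem Q10609 : ∀ i, i < 10609 → P i := stepQ 10608 Q10608 (allL N10608 (tt N11634 (iv F106965)) (tt N12495 (iv F114707)) (tt N10608 F91318) (tt N8831 F91319) (tt N12556 (iv F114914)) (tt N10608 F91320) (tt N8829 (iv D20179)) (tt N10608 F91321) (tt N12559 D25577) (tt N10608 F91322))
theorem Q10610 : ∀ i, i < 10610 → P i := stepQ 10609 Q10609 (allL N10609 (tt N11635 (iv F106971)) (tt N11961 (iv F134730)) (tt N10609 F91323) (tt N8832 F91324) (tt N12557 (iv F114918)) (tt N9000 F91325) (tt N12559 (iv F114928)) (tt N8830 F91326) (tt N8829 (iv D20180)) (tt N11968 (iv F135021)))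
theorem Q10611 : ∀ i, i < 10611 → P i := stepQ 10610 Q10610 (allL N10610 (tt N11637 (iv F106982)) (tt N12496 (iv F114721)) (tt N8879 F91332) (tt N12559 (iv F114927)) (tt N12554 (iv F114906)) (tt N12560 D25579) (tt N8832 F91333) (tt N10610 F91334) (tt N8831 (iv D20182)) (tt N12561 D25580))
theorem Q10612 : ∀ i, i < 10612 → P i := stepQ 10611 Q10611 (allL N10611 (tt N11638 (iv F106986)) (tt N11499 (iv F134723)) (tt N8880 F91335) (tt N11968 (iv F135020)) (tt N12555 (iv F114910)) (tt N9002 F91336) (tt N12561 (iv F114940)) (tt N8833 F91337) (tt N10611 F91338) (tt N8832 (iv D20183)))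
theorem Q10613 : ∀ i, i < 10613 → P i := stepQ 10612 Q10612 (allL N10612 (tt N11639 (iv F106991)) (tt N12562 D25581) (tt N8834 (iv D20184)) (tt N12469 (iv F114583)) (tt N10612 F91339) (tt N8850 F91340) (tt N12563 D25582) (tt N8840 F91341) (tt N10612 F91342) (tt N9245 F91343))
theorem Q10614 : ∀ i, i < 10614 → P i := stepQ 10613 Q10613 (allL N10613 (tt N11640 (iv F106997)) (tt N9268 F91344) (tt N12563 (iv F114949)) (tt N8835 F91345) (tt N10613 F91346) (tt N12564 D25583) (tt N8834 (iv D20185)) (tt N12565 D25584) (tt N10613 F91347) (tt N9246 F91348))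
theorem Q10615 : ∀ i, i < 10615 → P i := stepQ 10614 Q10614 (allL N10614 (tt N11641 (iv F107003)) (tt N9269 F91349) (tt N12471 (iv F114593)) (tt N12564 (iv F114954)) (tt N9409 F91350) (tt N8835 (iv D20186)) (tt N8852 F91351) (tt N12566 D25585) (tt N12567 D25586) (tt N9247 F91352))
theorem Q10616 : ∀ i, i < 10616 → P i := stepQ 10615 Q10615 (allL N10615 (tt N11642 (iv F107008)) (tt N9270 F91353) (tt N12472 (iv F114598)) (tt N12565 (iv F114958)) (tt N8836 F91354) (tt N12566 (iv F114965)) (tt N8843 F91355) (tt N8835 (iv D20187)) (tt N10615 F91356) (tt N9248 F91357))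
theorem Q10617 : ∀ i, i < 10617 → P i := stepQ 10616 Q10616 (allL N10616 (tt N11643 (iv F107014)) (tt N12568 D25587) (tt N8837 (iv D20188)) (tt N12465 (iv F114563)) (tt N10616 F91358) (tt N8854 F91359) (tt N12569 D25588) (tt N9245 F91360) (tt N9249 F91361) (tt N8840 F91362))
theorem Q10618 : ∀ i, i < 10618 → P i := stepQ 10617 Q10617 (allL N10617 (tt N11644 (iv F107020)) (tt N9264 F91363) (tt N12569 (iv F114977)) (tt N8838 F91364) (tt N10617 F91365) (tt N12570 D25589) (tt N8837 (iv D20189)) (tt N12571 D25590) (tt N9250 F91366) (tt N8841 F91367))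
theorem Q10619 : ∀ i, i < 10619 → P i := stepQ 10618 Q10618 (allL N10618 (tt N11645 (iv F107026)) (tt N9265 F91368) (tt N12467 (iv F114573)) (tt N12570 (iv F114982)) (tt N9012 F91369) (tt N8838 (iv D20190)) (tt N8856 F91370) (tt N12572 D25591) (tt N12573 D25592) (tt N8842 F91371))
theorem Q10620 : ∀ i, i < 10620 → P i := stepQ 10619 Q10619 (allL N10619 (tt N11646 (iv F107031)) (tt N9266 F91372) (tt N12468 (iv F114578)) (tt N12571 (iv F114986)) (tt N8839 F91373) (tt N12572 (iv F114993)) (tt N9248 F91374) (tt N8838 (iv D20191)) (tt N9252 F91375) (tt N8843 F91376))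
theorem Q10621 : ∀ i, i < 10621 → P i := stepQ 10620 Q10620 (allL N10620 (tt N12574 D25593) (tt N8840 (iv D20192)) (tt N9297 F91377) (tt N12501 (iv F114741)) (tt N10620 F91378) (tt N8858 F91379) (tt N12575 D25594) (tt N12562 (iv F114946)) (tt N10620 F91380) (tt N12568 (iv F114976)))
theorem Q10622 : ∀ i, i < 10622 → P i := stepQ 10621 Q10621 (allL N10621 (tt N11648 (iv F107041)) (tt N12575 (iv F115003)) (tt N8841 F91381) (tt N12502 (iv F114745)) (tt N10621 F91382) (tt N12576 D25595) (tt N8840 (iv D20193)) (tt N12577 D25596) (tt N10621 F91383) (tt N12569 (iv F114980)))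
theorem Q10623 : ∀ i, i < 10623 → P i := stepQ 10622 Q10622 (allL N10622 (tt N11649 (iv F107045)) (tt N9299 F91384) (tt N12576 (iv F115007)) (tt N8842 F91385) (tt N12578 D25597) (tt N8841 (iv D20194)) (tt N8860 F91386) (tt N12579 D25598) (tt N12580 D25599) (tt N12570 (iv F114984)))
theorem Q10624 : ∀ i, i < 10624 → P i := stepQ 10623 Q10623 (allL N10623 (tt N11650 (iv F107049)) (tt N9300 F91387) (tt N12577 (iv F115009)) (tt N8843 F91388) (tt N10623 F91389) (tt N12579 (iv F115018)) (tt N12565 (iv F114960)) (tt N8841 (iv D20195)) (tt N10623 F91390) (tt N12571 (iv F114990)))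
theorem Q10625 : ∀ i, i < 10625 → P i := stepQ 10624 Q10624 (allL N10624 (tt N11651 (iv F107054)) (tt N9301 F91391) (tt N12505 (iv F114751)) (tt N12579 (iv F115017)) (tt N9018 F91392) (tt N8843 F91393) (tt N12581 D25600) (tt N8842 (iv D20196)) (tt N12582 D25601) (tt N12572 (iv F114994)))
theorem Q10626 : ∀ i, i < 10626 → P i := stepQ 10625 Q10625 (allL N10625 (tt N11652 (iv F107058)) (tt N9302 F91394) (tt N12506 (iv F114754)) (tt N12580 (iv F115020)) (tt N9019 F91395) (tt N10625 F91396) (tt N8863 F91397) (tt N12582 (iv F115029)) (tt N8842 (iv D20197)) (tt N12583 D25602))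
theorem Q10627 : ∀ i, i < 10627 → P i := stepQ 10626 Q10626 (allL N10626 (tt N11653 (iv F107063)) (tt N12584 D25603) (tt N8844 (iv D20198)) (tt N12507 (iv F114758)) (tt N8881 F91398) (tt N9193 F135187) (tt N12585 D25604) (tt N9020 F91400) (tt N10626 F91401) (tt N9186 F135188))
theorem Q10628 : ∀ i, i < 10628 → P i := stepQ 10627 Q10627 (allL N10627 (tt N11654 (iv F107069)) (tt N9304 F91403) (tt N12585 (iv F115040)) (tt N8845 F91404) (tt N8882 F91405) (tt N12586 D25605) (tt N8844 (iv D20199)) (tt N12587 D25606) (tt N10627 F91406) (tt N9202 F135193))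
theorem Q10629 : ∀ i, i < 10629 → P i := stepQ 10628 Q10628 (allL N10628 (tt N11655 (iv F107075)) (tt N9305 F91408) (tt N12509 (iv F114768)) (tt N12586 (iv F115045)) (tt N8852 F91409) (tt N8845 (iv D20200)) (tt N9409 F91410) (tt N12588 D25607) (tt N12589 D25608) (tt N9405 F91411))
theorem Q10630 : ∀ i, i < 10630 → P i := stepQ 10629 Q10629 (allL N10629 (tt N11656 (iv F107080)) (tt N9306 F91412) (tt N12510 (iv F114773)) (tt N12587 (iv F115049)) (tt N8846 F91413) (tt N12588 (iv F115056)) (tt N9023 F91414) (tt N8845 (iv D20201)) (tt N10629 F91415) (tt N9406 F91416))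
theorem Q10631 : ∀ i, i < 10631 → P i := stepQ 10630 Q10630 (allL N10630 (tt N11657 (iv F107086)) (tt N12590 D25609) (tt N8847 (iv D20202)) (tt N12461 (iv F114543)) (tt N8885 F91417) (tt N9245 F91418) (tt N12591 D25610) (tt N8854 F91419) (tt N10630 F91420) (tt N8850 F91421))
theorem Q10632 : ∀ i, i < 10632 → P i := stepQ 10631 Q10631 (allL N10631 (tt N11658 (iv F107092)) (tt N9260 F91422) (tt N12591 (iv F115068)) (tt N8848 F91423) (tt N8886 F91424) (tt N12592 D25611) (tt N8847 (iv D20203)) (tt N12593 D25612) (tt N10631 F91425) (tt N8851 F91426))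
theorem Q10633 : ∀ i, i < 10633 → P i := stepQ 10632 Q10632 (allL N10632 (tt N11659 (iv F107098)) (tt N9261 F91427) (tt N12463 (iv F114553)) (tt N12592 (iv F115073)) (tt N9405 F91428) (tt N8848 (iv D20204)) (tt N9247 F91429) (tt N12594 D25613) (tt N12595 D25614) (tt N8852 F91430))
theorem Q10634 : ∀ i, i < 10634 → P i := stepQ 10633 Q10633 (allL N10633 (tt N11660 (iv F107103)) (tt N9262 F91431) (tt N12464 (iv F114558)) (tt N12593 (iv F115077)) (tt N8849 F91432) (tt N12594 (iv F115084)) (tt N8857 F91433) (tt N8848 (iv D20205)) (tt N10633 F91434) (tt N8853 F91435))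
theorem Q10635 : ∀ i, i < 10635 → P i := stepQ 10634 Q10634 (allL N10634 (tt N12596 D25615) (tt N8850 (iv D20206)) (tt N9307 F91436) (tt N12511 (iv F114778)) (tt N8889 F91437) (tt N12562 (iv F114945)) (tt N12597 D25616) (tt N8858 F91438) (tt N8864 F91439) (tt N12590 (iv F115067)))
theorem Q10636 : ∀ i, i < 10636 → P i := stepQ 10635 Q10635 (allL N10635 (tt N11662 (iv F107113)) (tt N12597 (iv F115094)) (tt N8851 F91440) (tt N12512 (iv F114782)) (tt N8890 F91441) (tt N12598 D25617) (tt N8850 (iv D20207)) (tt N12599 D25618) (tt N8865 F91442) (tt N12591 (iv F115071)))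
theorem Q10637 : ∀ i, i < 10637 → P i := stepQ 10636 Q10636 (allL N10636 (tt N11663 (iv F107117)) (tt N9309 F91443) (tt N12598 (iv F115098)) (tt N8852 F91444) (tt N12600 D25619) (tt N8851 (iv D20208)) (tt N12564 (iv F114955)) (tt N12601 D25620) (tt N12602 D25621) (tt N12592 (iv F115075)))
theorem Q10638 : ∀ i, i < 10638 → P i := stepQ 10637 Q10637 (allL N10637 (tt N11664 (iv F107120)) (tt N9310 F91445) (tt N12599 (iv F115099)) (tt N8853 F91446) (tt N8892 F91447) (tt N12601 (iv F115108)) (tt N8861 F91448) (tt N8851 (iv D20209)) (tt N8867 F91449) (tt N12593 (iv F115081)))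
theorem Q10639 : ∀ i, i < 10639 → P i := stepQ 10638 Q10638 (allL N10638 (tt N11665 (iv F107126)) (tt N9311 F91450) (tt N12515 (iv F114788)) (tt N12601 (iv F115107)) (tt N12588 (iv F115055)) (tt N8853 F91451) (tt N12603 D25622) (tt N8852 (iv D20210)) (tt N12604 D25623) (tt N12594 (iv F115085)))
theorem Q10640 : ∀ i, i < 10640 → P i := stepQ 10639 Q10639 (allL N10639 (tt N11666 (iv F107129)) (tt N9312 F91452) (tt N12516 (iv F114790)) (tt N12602 (iv F115110)) (tt N12589 (iv F115059)) (tt N8869 F91453) (tt N12567 (iv F114970)) (tt N12604 (iv F115118)) (tt N8852 (iv D20211)) (tt N12605 D25624))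
theorem Q10641 : ∀ i, i < 10641 → P i := stepQ 10640 Q10640 (allL N10640 (tt N12606 D25625) (tt N8854 (iv D20212)) (tt N9313 F91454) (tt N12517 (iv F114792)) (tt N8895 F91455) (tt N12568 (iv F114973)) (tt N12607 D25626) (tt N12590 (iv F115065)) (tt N10640 F91456) (tt N8858 F91457))
theorem Q10642 : ∀ i, i < 10642 → P i := stepQ 10641 Q10641 (allL N10641 (tt N11668 (iv F107136)) (tt N12607 (iv F115126)) (tt N8855 F91458) (tt N12518 (iv F114796)) (tt N8896 F91459) (tt N12608 D25627) (tt N8854 (iv D20213)) (tt N12609 D25628) (tt N10641 F91460) (tt N8859 F91461))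
theorem Q10643 : ∀ i, i < 10643 → P i := stepQ 10642 Q10642 (allL N10642 (tt N11669 (iv F107141)) (tt N9315 F91462) (tt N12608 (iv F115131)) (tt N8856 F91463) (tt N12610 D25629) (tt N8855 (iv D20214)) (tt N12570 (iv F114983)) (tt N12611 D25630) (tt N12612 D25631) (tt N8860 F91464))
theorem Q10644 : ∀ i, i < 10644 → P i := stepQ 10643 Q10643 (allL N10643 (tt N11670 (iv F107145)) (tt N9316 F91465) (tt N12609 (iv F115133)) (tt N8857 F91466) (tt N8898 F91467) (tt N12611 (iv F115143)) (tt N12593 (iv F115079)) (tt N8855 (iv D20215)) (tt N10643 F91468) (tt N8861 F91469))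
theorem Q10645 : ∀ i, i < 10645 → P i := stepQ 10644 Q10644 (allL N10644 (tt N11671 (iv F107151)) (tt N9317 F91470) (tt N12521 (iv F114804)) (tt N12611 (iv F115142)) (tt N9032 F91471) (tt N8857 F91472) (tt N12613 D25632) (tt N8856 (iv D20216)) (tt N12614 D25633) (tt N8862 F91473))
theorem Q10646 : ∀ i, i < 10646 → P i := stepQ 10645 Q10645 (allL N10645 (tt N11672 (iv F107156)) (tt N9318 F91474) (tt N12522 (iv F114808)) (tt N12612 (iv F115146)) (tt N9033 F91475) (tt N10645 F91476) (tt N12573 (iv F114998)) (tt N12614 (iv F115154)) (tt N8856 (iv D20217)) (tt N12615 D25634))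
theorem Q10647 : ∀ i, i < 10647 → P i := stepQ 10646 Q10646 (allL N10646 (tt N8858 (iv D20218)) (tt N11673 (iv F107160)) (tt N9319 F91477) (tt N12523 (iv F114811)) (tt N8901 F91478) (tt N12574 (iv F115001)) (tt N12616 D25635) (tt N12596 (iv F115092)) (tt N8870 F91479) (tt N12606 (iv F115125)))
theorem Q10648 : ∀ i, i < 10648 → P i := stepQ 10647 Q10647 (allL N10647 (tt N12616 (iv F115159)) (tt N8859 F91480) (tt N9320 F91481) (tt N12524 (iv F114814)) (tt N8902 F91482) (tt N12617 D25636) (tt N8858 (iv D20219)) (tt N12618 D25637) (tt N8871 F91483) (tt N12607 (iv F115130)))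
theorem Q10649 : ∀ i, i < 10649 → P i := stepQ 10648 Q10648 (allL N10648 (tt N11675 (iv F107168)) (tt N12617 (iv F115163)) (tt N8860 F91484) (tt N12525 (iv F114817)) (tt N12619 D25638) (tt N8859 (iv D20220)) (tt N12576 (iv F115008)) (tt N12620 D25639) (tt N12621 D25640) (tt N12608 (iv F115132)))
theorem Q10650 : ∀ i, i < 10650 → P i := stepQ 10649 Q10649 (allL N10649 (tt N11676 (iv F107170)) (tt N12618 (iv F115165)) (tt N8861 F91485) (tt N12526 (iv F114819)) (tt N8904 F91486) (tt N12620 (iv F115172)) (tt N12599 (iv F115101)) (tt N8859 (iv D20221)) (tt N8873 F91487) (tt N12609 (iv F115136)))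
theorem Q10651 : ∀ i, i < 10651 → P i := stepQ 10650 Q10650 (allL N10650 (tt N11677 (iv F107174)) (tt N9323 F91488) (tt N12619 (iv F115169)) (tt N9037 F91489) (tt N8860 (iv D20222)) (tt N8905 F91490) (tt N12578 (iv F115015)) (tt N12622 D25641) (tt N12623 D25642) (tt N12610 (iv F115140)))
theorem Q10652 : ∀ i, i < 10652 → P i := stepQ 10651 Q10651 (allL N10651 (tt N11678 (iv F107178)) (tt N9324 F91491) (tt N12620 (iv F115171)) (tt N8862 F91492) (tt N12622 (iv F115177)) (tt N8861 F91493) (tt N12624 D25643) (tt N8860 (iv D20223)) (tt N12625 D25644) (tt N12611 (iv F115144)))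
theorem Q10653 : ∀ i, i < 10653 → P i := stepQ 10652 Q10652 (allL N10652 (tt N11679 (iv F107182)) (tt N9325 F91494) (tt N12621 (iv F115173)) (tt N8863 F91495) (tt N12623 (iv F115181)) (tt N8875 F91496) (tt N12580 (iv F115022)) (tt N12625 (iv F115188)) (tt N8860 (iv D20224)) (tt N12626 D25645))
theorem Q10654 : ∀ i, i < 10654 → P i := stepQ 10653 Q10653 (allL N10653 (tt N11680 (iv F107186)) (tt N9326 F91497) (tt N12530 (iv F114826)) (tt N12624 (iv F115184)) (tt N9040 F91498) (tt N12603 (iv F115115)) (tt N8862 (iv D20225)) (tt N12581 (iv F115025)) (tt N12627 D25646) (tt N12613 (iv F115150)))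
theorem Q10655 : ∀ i, i < 10655 → P i := stepQ 10654 Q10654 (allL N10654 (tt N11681 (iv F107189)) (tt N9327 F91499) (tt N12531 (iv F114828)) (tt N12625 (iv F115186)) (tt N9041 F91500) (tt N8877 F91501) (tt N12627 (iv F115194)) (tt N8863 F91502) (tt N8862 (iv D20226)) (tt N12628 D25647))
theorem Q10656 : ∀ i, i < 10656 → P i := stepQ 10655 Q10655 (allL N10655 (tt N11682 (iv F107194)) (tt N9328 F91503) (tt N12532 (iv F114832)) (tt N12626 (iv F115190)) (tt N9042 F91504) (tt N8878 F91505) (tt N12583 (iv F115033)) (tt N12628 (iv F115198)) (tt N12615 (iv F115158)) (tt N8863 (iv D20227)))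
theorem Q10657 : ∀ i, i < 10657 → P i := stepQ 10656 Q10656 (allL N10656 (tt N8864 (iv D20228)) (tt N11683 (iv F107198)) (tt N9329 F91506) (tt N12533 (iv F114835)) (tt N8908 F91507) (tt N10656 F91508) (tt N12231 (iv F134927)) (tt N8870 F91509) (tt N12596 (iv F115093)) (tt N10656 F91510))
theorem Q10658 : ∀ i, i < 10658 → P i := stepQ 10657 Q10657 (allL N10657 (tt N12231 (iv F134925)) (tt N8865 F91511) (tt N9330 F91512) (tt N12534 (iv F114840)) (tt N8909 F91513) (tt N12458 (iv F134911)) (tt N8864 (iv D20229)) (tt N12629 D25650) (tt N12597 (iv F115097)) (tt N10657 F91514))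
theorem Q10659 : ∀ i, i < 10659 → P i := stepQ 10658 Q10658 (allL N10658 (tt N11577 (iv F135619)) (tt N12458 (iv F134909)) (tt N8866 F91515) (tt N12535 (iv F114843)) (tt N11559 (iv F134429)) (tt N8865 (iv D20230)) (tt N10658 F91516) (tt N12630 D25652) (tt N12631 D25653) (tt N10658 F91517))
theorem Q10660 : ∀ i, i < 10660 → P i := stepQ 10659 Q10659 (allL N10659 (tt N11684 (iv F107212)) (tt N12629 (iv F115209)) (tt N8867 F91518) (tt N12536 (iv F114847)) (tt N8911 F91519) (tt N12630 (iv F115221)) (tt N8873 F91520) (tt N8865 (iv D20231)) (tt N12599 (iv F115102)) (tt N10659 F91521))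
theorem Q10661 : ∀ i, i < 10661 → P i := stepQ 10660 Q10660 (allL N10660 (tt N11575 (iv F133708)) (tt N9333 F91522) (tt N11559 (iv F134428)) (tt N10660 F91523) (tt N8866 (iv D20232)) (tt N8912 F91524) (tt N10660 F91525) (tt N12632 D25654) (tt N9224 (iv F134552)) (tt N10660 F91526))
theorem Q10662 : ∀ i, i < 10662 → P i := stepQ 10661 Q10661 (allL N10661 (tt N11685 (iv F107224)) (tt N9334 F91528) (tt N12630 (iv F115220)) (tt N8868 F91529) (tt N12632 (iv F115230)) (tt N8867 F91530) (tt N12633 D25655) (tt N8866 (iv D20233)) (tt N12634 D25656) (tt N10661 F91531))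
theorem Q10663 : ∀ i, i < 10663 → P i := stepQ 10662 Q10662 (allL N10662 (tt N11686 (iv F107229)) (tt N9335 F91532) (tt N12631 (iv F115224)) (tt N8869 F91533) (tt N9224 F135268) (tt N12602 (iv F115112)) (tt N10662 F91535) (tt N12634 (iv F115242)) (tt N8866 (iv D20234)) (tt N9223 F135269))
theorem Q10664 : ∀ i, i < 10664 → P i := stepQ 10663 Q10663 (allL N10663 (tt N11687 (iv F107235)) (tt N9336 F91537) (tt N12540 (iv F114858)) (tt N12633 (iv F115235)) (tt N10663 F91538) (tt N8876 F91539) (tt N8868 (iv D20235)) (tt N10663 F91540) (tt N12635 D25657) (tt N10663 F91541))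
theorem Q10665 : ∀ i, i < 10665 → P i := stepQ 10664 Q10664 (allL N10664 (tt N11688 (iv F107241)) (tt N9337 F91542) (tt N12541 (iv F114863)) (tt N12634 (iv F115240)) (tt N10664 F91543) (tt N12604 (iv F115117)) (tt N12635 (iv F115246)) (tt N8869 F91544) (tt N8868 (iv D20236)) (tt N12636 D25658))
theorem Q10666 : ∀ i, i < 10666 → P i := stepQ 10665 Q10665 (allL N10665 (tt N11689 (iv F107245)) (tt N9338 F91545) (tt N12542 (iv F114866)) (tt N9223 F135267) (tt N10665 F91547) (tt N12605 (iv F115121)) (tt N10665 F91548) (tt N12636 (iv F115251)) (tt N10665 F91549) (tt N8869 (iv D20237)))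
theorem Q10667 : ∀ i, i < 10667 → P i := stepQ 10666 Q10666 (allL N10666 (tt N8871 F91550) (tt N11690 (iv F107252)) (tt N9339 F91551) (tt N12543 (iv F114871)) (tt N8917 F91552) (tt N12637 D25659) (tt N8870 (iv D20238)) (tt N12638 D25660) (tt N12616 (iv F115162)) (tt N10666 F91553))
theorem Q10668 : ∀ i, i < 10668 → P i := stepQ 10667 Q10667 (allL N10667 (tt N12637 (iv F115253)) (tt N8872 F91554) (tt N9340 F91555) (tt N12544 (iv F114874)) (tt N10667 F91556) (tt N8871 (iv D20239)) (tt N10667 F91557) (tt N12639 D25661) (tt N12640 D25662) (tt N10667 F91558))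
theorem Q10669 : ∀ i, i < 10669 → P i := stepQ 10668 Q10668 (allL N10668 (tt N12638 (iv F115258)) (tt N8873 F91559) (tt N9341 F91560) (tt N12545 (iv F114878)) (tt N8918 F91561) (tt N12639 (iv F115265)) (tt N12629 (iv F115212)) (tt N8871 (iv D20240)) (tt N12618 (iv F115168)) (tt N10668 F91562))
theorem Q10670 : ∀ i, i < 10670 → P i := stepQ 10669 Q10669 (allL N10669 (tt N11693 (iv F107265)) (tt N12639 (iv F115262)) (tt N8874 F91563) (tt N12547 (iv F114885)) (tt N10669 F91564) (tt N8873 F91565) (tt N12641 D25663) (tt N8872 (iv D20241)) (tt N12642 D25664) (tt N10669 F91566))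
theorem Q10671 : ∀ i, i < 10671 → P i := stepQ 10670 Q10670 (allL N10670 (tt N11694 (iv F107270)) (tt N12640 (iv F115267)) (tt N8875 F91567) (tt N12548 (iv F114889)) (tt N10670 F91568) (tt N12621 (iv F115174)) (tt N10670 F91569) (tt N12642 (iv F115277)) (tt N8872 (iv D20242)) (tt N12643 D25665))
theorem Q10672 : ∀ i, i < 10672 → P i := stepQ 10671 Q10671 (allL N10671 (tt N11695 (iv F107274)) (tt N9344 F91570) (tt N12641 (iv F115271)) (tt N8876 F91571) (tt N10671 F91572) (tt N12633 (iv F115236)) (tt N8874 (iv D20243)) (tt N10671 F91573) (tt N12644 D25666) (tt N10671 F91574))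
theorem Q10673 : ∀ i, i < 10673 → P i := stepQ 10672 Q10672 (allL N10672 (tt N11696 (iv F107280)) (tt N9345 F91575) (tt N12642 (iv F115275)) (tt N8877 F91576) (tt N10672 F91577) (tt N12625 (iv F115187)) (tt N12644 (iv F115285)) (tt N8875 F91578) (tt N8874 (iv D20244)) (tt N12645 D25667))
theorem Q10674 : ∀ i, i < 10674 → P i := stepQ 10673 Q10673 (allL N10673 (tt N11697 (iv F107285)) (tt N9346 F91579) (tt N12643 (iv F115278)) (tt N8878 F91580) (tt N10673 F91581) (tt N12626 (iv F115191)) (tt N10673 F91582) (tt N12645 (iv F115290)) (tt N10673 F91583) (tt N8875 (iv D20245)))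
theorem Q10675 : ∀ i, i < 10675 → P i := stepQ 10674 Q10674 (allL N10674 (tt N11698 (iv F107291)) (tt N9347 F91584) (tt N12554 (iv F114905)) (tt N12644 (iv F115283)) (tt N8879 F91585) (tt N12646 D25668) (tt N8877 F91586) (tt N10674 F91587) (tt N8876 (iv D20246)) (tt N12647 D25669))
theorem Q10676 : ∀ i, i < 10676 → P i := stepQ 10675 Q10675 (allL N10675 (tt N11699 (iv F107296)) (tt N9348 F91588) (tt N12555 (iv F114909)) (tt N12645 (iv F115288)) (tt N8880 F91589) (tt N12628 (iv F115197)) (tt N12647 (iv F115296)) (tt N8878 F91590) (tt N10675 F91591) (tt N8877 (iv D20247)))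
theorem Q10677 : ∀ i, i < 10677 → P i := stepQ 10676 Q10676 (allL N10676 (tt N11700 (iv F107301)) (tt N9349 F91592) (tt N12560 (iv F114935)) (tt N10676 F91593) (tt N12648 D25670) (tt N8879 (iv D20248)) (tt N9054 F91594) (tt N10676 F91595) (tt N10676 F91596) (tt N12649 D25671))
theorem Q10678 : ∀ i, i < 10678 → P i := stepQ 10677 Q10677 (allL N10677 (tt N11701 (iv F107307)) (tt N9350 F91597) (tt N12561 (iv F114939)) (tt N10677 F91598) (tt N12647 (iv F115295)) (tt N12649 (iv F115305)) (tt N8880 F91599) (tt N10677 F91600) (tt N10677 F91601) (tt N8879 (iv D20249)))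
theorem Q10679 : ∀ i, i < 10679 → P i := stepQ 10678 Q10678 (allL N10678 (tt N12217 (iv F135144)) (tt N8881 (iv D20250)) (tt N9355 F91602) (tt N11708 (iv F107348)) (tt N12584 (iv F115035)) (tt N10678 F91603) (tt N11401 (iv F135597)) (tt N9056 F91604) (tt N10678 F91605) (tt N11382 (iv F134971)))
theorem Q10680 : ∀ i, i < 10680 → P i := stepQ 10679 Q10679 (allL N10679 (tt N11703 (iv F107319)) (tt N11401 (iv F135596)) (tt N8882 F91606) (tt N11709 (iv F107355)) (tt N12585 (iv F115041)) (tt N11449 (iv F135605)) (tt N8881 (iv D20251)) (tt N12650 D25675) (tt N10679 F91607) (tt N11386 (iv F135388)))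
theorem Q10681 : ∀ i, i < 10681 → P i := stepQ 10680 Q10680 (allL N10680 (tt N11704 (iv F107324)) (tt N9357 F91608) (tt N11449 (iv F135604)) (tt N8883 F91609) (tt N12651 D25676) (tt N8882 (iv D20252)) (tt N10680 F91610) (tt N12652 D25677) (tt N11374 (iv F134396)) (tt N11357 (iv F135442)))
theorem Q10682 : ∀ i, i < 10682 → P i := stepQ 10681 Q10681 (allL N10681 (tt N11705 (iv F107329)) (tt N9358 F91611) (tt N12650 (iv F115317)) (tt N8884 F91612) (tt N12587 (iv F115050)) (tt N12652 (iv F115326)) (tt N9059 F91613) (tt N8882 (iv D20253)) (tt N10681 F91614) (tt N11412 (iv F105562)))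
theorem Q10683 : ∀ i, i < 10683 → P i := stepQ 10682 Q10682 (allL N10682 (tt N11706 (iv F107335)) (tt N9359 F91615) (tt N11712 (iv F107371)) (tt N12652 (iv F115325)) (tt N8893 F91616) (tt N8884 F91617) (tt N12653 D25679) (tt N8883 (iv D20254)) (tt N12654 D25680) (tt N11413 (iv F105568)))
theorem Q10684 : ∀ i, i < 10684 → P i := stepQ 10683 Q10683 (allL N10683 (tt N11707 (iv F107341)) (tt N9360 F91618) (tt N11713 (iv F107377)) (tt N11374 (iv F134395)) (tt N8894 F91619) (tt N10683 F91620) (tt N10683 F91621) (tt N12654 (iv F115340)) (tt N8883 (iv D20255)) (tt N11371 (iv F134394)))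
theorem Q10685 : ∀ i, i < 10685 → P i := stepQ 10684 Q10684 (allL N10684 (tt N12655 D25682) (tt N8885 (iv D20256)) (tt N9361 F91622) (tt N11702 (iv F107314)) (tt N12590 (iv F115063)) (tt N10684 F91623) (tt N12656 D25683) (tt N8895 F91624) (tt N10684 F91625) (tt N8889 F91626))
theorem Q10686 : ∀ i, i < 10686 → P i := stepQ 10685 Q10685 (allL N10685 (tt N11709 (iv F107353)) (tt N12656 (iv F115351)) (tt N8886 F91627) (tt N11703 (iv F107321)) (tt N12591 (iv F115069)) (tt N12657 D25684) (tt N8885 (iv D20257)) (tt N12658 D25685) (tt N10685 F91628) (tt N8890 F91629))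
theorem Q10687 : ∀ i, i < 10687 → P i := stepQ 10686 Q10686 (allL N10686 (tt N11710 (iv F107358)) (tt N9363 F91630) (tt N12657 (iv F115355)) (tt N8887 F91631) (tt N12659 D25686) (tt N8886 (iv D20258)) (tt N10686 F91632) (tt N12660 D25687) (tt N12661 D25688) (tt N8891 F91633))
theorem Q10688 : ∀ i, i < 10688 → P i := stepQ 10687 Q10687 (allL N10687 (tt N11711 (iv F107363)) (tt N9364 F91634) (tt N12658 (iv F115358)) (tt N8888 F91635) (tt N12593 (iv F115078)) (tt N12660 (iv F115368)) (tt N8898 F91636) (tt N8886 (iv D20259)) (tt N10687 F91637) (tt N8892 F91638))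
theorem Q10689 : ∀ i, i < 10689 → P i := stepQ 10688 Q10688 (allL N10688 (tt N11712 (iv F107369)) (tt N9365 F91639) (tt N11706 (iv F107337)) (tt N12660 (iv F115367)) (tt N11413 (iv F105566)) (tt N8888 F91640) (tt N12662 D25689) (tt N8887 (iv D20260)) (tt N12663 D25690) (tt N8893 F91641))
theorem Q10690 : ∀ i, i < 10690 → P i := stepQ 10689 Q10689 (allL N10689 (tt N11713 (iv F107375)) (tt N9366 F91642) (tt N11707 (iv F107343)) (tt N12661 (iv F115371)) (tt N11354 (iv F135101)) (tt N10689 F91643) (tt N10689 F91644) (tt N12663 (iv F115382)) (tt N8887 (iv D20261)) (tt N11369 (iv F135071)))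
theorem Q10691 : ∀ i, i < 10691 → P i := stepQ 10690 Q10690 (allL N10690 (tt N8889 (iv D20262)) (tt N11714 (iv F107381)) (tt N9367 F91645) (tt N12216 (iv F135124)) (tt N12596 (iv F115091)) (tt N10690 F91646) (tt N12233 (iv F134935)) (tt N8901 F91647) (tt N8908 F91648) (tt N12655 (iv F115350)))
theorem Q10692 : ∀ i, i < 10692 → P i := stepQ 10691 Q10691 (allL N10691 (tt N12233 (iv F134933)) (tt N8890 F91649) (tt N9368 F91650) (tt N12220 (iv F135582)) (tt N12597 (iv F115096)) (tt N12297 (iv F134900)) (tt N8889 (iv D20263)) (tt N12664 D25694) (tt N8909 F91651) (tt N12656 (iv F115354)))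
theorem Q10693 : ∀ i, i < 10693 → P i := stepQ 10692 Q10692 (allL N10692 (tt N11446 (iv F135609)) (tt N12297 (iv F134897)) (tt N8891 F91652) (tt N11432 (iv F135607)) (tt N12665 D25695) (tt N8890 (iv D20264)) (tt N10692 F91653) (tt N12666 D25696) (tt N11429 (iv F134418)) (tt N12657 (iv F115357)))
theorem Q10694 : ∀ i, i < 10694 → P i := stepQ 10693 Q10693 (allL N10693 (tt N11715 (iv F107392)) (tt N12664 (iv F115396)) (tt N8892 F91654) (tt N12277 (iv F113522)) (tt N12599 (iv F115100)) (tt N12666 (iv F115405)) (tt N8904 F91655) (tt N8890 (iv D20265)) (tt N8911 F91656) (tt N12658 (iv F115361)))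
theorem Q10695 : ∀ i, i < 10695 → P i := stepQ 10694 Q10694 (allL N10694 (tt N11716 (iv F107396)) (tt N9371 F91657) (tt N12665 (iv F115401)) (tt N12651 (iv F115321)) (tt N8891 (iv D20266)) (tt N12600 (iv F115104)) (tt N10694 F91658) (tt N12667 D25698) (tt N9233 F135324) (tt N12659 (iv F115364)))
theorem Q10696 : ∀ i, i < 10696 → P i := stepQ 10695 Q10695 (allL N10695 (tt N11717 (iv F107400)) (tt N9372 F91660) (tt N12666 (iv F115404)) (tt N8893 F91661) (tt N12667 (iv F115413)) (tt N8892 F91662) (tt N12668 D25699) (tt N8891 (iv D20267)) (tt N12669 D25700) (tt N12660 (iv F115369)))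
theorem Q10697 : ∀ i, i < 10697 → P i := stepQ 10696 Q10696 (allL N10696 (tt N11442 (iv F133691)) (tt N9373 F91663) (tt N11429 (iv F134416)) (tt N8894 F91664) (tt N9233 (iv F134617)) (tt N8914 F91666) (tt N10696 F91667) (tt N12669 (iv F115423)) (tt N8891 (iv D20268)) (tt N9232 F134383))
theorem Q10698 : ∀ i, i < 10698 → P i := stepQ 10697 Q10697 (allL N10697 (tt N11718 (iv F107411)) (tt N9374 F91669) (tt N12280 (iv F113535)) (tt N12668 (iv F115416)) (tt N12653 (iv F115334)) (tt N8907 F91670) (tt N8893 (iv D20269)) (tt N10697 F91671) (tt N12670 D25701) (tt N12662 (iv F115379)))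
theorem Q10699 : ∀ i, i < 10699 → P i := stepQ 10698 Q10698 (allL N10698 (tt N11719 (iv F107415)) (tt N9375 F91672) (tt N12281 (iv F113539)) (tt N12669 (iv F115420)) (tt N12654 (iv F115338)) (tt N8915 F91673) (tt N12670 (iv F115427)) (tt N8894 F91674) (tt N8893 (iv D20270)) (tt N12671 D25702))
theorem Q10700 : ∀ i, i < 10700 → P i := stepQ 10699 Q10699 (allL N10699 (tt N11367 (iv F133686)) (tt N9376 F91675) (tt N11363 (iv F135075)) (tt N9232 F134382) (tt N11371 (iv F134393)) (tt N8916 F91677) (tt N10699 F91678) (tt N12671 (iv F115432)) (tt N11369 (iv F135070)) (tt N8894 (iv D20271)))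
theorem Q10701 : ∀ i, i < 10701 → P i := stepQ 10700 Q10700 (allL N10700 (tt N8895 (iv D20272)) (tt N11720 (iv F107424)) (tt N9377 F91679) (tt N11946 (iv F108711)) (tt N12606 (iv F115123)) (tt N10700 F91680) (tt N12672 D25703) (tt N12655 (iv F115348)) (tt N10700 F91681) (tt N8901 F91682))
theorem Q10702 : ∀ i, i < 10702 → P i := stepQ 10701 Q10701 (allL N10701 (tt N12672 (iv F115433)) (tt N8896 F91683) (tt N9378 F91684) (tt N11947 (iv F108717)) (tt N12607 (iv F115128)) (tt N12673 D25704) (tt N8895 (iv D20273)) (tt N12674 D25705) (tt N10701 F91685) (tt N8902 F91686))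
theorem Q10703 : ∀ i, i < 10703 → P i := stepQ 10702 Q10702 (allL N10702 (tt N11722 (iv F107435)) (tt N12673 (iv F115437)) (tt N8897 F91687) (tt N11948 (iv F108722)) (tt N12675 D25706) (tt N8896 (iv D20274)) (tt N10702 F91688) (tt N12676 D25707) (tt N12677 D25708) (tt N8903 F91689))
theorem Q10704 : ∀ i, i < 10704 → P i := stepQ 10703 Q10703 (allL N10703 (tt N11723 (iv F107440)) (tt N12674 (iv F115441)) (tt N8898 F91690) (tt N11949 (iv F108727)) (tt N12609 (iv F115134)) (tt N12676 (iv F115449)) (tt N12658 (iv F115359)) (tt N8896 (iv D20275)) (tt N10703 F91691) (tt N8904 F91692))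
theorem Q10705 : ∀ i, i < 10705 → P i := stepQ 10704 Q10704 (allL N10704 (tt N11724 (iv F107445)) (tt N9381 F91693) (tt N12675 (iv F115445)) (tt N9069 F91694) (tt N8897 (iv D20276)) (tt N12610 (iv F115139)) (tt N10704 F91695) (tt N12678 D25709) (tt N12679 D25710) (tt N8905 F91696))
theorem Q10706 : ∀ i, i < 10706 → P i := stepQ 10705 Q10705 (allL N10705 (tt N11725 (iv F107450)) (tt N9382 F91697) (tt N12676 (iv F115448)) (tt N8899 F91698) (tt N12678 (iv F115457)) (tt N8898 F91699) (tt N12680 D25711) (tt N8897 (iv D20277)) (tt N12681 D25712) (tt N8906 F91700))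
theorem Q10707 : ∀ i, i < 10707 → P i := stepQ 10706 Q10706 (allL N10706 (tt N11726 (iv F107455)) (tt N9383 F91701) (tt N12677 (iv F115451)) (tt N8900 F91702) (tt N12679 (iv F115461)) (tt N10706 F91703) (tt N10706 F91704) (tt N12681 (iv F115472)) (tt N8897 (iv D20278)) (tt N10706 F91705))
theorem Q10708 : ∀ i, i < 10708 → P i := stepQ 10707 Q10707 (allL N10707 (tt N11727 (iv F107461)) (tt N9384 F91706) (tt N11953 (iv F108748)) (tt N12680 (iv F115466)) (tt N9072 F91707) (tt N12662 (iv F115377)) (tt N8899 (iv D20279)) (tt N10707 F91708) (tt N12682 D25713) (tt N8907 F91709))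
theorem Q10709 : ∀ i, i < 10709 → P i := stepQ 10708 Q10708 (allL N10708 (tt N11728 (iv F107467)) (tt N9385 F91710) (tt N11954 (iv F108754)) (tt N12681 (iv F115470)) (tt N9073 F91711) (tt N10708 F91712) (tt N12682 (iv F115476)) (tt N8900 F91713) (tt N8899 (iv D20280)) (tt N10708 F91714))
theorem Q10710 : ∀ i, i < 10710 → P i := stepQ 10709 Q10709 (allL N10709 (tt N8902 F91715) (tt N11729 (iv F107475)) (tt N9386 F91716) (tt N12282 (iv F113548)) (tt N12616 (iv F115161)) (tt N12683 D25714) (tt N8901 (iv D20281)) (tt N12684 D25715) (tt N8917 F91717) (tt N12672 (iv F115436)))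
theorem Q10711 : ∀ i, i < 10711 → P i := stepQ 10710 Q10710 (allL N10710 (tt N12683 (iv F115479)) (tt N8903 F91718) (tt N9387 F91719) (tt N12283 (iv F113552)) (tt N12685 D25716) (tt N8902 (iv D20282)) (tt N10710 F91720) (tt N12686 D25717) (tt N10710 F91721) (tt N12673 (iv F115440)))
theorem Q10712 : ∀ i, i < 10712 → P i := stepQ 10711 Q10711 (allL N10711 (tt N12684 (iv F115483)) (tt N8904 F91722) (tt N9388 F91723) (tt N12284 (iv F113557)) (tt N12618 (iv F115167)) (tt N12686 (iv F115492)) (tt N12664 (iv F115398)) (tt N8902 (iv D20283)) (tt N8918 F91724) (tt N12674 (iv F115444)))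
theorem Q10713 : ∀ i, i < 10713 → P i := stepQ 10712 Q10712 (allL N10712 (tt N11732 (iv F107485)) (tt N12685 (iv F115486)) (tt N8905 F91725) (tt N12687 D25718) (tt N8903 (iv D20284)) (tt N12619 (iv F115170)) (tt N10712 F91726) (tt N12688 D25719) (tt N10712 F91727) (tt N12675 (iv F115447)))
theorem Q10714 : ∀ i, i < 10714 → P i := stepQ 10713 Q10713 (allL N10713 (tt N11733 (iv F107489)) (tt N12686 (iv F115490)) (tt N8906 F91728) (tt N12286 (iv F113563)) (tt N12688 (iv F115498)) (tt N8904 F91729) (tt N12689 D25720) (tt N8903 (iv D20285)) (tt N10713 F91730) (tt N12676 (iv F115450)))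
theorem Q10715 : ∀ i, i < 10715 → P i := stepQ 10714 Q10714 (allL N10714 (tt N11734 (iv F107493)) (tt N9391 F91731) (tt N12688 (iv F115497)) (tt N9077 F91732) (tt N8906 F91733) (tt N12622 (iv F115178)) (tt N12690 D25721) (tt N8905 (iv D20286)) (tt N10714 F91734) (tt N12678 (iv F115458)))
theorem Q10716 : ∀ i, i < 10716 → P i := stepQ 10715 Q10715 (allL N10715 (tt N11735 (iv F107498)) (tt N9392 F91735) (tt N12689 (iv F115500)) (tt N8907 F91736) (tt N12690 (iv F115505)) (tt N12668 (iv F115417)) (tt N8906 (iv D20287)) (tt N10715 F91737) (tt N10715 F91738) (tt N12680 (iv F115468)))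
theorem Q10717 : ∀ i, i < 10717 → P i := stepQ 10716 Q10716 (allL N10716 (tt N12232 (iv F134930)) (tt N8911 F91748) (tt N9394 F91749) (tt N12219 (iv F135579)) (tt N12629 (iv F115211)) (tt N12218 (iv F134903)) (tt N8918 F91750) (tt N8909 (iv D20290)) (tt N12664 (iv F115399)) (tt N10716 F91751))
theorem Q10718 : ∀ i, i < 10718 → P i := stepQ 10717 Q10717 (allL N10717 (tt N11384 (iv F134424)) (tt N12218 (iv F134901)) (tt N8913 F91757) (tt N11383 (iv F135370)) (tt N11560 (iv F133678)) (tt N8911 F91758) (tt N10717 F91759) (tt N8910 (iv D20292)) (tt N11430 (iv F133676)) (tt N10717 F91760))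
theorem Q10719 : ∀ i, i < 10719 → P i := stepQ 10718 Q10718 (allL N10718 (tt N11576 (iv F133706)) (tt N9396 F91766) (tt N11560 (iv F133677)) (tt N10718 F91767) (tt N8913 F91768) (tt N12632 (iv F115231)) (tt N10718 F91769) (tt N8912 (iv D20294)) (tt N9160 F134387) (tt N10718 F91771))
theorem Q10720 : ∀ i, i < 10720 → P i := stepQ 10719 Q10719 (allL N10719 (tt N11443 (iv F133695)) (tt N9397 F91772) (tt N11430 (iv F133675)) (tt N8915 F91773) (tt N9160 F134385) (tt N12669 (iv F115422)) (tt N10719 F91775) (tt N8914 F91776) (tt N8913 (iv D20295)) (tt N9159 F134386))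
theorem Q10721 : ∀ i, i < 10721 → P i := stepQ 10720 Q10720 (allL N10720 (tt N11368 (iv F133688)) (tt N9398 F91778) (tt N11364 (iv F135077)) (tt N9159 F134384) (tt N10720 F91780) (tt N12671 (iv F115431)) (tt N10720 F91781) (tt N8916 F91782) (tt N10720 F91783) (tt N8915 (iv D20296)))
theorem Q10722 : ∀ i, i < 10722 → P i := stepQ 10721 Q10721 (allL N10721 (tt N8918 F91784) (tt N11736 (iv F107552)) (tt N9399 F91785) (tt N12234 (iv F135613)) (tt N12638 (iv F115260)) (tt N10721 F91786) (tt N12232 (iv F134932)) (tt N8917 (iv D20297)) (tt N12684 (iv F115485)) (tt N10721 F91787))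
theorem Q10723 : ∀ i, i < 10723 → P i := stepQ 10722 Q10722 (allL N10722 (tt N8936 F91788) (tt N11743 (iv F107628)) (tt N12167 (iv F134838)) (tt N8919 (iv D20298)) (tt N11740 (iv F107608)) (tt N11596 (iv F106787)) (tt N12691 D25727) (tt N11422 (iv F105716)) (tt N9079 F91789) (tt N8921 F91790))
theorem Q10724 : ∀ i, i < 10724 → P i := stepQ 10723 Q10723 (allL N10723 (tt N8937 F91791) (tt N11744 (iv F107635)) (tt N9400 F91792) (tt N12691 (iv F115536)) (tt N8920 F91793) (tt N12692 D25728) (tt N8919 (iv D20299)) (tt N12693 D25729) (tt N9080 F91794) (tt N8922 F91795))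
theorem Q10725 : ∀ i, i < 10725 → P i := stepQ 10724 Q10724 (allL N10724 (tt N8938 F91796) (tt N11745 (iv F107641)) (tt N9401 F91797) (tt N11742 (iv F107622)) (tt N12693 (iv F115544)) (tt N11588 (iv F106744)) (tt N11424 (iv F105730)) (tt N8920 (iv D20300)) (tt N9081 F91798) (tt N8923 F91799))
theorem Q10726 : ∀ i, i < 10726 → P i := stepQ 10725 Q10725 (allL N10725 (tt N8940 F91803) (tt N11747 (iv F107652)) (tt N11852 (iv F134832)) (tt N8922 F91804) (tt N12289 (iv F113637)) (tt N12694 D25732) (tt N8921 (iv D20302)) (tt N12695 D25733) (tt N8927 F91805) (tt N12691 (iv F115538)))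
theorem Q10727 : ∀ i, i < 10727 → P i := stepQ 10726 Q10726 (allL N10726 (tt N8941 F91806) (tt N11748 (iv F107656)) (tt N9402 F91807) (tt N12694 (iv F115554)) (tt N12451 (iv F114474)) (tt N8922 (iv D20303)) (tt N12241 (iv F113227)) (tt N12696 D25734) (tt N11905 (iv F134720)) (tt N12692 (iv F115541)))
theorem Q10728 : ∀ i, i < 10728 → P i := stepQ 10727 Q10727 (allL N10727 (tt N8942 F91808) (tt N11749 (iv F107659)) (tt N9403 F91809) (tt N12695 (iv F115556)) (tt N8923 F91810) (tt N12696 (iv F115560)) (tt N12239 (iv F113213)) (tt N8922 (iv D20304)) (tt N8928 F91811) (tt N12693 (iv F115546)))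
theorem Q10729 : ∀ i, i < 10729 → P i := stepQ 10728 Q10728 (allL N10728 (tt N8944 F91817) (tt N11751 (iv F107670)) (tt N12165 (iv F133796)) (tt N8925 F91818) (tt N11974 (iv F109019)) (tt N12173 (iv F133802)) (tt N8924 (iv D20306)) (tt N12697 D25739) (tt N12237 (iv F113205)) (tt N9084 F91819))
theorem Q10730 : ∀ i, i < 10730 → P i := stepQ 10729 Q10729 (allL N10729 (tt N8946 F91825) (tt N11753 (iv F107681)) (tt N9404 F91826) (tt N12697 (iv F115577)) (tt N8926 F91827) (tt N11937 (iv F133670)) (tt N8928 F91828) (tt N8925 (iv D20308)) (tt N12239 (iv F113214)) (tt N9085 F91829))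
theorem Q10731 : ∀ i, i < 10731 → P i := stepQ 10730 Q10730 (allL N10730 (tt N8950 F91841) (tt N11757 (iv F107700)) (tt N11851 (iv F134830)) (tt N8928 F91842) (tt N12293 (iv F113660)) (tt N11849 (iv F134789)) (tt N12697 (iv F115578)) (tt N8927 (iv D20312)) (tt N12695 (iv F115557)) (tt N9086 F91843))
theorem Q10732 : ∀ i, i < 10732 → P i := stepQ 10731 Q10731 (allL N10731 (tt N12154 (iv F134833)) (tt N12698 D25764) (tt N8930 (iv D20324)) (tt N9186 (iv F134493)) (tt N11602 (iv F106828)) (tt N8939 F91890) (tt N12699 D25765) (tt N11387 (iv F105371)) (tt N9164 F91891) (tt N12507 (iv F114762)))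
theorem Q10733 : ∀ i, i < 10733 → P i := stepQ 10732 Q10732 (allL N10732 (tt N12240 (iv F113221)) (tt N8966 F91892) (tt N12699 (iv F115687)) (tt N8931 F91893) (tt N11603 (iv F106834)) (tt N12700 D25766) (tt N8930 (iv D20325)) (tt N12701 D25767) (tt N9165 F91894) (tt N12508 (iv F114766)))
theorem Q10734 : ∀ i, i < 10734 → P i := stepQ 10733 Q10733 (allL N10733 (tt N12241 (iv F113225)) (tt N8967 F91895) (tt N9405 F91896) (tt N12700 (iv F115691)) (tt N12463 (iv F114554)) (tt N8931 (iv D20326)) (tt N8941 F91897) (tt N12702 D25768) (tt N12703 D25769) (tt N12509 (iv F114771)))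
theorem Q10735 : ∀ i, i < 10735 → P i := stepQ 10734 Q10734 (allL N10734 (tt N12242 (iv F113228)) (tt N8968 F91898) (tt N9406 F91899) (tt N12701 (iv F115694)) (tt N8932 F91900) (tt N12702 (iv F115698)) (tt N11390 (iv F105390)) (tt N8931 (iv D20327)) (tt N9167 F91901) (tt N12510 (iv F114777)))
theorem Q10736 : ∀ i, i < 10736 → P i := stepQ 10735 Q10735 (allL N10735 (tt N12166 F134087) (tt N9195 F134101) (tt N8933 (iv D20328)) (tt N9192 F134088) (tt N11775 (iv F107836)) (tt N11387 (iv F105370)) (tt N12704 D25771) (tt N8939 F91903) (tt N8943 F91904) (tt N11433 (iv F105789)))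
theorem Q10737 : ∀ i, i < 10737 → P i := stepQ 10736 Q10736 (allL N10736 (tt N12237 (iv F113203)) (tt N8973 F91905) (tt N12704 (iv F115707)) (tt N8934 F91906) (tt N11776 (iv F107842)) (tt N12705 D25772) (tt N8933 (iv D20329)) (tt N12706 D25773) (tt N8944 F91907) (tt N11434 (iv F105794)))
theorem Q10738 : ∀ i, i < 10738 → P i := stepQ 10737 Q10737 (allL N10737 (tt N12238 (iv F113206)) (tt N8974 F91908) (tt N9407 F91909) (tt N12705 (iv F115711)) (tt N11455 (iv F105898)) (tt N8934 (iv D20330)) (tt N11389 (iv F105384)) (tt N12707 D25774) (tt N12708 D25775) (tt N11435 (iv F105799)))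
theorem Q10739 : ∀ i, i < 10739 → P i := stepQ 10738 Q10738 (allL N10738 (tt N12239 (iv F113210)) (tt N8975 F91910) (tt N9408 F91911) (tt N12706 (iv F115713)) (tt N8935 F91912) (tt N12707 (iv F115718)) (tt N8942 F91913) (tt N8934 (iv D20331)) (tt N8946 F91914) (tt N11436 (iv F105805)))
theorem Q10740 : ∀ i, i < 10740 → P i := stepQ 10739 Q10739 (allL N10739 (tt N12167 (iv F134837)) (tt N12709 D25776) (tt N8936 (iv D20332)) (tt N9193 (iv F134495)) (tt N11771 (iv F107817)) (tt N12507 (iv F114759)) (tt N12710 D25777) (tt N11433 (iv F105787)) (tt N9087 F91916) (tt N8939 F91917))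
theorem Q10741 : ∀ i, i < 10741 → P i := stepQ 10740 Q10740 (allL N10740 (tt N12691 (iv F115535)) (tt N8977 F91918) (tt N12710 (iv F115726)) (tt N8937 F91919) (tt N11772 (iv F107823)) (tt N12711 D25778) (tt N8936 (iv D20333)) (tt N12712 D25779) (tt N9088 F91920) (tt N8940 F91921))
theorem Q10742 : ∀ i, i < 10742 → P i := stepQ 10741 Q10741 (allL N10741 (tt N12692 (iv F115539)) (tt N8978 F91922) (tt N9409 F91923) (tt N12711 (iv F115731)) (tt N12471 (iv F114594)) (tt N8937 (iv D20334)) (tt N12509 (iv F114770)) (tt N12713 D25780) (tt N12714 D25781) (tt N8941 F91924))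
theorem Q10743 : ∀ i, i < 10743 → P i := stepQ 10742 Q10742 (allL N10742 (tt N12693 (iv F115542)) (tt N8979 F91925) (tt N9410 F91926) (tt N12712 (iv F115734)) (tt N8938 F91927) (tt N12713 (iv F115739)) (tt N11436 (iv F105803)) (tt N8937 (iv D20335)) (tt N9090 F91928) (tt N8942 F91929))
theorem Q10744 : ∀ i, i < 10744 → P i := stepQ 10743 Q10743 (allL N10743 (tt N12174 F134102) (tt N8939 (iv D20336)) (tt N8980 F91930) (tt N9172 F134106) (tt N12305 (iv F113725)) (tt N12698 (iv F115685)) (tt N12715 D25783) (tt N9195 F134103) (tt N8947 F91932) (tt N12709 (iv F115725)))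
theorem Q10745 : ∀ i, i < 10745 → P i := stepQ 10744 Q10744 (allL N10744 (tt N11852 (iv F134831)) (tt N12715 (iv F115747)) (tt N8940 F91933) (tt N8988 (iv F134480)) (tt N12306 (iv F113729)) (tt N12716 D25784) (tt N8939 (iv D20337)) (tt N12717 D25785) (tt N8948 F91935) (tt N12710 (iv F115729)))
theorem Q10746 : ∀ i, i < 10746 → P i := stepQ 10745 Q10745 (allL N10745 (tt N12694 (iv F115553)) (tt N8982 F91936) (tt N12716 (iv F115751)) (tt N8941 F91937) (tt N12718 D25786) (tt N8940 (iv D20338)) (tt N12700 (iv F115692)) (tt N12719 D25787) (tt N12720 D25788) (tt N12711 (iv F115732)))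
theorem Q10747 : ∀ i, i < 10747 → P i := stepQ 10746 Q10746 (allL N10746 (tt N12695 (iv F115555)) (tt N8983 F91938) (tt N12717 (iv F115753)) (tt N8942 F91939) (tt N12308 (iv F113735)) (tt N12719 (iv F115759)) (tt N12706 (iv F115714)) (tt N8940 (iv D20339)) (tt N8950 F91940) (tt N12712 (iv F115736)))
theorem Q10748 : ∀ i, i < 10748 → P i := stepQ 10747 Q10747 (allL N10747 (tt N12696 (iv F115558)) (tt N8984 F91941) (tt N9411 F91942) (tt N12719 (iv F115758)) (tt N12477 (iv F114616)) (tt N8942 F91943) (tt N12721 D25789) (tt N8941 (iv D20340)) (tt N12722 D25790) (tt N12713 (iv F115740)))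
theorem Q10749 : ∀ i, i < 10749 → P i := stepQ 10748 Q10748 (allL N10748 (tt N11905 (iv F134719)) (tt N8985 F91944) (tt N9024 (iv F134490)) (tt N12720 (iv F115761)) (tt N12478 (iv F114620)) (tt N8952 F91946) (tt N12703 (iv F115702)) (tt N12722 (iv F115768)) (tt N8941 (iv D20341)) (tt N11482 (iv F134717)))
theorem Q10750 : ∀ i, i < 10750 → P i := stepQ 10749 Q10749 (allL N10749 (tt N12165 F134086) (tt N8990 F134092) (tt N8944 F91952) (tt N9046 F134093) (tt N11993 (iv F109202)) (tt N8989 F134094) (tt N8943 (iv D20343)) (tt N12723 D25795) (tt N12704 (iv F115709)) (tt N9096 F91954))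
theorem Q10751 : ∀ i, i < 10751 → P i := stepQ 10750 Q10750 (allL N10750 (tt N12173 F134089) (tt N8948 F134095) (tt N8989 F134096) (tt N8945 F91956) (tt N12311 (iv F134687)) (tt N8944 (iv D20344)) (tt N8947 F134097) (tt N12724 D25797) (tt N12715 (iv F134745)) (tt N9097 F91958))
theorem Q10752 : ∀ i, i < 10752 → P i := stepQ 10751 Q10751 (allL N10751 (tt N12697 (iv F115576)) (tt N8986 F91959) (tt N12723 (iv F115785)) (tt N8946 F91960) (tt N11995 (iv F109210)) (tt N12724 (iv F115795)) (tt N8950 F91961) (tt N8944 (iv D20345)) (tt N12706 (iv F115715)) (tt N9098 F91962))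
theorem Q10753 : ∀ i, i < 10753 → P i := stepQ 10752 Q10752 (allL N10752 (tt N11937 F134098) (tt N8987 F91963) (tt N9049 F134099) (tt N12724 (iv F115794)) (tt N10752 F91965) (tt N8946 F91966) (tt N9047 F134100) (tt N8945 (iv D20346)) (tt N12725 D25800) (tt N9099 F91967))
theorem Q10754 : ∀ i, i < 10754 → P i := stepQ 10753 Q10753 (allL N10753 (tt N12200 F134104) (tt N8988 F91968) (tt N9219 F134105) (tt N12715 (iv F134744)) (tt N10753 F91970) (tt N12708 (iv F115721)) (tt N9172 F91971) (tt N12725 (iv F115809)) (tt N8945 (iv D20347)) (tt N12726 D25801))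
theorem Q10755 : ∀ i, i < 10755 → P i := stepQ 10754 Q10754 (allL N10754 (tt N11851 (iv F134829)) (tt N12724 (iv F134742)) (tt N8950 F91984) (tt N8987 (iv F134479)) (tt N12312 (iv F113759)) (tt N8986 (iv F134736)) (tt N12723 (iv F115787)) (tt N8948 (iv D20351)) (tt N12717 (iv F115755)) (tt N9101 F91986))
theorem Q10756 : ∀ i, i < 10756 → P i := stepQ 10755 Q10755 (allL N10755 (tt N11849 (iv F134788)) (tt N8993 F91991) (tt N8986 (iv F134735)) (tt N8951 F91992) (tt N12024 (iv F134693)) (tt N8950 F91993) (tt N8991 (iv F134689)) (tt N8949 (iv D20353)) (tt N12727 D25811) (tt N9102 F91994))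
theorem Q10757 : ∀ i, i < 10757 → P i := stepQ 10756 Q10756 (allL N10756 (tt N11829 (iv F134718)) (tt N8994 F91995) (tt N8973 (iv F134737)) (tt N8952 F91996) (tt N11834 (iv F134697)) (tt N12720 (iv F115762)) (tt N8972 F134141) (tt N12727 (iv F115852)) (tt N8949 (iv D20354)) (tt N11457 (iv F134715)))
theorem Q10758 : ∀ i, i < 10758 → P i := stepQ 10757 Q10757 (allL N10757 (tt N11906 (iv F134721)) (tt N8996 F92003) (tt N9025 (iv F134488)) (tt N12727 (iv F115851)) (tt N8953 F92005) (tt N12722 (iv F115767)) (tt N9036 (iv F134729)) (tt N8952 F92006) (tt N8951 (iv D20356)) (tt N11483 (iv F134709)))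
theorem Q10759 : ∀ i, i < 10759 → P i := stepQ 10758 Q10758 (allL N10758 (tt N11563 (iv F106605)) (tt N11599 (iv F106806)) (tt N12728 D25829) (tt N8954 (iv D20368)) (tt N8962 F92051) (tt N11552 (iv F106531)) (tt N12729 D25830) (tt N11450 (iv F105867)) (tt N10758 F92052) (tt N8956 F92053))
theorem Q10760 : ∀ i, i < 10760 → P i := stepQ 10759 Q10759 (allL N10759 (tt N11564 (iv F106612)) (tt N11600 (iv F106813)) (tt N10759 F92054) (tt N12729 (iv F115928)) (tt N8955 F92055) (tt N12730 D25831) (tt N8954 (iv D20369)) (tt N12731 D25832) (tt N10759 F92056) (tt N8957 F92057))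
theorem Q10761 : ∀ i, i < 10761 → P i := stepQ 10760 Q10760 (allL N10760 (tt N11565 (iv F106618)) (tt N11601 (iv F106819)) (tt N10760 F92058) (tt N8964 F92059) (tt N12731 (iv F115935)) (tt N11739 (iv F107602)) (tt N11452 (iv F105881)) (tt N8955 (iv D20370)) (tt N10760 F92060) (tt N8958 F92061))
theorem Q10762 : ∀ i, i < 10762 → P i := stepQ 10761 Q10761 (allL N10761 (tt N11806 (iv F107980)) (tt N12732 D25833) (tt N8956 (iv D20371)) (tt N10761 F92062) (tt N8965 F92063) (tt N12323 (iv F113830)) (tt N12733 D25834) (tt N11566 (iv F106628)) (tt N9173 F92064) (tt N12728 (iv F115927)))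
theorem Q10763 : ∀ i, i < 10763 → P i := stepQ 10762 Q10762 (allL N10762 (tt N11807 (iv F107984)) (tt N11603 (iv F106832)) (tt N12733 (iv F115941)) (tt N8957 F92065) (tt N8966 F92066) (tt N12734 D25835) (tt N8956 (iv D20372)) (tt N12735 D25836) (tt N9174 F92067) (tt N12729 (iv F115931)))
theorem Q10764 : ∀ i, i < 10764 → P i := stepQ 10763 Q10763 (allL N10763 (tt N11808 (iv F107988)) (tt N11604 (iv F106837)) (tt N10763 F92068) (tt N12734 (iv F115945)) (tt N12499 (iv F114737)) (tt N8957 (iv D20373)) (tt N12325 (iv F113836)) (tt N12736 D25837) (tt N12737 D25838) (tt N12730 (iv F115933)))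
theorem Q10765 : ∀ i, i < 10765 → P i := stepQ 10764 Q10764 (allL N10764 (tt N11809 (iv F107990)) (tt N11605 (iv F106840)) (tt N10764 F92069) (tt N12735 (iv F115946)) (tt N8958 F92070) (tt N12736 (iv F115950)) (tt N11569 (iv F106640)) (tt N8957 (iv D20374)) (tt N9176 F92071) (tt N12731 (iv F115937)))
theorem Q10766 : ∀ i, i < 10766 → P i := stepQ 10765 Q10765 (allL N10765 (tt N11810 (iv F107994)) (tt N9189 (iv F134773)) (tt N8959 (iv D20375)) (tt N9006 F92072) (tt N11566 (iv F106627)) (tt N8972 F92073) (tt N12738 D25840) (tt N8965 F92074) (tt N9171 F134142) (tt N11453 (iv F105889)))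
theorem Q10767 : ∀ i, i < 10767 → P i := stepQ 10766 Q10766 (allL N10766 (tt N11811 (iv F108000)) (tt N11388 (iv F105375)) (tt N12738 (iv F115957)) (tt N8960 F92076) (tt N11567 (iv F106632)) (tt N12739 D25841) (tt N8959 (iv D20376)) (tt N12740 D25842) (tt N9177 F92077) (tt N11454 (iv F105894)))
theorem Q10768 : ∀ i, i < 10768 → P i := stepQ 10767 Q10767 (allL N10767 (tt N11812 (iv F108004)) (tt N11389 (iv F105381)) (tt N9008 F92078) (tt N12739 (iv F115960)) (tt N11435 (iv F105797)) (tt N8960 (iv D20377)) (tt N8974 F92079) (tt N12741 D25843) (tt N12742 D25844) (tt N11455 (iv F105900)))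
theorem Q10769 : ∀ i, i < 10769 → P i := stepQ 10768 Q10768 (allL N10768 (tt N11813 (iv F108008)) (tt N11390 (iv F105387)) (tt N9009 F92080) (tt N12740 (iv F115962)) (tt N8961 F92081) (tt N12741 (iv F115966)) (tt N8968 F92082) (tt N8960 (iv D20378)) (tt N9179 F92083) (tt N11456 (iv F105907)))
theorem Q10770 : ∀ i, i < 10770 → P i := stepQ 10769 Q10769 (allL N10769 (tt N11814 (iv F108014)) (tt N12743 D25845) (tt N8962 (iv D20379)) (tt N9010 F92084) (tt N12728 (iv F115925)) (tt N8976 F92085) (tt N12744 D25846) (tt N11453 (iv F105887)) (tt N10769 F92086) (tt N8965 F92087))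
theorem Q10771 : ∀ i, i < 10771 → P i := stepQ 10770 Q10770 (allL N10770 (tt N11815 (iv F108020)) (tt N12508 (iv F114763)) (tt N12744 (iv F115974)) (tt N8963 F92088) (tt N12729 (iv F115929)) (tt N12745 D25847) (tt N8962 (iv D20380)) (tt N12746 D25848) (tt N10770 F92089) (tt N8966 F92090))
theorem Q10772 : ∀ i, i < 10772 → P i := stepQ 10771 Q10771 (allL N10771 (tt N11816 (iv F108024)) (tt N12509 (iv F114767)) (tt N9012 F92091) (tt N12745 (iv F115978)) (tt N12467 (iv F114574)) (tt N8963 (iv D20381)) (tt N8978 F92092) (tt N12747 D25849) (tt N12748 D25850) (tt N8967 F92093))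
theorem Q10773 : ∀ i, i < 10773 → P i := stepQ 10772 Q10772 (allL N10772 (tt N11817 (iv F108028)) (tt N12510 (iv F114772)) (tt N9013 F92094) (tt N12746 (iv F115981)) (tt N8964 F92095) (tt N12747 (iv F115985)) (tt N11456 (iv F105905)) (tt N8963 (iv D20382)) (tt N10772 F92096) (tt N8968 F92097))
theorem Q10774 : ∀ i, i < 10774 → P i := stepQ 10773 Q10773 (allL N10773 (tt N12161 (iv F134769)) (tt N8965 (iv D20383)) (tt N12698 (iv F115683)) (tt N9014 F92098) (tt N12732 (iv F115939)) (tt N8980 F92099) (tt N12749 D25852) (tt N9189 (iv F134774)) (tt N9180 F92100) (tt N12743 (iv F115973)))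
theorem Q10775 : ∀ i, i < 10775 → P i := stepQ 10774 Q10774 (allL N10774 (tt N11819 (iv F108037)) (tt N12749 (iv F115993)) (tt N8966 F92101) (tt N9015 F92102) (tt N12733 (iv F115943)) (tt N12750 D25853) (tt N8965 (iv D20384)) (tt N12751 D25854) (tt N9181 F92103) (tt N12744 (iv F115977)))
theorem Q10776 : ∀ i, i < 10776 → P i := stepQ 10775 Q10775 (allL N10775 (tt N11820 (iv F108041)) (tt N12700 (iv F115690)) (tt N12750 (iv F115996)) (tt N8967 F92104) (tt N12752 D25855) (tt N8966 (iv D20385)) (tt N8982 F92105) (tt N12753 D25856) (tt N12754 D25857) (tt N12745 (iv F115980)))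
theorem Q10777 : ∀ i, i < 10777 → P i := stepQ 10776 Q10776 (allL N10776 (tt N11821 (iv F108044)) (tt N12701 (iv F115693)) (tt N12751 (iv F115999)) (tt N8968 F92106) (tt N12735 (iv F115947)) (tt N12753 (iv F116004)) (tt N12740 (iv F115963)) (tt N8966 (iv D20386)) (tt N9183 F92107) (tt N12746 (iv F115983)))
theorem Q10778 : ∀ i, i < 10778 → P i := stepQ 10777 Q10777 (allL N10777 (tt N11822 (iv F108047)) (tt N12702 (iv F115696)) (tt N9018 F92108) (tt N12753 (iv F116003)) (tt N12505 (iv F114752)) (tt N8968 F92109) (tt N12755 D25858) (tt N8967 (iv D20387)) (tt N12756 D25859) (tt N12747 (iv F115986)))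
theorem Q10779 : ∀ i, i < 10779 → P i := stepQ 10778 Q10778 (allL N10778 (tt N11823 (iv F108050)) (tt N12703 (iv F115699)) (tt N9019 F92110) (tt N12754 (iv F116005)) (tt N12506 (iv F114755)) (tt N9185 F92111) (tt N8985 F92112) (tt N12756 (iv F116012)) (tt N8967 (iv D20388)) (tt N12757 D25860))
theorem Q10780 : ∀ i, i < 10780 → P i := stepQ 10779 Q10779 (allL N10779 (tt N11824 (iv F108054)) (tt N12758 D25861) (tt N8969 (iv D20389)) (tt N9020 F92113) (tt N11606 (iv F106847)) (tt N11433 (iv F105786)) (tt N12759 D25862) (tt N12507 (iv F114760)) (tt N10779 F92114) (tt N11387 (iv F105373)))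
theorem Q10781 : ∀ i, i < 10781 → P i := stepQ 10780 Q10780 (allL N10780 (tt N11825 (iv F108059)) (tt N11454 (iv F105891)) (tt N12759 (iv F116018)) (tt N8970 F92115) (tt N11607 (iv F106852)) (tt N12760 D25863) (tt N8969 (iv D20390)) (tt N12761 D25864) (tt N10780 F92116) (tt N11388 (iv F105379)))
theorem Q10782 : ∀ i, i < 10782 → P i := stepQ 10781 Q10781 (allL N10781 (tt N11826 (iv F108064)) (tt N11455 (iv F105896)) (tt N9022 F92117) (tt N12760 (iv F116021)) (tt N8974 F92118) (tt N8970 (iv D20391)) (tt N11435 (iv F105798)) (tt N12762 D25865) (tt N12763 D25866) (tt N11389 (iv F105385)))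
theorem Q10783 : ∀ i, i < 10783 → P i := stepQ 10782 Q10782 (allL N10782 (tt N11827 (iv F108068)) (tt N11456 (iv F105902)) (tt N9023 F92119) (tt N12761 (iv F116022)) (tt N8971 F92120) (tt N12762 (iv F116026)) (tt N12510 (iv F114775)) (tt N8970 (iv D20392)) (tt N10782 F92121) (tt N11390 (iv F105392)))
theorem Q10784 : ∀ i, i < 10784 → P i := stepQ 10783 Q10783 (allL N10783 (tt N11830 (iv F108084)) (tt N12705 (iv F115710)) (tt N12720 (iv F134794)) (tt N8974 F92128) (tt N12764 D25871) (tt N8973 (iv D20395)) (tt N12739 (iv F115961)) (tt N12765 D25872) (tt N12716 (iv F134865)) (tt N11458 (iv F105921)))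
theorem Q10785 : ∀ i, i < 10785 → P i := stepQ 10784 Q10784 (allL N10784 (tt N11831 (iv F108087)) (tt N12706 (iv F115712)) (tt N12727 (iv F134792)) (tt N8975 F92129) (tt N11836 (iv F108116)) (tt N12765 (iv F116043)) (tt N8983 F92130) (tt N8973 (iv D20396)) (tt N8986 F92131) (tt N11459 (iv F105927)))
theorem Q10786 : ∀ i, i < 10786 → P i := stepQ 10785 Q10785 (allL N10785 (tt N11832 (iv F108093)) (tt N12707 (iv F115716)) (tt N9026 F92132) (tt N12765 (iv F116042)) (tt N12762 (iv F116025)) (tt N8975 F92133) (tt N12766 D25874) (tt N8974 (iv D20397)) (tt N12767 D25875) (tt N11460 (iv F105931)))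
theorem Q10787 : ∀ i, i < 10787 → P i := stepQ 10786 Q10786 (allL N10786 (tt N11833 (iv F108097)) (tt N12708 (iv F115719)) (tt N9027 F92134) (tt N12716 F135161) (tt N12763 (iv F116028)) (tt N8988 F92135) (tt N12742 (iv F115969)) (tt N12767 (iv F116050)) (tt N8974 (iv D20398)) (tt N12768 D25876))
theorem Q10788 : ∀ i, i < 10788 → P i := stepQ 10787 Q10787 (allL N10787 (tt N12131 (iv F133773)) (tt N8976 (iv D20399)) (tt N12709 (iv F115722)) (tt N9028 F92136) (tt N11828 (iv F108074)) (tt N12743 (iv F115971)) (tt N12769 D25878) (tt N9197 F134107) (tt N9103 F92137) (tt N8980 F92138))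
theorem Q10789 : ∀ i, i < 10789 → P i := stepQ 10788 Q10788 (allL N10788 (tt N11834 (iv F108105)) (tt N12769 (iv F116056)) (tt N8977 F92139) (tt N9029 F92140) (tt N11829 (iv F108081)) (tt N12770 D25879) (tt N8976 (iv D20400)) (tt N12771 D25880) (tt N9104 F92141) (tt N8981 F92142))
theorem Q10790 : ∀ i, i < 10790 → P i := stepQ 10789 Q10789 (allL N10789 (tt N11835 (iv F108111)) (tt N12711 (iv F115730)) (tt N12770 (iv F116060)) (tt N8978 F92143) (tt N12772 D25881) (tt N8977 (iv D20401)) (tt N12745 (iv F115979)) (tt N12773 D25882) (tt N12774 D25883) (tt N8982 F92144))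
theorem Q10791 : ∀ i, i < 10791 → P i := stepQ 10790 Q10790 (allL N10790 (tt N11836 (iv F108114)) (tt N12712 (iv F115733)) (tt N12771 (iv F116063)) (tt N8979 F92145) (tt N11831 (iv F108089)) (tt N12773 (iv F116069)) (tt N11459 (iv F105925)) (tt N8977 (iv D20402)) (tt N9106 F92146) (tt N8983 F92147))
theorem Q10792 : ∀ i, i < 10792 → P i := stepQ 10791 Q10791 (allL N10791 (tt N11837 (iv F108120)) (tt N12713 (iv F115737)) (tt N9032 F92148) (tt N12773 (iv F116068)) (tt N12521 (iv F114805)) (tt N8979 F92149) (tt N12775 D25884) (tt N8978 (iv D20403)) (tt N12776 D25885) (tt N8984 F92150))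
theorem Q10793 : ∀ i, i < 10793 → P i := stepQ 10792 Q10792 (allL N10792 (tt N11838 (iv F108124)) (tt N12714 (iv F115741)) (tt N9033 F92151) (tt N12774 (iv F116071)) (tt N12522 (iv F114809)) (tt N9108 F92152) (tt N12748 (iv F115989)) (tt N12776 (iv F116077)) (tt N8978 (iv D20404)) (tt N12777 D25886))
theorem Q10794 : ∀ i, i < 10794 → P i := stepQ 10793 Q10793 (allL N10793 (tt N12177 (iv F134768)) (tt N8981 F92155) (tt N12715 (iv F115748)) (tt N9034 F92156) (tt N12333 (iv F113860)) (tt N12778 D25888) (tt N8980 (iv D20406)) (tt N12779 D25889) (tt N8989 F92157) (tt N12769 (iv F116059)))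
theorem Q10795 : ∀ i, i < 10795 → P i := stepQ 10794 Q10794 (allL N10794 (tt N11841 (iv F108133)) (tt N12778 (iv F116084)) (tt N8982 F92158) (tt N9035 F92159) (tt N12780 D25890) (tt N8981 (iv D20407)) (tt N12750 (iv F115998)) (tt N12781 D25891) (tt N12782 D25892) (tt N12770 (iv F116062)))
theorem Q10796 : ∀ i, i < 10796 → P i := stepQ 10795 Q10795 (allL N10795 (tt N11842 (iv F108136)) (tt N12779 (iv F116086)) (tt N8983 F92160) (tt N9036 F92161) (tt N12335 (iv F113866)) (tt N12781 (iv F116092)) (tt N12727 (iv F134793)) (tt N8981 (iv D20408)) (tt N8991 F92162) (tt N12771 (iv F116066)))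
theorem Q10797 : ∀ i, i < 10797 → P i := stepQ 10796 Q10796 (allL N10796 (tt N11843 (iv F108140)) (tt N12718 (iv F115756)) (tt N12780 (iv F116089)) (tt N12527 (iv F114821)) (tt N8982 (iv D20409)) (tt N12336 (iv F113868)) (tt N12752 (iv F116002)) (tt N12783 D25893) (tt N12784 D25894) (tt N12772 (iv F116067)))
theorem Q10798 : ∀ i, i < 10798 → P i := stepQ 10797 Q10797 (allL N10797 (tt N11844 (iv F108141)) (tt N12719 (iv F115757)) (tt N12781 (iv F116090)) (tt N8984 F92163) (tt N12783 (iv F116096)) (tt N8983 F92164) (tt N12785 D25895) (tt N8982 (iv D20410)) (tt N12786 D25896) (tt N12773 (iv F116070)))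
theorem Q10799 : ∀ i, i < 10799 → P i := stepQ 10798 Q10798 (allL N10798 (tt N11845 (iv F108144)) (tt N12720 (iv F115760)) (tt N12782 (iv F116093)) (tt N8985 F92165) (tt N12784 (iv F116097)) (tt N8994 F92166) (tt N12754 (iv F116007)) (tt N12786 (iv F116101)) (tt N8982 (iv D20411)) (tt N12787 D25897))
theorem Q10800 : ∀ i, i < 10800 → P i := stepQ 10799 Q10799 (allL N10799 (tt N11846 (iv F108147)) (tt N12721 (iv F115763)) (tt N9040 F92167) (tt N12785 (iv F116098)) (tt N12530 (iv F114827)) (tt N12766 (iv F116047)) (tt N8984 (iv D20412)) (tt N12755 (iv F116009)) (tt N12788 D25898) (tt N12775 (iv F116074)))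
theorem Q10801 : ∀ i, i < 10801 → P i := stepQ 10800 Q10800 (allL N10800 (tt N11847 (iv F108149)) (tt N12722 (iv F115765)) (tt N9041 F92168) (tt N12786 (iv F116099)) (tt N12531 (iv F114829)) (tt N8996 F92169) (tt N12788 (iv F116105)) (tt N8985 F92170) (tt N8984 (iv D20413)) (tt N12789 D25899))
theorem Q10802 : ∀ i, i < 10802 → P i := stepQ 10801 Q10801 (allL N10801 (tt N11848 (iv F108153)) (tt N11482 (iv F134716)) (tt N9042 F92171) (tt N12787 (iv F116102)) (tt N12532 (iv F114833)) (tt N8997 F92172) (tt N12757 (iv F116015)) (tt N12789 (iv F116108)) (tt N12777 (iv F116080)) (tt N8985 (iv D20414)))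
theorem Q10803 : ∀ i, i < 10803 → P i := stepQ 10802 Q10802 (allL N10802 (tt N11853 (iv F108189)) (tt N9047 F134111) (tt N9043 F92196) (tt N12723 (iv F134733)) (tt N10802 F92197) (tt N8995 F92198) (tt N8987 (iv D20422)) (tt N9046 F134112) (tt N12790 D25911) (tt N9118 F92200))
theorem Q10804 : ∀ i, i < 10804 → P i := stepQ 10803 Q10803 (allL N10803 (tt N11854 (iv F108195)) (tt N12725 (iv F115806)) (tt N9044 F92201) (tt N12717 F135160) (tt N10803 F92202) (tt N12767 (iv F116049)) (tt N12790 (iv F116147)) (tt N8988 F92203) (tt N8987 (iv D20423)) (tt N12791 D25912))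
theorem Q10805 : ∀ i, i < 10805 → P i := stepQ 10804 Q10804 (allL N10804 (tt N11855 (iv F108199)) (tt N12726 (iv F115810)) (tt N9045 F92204) (tt N12710 F135162) (tt N10804 F92205) (tt N12768 (iv F116052)) (tt N9193 F92206) (tt N12791 (iv F116151)) (tt N9120 F92207) (tt N8988 (iv D20424)))
theorem Q10806 : ∀ i, i < 10806 → P i := stepQ 10805 Q10805 (allL N10805 (tt N11864 (iv F134767)) (tt N8991 F92215) (tt N12724 (iv F134743)) (tt N8995 F134117) (tt N12343 (iv F113889)) (tt N12723 (iv F134739)) (tt N8993 (iv F134770)) (tt N8989 (iv D20427)) (tt N12779 (iv F116088)) (tt N9121 F92217))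
theorem Q10807 : ∀ i, i < 10807 → P i := stepQ 10806 Q10806 (allL N10806 (tt N11859 (iv F108215)) (tt N11993 (iv F133580)) (tt N8992 F92218) (tt N10806 F92219) (tt N8990 (iv D20428)) (tt N12344 (iv F113893)) (tt N9194 F92220) (tt N12792 D25918) (tt N12793 D25919) (tt N9122 F92221))
theorem Q10808 : ∀ i, i < 10808 → P i := stepQ 10807 Q10807 (allL N10807 (tt N11860 (iv F108220)) (tt N12723 (iv F134738)) (tt N8993 F92222) (tt N9047 F92223) (tt N12792 (iv F116173)) (tt N8991 F92224) (tt N12724 (iv F134734)) (tt N8990 (iv D20429)) (tt N12794 D25921) (tt N9123 F92225))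
theorem Q10809 : ∀ i, i < 10809 → P i := stepQ 10808 Q10808 (allL N10808 (tt N11861 (iv F108225)) (tt N12704 (iv F134740)) (tt N8994 F92226) (tt N9048 F92227) (tt N12793 (iv F116177)) (tt N12782 (iv F116095)) (tt N9195 F92228) (tt N12794 (iv F116185)) (tt N8990 (iv D20430)) (tt N12795 D25922))
theorem Q10810 : ∀ i, i < 10810 → P i := stepQ 10809 Q10809 (allL N10809 (tt N11862 (iv F108229)) (tt N12024 (iv F134692)) (tt N12792 (iv F116171)) (tt N8998 F92229) (tt N8993 F92230) (tt N12347 (iv F113905)) (tt N12343 (iv F134688)) (tt N8992 (iv D20431)) (tt N12796 D25924) (tt N9125 F92231))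
theorem Q10811 : ∀ i, i < 10811 → P i := stepQ 10810 Q10810 (allL N10810 (tt N11863 (iv F108233)) (tt N11834 (iv F134696)) (tt N12793 (iv F116175)) (tt N8999 F92232) (tt N8994 F92233) (tt N12797 D25925) (tt N9196 F92234) (tt N12796 (iv F116196)) (tt N8992 (iv D20432)) (tt N11840 (iv F134962)))
theorem Q10812 : ∀ i, i < 10812 → P i := stepQ 10811 Q10811 (allL N10811 (tt N11865 (iv F108241)) (tt N12727 (iv F115850)) (tt N12794 (iv F116183)) (tt N8996 F92238) (tt N12796 (iv F116195)) (tt N12786 (iv F116100)) (tt N12779 (iv F134772)) (tt N8994 F92239) (tt N8993 (iv D20434)) (tt N12798 D25928))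
theorem Q10813 : ∀ i, i < 10813 → P i := stepQ 10812 Q10812 (allL N10812 (tt N11866 (iv F108244)) (tt N11457 (iv F134714)) (tt N12795 (iv F116186)) (tt N8997 F92240) (tt N11840 (iv F134961)) (tt N12787 (iv F116103)) (tt N9197 F92241) (tt N12798 (iv F116206)) (tt N9127 F92242) (tt N8994 (iv D20435)))
theorem Q10814 : ∀ i, i < 10814 → P i := stepQ 10813 Q10813 (allL N10813 (tt N11867 (iv F108248)) (tt N9036 (iv F134728)) (tt N9052 F92243) (tt N12779 (iv F134771)) (tt N9001 F92244) (tt N12799 D25929) (tt N8996 F92245) (tt N9034 F134127) (tt N8995 (iv D20436)) (tt N12800 D25930))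
theorem Q10815 : ∀ i, i < 10815 → P i := stepQ 10814 Q10814 (allL N10814 (tt N11868 (iv F108253)) (tt N11483 (iv F134708)) (tt N9053 F92247) (tt N12798 (iv F116205)) (tt N9002 F92248) (tt N12789 (iv F116107)) (tt N12800 (iv F116212)) (tt N8997 F92249) (tt N9129 F92250) (tt N8996 (iv D20437)))
theorem Q10816 : ∀ i, i < 10816 → P i := stepQ 10815 Q10815 (allL N10815 (tt N11870 (iv F108263)) (tt N11913 (iv F134712)) (tt N10815 F92255) (tt N12796 (iv F116194)) (tt N9000 F92256) (tt N12801 D25933) (tt N12372 (iv F134705)) (tt N8999 F92257) (tt N8998 (iv D20439)) (tt N11921 (iv F135018)))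
theorem Q10817 : ∀ i, i < 10817 → P i := stepQ 10816 Q10816 (allL N10816 (tt N11871 (iv F108267)) (tt N11912 (iv F134809)) (tt N10816 F92258) (tt N12797 (iv F116197)) (tt N12558 (iv F114921)) (tt N8999 (iv D20440)) (tt N12802 D25935) (tt N12801 (iv F116224)) (tt N12356 (iv F113934)) (tt N11920 (iv F135017)))
theorem Q10818 : ∀ i, i < 10818 → P i := stepQ 10817 Q10817 (allL N10817 (tt N11873 (iv F108284)) (tt N9076 (iv F134727)) (tt N9054 F92271) (tt N12395 (iv F134722)) (tt N12803 D25939) (tt N9001 (iv D20444)) (tt N12560 (iv F114936)) (tt N9074 F134145) (tt N10817 F92273) (tt N12804 D25940))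
theorem Q10819 : ∀ i, i < 10819 → P i := stepQ 10818 Q10818 (allL N10818 (tt N11803 (iv F133723)) (tt N9068 (iv F134147)) (tt N9055 F92274) (tt N11760 (iv F133679)) (tt N12800 (iv F116211)) (tt N12804 (iv F116246)) (tt N9002 F92275) (tt N9066 F134146) (tt N9130 F92277) (tt N9001 (iv D20445)))
theorem Q10820 : ∀ i, i < 10820 → P i := stepQ 10819 Q10819 (allL N10819 (tt N11874 (iv F108293)) (tt N9218 F134325) (tt N9003 (iv D20446)) (tt N11433 (iv F105784)) (tt N10819 F92278) (tt N9020 F92279) (tt N12805 D25942) (tt N9193 (iv F134496)) (tt N9226 F134323) (tt N9192 F134324))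
theorem Q10821 : ∀ i, i < 10821 → P i := stepQ 10820 Q10820 (allL N10820 (tt N11875 (iv F108299)) (tt N9423 F92283) (tt N12805 (iv F116254)) (tt N9004 F92284) (tt N10820 F92285) (tt N12806 D25943) (tt N9003 (iv D20447)) (tt N12807 D25944) (tt N9229 F134358) (tt N9217 F134359))
theorem Q10822 : ∀ i, i < 10822 → P i := stepQ 10821 Q10821 (allL N10821 (tt N11876 (iv F108305)) (tt N9424 F92288) (tt N11435 (iv F105796)) (tt N12806 (iv F116259)) (tt N9008 F92289) (tt N9004 (iv D20448)) (tt N9022 F92290) (tt N12808 D25945) (tt N12809 D25946) (tt N9407 F92291))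
theorem Q10823 : ∀ i, i < 10823 → P i := stepQ 10822 Q10822 (allL N10822 (tt N11877 (iv F108310)) (tt N9425 F92292) (tt N11436 (iv F105801)) (tt N12807 (iv F116263)) (tt N9005 F92293) (tt N12808 (iv F116270)) (tt N9410 F92294) (tt N9004 (iv D20449)) (tt N9506 F92295) (tt N9408 F92296))
theorem Q10824 : ∀ i, i < 10824 → P i := stepQ 10823 Q10823 (allL N10823 (tt N11879 (iv F108322)) (tt N9185 (iv F134783)) (tt N9007 F92302) (tt N12738 (iv F115958)) (tt N10823 F92303) (tt N12703 (iv F134798)) (tt N9006 (iv D20451)) (tt N12810 D25950) (tt N9166 F134143) (tt N11477 (iv F106025)))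
theorem Q10825 : ∀ i, i < 10825 → P i := stepQ 10824 Q10824 (allL N10824 (tt N11880 (iv F108327)) (tt N9419 F135180) (tt N12703 F135181) (tt N9008 F92306) (tt N12595 (iv F135430)) (tt N9007 (iv D20452)) (tt N9024 F92307) (tt N12811 D25952) (tt N9405 F135182) (tt N11478 (iv F106030)))
theorem Q10826 : ∀ i, i < 10826 → P i := stepQ 10825 Q10825 (allL N10825 (tt N11881 (iv F108332)) (tt N9442 F92308) (tt N12810 (iv F116287)) (tt N9009 F92309) (tt N10825 F92310) (tt N12811 (iv F116296)) (tt N9017 F92311) (tt N9007 (iv D20453)) (tt N9200 F92312) (tt N11479 (iv F106037)))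
theorem Q10827 : ∀ i, i < 10827 → P i := stepQ 10826 Q10826 (allL N10826 (tt N11882 (iv F108339)) (tt N9443 F92313) (tt N12741 (iv F115965)) (tt N12811 (iv F116295)) (tt N12808 (iv F116269)) (tt N9009 F92314) (tt N12812 D25954) (tt N9008 (iv D20454)) (tt N12813 D25955) (tt N11480 (iv F106042)))
theorem Q10828 : ∀ i, i < 10828 → P i := stepQ 10827 Q10827 (allL N10827 (tt N11883 (iv F108343)) (tt N9416 F135169) (tt N12742 (iv F115967)) (tt N9405 F135170) (tt N12809 (iv F116273)) (tt N9202 F92316) (tt N9027 F92317) (tt N12813 (iv F116306)) (tt N9008 (iv D20455)) (tt N12586 (iv F135420)))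
theorem Q10829 : ∀ i, i < 10829 → P i := stepQ 10828 Q10828 (allL N10828 (tt N12133 (iv F133807)) (tt N9010 (iv D20456)) (tt N9216 (iv F134529)) (tt N12743 (iv F115970)) (tt N10828 F92319) (tt N9028 F92320) (tt N12814 D25958) (tt N9191 F134108) (tt N10828 F92321) (tt N9014 F92322))
theorem Q10830 : ∀ i, i < 10830 → P i := stepQ 10829 Q10829 (allL N10829 (tt N11884 (iv F108353)) (tt N12814 (iv F116315)) (tt N9011 F92323) (tt N12744 (iv F115975)) (tt N10829 F92324) (tt N12815 D25959) (tt N9010 (iv D20457)) (tt N12816 D25960) (tt N10829 F92325) (tt N9015 F92326))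
theorem Q10831 : ∀ i, i < 10831 → P i := stepQ 10830 Q10830 (allL N10830 (tt N11885 (iv F108358)) (tt N9445 F92327) (tt N12815 (iv F116320)) (tt N9012 F92328) (tt N12817 D25961) (tt N9011 (iv D20458)) (tt N9030 F92329) (tt N12818 D25962) (tt N12819 D25963) (tt N9016 F92330))
theorem Q10832 : ∀ i, i < 10832 → P i := stepQ 10831 Q10831 (allL N10831 (tt N11886 (iv F108363)) (tt N9446 F92331) (tt N12816 (iv F116323)) (tt N9013 F92332) (tt N10831 F92333) (tt N12818 (iv F116333)) (tt N11479 (iv F106035)) (tt N9011 (iv D20459)) (tt N10831 F92334) (tt N9017 F92335))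
theorem Q10833 : ∀ i, i < 10833 → P i := stepQ 10832 Q10832 (allL N10832 (tt N11887 (iv F108370)) (tt N9447 F92336) (tt N12747 (iv F115984)) (tt N12818 (iv F116332)) (tt N12572 (iv F114992)) (tt N9013 F92337) (tt N12820 D25964) (tt N9012 (iv D20460)) (tt N12821 D25965) (tt N9018 F92338))
theorem Q10834 : ∀ i, i < 10834 → P i := stepQ 10833 Q10833 (allL N10833 (tt N11888 (iv F108374)) (tt N9448 F92339) (tt N12748 (iv F115987)) (tt N12819 (iv F116336)) (tt N12573 (iv F114996)) (tt N10833 F92340) (tt N9033 F92341) (tt N12821 (iv F116344)) (tt N9012 (iv D20461)) (tt N12822 D25966))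
theorem Q10835 : ∀ i, i < 10835 → P i := stepQ 10834 Q10834 (allL N10834 (tt N12163 F134123) (tt N9015 F92346) (tt N9215 (iv F134357)) (tt N12749 (iv F115994)) (tt N10834 F92348) (tt N12823 D25968) (tt N9014 (iv D20463)) (tt N12824 D25969) (tt N9190 F134124) (tt N12814 (iv F116319)))
theorem Q10836 : ∀ i, i < 10836 → P i := stepQ 10835 Q10835 (allL N10835 (tt N11891 (iv F108387)) (tt N12823 (iv F116353)) (tt N9016 F92350) (tt N12750 (iv F115997)) (tt N12825 D25970) (tt N9015 (iv D20464)) (tt N9035 F92351) (tt N12826 D25971) (tt N12827 D25972) (tt N12815 (iv F116322)))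
theorem Q10837 : ∀ i, i < 10837 → P i := stepQ 10836 Q10836 (allL N10836 (tt N11892 (iv F108390)) (tt N12824 (iv F116356)) (tt N9017 F92352) (tt N12751 (iv F116000)) (tt N10836 F92353) (tt N12826 (iv F116364)) (tt N12810 (iv F116289)) (tt N9015 (iv D20465)) (tt N9204 F92354) (tt N12816 (iv F116326)))
theorem Q10838 : ∀ i, i < 10838 → P i := stepQ 10837 Q10837 (allL N10837 (tt N11893 (iv F108394)) (tt N9451 F92355) (tt N12825 (iv F116360)) (tt N12578 (iv F115013)) (tt N9016 (iv D20466)) (tt N10837 F92356) (tt N9037 F92357) (tt N12828 D25973) (tt N12829 D25974) (tt N12817 (iv F116330)))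
theorem Q10839 : ∀ i, i < 10839 → P i := stepQ 10838 Q10838 (allL N10838 (tt N11894 (iv F108398)) (tt N9452 F92358) (tt N12826 (iv F116363)) (tt N9018 F92359) (tt N12828 (iv F116369)) (tt N9017 F92360) (tt N12830 D25975) (tt N9016 (iv D20467)) (tt N12831 D25976) (tt N12818 (iv F116334)))
theorem Q10840 : ∀ i, i < 10840 → P i := stepQ 10839 Q10839 (allL N10839 (tt N11895 (iv F108402)) (tt N9453 F92361) (tt N12827 (iv F116365)) (tt N9019 F92362) (tt N12829 (iv F116372)) (tt N9207 F92363) (tt N9039 F92364) (tt N12831 (iv F116380)) (tt N9016 (iv D20468)) (tt N12832 D25977))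
theorem Q10841 : ∀ i, i < 10841 → P i := stepQ 10840 Q10840 (allL N10840 (tt N11896 (iv F108407)) (tt N9454 F92365) (tt N12755 (iv F116008)) (tt N12830 (iv F116375)) (tt N12581 (iv F115024)) (tt N12812 (iv F116302)) (tt N9018 (iv D20469)) (tt N9040 F92366) (tt N12833 D25978) (tt N12820 (iv F116341)))
theorem Q10842 : ∀ i, i < 10842 → P i := stepQ 10841 Q10841 (allL N10841 (tt N11897 (iv F108410)) (tt N9455 F92367) (tt N12756 (iv F116010)) (tt N12831 (iv F116378)) (tt N12582 (iv F115027)) (tt N9209 F92368) (tt N12833 (iv F116386)) (tt N9019 F92369) (tt N9018 (iv D20470)) (tt N12834 D25979))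
theorem Q10843 : ∀ i, i < 10843 → P i := stepQ 10842 Q10842 (allL N10842 (tt N11898 (iv F108414)) (tt N9456 F92370) (tt N12757 (iv F116013)) (tt N12832 (iv F116382)) (tt N12583 (iv F115031)) (tt N9210 F92371) (tt N9042 F92372) (tt N12834 (iv F116390)) (tt N12822 (iv F116348)) (tt N9019 (iv D20471)))
theorem Q10844 : ∀ i, i < 10844 → P i := stepQ 10843 Q10843 (allL N10843 (tt N12194 F134363) (tt N9020 (iv D20472)) (tt N9214 F134364) (tt N12758 (iv F116016)) (tt N9056 F92374) (tt N9218 F134365) (tt N12835 D25981) (tt N12584 (iv F115037)) (tt N10843 F92375) (tt N9211 F134366))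
theorem Q10845 : ∀ i, i < 10845 → P i := stepQ 10844 Q10844 (allL N10844 (tt N11900 (iv F108422)) (tt N12835 (iv F116394)) (tt N9021 F92376) (tt N12759 (iv F116019)) (tt N9057 F92377) (tt N12836 D25982) (tt N9020 (iv D20473)) (tt N12837 D25983) (tt N10844 F92378) (tt N11402 (iv F105461)))
theorem Q10846 : ∀ i, i < 10846 → P i := stepQ 10845 Q10845 (allL N10845 (tt N11901 (iv F108427)) (tt N9458 F92379) (tt N12836 (iv F116398)) (tt N9022 F92380) (tt N12838 D25984) (tt N9021 (iv D20474)) (tt N12806 (iv F116260)) (tt N12839 D25985) (tt N12840 D25986) (tt N11403 (iv F105466)))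
theorem Q10847 : ∀ i, i < 10847 → P i := stepQ 10846 Q10846 (allL N10846 (tt N11902 (iv F108431)) (tt N9459 F92381) (tt N12837 (iv F116399)) (tt N9023 F92382) (tt N9059 F92383) (tt N12839 (iv F116407)) (tt N12587 (iv F115051)) (tt N9021 (iv D20475)) (tt N10846 F92384) (tt N11404 (iv F105473)))
theorem Q10848 : ∀ i, i < 10848 → P i := stepQ 10847 Q10847 (allL N10847 (tt N11903 (iv F108437)) (tt N9460 F92385) (tt N12762 (iv F116024)) (tt N12839 (iv F116406)) (tt N9026 F92386) (tt N9023 F92387) (tt N12841 D25987) (tt N9022 (iv D20476)) (tt N12842 D25988) (tt N11405 (iv F105478)))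
theorem Q10849 : ∀ i, i < 10849 → P i := stepQ 10848 Q10848 (allL N10848 (tt N11904 (iv F108442)) (tt N9436 F135168) (tt N12763 (iv F116027)) (tt N12840 (iv F116409)) (tt N9027 F92389) (tt N10848 F92390) (tt N12809 (iv F116275)) (tt N12842 (iv F116416)) (tt N9022 (iv D20477)) (tt N12843 D25989))
theorem Q10850 : ∀ i, i < 10850 → P i := stepQ 10849 Q10849 (allL N10849 (tt N11907 (iv F108466)) (tt N9276 F135177) (tt N12478 F135178) (tt N12838 (iv F116403)) (tt N9024 (iv D20482)) (tt N9062 F92405) (tt N12595 (iv F135431)) (tt N12844 D25996) (tt N9247 F135179) (tt N11484 (iv F106071)))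
theorem Q10851 : ∀ i, i < 10851 → P i := stepQ 10850 Q10850 (allL N10850 (tt N11908 (iv F108470)) (tt N9439 F135173) (tt N12722 F135174) (tt N9026 F92407) (tt N12844 (iv F116438)) (tt N9025 F92408) (tt N12845 D25998) (tt N9024 (iv D20483)) (tt N9411 F135175) (tt N11485 (iv F106076)))
theorem Q10852 : ∀ i, i < 10852 → P i := stepQ 10851 Q10851 (allL N10851 (tt N11909 (iv F108479)) (tt N9463 F92412) (tt N12766 (iv F116046)) (tt N12845 (iv F116443)) (tt N12841 (iv F116412)) (tt N9040 F92413) (tt N9026 (iv D20485)) (tt N12812 (iv F116303)) (tt N12846 D26001) (tt N11487 (iv F106084)))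
theorem Q10853 : ∀ i, i < 10853 → P i := stepQ 10852 Q10852 (allL N10852 (tt N11910 (iv F108483)) (tt N9437 F135163) (tt N12767 (iv F116048)) (tt N9411 F135164) (tt N12842 (iv F116414)) (tt N9044 F92415) (tt N12846 (iv F116453)) (tt N9027 F92416) (tt N9026 (iv D20486)) (tt N12847 D26002))
theorem Q10854 : ∀ i, i < 10854 → P i := stepQ 10853 Q10853 (allL N10853 (tt N11911 (iv F108487)) (tt N9431 F135171) (tt N12768 (iv F116051)) (tt N9409 F135172) (tt N12843 (iv F116418)) (tt N9045 F92418) (tt N12586 (iv F135419)) (tt N12847 (iv F116456)) (tt N11489 (iv F106092)) (tt N9027 (iv D20487)))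
theorem Q10855 : ∀ i, i < 10855 → P i := stepQ 10854 Q10854 (allL N10854 (tt N11802 (iv F133719)) (tt N9029 F92423) (tt N9222 (iv F134538)) (tt N12769 (iv F116057)) (tt N9066 F92425) (tt N12848 D26004) (tt N9028 (iv D20489)) (tt N12800 (iv F134758)) (tt N9131 F92426) (tt N9034 F92427))
theorem Q10856 : ∀ i, i < 10856 → P i := stepQ 10855 Q10855 (allL N10855 (tt N11912 (iv F108502)) (tt N12848 (iv F116462)) (tt N9030 F92428) (tt N12770 (iv F116061)) (tt N12849 D26006) (tt N9029 (iv D20490)) (tt N12815 (iv F116321)) (tt N12850 D26007) (tt N12851 D26008) (tt N9035 F92429))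
theorem Q10857 : ∀ i, i < 10857 → P i := stepQ 10856 Q10856 (allL N10856 (tt N11913 (iv F108505)) (tt N12800 (iv F134757)) (tt N9031 F92430) (tt N12771 (iv F116064)) (tt N9068 F92431) (tt N12850 (iv F116474)) (tt N11483 (iv F106065)) (tt N9029 (iv D20491)) (tt N9133 F92432) (tt N9036 F92433))
theorem Q10858 : ∀ i, i < 10858 → P i := stepQ 10857 Q10857 (allL N10857 (tt N11914 (iv F108511)) (tt N9466 F92434) (tt N12849 (iv F116470)) (tt N12610 (iv F115138)) (tt N9030 (iv D20492)) (tt N9069 F92435) (tt N12817 (iv F116329)) (tt N12852 D26009) (tt N12853 D26010) (tt N9037 F92436))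
theorem Q10859 : ∀ i, i < 10859 → P i := stepQ 10858 Q10858 (allL N10858 (tt N11915 (iv F108515)) (tt N9467 F92437) (tt N12850 (iv F116473)) (tt N9032 F92438) (tt N12852 (iv F116479)) (tt N9031 F92439) (tt N12854 D26011) (tt N9030 (iv D20493)) (tt N12855 D26012) (tt N9038 F92440))
theorem Q10860 : ∀ i, i < 10860 → P i := stepQ 10859 Q10859 (allL N10859 (tt N11916 (iv F108520)) (tt N9468 F92441) (tt N12851 (iv F116476)) (tt N9033 F92442) (tt N12853 (iv F116483)) (tt N9136 F92443) (tt N12819 (iv F116338)) (tt N12855 (iv F116491)) (tt N9030 (iv D20494)) (tt N12856 D26013))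
theorem Q10861 : ∀ i, i < 10861 → P i := stepQ 10860 Q10860 (allL N10860 (tt N11917 (iv F108524)) (tt N9469 F92444) (tt N12775 (iv F116073)) (tt N12854 (iv F116486)) (tt N12613 (iv F115149)) (tt N11487 (iv F106083)) (tt N9032 (iv D20495)) (tt N12820 (iv F116340)) (tt N12857 D26014) (tt N9040 F92445))
theorem Q10862 : ∀ i, i < 10862 → P i := stepQ 10861 Q10861 (allL N10861 (tt N11918 (iv F108528)) (tt N9470 F92446) (tt N12776 (iv F116075)) (tt N12855 (iv F116489)) (tt N12614 (iv F115152)) (tt N9138 F92447) (tt N12857 (iv F116497)) (tt N9033 F92448) (tt N9032 (iv D20496)) (tt N12858 D26015))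
theorem Q10863 : ∀ i, i < 10863 → P i := stepQ 10862 Q10862 (allL N10862 (tt N11919 (iv F108532)) (tt N9471 F92449) (tt N12777 (iv F116078)) (tt N12856 (iv F116493)) (tt N12615 (iv F115156)) (tt N9139 F92450) (tt N12822 (iv F116347)) (tt N12858 (iv F116500)) (tt N9042 F92451) (tt N9033 (iv D20497)))
theorem Q10864 : ∀ i, i < 10864 → P i := stepQ 10863 Q10863 (allL N10863 (tt N12178 (iv F134779)) (tt N9035 F92456) (tt N9221 (iv F134535)) (tt N12778 (iv F116085)) (tt N12859 D26018) (tt N9034 (iv D20499)) (tt N12823 (iv F116355)) (tt N12799 (iv F134785)) (tt N12860 D26020) (tt N12848 (iv F116464)))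
theorem Q10865 : ∀ i, i < 10865 → P i := stepQ 10864 Q10864 (allL N10864 (tt N11922 (iv F108547)) (tt N12859 (iv F116508)) (tt N9037 F92462) (tt N12861 D26021) (tt N9035 (iv D20501)) (tt N9075 F92463) (tt N12825 (iv F116362)) (tt N12862 D26022) (tt N12863 D26023) (tt N12849 (iv F116472)))
theorem Q10866 : ∀ i, i < 10866 → P i := stepQ 10865 Q10865 (allL N10865 (tt N11923 (iv F108550)) (tt N12799 (iv F134784)) (tt N9038 F92464) (tt N12781 (iv F116091)) (tt N12862 (iv F116519)) (tt N9036 F92465) (tt N12864 D26024) (tt N9035 (iv D20502)) (tt N12865 D26025) (tt N12850 (iv F116475)))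
theorem Q10867 : ∀ i, i < 10867 → P i := stepQ 10866 Q10866 (allL N10866 (tt N11924 (iv F108553)) (tt N12860 (iv F116514)) (tt N9039 F92466) (tt N12782 (iv F116094)) (tt N12863 (iv F116522)) (tt N9048 F92467) (tt N12827 (iv F116367)) (tt N12865 (iv F116527)) (tt N9035 (iv D20503)) (tt N12866 D26026))
theorem Q10868 : ∀ i, i < 10868 → P i := stepQ 10867 Q10867 (allL N10867 (tt N11925 (iv F108556)) (tt N9474 F92468) (tt N12862 (iv F116518)) (tt N12622 (iv F115176)) (tt N9038 F92469) (tt N9077 F92470) (tt N12867 D26027) (tt N9037 (iv D20504)) (tt N12868 D26028) (tt N12852 (iv F116481)))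
theorem Q10869 : ∀ i, i < 10869 → P i := stepQ 10868 Q10868 (allL N10868 (tt N11926 (iv F108560)) (tt N9475 F92471) (tt N12863 (iv F116521)) (tt N12623 (iv F115180)) (tt N9039 F92472) (tt N10868 F92473) (tt N12829 (iv F116373)) (tt N12868 (iv F116535)) (tt N9037 (iv D20505)) (tt N12869 D26029))
theorem Q10870 : ∀ i, i < 10870 → P i := stepQ 10869 Q10869 (allL N10869 (tt N11927 (iv F108564)) (tt N9476 F92474) (tt N12864 (iv F116524)) (tt N9040 F92475) (tt N12867 (iv F116531)) (tt N12845 (iv F116444)) (tt N9038 (iv D20506)) (tt N12830 (iv F116376)) (tt N12870 D26030) (tt N12854 (iv F116487)))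
theorem Q10871 : ∀ i, i < 10871 → P i := stepQ 10870 Q10870 (allL N10870 (tt N11928 (iv F108567)) (tt N9477 F92476) (tt N12865 (iv F116525)) (tt N9041 F92477) (tt N12868 (iv F116533)) (tt N9050 F92478) (tt N12870 (iv F116541)) (tt N9039 F92479) (tt N9038 (iv D20507)) (tt N12871 D26031))
theorem Q10872 : ∀ i, i < 10872 → P i := stepQ 10871 Q10871 (allL N10871 (tt N11929 (iv F108572)) (tt N9478 F92480) (tt N12866 (iv F116528)) (tt N9042 F92481) (tt N12869 (iv F116537)) (tt N9051 F92482) (tt N12832 (iv F116384)) (tt N12871 (iv F116545)) (tt N12856 (iv F116495)) (tt N9039 (iv D20508)))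
theorem Q10873 : ∀ i, i < 10873 → P i := stepQ 10872 Q10872 (allL N10872 (tt N11930 (iv F108576)) (tt N9479 F92483) (tt N12788 (iv F116104)) (tt N12870 (iv F116540)) (tt N12627 (iv F115193)) (tt N12872 D26032) (tt N9041 F92484) (tt N12833 (iv F116387)) (tt N9040 (iv D20509)) (tt N12873 D26033))
theorem Q10874 : ∀ i, i < 10874 → P i := stepQ 10873 Q10873 (allL N10873 (tt N11931 (iv F108579)) (tt N9480 F92485) (tt N12789 (iv F116106)) (tt N12871 (iv F116543)) (tt N12628 (iv F115196)) (tt N9053 F92486) (tt N12873 (iv F116549)) (tt N9042 F92487) (tt N12858 (iv F116501)) (tt N9041 (iv D20510)))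
theorem Q10875 : ∀ i, i < 10875 → P i := stepQ 10874 Q10874 (allL N10874 (tt N11932 (iv F108635)) (tt N9427 (iv F134504)) (tt N12790 (iv F116145)) (tt N9408 (iv F134472)) (tt N10874 F92532) (tt N12874 D26051) (tt N9044 F92533) (tt N9217 F92534) (tt N9043 (iv D20522)) (tt N12807 (iv F134766)))
theorem Q10876 : ∀ i, i < 10876 → P i := stepQ 10875 Q10875 (allL N10875 (tt N11933 (iv F108640)) (tt N9432 F135165) (tt N12791 (iv F116149)) (tt N9410 F135166) (tt N10875 F92536) (tt N12847 (iv F116455)) (tt N12807 F135167) (tt N9045 F92537) (tt N9151 F92538) (tt N9044 (iv D20523)))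
theorem Q10877 : ∀ i, i < 10877 → P i := stepQ 10876 Q10876 (allL N10876 (tt N12168 F134130) (tt N9048 F92553) (tt N9217 F134131) (tt N12704 (iv F134741)) (tt N10876 F92555) (tt N12860 (iv F116516)) (tt N9192 F134132) (tt N12790 (iv F134762)) (tt N9046 (iv D20527)) (tt N12805 (iv F134778)))
theorem Q10878 : ∀ i, i < 10878 → P i := stepQ 10877 Q10877 (allL N10877 (tt N11938 (iv F108670)) (tt N12790 (iv F134761)) (tt N9050 F92561) (tt N12794 (iv F116184)) (tt N10877 F92562) (tt N12865 (iv F116526)) (tt N12725 (iv F134747)) (tt N9048 F92563) (tt N9047 (iv D20529)) (tt N12875 D26059))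
theorem Q10879 : ∀ i, i < 10879 → P i := stepQ 10878 Q10878 (allL N10878 (tt N11939 (iv F108674)) (tt N12805 (iv F134776)) (tt N9051 F92564) (tt N12795 (iv F116187)) (tt N10878 F92565) (tt N12866 (iv F116529)) (tt N9218 F92566) (tt N12875 (iv F116654)) (tt N9154 F92567) (tt N9048 (iv D20530)))
theorem Q10880 : ∀ i, i < 10880 → P i := stepQ 10879 Q10879 (allL N10879 (tt N11940 (iv F108679)) (tt N9435 (iv F134517)) (tt N12725 (iv F134746)) (tt N9052 F92569) (tt N10879 F92570) (tt N12876 D26060) (tt N9050 F92571) (tt N9219 F92572) (tt N9049 (iv D20531)) (tt N12877 D26061))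
theorem Q10881 : ∀ i, i < 10881 → P i := stepQ 10880 Q10880 (allL N10880 (tt N11941 (iv F108685)) (tt N9481 F92573) (tt N12875 (iv F116652)) (tt N9053 F92574) (tt N10880 F92575) (tt N12871 (iv F116544)) (tt N12877 (iv F116662)) (tt N9051 F92576) (tt N9156 F92577) (tt N9050 (iv D20532)))
theorem Q10882 : ∀ i, i < 10882 → P i := stepQ 10881 Q10881 (allL N10881 (tt N11942 (iv F108691)) (tt N9473 F135250) (tt N12799 (iv F116208)) (tt N12876 (iv F116657)) (tt N12878 D26062) (tt N9052 (iv D20533)) (tt N12872 (iv F116547)) (tt N9221 F92579) (tt N12874 (iv F116619)) (tt N12879 D26063))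
theorem Q10883 : ∀ i, i < 10883 → P i := stepQ 10882 Q10882 (allL N10882 (tt N11943 (iv F108694)) (tt N9465 F135253) (tt N12800 (iv F116210)) (tt N12877 (iv F116660)) (tt N9055 F92581) (tt N12879 (iv F116669)) (tt N9053 F92582) (tt N9222 F92583) (tt N9158 F92584) (tt N9052 (iv D20534)))
theorem Q10884 : ∀ i, i < 10884 → P i := stepQ 10883 Q10883 (allL N10883 (tt N11944 (iv F108700)) (tt N9482 F92585) (tt N12803 (iv F116242)) (tt N12636 (iv F135518)) (tt N9054 (iv D20535)) (tt N12878 (iv F116666)) (tt N12648 (iv F115300)) (tt N9223 F92586) (tt N10883 F92587) (tt N12634 (iv F135520)))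
theorem Q10885 : ∀ i, i < 10885 → P i := stepQ 10884 Q10884 (allL N10884 (tt N11945 (iv F108704)) (tt N9483 F92588) (tt N12804 (iv F116245)) (tt N10884 F92589) (tt N12634 (iv F135519)) (tt N9055 F92590) (tt N12649 (iv F115306)) (tt N9224 F92591) (tt N12632 F135257) (tt N9054 (iv D20536)))
theorem Q10886 : ∀ i, i < 10886 → P i := stepQ 10885 Q10885 (allL N10885 (tt N9056 (iv D20537)) (tt N11946 (iv F108709)) (tt N9488 F92592) (tt N11720 (iv F107426)) (tt N12194 (iv F133820)) (tt N10885 F92593) (tt N12880 D26067) (tt N12217 (iv F135145)) (tt N10885 F92594) (tt N11414 (iv F105580)))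
theorem Q10887 : ∀ i, i < 10887 → P i := stepQ 10886 Q10886 (allL N10886 (tt N12880 (iv F116683)) (tt N9057 F92595) (tt N9489 F92596) (tt N11721 (iv F107432)) (tt N12835 (iv F116396)) (tt N12881 D26068) (tt N9056 (iv D20538)) (tt N12882 D26069) (tt N10886 F92597) (tt N11415 (iv F105585)))
theorem Q10888 : ∀ i, i < 10888 → P i := stepQ 10887 Q10887 (allL N10887 (tt N11948 (iv F108720)) (tt N12881 (iv F116686)) (tt N9058 F92598) (tt N11722 (iv F107437)) (tt N12883 D26070) (tt N9057 (iv D20539)) (tt N10887 F92599) (tt N12884 D26071) (tt N12885 D26072) (tt N11416 (iv F105591)))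
theorem Q10889 : ∀ i, i < 10889 → P i := stepQ 10888 Q10888 (allL N10888 (tt N11949 (iv F108725)) (tt N12882 (iv F116689)) (tt N9059 F92600) (tt N11723 (iv F107442)) (tt N12837 (iv F116400)) (tt N12884 (iv F116695)) (tt N12650 (iv F115318)) (tt N9057 (iv D20540)) (tt N10888 F92601) (tt N11417 (iv F105596)))
theorem Q10890 : ∀ i, i < 10890 → P i := stepQ 10889 Q10889 (allL N10889 (tt N11950 (iv F108730)) (tt N9289 F135272) (tt N12883 (iv F116692)) (tt N9062 F92603) (tt N9058 (iv D20541)) (tt N12838 (iv F116404)) (tt N10889 F92604) (tt N12886 D26073) (tt N9255 F135273) (tt N11418 (iv F105602)))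
theorem Q10891 : ∀ i, i < 10891 → P i := stepQ 10890 Q10890 (allL N10890 (tt N11951 (iv F108735)) (tt N9492 F92605) (tt N12884 (iv F116694)) (tt N9060 F92606) (tt N12886 (iv F116702)) (tt N9059 F92607) (tt N12887 D26075) (tt N9058 (iv D20542)) (tt N12888 D26076) (tt N11419 (iv F105608)))
theorem Q10892 : ∀ i, i < 10892 → P i := stepQ 10891 Q10891 (allL N10891 (tt N11952 (iv F108740)) (tt N9287 F135333) (tt N12885 (iv F116696)) (tt N9061 F92609) (tt N9255 F135334) (tt N10891 F92610) (tt N10891 F92611) (tt N12888 (iv F116714)) (tt N9058 (iv D20543)) (tt N10891 F92612))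
theorem Q10893 : ∀ i, i < 10893 → P i := stepQ 10892 Q10892 (allL N10892 (tt N11953 (iv F108746)) (tt N9493 F92613) (tt N11727 (iv F107463)) (tt N12887 (iv F116709)) (tt N9064 F92614) (tt N12653 (iv F115335)) (tt N9060 (iv D20544)) (tt N10892 F92615) (tt N12889 D26077) (tt N11420 (iv F105615)))
theorem Q10894 : ∀ i, i < 10894 → P i := stepQ 10893 Q10893 (allL N10893 (tt N11954 (iv F108752)) (tt N9293 F135330) (tt N11728 (iv F107469)) (tt N12888 (iv F116712)) (tt N9065 F92617) (tt N10893 F92618) (tt N12889 (iv F116718)) (tt N9061 F92619) (tt N9060 (iv D20545)) (tt N10893 F92620))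
theorem Q10895 : ∀ i, i < 10895 → P i := stepQ 10894 Q10894 (allL N10894 (tt N11957 (iv F108791)) (tt N9291 F135274) (tt N12493 F135275) (tt N12886 (iv F116701)) (tt N9063 F92640) (tt N12844 (iv F116439)) (tt N12890 D26088) (tt N9062 (iv D20552)) (tt N9257 F135276) (tt N11500 (iv F106187)))
theorem Q10896 : ∀ i, i < 10896 → P i := stepQ 10895 Q10895 (allL N10895 (tt N11958 (iv F108800)) (tt N9295 F135278) (tt N12496 F135279) (tt N9064 F92646) (tt N12890 (iv F116754)) (tt N9078 F92647) (tt N9063 (iv D20554)) (tt N10895 F92648) (tt N9258 F135280) (tt N11501 (iv F106194)))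
theorem Q10897 : ∀ i, i < 10897 → P i := stepQ 10896 Q10896 (allL N10896 (tt N11959 (iv F108812)) (tt N9294 F135331) (tt N11966 (iv F108875)) (tt N9258 F135332) (tt N12889 (iv F116717)) (tt N10896 F92655) (tt N9065 F92656) (tt N10896 F92657) (tt N9064 (iv D20556)) (tt N10896 F92658))
theorem Q10898 : ∀ i, i < 10898 → P i := stepQ 10897 Q10897 (allL N10897 (tt N11579 (iv F133720)) (tt N9067 F92663) (tt N9224 (iv F134551)) (tt N11562 (iv F133682)) (tt N12631 (iv F115225)) (tt N9066 (iv D20558)) (tt N10897 F92665) (tt N12804 (iv F134806)) (tt N11559 (iv F134430)) (tt N9074 F92666))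
theorem Q10899 : ∀ i, i < 10899 → P i := stepQ 10898 Q10898 (allL N10898 (tt N11960 (iv F108836)) (tt N12631 (iv F115223)) (tt N9069 F92671) (tt N12891 D26095) (tt N9067 (iv D20560)) (tt N12849 (iv F116471)) (tt N10898 F92672) (tt N12892 D26096) (tt N12458 (iv F134912)) (tt N9075 F92673))
theorem Q10900 : ∀ i, i < 10900 → P i := stepQ 10899 Q10899 (allL N10899 (tt N11961 (iv F108840)) (tt N12804 (iv F134805)) (tt N9070 F92674) (tt N11956 (iv F108782)) (tt N12892 (iv F116784)) (tt N9068 F92675) (tt N12893 D26097) (tt N9067 (iv D20561)) (tt N12459 (iv F134908)) (tt N9076 F92676))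
theorem Q10901 : ∀ i, i < 10901 → P i := stepQ 10900 Q10900 (allL N10900 (tt N11962 (iv F108851)) (tt N9495 F92681) (tt N12892 (iv F116783)) (tt N12678 (iv F115456)) (tt N9070 F92682) (tt N12852 (iv F116480)) (tt N12894 D26099) (tt N9069 (iv D20563)) (tt N12895 D26100) (tt N9077 F92683))
theorem Q10902 : ∀ i, i < 10902 → P i := stepQ 10901 Q10901 (allL N10901 (tt N11963 (iv F108855)) (tt N9331 F92684) (tt N12458 (iv F134910)) (tt N12679 (iv F115460)) (tt N9071 F92685) (tt N9330 (iv F92688)) (tt N10901 F92686) (tt N12895 (iv F116799)) (tt N9069 (iv D20564)) (tt N10901 F92687))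
theorem Q10903 : ∀ i, i < 10903 → P i := stepQ 10902 Q10902 (allL N10902 (tt N11964 (iv F108861)) (tt N9496 F92689) (tt N12893 (iv F116786)) (tt N9072 F92690) (tt N12894 (iv F116794)) (tt N11501 (iv F106191)) (tt N9070 (iv D20565)) (tt N10902 F92691) (tt N12896 D26101) (tt N9078 F92692))
theorem Q10904 : ∀ i, i < 10904 → P i := stepQ 10903 Q10903 (allL N10903 (tt N11965 (iv F108867)) (tt N9497 F92693) (tt N12459 (iv F134907)) (tt N9073 F92694) (tt N12895 (iv F116798)) (tt N9163 F92695) (tt N12896 (iv F116805)) (tt N9071 F92696) (tt N9070 (iv D20566)) (tt N10903 F92697))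
theorem Q10905 : ∀ i, i < 10905 → P i := stepQ 10904 Q10904 (allL N10904 (tt N11966 (iv F108873)) (tt N9498 F92698) (tt N11959 (iv F108814)) (tt N12896 (iv F116803)) (tt N12682 (iv F115475)) (tt N10904 F92699) (tt N9073 F92700) (tt N10904 F92701) (tt N9072 (iv D20567)) (tt N10904 F92702))
theorem Q10906 : ∀ i, i < 10906 → P i := stepQ 10905 Q10905 (allL N10905 (tt N12180 (iv F134801)) (tt N9075 F92710) (tt N9223 (iv F134549)) (tt N12897 D26104) (tt N9074 (iv D20570)) (tt N12859 (iv F116510)) (tt N10905 F92712) (tt N12803 (iv F134803)) (tt N10905 F92713) (tt N12631 F115227))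
theorem Q10907 : ∀ i, i < 10907 → P i := stepQ 10906 Q10906 (allL N10906 (tt N11969 (iv F108897)) (tt N12897 (iv F116816)) (tt N12687 (iv F115494)) (tt N9075 (iv D20572)) (tt N12396 (iv F114092)) (tt N12861 (iv F116517)) (tt N10906 F92718) (tt N12898 D26107) (tt N10906 F92719) (tt N12891 (iv F116782)))
theorem Q10908 : ∀ i, i < 10908 → P i := stepQ 10907 Q10907 (allL N10907 (tt N11970 (iv F108900)) (tt N12803 (iv F134802)) (tt N9077 F92720) (tt N12898 (iv F116827)) (tt N9076 F92721) (tt N12862 (iv F116520)) (tt N12899 D26108) (tt N9075 (iv D20573)) (tt N10907 F92722) (tt N12892 (iv F116785)))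
theorem Q10909 : ∀ i, i < 10909 → P i := stepQ 10908 Q10908 (allL N10908 (tt N11971 (iv F108904)) (tt N12560 (iv F134804)) (tt N9078 F92723) (tt N12398 (iv F114099)) (tt N12899 (iv F116830)) (tt N12496 (iv F134814)) (tt N9076 (iv D20574)) (tt N10908 F92724) (tt N10908 F92725) (tt N12893 (iv F116788)))
theorem Q10910 : ∀ i, i < 10910 → P i := stepQ 10909 Q10909 (allL N10909 (tt N11972 (iv F108908)) (tt N9499 F92726) (tt N12899 (iv F116829)) (tt N12690 (iv F115504)) (tt N9078 F92727) (tt N12900 D26109) (tt N9077 (iv D20575)) (tt N10909 F92728) (tt N10909 F92729) (tt N12894 (iv F116796)))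
theorem Q10911 : ∀ i, i < 10911 → P i := stepQ 10910 Q10910 (allL N10910 (tt N9088 F92812) (tt N11974 (iv F109017)) (tt N12043 (iv F134847)) (tt N9080 F92813) (tt N11751 (iv F107672)) (tt N12425 (iv F134859)) (tt N9079 (iv D20595)) (tt N12901 D26134) (tt N12691 (iv F115537)) (tt N9082 F92814))
theorem Q10912 : ∀ i, i < 10912 → P i := stepQ 10911 Q10911 (allL N10911 (tt N9090 F92820) (tt N11976 (iv F109028)) (tt N9504 F92821) (tt N12901 (iv F116940)) (tt N9081 F92822) (tt N12441 (iv F134873)) (tt N11428 (iv F105754)) (tt N9080 (iv D20597)) (tt N12693 (iv F115545)) (tt N9083 F92823))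
theorem Q10913 : ∀ i, i < 10913 → P i := stepQ 10912 Q10912 (allL N10912 (tt N9094 F92834) (tt N11980 (iv F109049)) (tt N12042 (iv F134845)) (tt N9083 F92835) (tt N11985 (iv F109083)) (tt N12424 (iv F134857)) (tt N11505 (iv F106221)) (tt N9082 (iv D20601)) (tt N9086 F92836) (tt N12901 (iv F116941)))
theorem Q10914 : ∀ i, i < 10914 → P i := stepQ 10913 Q10913 (allL N10913 (tt N9098 F92855) (tt N11985 (iv F109081)) (tt N12041 (iv F133632)) (tt N9085 F92856) (tt N11980 (iv F109051)) (tt N12051 (iv F133669)) (tt N9086 F92857) (tt N9084 (iv D20607)) (tt N11505 (iv F106222)) (tt N12697 (iv F115579)))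
theorem Q10915 : ∀ i, i < 10915 → P i := stepQ 10914 Q10914 (allL N10914 (tt N12129 F134208) (tt N9087 (iv D20632)) (tt N9103 F92956) (tt N9225 F134209) (tt N11785 (iv F107873)) (tt N10914 F92958) (tt N12902 D26179) (tt N9227 F134204) (tt N12709 (iv F115724)) (tt N9091 F92959))
theorem Q10916 : ∀ i, i < 10916 → P i := stepQ 10915 Q10915 (allL N10915 (tt N12043 (iv F134846)) (tt N12902 (iv F117138)) (tt N9088 F92960) (tt N9120 (iv F134580)) (tt N11786 (iv F107879)) (tt N11536 (iv F134870)) (tt N9087 (iv D20633)) (tt N12903 D26181) (tt N12710 (iv F115728)) (tt N9092 F92962))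
theorem Q10917 : ∀ i, i < 10917 → P i := stepQ 10916 Q10916 (allL N10916 (tt N12425 (iv F134858)) (tt N9105 F92963) (tt N11536 (iv F134869)) (tt N9089 F92964) (tt N12904 D26182) (tt N9088 (iv D20634)) (tt N10916 F92965) (tt N12905 D26183) (tt N12906 D26184) (tt N9093 F92966))
theorem Q10918 : ∀ i, i < 10918 → P i := stepQ 10917 Q10917 (allL N10917 (tt N12901 (iv F116939)) (tt N9106 F92967) (tt N12903 (iv F117146)) (tt N9090 F92968) (tt N11788 (iv F107887)) (tt N12905 (iv F117155)) (tt N11439 (iv F105823)) (tt N9088 (iv D20635)) (tt N12712 (iv F115735)) (tt N9094 F92969))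
theorem Q10919 : ∀ i, i < 10919 → P i := stepQ 10918 Q10918 (allL N10918 (tt N12441 (iv F134872)) (tt N9107 F92970) (tt N9508 F92971) (tt N12905 (iv F117154)) (tt N10918 F92972) (tt N9090 F92973) (tt N12907 D26185) (tt N9089 (iv D20636)) (tt N12908 D26186) (tt N9095 F92974))
theorem Q10920 : ∀ i, i < 10920 → P i := stepQ 10919 Q10919 (allL N10919 (tt N12387 (iv F134874)) (tt N9108 F92975) (tt N9509 F92976) (tt N12906 (iv F117158)) (tt N10919 F92977) (tt N12714 (iv F115743)) (tt N10919 F92978) (tt N12908 (iv F117168)) (tt N9089 (iv D20637)) (tt N11491 (iv F134942)))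
theorem Q10921 : ∀ i, i < 10921 → P i := stepQ 10920 Q10920 (allL N10920 (tt N12016 F134170) (tt N9092 F92983) (tt N9109 F92984) (tt N9100 F134171) (tt N11990 F134172) (tt N11517 (iv F134398)) (tt N9091 (iv D20639)) (tt N12909 D26190) (tt N9097 F134173) (tt N12902 (iv F117141)))
theorem Q10922 : ∀ i, i < 10922 → P i := stepQ 10921 Q10921 (allL N10921 (tt N12042 (iv F134844)) (tt N12909 (iv F117182)) (tt N9094 F92990) (tt N9119 (iv F134579)) (tt N12006 (iv F109283)) (tt N11535 (iv F134867)) (tt N11514 (iv F106297)) (tt N9092 (iv D20641)) (tt N9101 F92992) (tt N12903 (iv F117148)))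
theorem Q10923 : ∀ i, i < 10923 → P i := stepQ 10922 Q10922 (allL N10922 (tt N12422 (iv F134855)) (tt N9112 F92993) (tt N11533 (iv F134868)) (tt N10922 F92994) (tt N9093 (iv D20642)) (tt N12007 (iv F109288)) (tt N10922 F92995) (tt N12910 D26194) (tt N11530 (iv F134937)) (tt N12904 (iv F117152)))
theorem Q10924 : ∀ i, i < 10924 → P i := stepQ 10923 Q10923 (allL N10923 (tt N12424 (iv F134856)) (tt N9113 F92996) (tt N11535 (iv F134866)) (tt N9095 F92997) (tt N12910 (iv F117197)) (tt N9094 F92998) (tt N12911 D26196) (tt N9093 (iv D20643)) (tt N11531 (iv F134879)) (tt N12905 (iv F117156)))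
theorem Q10925 : ∀ i, i < 10925 → P i := stepQ 10924 Q10924 (allL N10924 (tt N12440 (iv F134871)) (tt N9115 F93003) (tt N9510 F93004) (tt N12911 (iv F117203)) (tt N10924 F93005) (tt N11518 (iv F106313)) (tt N9095 (iv D20645)) (tt N10924 F93006) (tt N11547 (iv F134940)) (tt N12907 (iv F117164)))
theorem Q10926 : ∀ i, i < 10926 → P i := stepQ 10925 Q10925 (allL N10925 (tt N12041 F134160) (tt N9123 F134166) (tt N9098 F93027) (tt N9118 F134161) (tt N11999 (iv F109238)) (tt N9121 F134167) (tt N9101 F93029) (tt N9096 (iv D20651)) (tt N11514 (iv F106298)) (tt N12723 (iv F115788)))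
theorem Q10927 : ∀ i, i < 10927 → P i := stepQ 10926 Q10926 (allL N10926 (tt N12051 F134162) (tt N9101 F134168) (tt N9121 F134169) (tt N9099 F93034) (tt N12410 (iv F134686)) (tt N9098 F93035) (tt N9123 F134163) (tt N9097 (iv D20653)) (tt N12909 (iv F134819)) (tt N12724 (iv F115796)))
theorem Q10928 : ∀ i, i < 10928 → P i := stepQ 10927 Q10927 (allL N10927 (tt N12078 F134174) (tt N9119 F93044) (tt N9155 F134175) (tt N12909 (iv F134818)) (tt N10927 F93046) (tt N11519 (iv F106318)) (tt N9153 F134176) (tt N9100 F93047) (tt N9099 (iv D20656)) (tt N12912 D26209))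
theorem Q10929 : ∀ i, i < 10929 → P i := stepQ 10928 Q10928 (allL N10928 (tt N12214 F134221) (tt N9120 F93048) (tt N9231 F134222) (tt N12902 (iv F134820)) (tt N10928 F93050) (tt N11520 (iv F106323)) (tt N9225 F93051) (tt N12912 (iv F117256)) (tt N12726 (iv F115814)) (tt N9100 (iv D20657)))
theorem Q10930 : ∀ i, i < 10930 → P i := stepQ 10929 Q10929 (allL N10929 (tt N11795 (iv F133604)) (tt N9104 F93159) (tt N12902 (iv F117139)) (tt N9131 F93160) (tt N11756 (iv F133590)) (tt N12913 D26244) (tt N9103 (iv D20686)) (tt N12914 D26245) (tt N12769 (iv F116058)) (tt N9109 F93161))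
theorem Q10931 : ∀ i, i < 10931 → P i := stepQ 10930 Q10930 (allL N10930 (tt N12023 (iv F109430)) (tt N12913 (iv F117401)) (tt N9105 F93162) (tt N9132 F93163) (tt N12292 (iv F134854)) (tt N9104 (iv D20687)) (tt N10930 F93164) (tt N12915 D26247) (tt N12916 D26248) (tt N9110 F93165))
theorem Q10932 : ∀ i, i < 10932 → P i := stepQ 10931 Q10931 (allL N10931 (tt N12024 (iv F109435)) (tt N12914 (iv F117405)) (tt N9106 F93166) (tt N9133 F93167) (tt N11849 (iv F108174)) (tt N12915 (iv F117413)) (tt N11463 (iv F105954)) (tt N9104 (iv D20688)) (tt N12771 (iv F116065)) (tt N9111 F93168))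
theorem Q10933 : ∀ i, i < 10933 → P i := stepQ 10932 Q10932 (allL N10932 (tt N12025 (iv F109441)) (tt N12904 (iv F117149)) (tt N12292 (iv F134853)) (tt N10932 F93169) (tt N9105 (iv D20689)) (tt N11850 (iv F108179)) (tt N10932 F93170) (tt N12917 D26249) (tt N12918 D26250) (tt N9112 F93171))
theorem Q10934 : ∀ i, i < 10934 → P i := stepQ 10933 Q10933 (allL N10933 (tt N12026 (iv F109446)) (tt N12905 (iv F117153)) (tt N12915 (iv F117411)) (tt N9107 F93172) (tt N12917 (iv F117419)) (tt N9106 F93173) (tt N12919 D26251) (tt N9105 (iv D20690)) (tt N12920 D26252) (tt N9113 F93174))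
theorem Q10935 : ∀ i, i < 10935 → P i := stepQ 10934 Q10934 (allL N10934 (tt N12027 (iv F109450)) (tt N12906 (iv F117157)) (tt N12916 (iv F117415)) (tt N9108 F93175) (tt N12918 (iv F117422)) (tt N12774 (iv F116072)) (tt N10934 F93176) (tt N12920 (iv F117428)) (tt N9105 (iv D20691)) (tt N12921 D26253))
theorem Q10936 : ∀ i, i < 10936 → P i := stepQ 10935 Q10935 (allL N10935 (tt N12028 (iv F109453)) (tt N12907 (iv F117160)) (tt N9137 F93177) (tt N12919 (iv F117424)) (tt N10935 F93178) (tt N11467 (iv F105971)) (tt N9107 (iv D20692)) (tt N10935 F93179) (tt N12922 D26254) (tt N9115 F93180))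
theorem Q10937 : ∀ i, i < 10937 → P i := stepQ 10936 Q10936 (allL N10936 (tt N12029 (iv F109459)) (tt N12908 (iv F117165)) (tt N9138 F93181) (tt N12920 (iv F117427)) (tt N10936 F93182) (tt N12776 (iv F116076)) (tt N12922 (iv F117434)) (tt N9108 F93183) (tt N9107 (iv D20693)) (tt N12923 D26255))
theorem Q10938 : ∀ i, i < 10938 → P i := stepQ 10937 Q10937 (allL N10937 (tt N12030 (iv F109463)) (tt N11491 (iv F134941)) (tt N9139 F93184) (tt N12921 (iv F117429)) (tt N10937 F93185) (tt N12777 (iv F116079)) (tt N10937 F93186) (tt N12923 (iv F117438)) (tt N9117 F93187) (tt N9108 (iv D20694)))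
theorem Q10939 : ∀ i, i < 10939 → P i := stepQ 10938 Q10938 (allL N10938 (tt N11515 (iv F133602)) (tt N9110 F93191) (tt N11517 (iv F134397)) (tt N9140 F93192) (tt N11504 (iv F134848)) (tt N9109 (iv D20696)) (tt N10938 F93193) (tt N12924 D26259) (tt N11513 (iv F133567)) (tt N12913 (iv F117404)))
theorem Q10940 : ∀ i, i < 10940 → P i := stepQ 10939 Q10939 (allL N10939 (tt N12019 (iv F133603)) (tt N9111 F93194) (tt N12909 (iv F117183)) (tt N9128 F134212) (tt N11992 (iv F133587)) (tt N12924 (iv F117450)) (tt N9126 F134213) (tt N9109 (iv D20697)) (tt N9121 F93196) (tt N12914 (iv F117407)))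
theorem Q10941 : ∀ i, i < 10941 → P i := stepQ 10940 Q10940 (allL N10940 (tt N12031 (iv F109485)) (tt N12924 (iv F117448)) (tt N9113 F93199) (tt N9141 F93200) (tt N12400 (iv F134850)) (tt N9111 F93201) (tt N12925 D26264) (tt N9110 (iv D20699)) (tt N12926 D26265) (tt N12915 (iv F117414)))
theorem Q10942 : ∀ i, i < 10942 → P i := stepQ 10941 Q10941 (allL N10941 (tt N12032 (iv F109489)) (tt N11513 (iv F133566)) (tt N9114 F93202) (tt N9142 F93203) (tt N12401 (iv F134852)) (tt N9124 F93204) (tt N10941 F93205) (tt N12926 (iv F117469)) (tt N9110 (iv D20700)) (tt N12927 D26266))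
theorem Q10943 : ∀ i, i < 10943 → P i := stepQ 10942 Q10942 (allL N10942 (tt N12033 (iv F109494)) (tt N12910 (iv F117195)) (tt N12400 (iv F134849)) (tt N10942 F93206) (tt N9113 F93207) (tt N12040 (iv F109553)) (tt N12928 D26267) (tt N9112 (iv D20701)) (tt N12929 D26268) (tt N12917 (iv F117420)))
theorem Q10944 : ∀ i, i < 10944 → P i := stepQ 10943 Q10943 (allL N10943 (tt N12034 (iv F109498)) (tt N11530 (iv F134936)) (tt N12401 (iv F134851)) (tt N10943 F93208) (tt N9114 F93209) (tt N12047 (iv F133857)) (tt N10943 F93210) (tt N12929 (iv F117479)) (tt N9112 (iv D20702)) (tt N12930 D26270))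
theorem Q10945 : ∀ i, i < 10945 → P i := stepQ 10944 Q10944 (allL N10944 (tt N12035 (iv F109502)) (tt N12911 (iv F117202)) (tt N12925 (iv F117463)) (tt N9115 F93211) (tt N12928 (iv F117475)) (tt N11534 (iv F106405)) (tt N9113 (iv D20703)) (tt N10944 F93212) (tt N12931 D26271) (tt N12919 (iv F117426)))
theorem Q10946 : ∀ i, i < 10946 → P i := stepQ 10945 Q10945 (allL N10945 (tt N12036 (iv F109506)) (tt N11531 (iv F134878)) (tt N12926 (iv F117466)) (tt N9116 F93213) (tt N12929 (iv F117478)) (tt N9126 F93214) (tt N12931 (iv F117486)) (tt N9114 F93215) (tt N9113 (iv D20704)) (tt N12932 D26272))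
theorem Q10947 : ∀ i, i < 10947 → P i := stepQ 10946 Q10946 (allL N10946 (tt N12037 (iv F109510)) (tt N11462 (iv F134938)) (tt N12927 (iv F117470)) (tt N9117 F93216) (tt N12930 (iv F117483)) (tt N9127 F93217) (tt N10946 F93218) (tt N12932 (iv F117490)) (tt N12921 (iv F117431)) (tt N9114 (iv D20705)))
theorem Q10948 : ∀ i, i < 10948 → P i := stepQ 10947 Q10947 (allL N10947 (tt N12038 (iv F109514)) (tt N11547 (iv F134939)) (tt N9148 F93219) (tt N12931 (iv F117485)) (tt N10947 F93220) (tt N12933 D26273) (tt N9116 F93221) (tt N10947 F93222) (tt N9115 (iv D20706)) (tt N12934 D26274))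
theorem Q10949 : ∀ i, i < 10949 → P i := stepQ 10948 Q10948 (allL N10948 (tt N12039 (iv F109519)) (tt N11490 (iv F134707)) (tt N9149 F93223) (tt N12932 (iv F117488)) (tt N10948 F93224) (tt N9129 F93225) (tt N12934 (iv F117496)) (tt N9117 F93226) (tt N12923 (iv F117439)) (tt N9116 (iv D20707)))
theorem Q10950 : ∀ i, i < 10950 → P i := stepQ 10949 Q10949 (allL N10949 (tt N12044 (iv F109570)) (tt N9153 F134218) (tt N9150 F93255) (tt N11514 F134217) (tt N10949 F93256) (tt N12935 D26287) (tt N9119 F93257) (tt N9152 F134219) (tt N9118 (iv D20719)) (tt N12936 D26288))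
theorem Q10951 : ∀ i, i < 10951 → P i := stepQ 10950 Q10950 (allL N10950 (tt N12045 (iv F109575)) (tt N12912 (iv F117253)) (tt N9151 F93259) (tt N12903 F135293) (tt N10950 F93260) (tt N11538 (iv F106423)) (tt N12936 (iv F117540)) (tt N9120 F93261) (tt N12791 (iv F116152)) (tt N9119 (iv D20720)))
theorem Q10952 : ∀ i, i < 10952 → P i := stepQ 10951 Q10951 (allL N10951 (tt N12050 (iv F109596)) (tt N11999 (iv F133579)) (tt N9125 F93276) (tt N10951 F93277) (tt N9123 F93278) (tt N12421 (iv F114333)) (tt N12410 (iv F134682)) (tt N9122 (iv D20726)) (tt N12015 (iv F134954)) (tt N12792 (iv F116174)))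
theorem Q10953 : ∀ i, i < 10953 → P i := stepQ 10952 Q10952 (allL N10952 (tt N12052 (iv F109609)) (tt N11514 (iv F133568)) (tt N9126 F93286) (tt N9153 F93287) (tt N12015 (iv F134953)) (tt N12926 (iv F117468)) (tt N12909 (iv F134817)) (tt N9124 F93288) (tt N9123 (iv D20729)) (tt N12937 D26302))
theorem Q10954 : ∀ i, i < 10954 → P i := stepQ 10953 Q10953 (allL N10953 (tt N12053 (iv F109613)) (tt N11437 (iv F133569)) (tt N9127 F93289) (tt N9154 F93290) (tt N11792 (iv F134955)) (tt N12927 (iv F117472)) (tt N9227 F93291) (tt N12937 (iv F117587)) (tt N12795 (iv F116189)) (tt N9124 (iv D20730)))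
theorem Q10955 : ∀ i, i < 10955 → P i := stepQ 10954 Q10954 (allL N10954 (tt N12054 (iv F109637)) (tt N11463 (iv F134706)) (tt N12937 (iv F117585)) (tt N9129 F93305) (tt N11858 (iv F134960)) (tt N12932 (iv F117489)) (tt N12914 (iv F134877)) (tt N9127 F93306) (tt N12798 (iv F116207)) (tt N9126 (iv D20736)))
theorem Q10956 : ∀ i, i < 10956 → P i := stepQ 10955 Q10955 (allL N10955 (tt N11523 (iv F133716)) (tt N9141 (iv F134262)) (tt N9157 F93307) (tt N12924 (iv F134875)) (tt N11508 (iv F133674)) (tt N9128 (iv D20737)) (tt N12933 (iv F117492)) (tt N9140 F134257) (tt N12935 (iv F117537)) (tt N12938 D26311))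
theorem Q10957 : ∀ i, i < 10957 → P i := stepQ 10956 Q10956 (allL N10956 (tt N11801 (iv F133721)) (tt N9133 F134258) (tt N9158 F93309) (tt N12914 (iv F134876)) (tt N9130 F93310) (tt N12938 (iv F117610)) (tt N9129 F93311) (tt N9131 F134259) (tt N12800 (iv F116214)) (tt N9128 (iv D20738)))
theorem Q10958 : ∀ i, i < 10958 → P i := stepQ 10957 Q10957 (allL N10957 (tt N11444 (iv F133703)) (tt N9132 F93356) (tt N9233 (iv F134616)) (tt N12913 (iv F117402)) (tt N11429 (iv F134417)) (tt N9131 (iv D20750)) (tt N10957 F93358) (tt N12938 (iv F134945)) (tt N12665 F115403) (tt N9140 F93359))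
theorem Q10959 : ∀ i, i < 10959 → P i := stepQ 10958 Q10958 (allL N10958 (tt N12055 (iv F109713)) (tt N12938 (iv F134944)) (tt N9135 F93368) (tt N12915 (iv F117412)) (tt N12296 (iv F134894)) (tt N9133 F93369) (tt N12939 D26329) (tt N9132 (iv D20753)) (tt N12940 D26330) (tt N9141 F93370))
theorem Q10960 : ∀ i, i < 10960 → P i := stepQ 10959 Q10959 (allL N10959 (tt N12056 (iv F109717)) (tt N12665 (iv F115400)) (tt N9136 F93371) (tt N12916 (iv F117416)) (tt N12297 (iv F134899)) (tt N12851 (iv F116477)) (tt N10959 F93372) (tt N12940 (iv F117683)) (tt N9132 (iv D20754)) (tt N12941 D26331))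
theorem Q10961 : ∀ i, i < 10961 → P i := stepQ 10960 Q10960 (allL N10960 (tt N12057 (iv F109720)) (tt N9532 F93373) (tt N12296 (iv F134893)) (tt N10960 F93374) (tt N9135 F93375) (tt N9161 F93376) (tt N12942 D26332) (tt N9134 (iv D20755)) (tt N12943 D26333) (tt N9143 F93377))
theorem Q10962 : ∀ i, i < 10962 → P i := stepQ 10961 Q10961 (allL N10961 (tt N12058 (iv F109726)) (tt N9369 F93378) (tt N12297 (iv F134898)) (tt N10961 F93379) (tt N9136 F93380) (tt N9368 F93381) (tt N10961 F93382) (tt N12943 (iv F117697)) (tt N9134 (iv D20756)) (tt N12944 D26334))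
theorem Q10963 : ∀ i, i < 10963 → P i := stepQ 10962 Q10962 (allL N10962 (tt N12059 (iv F109732)) (tt N9533 F93383) (tt N12939 (iv F117679)) (tt N9137 F93384) (tt N12942 (iv F117689)) (tt N11492 (iv F106121)) (tt N9135 (iv D20757)) (tt N10962 F93385) (tt N12945 D26335) (tt N9145 F93386))
theorem Q10964 : ∀ i, i < 10964 → P i := stepQ 10963 Q10963 (allL N10963 (tt N12060 (iv F109738)) (tt N9534 F93387) (tt N12940 (iv F117682)) (tt N9138 F93388) (tt N12943 (iv F117695)) (tt N12855 (iv F116490)) (tt N12945 (iv F117706)) (tt N9136 F93389) (tt N9135 (iv D20758)) (tt N12946 D26336))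
theorem Q10965 : ∀ i, i < 10965 → P i := stepQ 10964 Q10964 (allL N10964 (tt N12061 (iv F109742)) (tt N9535 F93390) (tt N12941 (iv F117684)) (tt N9139 F93391) (tt N12944 (iv F117700)) (tt N12856 (iv F116494)) (tt N10964 F93392) (tt N12946 (iv F117710)) (tt N9147 F93393) (tt N9136 (iv D20759)))
theorem Q10966 : ∀ i, i < 10966 → P i := stepQ 10965 Q10965 (allL N10965 (tt N12062 (iv F109747)) (tt N9536 F93394) (tt N12922 (iv F117432)) (tt N12945 (iv F117705)) (tt N10965 F93395) (tt N12947 D26337) (tt N9138 F93396) (tt N10965 F93397) (tt N9137 (iv D20760)) (tt N12948 D26338))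
theorem Q10967 : ∀ i, i < 10967 → P i := stepQ 10966 Q10966 (allL N10966 (tt N12063 (iv F109752)) (tt N9537 F93398) (tt N12923 (iv F117436)) (tt N12946 (iv F117709)) (tt N10966 F93399) (tt N12858 (iv F116499)) (tt N12948 (iv F117716)) (tt N9139 F93400) (tt N9149 F93401) (tt N9138 (iv D20761)))
theorem Q10968 : ∀ i, i < 10968 → P i := stepQ 10967 Q10967 (allL N10967 (tt N11524 F134255) (tt N9142 F93416) (tt N9228 F134260) (tt N11513 F134256) (tt N11509 (iv F134885)) (tt N9152 F93418) (tt N10967 F93419) (tt N12935 (iv F134881)) (tt N9140 (iv D20766)) (tt N12949 D26347))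
theorem Q10969 : ∀ i, i < 10969 → P i := stepQ 10968 Q10968 (allL N10968 (tt N12064 (iv F109791)) (tt N12933 (iv F134943)) (tt N9145 F93430) (tt N12925 (iv F117464)) (tt N12405 (iv F134890)) (tt N11547 (iv F106485)) (tt N9141 (iv D20770)) (tt N10968 F93431) (tt N12950 D26353) (tt N12939 (iv F117681)))
theorem Q10970 : ∀ i, i < 10970 → P i := stepQ 10969 Q10969 (allL N10969 (tt N12065 (iv F109795)) (tt N12935 (iv F134880)) (tt N9146 F93432) (tt N12926 (iv F117467)) (tt N12406 (iv F134892)) (tt N9153 F93433) (tt N12950 (iv F117773)) (tt N9142 F93434) (tt N9141 (iv D20771)) (tt N12951 D26354))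
theorem Q10971 : ∀ i, i < 10971 → P i := stepQ 10970 Q10970 (allL N10970 (tt N12066 (iv F109799)) (tt N12949 (iv F117749)) (tt N9147 F93435) (tt N12927 (iv F117471)) (tt N12407 (iv F134896)) (tt N9154 F93436) (tt N10970 F93437) (tt N12951 (iv F117777)) (tt N12941 (iv F117686)) (tt N9142 (iv D20772)))
theorem Q10972 : ∀ i, i < 10972 → P i := stepQ 10971 Q10971 (allL N10971 (tt N12067 (iv F109803)) (tt N9540 F93438) (tt N12405 (iv F134889)) (tt N10971 F93439) (tt N9145 F93440) (tt N10971 F93441) (tt N9143 (iv D20773)) (tt N10971 F93442) (tt N12952 D26355) (tt N12942 (iv F117692)))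
theorem Q10973 : ∀ i, i < 10973 → P i := stepQ 10972 Q10972 (allL N10972 (tt N12068 (iv F109809)) (tt N9541 F93443) (tt N12406 (iv F134891)) (tt N10972 F93444) (tt N9146 F93445) (tt N10972 F93446) (tt N12952 (iv F117781)) (tt N9144 F93447) (tt N9143 (iv D20774)) (tt N12953 D26356))
theorem Q10974 : ∀ i, i < 10974 → P i := stepQ 10973 Q10973 (allL N10973 (tt N12069 (iv F109815)) (tt N9542 F93448) (tt N12407 (iv F134895)) (tt N10973 F93449) (tt N9147 F93450) (tt N10973 F93451) (tt N10973 F93452) (tt N12953 (iv F117787)) (tt N12944 (iv F117703)) (tt N9144 (iv D20775)))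
theorem Q10975 : ∀ i, i < 10975 → P i := stepQ 10974 Q10974 (allL N10974 (tt N12070 (iv F109821)) (tt N9543 F93453) (tt N12950 (iv F117772)) (tt N9148 F93454) (tt N12952 (iv F117780)) (tt N12954 D26357) (tt N9146 F93455) (tt N10974 F93456) (tt N9145 (iv D20776)) (tt N12955 D26358))
theorem Q10976 : ∀ i, i < 10976 → P i := stepQ 10975 Q10975 (allL N10975 (tt N12071 (iv F109826)) (tt N9544 F93457) (tt N12951 (iv F117775)) (tt N9149 F93458) (tt N12953 (iv F117785)) (tt N9156 F93459) (tt N12955 (iv F117794)) (tt N9147 F93460) (tt N12946 (iv F117711)) (tt N9146 (iv D20777)))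
theorem Q10977 : ∀ i, i < 10977 → P i := stepQ 10976 Q10976 (allL N10976 (tt N12072 (iv F109831)) (tt N9539 F135327) (tt N12933 (iv F117491)) (tt N12954 (iv F117789)) (tt N12956 D26359) (tt N9148 (iv D20778)) (tt N9157 F93462) (tt N10976 F93463) (tt N11548 (iv F106513)) (tt N12957 D26360))
theorem Q10978 : ∀ i, i < 10978 → P i := stepQ 10977 Q10977 (allL N10977 (tt N12073 (iv F109836)) (tt N9545 F93464) (tt N12934 (iv F117494)) (tt N12955 (iv F117793)) (tt N10977 F93465) (tt N12957 (iv F117801)) (tt N9149 F93466) (tt N10977 F93467) (tt N12948 (iv F117718)) (tt N9148 (iv D20779)))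
theorem Q10979 : ∀ i, i < 10979 → P i := stepQ 10978 Q10978 (allL N10978 (tt N12074 (iv F109915)) (tt N9516 F134267) (tt N12935 (iv F117535)) (tt N9507 F134268) (tt N12958 D26380) (tt N9150 (iv D20796)) (tt N11548 (iv F106511)) (tt N9228 F93525) (tt N9157 F93526) (tt N12959 D26381))
theorem Q10980 : ∀ i, i < 10980 → P i := stepQ 10979 Q10979 (allL N10979 (tt N12075 (iv F109920)) (tt N9512 F134269) (tt N12936 (iv F117538)) (tt N9506 F134270) (tt N10979 F93528) (tt N12959 (iv F117890)) (tt N9151 F93529) (tt N9229 F93530) (tt N12807 (iv F134765)) (tt N9150 (iv D20797)))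
theorem Q10981 : ∀ i, i < 10981 → P i := stepQ 10980 Q10980 (allL N10980 (tt N12211 F134272) (tt N9154 F93547) (tt N9229 F134273) (tt N11437 F134271) (tt N10980 F93549) (tt N12949 (iv F117751)) (tt N9226 F134274) (tt N12936 (iv F134883)) (tt N12805 (iv F134777)) (tt N9152 (iv D20802)))
theorem Q10982 : ∀ i, i < 10982 → P i := stepQ 10981 Q10981 (allL N10981 (tt N12079 (iv F109952)) (tt N12936 (iv F134882)) (tt N9156 F93555) (tt N12937 (iv F117586)) (tt N10981 F93556) (tt N12951 (iv F117776)) (tt N12912 (iv F134823)) (tt N9154 F93557) (tt N12875 (iv F116655)) (tt N9153 (iv D20804)))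
theorem Q10983 : ∀ i, i < 10983 → P i := stepQ 10982 Q10982 (allL N10982 (tt N12080 (iv F109956)) (tt N9518 F134277) (tt N11519 (iv F134821)) (tt N9157 F93559) (tt N11373 (iv F134956)) (tt N9155 (iv D20805)) (tt N12954 (iv F117790)) (tt N9230 F93560) (tt N9507 F134278) (tt N12960 D26390))
theorem Q10984 : ∀ i, i < 10984 → P i := stepQ 10983 Q10983 (allL N10983 (tt N12081 (iv F109960)) (tt N9520 (iv F134593)) (tt N12912 (iv F134822)) (tt N9158 F93562) (tt N10983 F93563) (tt N12960 (iv F117924)) (tt N9156 F93564) (tt N9231 F93565) (tt N12877 (iv F116664)) (tt N9155 (iv D20806)))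
theorem Q10985 : ∀ i, i < 10985 → P i := stepQ 10984 Q10984 (allL N10984 (tt N11521 (iv F133701)) (tt N9538 (iv F134624)) (tt N11508 (iv F133673)) (tt N12671 (iv F135081)) (tt N9157 (iv D20807)) (tt N9159 F93567) (tt N12956 (iv F117798)) (tt N9232 F93568) (tt N12958 (iv F117888)) (tt N12669 (iv F135082)))
theorem Q10986 : ∀ i, i < 10986 → P i := stepQ 10985 Q10985 (allL N10985 (tt N12082 (iv F109970)) (tt N9531 F135322) (tt N12938 (iv F117609)) (tt N12960 (iv F117923)) (tt N12669 F135323) (tt N9158 F93570) (tt N12957 (iv F117802)) (tt N9233 F93571) (tt N12667 (iv F135587)) (tt N9157 (iv D20808)))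
theorem Q10987 : ∀ i, i < 10987 → P i := stepQ 10986 Q10986 (allL N10986 (tt N12083 (iv F110040)) (tt N9395 F93609) (tt N12218 (iv F134902)) (tt N10986 F93610) (tt N9163 F93611) (tt N9394 (iv F93615)) (tt N10986 F93612) (tt N9162 F93613) (tt N9161 (iv D20818)) (tt N10986 F93614))
theorem Q10988 : ∀ i, i < 10988 → P i := stepQ 10987 Q10987 (allL N10987 (tt N12156 F134292) (tt N9164 (iv D20866)) (tt N9180 F93816) (tt N9170 F134294) (tt N11616 (iv F106885)) (tt N9169 F134295) (tt N11392 (iv F134967)) (tt N9187 F134293) (tt N12698 (iv F115686)) (tt N10987 F93819))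
theorem Q10989 : ∀ i, i < 10989 → P i := stepQ 10988 Q10988 (allL N10988 (tt N12141 (iv F134985)) (tt N11392 (iv F134965)) (tt N9165 F93820) (tt N9178 (iv F134649)) (tt N11617 (iv F106892)) (tt N9177 (iv F134973)) (tt N9164 (iv D20867)) (tt N12961 D26455) (tt N12699 (iv F115689)) (tt N10988 F93822))
theorem Q10990 : ∀ i, i < 10990 → P i := stepQ 10989 Q10989 (allL N10989 (tt N12140 (iv F134988)) (tt N9182 F93823) (tt N9177 (iv F134972)) (tt N9166 F93824) (tt N11570 (iv F134996)) (tt N9165 (iv D20868)) (tt N9171 F93825) (tt N12962 D26457) (tt N12738 (iv F134797)) (tt N10989 F93826))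
theorem Q10991 : ∀ i, i < 10991 → P i := stepQ 10990 Q10990 (allL N10990 (tt N12249 (iv F113264)) (tt N9183 F93827) (tt N12961 (iv F118214)) (tt N9167 F93828) (tt N11619 (iv F106902)) (tt N12962 (iv F118223)) (tt N11393 (iv F105413)) (tt N9165 (iv D20869)) (tt N12701 (iv F115695)) (tt N10990 F93829))
theorem Q10992 : ∀ i, i < 10992 → P i := stepQ 10991 Q10991 (allL N10991 (tt N12181 (iv F134990)) (tt N9184 F93830) (tt N9200 (iv F134655)) (tt N12962 (iv F118222)) (tt N10991 F93832) (tt N9167 F93833) (tt N9204 (iv F135000)) (tt N9166 (iv D20870)) (tt N12810 (iv F134800)) (tt N10991 F93834))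
theorem Q10993 : ∀ i, i < 10993 → P i := stepQ 10992 Q10992 (allL N10992 (tt N12193 F134296) (tt N9186 F93863) (tt N9213 F134297) (tt N12698 (iv F134753)) (tt N11382 (iv F105292)) (tt N9172 F93865) (tt N11395 (iv F105425)) (tt N9211 F134298) (tt N9170 (iv D20877)) (tt N12584 (iv F134978)))
theorem Q10994 : ∀ i, i < 10994 → P i := stepQ 10993 Q10993 (allL N10993 (tt N12201 F134299) (tt N9193 F93947) (tt N9220 F134300) (tt N12709 (iv F134754)) (tt N10993 F93949) (tt N12584 (iv F134977)) (tt N12726 (iv F115813)) (tt N9218 F134301) (tt N9225 F93950) (tt N9172 (iv D20897)))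
theorem Q10995 : ∀ i, i < 10995 → P i := stepQ 10994 Q10994 (allL N10994 (tt N12158 (iv F135005)) (tt N9173 (iv D20925)) (tt N11616 (iv F106883)) (tt N10994 F94056) (tt N9180 F94057) (tt N10994 F94058) (tt N12963 D26535) (tt N9188 (iv F134994)) (tt N12732 (iv F115940)) (tt N10994 F94059))
theorem Q10996 : ∀ i, i < 10996 → P i := stepQ 10995 Q10995 (allL N10995 (tt N12135 (iv F110684)) (tt N12963 (iv F118542)) (tt N9174 F94060) (tt N10995 F94061) (tt N9181 F94062) (tt N12964 D26536) (tt N9173 (iv D20926)) (tt N12965 D26537) (tt N12733 (iv F115944)) (tt N10995 F94063))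
theorem Q10997 : ∀ i, i < 10997 → P i := stepQ 10996 Q10996 (allL N10996 (tt N12136 (iv F110689)) (tt N11618 (iv F106895)) (tt N12964 (iv F118546)) (tt N9175 F94064) (tt N12966 D26538) (tt N9174 (iv D20927)) (tt N10996 F94065) (tt N12967 D26539) (tt N12968 D26540) (tt N10996 F94066))
theorem Q10998 : ∀ i, i < 10998 → P i := stepQ 10997 Q10997 (allL N10997 (tt N12137 (iv F110693)) (tt N11619 (iv F106900)) (tt N12965 (iv F118550)) (tt N9176 F94067) (tt N9183 F94068) (tt N12967 (iv F118559)) (tt N11572 (iv F106659)) (tt N9174 (iv D20928)) (tt N12735 (iv F115948)) (tt N10997 F94069))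
theorem Q10999 : ∀ i, i < 10999 → P i := stepQ 10998 Q10998 (allL N10998 (tt N12138 (iv F110697)) (tt N11620 (iv F106906)) (tt N10998 F94070) (tt N12967 (iv F118558)) (tt N10998 F94071) (tt N9176 F94072) (tt N12969 D26541) (tt N9175 (iv D20929)) (tt N12970 D26542) (tt N10998 F94073))
theorem Q11000 : ∀ i, i < 11000 → P i := stepQ 10999 Q10999 (allL N10999 (tt N12139 (iv F110702)) (tt N11621 (iv F106912)) (tt N10999 F94074) (tt N12968 (iv F118561)) (tt N10999 F94075) (tt N12737 (iv F115952)) (tt N10999 F94076) (tt N12970 (iv F118569)) (tt N9175 (iv D20930)) (tt N12971 D26543))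
theorem Q11001 : ∀ i, i < 11001 → P i := stepQ 11000 Q11000 (allL N11000 (tt N12142 (iv F110718)) (tt N11393 (iv F105410)) (tt N12962 (iv F134997)) (tt N9179 F94087) (tt N11572 (iv F106658)) (tt N12961 (iv F135001)) (tt N9183 F94088) (tt N9177 (iv D20934)) (tt N12740 (iv F115964)) (tt N11000 F94089))
theorem Q11002 : ∀ i, i < 11002 → P i := stepQ 11001 Q11001 (allL N11001 (tt N12143 (iv F110722)) (tt N11394 (iv F105416)) (tt N9201 F94090) (tt N12961 F135339) (tt N11385 (iv F105359)) (tt N9179 F94091) (tt N11407 F135340) (tt N9178 (iv D20935)) (tt N12972 D26552) (tt N11001 F94092))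
theorem Q11003 : ∀ i, i < 11003 → P i := stepQ 11002 Q11002 (allL N11002 (tt N12144 (iv F110726)) (tt N11395 (iv F105422)) (tt N9202 F94093) (tt N12699 F135186) (tt N11386 (iv F105364)) (tt N12742 (iv F115968)) (tt N9186 F94094) (tt N12972 (iv F118601)) (tt N9178 (iv D20936)) (tt N12585 (iv F135438)))
theorem Q11004 : ∀ i, i < 11004 → P i := stepQ 11003 Q11003 (allL N11003 (tt N12160 (iv F134443)) (tt N9181 F94098) (tt N11392 (iv F134966)) (tt N9190 F134322) (tt N12963 (iv F118544)) (tt N11391 (iv F134975)) (tt N9180 (iv D20938)) (tt N12973 D26556) (tt N12749 (iv F115995)) (tt N11003 F94100))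
theorem Q11005 : ∀ i, i < 11005 → P i := stepQ 11004 Q11004 (allL N11004 (tt N12146 (iv F110736)) (tt N11391 (iv F134974)) (tt N9182 F94101) (tt N9203 F94102) (tt N11623 (iv F135011)) (tt N9181 (iv D20939)) (tt N9187 F94103) (tt N12974 D26558) (tt N12975 D26559) (tt N11004 F94104))
theorem Q11006 : ∀ i, i < 11006 → P i := stepQ 11005 Q11005 (allL N11005 (tt N12147 (iv F110741)) (tt N12973 (iv F118612)) (tt N9183 F94105) (tt N9204 F94106) (tt N12965 (iv F118552)) (tt N12974 (iv F118620)) (tt N12962 (iv F134998)) (tt N9181 (iv D20940)) (tt N12751 (iv F116001)) (tt N11005 F94107))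
theorem Q11007 : ∀ i, i < 11007 → P i := stepQ 11006 Q11006 (allL N11006 (tt N12148 (iv F110745)) (tt N11570 (iv F134995)) (tt N11623 (iv F135010)) (tt N11006 F94108) (tt N9182 (iv D20941)) (tt N12966 (iv F118555)) (tt N9188 F94109) (tt N12976 D26560) (tt N12977 D26561) (tt N11006 F94110))
theorem Q11008 : ∀ i, i < 11008 → P i := stepQ 11007 Q11007 (allL N11007 (tt N12149 (iv F110749)) (tt N12962 (iv F118221)) (tt N12974 (iv F118618)) (tt N9184 F94111) (tt N12976 (iv F118626)) (tt N9183 F94112) (tt N12973 (iv F135007)) (tt N9182 (iv D20942)) (tt N12978 D26563) (tt N11007 F94113))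
theorem Q11009 : ∀ i, i < 11009 → P i := stepQ 11008 Q11008 (allL N11008 (tt N12150 (iv F110753)) (tt N12738 (iv F134796)) (tt N12975 (iv F118622)) (tt N9185 F94114) (tt N12977 (iv F118629)) (tt N12754 (iv F116006)) (tt N9189 F94115) (tt N12978 (iv F118635)) (tt N9182 (iv D20943)) (tt N12979 D26564))
theorem Q11010 : ∀ i, i < 11010 → P i := stepQ 11009 Q11009 (allL N11009 (tt N12151 (iv F110756)) (tt N9204 (iv F134999)) (tt N9208 F94116) (tt N12973 (iv F135006)) (tt N11009 F94117) (tt N11407 (iv F135004)) (tt N9184 (iv D20944)) (tt N9190 F94118) (tt N12824 (iv F134782)) (tt N11009 F94119))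
theorem Q11011 : ∀ i, i < 11011 → P i := stepQ 11010 Q11010 (allL N11010 (tt N12152 (iv F110761)) (tt N12810 (iv F134799)) (tt N9209 F94120) (tt N12978 (iv F118634)) (tt N11010 F94121) (tt N12756 (iv F116011)) (tt N12824 (iv F134781)) (tt N9185 F94122) (tt N9184 (iv D20945)) (tt N12980 D26566))
theorem Q11012 : ∀ i, i < 11012 → P i := stepQ 11011 Q11011 (allL N11011 (tt N12153 (iv F110765)) (tt N11477 (iv F134760)) (tt N9210 F94123) (tt N12979 (iv F118636)) (tt N11011 F94124) (tt N12757 (iv F116014)) (tt N9191 F94125) (tt N12980 (iv F118645)) (tt N11011 F94126) (tt N9185 (iv D20946)))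
theorem Q11013 : ∀ i, i < 11013 → P i := stepQ 11012 Q11012 (allL N11012 (tt N12157 (iv F110867)) (tt N11387 (iv F134748)) (tt N9189 F94202) (tt N9211 F94203) (tt N11610 (iv F135013)) (tt N9195 F94204) (tt N12975 (iv F118624)) (tt N12698 (iv F134749)) (tt N9187 (iv D20967)) (tt N12758 (iv F135064)))
theorem Q11014 : ∀ i, i < 11014 → P i := stepQ 11013 Q11013 (allL N11013 (tt N12159 (iv F110876)) (tt N11566 (iv F134795)) (tt N11610 (iv F135012)) (tt N11013 F94209) (tt N9189 F94210) (tt N12981 D26601) (tt N12977 (iv F118630)) (tt N12732 (iv F134775)) (tt N9188 (iv D20969)) (tt N12982 D26602))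
theorem Q11015 : ∀ i, i < 11015 → P i := stepQ 11014 Q11014 (allL N11014 (tt N12162 (iv F110886)) (tt N11453 (iv F134759)) (tt N12758 (iv F135062)) (tt N9191 F94216) (tt N12982 (iv F118770)) (tt N9197 F94217) (tt N12979 (iv F118637)) (tt N12743 (iv F134755)) (tt N11014 F94218) (tt N9189 (iv D20972)))
theorem Q11016 : ∀ i, i < 11016 → P i := stepQ 11015 Q11015 (allL N11015 (tt N12172 (iv F110977)) (tt N11775 (iv F133581)) (tt N9196 F94290) (tt N11015 F94291) (tt N9195 F94292) (tt N12983 D26636) (tt N12793 (iv F116178)) (tt N12305 (iv F134683)) (tt N9194 (iv D20994)) (tt N11779 (iv F135015)))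
theorem Q11017 : ∀ i, i < 11017 → P i := stepQ 11016 Q11016 (allL N11016 (tt N12175 (iv F110989)) (tt N11433 (iv F133570)) (tt N9197 F94299) (tt N9218 F94300) (tt N11779 (iv F135014)) (tt N12758 (iv F135063)) (tt N12795 (iv F116188)) (tt N12709 (iv F134750)) (tt N9227 F94301) (tt N9195 (iv D20997)))
theorem Q11018 : ∀ i, i < 11018 → P i := stepQ 11017 Q11017 (allL N11017 (tt N12176 (iv F111001)) (tt N11814 (iv F134695)) (tt N12983 (iv F118884)) (tt N9198 F94308) (tt N12981 (iv F118767)) (tt N9196 (iv D21000)) (tt N12984 D26644) (tt N12327 (iv F134694)) (tt N11017 F94309) (tt N11818 (iv F135016)))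
theorem Q11019 : ∀ i, i < 11019 → P i := stepQ 11018 Q11018 (allL N11018 (tt N12179 (iv F111041)) (tt N11884 (iv F134713)) (tt N11018 F94338) (tt N12984 (iv F118911)) (tt N11018 F94339) (tt N12802 (iv F116230)) (tt N9198 (iv D21010)) (tt N12985 D26655) (tt N11018 F94340) (tt N11890 (iv F135019)))
theorem Q11020 : ∀ i, i < 11020 → P i := stepQ 11019 Q11019 (allL N11019 (tt N12182 (iv F111135)) (tt N9417 F135190) (tt N12972 (iv F118600)) (tt N9406 F135191) (tt N11412 (iv F135443)) (tt N12813 (iv F116305)) (tt N11404 F135192) (tt N9202 F94410) (tt N9201 (iv D21029)) (tt N12587 (iv F135444)))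
theorem Q11021 : ∀ i, i < 11021 → P i := stepQ 11020 Q11020 (allL N11020 (tt N12185 (iv F111160)) (tt N11407 (iv F135002)) (tt N9206 F94430) (tt N12974 (iv F118619)) (tt N11399 (iv F135024)) (tt N9204 F94431) (tt N11394 (iv F134976)) (tt N9203 (iv D21035)) (tt N12986 D26693) (tt N11020 F94432))
theorem Q11022 : ∀ i, i < 11022 → P i := stepQ 11021 Q11021 (allL N11021 (tt N12186 (iv F111164)) (tt N11402 (iv F135003)) (tt N9207 F94433) (tt N12975 (iv F118623)) (tt N11415 (iv F135036)) (tt N12827 (iv F116366)) (tt N9211 F94434) (tt N12986 (iv F119079)) (tt N9203 (iv D21036)) (tt N12835 (iv F135052)))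
theorem Q11023 : ∀ i, i < 11023 → P i := stepQ 11022 Q11022 (allL N11022 (tt N12187 (iv F111173)) (tt N9484 (iv F134674)) (tt N11415 (iv F135035)) (tt N11022 F94441) (tt N9207 F94442) (tt N12987 D26697) (tt N9212 F94443) (tt N11410 (iv F135026)) (tt N9205 (iv D21038)) (tt N9489 (iv F135041)))
theorem Q11024 : ∀ i, i < 11024 → P i := stepQ 11023 Q11023 (allL N11023 (tt N12188 (iv F111183)) (tt N9551 F94448) (tt N12986 (iv F119078)) (tt N9209 F94449) (tt N11410 (iv F135025)) (tt N12831 (iv F116379)) (tt N11408 (iv F135048)) (tt N9207 F94450) (tt N9206 (iv D21040)) (tt N12988 D26700))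
theorem Q11025 : ∀ i, i < 11025 → P i := stepQ 11024 Q11024 (allL N11024 (tt N12189 (iv F111187)) (tt N9457 (iv F134677)) (tt N12835 (iv F135051)) (tt N9210 F94452) (tt N9489 (iv F135040)) (tt N12832 (iv F116383)) (tt N9214 F94453) (tt N12988 (iv F119107)) (tt N11024 F94454) (tt N9207 (iv D21041)))
theorem Q11026 : ∀ i, i < 11026 → P i := stepQ 11025 Q11025 (allL N11025 (tt N12190 (iv F111192)) (tt N9450 (iv F134526)) (tt N12824 (iv F134780)) (tt N11408 (iv F135047)) (tt N11025 F94456) (tt N12989 D26701) (tt N9209 F94457) (tt N9215 F94458) (tt N9208 (iv D21042)) (tt N12990 D26702))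
theorem Q11027 : ∀ i, i < 11027 → P i := stepQ 11026 Q11026 (allL N11026 (tt N12191 (iv F111197)) (tt N9552 F94459) (tt N12980 (iv F118643)) (tt N12988 (iv F119106)) (tt N11026 F94460) (tt N12834 (iv F116389)) (tt N12990 (iv F119113)) (tt N9210 F94461) (tt N11026 F94462) (tt N9209 (iv D21043)))
theorem Q11028 : ∀ i, i < 11028 → P i := stepQ 11027 Q11027 (allL N11027 (tt N12195 (iv F111369)) (tt N9303 (iv F134516)) (tt N12584 (iv F134979)) (tt N9216 F94596) (tt N9355 (iv F135042)) (tt N9220 F94597) (tt N11409 (iv F135050)) (tt N9214 F94598) (tt N11027 F94599) (tt N9213 (iv D21080)))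
theorem Q11029 : ∀ i, i < 11029 → P i := stepQ 11028 Q11028 (allL N11028 (tt N12196 (iv F111375)) (tt N9449 F135055) (tt N12823 F135056) (tt N11406 (iv F135045)) (tt N12991 D26753) (tt N9215 (iv D21081)) (tt N9221 F94601) (tt N12989 (iv F119110)) (tt N11403 (iv F135030)) (tt N12992 D26754))
theorem Q11030 : ∀ i, i < 11030 → P i := stepQ 11029 Q11029 (allL N11029 (tt N12197 (iv F111378)) (tt N9444 (iv F134527)) (tt N12814 (iv F134756)) (tt N11409 (iv F135049)) (tt N11029 F94603) (tt N12992 (iv F119301)) (tt N9216 F94604) (tt N12990 (iv F119114)) (tt N11029 F94605) (tt N9215 (iv D21082)))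
theorem Q11031 : ∀ i, i < 11031 → P i := stepQ 11030 Q11030 (allL N11030 (tt N12198 (iv F111454)) (tt N9426 (iv F134503)) (tt N12860 (iv F134786)) (tt N9407 (iv F134470)) (tt N12993 D26779) (tt N9217 (iv D21100)) (tt N11403 (iv F135029)) (tt N12874 (iv F116618)) (tt N9221 F94664) (tt N12806 (iv F135057)))
theorem Q11032 : ∀ i, i < 11032 → P i := stepQ 11031 Q11031 (allL N11031 (tt N12202 (iv F111493)) (tt N9429 (iv F134505)) (tt N12708 (iv F134751)) (tt N9221 F94697) (tt N11481 (iv F135065)) (tt N9219 (iv D21109)) (tt N11406 (iv F135046)) (tt N12876 (iv F116658)) (tt N9407 (iv F134471)) (tt N12994 D26789))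
theorem Q11033 : ∀ i, i < 11033 → P i := stepQ 11032 Q11032 (allL N11032 (tt N12203 (iv F111496)) (tt N9430 (iv F134519)) (tt N12726 (iv F134752)) (tt N9222 F94699) (tt N11032 F94700) (tt N12994 (iv F119422)) (tt N9220 F94701) (tt N12877 (iv F116663)) (tt N9231 F94702) (tt N9219 (iv D21110)))
theorem Q11034 : ∀ i, i < 11034 → P i := stepQ 11033 Q11033 (allL N11033 (tt N12204 (iv F111502)) (tt N9472 F135248) (tt N12859 F135249) (tt N12605 (iv F135508)) (tt N9221 (iv D21111)) (tt N9223 F94704) (tt N12991 (iv F119299)) (tt N12878 (iv F116667)) (tt N12993 (iv F119389)) (tt N12602 (iv F135511)))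
theorem Q11035 : ∀ i, i < 11035 → P i := stepQ 11034 Q11034 (allL N11034 (tt N12205 (iv F111505)) (tt N9464 F135251) (tt N12848 F135252) (tt N12994 (iv F119421)) (tt N12602 (iv F135510)) (tt N9222 F94706) (tt N12992 (iv F119302)) (tt N12879 (iv F116670)) (tt N12600 (iv F135514)) (tt N9221 (iv D21112)))
theorem Q11036 : ∀ i, i < 11036 → P i := stepQ 11035 Q11035 (allL N11035 (tt N11522 F134373) (tt N9515 F134374) (tt N11509 F134375) (tt N11369 (iv F135069)) (tt N9228 (iv D21327)) (tt N11035 F95574) (tt N11035 F95575) (tt N12958 (iv F117887)) (tt N9232 F95576) (tt N12661 (iv F135067)))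
theorem Q11037 : ∀ i, i < 11037 → P i := stepQ 11036 Q11036 (allL N11036 (tt N12213 (iv F112514)) (tt N9511 F134376) (tt N12949 (iv F134946)) (tt N9505 F134377) (tt N12661 (iv F135066)) (tt N9229 F95578) (tt N11036 F95579) (tt N12959 (iv F117891)) (tt N12659 (iv F135068)) (tt N9228 (iv D21328)))
theorem Q11038 : ∀ i, i < 11038 → P i := stepQ 11037 Q11037 (allL N11037 (tt N12215 (iv F112553)) (tt N9519 F134379) (tt N11520 (iv F134884)) (tt N9233 F95610) (tt N11374 F134380) (tt N9231 F95611) (tt N11037 F95612) (tt N12960 (iv F117925)) (tt N12651 (iv F135074)) (tt N9230 (iv D21337)))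
theorem Q11039 : ∀ i, i < 11039 → P i := stepQ 11038 Q11038 (allL N11038 (tt N9245 F96010) (tt N12995 D27103) (tt N9234 (iv D21413)) (tt N12449 (iv F114467)) (tt N11038 F96011) (tt N11657 (iv F107088)) (tt N12996 D27104) (tt N11643 (iv F107017)) (tt N9240 F96012) (tt N11639 (iv F106996)))
theorem Q11040 : ∀ i, i < 11040 → P i := stepQ 11039 Q11039 (allL N11039 (tt N9246 F96013) (tt N11039 F96014) (tt N12996 (iv F120814)) (tt N9235 F96015) (tt N11039 F96016) (tt N12997 D27105) (tt N9234 (iv D21414)) (tt N12998 D27106) (tt N9241 F96017) (tt N11640 (iv F107002)))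
theorem Q11041 : ∀ i, i < 11041 → P i := stepQ 11040 Q11040 (allL N11040 (tt N9247 F96018) (tt N11040 F96019) (tt N12451 (iv F114473)) (tt N12997 (iv F120819)) (tt N9402 F96020) (tt N9235 (iv D21415)) (tt N11659 (iv F107101)) (tt N12999 D27107) (tt N11907 (iv F135406)) (tt N11641 (iv F107007)))
theorem Q11042 : ∀ i, i < 11042 → P i := stepQ 11041 Q11041 (allL N11041 (tt N9248 F96021) (tt N11041 F96022) (tt N12452 (iv F114476)) (tt N12998 (iv F120822)) (tt N9236 F96023) (tt N12999 (iv F120828)) (tt N11646 (iv F107034)) (tt N9235 (iv D21416)) (tt N9243 F96024) (tt N11642 (iv F107013)))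
theorem Q11043 : ∀ i, i < 11043 → P i := stepQ 11042 Q11042 (allL N11042 (tt N9249 F96025) (tt N13000 D27109) (tt N9237 (iv D21417)) (tt N12098 (iv F110363)) (tt N11042 F96026) (tt N11042 F96027) (tt N13001 D27110) (tt N9240 F96028) (tt N11643 (iv F107018)) (tt N11042 F96029))
theorem Q11044 : ∀ i, i < 11044 → P i := stepQ 11043 Q11043 (allL N11043 (tt N9250 F96030) (tt N11043 F96031) (tt N13001 (iv F120839)) (tt N9238 F96032) (tt N11043 F96033) (tt N13002 D27111) (tt N9237 (iv D21418)) (tt N13003 D27112) (tt N11644 (iv F107024)) (tt N11043 F96034))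
theorem Q11045 : ∀ i, i < 11045 → P i := stepQ 11044 Q11044 (allL N11044 (tt N9251 F96035) (tt N11044 F96036) (tt N12100 (iv F110375)) (tt N13002 (iv F120844)) (tt N11044 F96037) (tt N9238 (iv D21419)) (tt N11044 F96038) (tt N13004 D27113) (tt N13005 D27114) (tt N11044 F96039))
theorem Q11046 : ∀ i, i < 11046 → P i := stepQ 11045 Q11045 (allL N11045 (tt N9252 F96040) (tt N11045 F96041) (tt N12101 (iv F110381)) (tt N13003 (iv F120849)) (tt N9239 F96042) (tt N13004 (iv F120856)) (tt N9243 F96043) (tt N9238 (iv D21420)) (tt N11646 (iv F107035)) (tt N11045 F96044))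
theorem Q11047 : ∀ i, i < 11047 → P i := stepQ 11046 Q11046 (allL N11046 (tt N13006 D27115) (tt N9240 (iv D21421)) (tt N11046 F96045) (tt N12453 (iv F114479)) (tt N11046 F96046) (tt N11046 F96047) (tt N13007 D27116) (tt N13000 (iv F120836)) (tt N12995 (iv F120812)) (tt N11046 F96048))
theorem Q11048 : ∀ i, i < 11048 → P i := stepQ 11047 Q11047 (allL N11047 (tt N9254 F96049) (tt N13007 (iv F120867)) (tt N9241 F96050) (tt N12454 (iv F114484)) (tt N11047 F96051) (tt N13008 D27117) (tt N9240 (iv D21422)) (tt N13009 D27118) (tt N12996 (iv F120816)) (tt N11047 F96052))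
theorem Q11049 : ∀ i, i < 11049 → P i := stepQ 11048 Q11048 (allL N11048 (tt N9255 F96053) (tt N11048 F96054) (tt N13008 (iv F120872)) (tt N9242 F96055) (tt N11952 (iv F135585)) (tt N9241 (iv D21423)) (tt N11048 F96056) (tt N13010 D27120) (tt N11950 (iv F135530)) (tt N11048 F96057))
theorem Q11050 : ∀ i, i < 11050 → P i := stepQ 11049 Q11049 (allL N11049 (tt N9256 F96058) (tt N11049 F96059) (tt N13009 (iv F120876)) (tt N9243 F96060) (tt N11049 F96061) (tt N13010 (iv F120888)) (tt N13003 (iv F120851)) (tt N9241 (iv D21424)) (tt N12998 (iv F120824)) (tt N11049 F96062))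
theorem Q11051 : ∀ i, i < 11051 → P i := stepQ 11050 Q11050 (allL N11050 (tt N9257 F96063) (tt N11050 F96064) (tt N12457 (iv F114494)) (tt N13010 (iv F120887)) (tt N9244 F96065) (tt N9243 F96066) (tt N13011 D27122) (tt N9242 (iv D21425)) (tt N11957 (iv F135531)) (tt N11050 F96067))
theorem Q11052 : ∀ i, i < 11052 → P i := stepQ 11051 Q11051 (allL N11051 (tt N9258 F96103) (tt N11051 F96104) (tt N12460 (iv F114530)) (tt N11959 (iv F135584)) (tt N13011 (iv F120896)) (tt N11051 F96105) (tt N9244 (iv D21433)) (tt N11051 F96106) (tt N11958 (iv F135532)) (tt N11051 F96107))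
theorem Q11053 : ∀ i, i < 11053 → P i := stepQ 11052 Q11052 (allL N11052 (tt N13012 D27137) (tt N9245 (iv D21436)) (tt N9271 F96117) (tt N12473 (iv F114604)) (tt N11052 F96118) (tt N12590 (iv F115064)) (tt N13013 D27138) (tt N12568 (iv F114974)) (tt N9253 F96119) (tt N12562 (iv F114948)))
theorem Q11054 : ∀ i, i < 11054 → P i := stepQ 11053 Q11053 (allL N11053 (tt N12996 (iv F120813)) (tt N13013 (iv F120971)) (tt N9246 F96120) (tt N12474 (iv F114607)) (tt N11053 F96121) (tt N13014 D27139) (tt N9245 (iv D21437)) (tt N13015 D27140) (tt N9254 F96122) (tt N12563 (iv F114952)))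
theorem Q11055 : ∀ i, i < 11055 → P i := stepQ 11054 Q11054 (allL N11054 (tt N12997 (iv F120817)) (tt N9273 F96123) (tt N13014 (iv F120975)) (tt N9247 F96124) (tt N12840 (iv F135414)) (tt N9246 (iv D21438)) (tt N12592 (iv F115074)) (tt N13016 D27142) (tt N12838 (iv F135429)) (tt N12564 (iv F114956)))
theorem Q11056 : ∀ i, i < 11056 → P i := stepQ 11055 Q11055 (allL N11055 (tt N12998 (iv F120820)) (tt N9274 F96125) (tt N13015 (iv F120976)) (tt N9248 F96126) (tt N11055 F96127) (tt N13016 (iv F120984)) (tt N12571 (iv F114988)) (tt N9246 (iv D21439)) (tt N9256 F96128) (tt N12565 (iv F114962)))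
theorem Q11057 : ∀ i, i < 11057 → P i := stepQ 11056 Q11056 (allL N11056 (tt N12999 (iv F120825)) (tt N9275 F96129) (tt N12477 (iv F114615)) (tt N13016 (iv F120983)) (tt N9411 F96130) (tt N9248 F96131) (tt N13017 D27144) (tt N9247 (iv D21440)) (tt N12844 (iv F135424)) (tt N12566 (iv F114966)))
theorem Q11058 : ∀ i, i < 11058 → P i := stepQ 11057 Q11057 (allL N11057 (tt N13018 D27147) (tt N9249 (iv D21442)) (tt N9277 F96135) (tt N12479 (iv F114623)) (tt N11057 F96136) (tt N11057 F96137) (tt N13019 D27148) (tt N9253 F96138) (tt N12568 (iv F114975)) (tt N11057 F96139))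
theorem Q11059 : ∀ i, i < 11059 → P i := stepQ 11058 Q11058 (allL N11058 (tt N13001 (iv F120838)) (tt N13019 (iv F121002)) (tt N9250 F96140) (tt N12480 (iv F114628)) (tt N11058 F96141) (tt N13020 D27149) (tt N9249 (iv D21443)) (tt N13021 D27150) (tt N12569 (iv F114979)) (tt N11058 F96142))
theorem Q11060 : ∀ i, i < 11060 → P i := stepQ 11059 Q11059 (allL N11059 (tt N13002 (iv F120842)) (tt N9279 F96143) (tt N13020 (iv F121006)) (tt N9251 F96144) (tt N13022 D27151) (tt N9250 (iv D21444)) (tt N11059 F96145) (tt N13023 D27152) (tt N13024 D27153) (tt N11059 F96146))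
theorem Q11061 : ∀ i, i < 11061 → P i := stepQ 11060 Q11060 (allL N11060 (tt N13003 (iv F120847)) (tt N9280 F96147) (tt N13021 (iv F121009)) (tt N9252 F96148) (tt N11060 F96149) (tt N13023 (iv F121021)) (tt N9256 F96150) (tt N9250 (iv D21445)) (tt N12571 (iv F114989)) (tt N11060 F96151))
theorem Q11062 : ∀ i, i < 11062 → P i := stepQ 11061 Q11061 (allL N11061 (tt N13004 (iv F120853)) (tt N9281 F96152) (tt N12483 (iv F114639)) (tt N13023 (iv F121020)) (tt N11061 F96153) (tt N9252 F96154) (tt N13025 D27154) (tt N9251 (iv D21446)) (tt N13026 D27155) (tt N11061 F96155))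
theorem Q11063 : ∀ i, i < 11063 → P i := stepQ 11062 Q11062 (allL N11062 (tt N13005 (iv F120858)) (tt N9282 F96156) (tt N12484 (iv F114644)) (tt N13024 (iv F121024)) (tt N11062 F96157) (tt N12573 (iv F114997)) (tt N11062 F96158) (tt N13026 (iv F121035)) (tt N9251 (iv D21447)) (tt N13027 D27156))
theorem Q11064 : ∀ i, i < 11064 → P i := stepQ 11063 Q11063 (allL N11063 (tt N9253 (iv D21448)) (tt N13006 (iv F120862)) (tt N9283 F96159) (tt N12485 (iv F114648)) (tt N11063 F96160) (tt N11063 F96161) (tt N13028 D27157) (tt N13018 (iv F121000)) (tt N13012 (iv F120970)) (tt N11063 F96162))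
theorem Q11065 : ∀ i, i < 11065 → P i := stepQ 11064 Q11064 (allL N11064 (tt N13028 (iv F121041)) (tt N9254 F96163) (tt N9284 F96164) (tt N12486 (iv F114653)) (tt N11064 F96165) (tt N13029 D27158) (tt N9253 (iv D21449)) (tt N13030 D27159) (tt N13013 (iv F120974)) (tt N11064 F96166))
theorem Q11066 : ∀ i, i < 11066 → P i := stepQ 11065 Q11065 (allL N11065 (tt N13008 (iv F120871)) (tt N13029 (iv F121045)) (tt N9255 F96167) (tt N12487 (iv F114656)) (tt N12885 (iv F135591)) (tt N9254 (iv D21450)) (tt N11065 F96168) (tt N13031 D27161) (tt N12883 (iv F135533)) (tt N11065 F96169))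
theorem Q11067 : ∀ i, i < 11067 → P i := stepQ 11066 Q11066 (allL N11066 (tt N13009 (iv F120875)) (tt N13030 (iv F121049)) (tt N9256 F96170) (tt N12488 (iv F114660)) (tt N11066 F96171) (tt N13031 (iv F121058)) (tt N13021 (iv F121011)) (tt N9254 (iv D21451)) (tt N13015 (iv F120978)) (tt N11066 F96172))
theorem Q11068 : ∀ i, i < 11068 → P i := stepQ 11067 Q11067 (allL N11067 (tt N13010 (iv F120885)) (tt N9288 F96178) (tt N13031 (iv F121057)) (tt N9257 F96179) (tt N12888 (iv F135589)) (tt N9256 F96180) (tt N13032 D27165) (tt N9255 (iv D21453)) (tt N12886 (iv F135535)) (tt N11067 F96181))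
theorem Q11069 : ∀ i, i < 11069 → P i := stepQ 11068 Q11068 (allL N11068 (tt N13011 (iv F120894)) (tt N9290 F96185) (tt N12492 (iv F114674)) (tt N13032 (iv F121072)) (tt N9258 F96186) (tt N13025 (iv F121030)) (tt N9257 (iv D21455)) (tt N11068 F96187) (tt N12890 (iv F135538)) (tt N11068 F96188))
theorem Q11070 : ∀ i, i < 11070 → P i := stepQ 11069 Q11069 (allL N11069 (tt N13033 D27184) (tt N9259 (iv D21468)) (tt N12590 (iv F115062)) (tt N9297 F96237) (tt N9361 F96238) (tt N9271 F96239) (tt N13034 D27185) (tt N9313 F96240) (tt N11069 F96241) (tt N9307 F96242))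
theorem Q11071 : ∀ i, i < 11071 → P i := stepQ 11070 Q11070 (allL N11070 (tt N11070 F96243) (tt N13034 (iv F121155)) (tt N9260 F96244) (tt N9298 F96245) (tt N9362 F96246) (tt N13035 D27186) (tt N9259 (iv D21469)) (tt N13036 D27187) (tt N11070 F96247) (tt N9308 F96248))
theorem Q11072 : ∀ i, i < 11072 → P i := stepQ 11071 Q11071 (allL N11071 (tt N11071 F96249) (tt N12592 (iv F115072)) (tt N13035 (iv F121161)) (tt N9261 F96250) (tt N13037 D27188) (tt N9260 (iv D21470)) (tt N9273 F96251) (tt N13038 D27189) (tt N13039 D27190) (tt N9309 F96252))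
theorem Q11073 : ∀ i, i < 11073 → P i := stepQ 11072 Q11072 (allL N11072 (tt N11072 F96253) (tt N12593 (iv F115076)) (tt N13036 (iv F121168)) (tt N9262 F96254) (tt N9364 F96255) (tt N13038 (iv F121183)) (tt N9316 F96256) (tt N9260 (iv D21471)) (tt N11072 F96257) (tt N9310 F96258))
theorem Q11074 : ∀ i, i < 11074 → P i := stepQ 11073 Q11073 (allL N11073 (tt N11073 F96259) (tt N12594 (iv F115082)) (tt N9301 F96260) (tt N13038 (iv F121182)) (tt N9418 F96261) (tt N9262 F96262) (tt N13040 D27191) (tt N9261 (iv D21472)) (tt N13041 D27192) (tt N9311 F96263))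
theorem Q11075 : ∀ i, i < 11075 → P i := stepQ 11074 Q11074 (allL N11074 (tt N11074 F96264) (tt N12595 (iv F115086)) (tt N9302 F96265) (tt N13039 (iv F121187)) (tt N9419 F96266) (tt N11074 F96267) (tt N9276 F96268) (tt N13041 (iv F121202)) (tt N9261 (iv D21473)) (tt N13042 D27193))
theorem Q11076 : ∀ i, i < 11076 → P i := stepQ 11075 Q11075 (allL N11075 (tt N13043 D27194) (tt N9263 (iv D21474)) (tt N12568 (iv F114971)) (tt N9307 F96269) (tt N11075 F96270) (tt N9313 F96271) (tt N13044 D27195) (tt N9271 F96272) (tt N9277 F96273) (tt N9297 F96274))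
theorem Q11077 : ∀ i, i < 11077 → P i := stepQ 11076 Q11076 (allL N11076 (tt N11076 F96275) (tt N13044 (iv F121217)) (tt N9264 F96276) (tt N9308 F96277) (tt N11076 F96278) (tt N13045 D27196) (tt N9263 (iv D21475)) (tt N13046 D27197) (tt N9278 F96279) (tt N9298 F96280))
theorem Q11078 : ∀ i, i < 11078 → P i := stepQ 11077 Q11077 (allL N11077 (tt N11077 F96281) (tt N12570 (iv F114981)) (tt N13045 (iv F121223)) (tt N9265 F96282) (tt N13047 D27198) (tt N9264 (iv D21476)) (tt N9315 F96283) (tt N13048 D27199) (tt N13049 D27200) (tt N9299 F96284))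
theorem Q11079 : ∀ i, i < 11079 → P i := stepQ 11078 Q11078 (allL N11078 (tt N11078 F96285) (tt N12571 (iv F114985)) (tt N13046 (iv F121230)) (tt N9266 F96286) (tt N11078 F96287) (tt N13048 (iv F121245)) (tt N9274 F96288) (tt N9264 (iv D21477)) (tt N9280 F96289) (tt N9300 F96290))
theorem Q11080 : ∀ i, i < 11080 → P i := stepQ 11079 Q11079 (allL N11079 (tt N11079 F96291) (tt N12572 (iv F114991)) (tt N9311 F96292) (tt N13048 (iv F121244)) (tt N9447 F96293) (tt N9266 F96294) (tt N13050 D27201) (tt N9265 (iv D21478)) (tt N13051 D27202) (tt N9301 F96295))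
theorem Q11081 : ∀ i, i < 11081 → P i := stepQ 11080 Q11080 (allL N11080 (tt N11080 F96296) (tt N12573 (iv F114995)) (tt N9312 F96297) (tt N13049 (iv F121249)) (tt N9448 F96298) (tt N9282 F96299) (tt N9318 F96300) (tt N13051 (iv F121264)) (tt N9265 (iv D21479)) (tt N13052 D27203))
theorem Q11082 : ∀ i, i < 11082 → P i := stepQ 11081 Q11081 (allL N11081 (tt N13053 D27204) (tt N9267 (iv D21480)) (tt N12562 (iv F114943)) (tt N9313 F96301) (tt N11081 F96302) (tt N9307 F96303) (tt N13054 D27205) (tt N9297 F96304) (tt N11081 F96305) (tt N9271 F96306))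
theorem Q11083 : ∀ i, i < 11083 → P i := stepQ 11082 Q11082 (allL N11082 (tt N11082 F96307) (tt N13054 (iv F121279)) (tt N9268 F96308) (tt N9314 F96309) (tt N11082 F96310) (tt N13055 D27206) (tt N9267 (iv D21481)) (tt N13056 D27207) (tt N11082 F96311) (tt N9272 F96312))
theorem Q11084 : ∀ i, i < 11084 → P i := stepQ 11083 Q11083 (allL N11083 (tt N11083 F96313) (tt N12564 (iv F114953)) (tt N13055 (iv F121285)) (tt N9269 F96314) (tt N13057 D27208) (tt N9268 (iv D21482)) (tt N9309 F96315) (tt N13058 D27209) (tt N13059 D27210) (tt N9273 F96316))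
theorem Q11085 : ∀ i, i < 11085 → P i := stepQ 11084 Q11084 (allL N11084 (tt N11084 F96317) (tt N12565 (iv F114957)) (tt N13056 (iv F121292)) (tt N9270 F96318) (tt N11084 F96319) (tt N13058 (iv F121307)) (tt N9300 F96320) (tt N9268 (iv D21483)) (tt N11084 F96321) (tt N9274 F96322))
theorem Q11086 : ∀ i, i < 11086 → P i := stepQ 11085 Q11085 (allL N11085 (tt N11085 F96323) (tt N12566 (iv F114963)) (tt N9317 F96324) (tt N13058 (iv F121306)) (tt N9433 F96325) (tt N9270 F96326) (tt N13060 D27211) (tt N9269 (iv D21484)) (tt N13061 D27212) (tt N9275 F96327))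
theorem Q11087 : ∀ i, i < 11087 → P i := stepQ 11086 Q11086 (allL N11086 (tt N11086 F96328) (tt N12567 (iv F114967)) (tt N9318 F96329) (tt N13059 (iv F121311)) (tt N9434 F96330) (tt N11086 F96331) (tt N9312 F96332) (tt N13061 (iv F121326)) (tt N9269 (iv D21485)) (tt N13062 D27213))
theorem Q11088 : ∀ i, i < 11088 → P i := stepQ 11087 Q11087 (allL N11087 (tt N9271 (iv D21486)) (tt N11087 F96333) (tt N13012 (iv F120968)) (tt N9319 F96334) (tt N11087 F96335) (tt N13033 (iv F121151)) (tt N13063 D27214) (tt N13043 (iv F121214)) (tt N9283 F96336) (tt N13053 (iv F121278)))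
theorem Q11089 : ∀ i, i < 11089 → P i := stepQ 11088 Q11088 (allL N11088 (tt N13063 (iv F121334)) (tt N9272 F96337) (tt N13013 (iv F120972)) (tt N9320 F96338) (tt N11088 F96339) (tt N13064 D27215) (tt N9271 (iv D21487)) (tt N13065 D27216) (tt N9284 F96340) (tt N13054 (iv F121283)))
theorem Q11090 : ∀ i, i < 11090 → P i := stepQ 11089 Q11089 (allL N11089 (tt N11089 F96341) (tt N13064 (iv F121339)) (tt N9273 F96342) (tt N9321 F96343) (tt N13066 D27217) (tt N9272 (iv D21488)) (tt N13035 (iv F121164)) (tt N13067 D27218) (tt N13068 D27219) (tt N13055 (iv F121288)))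
theorem Q11091 : ∀ i, i < 11091 → P i := stepQ 11090 Q11090 (allL N11090 (tt N11090 F96344) (tt N13065 (iv F121341)) (tt N9274 F96345) (tt N9322 F96346) (tt N11090 F96347) (tt N13067 (iv F121355)) (tt N13046 (iv F121233)) (tt N9272 (iv D21489)) (tt N9286 F96348) (tt N13056 (iv F121297)))
theorem Q11092 : ∀ i, i < 11092 → P i := stepQ 11091 Q11091 (allL N11091 (tt N11091 F96349) (tt N12840 (iv F135413)) (tt N13066 (iv F121346)) (tt N9436 F96350) (tt N9273 (iv D21490)) (tt N11091 F96351) (tt N13037 (iv F121178)) (tt N13069 D27220) (tt N9458 F135237) (tt N13057 (iv F121303)))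
theorem Q11093 : ∀ i, i < 11093 → P i := stepQ 11092 Q11092 (allL N11092 (tt N11092 F96352) (tt N13016 (iv F120982)) (tt N13067 (iv F121353)) (tt N9275 F96353) (tt N13069 (iv F121365)) (tt N9274 F96354) (tt N13070 D27222) (tt N9273 (iv D21491)) (tt N13071 D27223) (tt N13058 (iv F121308)))
theorem Q11094 : ∀ i, i < 11094 → P i := stepQ 11093 Q11093 (allL N11093 (tt N11093 F96355) (tt N12838 (iv F135428)) (tt N13068 (iv F121357)) (tt N9276 F96356) (tt N9458 F135247) (tt N9289 F96357) (tt N13039 (iv F121190)) (tt N13071 (iv F121379)) (tt N9273 (iv D21492)) (tt N13072 D27224))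
theorem Q11095 : ∀ i, i < 11095 → P i := stepQ 11094 Q11094 (allL N11094 (tt N11094 F96358) (tt N13017 (iv F120988)) (tt N9326 F96359) (tt N13070 (iv F121375)) (tt N9438 F96360) (tt N13050 (iv F121257)) (tt N9275 (iv D21493)) (tt N13040 (iv F121196)) (tt N13073 D27225) (tt N13060 (iv F121321)))
theorem Q11096 : ∀ i, i < 11096 → P i := stepQ 11095 Q11095 (allL N11095 (tt N11095 F96361) (tt N12844 (iv F135423)) (tt N9327 F96362) (tt N13071 (iv F121377)) (tt N9439 F96363) (tt N9291 F96364) (tt N13073 (iv F121390)) (tt N9276 F96365) (tt N9275 (iv D21494)) (tt N13074 D27226))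
theorem Q11097 : ∀ i, i < 11097 → P i := stepQ 11096 Q11096 (allL N11096 (tt N11096 F96366) (tt N11484 (iv F135432)) (tt N9328 F96367) (tt N13072 (iv F121382)) (tt N9440 F96368) (tt N9292 F96369) (tt N13042 (iv F121208)) (tt N13074 (iv F121395)) (tt N13062 (iv F121333)) (tt N9276 (iv D21495)))
theorem Q11098 : ∀ i, i < 11098 → P i := stepQ 11097 Q11097 (allL N11097 (tt N9277 (iv D21496)) (tt N11097 F96370) (tt N13018 (iv F120997)) (tt N9329 F96371) (tt N11097 F96372) (tt N11097 F96373) (tt N13075 D27227) (tt N9283 F96374) (tt N13043 (iv F121215)) (tt N11097 F96375))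
theorem Q11099 : ∀ i, i < 11099 → P i := stepQ 11098 Q11098 (allL N11098 (tt N13075 (iv F121396)) (tt N9278 F96376) (tt N13019 (iv F121003)) (tt N9330 F96377) (tt N11098 F96378) (tt N12679 F115464) (tt N9277 (iv D21497)) (tt N13076 D27228) (tt N13044 (iv F121220)) (tt N11098 F96379))
theorem Q11100 : ∀ i, i < 11100 → P i := stepQ 11099 Q11099 (allL N11099 (tt N11099 F96380) (tt N12679 (iv F115459)) (tt N9279 F96381) (tt N9331 F96382) (tt N9383 (iv F96385)) (tt N9278 (iv D21498)) (tt N11099 F96383) (tt N13077 D27229) (tt N9381 (iv F96386)) (tt N11099 F96384))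
theorem Q11101 : ∀ i, i < 11101 → P i := stepQ 11100 Q11100 (allL N11100 (tt N11100 F96387) (tt N13076 (iv F121401)) (tt N9280 F96388) (tt N9332 F96389) (tt N11100 F96390) (tt N13077 (iv F121410)) (tt N9286 F96391) (tt N9278 (iv D21499)) (tt N13046 (iv F121234)) (tt N11100 F96392))
theorem Q11102 : ∀ i, i < 11102 → P i := stepQ 11101 Q11101 (allL N11101 (tt N11101 F96393) (tt N13022 (iv F121013)) (tt N9383 F96394) (tt N11101 F96395) (tt N9279 (iv D21500)) (tt N11101 F96396) (tt N11101 F96397) (tt N13078 D27230) (tt N9379 (iv F96399)) (tt N11101 F96398))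
theorem Q11103 : ∀ i, i < 11103 → P i := stepQ 11102 Q11102 (allL N11102 (tt N11102 F96400) (tt N13023 (iv F121019)) (tt N13077 (iv F121407)) (tt N9281 F96401) (tt N13078 (iv F121416)) (tt N9280 F96402) (tt N13079 D27231) (tt N9279 (iv D21501)) (tt N13080 D27232) (tt N11102 F96403))
theorem Q11104 : ∀ i, i < 11104 → P i := stepQ 11103 Q11103 (allL N11103 (tt N11103 F96404) (tt N13024 (iv F121023)) (tt N9381 F96405) (tt N9282 F96406) (tt N9379 F96407) (tt N13049 (iv F121251)) (tt N11103 F96408) (tt N13080 (iv F121429)) (tt N9279 (iv D21502)) (tt N9389 (iv F96409)))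
theorem Q11105 : ∀ i, i < 11105 → P i := stepQ 11104 Q11104 (allL N11104 (tt N11104 F96410) (tt N13025 (iv F121028)) (tt N9336 F96411) (tt N13079 (iv F121421)) (tt N11104 F96412) (tt N9290 F96413) (tt N9281 (iv D21503)) (tt N11104 F96414) (tt N13081 D27233) (tt N11104 F96415))
theorem Q11106 : ∀ i, i < 11106 → P i := stepQ 11105 Q11105 (allL N11105 (tt N11105 F96416) (tt N13026 (iv F121033)) (tt N9337 F96417) (tt N13080 (iv F121427)) (tt N11105 F96418) (tt N13051 (iv F121263)) (tt N13081 (iv F121434)) (tt N9282 F96419) (tt N9281 (iv D21504)) (tt N13082 D27234))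
theorem Q11107 : ∀ i, i < 11107 → P i := stepQ 11106 Q11106 (allL N11106 (tt N11106 F96420) (tt N13027 (iv F121036)) (tt N9338 F96421) (tt N9389 F96422) (tt N11106 F96423) (tt N13052 (iv F121269)) (tt N11106 F96424) (tt N13082 (iv F121440)) (tt N11106 F96425) (tt N9282 (iv D21505)))
theorem Q11108 : ∀ i, i < 11108 → P i := stepQ 11107 Q11107 (allL N11107 (tt N9284 F96426) (tt N11107 F96427) (tt N13028 (iv F121042)) (tt N9339 F96428) (tt N11107 F96429) (tt N13083 D27235) (tt N9283 (iv D21506)) (tt N13084 D27236) (tt N13063 (iv F121338)) (tt N11107 F96430))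
theorem Q11109 : ∀ i, i < 11109 → P i := stepQ 11108 Q11108 (allL N11108 (tt N13083 (iv F121442)) (tt N9285 F96431) (tt N13029 (iv F121046)) (tt N9340 F96432) (tt N13085 D27237) (tt N9284 (iv D21507)) (tt N11108 F96433) (tt N13086 D27238) (tt N13087 D27239) (tt N11108 F96434))
theorem Q11110 : ∀ i, i < 11110 → P i := stepQ 11109 Q11109 (allL N11109 (tt N13084 (iv F121447)) (tt N9286 F96435) (tt N13030 (iv F121050)) (tt N9341 F96436) (tt N11109 F96437) (tt N13086 (iv F121459)) (tt N13076 (iv F121404)) (tt N9284 (iv D21508)) (tt N13065 (iv F121344)) (tt N11109 F96438))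
theorem Q11111 : ∀ i, i < 11111 → P i := stepQ 11110 Q11110 (allL N11110 (tt N11110 F96439) (tt N13085 (iv F121452)) (tt N9287 F96440) (tt N11110 F96441) (tt N9285 (iv D21509)) (tt N11110 F96442) (tt N11110 F96443) (tt N13088 D27240) (tt N9490 (iv F135542)) (tt N11110 F96444))
theorem Q11112 : ∀ i, i < 11112 → P i := stepQ 11111 Q11111 (allL N11111 (tt N11111 F96445) (tt N13086 (iv F121457)) (tt N9288 F96446) (tt N9342 F96447) (tt N13088 (iv F121467)) (tt N9286 F96448) (tt N13089 D27242) (tt N9285 (iv D21510)) (tt N13090 D27243) (tt N11111 F96449))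
theorem Q11113 : ∀ i, i < 11113 → P i := stepQ 11112 Q11112 (allL N11112 (tt N11112 F96450) (tt N13087 (iv F121461)) (tt N9289 F96451) (tt N9343 F96452) (tt N9490 (iv F135541)) (tt N13068 (iv F121360)) (tt N11112 F96453) (tt N13090 (iv F121485)) (tt N9285 (iv D21511)) (tt N13091 D27244))
theorem Q11114 : ∀ i, i < 11114 → P i := stepQ 11113 Q11113 (allL N11113 (tt N11113 F96454) (tt N12888 (iv F135588)) (tt N13088 (iv F121465)) (tt N9293 F96455) (tt N9288 F96456) (tt N11113 F96457) (tt N13092 D27245) (tt N9287 (iv D21512)) (tt N9492 (iv F135544)) (tt N11113 F96458))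
theorem Q11115 : ∀ i, i < 11115 → P i := stepQ 11114 Q11114 (allL N11114 (tt N11114 F96463) (tt N13032 (iv F121071)) (tt N13089 (iv F121478)) (tt N9290 F96464) (tt N13092 (iv F121495)) (tt N13079 (iv F121422)) (tt N9288 (iv D21514)) (tt N11114 F96465) (tt N13093 D27249) (tt N11114 F96466))
theorem Q11116 : ∀ i, i < 11116 → P i := stepQ 11115 Q11115 (allL N11115 (tt N11115 F96467) (tt N12886 (iv F135534)) (tt N13090 (iv F121483)) (tt N9291 F96468) (tt N9492 (iv F135543)) (tt N13071 (iv F121378)) (tt N13093 (iv F121518)) (tt N9289 F96469) (tt N9288 (iv D21515)) (tt N13094 D27250))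
theorem Q11117 : ∀ i, i < 11117 → P i := stepQ 11116 Q11116 (allL N11116 (tt N11116 F96470) (tt N11418 (iv F135536)) (tt N13091 (iv F121487)) (tt N9292 F96471) (tt N9485 (iv F135445)) (tt N13072 (iv F121384)) (tt N11116 F96472) (tt N13094 (iv F121522)) (tt N11116 F96473) (tt N9289 (iv D21516)))
theorem Q11118 : ∀ i, i < 11118 → P i := stepQ 11117 Q11117 (allL N11117 (tt N11117 F96474) (tt N12890 (iv F135537)) (tt N9347 F96475) (tt N13093 (iv F121517)) (tt N9295 F96476) (tt N13095 D27251) (tt N9291 F96477) (tt N11117 F96478) (tt N9290 (iv D21517)) (tt N13096 D27252))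
theorem Q11119 : ∀ i, i < 11119 → P i := stepQ 11118 Q11118 (allL N11118 (tt N11118 F96479) (tt N11500 (iv F135539)) (tt N9348 F96480) (tt N13094 (iv F121521)) (tt N9296 F96481) (tt N13074 (iv F121394)) (tt N13096 (iv F121530)) (tt N9292 F96482) (tt N11118 F96483) (tt N9291 (iv D21518)))
theorem Q11120 : ∀ i, i < 11120 → P i := stepQ 11119 Q11119 (allL N11119 (tt N11119 F96484) (tt N12889 (iv F135590)) (tt N11119 F96485) (tt N13092 (iv F121494)) (tt N9294 F96486) (tt N13097 D27253) (tt N9293 (iv D21519)) (tt N11119 F96487) (tt N9493 (iv F135545)) (tt N11119 F96488))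
theorem Q11121 : ∀ i, i < 11121 → P i := stepQ 11120 Q11120 (allL N11120 (tt N11120 F96518) (tt N11501 (iv F135540)) (tt N9350 F96519) (tt N9494 (iv F135546)) (tt N13096 (iv F121529)) (tt N9496 (iv F135523)) (tt N9296 F96520) (tt N11120 F96521) (tt N11120 F96522) (tt N9295 (iv D21526)))
theorem Q11122 : ∀ i, i < 11122 → P i := stepQ 11121 Q11121 (allL N11121 (tt N9297 (iv D21527)) (tt N11121 F96523) (tt N12574 (iv F114999)) (tt N13033 (iv F121149)) (tt N11121 F96524) (tt N9319 F96525) (tt N13098 D27263) (tt N13053 (iv F121276)) (tt N11121 F96526) (tt N13043 (iv F121216)))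
theorem Q11123 : ∀ i, i < 11123 → P i := stepQ 11122 Q11122 (allL N11122 (tt N13098 (iv F121590)) (tt N9298 F96527) (tt N12575 (iv F115004)) (tt N13034 (iv F121156)) (tt N11122 F96528) (tt N13099 D27264) (tt N9297 (iv D21528)) (tt N13100 D27265) (tt N11122 F96529) (tt N13044 (iv F121221)))
theorem Q11124 : ∀ i, i < 11124 → P i := stepQ 11123 Q11123 (allL N11123 (tt N11123 F96530) (tt N13099 (iv F121594)) (tt N9299 F96531) (tt N13035 (iv F121162)) (tt N13101 D27266) (tt N9298 (iv D21529)) (tt N9321 F96532) (tt N13102 D27267) (tt N13103 D27268) (tt N13045 (iv F121227)))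
theorem Q11125 : ∀ i, i < 11125 → P i := stepQ 11124 Q11124 (allL N11124 (tt N11124 F96533) (tt N13100 (iv F121596)) (tt N9300 F96534) (tt N13036 (iv F121169)) (tt N11124 F96535) (tt N13102 (iv F121608)) (tt N13056 (iv F121295)) (tt N9298 (iv D21530)) (tt N11124 F96536) (tt N13046 (iv F121235)))
theorem Q11126 : ∀ i, i < 11126 → P i := stepQ 11125 Q11125 (allL N11125 (tt N11125 F96537) (tt N12578 (iv F115012)) (tt N13101 (iv F121600)) (tt N9451 F96538) (tt N9299 (iv D21531)) (tt N11125 F96539) (tt N9323 F96540) (tt N13104 D27269) (tt N13105 D27270) (tt N13047 (iv F121241)))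
theorem Q11127 : ∀ i, i < 11127 → P i := stepQ 11126 Q11126 (allL N11126 (tt N11126 F96541) (tt N12579 (iv F115016)) (tt N13102 (iv F121607)) (tt N9301 F96542) (tt N13104 (iv F121618)) (tt N9300 F96543) (tt N13106 D27271) (tt N9299 (iv D21532)) (tt N13107 D27272) (tt N13048 (iv F121246)))
theorem Q11128 : ∀ i, i < 11128 → P i := stepQ 11127 Q11127 (allL N11127 (tt N11127 F96544) (tt N12580 (iv F115019)) (tt N13103 (iv F121610)) (tt N9302 F96545) (tt N13105 (iv F121623)) (tt N11127 F96546) (tt N9325 F96547) (tt N13107 (iv F121633)) (tt N9299 (iv D21533)) (tt N13108 D27273))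
theorem Q11129 : ∀ i, i < 11129 → P i := stepQ 11128 Q11128 (allL N11128 (tt N11128 F96548) (tt N12581 (iv F115023)) (tt N13040 (iv F121193)) (tt N13106 (iv F121628)) (tt N9454 F96549) (tt N13060 (iv F121319)) (tt N9301 (iv D21534)) (tt N9326 F96550) (tt N13109 D27274) (tt N13050 (iv F121259)))
theorem Q11130 : ∀ i, i < 11130 → P i := stepQ 11129 Q11129 (allL N11129 (tt N11129 F96551) (tt N12582 (iv F115026)) (tt N13041 (iv F121199)) (tt N13107 (iv F121631)) (tt N9455 F96552) (tt N11129 F96553) (tt N13109 (iv F121643)) (tt N9302 F96554) (tt N9301 (iv D21535)) (tt N13110 D27275))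
theorem Q11131 : ∀ i, i < 11131 → P i := stepQ 11130 Q11130 (allL N11130 (tt N11130 F96555) (tt N12583 (iv F115030)) (tt N13042 (iv F121204)) (tt N13108 (iv F121636)) (tt N9456 F96556) (tt N11130 F96557) (tt N9328 F96558) (tt N13110 (iv F121648)) (tt N13052 (iv F121271)) (tt N9302 (iv D21536)))
theorem Q11132 : ∀ i, i < 11132 → P i := stepQ 11131 Q11131 (allL N11131 (tt N11131 F96565) (tt N11409 F135235) (tt N9304 F96566) (tt N9444 F96567) (tt N9356 F96568) (tt N13111 D27278) (tt N9303 (iv D21538)) (tt N13112 D27279) (tt N11131 F96569) (tt N9415 F96570))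
theorem Q11133 : ∀ i, i < 11133 → P i := stepQ 11132 Q11132 (allL N11132 (tt N11132 F96571) (tt N12586 (iv F115044)) (tt N13111 (iv F121662)) (tt N9305 F96572) (tt N13113 D27280) (tt N9304 (iv D21539)) (tt N9431 F96573) (tt N13114 D27281) (tt N13115 D27282) (tt N9416 F96574))
theorem Q11134 : ∀ i, i < 11134 → P i := stepQ 11133 Q11133 (allL N11133 (tt N11133 F96575) (tt N12587 (iv F115048)) (tt N13112 (iv F121669)) (tt N9306 F96576) (tt N9358 F96577) (tt N13114 (iv F121684)) (tt N9459 F96578) (tt N9304 (iv D21540)) (tt N11133 F96579) (tt N9417 F96580))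
theorem Q11135 : ∀ i, i < 11135 → P i := stepQ 11134 Q11134 (allL N11134 (tt N11134 F96581) (tt N12588 (iv F115054)) (tt N9447 F96582) (tt N13114 (iv F121683)) (tt N9311 F96583) (tt N9306 F96584) (tt N13116 D27283) (tt N9305 (iv D21541)) (tt N13117 D27284) (tt N9418 F96585))
theorem Q11136 : ∀ i, i < 11136 → P i := stepQ 11135 Q11135 (allL N11135 (tt N11135 F96586) (tt N12589 (iv F115058)) (tt N9448 F96587) (tt N13115 (iv F121688)) (tt N9312 F96588) (tt N11135 F96589) (tt N9434 F96590) (tt N13117 (iv F121703)) (tt N9305 (iv D21542)) (tt N13118 D27285))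
theorem Q11137 : ∀ i, i < 11137 → P i := stepQ 11136 Q11136 (allL N11136 (tt N9307 (iv D21543)) (tt N11136 F96591) (tt N12596 (iv F115090)) (tt N13043 (iv F121211)) (tt N9367 F96592) (tt N13053 (iv F121275)) (tt N13119 D27286) (tt N9319 F96593) (tt N9329 F96594) (tt N13033 (iv F121154)))
theorem Q11138 : ∀ i, i < 11138 → P i := stepQ 11137 Q11137 (allL N11137 (tt N13119 (iv F121711)) (tt N9308 F96595) (tt N12597 (iv F115095)) (tt N13044 (iv F121218)) (tt N9368 F96596) (tt N12853 (iv F116484)) (tt N9307 (iv D21544)) (tt N13120 D27287) (tt N9330 F96597) (tt N13034 (iv F121159)))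
theorem Q11139 : ∀ i, i < 11139 → P i := stepQ 11138 Q11138 (allL N11138 (tt N11138 F96598) (tt N12853 (iv F116482)) (tt N9309 F96599) (tt N13045 (iv F121224)) (tt N9468 F96600) (tt N9308 (iv D21545)) (tt N13055 (iv F121287)) (tt N13121 D27288) (tt N9466 F96601) (tt N13035 (iv F121165)))
theorem Q11140 : ∀ i, i < 11140 → P i := stepQ 11139 Q11139 (allL N11139 (tt N11139 F96602) (tt N13120 (iv F121715)) (tt N9310 F96603) (tt N13046 (iv F121231)) (tt N9370 F96604) (tt N13121 (iv F121722)) (tt N9322 F96605) (tt N9308 (iv D21546)) (tt N9332 F96606) (tt N13036 (iv F121173)))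
theorem Q11141 : ∀ i, i < 11141 → P i := stepQ 11140 Q11140 (allL N11140 (tt N11140 F96607) (tt N12600 (iv F115103)) (tt N9468 F96608) (tt N13113 (iv F121677)) (tt N9309 (iv D21547)) (tt N9371 F96609) (tt N13057 (iv F121302)) (tt N13122 D27289) (tt N9464 (iv F96610)) (tt N13037 (iv F121179)))
theorem Q11142 : ∀ i, i < 11142 → P i := stepQ 11141 Q11141 (allL N11141 (tt N11141 F96611) (tt N12601 (iv F115106)) (tt N13121 (iv F121720)) (tt N9311 F96612) (tt N13122 (iv F121726)) (tt N9310 F96613) (tt N13123 D27290) (tt N9309 (iv D21548)) (tt N13124 D27291) (tt N13038 (iv F121184)))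
theorem Q11143 : ∀ i, i < 11143 → P i := stepQ 11142 Q11142 (allL N11142 (tt N11142 F96614) (tt N12602 (iv F115109)) (tt N9466 F96615) (tt N9312 F96616) (tt N9464 F96617) (tt N9335 F96618) (tt N13059 (iv F121314)) (tt N13124 (iv F121737)) (tt N9309 (iv D21549)) (tt N9472 (iv F96619)))
theorem Q11144 : ∀ i, i < 11144 → P i := stepQ 11143 Q11143 (allL N11143 (tt N11143 F96620) (tt N12603 (iv F115114)) (tt N13050 (iv F121255)) (tt N13123 (iv F121730)) (tt N13116 (iv F121695)) (tt N9326 F96621) (tt N9311 (iv D21550)) (tt N13060 (iv F121320)) (tt N13125 D27292) (tt N13040 (iv F121197)))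
theorem Q11145 : ∀ i, i < 11145 → P i := stepQ 11144 Q11144 (allL N11144 (tt N11144 F96622) (tt N12604 (iv F115116)) (tt N13051 (iv F121261)) (tt N13124 (iv F121734)) (tt N13117 (iv F121701)) (tt N9337 F96623) (tt N13125 (iv F121740)) (tt N9312 F96624) (tt N9311 (iv D21551)) (tt N13126 D27293))
theorem Q11146 : ∀ i, i < 11146 → P i := stepQ 11145 Q11145 (allL N11145 (tt N11145 F96625) (tt N12605 (iv F115119)) (tt N13052 (iv F121266)) (tt N9472 F96626) (tt N13118 (iv F121707)) (tt N9338 F96627) (tt N13062 (iv F121332)) (tt N13126 (iv F121744)) (tt N13042 (iv F121209)) (tt N9312 (iv D21552)))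
theorem Q11147 : ∀ i, i < 11147 → P i := stepQ 11146 Q11146 (allL N11146 (tt N9313 (iv D21553)) (tt N11146 F96628) (tt N12606 (iv F115122)) (tt N13053 (iv F121273)) (tt N9377 F96629) (tt N13043 (iv F121213)) (tt N13127 D27294) (tt N13033 (iv F121152)) (tt N11146 F96630) (tt N9319 F96631))
theorem Q11148 : ∀ i, i < 11148 → P i := stepQ 11147 Q11147 (allL N11147 (tt N13127 (iv F121745)) (tt N9314 F96632) (tt N12607 (iv F115127)) (tt N13054 (iv F121280)) (tt N9378 F96633) (tt N13128 D27295) (tt N9313 (iv D21554)) (tt N13129 D27296) (tt N11147 F96634) (tt N9320 F96635))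
theorem Q11149 : ∀ i, i < 11149 → P i := stepQ 11148 Q11148 (allL N11148 (tt N11148 F96636) (tt N13128 (iv F121750)) (tt N9315 F96637) (tt N13055 (iv F121286)) (tt N13049 (iv F121250)) (tt N9314 (iv D21555)) (tt N13045 (iv F121225)) (tt N13130 D27297) (tt N13047 F121242) (tt N9321 F96638))
theorem Q11150 : ∀ i, i < 11150 → P i := stepQ 11149 Q11149 (allL N11149 (tt N11149 F96639) (tt N13129 (iv F121752)) (tt N9316 F96640) (tt N13056 (iv F121293)) (tt N9380 F96641) (tt N13130 (iv F121758)) (tt N13036 (iv F121171)) (tt N9314 (iv D21556)) (tt N11149 F96642) (tt N9322 F96643))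
theorem Q11151 : ∀ i, i < 11151 → P i := stepQ 11150 Q11150 (allL N11150 (tt N11150 F96644) (tt N12610 (iv F115137)) (tt N13049 (iv F121248)) (tt N9466 F96645) (tt N9315 (iv D21557)) (tt N9381 F96646) (tt N13047 (iv F121240)) (tt N13131 D27298) (tt N13045 (iv F121226)) (tt N9323 F96647))
theorem Q11152 : ∀ i, i < 11152 → P i := stepQ 11151 Q11151 (allL N11151 (tt N11151 F96648) (tt N12611 (iv F115141)) (tt N13130 (iv F121757)) (tt N9317 F96649) (tt N13131 (iv F121762)) (tt N9316 F96650) (tt N13132 D27299) (tt N9315 (iv D21558)) (tt N13133 D27300) (tt N9324 F96651))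
theorem Q11153 : ∀ i, i < 11153 → P i := stepQ 11152 Q11152 (allL N11152 (tt N11152 F96652) (tt N12612 (iv F115145)) (tt N13047 (iv F121237)) (tt N9318 F96653) (tt N13045 F121228) (tt N11152 F96654) (tt N13049 (iv F121252)) (tt N13133 (iv F121771)) (tt N9315 (iv D21559)) (tt N13101 (iv F121604)))
theorem Q11154 : ∀ i, i < 11154 → P i := stepQ 11153 Q11153 (allL N11153 (tt N11153 F96655) (tt N12613 (iv F115148)) (tt N13060 (iv F121317)) (tt N13132 (iv F121766)) (tt N9469 F96656) (tt N13040 (iv F121195)) (tt N9317 (iv D21560)) (tt N13050 (iv F121258)) (tt N13134 D27301) (tt N9326 F96657))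
theorem Q11155 : ∀ i, i < 11155 → P i := stepQ 11154 Q11154 (allL N11154 (tt N11154 F96658) (tt N12614 (iv F115151)) (tt N13061 (iv F121323)) (tt N13133 (iv F121769)) (tt N9470 F96659) (tt N11154 F96660) (tt N13134 (iv F121774)) (tt N9318 F96661) (tt N9317 (iv D21561)) (tt N13135 D27302))
theorem Q11156 : ∀ i, i < 11156 → P i := stepQ 11155 Q11155 (allL N11155 (tt N11155 F96662) (tt N12615 (iv F115155)) (tt N13062 (iv F121328)) (tt N13101 (iv F121601)) (tt N9471 F96663) (tt N11155 F96664) (tt N13052 (iv F121270)) (tt N13135 (iv F121778)) (tt N9328 F96665) (tt N9318 (iv D21562)))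
theorem Q11157 : ∀ i, i < 11157 → P i := stepQ 11156 Q11156 (allL N11156 (tt N9320 F96666) (tt N11156 F96667) (tt N12616 (iv F115160)) (tt N13063 (iv F121336)) (tt N9386 F96668) (tt N13136 D27303) (tt N9319 (iv D21563)) (tt N13137 D27304) (tt N9339 F96669) (tt N13127 (iv F121749)))
theorem Q11158 : ∀ i, i < 11158 → P i := stepQ 11157 Q11157 (allL N11157 (tt N13136 (iv F121780)) (tt N9321 F96670) (tt N12617 (iv F115164)) (tt N13064 (iv F121340)) (tt N13138 D27305) (tt N9320 (iv D21564)) (tt N13099 (iv F121595)) (tt N13139 D27306) (tt N13140 D27307) (tt N13128 (iv F121751)))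
theorem Q11159 : ∀ i, i < 11159 → P i := stepQ 11158 Q11158 (allL N11158 (tt N13137 (iv F121782)) (tt N9322 F96671) (tt N12618 (iv F115166)) (tt N13065 (iv F121342)) (tt N9388 F96672) (tt N13139 (iv F121789)) (tt N13120 (iv F121717)) (tt N9320 (iv D21565)) (tt N9341 F96673) (tt N13129 (iv F121755)))
theorem Q11160 : ∀ i, i < 11160 → P i := stepQ 11159 Q11159 (allL N11159 (tt N11159 F96674) (tt N13138 (iv F121786)) (tt N9323 F96675) (tt N13052 (iv F121267)) (tt N9321 (iv D21566)) (tt N9389 F96676) (tt N13101 (iv F121603)) (tt N13141 D27308) (tt N13108 (iv F121640)) (tt N13049 F121253))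
theorem Q11161 : ∀ i, i < 11161 → P i := stepQ 11160 Q11160 (allL N11160 (tt N11160 F96677) (tt N13139 (iv F121788)) (tt N9324 F96678) (tt N13067 (iv F121354)) (tt N13141 (iv F121794)) (tt N9322 F96679) (tt N13142 D27309) (tt N9321 (iv D21567)) (tt N13143 D27310) (tt N13130 (iv F121759)))
theorem Q11162 : ∀ i, i < 11162 → P i := stepQ 11161 Q11161 (allL N11161 (tt N11161 F96680) (tt N13140 (iv F121790)) (tt N9325 F96681) (tt N13068 (iv F121358)) (tt N13108 (iv F121637)) (tt N9343 F96682) (tt N13103 (iv F121614)) (tt N13143 (iv F121801)) (tt N9321 (iv D21568)) (tt N13105 (iv F121625)))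
theorem Q11163 : ∀ i, i < 11163 → P i := stepQ 11162 Q11162 (allL N11162 (tt N11162 F96683) (tt N12622 (iv F115175)) (tt N13141 (iv F121793)) (tt N9474 F96684) (tt N9324 F96685) (tt N9391 F96686) (tt N13144 D27311) (tt N9323 (iv D21569)) (tt N13145 D27312) (tt N13131 (iv F121764)))
theorem Q11164 : ∀ i, i < 11164 → P i := stepQ 11163 Q11163 (allL N11163 (tt N11163 F96687) (tt N12623 (iv F115179)) (tt N13108 (iv F121635)) (tt N9475 F96688) (tt N9325 F96689) (tt N11163 F96690) (tt N13105 (iv F121624)) (tt N13145 (iv F121809)) (tt N9323 (iv D21570)) (tt N13103 (iv F121615)))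
theorem Q11165 : ∀ i, i < 11165 → P i := stepQ 11164 Q11164 (allL N11164 (tt N11164 F96691) (tt N12624 (iv F115183)) (tt N13142 (iv F121797)) (tt N9326 F96692) (tt N13144 (iv F121804)) (tt N13123 (iv F121731)) (tt N9324 (iv D21571)) (tt N13106 (iv F121629)) (tt N13146 D27313) (tt N13132 (iv F121767)))
theorem Q11166 : ∀ i, i < 11166 → P i := stepQ 11165 Q11165 (allL N11165 (tt N11165 F96693) (tt N12625 (iv F115185)) (tt N13143 (iv F121799)) (tt N9327 F96694) (tt N13145 (iv F121807)) (tt N9345 F96695) (tt N13146 (iv F121812)) (tt N9325 F96696) (tt N9324 (iv D21572)) (tt N13147 D27314))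
theorem Q11167 : ∀ i, i < 11167 → P i := stepQ 11166 Q11166 (allL N11166 (tt N11166 F96697) (tt N12626 (iv F115189)) (tt N13105 (iv F121621)) (tt N9328 F96698) (tt N13103 (iv F121612)) (tt N9346 F96699) (tt N13108 (iv F121639)) (tt N13147 (iv F121816)) (tt N13101 F121605) (tt N9325 (iv D21573)))
theorem Q11168 : ∀ i, i < 11168 → P i := stepQ 11167 Q11167 (allL N11167 (tt N11167 F96700) (tt N12627 (iv F115192)) (tt N13073 (iv F121388)) (tt N13146 (iv F121811)) (tt N9479 F96701) (tt N13148 D27315) (tt N9327 F96702) (tt N13109 (iv F121644)) (tt N9326 (iv D21574)) (tt N13149 D27316))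
theorem Q11169 : ∀ i, i < 11169 → P i := stepQ 11168 Q11168 (allL N11168 (tt N11168 F96703) (tt N12628 (iv F115195)) (tt N13074 (iv F121392)) (tt N13147 (iv F121814)) (tt N9480 F96704) (tt N9348 F96705) (tt N13149 (iv F121821)) (tt N9328 F96706) (tt N13135 (iv F121779)) (tt N9327 (iv D21575)))
theorem Q11170 : ∀ i, i < 11170 → P i := stepQ 11169 Q11169 (allL N11169 (tt N9330 F96707) (tt N11169 F96708) (tt N12231 (iv F134926)) (tt N13075 (iv F121398)) (tt N9393 F96709) (tt N11963 F108860) (tt N9329 (iv D21576)) (tt N13150 D27317) (tt N13119 (iv F121714)) (tt N11169 F96710))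
theorem Q11171 : ∀ i, i < 11171 → P i := stepQ 11170 Q11170 (allL N11170 (tt N13150 (iv F121822)) (tt N9332 F96711) (tt N12629 (iv F115210)) (tt N13076 (iv F121402)) (tt N9394 F96712) (tt N12895 F116801) (tt N9341 F96713) (tt N9330 (iv D21577)) (tt N13120 (iv F121718)) (tt N11170 F96714))
theorem Q11172 : ∀ i, i < 11172 → P i := stepQ 11171 Q11171 (allL N11171 (tt N11171 F96715) (tt N12895 (iv F116797)) (tt N9334 F96716) (tt N13077 (iv F121408)) (tt N9497 F96717) (tt N9332 F96718) (tt N13151 D27318) (tt N9331 (iv D21578)) (tt N9495 F96719) (tt N11171 F96720))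
theorem Q11173 : ∀ i, i < 11173 → P i := stepQ 11172 Q11172 (allL N11172 (tt N11172 F96721) (tt N12632 (iv F115228)) (tt N9497 F96722) (tt N11172 F96723) (tt N9334 F96724) (tt N9396 F96725) (tt N13152 D27319) (tt N9333 (iv D21579)) (tt N9483 F135265) (tt N11172 F96727))
theorem Q11174 : ∀ i, i < 11174 → P i := stepQ 11173 Q11173 (allL N11173 (tt N11173 F96728) (tt N12633 (iv F115234)) (tt N13151 (iv F121828)) (tt N9336 F96729) (tt N13152 (iv F121837)) (tt N9344 F96730) (tt N9334 (iv D21580)) (tt N11173 F96731) (tt N13153 D27320) (tt N11173 F96732))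
theorem Q11175 : ∀ i, i < 11175 → P i := stepQ 11174 Q11174 (allL N11174 (tt N11174 F96733) (tt N12634 (iv F115239)) (tt N9495 F96734) (tt N9337 F96735) (tt N9483 F135263) (tt N13124 (iv F121736)) (tt N13153 (iv F121846)) (tt N9335 F96737) (tt N9334 (iv D21581)) (tt N9482 F135264))
theorem Q11176 : ∀ i, i < 11176 → P i := stepQ 11175 Q11175 (allL N11175 (tt N11175 F96739) (tt N12635 (iv F115244)) (tt N13081 (iv F121432)) (tt N13153 (iv F121844)) (tt N11175 F96740) (tt N13154 D27321) (tt N9337 F96741) (tt N11175 F96742) (tt N9336 (iv D21582)) (tt N13155 D27322))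
theorem Q11177 : ∀ i, i < 11177 → P i := stepQ 11176 Q11176 (allL N11176 (tt N11176 F96743) (tt N12636 (iv F115248)) (tt N13082 (iv F121437)) (tt N9482 F135262) (tt N11176 F96745) (tt N13126 (iv F121743)) (tt N13155 (iv F121855)) (tt N9338 F96746) (tt N11176 F96747) (tt N9337 (iv D21583)))
theorem Q11178 : ∀ i, i < 11178 → P i := stepQ 11177 Q11177 (allL N11177 (tt N9340 F96748) (tt N11177 F96749) (tt N12637 (iv F115254)) (tt N13083 (iv F121444)) (tt N11177 F96750) (tt N9339 (iv D21584)) (tt N11177 F96751) (tt N13156 D27323) (tt N13157 D27324) (tt N11177 F96752))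
theorem Q11179 : ∀ i, i < 11179 → P i := stepQ 11178 Q11178 (allL N11178 (tt N9341 F96753) (tt N11178 F96754) (tt N12638 (iv F115259)) (tt N13084 (iv F121449)) (tt N9399 F96755) (tt N13156 (iv F121861)) (tt N13150 (iv F121825)) (tt N9339 (iv D21585)) (tt N13137 (iv F121785)) (tt N11178 F96756))
theorem Q11180 : ∀ i, i < 11180 → P i := stepQ 11179 Q11179 (allL N11179 (tt N13156 (iv F121858)) (tt N9342 F96757) (tt N12639 (iv F115263)) (tt N13086 (iv F121458)) (tt N11179 F96758) (tt N9341 F96759) (tt N13158 D27325) (tt N9340 (iv D21586)) (tt N13159 D27326) (tt N11179 F96760))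
theorem Q11181 : ∀ i, i < 11181 → P i := stepQ 11180 Q11180 (allL N11180 (tt N13157 (iv F121863)) (tt N9343 F96761) (tt N12640 (iv F115268)) (tt N13087 (iv F121462)) (tt N11180 F96762) (tt N13140 (iv F121791)) (tt N11180 F96763) (tt N13159 (iv F121873)) (tt N9340 (iv D21587)) (tt N13160 D27327))
theorem Q11182 : ∀ i, i < 11182 → P i := stepQ 11181 Q11181 (allL N11181 (tt N11181 F96764) (tt N13158 (iv F121867)) (tt N9344 F96765) (tt N13089 (iv F121479)) (tt N11181 F96766) (tt N13151 (iv F121830)) (tt N9342 (iv D21588)) (tt N11181 F96767) (tt N13161 D27328) (tt N11181 F96768))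
theorem Q11183 : ∀ i, i < 11183 → P i := stepQ 11182 Q11182 (allL N11182 (tt N11182 F96769) (tt N13159 (iv F121871)) (tt N9345 F96770) (tt N13090 (iv F121484)) (tt N11182 F96771) (tt N13143 (iv F121800)) (tt N13161 (iv F121881)) (tt N9343 F96772) (tt N9342 (iv D21589)) (tt N13162 D27329))
theorem Q11184 : ∀ i, i < 11184 → P i := stepQ 11183 Q11183 (allL N11183 (tt N11183 F96773) (tt N13160 (iv F121874)) (tt N9346 F96774) (tt N13091 (iv F121488)) (tt N11183 F96775) (tt N13105 F121626) (tt N11183 F96776) (tt N13162 (iv F121886)) (tt N11183 F96777) (tt N9343 (iv D21590)))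
theorem Q11185 : ∀ i, i < 11185 → P i := stepQ 11184 Q11184 (allL N11184 (tt N11184 F96778) (tt N12644 (iv F115282)) (tt N13161 (iv F121879)) (tt N9347 F96779) (tt N11184 F96780) (tt N13163 D27330) (tt N9345 F96781) (tt N11184 F96782) (tt N9344 (iv D21591)) (tt N13164 D27331))
theorem Q11186 : ∀ i, i < 11186 → P i := stepQ 11185 Q11185 (allL N11185 (tt N11185 F96783) (tt N12645 (iv F115287)) (tt N13162 (iv F121884)) (tt N9348 F96784) (tt N11185 F96785) (tt N13147 (iv F121815)) (tt N13164 (iv F121894)) (tt N9346 F96786) (tt N11185 F96787) (tt N9345 (iv D21592)))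
theorem Q11187 : ∀ i, i < 11187 → P i := stepQ 11186 Q11186 (allL N11186 (tt N11186 F96788) (tt N12646 (iv F115292)) (tt N13095 (iv F121525)) (tt N13163 (iv F121889)) (tt N13165 D27332) (tt N9347 (iv D21593)) (tt N13148 (iv F121818)) (tt N11186 F96789) (tt N13154 (iv F121851)) (tt N13166 D27333))
theorem Q11188 : ∀ i, i < 11188 → P i := stepQ 11187 Q11187 (allL N11187 (tt N11187 F96790) (tt N12647 (iv F115294)) (tt N13096 (iv F121528)) (tt N13164 (iv F121892)) (tt N9350 F96791) (tt N13166 (iv F121901)) (tt N9348 F96792) (tt N11187 F96793) (tt N11187 F96794) (tt N9347 (iv D21594)))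
theorem Q11189 : ∀ i, i < 11189 → P i := stepQ 11188 Q11188 (allL N11188 (tt N11188 F96795) (tt N12648 (iv F115299)) (tt N9499 (iv F135521)) (tt N13155 (iv F135524)) (tt N9349 (iv D21595)) (tt N13165 (iv F121898)) (tt N9482 F96796) (tt N11188 F96797) (tt N11188 F96798) (tt N13153 (iv F135527)))
theorem Q11190 : ∀ i, i < 11190 → P i := stepQ 11189 Q11189 (allL N11189 (tt N11189 F96799) (tt N12649 (iv F115303)) (tt N9496 (iv F135522)) (tt N11189 F96800) (tt N13153 (iv F135526)) (tt N9350 F96801) (tt N9483 F96802) (tt N11189 F96803) (tt N13152 (iv F135528)) (tt N9349 (iv D21596)))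
theorem Q11191 : ∀ i, i < 11191 → P i := stepQ 11190 Q11190 (allL N11190 (tt N11190 F96820) (tt N11412 (iv F105557)) (tt N11351 (iv F135488)) (tt N9354 F96821) (tt N9417 F96822) (tt N11360 (iv F135493)) (tt N9486 F96823) (tt N9352 (iv D21600)) (tt N9546 F96824) (tt N9358 F96825))
theorem Q11192 : ∀ i, i < 11192 → P i := stepQ 11191 Q11191 (allL N11191 (tt N11191 F96826) (tt N11413 (iv F105564)) (tt N11191 F96827) (tt N11360 (iv F135492)) (tt N9365 F96828) (tt N9354 F96829) (tt N13167 D27344) (tt N9353 (iv D21601)) (tt N11358 (iv F135577)) (tt N9359 F96830))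
theorem Q11193 : ∀ i, i < 11193 → P i := stepQ 11192 Q11192 (allL N11192 (tt N11192 F96848) (tt N11411 (iv F135598)) (tt N9358 F96849) (tt N11192 F96850) (tt N13112 (iv F121671)) (tt N11362 (iv F135571)) (tt N9491 F96851) (tt N9356 (iv D21606)) (tt N11192 F96852) (tt N11351 (iv F135491)))
theorem Q11194 : ∀ i, i < 11194 → P i := stepQ 11193 Q11193 (allL N11193 (tt N11193 F96853) (tt N12651 (iv F115320)) (tt N9522 (iv F96856)) (tt N9371 F96854) (tt N9357 (iv D21607)) (tt N13113 (iv F121678)) (tt N11193 F96855) (tt N13168 D27351) (tt N9519 F135308) (tt N9514 F135309))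
theorem Q11195 : ∀ i, i < 11195 → P i := stepQ 11194 Q11194 (allL N11194 (tt N11194 F96860) (tt N12652 (iv F115324)) (tt N11362 (iv F135569)) (tt N9359 F96861) (tt N13168 (iv F122002)) (tt N9358 F96862) (tt N13169 D27352) (tt N9357 (iv D21608)) (tt N11379 (iv F135360)) (tt N11360 (iv F135494)))
theorem Q11196 : ∀ i, i < 11196 → P i := stepQ 11195 Q11195 (allL N11195 (tt N11195 F96870) (tt N12653 (iv F115333)) (tt N11195 F96871) (tt N13169 (iv F122005)) (tt N9374 F96872) (tt N9493 F96873) (tt N9359 (iv D21610)) (tt N11195 F96874) (tt N13170 D27354) (tt N13167 (iv F121967)))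
theorem Q11197 : ∀ i, i < 11197 → P i := stepQ 11196 Q11196 (allL N11196 (tt N11196 F96875) (tt N12654 (iv F115337)) (tt N11196 F96876) (tt N11379 (iv F135359)) (tt N9375 F96877) (tt N11196 F96878) (tt N13170 (iv F122018)) (tt N9360 F96879) (tt N9359 (iv D21611)) (tt N11377 (iv F135356)))
theorem Q11198 : ∀ i, i < 11198 → P i := stepQ 11197 Q11197 (allL N11197 (tt N9361 (iv D21613)) (tt N11197 F96886) (tt N12655 (iv F115346)) (tt N11197 F96887) (tt N13033 (iv F121150)) (tt N11197 F96888) (tt N13171 D27356) (tt N9377 F96889) (tt N11197 F96890) (tt N9367 F96891))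
theorem Q11199 : ∀ i, i < 11199 → P i := stepQ 11198 Q11198 (allL N11198 (tt N13171 (iv F122026)) (tt N9362 F96892) (tt N12656 (iv F115352)) (tt N11198 F96893) (tt N13034 (iv F121157)) (tt N12944 (iv F117701)) (tt N9361 (iv D21614)) (tt N13172 D27357) (tt N11198 F96894) (tt N9368 F96895))
theorem Q11200 : ∀ i, i < 11200 → P i := stepQ 11199 Q11199 (allL N11199 (tt N11199 F96896) (tt N12944 (iv F117698)) (tt N9363 F96897) (tt N11199 F96898) (tt N9535 (iv F96901)) (tt N9362 (iv D21615)) (tt N11199 F96899) (tt N13173 D27358) (tt N9542 (iv F96902)) (tt N9369 F96900))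
theorem Q11201 : ∀ i, i < 11201 → P i := stepQ 11200 Q11200 (allL N11200 (tt N11200 F96903) (tt N13172 (iv F122031)) (tt N9364 F96904) (tt N11200 F96905) (tt N13036 (iv F121170)) (tt N13173 (iv F122040)) (tt N9380 F96906) (tt N9362 (iv D21616)) (tt N11200 F96907) (tt N9370 F96908))
theorem Q11202 : ∀ i, i < 11202 → P i := stepQ 11201 Q11201 (allL N11201 (tt N11201 F96909) (tt N12659 (iv F115362)) (tt N9535 F96910) (tt N9514 (iv F134608)) (tt N9363 (iv D21617)) (tt N13037 (iv F121177)) (tt N11201 F96911) (tt N13174 D27359) (tt N9511 F134392) (tt N9371 F96912))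
theorem Q11203 : ∀ i, i < 11203 → P i := stepQ 11202 Q11202 (allL N11202 (tt N11202 F96914) (tt N12660 (iv F115366)) (tt N13173 (iv F122037)) (tt N9365 F96915) (tt N13174 (iv F122045)) (tt N9364 F96916) (tt N13175 D27360) (tt N9363 (iv D21618)) (tt N13176 D27361) (tt N9372 F96917))
theorem Q11204 : ∀ i, i < 11204 → P i := stepQ 11203 Q11203 (allL N11203 (tt N11203 F96918) (tt N12661 (iv F115370)) (tt N9542 F96919) (tt N9366 F96920) (tt N9511 F134390) (tt N11203 F96922) (tt N11203 F96923) (tt N13176 (iv F122058)) (tt N9363 (iv D21619)) (tt N9515 F134391))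
theorem Q11205 : ∀ i, i < 11205 → P i := stepQ 11204 Q11204 (allL N11204 (tt N11204 F96925) (tt N12662 (iv F115376)) (tt N11204 F96926) (tt N13175 (iv F122049)) (tt N13167 (iv F121964)) (tt N9384 F96927) (tt N9365 (iv D21620)) (tt N11204 F96928) (tt N13177 D27362) (tt N9374 F96929))
theorem Q11206 : ∀ i, i < 11206 → P i := stepQ 11205 Q11205 (allL N11205 (tt N11205 F96930) (tt N12663 (iv F115380)) (tt N11205 F96931) (tt N13176 (iv F122055)) (tt N11358 (iv F135576)) (tt N11205 F96932) (tt N13177 (iv F122062)) (tt N9366 F96933) (tt N9365 (iv D21621)) (tt N11375 (iv F135093)))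
theorem Q11207 : ∀ i, i < 11207 → P i := stepQ 11206 Q11206 (allL N11206 (tt N9368 F96940) (tt N11206 F96941) (tt N12233 (iv F134934)) (tt N11206 F96942) (tt N13119 (iv F121713)) (tt N12058 (iv F109730)) (tt N9367 (iv D21623)) (tt N13178 D27364) (tt N9393 F96943) (tt N13171 (iv F122030)))
theorem Q11208 : ∀ i, i < 11208 → P i := stepQ 11207 Q11207 (allL N11207 (tt N13178 (iv F122070)) (tt N9370 F96944) (tt N12664 (iv F115397)) (tt N11207 F96945) (tt N13120 (iv F121716)) (tt N12943 (iv F117696)) (tt N9388 F96946) (tt N9368 (iv D21624)) (tt N9394 F96947) (tt N13172 (iv F122035)))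
theorem Q11209 : ∀ i, i < 11209 → P i := stepQ 11208 Q11208 (allL N11208 (tt N11208 F96948) (tt N12943 (iv F117693)) (tt N9372 F96949) (tt N11208 F96950) (tt N9534 F96951) (tt N9370 F96952) (tt N13179 D27365) (tt N9369 (iv D21625)) (tt N9532 F96953) (tt N13173 (iv F122042)))
theorem Q11210 : ∀ i, i < 11210 → P i := stepQ 11209 Q11209 (allL N11209 (tt N11209 F96954) (tt N12667 (iv F115412)) (tt N9534 F96955) (tt N13168 (iv F122001)) (tt N9372 F96956) (tt N13122 (iv F121727)) (tt N13180 D27366) (tt N9371 (iv D21626)) (tt N9531 F96957) (tt N13174 (iv F122047)))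
theorem Q11211 : ∀ i, i < 11211 → P i := stepQ 11210 Q11210 (allL N11210 (tt N11210 F96958) (tt N12668 (iv F115415)) (tt N13179 (iv F122076)) (tt N9374 F96959) (tt N13180 (iv F122084)) (tt N9392 F96960) (tt N9372 (iv D21627)) (tt N11210 F96961) (tt N13181 D27367) (tt N13175 (iv F122052)))
theorem Q11212 : ∀ i, i < 11212 → P i := stepQ 11211 Q11211 (allL N11211 (tt N11211 F96962) (tt N12669 (iv F115419)) (tt N9532 F96963) (tt N9375 F96964) (tt N9531 F96965) (tt N9397 F96966) (tt N13181 (iv F122092)) (tt N9373 F96967) (tt N9372 (iv D21628)) (tt N9538 (iv F96968)))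
theorem Q11213 : ∀ i, i < 11213 → P i := stepQ 11212 Q11212 (allL N11212 (tt N11212 F96969) (tt N12670 (iv F115425)) (tt N11212 F96970) (tt N13181 (iv F122089)) (tt N13170 (iv F122017)) (tt N11212 F96971) (tt N9375 F96972) (tt N11212 F96973) (tt N9374 (iv D21629)) (tt N13182 D27368))
theorem Q11214 : ∀ i, i < 11214 → P i := stepQ 11213 Q11213 (allL N11213 (tt N11213 F96974) (tt N12671 (iv F115429)) (tt N11213 F96975) (tt N9538 F96976) (tt N11377 (iv F135355)) (tt N9398 F96977) (tt N13182 (iv F122099)) (tt N9376 F96978) (tt N11375 (iv F135092)) (tt N9375 (iv D21630)))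
theorem Q11215 : ∀ i, i < 11215 → P i := stepQ 11214 Q11214 (allL N11214 (tt N9378 F96979) (tt N11214 F96980) (tt N12672 (iv F115434)) (tt N11214 F96981) (tt N13127 (iv F121747)) (tt N13183 D27369) (tt N9377 (iv D21631)) (tt N13184 D27370) (tt N11214 F96982) (tt N9386 F96983))
theorem Q11216 : ∀ i, i < 11216 → P i := stepQ 11215 Q11215 (allL N11215 (tt N13183 (iv F122101)) (tt N9379 F96984) (tt N12673 (iv F115438)) (tt N11215 F96985) (tt N13024 (iv F121025)) (tt N9378 (iv D21632)) (tt N11215 F96986) (tt N13185 D27371) (tt N13022 F121018) (tt N9387 F96987))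
theorem Q11217 : ∀ i, i < 11217 → P i := stepQ 11216 Q11216 (allL N11216 (tt N13184 (iv F122106)) (tt N9380 F96988) (tt N12674 (iv F115442)) (tt N11216 F96989) (tt N13129 (iv F121753)) (tt N13185 (iv F122113)) (tt N13172 (iv F122033)) (tt N9378 (iv D21633)) (tt N11216 F96990) (tt N9388 F96991))
theorem Q11218 : ∀ i, i < 11218 → P i := stepQ 11217 Q11217 (allL N11217 (tt N11217 F96992) (tt N13185 (iv F122111)) (tt N9382 F96993) (tt N11217 F96994) (tt N13080 (iv F121428)) (tt N9380 F96995) (tt N13186 D27372) (tt N9379 (iv D21634)) (tt N13078 (iv F121418)) (tt N9390 F96996))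
theorem Q11219 : ∀ i, i < 11219 → P i := stepQ 11218 Q11218 (allL N11218 (tt N11218 F96997) (tt N12678 (iv F115455)) (tt N13080 (iv F121426)) (tt N9495 F96998) (tt N9382 F96999) (tt N13131 (iv F121763)) (tt N13187 D27373) (tt N9381 (iv D21635)) (tt N13077 (iv F121411)) (tt N9391 F97000))
theorem Q11220 : ∀ i, i < 11220 → P i := stepQ 11219 Q11219 (allL N11219 (tt N11219 F97001) (tt N12680 (iv F115465)) (tt N13186 (iv F122116)) (tt N9384 F97002) (tt N13187 (iv F122122)) (tt N13175 (iv F122050)) (tt N9382 (iv D21636)) (tt N11219 F97003) (tt N13188 D27374) (tt N9392 F97004))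
theorem Q11221 : ∀ i, i < 11221 → P i := stepQ 11220 Q11220 (allL N11220 (tt N11220 F97005) (tt N12681 (iv F115469)) (tt N13078 (iv F121414)) (tt N9385 F97006) (tt N13077 (iv F121409)) (tt N11220 F97007) (tt N13188 (iv F122127)) (tt N9383 F97008) (tt N9382 (iv D21637)) (tt N11220 F97009))
theorem Q11222 : ∀ i, i < 11222 → P i := stepQ 11221 Q11221 (allL N11221 (tt N11221 F97010) (tt N12682 (iv F115474)) (tt N11221 F97011) (tt N13188 (iv F122126)) (tt N9498 F97012) (tt N13189 D27375) (tt N9385 F97013) (tt N11221 F97014) (tt N9384 (iv D21638)) (tt N11221 F97015))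
theorem Q11223 : ∀ i, i < 11223 → P i := stepQ 11222 Q11222 (allL N11222 (tt N9387 F97016) (tt N11222 F97017) (tt N12683 (iv F115480)) (tt N11222 F97018) (tt N13190 D27376) (tt N9386 (iv D21639)) (tt N11222 F97019) (tt N13191 D27377) (tt N11222 F97020) (tt N13183 (iv F122105)))
theorem Q11224 : ∀ i, i < 11224 → P i := stepQ 11223 Q11223 (allL N11223 (tt N9388 F97021) (tt N11223 F97022) (tt N12684 (iv F115484)) (tt N11223 F97023) (tt N13137 (iv F121784)) (tt N13191 (iv F122143)) (tt N13178 (iv F122073)) (tt N9386 (iv D21640)) (tt N9399 F97024) (tt N13184 (iv F122110)))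
theorem Q11225 : ∀ i, i < 11225 → P i := stepQ 11224 Q11224 (allL N11224 (tt N13190 (iv F122136)) (tt N9389 F97025) (tt N12685 (iv F115487)) (tt N13027 (iv F121037)) (tt N9387 (iv D21641)) (tt N13138 (iv F121787)) (tt N11224 F97026) (tt N13192 D27378) (tt N11224 F97027) (tt N13024 F121027))
theorem Q11226 : ∀ i, i < 11226 → P i := stepQ 11225 Q11225 (allL N11225 (tt N13191 (iv F122140)) (tt N9390 F97028) (tt N12686 (iv F115491)) (tt N11225 F97029) (tt N13192 (iv F122146)) (tt N9388 F97030) (tt N13193 D27379) (tt N9387 (iv D21642)) (tt N11225 F97031) (tt N13185 (iv F122114)))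
theorem Q11227 : ∀ i, i < 11227 → P i := stepQ 11226 Q11226 (allL N11226 (tt N11226 F97032) (tt N13192 (iv F122145)) (tt N9391 F97033) (tt N13082 (iv F121438)) (tt N9390 F97034) (tt N13141 (iv F121795)) (tt N13194 D27380) (tt N9389 (iv D21643)) (tt N11226 F97035) (tt N13080 F121430))
theorem Q11228 : ∀ i, i < 11228 → P i := stepQ 11227 Q11227 (allL N11227 (tt N11227 F97036) (tt N13193 (iv F122148)) (tt N9392 F97037) (tt N11227 F97038) (tt N13194 (iv F122154)) (tt N13179 (iv F122079)) (tt N9390 (iv D21644)) (tt N11227 F97039) (tt N11227 F97040) (tt N13186 (iv F122119)))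
theorem Q11229 : ∀ i, i < 11229 → P i := stepQ 11228 Q11228 (allL N11228 (tt N11228 F97041) (tt N12690 (iv F115503)) (tt N13194 (iv F122153)) (tt N9499 F97042) (tt N9392 F97043) (tt N13195 D27381) (tt N9391 (iv D21645)) (tt N11228 F97044) (tt N11228 F97045) (tt N13187 (iv F122124)))
theorem Q11230 : ∀ i, i < 11230 → P i := stepQ 11229 Q11229 (allL N11229 (tt N9394 F97046) (tt N11229 F97047) (tt N12232 (iv F134931)) (tt N11229 F97048) (tt N13150 (iv F121824)) (tt N12083 F110047) (tt N9399 F97049) (tt N9393 (iv D21646)) (tt N13178 (iv F122074)) (tt N11229 F97050))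
theorem Q11231 : ∀ i, i < 11231 → P i := stepQ 11230 Q11230 (allL N11230 (tt N9409 F97061) (tt N11230 F97062) (tt N12692 (iv F115540)) (tt N11911 (iv F135400)) (tt N11641 (iv F107005)) (tt N9400 (iv D21649)) (tt N11655 (iv F107078)) (tt N13196 D27386) (tt N12380 (iv F135558)) (tt N9402 F97063))
theorem Q11232 : ∀ i, i < 11232 → P i := stepQ 11231 Q11231 (allL N11231 (tt N9410 F97064) (tt N11231 F97065) (tt N12693 (iv F115543)) (tt N11933 (iv F135398)) (tt N9401 F97066) (tt N13196 (iv F122181)) (tt N11877 (iv F108313)) (tt N9400 (iv D21650)) (tt N9504 F97067) (tt N9403 F97068))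
theorem Q11233 : ∀ i, i < 11233 → P i := stepQ 11232 Q11232 (allL N11232 (tt N9411 F97084) (tt N11232 F97085) (tt N12696 (iv F115559)) (tt N11910 (iv F135397)) (tt N12999 (iv F120827)) (tt N9403 F97086) (tt N13197 D27395) (tt N9402 (iv D21655)) (tt N11908 (iv F135364)) (tt N13196 (iv F122182)))
theorem Q11234 : ∀ i, i < 11234 → P i := stepQ 11233 Q11233 (allL N11233 (tt N12264 (iv F113379)) (tt N9418 F97231) (tt N12702 (iv F115697)) (tt N12813 (iv F135418)) (tt N12594 (iv F115083)) (tt N9406 F97232) (tt N13198 D27441) (tt N9405 (iv D21689)) (tt N12811 (iv F135434)) (tt N12588 (iv F115057)))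
theorem Q11235 : ∀ i, i < 11235 → P i := stepQ 11234 Q11234 (allL N11234 (tt N12263 (iv F113351)) (tt N9428 F97250) (tt N12707 (iv F115717)) (tt N12874 (iv F134764)) (tt N11480 (iv F106040)) (tt N9408 F97251) (tt N13199 D27451) (tt N9407 (iv D21695)) (tt N12876 (iv F134787)) (tt N12808 (iv F116271)))
theorem Q11236 : ∀ i, i < 11236 → P i := stepQ 11235 Q11235 (allL N11235 (tt N13196 (iv F122179)) (tt N9433 F97270) (tt N12713 (iv F115738)) (tt N12847 (iv F135412)) (tt N12566 (iv F114964)) (tt N9410 F97271) (tt N13200 D27461) (tt N9409 (iv D21701)) (tt N13201 D27462) (tt N9411 F97272))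
theorem Q11237 : ∀ i, i < 11237 → P i := stepQ 11236 Q11236 (allL N11236 (tt N12380 (iv F135557)) (tt N9434 F97273) (tt N12714 (iv F115742)) (tt N11489 (iv F135422)) (tt N12567 (iv F114968)) (tt N9509 F97274) (tt N12589 (iv F115061)) (tt N13201 (iv F122472)) (tt N9409 (iv D21702)) (tt N11486 (iv F135437)))
theorem Q11238 : ∀ i, i < 11238 → P i := stepQ 11237 Q11237 (allL N11237 (tt N13197 (iv F122211)) (tt N9438 F97294) (tt N12721 (iv F115764)) (tt N12846 (iv F135410)) (tt N13017 (iv F120989)) (tt N13199 (iv F122437)) (tt N9411 (iv D21710)) (tt N13198 (iv F122408)) (tt N12845 (iv F135426)) (tt N13200 (iv F122469)))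
theorem Q11239 : ∀ i, i < 11239 → P i := stepQ 11238 Q11238 (allL N11238 (tt N11238 F97454) (tt N11403 (iv F105463)) (tt N9453 F135196) (tt N9413 F97455) (tt N13072 (iv F135448)) (tt N9412 (iv D21752)) (tt N9426 F97456) (tt N13202 D27529) (tt N9449 F135197) (tt N9458 F97457))
theorem Q11240 : ∀ i, i < 11240 → P i := stepQ 11239 Q11239 (allL N11239 (tt N11239 F97458) (tt N11404 (iv F105468)) (tt N9551 F135198) (tt N9414 F97459) (tt N9486 F97460) (tt N13202 (iv F122720)) (tt N9417 F97461) (tt N9412 (iv D21753)) (tt N9548 F97462) (tt N9459 F97463))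
theorem Q11241 : ∀ i, i < 11241 → P i := stepQ 11240 Q11240 (allL N11240 (tt N11240 F97464) (tt N11405 (iv F105475)) (tt N9443 F97465) (tt N13202 (iv F122719)) (tt N9461 F97466) (tt N9414 F97467) (tt N13203 D27531) (tt N9413 (iv D21754)) (tt N13204 D27532) (tt N9460 F97468))
theorem Q11242 : ∀ i, i < 11242 → P i := stepQ 11241 Q11241 (allL N11241 (tt N11241 F97469) (tt N11406 (iv F105480)) (tt N9416 F135200) (tt N9449 F135201) (tt N9462 F97471) (tt N9415 F135202) (tt N9429 F97473) (tt N13204 (iv F122736)) (tt N9413 (iv D21755)) (tt N13111 (iv F135460)))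
theorem Q11243 : ∀ i, i < 11243 → P i := stepQ 11242 Q11242 (allL N11242 (tt N11242 F97485) (tt N11408 F135233) (tt N9417 F97486) (tt N9450 F97487) (tt N11351 (iv F135489)) (tt N13204 (iv F135458)) (tt N9551 F135227) (tt N9415 (iv D21759)) (tt N9549 F135234) (tt N13112 (iv F121674)))
theorem Q11244 : ∀ i, i < 11244 → P i := stepQ 11243 Q11243 (allL N11243 (tt N11243 F97489) (tt N12809 (iv F135415)) (tt N9462 (iv F135453)) (tt N13037 (iv F121176)) (tt N9416 (iv D21760)) (tt N9514 F135225) (tt N9436 F97490) (tt N13205 D27540) (tt N9424 F135226) (tt N13113 (iv F121680)))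
theorem Q11245 : ∀ i, i < 11245 → P i := stepQ 11244 Q11244 (allL N11244 (tt N11244 F97491) (tt N12813 (iv F135417)) (tt N13204 (iv F135456)) (tt N9418 F97492) (tt N13205 (iv F122772)) (tt N9417 F97493) (tt N13206 D27542) (tt N9416 (iv D21761)) (tt N9443 (iv F135447)) (tt N13114 (iv F121685)))
theorem Q11246 : ∀ i, i < 11246 → P i := stepQ 11245 Q11245 (allL N11245 (tt N11245 F97498) (tt N13198 (iv F122407)) (tt N9454 F97499) (tt N13206 (iv F122781)) (tt N13040 (iv F121194)) (tt N13203 (iv F122729)) (tt N9418 (iv D21763)) (tt N9438 F97500) (tt N13207 D27545) (tt N13116 (iv F121698)))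
theorem Q11247 : ∀ i, i < 11247 → P i := stepQ 11246 Q11246 (allL N11246 (tt N11246 F97501) (tt N12811 (iv F135433)) (tt N9455 F97502) (tt N9443 (iv F135446)) (tt N13041 (iv F121200)) (tt N9442 F135245) (tt N13207 (iv F122796)) (tt N9419 F97504) (tt N9418 (iv D21764)) (tt N13208 D27546))
theorem Q11248 : ∀ i, i < 11248 → P i := stepQ 11247 Q11247 (allL N11247 (tt N11247 F97505) (tt N11478 (iv F135435)) (tt N9456 F97506) (tt N9421 F135216) (tt N13042 (iv F121206)) (tt N9420 F135217) (tt N9440 F97508) (tt N13208 (iv F122801)) (tt N13118 (iv F121710)) (tt N9419 (iv D21765)))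
theorem Q11249 : ∀ i, i < 11249 → P i := stepQ 11248 Q11248 (allL N11248 (tt N11248 F97525) (tt N11479 (iv F106032)) (tt N9552 F135246) (tt N9422 F97526) (tt N11248 F97527) (tt N13208 (iv F135471)) (tt N9446 F97528) (tt N9420 (iv D21769)) (tt N11248 F97529) (tt N9442 F97530))
theorem Q11250 : ∀ i, i < 11250 → P i := stepQ 11249 Q11249 (allL N11249 (tt N11249 F97531) (tt N11480 (iv F106039)) (tt N9460 F97532) (tt N13208 (iv F135470)) (tt N9428 F97533) (tt N9422 F97534) (tt N13209 D27554) (tt N9421 (iv D21770)) (tt N13210 D27555) (tt N9443 F97535))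
theorem Q11251 : ∀ i, i < 11251 → P i := stepQ 11250 Q11250 (allL N11250 (tt N11250 F97536) (tt N11481 (iv F106044)) (tt N9436 F135218) (tt N13118 (iv F135472)) (tt N9429 F97538) (tt N11250 F97539) (tt N9462 F97540) (tt N13210 (iv F122849)) (tt N9421 (iv D21771)) (tt N13115 (iv F135475)))
theorem Q11252 : ∀ i, i < 11252 → P i := stepQ 11251 Q11251 (allL N11251 (tt N11251 F97553) (tt N12806 (iv F116258)) (tt N9478 (iv F134541)) (tt N9424 F97554) (tt N13039 (iv F135091)) (tt N9423 (iv D21774)) (tt N9458 F97555) (tt N13211 D27562) (tt N13037 (iv F135089)) (tt N9426 F97556))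
theorem Q11253 : ∀ i, i < 11253 → P i := stepQ 11252 Q11252 (allL N11252 (tt N11252 F97557) (tt N12807 (iv F116262)) (tt N9481 (iv F134542)) (tt N9425 F97558) (tt N11252 F97559) (tt N13211 (iv F122887)) (tt N9432 F97560) (tt N9423 (iv D21775)) (tt N9512 F97561) (tt N9427 F97562))
theorem Q11254 : ∀ i, i < 11254 → P i := stepQ 11253 Q11253 (allL N11253 (tt N11253 F97563) (tt N12808 (iv F116268)) (tt N9461 F97564) (tt N13211 (iv F122886)) (tt N9443 F97565) (tt N9425 F97566) (tt N13212 D27564) (tt N9424 (iv D21776)) (tt N13205 (iv F135484)) (tt N9428 F97567))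
theorem Q11255 : ∀ i, i < 11255 → P i := stepQ 11254 Q11254 (allL N11254 (tt N11254 F97591) (tt N12993 F135204) (tt N9475 F135211) (tt N13042 (iv F135465)) (tt N9426 (iv D21782)) (tt N11254 F97592) (tt N13072 (iv F135449)) (tt N13213 D27573) (tt N9472 F135212) (tt N13039 F135213))
theorem Q11256 : ∀ i, i < 11256 → P i := stepQ 11255 Q11255 (allL N11255 (tt N11255 F97593) (tt N12874 F135205) (tt N9477 F135214) (tt N9428 F97594) (tt N13213 (iv F122934)) (tt N9427 F97595) (tt N13214 D27575) (tt N9426 (iv D21783)) (tt N9473 F135215) (tt N13211 (iv F122888)))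
theorem Q11257 : ∀ i, i < 11257 → P i := stepQ 11256 Q11256 (allL N11256 (tt N11256 F97599) (tt N13199 (iv F122436)) (tt N9463 F97600) (tt N13214 (iv F122939)) (tt N13209 (iv F122841)) (tt N9438 F97601) (tt N9428 (iv D21785)) (tt N13203 (iv F122730)) (tt N13215 D27578) (tt N13212 (iv F122898)))
theorem Q11258 : ∀ i, i < 11258 → P i := stepQ 11257 Q11257 (allL N11257 (tt N11257 F97602) (tt N12876 F135206) (tt N9437 F135219) (tt N9473 F135220) (tt N13210 (iv F122847)) (tt N9435 F135221) (tt N13215 (iv F122950)) (tt N9429 F97605) (tt N9428 (iv D21786)) (tt N13216 D27579))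
theorem Q11259 : ∀ i, i < 11259 → P i := stepQ 11258 Q11258 (allL N11258 (tt N11258 F97606) (tt N12994 F135207) (tt N9431 F135222) (tt N9464 F135223) (tt N13115 (iv F135474)) (tt N9430 F135224) (tt N13111 (iv F135459)) (tt N13216 (iv F122954)) (tt N13113 (iv F135481)) (tt N9429 (iv D21787)))
theorem Q11260 : ∀ i, i < 11260 → P i := stepQ 11259 Q11259 (allL N11259 (tt N11259 F97623) (tt N12877 F135228) (tt N9432 F97624) (tt N9465 F97625) (tt N11259 F97626) (tt N13216 (iv F135480)) (tt N9481 F135229) (tt N9430 (iv D21791)) (tt N9520 F97627) (tt N9435 F97628))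
theorem Q11261 : ∀ i, i < 11261 → P i := stepQ 11260 Q11260 (allL N11260 (tt N11260 F97629) (tt N12843 (iv F135416)) (tt N13115 (iv F121687)) (tt N13057 (iv F121300)) (tt N9431 (iv D21792)) (tt N11260 F97630) (tt N13113 (iv F121679)) (tt N13217 D27584) (tt N13111 F121667) (tt N9436 F97631))
theorem Q11262 : ∀ i, i < 11262 → P i := stepQ 11261 Q11261 (allL N11261 (tt N11261 F97632) (tt N12847 (iv F135411)) (tt N13216 (iv F135478)) (tt N9433 F97633) (tt N13217 (iv F122975)) (tt N9432 F97634) (tt N13218 D27585) (tt N9431 (iv D21793)) (tt N13219 D27586) (tt N9437 F97635))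
theorem Q11263 : ∀ i, i < 11263 → P i := stepQ 11262 Q11262 (allL N11262 (tt N11262 F97636) (tt N11489 (iv F135421)) (tt N13113 (iv F121676)) (tt N9434 F97637) (tt N13111 (iv F121664)) (tt N9522 F97638) (tt N13115 (iv F121691)) (tt N13219 (iv F122984)) (tt N9431 (iv D21794)) (tt N9462 (iv F135455)))
theorem Q11264 : ∀ i, i < 11264 → P i := stepQ 11263 Q11263 (allL N11263 (tt N11263 F97639) (tt N13200 (iv F122468)) (tt N9469 F97640) (tt N13218 (iv F122979)) (tt N13060 (iv F121318)) (tt N13212 (iv F122896)) (tt N9433 (iv D21795)) (tt N13116 (iv F121697)) (tt N13220 D27587) (tt N9438 F97641))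
theorem Q11265 : ∀ i, i < 11265 → P i := stepQ 11264 Q11264 (allL N11264 (tt N11264 F97642) (tt N13201 (iv F122470)) (tt N9470 F97643) (tt N13219 (iv F122982)) (tt N13061 (iv F121324)) (tt N9524 F97644) (tt N13220 (iv F122987)) (tt N9434 F97645) (tt N9433 (iv D21796)) (tt N13221 D27588))
theorem Q11266 : ∀ i, i < 11266 → P i := stepQ 11265 Q11265 (allL N11265 (tt N11265 F97646) (tt N11486 (iv F135436)) (tt N9471 F97647) (tt N9462 (iv F135454)) (tt N13062 (iv F121330)) (tt N9525 F97648) (tt N13118 (iv F121709)) (tt N13221 (iv F122991)) (tt N9440 F97649) (tt N9434 (iv D21797)))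
theorem Q11267 : ∀ i, i < 11267 → P i := stepQ 11266 Q11266 (allL N11266 (tt N11266 F97672) (tt N12842 (iv F135408)) (tt N13210 (iv F135473)) (tt N13069 (iv F121364)) (tt N9437 F97673) (tt N11266 F97674) (tt N13222 D27597) (tt N9436 (iv D21804)) (tt N9460 (iv F135461)) (tt N13217 (iv F122977)))
theorem Q11268 : ∀ i, i < 11268 → P i := stepQ 11267 Q11267 (allL N11267 (tt N11267 F97677) (tt N12846 (iv F135409)) (tt N13215 (iv F135476)) (tt N9438 F97678) (tt N13222 (iv F123022)) (tt N13214 (iv F122940)) (tt N9437 (iv D21806)) (tt N13206 (iv F122782)) (tt N9463 (iv F135464)) (tt N13218 (iv F122980)))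
theorem Q11269 : ∀ i, i < 11269 → P i := stepQ 11268 Q11268 (allL N11268 (tt N11268 F97686) (tt N12845 (iv F135425)) (tt N9479 F97687) (tt N9463 (iv F135463)) (tt N13073 (iv F121389)) (tt N9476 (iv F135500)) (tt N9439 F97688) (tt N13207 (iv F122797)) (tt N9438 (iv D21809)) (tt N13223 D27603))
theorem Q11270 : ∀ i, i < 11270 → P i := stepQ 11269 Q11269 (allL N11269 (tt N11269 F97689) (tt N11485 (iv F135427)) (tt N9480 F97690) (tt N9461 (iv F135452)) (tt N13074 (iv F121393)) (tt N9441 F97691) (tt N13223 (iv F123045)) (tt N9440 F97692) (tt N13221 (iv F122992)) (tt N9439 (iv D21810)))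
theorem Q11271 : ∀ i, i < 11271 → P i := stepQ 11270 Q11270 (allL N11270 (tt N11270 F97905) (tt N12812 (iv F116301)) (tt N13203 (iv F122727)) (tt N13207 (iv F135502)) (tt N13212 (iv F122895)) (tt N9454 F97906) (tt N9443 (iv D21859)) (tt N9463 F97907) (tt N13206 (iv F135495)) (tt N13209 (iv F122844)))
theorem Q11272 : ∀ i, i < 11272 → P i := stepQ 11271 Q11271 (allL N11271 (tt N11271 F97923) (tt N12992 F135240) (tt N9445 F97924) (tt N13111 (iv F121663)) (tt N13059 (iv F121312)) (tt N9444 (iv D21864)) (tt N9464 F97925) (tt N13224 D27674) (tt N13057 F121304) (tt N9449 F97926))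
theorem Q11273 : ∀ i, i < 11273 → P i := stepQ 11272 Q11272 (allL N11272 (tt N11272 F97927) (tt N12990 F135243) (tt N9446 F97928) (tt N13112 (iv F121670)) (tt N11272 F97929) (tt N13224 (iv F123365)) (tt N9552 F135244) (tt N9444 (iv D21865)) (tt N11272 F97930) (tt N9450 F97931))
theorem Q11274 : ∀ i, i < 11274 → P i := stepQ 11273 Q11273 (allL N11273 (tt N11273 F97932) (tt N12817 (iv F116327)) (tt N13059 (iv F121310)) (tt N13047 (iv F121238)) (tt N9445 (iv D21866)) (tt N11273 F97933) (tt N9466 F97934) (tt N13225 D27675) (tt N13055 F121290) (tt N9451 F97935))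
theorem Q11275 : ∀ i, i < 11275 → P i := stepQ 11274 Q11274 (allL N11274 (tt N11274 F97936) (tt N12818 (iv F116331)) (tt N13224 (iv F123364)) (tt N9447 F97937) (tt N13225 (iv F123368)) (tt N9446 F97938) (tt N13226 D27676) (tt N9445 (iv D21867)) (tt N13227 D27677) (tt N9452 F97939))
theorem Q11276 : ∀ i, i < 11276 → P i := stepQ 11275 Q11275 (allL N11275 (tt N11275 F97940) (tt N12819 (iv F116335)) (tt N13057 (iv F121299)) (tt N9448 F97941) (tt N13055 F121289) (tt N11275 F97942) (tt N9468 F97943) (tt N13227 (iv F123378)) (tt N9445 (iv D21868)) (tt N13066 (iv F121350)))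
theorem Q11277 : ∀ i, i < 11277 → P i := stepQ 11276 Q11276 (allL N11276 (tt N11276 F97944) (tt N12820 (iv F116339)) (tt N13116 (iv F121694)) (tt N13226 (iv F123372)) (tt N13050 (iv F121256)) (tt N13209 (iv F122842)) (tt N9447 (iv D21869)) (tt N9469 F97945) (tt N13228 D27678) (tt N9454 F97946))
theorem Q11278 : ∀ i, i < 11278 → P i := stepQ 11277 Q11277 (allL N11277 (tt N11277 F97947) (tt N12821 (iv F116342)) (tt N13117 (iv F121700)) (tt N13227 (iv F123376)) (tt N13051 (iv F121262)) (tt N11277 F97948) (tt N13228 (iv F123380)) (tt N9448 F97949) (tt N9447 (iv D21870)) (tt N13229 D27679))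
theorem Q11279 : ∀ i, i < 11279 → P i := stepQ 11278 Q11278 (allL N11278 (tt N11278 F97950) (tt N12822 (iv F116345)) (tt N13118 (iv F121705)) (tt N13066 (iv F121347)) (tt N13052 (iv F121268)) (tt N11278 F97951) (tt N9471 F97952) (tt N13229 (iv F123384)) (tt N9456 F97953) (tt N9448 (iv D21871)))
theorem Q11280 : ∀ i, i < 11280 → P i := stepQ 11279 Q11279 (allL N11279 (tt N11279 F97963) (tt N12991 (iv F135354)) (tt N9451 F97964) (tt N13062 (iv F121329)) (tt N9449 (iv D21875)) (tt N11279 F97965) (tt N9472 F97966) (tt N13230 D27685) (tt N13072 (iv F121386)) (tt N13059 F121315))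
theorem Q11281 : ∀ i, i < 11281 → P i := stepQ 11280 Q11280 (allL N11280 (tt N11280 F97967) (tt N12989 F135239) (tt N9452 F97968) (tt N13204 (iv F135457)) (tt N13230 (iv F123403)) (tt N9450 F97969) (tt N13231 D27686) (tt N9449 (iv D21876)) (tt N13202 (iv F135451)) (tt N13224 (iv F123366)))
theorem Q11282 : ∀ i, i < 11282 → P i := stepQ 11281 Q11281 (allL N11281 (tt N11281 F97974) (tt N12828 (iv F116368)) (tt N13230 (iv F123402)) (tt N13104 (iv F121617)) (tt N9452 F97975) (tt N11281 F97976) (tt N13232 D27688) (tt N9451 (iv D21878)) (tt N13233 D27689) (tt N13225 (iv F123370)))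
theorem Q11283 : ∀ i, i < 11283 → P i := stepQ 11282 Q11282 (allL N11282 (tt N11282 F97977) (tt N12829 (iv F116371)) (tt N13072 (iv F121381)) (tt N13105 (iv F121622)) (tt N9453 F97978) (tt N13091 (iv F121490)) (tt N9475 F97979) (tt N13233 (iv F123417)) (tt N9451 (iv D21879)) (tt N13068 (iv F121362)))
theorem Q11284 : ∀ i, i < 11284 → P i := stepQ 11283 Q11283 (allL N11283 (tt N11283 F97980) (tt N12830 (iv F116374)) (tt N13231 (iv F123406)) (tt N9454 F97981) (tt N13232 (iv F123413)) (tt N13207 (iv F135503)) (tt N9452 (iv D21880)) (tt N9476 F97982) (tt N13234 D27690) (tt N13226 (iv F123374)))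
theorem Q11285 : ∀ i, i < 11285 → P i := stepQ 11284 Q11284 (allL N11284 (tt N11284 F97983) (tt N12831 (iv F116377)) (tt N13202 (iv F135450)) (tt N9455 F97984) (tt N13233 (iv F123416)) (tt N9551 F97985) (tt N13234 (iv F123420)) (tt N9453 F97986) (tt N9452 (iv D21881)) (tt N13235 D27691))
theorem Q11286 : ∀ i, i < 11286 → P i := stepQ 11285 Q11285 (allL N11285 (tt N11285 F97987) (tt N12832 (iv F116381)) (tt N9458 F135255) (tt N9456 F97988) (tt N13068 (iv F121359)) (tt N9457 F135256) (tt N9478 F97990) (tt N13235 (iv F123425)) (tt N13066 F121351) (tt N9453 (iv D21882)))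
theorem Q11287 : ∀ i, i < 11287 → P i := stepQ 11286 Q11286 (allL N11286 (tt N11286 F97991) (tt N12833 (iv F116385)) (tt N13207 (iv F122795)) (tt N13234 (iv F123419)) (tt N13109 (iv F121642)) (tt N13231 (iv F135507)) (tt N9455 F97992) (tt N9479 F97993) (tt N9454 (iv D21883)) (tt N13236 D27693))
theorem Q11288 : ∀ i, i < 11288 → P i := stepQ 11287 Q11287 (allL N11287 (tt N11287 F97994) (tt N12834 (iv F116388)) (tt N13208 (iv F122799)) (tt N13235 (iv F123423)) (tt N13110 (iv F121646)) (tt N9552 F97995) (tt N13236 (iv F123430)) (tt N9456 F97996) (tt N13229 (iv F123385)) (tt N9455 (iv D21884)))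
theorem Q11289 : ∀ i, i < 11289 → P i := stepQ 11288 Q11288 (allL N11288 (tt N11288 F98005) (tt N12988 F135348) (tt N9459 F98006) (tt N9552 F135349) (tt N9491 F98007) (tt N13235 (iv F135517)) (tt N13112 (iv F121672)) (tt N9457 (iv D21888)) (tt N11288 F98008) (tt N9551 F135350))
theorem Q11290 : ∀ i, i < 11290 → P i := stepQ 11289 Q11289 (allL N11289 (tt N11289 F98012) (tt N12839 (iv F116405)) (tt N13235 (iv F135516)) (tt N9460 F98013) (tt N13071 (iv F135501)) (tt N9459 F98014) (tt N13237 D27702) (tt N9458 (iv D21890)) (tt N13069 (iv F135496)) (tt N13202 (iv F122721)))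
theorem Q11291 : ∀ i, i < 11291 → P i := stepQ 11290 Q11290 (allL N11290 (tt N11290 F98018) (tt N12841 (iv F116411)) (tt N13209 (iv F122840)) (tt N13237 (iv F123457)) (tt N9463 F98019) (tt N13116 (iv F121696)) (tt N9460 (iv D21892)) (tt N13212 (iv F122897)) (tt N13222 (iv F135497)) (tt N13203 (iv F122731)))
theorem Q11292 : ∀ i, i < 11292 → P i := stepQ 11291 Q11291 (allL N11291 (tt N11291 F98055) (tt N11487 (iv F106082)) (tt N13212 (iv F122894)) (tt N13223 (iv F135504)) (tt N13203 (iv F122728)) (tt N9469 F98056) (tt N9461 (iv D21902)) (tt N13209 (iv F122843)) (tt N13238 D27718) (tt N9463 F98057))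
theorem Q11293 : ∀ i, i < 11293 → P i := stepQ 11292 Q11292 (allL N11292 (tt N11292 F98058) (tt N11488 (iv F106086)) (tt N13205 (iv F135482)) (tt N13221 (iv F135506)) (tt N13204 (iv F122734)) (tt N9530 F98059) (tt N13238 (iv F123515)) (tt N9462 F98060) (tt N9461 (iv D21903)) (tt N13219 (iv F135498)))
theorem Q11294 : ∀ i, i < 11294 → P i := stepQ 11293 Q11293 (allL N11293 (tt N11293 F98113) (tt N12879 (iv F135513)) (tt N9467 F98114) (tt N13216 (iv F135479)) (tt N13124 (iv F121735)) (tt N9465 F98115) (tt N13239 D27742) (tt N9464 (iv D21921)) (tt N13122 (iv F121728)) (tt N9473 F98116))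
theorem Q11295 : ∀ i, i < 11295 → P i := stepQ 11294 Q11294 (allL N11294 (tt N11294 F98117) (tt N12852 (iv F116478)) (tt N13124 (iv F121733)) (tt N13131 (iv F121761)) (tt N9467 F98118) (tt N9495 F98119) (tt N13240 D27743) (tt N9466 (iv D21922)) (tt N13121 (iv F121723)) (tt N9474 F98120))
theorem Q11296 : ∀ i, i < 11296 → P i := stepQ 11295 Q11295 (allL N11295 (tt N11295 F98121) (tt N12854 (iv F116485)) (tt N13239 (iv F123586)) (tt N9469 F98122) (tt N13240 (iv F123589)) (tt N13223 (iv F135505)) (tt N9467 (iv D21923)) (tt N13226 (iv F123373)) (tt N13241 D27744) (tt N9476 F98123))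
theorem Q11297 : ∀ i, i < 11297 → P i := stepQ 11296 Q11296 (allL N11296 (tt N11296 F98124) (tt N12855 (iv F116488)) (tt N13122 (iv F121725)) (tt N9470 F98125) (tt N13121 (iv F121721)) (tt N9534 F98126) (tt N13241 (iv F123593)) (tt N9468 F98127) (tt N9467 (iv D21924)) (tt N13242 D27745))
theorem Q11298 : ∀ i, i < 11298 → P i := stepQ 11297 Q11297 (allL N11297 (tt N11297 F98128) (tt N12856 (iv F116492)) (tt N13037 (iv F121175)) (tt N9471 F98129) (tt N13035 (iv F121163)) (tt N9535 F98130) (tt N13066 (iv F121349)) (tt N13242 (iv F123597)) (tt N9478 F98131) (tt N9468 (iv D21925)))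
theorem Q11299 : ∀ i, i < 11299 → P i := stepQ 11298 Q11298 (allL N11298 (tt N11298 F98132) (tt N12857 (iv F116496)) (tt N13220 (iv F122986)) (tt N13241 (iv F123592)) (tt N13134 (iv F121773)) (tt N13243 D27746) (tt N9470 F98133) (tt N13228 (iv F123381)) (tt N9469 (iv D21926)) (tt N13244 D27747))
theorem Q11300 : ∀ i, i < 11300 → P i := stepQ 11299 Q11299 (allL N11299 (tt N11299 F98134) (tt N12858 (iv F116498)) (tt N13221 (iv F122989)) (tt N13242 (iv F123595)) (tt N13135 (iv F121776)) (tt N9537 F98135) (tt N13244 (iv F123602)) (tt N9471 F98136) (tt N9480 F98137) (tt N9470 (iv D21927)))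
theorem Q11301 : ∀ i, i < 11301 → P i := stepQ 11300 Q11300 (allL N11300 (tt N11300 F98150) (tt N12878 (iv F135509)) (tt N9474 F98151) (tt N13126 (iv F121742)) (tt N9473 F98152) (tt N9482 F135254) (tt N13245 D27756) (tt N9472 (iv D21933)) (tt N13213 (iv F135467)) (tt N13124 F121738))
theorem Q11302 : ∀ i, i < 11302 → P i := stepQ 11301 Q11301 (allL N11301 (tt N11301 F98158) (tt N12872 (iv F135512)) (tt N9476 F98159) (tt N13215 (iv F135477)) (tt N13245 (iv F123627)) (tt N9479 (iv F135499)) (tt N9473 (iv D21935)) (tt N13231 (iv F123407)) (tt N13214 (iv F135469)) (tt N13239 (iv F123587)))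
theorem Q11303 : ∀ i, i < 11303 → P i := stepQ 11302 Q11302 (allL N11302 (tt N11302 F98167) (tt N12867 (iv F116530)) (tt N13245 (iv F123626)) (tt N13144 (iv F121803)) (tt N9476 F98168) (tt N13246 D27760) (tt N9474 (iv D21938)) (tt N13232 (iv F123414)) (tt N13247 D27761) (tt N13240 (iv F123590)))
theorem Q11304 : ∀ i, i < 11304 → P i := stepQ 11303 Q11303 (allL N11303 (tt N11303 F98169) (tt N12868 (iv F116532)) (tt N13213 (iv F135466)) (tt N13145 (iv F121806)) (tt N9477 F98170) (tt N11303 F98171) (tt N13247 (iv F123644)) (tt N9475 F98172) (tt N9474 (iv D21939)) (tt N13248 D27762))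
theorem Q11305 : ∀ i, i < 11305 → P i := stepQ 11304 Q11304 (allL N11304 (tt N11304 F98173) (tt N12869 (iv F116536)) (tt N13039 (iv F121186)) (tt N13103 (iv F121611)) (tt N9478 F98174) (tt N11304 F98175) (tt N13068 (iv F121361)) (tt N13248 (iv F123648)) (tt N13035 F121166) (tt N9475 (iv D21940)))
theorem Q11306 : ∀ i, i < 11306 → P i := stepQ 11305 Q11305 (allL N11305 (tt N11305 F98176) (tt N12870 (iv F116539)) (tt N13214 (iv F135468)) (tt N9479 F98177) (tt N13247 (iv F123643)) (tt N13215 (iv F135462)) (tt N9477 F98178) (tt N13234 (iv F123421)) (tt N9476 (iv D21941)) (tt N13249 D27764))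
theorem Q11307 : ∀ i, i < 11307 → P i := stepQ 11306 Q11306 (allL N11306 (tt N11306 F98179) (tt N12871 (iv F116542)) (tt N13211 (iv F135090)) (tt N9480 F98180) (tt N13248 (iv F123646)) (tt N9481 F98181) (tt N13249 (iv F123654)) (tt N9478 F98182) (tt N13242 (iv F123598)) (tt N9477 (iv D21942)))
theorem Q11308 : ∀ i, i < 11308 → P i := stepQ 11307 Q11307 (allL N11307 (tt N11307 F98185) (tt N12873 (iv F116548)) (tt N13223 (iv F123044)) (tt N13249 (iv F123653)) (tt N13149 (iv F121820)) (tt N13239 (iv F135515)) (tt N9480 F98186) (tt N13236 (iv F123431)) (tt N13244 (iv F123603)) (tt N9479 (iv D21944)))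
theorem Q11309 : ∀ i, i < 11309 → P i := stepQ 11308 Q11308 (allL N11308 (tt N11308 F98329) (tt N12987 F135351) (tt N9485 F98330) (tt N11308 F98331) (tt N13091 (iv F135549)) (tt N9484 (iv D21980)) (tt N11308 F98332) (tt N13250 D27812) (tt N11308 F98333) (tt N9490 F98334))
theorem Q11310 : ∀ i, i < 11310 → P i := stepQ 11309 Q11309 (allL N11309 (tt N11309 F98335) (tt N11410 (iv F135038)) (tt N9486 F98336) (tt N11309 F98337) (tt N9551 F135346) (tt N13250 (iv F123849)) (tt N11351 (iv F135490)) (tt N9484 (iv D21981)) (tt N9550 F135347) (tt N9491 F98338))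
theorem Q11311 : ∀ i, i < 11311 → P i := stepQ 11310 Q11310 (allL N11310 (tt N11310 F98344) (tt N11419 (iv F105604)) (tt N13250 (iv F123847)) (tt N9487 F98345) (tt N13094 (iv F135551)) (tt N9486 F98346) (tt N13251 D27814) (tt N9485 (iv D21983)) (tt N11310 F98347) (tt N9492 F98348))
theorem Q11312 : ∀ i, i < 11312 → P i := stepQ 11311 Q11311 (allL N11311 (tt N11311 F98349) (tt N11420 (iv F105610)) (tt N11311 F98350) (tt N13251 (iv F123858)) (tt N9494 F98351) (tt N13167 (iv F121965)) (tt N9487 (iv D21984)) (tt N11311 F98352) (tt N11311 F98353) (tt N9493 F98354))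
theorem Q11313 : ∀ i, i < 11313 → P i := stepQ 11312 Q11312 (allL N11312 (tt N9489 F98355) (tt N11312 F98356) (tt N12880 (iv F116684)) (tt N11312 F98357) (tt N12189 (iv F133823)) (tt N13252 D27815) (tt N9488 (iv D21985)) (tt N12276 (iv F135603)) (tt N11312 F98358) (tt N12187 (iv F133812)))
theorem Q11314 : ∀ i, i < 11314 → P i := stepQ 11313 Q11313 (allL N11313 (tt N13252 (iv F123862)) (tt N9490 F98359) (tt N12881 (iv F116687)) (tt N11313 F98360) (tt N13087 (iv F135547)) (tt N9489 (iv D21986)) (tt N11313 F98361) (tt N13253 D27818) (tt N13085 (iv F135594)) (tt N12987 (iv F135037)))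
theorem Q11315 : ∀ i, i < 11315 → P i := stepQ 11314 Q11314 (allL N11314 (tt N12276 (iv F135602)) (tt N9491 F98362) (tt N12882 (iv F116690)) (tt N11314 F98363) (tt N12988 (iv F135053)) (tt N13253 (iv F123874)) (tt N11411 (iv F135599)) (tt N9489 (iv D21987)) (tt N11314 F98364) (tt N11410 (iv F135039)))
theorem Q11316 : ∀ i, i < 11316 → P i := stepQ 11315 Q11315 (allL N11315 (tt N11315 F98368) (tt N13253 (iv F123872)) (tt N9492 F98369) (tt N11315 F98370) (tt N13090 (iv F135548)) (tt N9491 F98371) (tt N13254 D27823) (tt N9490 (iv D21989)) (tt N13088 (iv F135592)) (tt N13250 (iv F123851)))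
theorem Q11317 : ∀ i, i < 11317 → P i := stepQ 11316 Q11316 (allL N11316 (tt N11316 F98386) (tt N12887 (iv F116708)) (tt N13254 (iv F123893)) (tt N9493 F98387) (tt N13093 (iv F135550)) (tt N13169 (iv F122006)) (tt N9492 (iv D21993)) (tt N11316 F98388) (tt N13092 (iv F135593)) (tt N13251 (iv F123861)))
theorem Q11318 : ∀ i, i < 11318 → P i := stepQ 11317 Q11317 (allL N11317 (tt N11317 F98512) (tt N12894 (iv F116793)) (tt N13153 (iv F121843)) (tt N13187 (iv F122121)) (tt N9496 F98513) (tt N13255 D27858) (tt N9495 (iv D22021)) (tt N11317 F98514) (tt N13151 (iv F121832)) (tt N9499 F98515))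
theorem Q11319 : ∀ i, i < 11319 → P i := stepQ 11318 Q11318 (allL N11318 (tt N11318 F98516) (tt N12896 (iv F116802)) (tt N13152 (iv F121835)) (tt N9498 F98517) (tt N13151 (iv F121829)) (tt N11318 F98518) (tt N9497 F98519) (tt N11318 F98520) (tt N9496 (iv D22022)) (tt N11318 F98521))
theorem Q11320 : ∀ i, i < 11320 → P i := stepQ 11319 Q11319 (allL N11319 (tt N11319 F98543) (tt N12900 (iv F116833)) (tt N13165 (iv F135525)) (tt N13195 (iv F122158)) (tt N13095 (iv F135552)) (tt N9499 (iv D22028)) (tt N13246 (iv F123641)) (tt N11319 F98544) (tt N13256 D27863) (tt N13255 (iv F124055)))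
theorem Q11321 : ∀ i, i < 11321 → P i := stepQ 11320 Q11320 (allL N11320 (tt N9505 F98659) (tt N11320 F98660) (tt N11427 (iv F105746)) (tt N12213 (iv F133862)) (tt N11352 (iv F105072)) (tt N9500 (iv D22052)) (tt N11320 F98661) (tt N13257 D27892) (tt N12278 (iv F135618)) (tt N9502 F98662))
theorem Q11322 : ∀ i, i < 11322 → P i := stepQ 11321 Q11321 (allL N11321 (tt N9506 F98663) (tt N11321 F98664) (tt N11428 (iv F105752)) (tt N12075 (iv F134947)) (tt N9501 F98665) (tt N13257 (iv F124221)) (tt N9504 F98666) (tt N9500 (iv D22053)) (tt N11877 (iv F108314)) (tt N9503 F98667))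
theorem Q11323 : ∀ i, i < 11323 → P i := stepQ 11322 Q11322 (allL N11322 (tt N9507 F98687) (tt N11322 F98688) (tt N11506 (iv F106225)) (tt N12074 (iv F134464)) (tt N11365 (iv F105178)) (tt N9503 F98689) (tt N12442 (iv F135554)) (tt N9502 (iv D22058)) (tt N12080 (iv F133672)) (tt N13257 (iv F124222)))
theorem Q11324 : ∀ i, i < 11324 → P i := stepQ 11323 Q11323 (allL N11323 (tt N13257 (iv F124219)) (tt N9513 F98938) (tt N11440 (iv F105826)) (tt N12959 (iv F134952)) (tt N11356 (iv F105100)) (tt N9506 F98939) (tt N13258 D27961) (tt N9505 (iv D22115)) (tt N13259 D27962) (tt N9507 F98940))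
theorem Q11325 : ∀ i, i < 11325 → P i := stepQ 11324 Q11324 (allL N11324 (tt N12278 (iv F135617)) (tt N9514 F98941) (tt N11441 (iv F105831)) (tt N12659 (iv F135072)) (tt N11357 (iv F105105)) (tt N12809 (iv F116274)) (tt N11324 F98942) (tt N13259 (iv F124538)) (tt N9505 (iv D22116)) (tt N12651 (iv F135073)))
theorem Q11326 : ∀ i, i < 11326 → P i := stepQ 11325 Q11325 (allL N11325 (tt N12442 (iv F135553)) (tt N9517 F98968) (tt N11518 (iv F106311)) (tt N11548 (iv F134950)) (tt N11372 (iv F105209)) (tt N9510 F98969) (tt N9507 (iv D22124)) (tt N11325 F98970) (tt N12954 (iv F134958)) (tt N13258 (iv F124536)))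
theorem Q11327 : ∀ i, i < 11327 → P i := stepQ 11326 Q11326 (allL N11326 (tt N12443 (iv F135555)) (tt N9523 F99003) (tt N12907 (iv F117161)) (tt N11549 (iv F135560)) (tt N11326 F99004) (tt N13258 (iv F124534)) (tt N9508 (iv D22134)) (tt N11326 F99005) (tt N13260 D27982) (tt N9510 F99006))
theorem Q11328 : ∀ i, i < 11328 → P i := stepQ 11327 Q11327 (allL N11327 (tt N12389 (iv F135556)) (tt N9524 F99007) (tt N12908 (iv F117166)) (tt N11495 (iv F135562)) (tt N11327 F99008) (tt N13201 (iv F122471)) (tt N13260 (iv F124609)) (tt N9509 F99009) (tt N9508 (iv D22135)) (tt N11493 (iv F135565)))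
theorem Q11329 : ∀ i, i < 11329 → P i := stepQ 11328 Q11328 (allL N11328 (tt N11328 F99254) (tt N12959 (iv F134951)) (tt N9544 (iv F134631)) (tt N9513 F99255) (tt N13176 (iv F135084)) (tt N9512 F99256) (tt N13261 D28055) (tt N9511 (iv D22200)) (tt N13174 (iv F135088)) (tt N9516 F99257))
theorem Q11330 : ∀ i, i < 11330 → P i := stepQ 11329 Q11329 (allL N11329 (tt N11329 F99261) (tt N13258 (iv F124533)) (tt N9529 F99262) (tt N13261 (iv F124896)) (tt N11359 (iv F105126)) (tt N9523 F99263) (tt N9513 (iv D22202)) (tt N11329 F99264) (tt N13262 D28058) (tt N9517 F99265))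
theorem Q11331 : ∀ i, i < 11331 → P i := stepQ 11330 Q11330 (allL N11330 (tt N11330 F99266) (tt N13259 (iv F124537)) (tt N9530 F99267) (tt N13174 (iv F135087)) (tt N11360 (iv F105132)) (tt N13205 (iv F135483)) (tt N13262 (iv F124909)) (tt N9514 F99268) (tt N9513 (iv D22203)) (tt N13168 (iv F135567)))
theorem Q11332 : ∀ i, i < 11332 → P i := stepQ 11331 Q11331 (allL N11331 (tt N11331 F99300) (tt N12958 (iv F134948)) (tt N9541 (iv F134629)) (tt N11375 (iv F105224)) (tt N9516 F99301) (tt N11331 F99302) (tt N13263 D28066) (tt N9515 (iv D22211)) (tt N9538 (iv F134620)) (tt N13176 (iv F135085)))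
theorem Q11333 : ∀ i, i < 11333 → P i := stepQ 11332 Q11332 (allL N11332 (tt N11332 F99306) (tt N11548 (iv F134949)) (tt N9543 (iv F134630)) (tt N9517 F99307) (tt N13263 (iv F124945)) (tt N9526 F99308) (tt N9516 (iv D22213)) (tt N11332 F99309) (tt N9539 (iv F134622)) (tt N13261 (iv F124899)))
theorem Q11334 : ∀ i, i < 11334 → P i := stepQ 11333 Q11333 (allL N11333 (tt N11333 F99318) (tt N12954 (iv F134957)) (tt N9526 (iv F134603)) (tt N9539 (iv F134621)) (tt N11378 (iv F105249)) (tt N9543 (iv F134627)) (tt N9518 F99320) (tt N11333 F99321) (tt N9517 (iv D22216)) (tt N13264 D28072))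
theorem Q11335 : ∀ i, i < 11335 → P i := stepQ 11334 Q11334 (allL N11334 (tt N11334 F99322) (tt N12960 (iv F134959)) (tt N9521 F135305) (tt N9531 F135306) (tt N11379 (iv F105254)) (tt N9520 F135307) (tt N13264 (iv F124968)) (tt N9519 F99325) (tt N13168 (iv F135566)) (tt N9518 (iv D22217)))
theorem Q11336 : ∀ i, i < 11336 → P i := stepQ 11335 Q11335 (allL N11335 (tt N11335 F99349) (tt N11549 (iv F135559)) (tt N13264 F135313) (tt N9523 F99350) (tt N11381 (iv F135568)) (tt N13261 (iv F124897)) (tt N9521 (iv D22223)) (tt N11335 F99351) (tt N13265 D28078) (tt N9526 F99352))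
theorem Q11337 : ∀ i, i < 11337 → P i := stepQ 11336 Q11336 (allL N11336 (tt N11336 F99353) (tt N11495 (iv F135561)) (tt N13168 (iv F122000)) (tt N9524 F99354) (tt N11362 (iv F135570)) (tt N13219 (iv F122983)) (tt N13265 (iv F124996)) (tt N9522 F99355) (tt N9521 (iv D22224)) (tt N9530 (iv F135574)))
theorem Q11338 : ∀ i, i < 11338 → P i := stepQ 11337 Q11337 (allL N11337 (tt N11337 F99360) (tt N13260 (iv F124607)) (tt N9536 F99361) (tt N13265 (iv F124995)) (tt N11337 F99362) (tt N13266 D28080) (tt N9524 F99363) (tt N11337 F99364) (tt N9523 (iv D22226)) (tt N13267 D28081))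
theorem Q11339 : ∀ i, i < 11339 → P i := stepQ 11338 Q11338 (allL N11338 (tt N11338 F99365) (tt N11493 (iv F135564)) (tt N9537 F99366) (tt N9530 (iv F135573)) (tt N11338 F99367) (tt N13221 (iv F122990)) (tt N13267 (iv F125008)) (tt N9525 F99368) (tt N9528 F99369) (tt N9524 (iv D22227)))
theorem Q11340 : ∀ i, i < 11340 → P i := stepQ 11339 Q11339 (allL N11339 (tt N11339 F99439) (tt N11492 (iv F135563)) (tt N9545 F99440) (tt N9529 (iv F135329)) (tt N11339 F99441) (tt N9533 (iv F135326)) (tt N9528 F99442) (tt N11339 F99443) (tt N13267 (iv F125010)) (tt N9527 (iv D22245)))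
theorem Q11341 : ∀ i, i < 11341 → P i := stepQ 11340 Q11340 (allL N11340 (tt N11340 F99676) (tt N11494 (iv F106136)) (tt N13262 (iv F124908)) (tt N13267 (iv F135575)) (tt N11361 (iv F105144)) (tt N13268 D28155) (tt N9530 F99677) (tt N11340 F99678) (tt N9529 (iv D22298)) (tt N13265 (iv F135572)))
theorem Q11342 : ∀ i, i < 11342 → P i := stepQ 11341 Q11341 (allL N11341 (tt N11341 F99741) (tt N12957 (iv F135586)) (tt N9533 F99742) (tt N13264 (iv F135097)) (tt N13181 (iv F122090)) (tt N9545 F135325) (tt N9531 (iv D22314)) (tt N11341 F99743) (tt N13180 (iv F122086)) (tt N9539 F99744))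
theorem Q11343 : ∀ i, i < 11343 → P i := stepQ 11342 Q11342 (allL N11342 (tt N11342 F99745) (tt N12942 (iv F117687)) (tt N13181 (iv F122088)) (tt N11342 F99746) (tt N9533 F99747) (tt N11342 F99748) (tt N9532 (iv D22315)) (tt N11342 F99749) (tt N13179 (iv F122081)) (tt N9540 F99750))
theorem Q11344 : ∀ i, i < 11344 → P i := stepQ 11343 Q11343 (allL N11343 (tt N11343 F99751) (tt N12945 (iv F117704)) (tt N13180 (iv F122083)) (tt N9536 F99752) (tt N13179 (iv F122078)) (tt N13269 D28169) (tt N9534 F99753) (tt N11343 F99754) (tt N9533 (iv D22316)) (tt N13270 D28170))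
theorem Q11345 : ∀ i, i < 11345 → P i := stepQ 11344 Q11344 (allL N11344 (tt N11344 F99755) (tt N12946 (iv F117708)) (tt N13174 (iv F122044)) (tt N9537 F99756) (tt N13173 (iv F122039)) (tt N13242 (iv F123596)) (tt N13270 (iv F125440)) (tt N9535 F99757) (tt N9544 F99758) (tt N9534 (iv D22317)))
theorem Q11346 : ∀ i, i < 11346 → P i := stepQ 11345 Q11345 (allL N11345 (tt N11345 F99759) (tt N12947 (iv F117712)) (tt N13266 (iv F125003)) (tt N13269 (iv F125436)) (tt N13271 D28171) (tt N9536 (iv D22318)) (tt N13243 (iv F123600)) (tt N11345 F99760) (tt N13268 (iv F125379)) (tt N13272 D28172))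
theorem Q11347 : ∀ i, i < 11347 → P i := stepQ 11346 Q11346 (allL N11346 (tt N11346 F99761) (tt N12948 (iv F117714)) (tt N13267 (iv F125006)) (tt N13270 (iv F125439)) (tt N11346 F99762) (tt N13272 (iv F125447)) (tt N9537 F99763) (tt N11346 F99764) (tt N9545 F99765) (tt N9536 (iv D22319)))
theorem Q11348 : ∀ i, i < 11348 → P i := stepQ 11347 Q11347 (allL N11347 (tt N11347 F99792) (tt N12956 F135328) (tt N9540 F99793) (tt N13182 (iv F122097)) (tt N9539 F99794) (tt N11347 F99795) (tt N9538 (iv D22328)) (tt N11347 F99796) (tt N13263 (iv F135095)) (tt N13181 F122094))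
theorem Q11349 : ∀ i, i < 11349 → P i := stepQ 11348 Q11348 (allL N11348 (tt N11348 F99810) (tt N12952 (iv F117778)) (tt N13263 (iv F135094)) (tt N11348 F99811) (tt N9543 F99812) (tt N13273 D28185) (tt N9541 F99813) (tt N11348 F99814) (tt N9540 (iv D22332)) (tt N13274 D28186))
theorem Q11350 : ∀ i, i < 11350 → P i := stepQ 11349 Q11349 (allL N11349 (tt N11349 F99815) (tt N12953 (iv F117783)) (tt N13176 (iv F122054)) (tt N11349 F99816) (tt N9544 F99817) (tt N11349 F99818) (tt N13274 (iv F125504)) (tt N9542 F99819) (tt N13173 (iv F122041)) (tt N9541 (iv D22333)))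
theorem Q11351 : ∀ i, i < 11351 → P i := stepQ 11350 Q11350 (allL N11350 (tt N11350 F99824) (tt N12955 (iv F117792)) (tt N13261 (iv F135086)) (tt N9545 F99825) (tt N13274 (iv F125503)) (tt N13264 (iv F135096)) (tt N9544 F99826) (tt N11350 F99827) (tt N13270 (iv F125442)) (tt N9543 (iv D22335)))
theorem Q11352 : ∀ i, i < 11352 → P i := stepQ 11351 Q11351 (allL N11351 (tt N11351 F105018) (tt N9611 F105019) (tt N11190 F135488) (tt N11351 F105021) (tt N11242 F135489) (tt N9566 F105023) (tt N11309 F135490) (tt N9554 F105024) (tt N9553 (iv D23444)) (tt N11192 F135491))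
theorem Q11353 : ∀ i, i < 11353 → P i := stepQ 11352 Q11352 (allL N11352 (tt N9559 F105069) (tt N11352 F105070) (tt N9633 F105071) (tt N10378 F135365) (tt N11320 F105072) (tt N9556 (iv D23451)) (tt N11352 F105073) (tt N13275 D29202) (tt N10375 F135366) (tt N9569 F105074))
theorem Q11354 : ∀ i, i < 11354 → P i := stepQ 11353 Q11353 (allL N11353 (tt N9560 F105075) (tt N11353 F105076) (tt N9634 F105077) (tt N10387 F135367) (tt N9557 F105078) (tt N13275 (iv F135627)) (tt N11353 F105079) (tt N9556 (iv D23452)) (tt N10255 F105080) (tt N9570 F105081))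
theorem Q11355 : ∀ i, i < 11355 → P i := stepQ 11354 Q11354 (allL N11354 (tt N10378 F135099) (tt N9561 F105088) (tt N9853 F135100) (tt N9559 F105089) (tt N10689 F135101) (tt N9558 (iv D23454)) (tt N11354 F105090) (tt N13276 D29203) (tt N9615 F135102) (tt N9572 F105091))
theorem Q11356 : ∀ i, i < 11356 → P i := stepQ 11355 Q11355 (allL N11355 (tt N10387 F135103) (tt N9562 F105092) (tt N9870 F135104) (tt N9560 F105093) (tt N11355 F105094) (tt N13276 (iv F135635)) (tt N11355 F105095) (tt N9558 (iv D23455)) (tt N9623 (iv F135352)) (tt N9573 F105097))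
theorem Q11357 : ∀ i, i < 11357 → P i := stepQ 11356 Q11356 (allL N11356 (tt N13275 (iv F135622)) (tt N9563 F105098) (tt N9645 F105099) (tt N13276 (iv F135633)) (tt N11323 F105100) (tt N9560 F105101) (tt N13277 D29204) (tt N9559 (iv D23456)) (tt N13278 D29205) (tt N9574 F105102))
theorem Q11358 : ∀ i, i < 11358 → P i := stepQ 11357 Q11357 (allL N11357 (tt N10375 F135439) (tt N9564 F105103) (tt N9646 F105104) (tt N9615 F135440) (tt N11324 F105105) (tt N9614 F135441) (tt N11357 F105107) (tt N13278 (iv F135650)) (tt N9559 (iv D23457)) (tt N10680 F135442))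
theorem Q11359 : ∀ i, i < 11359 → P i := stepQ 11358 Q11358 (allL N11358 (tt N11358 F105114) (tt N13276 (iv F135631)) (tt N11358 F105115) (tt N9563 F105116) (tt N11205 F135576) (tt N9562 F105117) (tt N13279 D29206) (tt N9561 (iv D23459)) (tt N11191 F135577) (tt N9577 F105118))
theorem Q11360 : ∀ i, i < 11360 → P i := stepQ 11359 Q11359 (allL N11359 (tt N11359 F105124) (tt N13277 (iv F135638)) (tt N9565 F105125) (tt N13279 (iv F135654)) (tt N11329 F105126) (tt N11359 F105127) (tt N9563 (iv D23461)) (tt N11359 F105128) (tt N13280 D29207) (tt N9579 F105129))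
theorem Q11361 : ∀ i, i < 11361 → P i := stepQ 11360 Q11360 (allL N11360 (tt N11360 F105130) (tt N13278 (iv F135645)) (tt N9566 F105131) (tt N11191 F135492) (tt N11330 F105132) (tt N11190 F135493) (tt N13280 (iv F135664)) (tt N9564 F105134) (tt N9563 (iv D23462)) (tt N11194 F135494))
theorem Q11362 : ∀ i, i < 11362 → P i := stepQ 11361 Q11361 (allL N11361 (tt N11361 F105141) (tt N9683 F105142) (tt N13280 (iv F135661)) (tt N11361 F105143) (tt N11340 F105144) (tt N13281 D29208) (tt N9566 F105145) (tt N11361 F105146) (tt N9565 (iv D23464)) (tt N13282 D29209))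
theorem Q11363 : ∀ i, i < 11363 → P i := stepQ 11362 Q11362 (allL N11362 (tt N11362 F105147) (tt N9684 F105148) (tt N11194 F135569) (tt N11362 F105149) (tt N11336 F135570) (tt N11192 F135571) (tt N13282 (iv F135682)) (tt N9567 F105151) (tt N9583 F105152) (tt N9566 (iv D23465)))
theorem Q11364 : ∀ i, i < 11364 → P i := stepQ 11363 Q11363 (allL N11363 (tt N9572 F105165) (tt N11363 F105166) (tt N10699 F135075) (tt N9569 F105167) (tt N13283 D29210) (tt N9568 (iv D23468)) (tt N11363 F105168) (tt N13284 D29211) (tt N13285 D29212) (tt N10378 F135076))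
theorem Q11365 : ∀ i, i < 11365 → P i := stepQ 11364 Q11364 (allL N11364 (tt N9573 F105169) (tt N11364 F105170) (tt N10720 F135077) (tt N9570 F105171) (tt N11364 F105172) (tt N13284 (iv F135697)) (tt N11364 F105173) (tt N9568 (iv D23469)) (tt N11364 F105174) (tt N10387 F135078))
theorem Q11366 : ∀ i, i < 11366 → P i := stepQ 11365 Q11365 (allL N11365 (tt N9574 F105175) (tt N11365 F105176) (tt N9696 F105177) (tt N13284 (iv F135696)) (tt N11322 F105178) (tt N9570 F105179) (tt N13286 D29213) (tt N9569 (iv D23470)) (tt N13287 D29214) (tt N13275 (iv F135629)))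
theorem Q11367 : ∀ i, i < 11367 → P i := stepQ 11366 Q11366 (allL N11366 (tt N9575 F105180) (tt N11366 F105181) (tt N9697 F105182) (tt N13285 (iv F135702)) (tt N10313 F133865) (tt N11366 F105184) (tt N11366 F105185) (tt N13287 (iv F135718)) (tt N9569 (iv D23471)) (tt N13288 D29215))
theorem Q11368 : ∀ i, i < 11368 → P i := stepQ 11367 Q11367 (allL N11367 (tt N10699 F133686) (tt N11367 F105186) (tt N9572 F105187) (tt N9703 F105188) (tt N13285 (iv F135703)) (tt N9571 (iv D23472)) (tt N11367 F105189) (tt N13289 D29216) (tt N13283 F135692) (tt N9853 F133687))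
theorem Q11369 : ∀ i, i < 11369 → P i := stepQ 11368 Q11368 (allL N11368 (tt N10720 F133688) (tt N11368 F105190) (tt N9573 F105191) (tt N9704 F105192) (tt N11368 F105193) (tt N13289 (iv F135731)) (tt N11368 F105194) (tt N9571 (iv D23473)) (tt N11368 F105195) (tt N9870 F133689))
theorem Q11370 : ∀ i, i < 11370 → P i := stepQ 11369 Q11369 (allL N11369 (tt N13283 (iv F135685)) (tt N9576 F105196) (tt N13285 (iv F135701)) (tt N11035 F135069) (tt N9572 (iv D23474)) (tt N11369 F105198) (tt N11369 F105199) (tt N13290 D29217) (tt N10699 F135070) (tt N10689 F135071))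
theorem Q11371 : ∀ i, i < 11371 → P i := stepQ 11370 Q11370 (allL N11370 (tt N13284 (iv F135693)) (tt N9577 F105200) (tt N13289 (iv F135729)) (tt N9574 F105201) (tt N13290 (iv F135735)) (tt N9573 F105202) (tt N13291 D29218) (tt N9572 (iv D23475)) (tt N13292 D29219) (tt N13276 (iv F135637)))
theorem Q11372 : ∀ i, i < 11372 → P i := stepQ 11371 Q11371 (allL N11371 (tt N13285 (iv F135699)) (tt N9578 F105203) (tt N13283 (iv F135687)) (tt N9575 F105204) (tt N10699 F134393) (tt N11371 F105205) (tt N11371 F105206) (tt N13292 (iv F135747)) (tt N9572 (iv D23476)) (tt N10683 F134394))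
theorem Q11373 : ∀ i, i < 11373 → P i := stepQ 11372 Q11372 (allL N11372 (tt N13286 (iv F135707)) (tt N9579 F105207) (tt N9708 F105208) (tt N13291 (iv F135740)) (tt N11325 F105209) (tt N11372 F105210) (tt N9574 (iv D23477)) (tt N11372 F105211) (tt N13293 D29220) (tt N13277 (iv F135643)))
theorem Q11374 : ∀ i, i < 11374 → P i := stepQ 11373 Q11373 (allL N11373 (tt N13287 (iv F135713)) (tt N9580 F105212) (tt N9709 F105213) (tt N13292 (iv F135744)) (tt N10982 F134956) (tt N11373 F105215) (tt N13293 (iv F135752)) (tt N9575 F105216) (tt N9574 (iv D23478)) (tt N13294 D29221))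
theorem Q11375 : ∀ i, i < 11375 → P i := stepQ 11374 Q11374 (allL N11374 (tt N13288 (iv F135719)) (tt N9581 F105217) (tt N9710 F105218) (tt N10683 F134395) (tt N11037 (iv F134380)) (tt N11374 F105220) (tt N11374 F105221) (tt N13294 (iv F135759)) (tt N10680 F134396) (tt N9575 (iv D23479)))
theorem Q11376 : ∀ i, i < 11376 → P i := stepQ 11375 Q11375 (allL N11375 (tt N11375 F105222) (tt N13290 (iv F135733)) (tt N11375 F105223) (tt N11331 F105224) (tt N9577 F105225) (tt N11375 F105226) (tt N13295 D29222) (tt N9576 (iv D23480)) (tt N11213 F135092) (tt N11205 F135093))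
theorem Q11377 : ∀ i, i < 11377 → P i := stepQ 11376 Q11376 (allL N11376 (tt N11376 F105232) (tt N13291 (iv F135739)) (tt N11376 F105233) (tt N9579 F105234) (tt N13295 (iv F135764)) (tt N11376 F105235) (tt N9577 (iv D23482)) (tt N11376 F105236) (tt N13296 D29223) (tt N13279 (iv F135659)))
theorem Q11378 : ∀ i, i < 11378 → P i := stepQ 11377 Q11377 (allL N11377 (tt N11377 F105237) (tt N13292 (iv F135743)) (tt N11377 F105238) (tt N9580 F105239) (tt N11213 F135355) (tt N11377 F105240) (tt N13296 (iv F135772)) (tt N9578 F105241) (tt N9577 (iv D23483)) (tt N11196 F135356))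
theorem Q11379 : ∀ i, i < 11379 → P i := stepQ 11378 Q11378 (allL N11378 (tt N11378 F105247) (tt N13293 (iv F135749)) (tt N9582 F105248) (tt N13296 (iv F135770)) (tt N11333 F105249) (tt N13297 D29224) (tt N9580 F105250) (tt N11378 F105251) (tt N9579 (iv D23485)) (tt N13298 D29225))
theorem Q11380 : ∀ i, i < 11380 → P i := stepQ 11379 Q11379 (allL N11379 (tt N11379 F105252) (tt N13294 (iv F135754)) (tt N9583 F105253) (tt N11196 F135359) (tt N11334 F105254) (tt N11379 F105255) (tt N13298 (iv F135785)) (tt N9581 F105256) (tt N11194 F135360) (tt N9580 (iv D23486)))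
theorem Q11381 : ∀ i, i < 11381 → P i := stepQ 11380 Q11380 (allL N11380 (tt N11380 F105257) (tt N9730 F105258) (tt N13297 (iv F135776)) (tt N11380 F105259) (tt N13299 D29226) (tt N9582 (iv D23487)) (tt N11380 F105260) (tt N11380 F105261) (tt N11380 F105262) (tt N13300 D29227))
theorem Q11382 : ∀ i, i < 11382 → P i := stepQ 11381 Q11381 (allL N11381 (tt N11381 F105263) (tt N9731 F105264) (tt N13298 (iv F135782)) (tt N11381 F105265) (tt N11335 F135568) (tt N13300 (iv F135798)) (tt N9583 F105267) (tt N11381 F105268) (tt N13282 (iv F135684)) (tt N9582 (iv D23488)))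
theorem Q11383 : ∀ i, i < 11383 → P i := stepQ 11382 Q11382 (allL N11382 (tt N10317 F105289) (tt N9613 (iv F135184)) (tt N9585 F105291) (tt N9848 F134969) (tt N10992 F105292) (tt N11382 F105293) (tt N9601 F105294) (tt N9617 F134970) (tt N9584 (iv D23492)) (tt N10678 F134971))
theorem Q11384 : ∀ i, i < 11384 → P i := stepQ 11383 Q11383 (allL N11383 (tt N9590 F105334) (tt N10321 F105335) (tt N10255 F105336) (tt N10717 F135370) (tt N9587 F105337) (tt N10386 F135371) (tt N11383 F105338) (tt N9586 (iv D23499)) (tt N9634 F105339) (tt N11383 F105340))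
theorem Q11385 : ∀ i, i < 11385 → P i := stepQ 11384 Q11384 (allL N11384 (tt N10717 F134424) (tt N9599 F105351) (tt N9869 F134425) (tt N9590 F105352) (tt N9751 F105353) (tt N9868 F134426) (tt N11384 F105354) (tt N9588 (iv D23502)) (tt N9644 F105355) (tt N11384 F105356))
theorem Q11386 : ∀ i, i < 11386 → P i := stepQ 11385 Q11385 (allL N11385 (tt N10386 F135380) (tt N9600 F105357) (tt N9622 F135381) (tt N9868 F135382) (tt N11001 F105359) (tt N9590 F105360) (tt N9626 F135383) (tt N9589 (iv D23503)) (tt N13301 D29228) (tt N11385 F105361))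
theorem Q11387 : ∀ i, i < 11387 → P i := stepQ 11386 Q11386 (allL N11386 (tt N10374 F135384) (tt N9601 F105362) (tt N9614 F135385) (tt N9849 F135386) (tt N11002 F105364) (tt N9646 F105365) (tt N9613 F135387) (tt N13301 (iv F135808)) (tt N9589 (iv D23504)) (tt N10679 F135388))
theorem Q11388 : ∀ i, i < 11388 → P i := stepQ 11387 Q11387 (allL N11387 (tt N10339 F105367) (tt N11012 F134748) (tt N9591 (iv D23505)) (tt N9602 F105368) (tt N9773 F105369) (tt N10735 F105370) (tt N13302 D29229) (tt N10731 F105371) (tt N9594 F105372) (tt N10779 F105373))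
theorem Q11389 : ∀ i, i < 11389 → P i := stepQ 11388 Q11388 (allL N11388 (tt N10340 F105374) (tt N10766 F105375) (tt N13302 (iv F135812)) (tt N9592 F105376) (tt N9774 F105377) (tt N13303 D29230) (tt N9591 (iv D23506)) (tt N13304 D29231) (tt N9595 F105378) (tt N10780 F105379))
theorem Q11390 : ∀ i, i < 11390 → P i := stepQ 11389 Q11389 (allL N11389 (tt N10341 F105380) (tt N10767 F105381) (tt N9604 F105382) (tt N13303 (iv F135819)) (tt N9654 F105383) (tt N9592 (iv D23507)) (tt N10737 F105384) (tt N13305 D29232) (tt N13306 D29233) (tt N10781 F105385))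
theorem Q11391 : ∀ i, i < 11391 → P i := stepQ 11390 Q11390 (allL N11390 (tt N10342 F105386) (tt N10768 F105387) (tt N9605 F105388) (tt N13304 (iv F135824)) (tt N9593 F105389) (tt N13305 (iv F135833)) (tt N10734 F105390) (tt N9592 (iv D23508)) (tt N9597 F105391) (tt N10782 F105392))
theorem Q11392 : ∀ i, i < 11392 → P i := stepQ 11391 Q11391 (allL N11391 (tt N10346 F105399) (tt N11004 F134974) (tt N9595 F105400) (tt N9606 F105401) (tt N9782 F105402) (tt N11003 F134975) (tt N9594 (iv D23510)) (tt N13307 D29234) (tt N13302 (iv F135815)) (tt N11391 F105403))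
theorem Q11393 : ∀ i, i < 11393 → P i := stepQ 11392 Q11392 (allL N11392 (tt N10347 F105404) (tt N10988 F134965) (tt N11003 F134966) (tt N9596 F105406) (tt N13308 D29235) (tt N9595 (iv D23511)) (tt N10987 F134967) (tt N13309 D29236) (tt N13310 D29237) (tt N11392 F105408))
theorem Q11394 : ∀ i, i < 11394 → P i := stepQ 11393 Q11393 (allL N11393 (tt N10348 F105409) (tt N11000 F105410) (tt N13307 (iv F135843)) (tt N9597 F105411) (tt N9784 F105412) (tt N13309 (iv F135860)) (tt N10990 F105413) (tt N9595 (iv D23512)) (tt N13304 (iv F135827)) (tt N11393 F105414))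
theorem Q11395 : ∀ i, i < 11395 → P i := stepQ 11394 Q11394 (allL N11394 (tt N10349 F105415) (tt N11001 F105416) (tt N9608 F105417) (tt N13309 (iv F135859)) (tt N9600 F105418) (tt N9597 F105419) (tt N11020 F134976) (tt N9596 (iv D23513)) (tt N13311 D29238) (tt N11394 F105420))
theorem Q11396 : ∀ i, i < 11396 → P i := stepQ 11395 Q11395 (allL N11395 (tt N10350 F105421) (tt N11002 F105422) (tt N9609 F105423) (tt N13310 (iv F135866)) (tt N9601 F105424) (tt N13306 (iv F135839)) (tt N10992 F105425) (tt N13311 (iv F135873)) (tt N9596 (iv D23514)) (tt N13312 D29239))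
theorem Q11397 : ∀ i, i < 11397 → P i := stepQ 11396 Q11396 (allL N11396 (tt N10351 F105426) (tt N9824 F135372) (tt N11396 F105427) (tt N13308 (iv F135852)) (tt N9598 (iv D23515)) (tt N9787 F105428) (tt N9823 F135373) (tt N13313 D29240) (tt N13314 D29241) (tt N11396 F105429))
theorem Q11398 : ∀ i, i < 11398 → P i := stepQ 11397 Q11397 (allL N11397 (tt N10352 F105430) (tt N9868 F135374) (tt N11397 F105431) (tt N9600 F105432) (tt N13313 (iv F135883)) (tt N9599 F105433) (tt N9872 F135375) (tt N9598 (iv D23516)) (tt N13315 D29242) (tt N11397 F105434))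
theorem Q11399 : ∀ i, i < 11399 → P i := stepQ 11398 Q11398 (allL N11398 (tt N10353 F105435) (tt N9849 F135376) (tt N11398 F105436) (tt N9601 F105437) (tt N13314 (iv F135890)) (tt N9663 F105438) (tt N9848 F135377) (tt N13315 (iv F135898)) (tt N9598 (iv D23517)) (tt N13316 D29243))
theorem Q11400 : ∀ i, i < 11400 → P i := stepQ 11399 Q11399 (allL N11399 (tt N10354 F105439) (tt N9626 F135032) (tt N9610 F105440) (tt N9872 F135033) (tt N11020 F135024) (tt N11399 F105441) (tt N9600 (iv D23518)) (tt N9625 F135034) (tt N13317 D29244) (tt N11399 F105442))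
theorem Q11401 : ∀ i, i < 11401 → P i := stepQ 11400 Q11400 (allL N11400 (tt N10355 F105443) (tt N13301 (iv F135802)) (tt N9611 F105444) (tt N13315 (iv F135895)) (tt N13311 (iv F135871)) (tt N9665 F105445) (tt N13317 (iv F135911)) (tt N9601 F105446) (tt N9600 (iv D23519)) (tt N13318 D29245))
theorem Q11402 : ∀ i, i < 11402 → P i := stepQ 11401 Q11401 (allL N11401 (tt N10356 F105447) (tt N10679 F135596) (tt N9612 F105448) (tt N13316 (iv F135902)) (tt N13312 (iv F135877)) (tt N9666 F105449) (tt N10678 F135597) (tt N13318 (iv F135919)) (tt N11401 F105450) (tt N9601 (iv D23520)))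
theorem Q11403 : ∀ i, i < 11403 → P i := stepQ 11402 Q11402 (allL N11402 (tt N10362 F105457) (tt N11021 F135003) (tt N9603 F105458) (tt N13302 (iv F135813)) (tt N9618 F105459) (tt N13319 D29246) (tt N9602 (iv D23522)) (tt N13320 D29247) (tt N9606 F105460) (tt N10844 F105461))
theorem Q11404 : ∀ i, i < 11404 → P i := stepQ 11403 Q11403 (allL N11403 (tt N10363 F105462) (tt N11238 F105463) (tt N13319 (iv F135923)) (tt N9604 F105464) (tt N13321 D29248) (tt N9603 (iv D23523)) (tt N11030 F135029) (tt N13322 D29249) (tt N11028 F135030) (tt N10845 F105466))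
theorem Q11405 : ∀ i, i < 11405 → P i := stepQ 11404 Q11404 (allL N11404 (tt N10364 F105467) (tt N11239 F105468) (tt N13320 (iv F135929)) (tt N9605 F105469) (tt N9620 F105470) (tt N13322 (iv F135944)) (tt N11019 (iv F135192)) (tt N9603 (iv D23524)) (tt N9607 F105472) (tt N10846 F105473))
theorem Q11406 : ∀ i, i < 11406 → P i := stepQ 11405 Q11405 (allL N11405 (tt N10365 F105474) (tt N11240 F105475) (tt N13305 (iv F135831)) (tt N13322 (iv F135943)) (tt N9674 F105476) (tt N9605 F105477) (tt N13323 D29250) (tt N9604 (iv D23525)) (tt N13324 D29251) (tt N10847 F105478))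
theorem Q11407 : ∀ i, i < 11407 → P i := stepQ 11406 Q11406 (allL N11406 (tt N10366 F105479) (tt N11241 F105480) (tt N13306 (iv F135837)) (tt N11028 F135045) (tt N9675 F105481) (tt N9609 F105482) (tt N11031 F135046) (tt N13324 (iv F135958)) (tt N9604 (iv D23526)) (tt N13325 D29252))
theorem Q11408 : ∀ i, i < 11408 → P i := stepQ 11407 Q11407 (allL N11407 (tt N10368 F105499) (tt N11020 F135002) (tt N9607 F105500) (tt N13307 (iv F135844)) (tt N9626 F105501) (tt N11009 F135004) (tt N11001 (iv F135340)) (tt N9606 (iv D23530)) (tt N13320 (iv F135932)) (tt N11407 F105503))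
theorem Q11409 : ∀ i, i < 11409 → P i := stepQ 11408 Q11408 (allL N11408 (tt N10369 F105521) (tt N11242 (iv F135233)) (tt N13311 (iv F135870)) (tt N11025 F135047) (tt N9611 F105523) (tt N13324 (iv F135957)) (tt N11023 F135048) (tt N9609 F105524) (tt N9608 (iv D23534)) (tt N13326 D29253))
theorem Q11410 : ∀ i, i < 11410 → P i := stepQ 11409 Q11409 (allL N11409 (tt N10370 F105525) (tt N11131 (iv F135235)) (tt N13312 (iv F135876)) (tt N11029 F135049) (tt N9612 F105527) (tt N13325 (iv F135963)) (tt N11027 F135050) (tt N13326 (iv F135971)) (tt N11409 F105529) (tt N9609 (iv D23535)))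
theorem Q11411 : ∀ i, i < 11411 → P i := stepQ 11410 Q11410 (allL N11410 (tt N10371 F105530) (tt N11309 F135038) (tt N13317 (iv F135908)) (tt N11410 F105531) (tt N11023 F135025) (tt N13327 D29254) (tt N9611 F105532) (tt N11022 F135026) (tt N9610 (iv D23536)) (tt N11314 F135039))
theorem Q11412 : ∀ i, i < 11412 → P i := stepQ 11411 Q11411 (allL N11411 (tt N10372 F105533) (tt N11192 F135598) (tt N13318 (iv F135916)) (tt N11411 F105534) (tt N13326 (iv F135969)) (tt N9684 F105535) (tt N11314 F135599) (tt N9612 F105536) (tt N11411 F105537) (tt N9611 (iv D23537)))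
theorem Q11413 : ∀ i, i < 11413 → P i := stepQ 11412 Q11412 (allL N11412 (tt N10376 F105556) (tt N11190 F105557) (tt N13301 (iv F135803)) (tt N9616 F105558) (tt N11019 F135443) (tt N13278 (iv F135649)) (tt N9620 F105560) (tt N9614 (iv D23541)) (tt N9622 F105561) (tt N10681 F105562))
theorem Q11414 : ∀ i, i < 11414 → P i := stepQ 11413 Q11413 (allL N11413 (tt N10377 F105563) (tt N11191 F105564) (tt N9852 F105565) (tt N13278 (iv F135647)) (tt N10688 F105566) (tt N9616 F105567) (tt N13328 D29255) (tt N9615 (iv D23542)) (tt N13276 (iv F135636)) (tt N10682 F105568))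
theorem Q11415 : ∀ i, i < 11415 → P i := stepQ 11414 Q11414 (allL N11414 (tt N9617 (iv D23544)) (tt N10379 F105575) (tt N10272 F134455) (tt N9860 F105577) (tt N10271 F134456) (tt N11414 F105578) (tt N13329 D29256) (tt N10317 F133811) (tt N9624 F105579) (tt N10885 F105580))
theorem Q11416 : ∀ i, i < 11416 → P i := stepQ 11415 Q11415 (allL N11415 (tt N13329 (iv F135987)) (tt N9618 F105581) (tt N11022 F135035) (tt N9861 F105583) (tt N11021 F135036) (tt N13330 D29257) (tt N9617 (iv D23545)) (tt N13317 (iv F135912)) (tt N9625 F105584) (tt N10886 F105585))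
theorem Q11417 : ∀ i, i < 11417 → P i := stepQ 11416 Q11416 (allL N11416 (tt N10381 F105586) (tt N13330 (iv F135995)) (tt N9619 F105587) (tt N9862 F105588) (tt N13331 D29258) (tt N9618 (iv D23546)) (tt N11416 F105589) (tt N13332 D29259) (tt N11416 F105590) (tt N10887 F105591))
theorem Q11418 : ∀ i, i < 11418 → P i := stepQ 11417 Q11417 (allL N11417 (tt N10382 F105592) (tt N13317 (iv F135907)) (tt N9620 F105593) (tt N9863 F105594) (tt N13320 (iv F135930)) (tt N13332 (iv F136009)) (tt N13301 (iv F135807)) (tt N9618 (iv D23547)) (tt N9626 F105595) (tt N10888 F105596))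
theorem Q11419 : ∀ i, i < 11419 → P i := stepQ 11418 Q11418 (allL N11418 (tt N10383 F105597) (tt N11116 F135536) (tt N13331 (iv F136002)) (tt N9687 F105599) (tt N9619 (iv D23548)) (tt N13321 (iv F135937)) (tt N11418 F105600) (tt N13333 D29260) (tt N11418 F105601) (tt N10889 F105602))
theorem Q11420 : ∀ i, i < 11420 → P i := stepQ 11419 Q11419 (allL N11419 (tt N10384 F105603) (tt N11310 F105604) (tt N13332 (iv F136007)) (tt N9621 F105605) (tt N13333 (iv F136015)) (tt N9620 F105606) (tt N13334 D29261) (tt N9619 (iv D23549)) (tt N11419 F105607) (tt N10890 F105608))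
theorem Q11421 : ∀ i, i < 11421 → P i := stepQ 11420 Q11420 (allL N11420 (tt N10385 F105609) (tt N11311 F105610) (tt N9866 F105611) (tt N13334 (iv F136020)) (tt N9689 F105612) (tt N13328 (iv F135984)) (tt N9621 (iv D23550)) (tt N11420 F105613) (tt N11420 F105614) (tt N10892 F105615))
theorem Q11422 : ∀ i, i < 11422 → P i := stepQ 11421 Q11421 (allL N11421 (tt N9625 F105667) (tt N10388 F105668) (tt N10263 F134453) (tt N9871 F105669) (tt N10261 F134454) (tt N11421 F105670) (tt N9624 (iv D23560)) (tt N10354 F133809) (tt N13329 (iv F135993)) (tt N11421 F105671))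
theorem Q11423 : ∀ i, i < 11423 → P i := stepQ 11422 Q11422 (allL N11422 (tt N9635 F105712) (tt N10390 F105713) (tt N13335 D29262) (tt N9627 (iv D23568)) (tt N9879 F105714) (tt N9939 F105715) (tt N13336 D29263) (tt N10722 F105716) (tt N9629 F105717) (tt N10333 F105718))
theorem Q11424 : ∀ i, i < 11424 → P i := stepQ 11423 Q11423 (allL N11423 (tt N9636 F105719) (tt N10391 F105720) (tt N9980 F105721) (tt N13336 (iv F136033)) (tt N9628 F105722) (tt N13337 D29264) (tt N9627 (iv D23569)) (tt N13338 D29265) (tt N9630 F105723) (tt N10334 F105724))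
theorem Q11425 : ∀ i, i < 11425 → P i := stepQ 11424 Q11424 (allL N11424 (tt N9637 F105725) (tt N10392 F105726) (tt N9981 F105727) (tt N9881 F105728) (tt N13338 (iv F136046)) (tt N9931 F105729) (tt N10724 F105730) (tt N9628 (iv D23570)) (tt N9631 F105731) (tt N10335 F105732))
theorem Q11426 : ∀ i, i < 11426 → P i := stepQ 11425 Q11425 (allL N11425 (tt N9638 F105733) (tt N13339 D29266) (tt N9629 (iv D23571)) (tt N10303 F133573) (tt N9885 F105735) (tt N11425 F105736) (tt N13340 D29267) (tt N10301 (iv F134199)) (tt N13335 (iv F136029)) (tt N9690 F105738))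
theorem Q11427 : ∀ i, i < 11427 → P i := stepQ 11426 Q11426 (allL N11426 (tt N9639 F105739) (tt N10393 F105740) (tt N13340 (iv F136058)) (tt N9630 F105741) (tt N9886 F105742) (tt N13341 D29268) (tt N9629 (iv D23572)) (tt N13342 D29269) (tt N13336 (iv F136035)) (tt N9691 F105743))
theorem Q11428 : ∀ i, i < 11428 → P i := stepQ 11427 Q11427 (allL N11427 (tt N9640 F105744) (tt N10394 F105745) (tt N11320 F105746) (tt N13341 (iv F136064)) (tt N9633 F105747) (tt N9630 (iv D23573)) (tt N11427 F105748) (tt N13343 D29270) (tt N13344 D29271) (tt N9692 F105749))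
theorem Q11429 : ∀ i, i < 11429 → P i := stepQ 11428 Q11428 (allL N11428 (tt N9641 F105750) (tt N10395 F105751) (tt N11321 F105752) (tt N13342 (iv F136070)) (tt N9631 F105753) (tt N13343 (iv F136078)) (tt N10911 F105754) (tt N9630 (iv D23574)) (tt N13338 (iv F136048)) (tt N9693 F105755))
theorem Q11430 : ∀ i, i < 11430 → P i := stepQ 11429 Q11429 (allL N11429 (tt N9643 F105766) (tt N10396 F105767) (tt N10696 F134416) (tt N9633 F105768) (tt N10957 F134417) (tt N9632 (iv D23577)) (tt N11429 F105769) (tt N13345 D29272) (tt N10692 F134418) (tt N9694 F105770))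
theorem Q11431 : ∀ i, i < 11431 → P i := stepQ 11430 Q11430 (allL N11430 (tt N9644 F105771) (tt N10397 F105772) (tt N10719 F133675) (tt N9634 F105773) (tt N9889 F105774) (tt N13345 (iv F136090)) (tt N11430 F105775) (tt N9632 (iv D23578)) (tt N10717 F133676) (tt N9695 F105776))
theorem Q11432 : ∀ i, i < 11432 → P i := stepQ 11431 Q11431 (allL N11431 (tt N9645 F105777) (tt N10398 F105778) (tt N13275 (iv F135624)) (tt N13345 (iv F136088)) (tt N13343 (iv F136077)) (tt N9634 F105779) (tt N13346 D29273) (tt N9633 (iv D23579)) (tt N13347 D29274) (tt N9696 F105780))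
theorem Q11433 : ∀ i, i < 11433 → P i := stepQ 11432 Q11432 (allL N11432 (tt N9646 F105781) (tt N10399 F105782) (tt N10375 F135606) (tt N10692 F135607) (tt N13344 (iv F136083)) (tt N10374 F135608) (tt N11432 F105783) (tt N13347 (iv F136103)) (tt N9633 (iv D23580)) (tt N13348 D29275))
theorem Q11434 : ∀ i, i < 11434 → P i := stepQ 11433 Q11433 (allL N11433 (tt N13335 (iv F136024)) (tt N11016 F133570) (tt N9635 (iv D23581)) (tt N10819 F105784) (tt N9905 F105785) (tt N10779 F105786) (tt N13349 D29276) (tt N10739 F105787) (tt N9638 F105788) (tt N10735 F105789))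
theorem Q11435 : ∀ i, i < 11435 → P i := stepQ 11434 Q11434 (allL N11434 (tt N13336 (iv F136031)) (tt N9653 F105790) (tt N13349 (iv F136112)) (tt N9636 F105791) (tt N9906 F105792) (tt N13350 D29277) (tt N9635 (iv D23582)) (tt N13351 D29278) (tt N9639 F105793) (tt N10736 F105794))
theorem Q11436 : ∀ i, i < 11436 → P i := stepQ 11435 Q11435 (allL N11435 (tt N13337 (iv F136037)) (tt N9654 F105795) (tt N10821 F105796) (tt N13350 (iv F136118)) (tt N10767 F105797) (tt N9636 (iv D23583)) (tt N10781 F105798) (tt N13352 D29279) (tt N13353 D29280) (tt N10737 F105799))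
theorem Q11437 : ∀ i, i < 11437 → P i := stepQ 11436 Q11436 (allL N11436 (tt N13338 (iv F136043)) (tt N9655 F105800) (tt N10822 F105801) (tt N13351 (iv F136122)) (tt N9637 F105802) (tt N13352 (iv F136130)) (tt N10742 F105803) (tt N9636 (iv D23584)) (tt N9641 F105804) (tt N10738 F105805))
theorem Q11438 : ∀ i, i < 11438 → P i := stepQ 11437 Q11437 (allL N11437 (tt N13340 (iv F136057)) (tt N10953 F133569) (tt N9639 F105812) (tt N10980 (iv F134271)) (tt N9914 F105814) (tt N13354 D29281) (tt N9638 (iv D23586)) (tt N13355 D29282) (tt N13349 (iv F136115)) (tt N9698 F105815))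
theorem Q11439 : ∀ i, i < 11439 → P i := stepQ 11438 Q11438 (allL N11438 (tt N13341 (iv F136062)) (tt N9657 F105816) (tt N13354 (iv F136138)) (tt N9640 F105817) (tt N13356 D29283) (tt N9639 (iv D23587)) (tt N11438 F105818) (tt N13357 D29284) (tt N13358 D29285) (tt N9699 F105819))
theorem Q11440 : ∀ i, i < 11440 → P i := stepQ 11439 Q11439 (allL N11439 (tt N13342 (iv F136068)) (tt N9658 F105820) (tt N13355 (iv F136143)) (tt N9641 F105821) (tt N9916 F105822) (tt N13357 (iv F136156)) (tt N10917 F105823) (tt N9639 (iv D23588)) (tt N13351 (iv F136125)) (tt N9700 F105824))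
theorem Q11441 : ∀ i, i < 11441 → P i := stepQ 11440 Q11440 (allL N11440 (tt N13343 (iv F136074)) (tt N9659 F105825) (tt N11323 F105826) (tt N13357 (iv F136155)) (tt N9645 F105827) (tt N9641 F105828) (tt N13359 D29286) (tt N9640 (iv D23589)) (tt N13360 D29287) (tt N9701 F105829))
theorem Q11442 : ∀ i, i < 11442 → P i := stepQ 11441 Q11441 (allL N11441 (tt N13344 (iv F136080)) (tt N9660 F105830) (tt N11324 F105831) (tt N13358 (iv F136159)) (tt N9646 F105832) (tt N13353 (iv F136135)) (tt N11441 F105833) (tt N13360 (iv F136170)) (tt N9640 (iv D23590)) (tt N13361 D29288))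
theorem Q11443 : ∀ i, i < 11443 → P i := stepQ 11442 Q11442 (allL N11442 (tt N10696 F133691) (tt N11442 F105834) (tt N9643 F105835) (tt N9853 F133692) (tt N10315 (iv F134415)) (tt N9642 (iv D23591)) (tt N11442 F105836) (tt N13362 D29289) (tt N9850 F133694) (tt N9703 F105837))
theorem Q11444 : ∀ i, i < 11444 → P i := stepQ 11443 Q11443 (allL N11443 (tt N10719 F133695) (tt N11443 F105838) (tt N9644 F105839) (tt N9870 F133696) (tt N9919 F105840) (tt N13362 (iv F136181)) (tt N11443 F105841) (tt N9642 (iv D23592)) (tt N9869 F133697) (tt N9704 F105842))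
theorem Q11445 : ∀ i, i < 11445 → P i := stepQ 11444 Q11444 (allL N11444 (tt N10957 F133703) (tt N9661 F105843) (tt N10315 F133718) (tt N13356 (iv F136150)) (tt N9643 (iv D23593)) (tt N9920 F105844) (tt N11444 F105845) (tt N13363 D29290) (tt N13364 D29291) (tt N9705 F105846))
theorem Q11446 : ∀ i, i < 11446 → P i := stepQ 11445 Q11445 (allL N11445 (tt N13345 (iv F136085)) (tt N9662 F105847) (tt N13362 (iv F136178)) (tt N9645 F105848) (tt N13363 (iv F136187)) (tt N9644 F105849) (tt N13365 D29292) (tt N9643 (iv D23594)) (tt N13366 D29293) (tt N9706 F105850))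
theorem Q11447 : ∀ i, i < 11447 → P i := stepQ 11446 Q11446 (allL N11446 (tt N10692 F135609) (tt N9663 F105851) (tt N9850 F135610) (tt N9646 F105852) (tt N13364 (iv F136193)) (tt N9849 F135611) (tt N11446 F105853) (tt N13366 (iv F136205)) (tt N9643 (iv D23595)) (tt N13367 D29294))
theorem Q11448 : ∀ i, i < 11448 → P i := stepQ 11447 Q11447 (allL N11447 (tt N13346 (iv F136093)) (tt N9664 F105854) (tt N13277 (iv F135639)) (tt N13365 (iv F136196)) (tt N13359 (iv F136163)) (tt N11447 F105855) (tt N9645 (iv D23596)) (tt N11447 F105856) (tt N13368 D29295) (tt N9708 F105857))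
theorem Q11449 : ∀ i, i < 11449 → P i := stepQ 11448 Q11448 (allL N11448 (tt N13347 (iv F136098)) (tt N9665 F105858) (tt N13278 (iv F135646)) (tt N13366 (iv F136203)) (tt N13360 (iv F136169)) (tt N13301 (iv F135806)) (tt N13368 (iv F136214)) (tt N9646 F105859) (tt N9645 (iv D23597)) (tt N13369 D29296))
theorem Q11450 : ∀ i, i < 11450 → P i := stepQ 11449 Q11449 (allL N11449 (tt N13348 (iv F136104)) (tt N9666 F105860) (tt N10680 F135604) (tt N13367 (iv F136209)) (tt N13361 (iv F136173)) (tt N10679 F135605) (tt N11449 F105861) (tt N13369 (iv F136219)) (tt N9710 F105862) (tt N9646 (iv D23598)))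
theorem Q11451 : ∀ i, i < 11451 → P i := stepQ 11450 Q11450 (allL N11450 (tt N10418 F105863) (tt N9770 F105864) (tt N13370 D29297) (tt N9647 (iv D23599)) (tt N9649 F105865) (tt N9926 F105866) (tt N13371 D29298) (tt N10758 F105867) (tt N11450 F105868) (tt N9742 F105869))
theorem Q11452 : ∀ i, i < 11452 → P i := stepQ 11451 Q11451 (allL N11451 (tt N10419 F105870) (tt N9771 F105871) (tt N11451 F105872) (tt N13371 (iv F136231)) (tt N9648 F105873) (tt N13372 D29299) (tt N9647 (iv D23600)) (tt N13373 D29300) (tt N11451 F105874) (tt N9743 F105875))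
theorem Q11453 : ∀ i, i < 11453 → P i := stepQ 11452 Q11452 (allL N11452 (tt N10420 F105876) (tt N9772 F105877) (tt N11452 F105878) (tt N9651 F105879) (tt N13373 (iv F136244)) (tt N9904 F105880) (tt N10760 F105881) (tt N9648 (iv D23601)) (tt N11452 F105882) (tt N9744 F105883))
theorem Q11454 : ∀ i, i < 11454 → P i := stepQ 11453 Q11453 (allL N11453 (tt N10421 F105884) (tt N11014 F134759) (tt N9649 (iv D23602)) (tt N9667 F105885) (tt N13370 (iv F136223)) (tt N9652 F105886) (tt N13374 D29301) (tt N10769 F105887) (tt N11453 F105888) (tt N10765 F105889))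
theorem Q11455 : ∀ i, i < 11455 → P i := stepQ 11454 Q11454 (allL N11454 (tt N10422 F105890) (tt N10780 F105891) (tt N13374 (iv F136250)) (tt N9650 F105892) (tt N13371 (iv F136232)) (tt N13375 D29302) (tt N9649 (iv D23603)) (tt N13376 D29303) (tt N11454 F105893) (tt N10766 F105894))
theorem Q11456 : ∀ i, i < 11456 → P i := stepQ 11455 Q11455 (allL N11455 (tt N10423 F105895) (tt N10781 F105896) (tt N9669 F105897) (tt N13375 (iv F136256)) (tt N10737 F105898) (tt N9650 (iv D23604)) (tt N9654 F105899) (tt N13377 D29304) (tt N13378 D29305) (tt N10767 F105900))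
theorem Q11457 : ∀ i, i < 11457 → P i := stepQ 11456 Q11456 (allL N11456 (tt N10424 F105901) (tt N10782 F105902) (tt N9670 F105903) (tt N13376 (iv F136261)) (tt N9651 F105904) (tt N13377 (iv F136269)) (tt N10772 F105905) (tt N9650 (iv D23605)) (tt N11456 F105906) (tt N10768 F105907))
theorem Q11458 : ∀ i, i < 11458 → P i := stepQ 11457 Q11457 (allL N11457 (tt N10426 F105913) (tt N10812 F134714) (tt N9653 F105914) (tt N9671 F105915) (tt N9951 F105916) (tt N13379 D29306) (tt N9652 (iv D23607)) (tt N13380 D29307) (tt N9656 F105917) (tt N10756 F134715))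
theorem Q11459 : ∀ i, i < 11459 → P i := stepQ 11458 Q11458 (allL N11458 (tt N10427 F105919) (tt N13350 (iv F136117)) (tt N13379 (iv F136279)) (tt N9654 F105920) (tt N13381 D29308) (tt N9653 (iv D23608)) (tt N13375 (iv F136257)) (tt N13382 D29309) (tt N13383 D29310) (tt N10783 F105921))
theorem Q11460 : ∀ i, i < 11460 → P i := stepQ 11459 Q11459 (allL N11459 (tt N10428 F105922) (tt N13351 (iv F136121)) (tt N13380 (iv F136284)) (tt N9655 F105923) (tt N9953 F105924) (tt N13382 (iv F136295)) (tt N10790 F105925) (tt N9653 (iv D23609)) (tt N9658 F105926) (tt N10784 F105927))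
theorem Q11461 : ∀ i, i < 11461 → P i := stepQ 11460 Q11460 (allL N11460 (tt N10429 F105928) (tt N13352 (iv F136127)) (tt N9674 F105929) (tt N13382 (iv F136294)) (tt N13305 (iv F135832)) (tt N9655 F105930) (tt N13384 D29311) (tt N9654 (iv D23610)) (tt N13385 D29312) (tt N10785 F105931))
theorem Q11462 : ∀ i, i < 11462 → P i := stepQ 11461 Q11461 (allL N11461 (tt N10430 F105932) (tt N13353 (iv F136132)) (tt N9675 F105933) (tt N13383 (iv F136298)) (tt N13306 (iv F135838)) (tt N9660 F105934) (tt N13378 (iv F136276)) (tt N13385 (iv F136307)) (tt N9654 (iv D23611)) (tt N13386 D29313))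
theorem Q11463 : ∀ i, i < 11463 → P i := stepQ 11462 Q11462 (allL N11462 (tt N10432 F105945) (tt N10946 F134938) (tt N9657 F105946) (tt N9676 F105947) (tt N13387 D29314) (tt N9656 (iv D23614)) (tt N11462 F105948) (tt N13388 D29315) (tt N13389 D29316) (tt N9711 F105949))
theorem Q11464 : ∀ i, i < 11464 → P i := stepQ 11463 Q11463 (allL N11463 (tt N10433 F105950) (tt N10954 F134706) (tt N9658 F105951) (tt N9677 F105952) (tt N9965 F105953) (tt N13388 (iv F136323)) (tt N10931 F105954) (tt N9656 (iv D23615)) (tt N13380 (iv F136288)) (tt N9712 F105955))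
theorem Q11465 : ∀ i, i < 11465 → P i := stepQ 11464 Q11464 (allL N11464 (tt N10434 F105956) (tt N13356 (iv F136149)) (tt N13387 (iv F136314)) (tt N9661 F105957) (tt N9657 (iv D23616)) (tt N9966 F105958) (tt N11464 F105959) (tt N13390 D29317) (tt N13391 D29318) (tt N9713 F105960))
theorem Q11466 : ∀ i, i < 11466 → P i := stepQ 11465 Q11465 (allL N11465 (tt N10435 F105961) (tt N13357 (iv F136154)) (tt N13388 (iv F136321)) (tt N9659 F105962) (tt N13390 (iv F136333)) (tt N9658 F105963) (tt N13392 D29319) (tt N9657 (iv D23617)) (tt N13393 D29320) (tt N9714 F105964))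
theorem Q11467 : ∀ i, i < 11467 → P i := stepQ 11466 Q11466 (allL N11466 (tt N10436 F105965) (tt N13358 (iv F136158)) (tt N13389 (iv F136327)) (tt N9660 F105966) (tt N13391 (iv F136338)) (tt N13383 (iv F136299)) (tt N11466 F105967) (tt N13393 (iv F136347)) (tt N9657 (iv D23618)) (tt N13394 D29321))
theorem Q11468 : ∀ i, i < 11468 → P i := stepQ 11467 Q11467 (allL N11467 (tt N10437 F105968) (tt N13359 (iv F136161)) (tt N9680 F105969) (tt N13392 (iv F136341)) (tt N9664 F105970) (tt N10935 F105971) (tt N9659 (iv D23619)) (tt N11467 F105972) (tt N13395 D29322) (tt N9716 F105973))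
theorem Q11469 : ∀ i, i < 11469 → P i := stepQ 11468 Q11468 (allL N11468 (tt N10438 F105974) (tt N13360 (iv F136167)) (tt N9681 F105975) (tt N13393 (iv F136346)) (tt N9665 F105976) (tt N13385 (iv F136306)) (tt N13395 (iv F136356)) (tt N9660 F105977) (tt N9659 (iv D23620)) (tt N13396 D29323))
theorem Q11470 : ∀ i, i < 11470 → P i := stepQ 11469 Q11469 (allL N11469 (tt N10439 F105978) (tt N13361 (iv F136171)) (tt N9682 F105979) (tt N13394 (iv F136350)) (tt N9666 F105980) (tt N13386 (iv F136310)) (tt N11469 F105981) (tt N13396 (iv F136361)) (tt N9718 F105982) (tt N9660 (iv D23621)))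
theorem Q11471 : ∀ i, i < 11471 → P i := stepQ 11470 Q11470 (allL N11470 (tt N10440 F105983) (tt N13363 (iv F136185)) (tt N11470 F105984) (tt N13390 (iv F136332)) (tt N9662 F105985) (tt N9972 F105986) (tt N13397 D29324) (tt N9661 (iv D23622)) (tt N13398 D29325) (tt N9719 F105987))
theorem Q11472 : ∀ i, i < 11472 → P i := stepQ 11471 Q11471 (allL N11471 (tt N10441 F105988) (tt N13364 (iv F136191)) (tt N11471 F105989) (tt N13391 (iv F136337)) (tt N9663 F105990) (tt N13399 D29326) (tt N11471 F105991) (tt N13398 (iv F136371)) (tt N9661 (iv D23623)) (tt N13400 D29327))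
theorem Q11473 : ∀ i, i < 11473 → P i := stepQ 11472 Q11472 (allL N11472 (tt N10442 F105992) (tt N13365 (iv F136195)) (tt N11472 F105993) (tt N9664 F105994) (tt N13397 (iv F136365)) (tt N11472 F105995) (tt N9662 (iv D23624)) (tt N11472 F105996) (tt N13401 D29328) (tt N9721 F105997))
theorem Q11474 : ∀ i, i < 11474 → P i := stepQ 11473 Q11473 (allL N11473 (tt N10443 F105998) (tt N13366 (iv F136201)) (tt N11473 F105999) (tt N9665 F106000) (tt N13398 (iv F136370)) (tt N13315 (iv F135896)) (tt N13401 (iv F136383)) (tt N9663 F106001) (tt N9662 (iv D23625)) (tt N13402 D29329))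
theorem Q11475 : ∀ i, i < 11475 → P i := stepQ 11474 Q11474 (allL N11474 (tt N10444 F106002) (tt N13367 (iv F136207)) (tt N11474 F106003) (tt N9666 F106004) (tt N13400 (iv F136377)) (tt N13316 (iv F135903)) (tt N11474 F106005) (tt N13402 (iv F136388)) (tt N9723 F106006) (tt N9663 (iv D23626)))
theorem Q11476 : ∀ i, i < 11476 → P i := stepQ 11475 Q11475 (allL N11475 (tt N10445 F106007) (tt N13368 (iv F136213)) (tt N9683 F106008) (tt N13401 (iv F136382)) (tt N13395 (iv F136355)) (tt N13403 D29330) (tt N9665 F106009) (tt N11475 F106010) (tt N9664 (iv D23627)) (tt N13404 D29331))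
theorem Q11477 : ∀ i, i < 11477 → P i := stepQ 11476 Q11476 (allL N11476 (tt N10446 F106011) (tt N13369 (iv F136216)) (tt N9684 F106012) (tt N13402 (iv F136387)) (tt N13396 (iv F136360)) (tt N13318 (iv F135917)) (tt N13404 (iv F136396)) (tt N9666 F106013) (tt N9725 F106014) (tt N9665 (iv D23628)))
theorem Q11478 : ∀ i, i < 11478 → P i := stepQ 11477 Q11477 (allL N11477 (tt N10448 F106021) (tt N11011 F134760) (tt N9668 F106022) (tt N13374 (iv F136251)) (tt N11477 F106023) (tt N13405 D29332) (tt N9667 (iv D23630)) (tt N13406 D29333) (tt N11477 F106024) (tt N10823 F106025))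
theorem Q11479 : ∀ i, i < 11479 → P i := stepQ 11478 Q11478 (allL N11478 (tt N10449 F106026) (tt N11247 F135435) (tt N13405 (iv F136401)) (tt N9669 F106028) (tt N13407 D29334) (tt N9668 (iv D23631)) (tt N9672 F106029) (tt N13408 D29335) (tt N13409 D29336) (tt N10824 F106030))
theorem Q11480 : ∀ i, i < 11480 → P i := stepQ 11479 Q11479 (allL N11479 (tt N10450 F106031) (tt N11248 F106032) (tt N13406 (iv F136406)) (tt N9670 F106033) (tt N11479 F106034) (tt N13408 (iv F136421)) (tt N10831 F106035) (tt N9668 (iv D23632)) (tt N11479 F106036) (tt N10825 F106037))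
theorem Q11481 : ∀ i, i < 11481 → P i := stepQ 11480 Q11480 (allL N11480 (tt N10451 F106038) (tt N11249 F106039) (tt N13377 (iv F136267)) (tt N13408 (iv F136420)) (tt N11234 F106040) (tt N9670 F106041) (tt N13410 D29337) (tt N9669 (iv D23633)) (tt N13411 D29338) (tt N10826 F106042))
theorem Q11482 : ∀ i, i < 11482 → P i := stepQ 11481 Q11481 (allL N11481 (tt N10452 F106043) (tt N11250 F106044) (tt N13378 (iv F136273)) (tt N13409 (iv F136425)) (tt N11031 F135065) (tt N11481 F106046) (tt N9675 F106047) (tt N13411 (iv F136440)) (tt N9669 (iv D23634)) (tt N13412 D29339))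
theorem Q11483 : ∀ i, i < 11483 → P i := stepQ 11482 Q11482 (allL N11482 (tt N10454 F106059) (tt N10801 F134716) (tt N9672 F106060) (tt N13379 (iv F136280)) (tt N13413 D29340) (tt N9671 (iv D23637)) (tt N13405 (iv F136402)) (tt N13414 D29341) (tt N13415 D29342) (tt N10748 F134717))
theorem Q11484 : ∀ i, i < 11484 → P i := stepQ 11483 Q11483 (allL N11483 (tt N10455 F106062) (tt N10814 F134708) (tt N9673 F106063) (tt N13380 (iv F136285)) (tt N9686 F106064) (tt N13414 (iv F136456)) (tt N10856 F106065) (tt N9671 (iv D23638)) (tt N9677 F106066) (tt N10757 F134709))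
theorem Q11485 : ∀ i, i < 11485 → P i := stepQ 11484 Q11484 (allL N11484 (tt N10456 F106068) (tt N11096 F135432) (tt N13413 (iv F136450)) (tt N13321 (iv F135936)) (tt N9672 (iv D23639)) (tt N9687 F106070) (tt N13407 (iv F136415)) (tt N13416 D29343) (tt N13417 D29344) (tt N10849 F106071))
theorem Q11486 : ∀ i, i < 11486 → P i := stepQ 11485 Q11485 (allL N11485 (tt N10457 F106072) (tt N11269 F135427) (tt N13414 (iv F136455)) (tt N9674 F106074) (tt N13416 (iv F136465)) (tt N9673 F106075) (tt N13418 D29345) (tt N9672 (iv D23640)) (tt N13419 D29346) (tt N10850 F106076))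
theorem Q11487 : ∀ i, i < 11487 → P i := stepQ 11486 Q11486 (allL N11486 (tt N10458 F106077) (tt N11265 F135436) (tt N13415 (iv F136460)) (tt N9675 F106079) (tt N13417 (iv F136471)) (tt N9679 F106080) (tt N13409 (iv F136428)) (tt N13419 (iv F136484)) (tt N9672 (iv D23641)) (tt N11236 F135437))
theorem Q11488 : ∀ i, i < 11488 → P i := stepQ 11487 Q11487 (allL N11487 (tt N10459 F106081) (tt N11291 F106082) (tt N13384 (iv F136301)) (tt N13418 (iv F136477)) (tt N13323 (iv F135949)) (tt N10860 F106083) (tt N9674 (iv D23642)) (tt N13410 (iv F136434)) (tt N13420 D29347) (tt N10851 F106084))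
theorem Q11489 : ∀ i, i < 11489 → P i := stepQ 11488 Q11488 (allL N11488 (tt N10460 F106085) (tt N11292 F106086) (tt N13385 (iv F136305)) (tt N13419 (iv F136482)) (tt N13324 (iv F135956)) (tt N9681 F106087) (tt N13420 (iv F136488)) (tt N9675 F106088) (tt N9674 (iv D23643)) (tt N13421 D29348))
theorem Q11490 : ∀ i, i < 11490 → P i := stepQ 11489 Q11489 (allL N11489 (tt N10461 F106089) (tt N11262 F135421) (tt N13386 (iv F136309)) (tt N11236 F135422) (tt N13325 (iv F135962)) (tt N9682 F106091) (tt N13412 (iv F136446)) (tt N13421 (iv F136493)) (tt N10853 F106092) (tt N9675 (iv D23644)))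
theorem Q11491 : ∀ i, i < 11491 → P i := stepQ 11490 Q11490 (allL N11490 (tt N10464 F106108) (tt N10948 F134707) (tt N9678 F106109) (tt N13388 (iv F136322)) (tt N11490 F106110) (tt N9677 F106111) (tt N13422 D29349) (tt N9676 (iv D23648)) (tt N13423 D29350) (tt N9726 F106112))
theorem Q11492 : ∀ i, i < 11492 → P i := stepQ 11491 Q11491 (allL N11491 (tt N10465 F106113) (tt N10937 F134941) (tt N9679 F106114) (tt N13389 (iv F136328)) (tt N11491 F106115) (tt N13415 (iv F136461)) (tt N11491 F106116) (tt N13423 (iv F136506)) (tt N9676 (iv D23649)) (tt N10919 F134942))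
theorem Q11493 : ∀ i, i < 11493 → P i := stepQ 11492 Q11492 (allL N11492 (tt N10466 F106117) (tt N11339 F135563) (tt N13422 (iv F136497)) (tt N9680 F106119) (tt N11492 F106120) (tt N10962 F106121) (tt N9678 (iv D23650)) (tt N11492 F106122) (tt N13424 D29351) (tt N9727 F106123))
theorem Q11494 : ∀ i, i < 11494 → P i := stepQ 11493 Q11493 (allL N11493 (tt N10467 F106124) (tt N11338 F135564) (tt N13423 (iv F136504)) (tt N9681 F106126) (tt N11493 F106127) (tt N13419 (iv F136483)) (tt N13424 (iv F136512)) (tt N9679 F106128) (tt N9678 (iv D23651)) (tt N11327 F135565))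
theorem Q11495 : ∀ i, i < 11495 → P i := stepQ 11494 Q11494 (allL N11494 (tt N10469 F106135) (tt N11340 F106136) (tt N13395 (iv F136354)) (tt N13424 (iv F136510)) (tt N9683 F106137) (tt N13425 D29352) (tt N9681 F106138) (tt N11494 F106139) (tt N9680 (iv D23653)) (tt N13426 D29353))
theorem Q11496 : ∀ i, i < 11496 → P i := stepQ 11495 Q11495 (allL N11495 (tt N10470 F106140) (tt N11336 F135561) (tt N13396 (iv F136359)) (tt N11327 F135562) (tt N9684 F106142) (tt N13421 (iv F136492)) (tt N13426 (iv F136523)) (tt N9682 F106143) (tt N9729 F106144) (tt N9681 (iv D23654)))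
theorem Q11497 : ∀ i, i < 11497 → P i := stepQ 11496 Q11496 (allL N11496 (tt N10471 F106145) (tt N13281 (iv F135669)) (tt N13403 (iv F136391)) (tt N11496 F106146) (tt N13427 D29354) (tt N9683 (iv D23655)) (tt N13327 (iv F135976)) (tt N11496 F106147) (tt N11496 F106148) (tt N13428 D29355))
theorem Q11498 : ∀ i, i < 11498 → P i := stepQ 11497 Q11497 (allL N11497 (tt N10472 F106149) (tt N13282 (iv F135677)) (tt N13404 (iv F136395)) (tt N11497 F106150) (tt N13426 (iv F136522)) (tt N13428 (iv F136532)) (tt N9684 F106151) (tt N11497 F106152) (tt N9731 F106153) (tt N9683 (iv D23656)))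
theorem Q11499 : ∀ i, i < 11499 → P i := stepQ 11498 Q11498 (allL N11498 (tt N10475 F106172) (tt N10605 F134812) (tt N9687 F106173) (tt N13429 D29356) (tt N9685 (iv D23660)) (tt N13413 (iv F136451)) (tt N11498 F106174) (tt N13430 D29357) (tt N11498 F106175) (tt N10561 F134813))
theorem Q11500 : ∀ i, i < 11500 → P i := stepQ 11499 Q11499 (allL N11499 (tt N10476 F106177) (tt N10611 F134723) (tt N9688 F106178) (tt N10059 F106179) (tt N13430 (iv F136544)) (tt N9686 F106180) (tt N13431 D29358) (tt N9685 (iv D23661)) (tt N11499 F106181) (tt N10565 F134724))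
theorem Q11501 : ∀ i, i < 11501 → P i := stepQ 11500 Q11500 (allL N11500 (tt N10477 F106183) (tt N11118 F135539) (tt N13430 (iv F136543)) (tt N13333 (iv F136014)) (tt N9688 F106185) (tt N13416 (iv F136466)) (tt N13432 D29359) (tt N9687 (iv D23662)) (tt N11500 F106186) (tt N10894 F106187))
theorem Q11502 : ∀ i, i < 11502 → P i := stepQ 11501 Q11501 (allL N11501 (tt N10478 F106188) (tt N11120 F135540) (tt N13431 (iv F136549)) (tt N9689 F106190) (tt N13432 (iv F136557)) (tt N10902 F106191) (tt N9688 (iv D23663)) (tt N11501 F106192) (tt N11501 F106193) (tt N10895 F106194))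
theorem Q11503 : ∀ i, i < 11503 → P i := stepQ 11502 Q11502 (allL N11502 (tt N10305 F133565) (tt N9690 (iv D23665)) (tt N10292 (iv F134185)) (tt N10295 F133854) (tt N10073 F106204) (tt N11502 F106205) (tt N13433 D29360) (tt N10294 (iv F134190)) (tt N10293 F133855) (tt N13339 (iv F136056)))
theorem Q11504 : ∀ i, i < 11504 → P i := stepQ 11503 Q11503 (allL N11503 (tt N9698 F106208) (tt N13433 (iv F136562)) (tt N9691 F106209) (tt N10302 F133571) (tt N10074 F106211) (tt N13434 D29361) (tt N9690 (iv D23666)) (tt N13435 D29362) (tt N10300 F133572) (tt N13340 (iv F136061)))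
theorem Q11505 : ∀ i, i < 11505 → P i := stepQ 11504 Q11504 (allL N11504 (tt N9699 F106213) (tt N10479 F106214) (tt N13434 (iv F136570)) (tt N9692 F106215) (tt N10938 F134848) (tt N9691 (iv D23667)) (tt N11504 F106216) (tt N13436 D29363) (tt N13437 D29364) (tt N13341 (iv F136067)))
theorem Q11506 : ∀ i, i < 11506 → P i := stepQ 11505 Q11505 (allL N11505 (tt N9700 F106217) (tt N10480 F106218) (tt N13435 (iv F136576)) (tt N9693 F106219) (tt N10076 F106220) (tt N13436 (iv F136585)) (tt N10912 F106221) (tt N9691 (iv D23668)) (tt N10913 F106222) (tt N13342 (iv F136073)))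
theorem Q11507 : ∀ i, i < 11507 → P i := stepQ 11506 Q11506 (allL N11506 (tt N9701 F106223) (tt N10481 F106224) (tt N11322 F106225) (tt N13436 (iv F136583)) (tt N9696 F106226) (tt N9693 F106227) (tt N13438 D29365) (tt N9692 (iv D23669)) (tt N13439 D29366) (tt N13343 (iv F136079)))
theorem Q11508 : ∀ i, i < 11508 → P i := stepQ 11507 Q11507 (allL N11507 (tt N9702 F106228) (tt N10482 F106229) (tt N10313 F133863) (tt N13437 (iv F136589)) (tt N9697 F106231) (tt N10311 F133864) (tt N11507 F106233) (tt N13439 (iv F136604)) (tt N9692 (iv D23670)) (tt N13440 D29367))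
theorem Q11509 : ∀ i, i < 11509 → P i := stepQ 11508 Q11508 (allL N11508 (tt N9706 F106257) (tt N10483 F106258) (tt N10984 F133673) (tt N9696 F106259) (tt N10955 F133674) (tt N9695 F106260) (tt N13441 D29368) (tt N9694 (iv D23675)) (tt N13442 D29369) (tt N13345 (iv F136092)))
theorem Q11510 : ∀ i, i < 11510 → P i := stepQ 11509 Q11509 (allL N11509 (tt N9707 F106261) (tt N10484 F106262) (tt N11035 (iv F134375)) (tt N9697 F106264) (tt N10967 F134885) (tt N11509 F106266) (tt N11509 F106267) (tt N13442 (iv F136624)) (tt N9694 (iv D23676)) (tt N13443 D29370))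
theorem Q11511 : ∀ i, i < 11511 → P i := stepQ 11510 Q11510 (allL N11510 (tt N9708 F106268) (tt N10485 F106269) (tt N13286 (iv F135709)) (tt N13441 (iv F136614)) (tt N13438 (iv F136596)) (tt N11510 F106270) (tt N9696 (iv D23677)) (tt N11510 F106271) (tt N13444 D29371) (tt N13346 (iv F136097)))
theorem Q11512 : ∀ i, i < 11512 → P i := stepQ 11511 Q11511 (allL N11511 (tt N9709 F106272) (tt N10486 F106273) (tt N13287 (iv F135715)) (tt N13442 (iv F136621)) (tt N13439 (iv F136602)) (tt N11511 F106274) (tt N13444 (iv F136635)) (tt N9697 F106275) (tt N9696 (iv D23678)) (tt N13445 D29372))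
theorem Q11513 : ∀ i, i < 11513 → P i := stepQ 11512 Q11512 (allL N11512 (tt N9710 F106276) (tt N10487 F106277) (tt N13288 (iv F135721)) (tt N13443 (iv F136628)) (tt N13440 (iv F136608)) (tt N11512 F106278) (tt N11512 F106279) (tt N13445 (iv F136640)) (tt N13348 (iv F136110)) (tt N9697 (iv D23679)))
theorem Q11514 : ∀ i, i < 11514 → P i := stepQ 11513 Q11513 (allL N11513 (tt N13434 (iv F136568)) (tt N10941 F133566) (tt N9699 F106291) (tt N10967 (iv F134256)) (tt N13437 (iv F136590)) (tt N9698 (iv D23682)) (tt N11513 F106293) (tt N13446 D29373) (tt N10938 F133567) (tt N13354 (iv F136141)))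
theorem Q11515 : ∀ i, i < 11515 → P i := stepQ 11514 Q11514 (allL N11514 (tt N13435 (iv F136575)) (tt N10952 F133568) (tt N9700 F106294) (tt N10949 (iv F134217)) (tt N10096 F106296) (tt N13446 (iv F136644)) (tt N10921 F106297) (tt N9698 (iv D23683)) (tt N10925 F106298) (tt N13355 (iv F136147)))
theorem Q11516 : ∀ i, i < 11516 → P i := stepQ 11515 Q11515 (allL N11515 (tt N10938 F133602) (tt N9713 F106299) (tt N13437 (iv F136588)) (tt N9705 F106300) (tt N9699 (iv D23684)) (tt N10097 F106301) (tt N11515 F106302) (tt N13447 D29374) (tt N13434 (iv F136574)) (tt N13356 (iv F136153)))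
theorem Q11517 : ∀ i, i < 11517 → P i := stepQ 11516 Q11516 (allL N11516 (tt N13436 (iv F136581)) (tt N9714 F106303) (tt N13446 (iv F136642)) (tt N9701 F106304) (tt N13447 (iv F136649)) (tt N9700 F106305) (tt N13448 D29375) (tt N9699 (iv D23685)) (tt N13449 D29376) (tt N13357 (iv F136157)))
theorem Q11518 : ∀ i, i < 11518 → P i := stepQ 11517 Q11517 (allL N11517 (tt N13437 (iv F136586)) (tt N9715 F106306) (tt N10938 F134397) (tt N9702 F106307) (tt N13434 (iv F136572)) (tt N10920 F134398) (tt N11517 F106309) (tt N13449 (iv F136659)) (tt N9699 (iv D23686)) (tt N13450 D29377))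
theorem Q11519 : ∀ i, i < 11519 → P i := stepQ 11518 Q11518 (allL N11518 (tt N13438 (iv F136593)) (tt N9716 F106310) (tt N11325 F106311) (tt N13448 (iv F136652)) (tt N9708 F106312) (tt N10924 F106313) (tt N9701 (iv D23687)) (tt N11518 F106314) (tt N13451 D29378) (tt N13359 (iv F136166)))
theorem Q11520 : ∀ i, i < 11520 → P i := stepQ 11519 Q11519 (allL N11519 (tt N13439 (iv F136599)) (tt N9717 F106315) (tt N10982 F134821) (tt N13449 (iv F136657)) (tt N9709 F106317) (tt N10927 F106318) (tt N13451 (iv F136669)) (tt N9702 F106319) (tt N9701 (iv D23688)) (tt N13452 D29379))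
theorem Q11521 : ∀ i, i < 11521 → P i := stepQ 11520 Q11520 (allL N11520 (tt N13440 (iv F136605)) (tt N9718 F106320) (tt N11037 F134884) (tt N13450 (iv F136662)) (tt N9710 F106322) (tt N10928 F106323) (tt N11520 F106324) (tt N13452 (iv F136675)) (tt N13361 (iv F136175)) (tt N9702 (iv D23689)))
theorem Q11522 : ∀ i, i < 11522 → P i := stepQ 11521 Q11521 (allL N11521 (tt N10984 F133701) (tt N11521 F106332) (tt N9706 F106333) (tt N13289 (iv F135730)) (tt N10162 F133702) (tt N9704 F106334) (tt N13453 D29380) (tt N9703 (iv D23691)) (tt N13454 D29381) (tt N13362 (iv F136183)))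
theorem Q11523 : ∀ i, i < 11523 → P i := stepQ 11522 Q11522 (allL N11522 (tt N11035 (iv F134373)) (tt N11522 F106336) (tt N9707 F106337) (tt N13283 (iv F135688)) (tt N10308 (iv F133861)) (tt N11522 F106339) (tt N11522 F106340) (tt N13454 (iv F136689)) (tt N9703 (iv D23692)) (tt N13455 D29382))
theorem Q11524 : ∀ i, i < 11524 → P i := stepQ 11523 Q11523 (allL N11523 (tt N10955 F133716) (tt N9719 F106341) (tt N10162 (iv F134411)) (tt N13447 (iv F136648)) (tt N9706 F106342) (tt N10103 F106343) (tt N13456 D29383) (tt N9705 (iv D23693)) (tt N13457 D29384) (tt N13363 (iv F136189)))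
theorem Q11525 : ∀ i, i < 11525 → P i := stepQ 11524 Q11524 (allL N11524 (tt N10967 (iv F134255)) (tt N9720 F106345) (tt N10308 (iv F133859)) (tt N13434 (iv F136571)) (tt N9707 F106347) (tt N10302 F133717) (tt N11524 F106349) (tt N13457 (iv F136711)) (tt N9705 (iv D23694)) (tt N13458 D29385))
theorem Q11526 : ∀ i, i < 11526 → P i := stepQ 11525 Q11525 (allL N11525 (tt N13441 (iv F136611)) (tt N9721 F106350) (tt N13453 (iv F136678)) (tt N9708 F106351) (tt N13456 (iv F136701)) (tt N11525 F106352) (tt N9706 (iv D23695)) (tt N11525 F106353) (tt N13459 D29386) (tt N13365 (iv F136199)))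
theorem Q11527 : ∀ i, i < 11527 → P i := stepQ 11526 Q11526 (allL N11526 (tt N13442 (iv F136618)) (tt N9722 F106354) (tt N13454 (iv F136685)) (tt N9709 F106355) (tt N13457 (iv F136708)) (tt N11526 F106356) (tt N13459 (iv F136722)) (tt N9707 F106357) (tt N9706 (iv D23696)) (tt N13460 D29387))
theorem Q11528 : ∀ i, i < 11528 → P i := stepQ 11527 Q11527 (allL N11527 (tt N13443 (iv F136625)) (tt N9723 F106358) (tt N13455 (iv F136692)) (tt N9710 F106359) (tt N13458 (iv F136715)) (tt N11527 F106360) (tt N11527 F106361) (tt N13460 (iv F136728)) (tt N13367 (iv F136212)) (tt N9707 (iv D23697)))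
theorem Q11529 : ∀ i, i < 11529 → P i := stepQ 11528 Q11528 (allL N11528 (tt N13444 (iv F136633)) (tt N9724 F106362) (tt N13293 (iv F135750)) (tt N13459 (iv F136720)) (tt N13451 (iv F136667)) (tt N13461 D29388) (tt N9709 F106363) (tt N11528 F106364) (tt N9708 (iv D23698)) (tt N13462 D29389))
theorem Q11530 : ∀ i, i < 11530 → P i := stepQ 11529 Q11529 (allL N11529 (tt N13445 (iv F136637)) (tt N9725 F106365) (tt N13294 (iv F135755)) (tt N13460 (iv F136726)) (tt N13452 (iv F136673)) (tt N11529 F106366) (tt N13462 (iv F136735)) (tt N9710 F106367) (tt N13369 (iv F136220)) (tt N9709 (iv D23699)))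
theorem Q11531 : ∀ i, i < 11531 → P i := stepQ 11530 Q11530 (allL N11530 (tt N10502 F106381) (tt N10943 F134936) (tt N9713 F106382) (tt N11530 F106383) (tt N9711 (iv D23703)) (tt N10127 F106384) (tt N11530 F106385) (tt N13463 D29390) (tt N10922 F134937) (tt N13387 (iv F136318)))
theorem Q11532 : ∀ i, i < 11532 → P i := stepQ 11531 Q11531 (allL N11531 (tt N10503 F106386) (tt N10945 F134878) (tt N9714 F106387) (tt N9726 F106388) (tt N13463 (iv F136741)) (tt N9712 F106389) (tt N13464 D29391) (tt N9711 (iv D23704)) (tt N10923 F134879) (tt N13388 (iv F136324)))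
theorem Q11533 : ∀ i, i < 11533 → P i := stepQ 11532 Q11532 (allL N11532 (tt N10505 F106395) (tt N13447 (iv F136647)) (tt N13463 (iv F136739)) (tt N9719 F106396) (tt N9714 F106397) (tt N10130 F106398) (tt N13465 D29392) (tt N9713 (iv D23706)) (tt N13466 D29393) (tt N13390 (iv F136335)))
theorem Q11534 : ∀ i, i < 11534 → P i := stepQ 11533 Q11533 (allL N11533 (tt N10506 F106399) (tt N13434 (iv F136569)) (tt N10922 F134868) (tt N9720 F106400) (tt N9715 F106401) (tt N13433 F136567) (tt N11533 F106402) (tt N13466 (iv F136759)) (tt N9713 (iv D23707)) (tt N13467 D29394))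
theorem Q11535 : ∀ i, i < 11535 → P i := stepQ 11534 Q11534 (allL N11534 (tt N10507 F106403) (tt N13448 (iv F136651)) (tt N13464 (iv F136746)) (tt N9716 F106404) (tt N13465 (iv F136753)) (tt N10944 F106405) (tt N9714 (iv D23708)) (tt N11534 F106406) (tt N13468 D29395) (tt N13392 (iv F136344)))
theorem Q11536 : ∀ i, i < 11536 → P i := stepQ 11535 Q11535 (allL N11535 (tt N10508 F106407) (tt N13449 (iv F136655)) (tt N10923 F134866) (tt N9717 F106408) (tt N13466 (iv F136758)) (tt N10921 F134867) (tt N13468 (iv F136768)) (tt N9715 F106410) (tt N9714 (iv D23709)) (tt N13469 D29396))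
theorem Q11537 : ∀ i, i < 11537 → P i := stepQ 11536 Q11536 (allL N11536 (tt N10509 F106411) (tt N13450 (iv F136660)) (tt N10916 F134869) (tt N9718 F106412) (tt N13467 (iv F136763)) (tt N10915 F134870) (tt N11536 F106414) (tt N13469 (iv F136774)) (tt N13394 (iv F136352)) (tt N9715 (iv D23710)))
theorem Q11538 : ∀ i, i < 11538 → P i := stepQ 11537 Q11537 (allL N11537 (tt N10510 F106415) (tt N13451 (iv F136665)) (tt N9728 F106416) (tt N13468 (iv F136767)) (tt N9724 F106417) (tt N13470 D29397) (tt N9717 F106418) (tt N11537 F106419) (tt N9716 (iv D23711)) (tt N13471 D29398))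
theorem Q11539 : ∀ i, i < 11539 → P i := stepQ 11538 Q11538 (allL N11538 (tt N10511 F106420) (tt N13452 (iv F136671)) (tt N9729 F106421) (tt N13469 (iv F136772)) (tt N9725 F106422) (tt N10950 F106423) (tt N13471 (iv F136784)) (tt N9718 F106424) (tt N13396 (iv F136362)) (tt N9717 (iv D23712)))
theorem Q11540 : ∀ i, i < 11540 → P i := stepQ 11539 Q11539 (allL N11539 (tt N10512 F106425) (tt N13456 (iv F136699)) (tt N11539 F106426) (tt N13465 (iv F136752)) (tt N9721 F106427) (tt N13472 D29399) (tt N9719 (iv D23713)) (tt N11539 F106428) (tt N13473 D29400) (tt N13397 (iv F136367)))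
theorem Q11541 : ∀ i, i < 11541 → P i := stepQ 11540 Q11540 (allL N11540 (tt N10513 F106429) (tt N13457 (iv F136706)) (tt N11540 F106430) (tt N13466 (iv F136757)) (tt N9722 F106431) (tt N13474 D29401) (tt N13473 (iv F136798)) (tt N9720 F106432) (tt N9719 (iv D23714)) (tt N13475 D29402))
theorem Q11542 : ∀ i, i < 11542 → P i := stepQ 11541 Q11541 (allL N11541 (tt N10156 (iv F133665)) (tt N10302 F133661) (tt N11541 F106435) (tt N13433 (iv F136564)) (tt N11541 F106436) (tt N9720 (iv D23715)) (tt N10295 F133662) (tt N13474 (iv F136805)) (tt N10135 F106437) (tt N13476 D29403))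
theorem Q11543 : ∀ i, i < 11543 → P i := stepQ 11542 Q11542 (allL N11542 (tt N10514 F106439) (tt N13458 (iv F136713)) (tt N11542 F106440) (tt N13467 (iv F136762)) (tt N9723 F106441) (tt N13476 (iv F136815)) (tt N11542 F106442) (tt N13475 (iv F136810)) (tt N13400 (iv F136379)) (tt N9720 (iv D23716)))
theorem Q11544 : ∀ i, i < 11544 → P i := stepQ 11543 Q11543 (allL N11543 (tt N10515 F106443) (tt N13459 (iv F136718)) (tt N11543 F106444) (tt N9724 F106445) (tt N13473 (iv F136796)) (tt N13477 D29404) (tt N9722 F106446) (tt N11543 F106447) (tt N9721 (iv D23717)) (tt N13478 D29405))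
theorem Q11545 : ∀ i, i < 11545 → P i := stepQ 11544 Q11544 (allL N11544 (tt N10516 F106448) (tt N13460 (iv F136725)) (tt N11544 F106449) (tt N9725 F106450) (tt N13475 (iv F136809)) (tt N11544 F106451) (tt N13478 (iv F136828)) (tt N9723 F106452) (tt N13402 (iv F136389)) (tt N9722 (iv D23718)))
theorem Q11546 : ∀ i, i < 11546 → P i := stepQ 11545 Q11545 (allL N11545 (tt N10517 F106453) (tt N13461 (iv F136729)) (tt N9730 F106454) (tt N13477 (iv F136820)) (tt N13479 D29406) (tt N9724 (iv D23719)) (tt N11545 F106455) (tt N11545 F106456) (tt N11545 F106457) (tt N13480 D29407))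
theorem Q11547 : ∀ i, i < 11547 → P i := stepQ 11546 Q11546 (allL N11546 (tt N10518 F106458) (tt N13462 (iv F136734)) (tt N9731 F106459) (tt N13478 (iv F136827)) (tt N13471 (iv F136783)) (tt N13480 (iv F136837)) (tt N9725 F106460) (tt N11546 F106461) (tt N13404 (iv F136398)) (tt N9724 (iv D23720)))
theorem Q11548 : ∀ i, i < 11548 → P i := stepQ 11547 Q11547 (allL N11547 (tt N10520 F106482) (tt N10947 F134939) (tt N9727 F106483) (tt N13464 (iv F136747)) (tt N11547 F106484) (tt N10968 F106485) (tt N9726 (iv D23725)) (tt N11547 F106486) (tt N10924 F134940) (tt N13422 (iv F136501)))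
theorem Q11549 : ∀ i, i < 11549 → P i := stepQ 11548 Q11548 (allL N11548 (tt N10525 F106509) (tt N11332 F134949) (tt N13470 (iv F136777)) (tt N11325 F134950) (tt N13481 D29408) (tt N9728 (iv D23730)) (tt N10978 F106511) (tt N11548 F106512) (tt N10976 F106513) (tt N13482 D29409))
theorem Q11550 : ∀ i, i < 11550 → P i := stepQ 11549 Q11549 (allL N11549 (tt N10526 F106514) (tt N11335 F135559) (tt N13471 (iv F136782)) (tt N11326 F135560) (tt N9731 F106516) (tt N13482 (iv F136849)) (tt N9729 F106517) (tt N11549 F106518) (tt N13426 (iv F136525)) (tt N9728 (iv D23731)))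
theorem Q11551 : ∀ i, i < 11551 → P i := stepQ 11550 Q11550 (allL N11550 (tt N10527 F106519) (tt N13299 (iv F135789)) (tt N13479 (iv F136831)) (tt N13483 D29410) (tt N9730 (iv D23732)) (tt N13481 (iv F136842)) (tt N11550 F106520) (tt N11550 F106521) (tt N11550 F106522) (tt N13484 D29411))
theorem Q11552 : ∀ i, i < 11552 → P i := stepQ 11551 Q11551 (allL N11551 (tt N10528 F106523) (tt N13300 (iv F135796)) (tt N13480 (iv F136836)) (tt N11551 F106524) (tt N13484 (iv F136858)) (tt N9731 F106525) (tt N11551 F106526) (tt N11551 F106527) (tt N13485 D29412) (tt N9730 (iv D23733)))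
theorem Q11553 : ∀ i, i < 11553 → P i := stepQ 11552 Q11552 (allL N11552 (tt N9742 F106528) (tt N10529 F106529) (tt N13486 D29413) (tt N9732 (iv D23734)) (tt N9929 F106530) (tt N10758 F106531) (tt N13487 D29414) (tt N9926 F106532) (tt N9734 F106533) (tt N10418 F106534))
theorem Q11554 : ∀ i, i < 11554 → P i := stepQ 11553 Q11553 (allL N11553 (tt N9743 F106535) (tt N10530 F106536) (tt N11553 F106537) (tt N13487 (iv F136875)) (tt N9733 F106538) (tt N13488 D29415) (tt N9732 (iv D23735)) (tt N13489 D29416) (tt N9735 F106539) (tt N10419 F106540))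
theorem Q11555 : ∀ i, i < 11555 → P i := stepQ 11554 Q11554 (allL N11554 (tt N9744 F106541) (tt N10531 F106542) (tt N11554 F106543) (tt N9931 F106544) (tt N13489 (iv F136888)) (tt N9881 F106545) (tt N9928 F106546) (tt N9733 (iv D23736)) (tt N9736 F106547) (tt N10420 F106548))
theorem Q11556 : ∀ i, i < 11556 → P i := stepQ 11555 Q11555 (allL N11555 (tt N9745 F106549) (tt N13490 D29417) (tt N9734 (iv D23737)) (tt N11555 F106550) (tt N10215 F106551) (tt N11555 F106552) (tt N13491 D29418) (tt N10211 F106553) (tt N13486 (iv F136871)) (tt N11555 F106554))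
theorem Q11557 : ∀ i, i < 11557 → P i := stepQ 11556 Q11556 (allL N11556 (tt N9746 F106555) (tt N10533 F106556) (tt N13491 (iv F136900)) (tt N9735 F106557) (tt N10216 F106558) (tt N13492 D29419) (tt N9734 (iv D23738)) (tt N13493 D29420) (tt N13487 (iv F136877)) (tt N11556 F106559))
theorem Q11558 : ∀ i, i < 11558 → P i := stepQ 11557 Q11557 (allL N11557 (tt N9747 F106560) (tt N10534 F106561) (tt N11557 F106562) (tt N13492 (iv F136908)) (tt N9738 F106563) (tt N9735 (iv D23739)) (tt N11557 F106564) (tt N13494 D29421) (tt N13495 D29422) (tt N11557 F106565))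
theorem Q11559 : ∀ i, i < 11559 → P i := stepQ 11558 Q11558 (allL N11558 (tt N9748 F106566) (tt N10535 F106567) (tt N11558 F106568) (tt N13493 (iv F136914)) (tt N9736 F106569) (tt N13494 (iv F136922)) (tt N10214 F106570) (tt N9735 (iv D23740)) (tt N13489 (iv F136890)) (tt N11558 F106571))
theorem Q11560 : ∀ i, i < 11560 → P i := stepQ 11559 Q11559 (allL N11559 (tt N9750 F106584) (tt N10536 F106585) (tt N10660 F134428) (tt N9738 F106586) (tt N10658 F134429) (tt N9737 (iv D23743)) (tt N11559 F106587) (tt N13496 D29423) (tt N10897 F134430) (tt N11559 F106588))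
theorem Q11561 : ∀ i, i < 11561 → P i := stepQ 11560 Q11560 (allL N11560 (tt N9751 F106589) (tt N10537 F106590) (tt N10718 F133677) (tt N9739 F106591) (tt N10717 F133678) (tt N13496 (iv F136935)) (tt N11560 F106592) (tt N9737 (iv D23744)) (tt N9889 F106593) (tt N11560 F106594))
theorem Q11562 : ∀ i, i < 11562 → P i := stepQ 11561 Q11561 (allL N11561 (tt N9752 F106595) (tt N10538 F106596) (tt N11561 F106597) (tt N13496 (iv F136933)) (tt N13494 (iv F136921)) (tt N9739 F106598) (tt N13497 D29424) (tt N9738 (iv D23745)) (tt N13498 D29425) (tt N11561 F106599))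
theorem Q11563 : ∀ i, i < 11563 → P i := stepQ 11562 Q11562 (allL N11562 (tt N9753 F106600) (tt N10043 (iv F134149)) (tt N11562 F106602) (tt N10897 F133682) (tt N13495 (iv F136927)) (tt N9891 F106603) (tt N11562 F106604) (tt N13498 (iv F136949)) (tt N9738 (iv D23746)) (tt N10473 F133683))
theorem Q11564 : ∀ i, i < 11564 → P i := stepQ 11563 Q11563 (allL N11563 (tt N10758 F106605) (tt N9760 F106606) (tt N13499 D29426) (tt N9740 (iv D23747)) (tt N9932 F106607) (tt N9742 F106608) (tt N13500 D29427) (tt N10418 F106609) (tt N11563 F106610) (tt N9926 F106611))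
theorem Q11565 : ∀ i, i < 11565 → P i := stepQ 11564 Q11564 (allL N11564 (tt N10759 F106612) (tt N9761 F106613) (tt N11564 F106614) (tt N13500 (iv F136961)) (tt N9741 F106615) (tt N13501 D29428) (tt N9740 (iv D23748)) (tt N13502 D29429) (tt N11564 F106616) (tt N9927 F106617))
theorem Q11566 : ∀ i, i < 11566 → P i := stepQ 11565 Q11565 (allL N11565 (tt N10760 F106618) (tt N9762 F106619) (tt N11565 F106620) (tt N9934 F106621) (tt N13502 (iv F136974)) (tt N9896 F106622) (tt N10420 F106623) (tt N9741 (iv D23749)) (tt N11565 F106624) (tt N9928 F106625))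
theorem Q11567 : ∀ i, i < 11567 → P i := stepQ 11566 Q11566 (allL N11566 (tt N13486 (iv F136866)) (tt N11013 F134795) (tt N9742 (iv D23750)) (tt N11566 F106626) (tt N10765 F106627) (tt N13499 (iv F136954)) (tt N13503 D29430) (tt N10761 F106628) (tt N9745 F106629) (tt N13370 (iv F136227)))
theorem Q11568 : ∀ i, i < 11568 → P i := stepQ 11567 Q11567 (allL N11567 (tt N13487 (iv F136873)) (tt N9774 F106630) (tt N13503 (iv F136979)) (tt N9743 F106631) (tt N10766 F106632) (tt N13504 D29431) (tt N9742 (iv D23751)) (tt N13505 D29432) (tt N9746 F106633) (tt N13371 (iv F136234)))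
theorem Q11569 : ∀ i, i < 11569 → P i := stepQ 11568 Q11568 (allL N11568 (tt N13488 (iv F136879)) (tt N9775 F106634) (tt N11568 F106635) (tt N13504 (iv F136984)) (tt N9907 F106636) (tt N9743 (iv D23752)) (tt N13501 (iv F136969)) (tt N13506 D29433) (tt N13507 D29434) (tt N13372 (iv F136240)))
theorem Q11570 : ∀ i, i < 11570 → P i := stepQ 11569 Q11569 (allL N11569 (tt N13489 (iv F136885)) (tt N9776 F106637) (tt N11569 F106638) (tt N13505 (iv F136986)) (tt N9744 F106639) (tt N13506 (iv F136993)) (tt N10764 F106640) (tt N9743 (iv D23753)) (tt N9748 F106641) (tt N13373 (iv F136247)))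

end Cfsg.Agent.Helper17.SP6TC
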