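import Cfsg.Agent.Helper17.SP6TC.Fin4

set_option autoImplicit false
set_option linter.all false
set_option maxRecDepth 100000

noncomputable section

namespace Cfsg.Agent.Helper17.SP6TC

theorem Q11571 : ∀ i, i < 11571 → P i := stepQ 11570 Q11570 (allL N11570 (tt N13491 (iv F136899)) (tt N11006 F134995) (tt N9746 F106648) (tt N11570 F106649) (tt N10989 F134996) (tt N13508 D29435) (tt N9745 (iv D23755)) (tt N13509 D29436) (tt N13503 (iv F136982)) (tt N11570 F106651))
theorem Q11572 : ∀ i, i < 11572 → P i := stepQ 11571 Q11571 (allL N11571 (tt N13492 (iv F136905)) (tt N9783 F106652) (tt N13508 (iv F137000)) (tt N9747 F106653) (tt N13510 D29437) (tt N9746 (iv D23756)) (tt N11571 F106654) (tt N13511 D29438) (tt N13512 D29439) (tt N11571 F106655))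
theorem Q11573 : ∀ i, i < 11573 → P i := stepQ 11572 Q11572 (allL N11572 (tt N13493 (iv F136912)) (tt N9784 F106656) (tt N13509 (iv F137006)) (tt N9748 F106657) (tt N11000 F106658) (tt N13511 (iv F137020)) (tt N10997 F106659) (tt N9746 (iv D23757)) (tt N13505 (iv F136989)) (tt N11572 F106660))
theorem Q11574 : ∀ i, i < 11574 → P i := stepQ 11573 Q11573 (allL N11573 (tt N13494 (iv F136918)) (tt N9785 F106661) (tt N11573 F106662) (tt N13511 (iv F137019)) (tt N9752 F106663) (tt N9748 F106664) (tt N13513 D29440) (tt N9747 (iv D23758)) (tt N13514 D29441) (tt N11573 F106665))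
theorem Q11575 : ∀ i, i < 11575 → P i := stepQ 11574 Q11574 (allL N11574 (tt N13495 (iv F136924)) (tt N9786 F106666) (tt N11574 F106667) (tt N13512 (iv F137023)) (tt N9753 F106668) (tt N13507 (iv F136997)) (tt N11574 F106669) (tt N13514 (iv F137034)) (tt N9747 (iv D23759)) (tt N13515 D29442))
theorem Q11576 : ∀ i, i < 11576 → P i := stepQ 11575 Q11575 (allL N11575 (tt N10660 F133708) (tt N11575 F106670) (tt N9750 F106671) (tt N11575 F106672) (tt N9825 F133709) (tt N9749 (iv D23760)) (tt N11575 F106673) (tt N13516 D29443) (tt N10287 (iv F134427)) (tt N11575 F106674))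
theorem Q11577 : ∀ i, i < 11577 → P i := stepQ 11576 Q11576 (allL N11576 (tt N10718 F133706) (tt N11576 F106675) (tt N9751 F106676) (tt N11576 F106677) (tt N9869 F133707) (tt N13516 (iv F137046)) (tt N11576 F106678) (tt N9749 (iv D23761)) (tt N9919 F106679) (tt N11576 F106680))
theorem Q11578 : ∀ i, i < 11578 → P i := stepQ 11577 Q11577 (allL N11577 (tt N10658 F135619) (tt N9787 F106681) (tt N9825 F135620) (tt N13510 (iv F137014)) (tt N9750 (iv D23762)) (tt N9824 F135621) (tt N11577 F106682) (tt N13517 D29444) (tt N13518 D29445) (tt N11577 F106683))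
theorem Q11579 : ∀ i, i < 11579 → P i := stepQ 11578 Q11578 (allL N11578 (tt N13496 (iv F136930)) (tt N9788 F106684) (tt N13516 (iv F137043)) (tt N9752 F106685) (tt N13517 (iv F137052)) (tt N9751 F106686) (tt N13519 D29446) (tt N9750 (iv D23763)) (tt N13520 D29447) (tt N11578 F106687))
theorem Q11580 : ∀ i, i < 11580 → P i := stepQ 11579 Q11579 (allL N11579 (tt N10897 F133720) (tt N9789 F106688) (tt N10287 F133729) (tt N9753 F106689) (tt N13518 (iv F137058)) (tt N9922 F106690) (tt N11579 F106691) (tt N13520 (iv F137071)) (tt N9750 (iv D23764)) (tt N10254 F133730))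
theorem Q11581 : ∀ i, i < 11581 → P i := stepQ 11580 Q11580 (allL N11580 (tt N13497 (iv F136938)) (tt N9790 F106692) (tt N11580 F106693) (tt N13519 (iv F137062)) (tt N13513 (iv F137027)) (tt N11580 F106694) (tt N9752 (iv D23765)) (tt N11580 F106695) (tt N13521 D29448) (tt N11580 F106696))
theorem Q11582 : ∀ i, i < 11582 → P i := stepQ 11581 Q11581 (allL N11581 (tt N13498 (iv F136944)) (tt N9791 F106697) (tt N11581 F106698) (tt N13520 (iv F137069)) (tt N13514 (iv F137033)) (tt N9924 F106699) (tt N13521 (iv F137075)) (tt N9753 F106700) (tt N9752 (iv D23766)) (tt N13522 D29449))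
theorem Q11583 : ∀ i, i < 11583 → P i := stepQ 11582 Q11582 (allL N11582 (tt N10473 F133739) (tt N9792 F106701) (tt N11582 F106702) (tt N10254 F133746) (tt N13515 (iv F137038)) (tt N9925 F106703) (tt N11582 F106704) (tt N13522 (iv F137082)) (tt N11582 F106705) (tt N9753 (iv D23767)))
theorem Q11584 : ∀ i, i < 11584 → P i := stepQ 11583 Q11583 (allL N11583 (tt N10566 F106706) (tt N9932 F106707) (tt N13523 D29450) (tt N9754 (iv D23768)) (tt N9760 F106708) (tt N9902 F106709) (tt N13524 D29451) (tt N10400 F106710) (tt N11583 F106711) (tt N9894 F106712))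
theorem Q11585 : ∀ i, i < 11585 → P i := stepQ 11584 Q11584 (allL N11584 (tt N10567 F106713) (tt N9933 F106714) (tt N11584 F106715) (tt N13524 (iv F137094)) (tt N9755 F106716) (tt N13525 D29452) (tt N9754 (iv D23769)) (tt N13526 D29453) (tt N11584 F106717) (tt N9895 F106718))
theorem Q11586 : ∀ i, i < 11586 → P i := stepQ 11585 Q11585 (allL N11585 (tt N10568 F106719) (tt N9934 F106720) (tt N11585 F106721) (tt N9762 F106722) (tt N13526 (iv F137107)) (tt N9928 F106723) (tt N10402 F106724) (tt N9755 (iv D23770)) (tt N11585 F106725) (tt N9896 F106726))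
theorem Q11587 : ∀ i, i < 11587 → P i := stepQ 11586 Q11586 (allL N11586 (tt N10545 F106727) (tt N10418 F106728) (tt N13527 D29454) (tt N9756 (iv D23771)) (tt N10400 F106729) (tt N9767 F106730) (tt N13528 D29455) (tt N9760 F106731) (tt N11586 F106732) (tt N10529 F106733))
theorem Q11588 : ∀ i, i < 11588 → P i := stepQ 11587 Q11587 (allL N11587 (tt N10546 F106734) (tt N10419 F106735) (tt N9794 F106736) (tt N13528 (iv F137120)) (tt N9757 F106737) (tt N13529 D29456) (tt N9756 (iv D23772)) (tt N13530 D29457) (tt N11587 F106738) (tt N10530 F106739))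
theorem Q11589 : ∀ i, i < 11589 → P i := stepQ 11588 Q11588 (allL N11588 (tt N10547 F106740) (tt N10420 F106741) (tt N9795 F106742) (tt N10402 F106743) (tt N13530 (iv F137133)) (tt N10724 F106744) (tt N9762 F106745) (tt N9757 (iv D23773)) (tt N11588 F106746) (tt N10531 F106747))
theorem Q11590 : ∀ i, i < 11590 → P i := stepQ 11589 Q11589 (allL N11589 (tt N10542 F106748) (tt N9926 F106749) (tt N13531 D29458) (tt N9758 (iv D23774)) (tt N9894 F106750) (tt N9770 F106751) (tt N13532 D29459) (tt N10529 F106752) (tt N10180 F106753) (tt N9760 F106754))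
theorem Q11591 : ∀ i, i < 11591 → P i := stepQ 11590 Q11590 (allL N11590 (tt N10543 F106755) (tt N9927 F106756) (tt N9797 F106757) (tt N13532 (iv F137146)) (tt N9759 F106758) (tt N13533 D29460) (tt N9758 (iv D23775)) (tt N13534 D29461) (tt N10181 F106759) (tt N9761 F106760))
theorem Q11592 : ∀ i, i < 11592 → P i := stepQ 11591 Q11591 (allL N11591 (tt N10544 F106761) (tt N9928 F106762) (tt N9798 F106763) (tt N9896 F106764) (tt N13534 (iv F137159)) (tt N9934 F106765) (tt N10531 F106766) (tt N9759 (iv D23776)) (tt N10182 F106767) (tt N9762 F106768))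
theorem Q11593 : ∀ i, i < 11593 → P i := stepQ 11592 Q11592 (allL N11592 (tt N10569 F106769) (tt N13535 D29462) (tt N9760 (iv D23777)) (tt N9799 F106770) (tt N13523 (iv F137087)) (tt N9773 F106771) (tt N13536 D29463) (tt N13527 (iv F137115)) (tt N11592 F106772) (tt N13531 (iv F137143)))
theorem Q11594 : ∀ i, i < 11594 → P i := stepQ 11593 Q11593 (allL N11593 (tt N10570 F106773) (tt N13500 (iv F136960)) (tt N13536 (iv F137169)) (tt N9761 F106774) (tt N13524 (iv F137095)) (tt N13537 D29464) (tt N9760 (iv D23778)) (tt N13538 D29465) (tt N11593 F106775) (tt N13532 (iv F137149)))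
theorem Q11595 : ∀ i, i < 11595 → P i := stepQ 11594 Q11594 (allL N11594 (tt N10571 F106776) (tt N13501 (iv F136966)) (tt N9801 F106777) (tt N13537 (iv F137173)) (tt N9937 F106778) (tt N9761 (iv D23779)) (tt N9775 F106779) (tt N13539 D29466) (tt N13540 D29467) (tt N13533 (iv F137155)))
theorem Q11596 : ∀ i, i < 11596 → P i := stepQ 11595 Q11595 (allL N11595 (tt N10572 F106780) (tt N13502 (iv F136972)) (tt N9802 F106781) (tt N13538 (iv F137176)) (tt N9762 F106782) (tt N13539 (iv F137181)) (tt N13530 (iv F137134)) (tt N9761 (iv D23780)) (tt N11595 F106783) (tt N13534 (iv F137162)))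
theorem Q11597 : ∀ i, i < 11597 → P i := stepQ 11596 Q11596 (allL N11596 (tt N10573 F106784) (tt N10566 F106785) (tt N13541 D29468) (tt N9763 (iv D23781)) (tt N10539 F106786) (tt N10722 F106787) (tt N13542 D29469) (tt N9939 F106788) (tt N11596 F106789) (tt N10336 F106790))
theorem Q11598 : ∀ i, i < 11598 → P i := stepQ 11597 Q11597 (allL N11597 (tt N10574 F106791) (tt N10567 F106792) (tt N9804 F106793) (tt N13542 (iv F137196)) (tt N9764 F106794) (tt N13543 D29470) (tt N9763 (iv D23782)) (tt N13544 D29471) (tt N11597 F106795) (tt N10337 F106796))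
theorem Q11599 : ∀ i, i < 11599 → P i := stepQ 11598 Q11598 (allL N11598 (tt N10575 F106797) (tt N10568 F106798) (tt N9805 F106799) (tt N10541 F106800) (tt N13544 (iv F137209)) (tt N9769 F106801) (tt N9941 F106802) (tt N9764 (iv D23783)) (tt N11598 F106803) (tt N10338 F106804))
theorem Q11600 : ∀ i, i < 11600 → P i := stepQ 11599 Q11599 (allL N11599 (tt N10539 F106805) (tt N10758 F106806) (tt N13545 D29472) (tt N9765 (iv D23784)) (tt N10573 F106807) (tt N10529 F106808) (tt N13546 D29473) (tt N9770 F106809) (tt N11599 F106810) (tt N9767 F106811))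
theorem Q11601 : ∀ i, i < 11601 → P i := stepQ 11600 Q11600 (allL N11600 (tt N10540 F106812) (tt N10759 F106813) (tt N9807 F106814) (tt N13546 (iv F137222)) (tt N9766 F106815) (tt N13547 D29474) (tt N9765 (iv D23785)) (tt N13548 D29475) (tt N11600 F106816) (tt N9768 F106817))
theorem Q11602 : ∀ i, i < 11602 → P i := stepQ 11601 Q11601 (allL N11601 (tt N10541 F106818) (tt N10760 F106819) (tt N9808 F106820) (tt N10575 F106821) (tt N13548 (iv F137235)) (tt N10338 F106822) (tt N9772 F106823) (tt N9766 (iv D23786)) (tt N11601 F106824) (tt N9769 F106825))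
theorem Q11603 : ∀ i, i < 11603 → P i := stepQ 11602 Q11602 (allL N11602 (tt N10576 F106826) (tt N13549 D29476) (tt N9767 (iv D23787)) (tt N9809 F106827) (tt N10731 F106828) (tt N13527 (iv F137114)) (tt N13550 D29477) (tt N9773 F106829) (tt N9777 F106830) (tt N13545 (iv F137219)))
theorem Q11604 : ∀ i, i < 11604 → P i := stepQ 11603 Q11603 (allL N11603 (tt N10577 F106831) (tt N10762 F106832) (tt N13550 (iv F137245)) (tt N9768 F106833) (tt N10732 F106834) (tt N13551 D29478) (tt N9767 (iv D23788)) (tt N13552 D29479) (tt N9778 F106835) (tt N13546 (iv F137225)))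
theorem Q11605 : ∀ i, i < 11605 → P i := stepQ 11604 Q11604 (allL N11604 (tt N10578 F106836) (tt N10763 F106837) (tt N9811 F106838) (tt N13551 (iv F137251)) (tt N13543 (iv F137203)) (tt N9768 (iv D23789)) (tt N13529 (iv F137128)) (tt N13553 D29480) (tt N13554 D29481) (tt N13547 (iv F137231)))
theorem Q11606 : ∀ i, i < 11606 → P i := stepQ 11605 Q11605 (allL N11605 (tt N10579 F106839) (tt N10764 F106840) (tt N9812 F106841) (tt N13552 (iv F137254)) (tt N9769 F106842) (tt N13553 (iv F137261)) (tt N9776 F106843) (tt N9768 (iv D23790)) (tt N9780 F106844) (tt N13548 (iv F137238)))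
theorem Q11607 : ∀ i, i < 11607 → P i := stepQ 11606 Q11606 (allL N11606 (tt N10580 F106845) (tt N13555 D29482) (tt N9770 (iv D23791)) (tt N9813 F106846) (tt N10779 F106847) (tt N13531 (iv F137140)) (tt N13556 D29483) (tt N13545 (iv F137217)) (tt N11606 F106848) (tt N9773 F106849))
theorem Q11608 : ∀ i, i < 11608 → P i := stepQ 11607 Q11607 (allL N11607 (tt N10581 F106850) (tt N13371 (iv F136230)) (tt N13556 (iv F137272)) (tt N9771 F106851) (tt N10780 F106852) (tt N13557 D29484) (tt N9770 (iv D23792)) (tt N13558 D29485) (tt N11607 F106853) (tt N9774 F106854))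
theorem Q11609 : ∀ i, i < 11609 → P i := stepQ 11608 Q11608 (allL N11608 (tt N10582 F106855) (tt N13372 (iv F136236)) (tt N9815 F106856) (tt N13557 (iv F137278)) (tt N9948 F106857) (tt N9771 (iv D23793)) (tt N13533 (iv F137154)) (tt N13559 D29486) (tt N13560 D29487) (tt N9775 F106858))
theorem Q11610 : ∀ i, i < 11610 → P i := stepQ 11609 Q11609 (allL N11609 (tt N10583 F106859) (tt N13373 (iv F136242)) (tt N9816 F106860) (tt N13558 (iv F137281)) (tt N9772 F106861) (tt N13559 (iv F137288)) (tt N13548 (iv F137236)) (tt N9771 (iv D23794)) (tt N11609 F106862) (tt N9776 F106863))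
theorem Q11611 : ∀ i, i < 11611 → P i := stepQ 11610 Q11610 (allL N11610 (tt N13561 D29488) (tt N9773 (iv D23795)) (tt N11013 F135012) (tt N9817 F106864) (tt N11012 F135013) (tt N13535 (iv F137166)) (tt N13562 D29489) (tt N13549 (iv F137242)) (tt N9781 F106865) (tt N13555 (iv F137270)))
theorem Q11612 : ∀ i, i < 11612 → P i := stepQ 11611 Q11611 (allL N11611 (tt N10585 F106866) (tt N13562 (iv F137299)) (tt N9774 F106867) (tt N9818 F106868) (tt N13302 (iv F135814)) (tt N13563 D29490) (tt N9773 (iv D23796)) (tt N13564 D29491) (tt N9782 F106869) (tt N13556 (iv F137276)))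
theorem Q11613 : ∀ i, i < 11613 → P i := stepQ 11612 Q11612 (allL N11612 (tt N10586 F106870) (tt N13504 (iv F136983)) (tt N13563 (iv F137305)) (tt N9775 F106871) (tt N13565 D29492) (tt N9774 (iv D23797)) (tt N13537 (iv F137174)) (tt N13566 D29493) (tt N13567 D29494) (tt N13557 (iv F137279)))
theorem Q11614 : ∀ i, i < 11614 → P i := stepQ 11613 Q11613 (allL N11613 (tt N10587 F106872) (tt N13505 (iv F136985)) (tt N13564 (iv F137308)) (tt N9776 F106873) (tt N13304 (iv F135825)) (tt N13566 (iv F137315)) (tt N13552 (iv F137256)) (tt N9774 (iv D23798)) (tt N9784 F106874) (tt N13558 (iv F137284)))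
theorem Q11615 : ∀ i, i < 11615 → P i := stepQ 11614 Q11614 (allL N11614 (tt N10588 F106875) (tt N13506 (iv F136990)) (tt N9821 F106876) (tt N13566 (iv F137314)) (tt N9954 F106877) (tt N9776 F106878) (tt N13568 D29495) (tt N9775 (iv D23799)) (tt N13569 D29496) (tt N13559 (iv F137289)))
theorem Q11616 : ∀ i, i < 11616 → P i := stepQ 11615 Q11615 (allL N11615 (tt N10589 F106879) (tt N13507 (iv F136994)) (tt N9822 F106880) (tt N13567 (iv F137317)) (tt N9955 F106881) (tt N9786 F106882) (tt N13540 (iv F137186)) (tt N13569 (iv F137326)) (tt N9775 (iv D23800)) (tt N13570 D29497))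
theorem Q11617 : ∀ i, i < 11617 → P i := stepQ 11616 Q11616 (allL N11616 (tt N13571 D29498) (tt N9777 (iv D23801)) (tt N10994 F106883) (tt N9823 F106884) (tt N10987 F106885) (tt N11616 F106886) (tt N13308 (iv F135854)) (tt N9781 F106887) (tt N13549 (iv F137243)) (tt N11616 F106888))
theorem Q11618 : ∀ i, i < 11618 → P i := stepQ 11617 Q11617 (allL N11617 (tt N10591 F106889) (tt N13308 (iv F135850)) (tt N9778 F106890) (tt N9824 F106891) (tt N10988 F106892) (tt N13510 (iv F137015)) (tt N9777 (iv D23802)) (tt N13572 D29499) (tt N13550 (iv F137248)) (tt N11617 F106893))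
theorem Q11619 : ∀ i, i < 11619 → P i := stepQ 11618 Q11618 (allL N11618 (tt N10592 F106894) (tt N10996 F106895) (tt N13510 (iv F137013)) (tt N9779 F106896) (tt N13508 (iv F137002)) (tt N9778 (iv D23803)) (tt N11618 F106897) (tt N13573 D29500) (tt N13574 D29501) (tt N11618 F106898))
theorem Q11620 : ∀ i, i < 11620 → P i := stepQ 11619 Q11619 (allL N11619 (tt N10593 F106899) (tt N10997 F106900) (tt N13572 (iv F137340)) (tt N9780 F106901) (tt N10990 F106902) (tt N13573 (iv F137348)) (tt N9784 F106903) (tt N9778 (iv D23804)) (tt N13552 (iv F137257)) (tt N11619 F106904))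
theorem Q11621 : ∀ i, i < 11621 → P i := stepQ 11620 Q11620 (allL N11620 (tt N10594 F106905) (tt N10998 F106906) (tt N9827 F106907) (tt N13573 (iv F137347)) (tt N11620 F106908) (tt N9780 F106909) (tt N13575 D29502) (tt N9779 (iv D23805)) (tt N13576 D29503) (tt N11620 F106910))
theorem Q11622 : ∀ i, i < 11622 → P i := stepQ 11621 Q11621 (allL N11621 (tt N10595 F106911) (tt N10999 F106912) (tt N9828 F106913) (tt N13574 (iv F137352)) (tt N11621 F106914) (tt N13554 (iv F137265)) (tt N11621 F106915) (tt N13576 (iv F137365)) (tt N9779 (iv D23806)) (tt N13577 D29504))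
theorem Q11623 : ∀ i, i < 11623 → P i := stepQ 11622 Q11622 (allL N11622 (tt N9781 (iv D23807)) (tt N10596 F106916) (tt N10231 F135008) (tt N9829 F106917) (tt N10229 F135009) (tt N11622 F106918) (tt N13578 D29505) (tt N13571 (iv F137337)) (tt N13561 (iv F137298)) (tt N11622 F106919))
theorem Q11624 : ∀ i, i < 11624 → P i := stepQ 11623 Q11623 (allL N11623 (tt N13578 (iv F137372)) (tt N9782 F106920) (tt N11006 F135010) (tt N9830 F106921) (tt N11004 F135011) (tt N13579 D29506) (tt N9781 (iv D23808)) (tt N13580 D29507) (tt N13562 (iv F137303)) (tt N11623 F106922))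
theorem Q11625 : ∀ i, i < 11625 → P i := stepQ 11624 Q11624 (allL N11624 (tt N10598 F106923) (tt N13579 (iv F137378)) (tt N9783 F106924) (tt N9831 F106925) (tt N13581 D29508) (tt N9782 (iv D23809)) (tt N11624 F106926) (tt N13582 D29509) (tt N13583 D29510) (tt N11624 F106927))
theorem Q11626 : ∀ i, i < 11626 → P i := stepQ 11625 Q11625 (allL N11625 (tt N10599 F106928) (tt N13580 (iv F137384)) (tt N9784 F106929) (tt N9832 F106930) (tt N13307 (iv F135845)) (tt N13582 (iv F137399)) (tt N13572 (iv F137343)) (tt N9782 (iv D23810)) (tt N13564 (iv F137310)) (tt N11625 F106931))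
theorem Q11627 : ∀ i, i < 11627 → P i := stepQ 11626 Q11626 (allL N11626 (tt N10600 F106932) (tt N13510 (iv F137012)) (tt N13581 (iv F137391)) (tt N9787 F106933) (tt N9783 (iv D23811)) (tt N13308 (iv F135853)) (tt N11626 F106934) (tt N13584 D29511) (tt N13585 D29512) (tt N11626 F106935))
theorem Q11628 : ∀ i, i < 11628 → P i := stepQ 11627 Q11627 (allL N11627 (tt N10601 F106936) (tt N13511 (iv F137018)) (tt N13582 (iv F137397)) (tt N9785 F106937) (tt N13584 (iv F137407)) (tt N9784 F106938) (tt N13586 D29513) (tt N9783 (iv D23812)) (tt N13587 D29514) (tt N11627 F106939))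
theorem Q11629 : ∀ i, i < 11629 → P i := stepQ 11628 Q11628 (allL N11628 (tt N10602 F106940) (tt N13512 (iv F137022)) (tt N13583 (iv F137402)) (tt N9786 F106941) (tt N13585 (iv F137411)) (tt N13567 (iv F137318)) (tt N11628 F106942) (tt N13587 (iv F137419)) (tt N9783 (iv D23813)) (tt N13588 D29515))
theorem Q11630 : ∀ i, i < 11630 → P i := stepQ 11629 Q11629 (allL N11629 (tt N10603 F106943) (tt N13513 (iv F137025)) (tt N9835 F106944) (tt N13586 (iv F137414)) (tt N9790 F106945) (tt N13575 (iv F137358)) (tt N9785 (iv D23814)) (tt N11629 F106946) (tt N13589 D29516) (tt N11629 F106947))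
theorem Q11631 : ∀ i, i < 11631 → P i := stepQ 11630 Q11630 (allL N11630 (tt N10604 F106948) (tt N13514 (iv F137031)) (tt N9836 F106949) (tt N13587 (iv F137418)) (tt N9791 F106950) (tt N13569 (iv F137325)) (tt N13589 (iv F137427)) (tt N9786 F106951) (tt N9785 (iv D23815)) (tt N13590 D29517))
theorem Q11632 : ∀ i, i < 11632 → P i := stepQ 11631 Q11631 (allL N11631 (tt N10605 F106952) (tt N13515 (iv F137036)) (tt N9837 F106953) (tt N13588 (iv F137421)) (tt N9792 F106954) (tt N13570 (iv F137330)) (tt N11631 F106955) (tt N13590 (iv F137432)) (tt N11631 F106956) (tt N9786 (iv D23816)))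
theorem Q11633 : ∀ i, i < 11633 → P i := stepQ 11632 Q11632 (allL N11632 (tt N10606 F106957) (tt N13517 (iv F137050)) (tt N11632 F106958) (tt N13584 (iv F137406)) (tt N9788 F106959) (tt N13313 (iv F135884)) (tt N13591 D29518) (tt N9787 (iv D23817)) (tt N13592 D29519) (tt N11632 F106960))
theorem Q11634 : ∀ i, i < 11634 → P i := stepQ 11633 Q11633 (allL N11633 (tt N10607 F106961) (tt N13518 (iv F137056)) (tt N11633 F106962) (tt N13585 (iv F137410)) (tt N9789 F106963) (tt N13593 D29520) (tt N11633 F106964) (tt N13592 (iv F137442)) (tt N9787 (iv D23818)) (tt N13594 D29521))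
theorem Q11635 : ∀ i, i < 11635 → P i := stepQ 11634 Q11634 (allL N11634 (tt N10608 F106965) (tt N13519 (iv F137061)) (tt N11634 F106966) (tt N9790 F106967) (tt N13591 (iv F137436)) (tt N11634 F106968) (tt N9788 (iv D23819)) (tt N11634 F106969) (tt N13595 D29522) (tt N11634 F106970))
theorem Q11636 : ∀ i, i < 11636 → P i := stepQ 11635 Q11635 (allL N11635 (tt N10609 F106971) (tt N13520 (iv F137067)) (tt N11635 F106972) (tt N9791 F106973) (tt N13592 (iv F137441)) (tt N9975 F106974) (tt N13595 (iv F137455)) (tt N9789 F106975) (tt N9788 (iv D23820)) (tt N13596 D29523))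
theorem Q11637 : ∀ i, i < 11637 → P i := stepQ 11636 Q11636 (allL N11636 (tt N10056 (iv F134334)) (tt N10254 F133747) (tt N11636 F106977) (tt N9792 F106978) (tt N13594 (iv F137449)) (tt N9976 F106979) (tt N11636 F106980) (tt N13596 (iv F137462)) (tt N11636 F106981) (tt N9789 (iv D23821)))
theorem Q11638 : ∀ i, i < 11638 → P i := stepQ 11637 Q11637 (allL N11637 (tt N10610 F106982) (tt N13521 (iv F137073)) (tt N9838 F106983) (tt N13595 (iv F137454)) (tt N13589 (iv F137426)) (tt N13597 D29524) (tt N9791 F106984) (tt N11637 F106985) (tt N9790 (iv D23822)) (tt N13598 D29525))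
theorem Q11639 : ∀ i, i < 11639 → P i := stepQ 11638 Q11638 (allL N11638 (tt N10611 F106986) (tt N13522 (iv F137078)) (tt N9839 F106987) (tt N13596 (iv F137460)) (tt N13590 (iv F137431)) (tt N9978 F106988) (tt N13598 (iv F137471)) (tt N9792 F106989) (tt N11638 F106990) (tt N9791 (iv D23823)))
theorem Q11640 : ∀ i, i < 11640 → P i := stepQ 11639 Q11639 (allL N11639 (tt N10612 F106991) (tt N13599 D29526) (tt N9793 (iv D23824)) (tt N13527 (iv F137112)) (tt N11639 F106992) (tt N9809 F106993) (tt N13600 D29527) (tt N9799 F106994) (tt N11639 F106995) (tt N11038 F106996))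
theorem Q11641 : ∀ i, i < 11641 → P i := stepQ 11640 Q11640 (allL N11640 (tt N10613 F106997) (tt N11640 F106998) (tt N13600 (iv F137481)) (tt N9794 F106999) (tt N11640 F107000) (tt N13601 D29528) (tt N9793 (iv D23825)) (tt N13602 D29529) (tt N11640 F107001) (tt N11039 F107002))
theorem Q11642 : ∀ i, i < 11642 → P i := stepQ 11641 Q11641 (allL N11641 (tt N10614 F107003) (tt N11641 F107004) (tt N13529 (iv F137126)) (tt N13601 (iv F137487)) (tt N11230 F107005) (tt N9794 (iv D23826)) (tt N9811 F107006) (tt N13603 D29530) (tt N13604 D29531) (tt N11040 F107007))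
theorem Q11643 : ∀ i, i < 11643 → P i := stepQ 11642 Q11642 (allL N11642 (tt N10615 F107008) (tt N11642 F107009) (tt N13530 (iv F137132)) (tt N13602 (iv F137492)) (tt N9795 F107010) (tt N13603 (iv F137500)) (tt N9802 F107011) (tt N9794 (iv D23827)) (tt N11642 F107012) (tt N11041 F107013))
theorem Q11644 : ∀ i, i < 11644 → P i := stepQ 11643 Q11643 (allL N11643 (tt N10616 F107014) (tt N13605 D29532) (tt N9796 (iv D23828)) (tt N13531 (iv F137138)) (tt N11643 F107015) (tt N9813 F107016) (tt N13606 D29533) (tt N11038 F107017) (tt N11042 F107018) (tt N9799 F107019))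
theorem Q11645 : ∀ i, i < 11645 → P i := stepQ 11644 Q11644 (allL N11644 (tt N10617 F107020) (tt N11644 F107021) (tt N13606 (iv F137515)) (tt N9797 F107022) (tt N11644 F107023) (tt N13607 D29534) (tt N9796 (iv D23829)) (tt N13608 D29535) (tt N11043 F107024) (tt N9800 F107025))
theorem Q11646 : ∀ i, i < 11646 → P i := stepQ 11645 Q11645 (allL N11645 (tt N10618 F107026) (tt N11645 F107027) (tt N13533 (iv F137152)) (tt N13607 (iv F137521)) (tt N9988 F107028) (tt N9797 (iv D23830)) (tt N9815 F107029) (tt N13609 D29536) (tt N13610 D29537) (tt N9801 F107030))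
theorem Q11647 : ∀ i, i < 11647 → P i := stepQ 11646 Q11646 (allL N11646 (tt N10619 F107031) (tt N11646 F107032) (tt N13534 (iv F137158)) (tt N13608 (iv F137526)) (tt N9798 F107033) (tt N13609 (iv F137534)) (tt N11041 F107034) (tt N9797 (iv D23831)) (tt N11045 F107035) (tt N9802 F107036))
theorem Q11648 : ∀ i, i < 11648 → P i := stepQ 11647 Q11647 (allL N11647 (tt N13611 D29538) (tt N9799 (iv D23832)) (tt N11647 F107037) (tt N13535 (iv F137164)) (tt N11647 F107038) (tt N9817 F107039) (tt N13612 D29539) (tt N13599 (iv F137477)) (tt N11647 F107040) (tt N13605 (iv F137513)))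
theorem Q11649 : ∀ i, i < 11649 → P i := stepQ 11648 Q11648 (allL N11648 (tt N10621 F107041) (tt N13612 (iv F137546)) (tt N9800 F107042) (tt N13536 (iv F137170)) (tt N11648 F107043) (tt N13613 D29540) (tt N9799 (iv D23833)) (tt N13614 D29541) (tt N11648 F107044) (tt N13606 (iv F137518)))
theorem Q11650 : ∀ i, i < 11650 → P i := stepQ 11649 Q11649 (allL N11649 (tt N10622 F107045) (tt N11649 F107046) (tt N13613 (iv F137551)) (tt N9801 F107047) (tt N13615 D29542) (tt N9800 (iv D23834)) (tt N9819 F107048) (tt N13616 D29543) (tt N13617 D29544) (tt N13607 (iv F137523)))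
theorem Q11651 : ∀ i, i < 11651 → P i := stepQ 11650 Q11650 (allL N11650 (tt N10623 F107049) (tt N11650 F107050) (tt N13614 (iv F137554)) (tt N9802 F107051) (tt N11650 F107052) (tt N13616 (iv F137565)) (tt N13602 (iv F137494)) (tt N9800 (iv D23835)) (tt N11650 F107053) (tt N13608 (iv F137530)))
theorem Q11652 : ∀ i, i < 11652 → P i := stepQ 11651 Q11651 (allL N11651 (tt N10624 F107054) (tt N11651 F107055) (tt N13539 (iv F137179)) (tt N13616 (iv F137564)) (tt N9994 F107056) (tt N9802 F107057) (tt N13618 D29545) (tt N9801 (iv D23836)) (tt N13619 D29546) (tt N13609 (iv F137535)))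
theorem Q11653 : ∀ i, i < 11653 → P i := stepQ 11652 Q11652 (allL N11652 (tt N10625 F107058) (tt N11652 F107059) (tt N13540 (iv F137183)) (tt N13617 (iv F137568)) (tt N9995 F107060) (tt N11652 F107061) (tt N9822 F107062) (tt N13619 (iv F137579)) (tt N9801 (iv D23837)) (tt N13620 D29547))
theorem Q11654 : ∀ i, i < 11654 → P i := stepQ 11653 Q11653 (allL N11653 (tt N10626 F107063) (tt N13621 D29548) (tt N9803 (iv D23838)) (tt N13541 (iv F137188)) (tt N9840 F107064) (tt N10242 F135139) (tt N13622 D29549) (tt N9996 F107066) (tt N11653 F107067) (tt N10227 F135140))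
theorem Q11655 : ∀ i, i < 11655 → P i := stepQ 11654 Q11654 (allL N11654 (tt N10627 F107069) (tt N11654 F107070) (tt N13622 (iv F137592)) (tt N9804 F107071) (tt N9841 F107072) (tt N13623 D29550) (tt N9803 (iv D23839)) (tt N13624 D29551) (tt N11654 F107073) (tt N10259 F135405))
theorem Q11656 : ∀ i, i < 11656 → P i := stepQ 11655 Q11655 (allL N11655 (tt N10628 F107075) (tt N11655 F107076) (tt N13543 (iv F137202)) (tt N13623 (iv F137598)) (tt N9811 F107077) (tt N9804 (iv D23840)) (tt N11230 F107078) (tt N13625 D29552) (tt N13626 D29553) (tt N10359 F107079))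
theorem Q11657 : ∀ i, i < 11657 → P i := stepQ 11656 Q11656 (allL N11656 (tt N10629 F107080) (tt N11656 F107081) (tt N13544 (iv F137208)) (tt N13624 (iv F137604)) (tt N9805 F107082) (tt N13625 (iv F137612)) (tt N9999 F107083) (tt N9804 (iv D23841)) (tt N11656 F107084) (tt N10360 F107085))
theorem Q11658 : ∀ i, i < 11658 → P i := stepQ 11657 Q11657 (allL N11657 (tt N10630 F107086) (tt N13627 D29554) (tt N9806 (iv D23842)) (tt N13545 (iv F137214)) (tt N9844 F107087) (tt N11038 F107088) (tt N13628 D29555) (tt N9813 F107089) (tt N11657 F107090) (tt N9809 F107091))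
theorem Q11659 : ∀ i, i < 11659 → P i := stepQ 11658 Q11658 (allL N11658 (tt N10631 F107092) (tt N11658 F107093) (tt N13628 (iv F137628)) (tt N9807 F107094) (tt N9845 F107095) (tt N13629 D29556) (tt N9806 (iv D23843)) (tt N13630 D29557) (tt N11658 F107096) (tt N9810 F107097))
theorem Q11660 : ∀ i, i < 11660 → P i := stepQ 11659 Q11659 (allL N11659 (tt N10632 F107098) (tt N11659 F107099) (tt N13547 (iv F137228)) (tt N13629 (iv F137634)) (tt N10359 F107100) (tt N9807 (iv D23844)) (tt N11040 F107101) (tt N13631 D29558) (tt N13632 D29559) (tt N9811 F107102))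
theorem Q11661 : ∀ i, i < 11661 → P i := stepQ 11660 Q11660 (allL N11660 (tt N10633 F107103) (tt N11660 F107104) (tt N13548 (iv F137234)) (tt N13630 (iv F137639)) (tt N9808 F107105) (tt N13631 (iv F137647)) (tt N9816 F107106) (tt N9807 (iv D23845)) (tt N11660 F107107) (tt N9812 F107108))
theorem Q11662 : ∀ i, i < 11662 → P i := stepQ 11661 Q11661 (allL N11661 (tt N13633 D29560) (tt N9809 (iv D23846)) (tt N11661 F107109) (tt N13549 (iv F137240)) (tt N9848 F107110) (tt N13599 (iv F137476)) (tt N13314 (iv F135891)) (tt N9817 F107111) (tt N9823 F107112) (tt N13627 (iv F137626)))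
theorem Q11663 : ∀ i, i < 11663 → P i := stepQ 11662 Q11662 (allL N11662 (tt N10635 F107113) (tt N13314 (iv F135888)) (tt N9810 F107114) (tt N13550 (iv F137246)) (tt N9849 F107115) (tt N13634 D29561) (tt N9809 (iv D23847)) (tt N13635 D29562) (tt N9824 F107116) (tt N13628 (iv F137631)))
theorem Q11664 : ∀ i, i < 11664 → P i := stepQ 11663 Q11663 (allL N11663 (tt N10636 F107117) (tt N11663 F107118) (tt N13634 (iv F137662)) (tt N9811 F107119) (tt N13636 D29563) (tt N9810 (iv D23848)) (tt N13601 (iv F137488)) (tt N13637 D29564) (tt N13638 D29565) (tt N13629 (iv F137636)))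
theorem Q11665 : ∀ i, i < 11665 → P i := stepQ 11664 Q11664 (allL N11664 (tt N10637 F107120) (tt N11664 F107121) (tt N13635 (iv F137664)) (tt N9812 F107122) (tt N9851 F107123) (tt N13637 (iv F137675)) (tt N9820 F107124) (tt N9810 (iv D23849)) (tt N9826 F107125) (tt N13630 (iv F137643)))
theorem Q11666 : ∀ i, i < 11666 → P i := stepQ 11665 Q11665 (allL N11665 (tt N10638 F107126) (tt N11665 F107127) (tt N13553 (iv F137260)) (tt N13637 (iv F137674)) (tt N13625 (iv F137611)) (tt N9812 F107128) (tt N13639 D29566) (tt N9811 (iv D23850)) (tt N13640 D29567) (tt N13631 (iv F137648)))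
theorem Q11667 : ∀ i, i < 11667 → P i := stepQ 11666 Q11666 (allL N11666 (tt N10639 F107129) (tt N11666 F107130) (tt N13554 (iv F137264)) (tt N13638 (iv F137678)) (tt N13626 (iv F137617)) (tt N9828 F107131) (tt N13604 (iv F137506)) (tt N13640 (iv F137688)) (tt N9811 (iv D23851)) (tt N13641 D29568))
theorem Q11668 : ∀ i, i < 11668 → P i := stepQ 11667 Q11667 (allL N11667 (tt N13642 D29569) (tt N9813 (iv D23852)) (tt N11667 F107132) (tt N13555 (iv F137267)) (tt N9854 F107133) (tt N13605 (iv F137510)) (tt N13643 D29570) (tt N13627 (iv F137624)) (tt N11667 F107134) (tt N9817 F107135))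
theorem Q11669 : ∀ i, i < 11669 → P i := stepQ 11668 Q11668 (allL N11668 (tt N10641 F107136) (tt N13643 (iv F137701)) (tt N9814 F107137) (tt N13556 (iv F137273)) (tt N9855 F107138) (tt N13644 D29571) (tt N9813 (iv D23853)) (tt N13645 D29572) (tt N11668 F107139) (tt N9818 F107140))
theorem Q11670 : ∀ i, i < 11670 → P i := stepQ 11669 Q11669 (allL N11669 (tt N10642 F107141) (tt N11669 F107142) (tt N13644 (iv F137707)) (tt N9815 F107143) (tt N13646 D29573) (tt N9814 (iv D23854)) (tt N13607 (iv F137522)) (tt N13647 D29574) (tt N13648 D29575) (tt N9819 F107144))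
theorem Q11671 : ∀ i, i < 11671 → P i := stepQ 11670 Q11670 (allL N11670 (tt N10643 F107145) (tt N11670 F107146) (tt N13645 (iv F137710)) (tt N9816 F107147) (tt N9857 F107148) (tt N13647 (iv F137722)) (tt N13630 (iv F137641)) (tt N9814 (iv D23855)) (tt N11670 F107149) (tt N9820 F107150))
theorem Q11672 : ∀ i, i < 11672 → P i := stepQ 11671 Q11671 (allL N11671 (tt N10644 F107151) (tt N11671 F107152) (tt N13559 (iv F137286)) (tt N13647 (iv F137721)) (tt N10009 F107153) (tt N9816 F107154) (tt N13649 D29576) (tt N9815 (iv D23856)) (tt N13650 D29577) (tt N9821 F107155))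
theorem Q11673 : ∀ i, i < 11673 → P i := stepQ 11672 Q11672 (allL N11672 (tt N10645 F107156) (tt N11672 F107157) (tt N13560 (iv F137291)) (tt N13648 (iv F137726)) (tt N10010 F107158) (tt N11672 F107159) (tt N13610 (iv F137540)) (tt N13650 (iv F137736)) (tt N9815 (iv D23857)) (tt N13651 D29578))
theorem Q11674 : ∀ i, i < 11674 → P i := stepQ 11673 Q11673 (allL N11673 (tt N9817 (iv D23858)) (tt N10646 F107160) (tt N11673 F107161) (tt N13561 (iv F137296)) (tt N9860 F107162) (tt N13611 (iv F137544)) (tt N13652 D29579) (tt N13633 (iv F137659)) (tt N9829 F107163) (tt N13642 (iv F137700)))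
theorem Q11675 : ∀ i, i < 11675 → P i := stepQ 11674 Q11674 (allL N11674 (tt N13652 (iv F137742)) (tt N9818 F107164) (tt N11674 F107165) (tt N13562 (iv F137301)) (tt N9861 F107166) (tt N13653 D29580) (tt N9817 (iv D23859)) (tt N13654 D29581) (tt N9830 F107167) (tt N13643 (iv F137705)))
theorem Q11676 : ∀ i, i < 11676 → P i := stepQ 11675 Q11675 (allL N11675 (tt N10648 F107168) (tt N13653 (iv F137747)) (tt N9819 F107169) (tt N13563 (iv F137306)) (tt N13655 D29582) (tt N9818 (iv D23860)) (tt N13613 (iv F137552)) (tt N13656 D29583) (tt N13657 D29584) (tt N13644 (iv F137708)))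
theorem Q11677 : ∀ i, i < 11677 → P i := stepQ 11676 Q11676 (allL N11676 (tt N10649 F107170) (tt N13654 (iv F137749)) (tt N9820 F107171) (tt N13564 (iv F137309)) (tt N9863 F107172) (tt N13656 (iv F137758)) (tt N13635 (iv F137666)) (tt N9818 (iv D23861)) (tt N9832 F107173) (tt N13645 (iv F137713)))
theorem Q11678 : ∀ i, i < 11678 → P i := stepQ 11677 Q11677 (allL N11677 (tt N10650 F107174) (tt N11677 F107175) (tt N13655 (iv F137754)) (tt N10015 F107176) (tt N9819 (iv D23862)) (tt N9864 F107177) (tt N13615 (iv F137561)) (tt N13658 D29585) (tt N13659 D29586) (tt N13646 (iv F137718)))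
theorem Q11679 : ∀ i, i < 11679 → P i := stepQ 11678 Q11678 (allL N11678 (tt N10651 F107178) (tt N11678 F107179) (tt N13656 (iv F137757)) (tt N9821 F107180) (tt N13658 (iv F137765)) (tt N9820 F107181) (tt N13660 D29587) (tt N9819 (iv D23863)) (tt N13661 D29588) (tt N13647 (iv F137723)))
theorem Q11680 : ∀ i, i < 11680 → P i := stepQ 11679 Q11679 (allL N11679 (tt N10652 F107182) (tt N11679 F107183) (tt N13657 (iv F137760)) (tt N9822 F107184) (tt N13659 (iv F137770)) (tt N9834 F107185) (tt N13617 (iv F137570)) (tt N13661 (iv F137779)) (tt N9819 (iv D23864)) (tt N13662 D29589))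
theorem Q11681 : ∀ i, i < 11681 → P i := stepQ 11680 Q11680 (allL N11680 (tt N10653 F107186) (tt N11680 F107187) (tt N13568 (iv F137320)) (tt N13660 (iv F137774)) (tt N10018 F107188) (tt N13639 (iv F137684)) (tt N9821 (iv D23865)) (tt N13618 (iv F137574)) (tt N13663 D29590) (tt N13649 (iv F137731)))
theorem Q11682 : ∀ i, i < 11682 → P i := stepQ 11681 Q11681 (allL N11681 (tt N10654 F107189) (tt N11681 F107190) (tt N13569 (iv F137323)) (tt N13661 (iv F137777)) (tt N10019 F107191) (tt N9836 F107192) (tt N13663 (iv F137787)) (tt N9822 F107193) (tt N9821 (iv D23866)) (tt N13664 D29591))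
theorem Q11683 : ∀ i, i < 11683 → P i := stepQ 11682 Q11682 (allL N11682 (tt N10655 F107194) (tt N11682 F107195) (tt N13570 (iv F137328)) (tt N13662 (iv F137782)) (tt N10020 F107196) (tt N9837 F107197) (tt N13620 (iv F137584)) (tt N13664 (iv F137792)) (tt N13651 (iv F137741)) (tt N9822 (iv D23867)))
theorem Q11684 : ∀ i, i < 11684 → P i := stepQ 11683 Q11683 (allL N11683 (tt N9823 (iv D23868)) (tt N10656 F107198) (tt N11683 F107199) (tt N13571 (iv F137333)) (tt N9867 F107200) (tt N11683 F107201) (tt N10351 F135141) (tt N9829 F107202) (tt N13633 (iv F137660)) (tt N11683 F107203))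
theorem Q11685 : ∀ i, i < 11685 → P i := stepQ 11684 Q11684 (allL N11684 (tt N10659 F107212) (tt N13313 (iv F135881)) (tt N9826 F107213) (tt N13572 (iv F137341)) (tt N9868 F107214) (tt N13517 (iv F137053)) (tt N9832 F107215) (tt N9824 (iv D23871)) (tt N13635 (iv F137667)) (tt N11684 F107216))
theorem Q11686 : ∀ i, i < 11686 → P i := stepQ 11685 Q11685 (allL N11685 (tt N10661 F107224) (tt N11685 F107225) (tt N13517 (iv F137051)) (tt N9827 F107226) (tt N13516 (iv F137045)) (tt N9826 F107227) (tt N13665 D29592) (tt N9825 (iv D23873)) (tt N13666 D29593) (tt N11685 F107228))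
theorem Q11687 : ∀ i, i < 11687 → P i := stepQ 11686 Q11686 (allL N11686 (tt N10662 F107229) (tt N11686 F107230) (tt N13518 (iv F137057)) (tt N9828 F107231) (tt N10287 F135115) (tt N13638 (iv F137680)) (tt N11686 F107233) (tt N13666 (iv F137803)) (tt N9825 (iv D23874)) (tt N10286 (iv F135266)))
theorem Q11688 : ∀ i, i < 11688 → P i := stepQ 11687 Q11687 (allL N11687 (tt N10663 F107235) (tt N11687 F107236) (tt N13575 (iv F137356)) (tt N13665 (iv F137795)) (tt N11687 F107237) (tt N9835 F107238) (tt N9827 (iv D23875)) (tt N11687 F107239) (tt N13667 D29594) (tt N11687 F107240))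
theorem Q11689 : ∀ i, i < 11689 → P i := stepQ 11688 Q11688 (allL N11688 (tt N10664 F107241) (tt N11688 F107242) (tt N13576 (iv F137363)) (tt N13666 (iv F137801)) (tt N11688 F107243) (tt N13640 (iv F137687)) (tt N13667 (iv F137808)) (tt N9828 F107244) (tt N9827 (iv D23876)) (tt N13668 D29595))
theorem Q11690 : ∀ i, i < 11690 → P i := stepQ 11689 Q11689 (allL N11689 (tt N10665 F107245) (tt N11689 F107246) (tt N13577 (iv F137368)) (tt N10286 F135529) (tt N11689 F107248) (tt N13641 (iv F137693)) (tt N11689 F107249) (tt N13668 (iv F137814)) (tt N11689 F107250) (tt N9828 (iv D23877)))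
theorem Q11691 : ∀ i, i < 11691 → P i := stepQ 11690 Q11690 (allL N11690 (tt N9830 F107251) (tt N10666 F107252) (tt N11690 F107253) (tt N13578 (iv F137375)) (tt N9871 F107254) (tt N13669 D29596) (tt N9829 (iv D23878)) (tt N13670 D29597) (tt N13652 (iv F137746)) (tt N11690 F107255))
theorem Q11692 : ∀ i, i < 11692 → P i := stepQ 11691 Q11691 (allL N11691 (tt N13669 (iv F137816)) (tt N9831 F107256) (tt N11691 F107257) (tt N13579 (iv F137380)) (tt N11691 F107258) (tt N9830 (iv D23879)) (tt N11691 F107259) (tt N13671 D29598) (tt N13672 D29599) (tt N11691 F107260))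
theorem Q11693 : ∀ i, i < 11693 → P i := stepQ 11692 Q11692 (allL N11692 (tt N13670 (iv F137822)) (tt N9832 F107261) (tt N11692 F107262) (tt N13580 (iv F137386)) (tt N9872 F107263) (tt N13671 (iv F137831)) (tt N13313 (iv F135885)) (tt N9830 (iv D23880)) (tt N13654 (iv F137752)) (tt N11692 F107264))
theorem Q11694 : ∀ i, i < 11694 → P i := stepQ 11693 Q11693 (allL N11693 (tt N10669 F107265) (tt N13671 (iv F137828)) (tt N9833 F107266) (tt N13582 (iv F137398)) (tt N11693 F107267) (tt N9832 F107268) (tt N13673 D29600) (tt N9831 (iv D23881)) (tt N13674 D29601) (tt N11693 F107269))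
theorem Q11695 : ∀ i, i < 11695 → P i := stepQ 11694 Q11694 (allL N11694 (tt N10670 F107270) (tt N13672 (iv F137833)) (tt N9834 F107271) (tt N13583 (iv F137403)) (tt N11694 F107272) (tt N13657 (iv F137761)) (tt N11694 F107273) (tt N13674 (iv F137845)) (tt N9831 (iv D23882)) (tt N13675 D29602))
theorem Q11696 : ∀ i, i < 11696 → P i := stepQ 11695 Q11695 (allL N11695 (tt N10671 F107274) (tt N11695 F107275) (tt N13673 (iv F137838)) (tt N9835 F107276) (tt N11695 F107277) (tt N13665 (iv F137796)) (tt N9833 (iv D23883)) (tt N11695 F107278) (tt N13676 D29603) (tt N11695 F107279))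
theorem Q11697 : ∀ i, i < 11697 → P i := stepQ 11696 Q11696 (allL N11696 (tt N10672 F107280) (tt N11696 F107281) (tt N13674 (iv F137843)) (tt N9836 F107282) (tt N11696 F107283) (tt N13661 (iv F137778)) (tt N13676 (iv F137855)) (tt N9834 F107284) (tt N9833 (iv D23884)) (tt N13677 D29604))
theorem Q11698 : ∀ i, i < 11698 → P i := stepQ 11697 Q11697 (allL N11697 (tt N10673 F107285) (tt N11697 F107286) (tt N13675 (iv F137847)) (tt N9837 F107287) (tt N11697 F107288) (tt N13662 (iv F137783)) (tt N11697 F107289) (tt N13677 (iv F137861)) (tt N11697 F107290) (tt N9834 (iv D23885)))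
theorem Q11699 : ∀ i, i < 11699 → P i := stepQ 11698 Q11698 (allL N11698 (tt N10674 F107291) (tt N11698 F107292) (tt N13589 (iv F137425)) (tt N13676 (iv F137853)) (tt N9838 F107293) (tt N13678 D29605) (tt N9836 F107294) (tt N11698 F107295) (tt N9835 (iv D23886)) (tt N13679 D29606))
theorem Q11700 : ∀ i, i < 11700 → P i := stepQ 11699 Q11699 (allL N11699 (tt N10675 F107296) (tt N11699 F107297) (tt N13590 (iv F137430)) (tt N13677 (iv F137859)) (tt N9839 F107298) (tt N13664 (iv F137791)) (tt N13679 (iv F137869)) (tt N9837 F107299) (tt N11699 F107300) (tt N9836 (iv D23887)))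
theorem Q11701 : ∀ i, i < 11701 → P i := stepQ 11700 Q11700 (allL N11700 (tt N10676 F107301) (tt N11700 F107302) (tt N13597 (iv F137465)) (tt N11700 F107303) (tt N13680 D29607) (tt N9838 (iv D23888)) (tt N10035 F107304) (tt N11700 F107305) (tt N11700 F107306) (tt N13681 D29608))
theorem Q11702 : ∀ i, i < 11702 → P i := stepQ 11701 Q11701 (allL N11701 (tt N10677 F107307) (tt N11701 F107308) (tt N13598 (iv F137470)) (tt N11701 F107309) (tt N13679 (iv F137868)) (tt N13681 (iv F137880)) (tt N9839 F107310) (tt N11701 F107311) (tt N11701 F107312) (tt N9838 (iv D23889)))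
theorem Q11703 : ∀ i, i < 11703 → P i := stepQ 11702 Q11702 (allL N11702 (tt N13682 D29609) (tt N9840 (iv D23890)) (tt N11702 F107313) (tt N10684 F107314) (tt N13621 (iv F137586)) (tt N11702 F107315) (tt N13683 D29610) (tt N10037 F107316) (tt N11702 F107317) (tt N10373 F107318))
theorem Q11704 : ∀ i, i < 11704 → P i := stepQ 11703 Q11703 (allL N11703 (tt N10679 F107319) (tt N13683 (iv F137892)) (tt N9841 F107320) (tt N10685 F107321) (tt N13622 (iv F137593)) (tt N13348 (iv F136108)) (tt N9840 (iv D23891)) (tt N13684 D29611) (tt N11703 F107322) (tt N10374 F107323))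
theorem Q11705 : ∀ i, i < 11705 → P i := stepQ 11704 Q11704 (allL N11704 (tt N10680 F107324) (tt N11704 F107325) (tt N13348 (iv F136106)) (tt N9842 F107326) (tt N13685 D29612) (tt N9841 (iv D23892)) (tt N11704 F107327) (tt N13686 D29613) (tt N13288 (iv F135726)) (tt N10375 F107328))
theorem Q11706 : ∀ i, i < 11706 → P i := stepQ 11705 Q11705 (allL N11705 (tt N10681 F107329) (tt N11705 F107330) (tt N13684 (iv F137899)) (tt N9843 F107331) (tt N13624 (iv F137605)) (tt N13686 (iv F137913)) (tt N10040 F107332) (tt N9841 (iv D23893)) (tt N11705 F107333) (tt N10376 F107334))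
theorem Q11707 : ∀ i, i < 11707 → P i := stepQ 11706 Q11706 (allL N11706 (tt N10682 F107335) (tt N11706 F107336) (tt N10688 F107337) (tt N13686 (iv F137912)) (tt N9852 F107338) (tt N9843 F107339) (tt N13687 D29614) (tt N9842 (iv D23894)) (tt N13688 D29615) (tt N10377 F107340))
theorem Q11708 : ∀ i, i < 11708 → P i := stepQ 11707 Q11707 (allL N11707 (tt N10683 F107341) (tt N11707 F107342) (tt N10689 F107343) (tt N13288 (iv F135722)) (tt N9853 F107344) (tt N11707 F107345) (tt N11707 F107346) (tt N13688 (iv F137927)) (tt N9842 (iv D23895)) (tt N13285 (iv F135706)))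
theorem Q11709 : ∀ i, i < 11709 → P i := stepQ 11708 Q11708 (allL N11708 (tt N13689 D29616) (tt N9844 (iv D23896)) (tt N11708 F107347) (tt N10678 F107348) (tt N13627 (iv F137622)) (tt N11708 F107349) (tt N13316 (iv F135904)) (tt N9854 F107350) (tt N11708 F107351) (tt N9848 F107352))
theorem Q11710 : ∀ i, i < 11710 → P i := stepQ 11709 Q11709 (allL N11709 (tt N10685 F107353) (tt N13316 (iv F135900)) (tt N9845 F107354) (tt N10679 F107355) (tt N13628 (iv F137629)) (tt N13367 (iv F136210)) (tt N9844 (iv D23897)) (tt N13690 D29617) (tt N11709 F107356) (tt N9849 F107357))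
theorem Q11711 : ∀ i, i < 11711 → P i := stepQ 11710 Q11710 (allL N11710 (tt N10686 F107358) (tt N11710 F107359) (tt N13367 (iv F136208)) (tt N9846 F107360) (tt N13691 D29618) (tt N9845 (iv D23898)) (tt N11710 F107361) (tt N13692 D29619) (tt N13455 (iv F136697)) (tt N9850 F107362))
theorem Q11712 : ∀ i, i < 11712 → P i := stepQ 11711 Q11711 (allL N11711 (tt N10687 F107363) (tt N11711 F107364) (tt N13690 (iv F137937)) (tt N9847 F107365) (tt N13630 (iv F137640)) (tt N13692 (iv F137951)) (tt N9857 F107366) (tt N9845 (iv D23899)) (tt N11711 F107367) (tt N9851 F107368))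
theorem Q11713 : ∀ i, i < 11713 → P i := stepQ 11712 Q11712 (allL N11712 (tt N10688 F107369) (tt N11712 F107370) (tt N10682 F107371) (tt N13692 (iv F137950)) (tt N10377 F107372) (tt N9847 F107373) (tt N13693 D29620) (tt N9846 (iv D23900)) (tt N13694 D29621) (tt N9852 F107374))
theorem Q11714 : ∀ i, i < 11714 → P i := stepQ 11713 Q11713 (allL N11713 (tt N10689 F107375) (tt N11713 F107376) (tt N10683 F107377) (tt N13455 (iv F136693)) (tt N10378 F107378) (tt N11713 F107379) (tt N11713 F107380) (tt N13694 (iv F137965)) (tt N9846 (iv D23901)) (tt N13283 (iv F135691)))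
theorem Q11715 : ∀ i, i < 11715 → P i := stepQ 11714 Q11714 (allL N11714 (tt N9848 (iv D23902)) (tt N10690 F107381) (tt N11714 F107382) (tt N10317 F135142) (tt N13633 (iv F137657)) (tt N11714 F107383) (tt N10353 F135143) (tt N9860 F107384) (tt N9867 F107385) (tt N13689 (iv F137935)))
theorem Q11716 : ∀ i, i < 11716 → P i := stepQ 11715 Q11715 (allL N11715 (tt N10693 F107392) (tt N13315 (iv F135893)) (tt N9851 F107393) (tt N13301 (iv F135804)) (tt N13635 (iv F137665)) (tt N13366 (iv F136204)) (tt N9863 F107394) (tt N9849 (iv D23905)) (tt N9868 F107395) (tt N13690 (iv F137941)))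
theorem Q11717 : ∀ i, i < 11717 → P i := stepQ 11716 Q11716 (allL N11716 (tt N10694 F107396) (tt N11716 F107397) (tt N13364 (iv F136192)) (tt N13685 (iv F137906)) (tt N9850 (iv D23906)) (tt N13636 (iv F137670)) (tt N11716 F107398) (tt N13695 D29622) (tt N10315 F135105) (tt N13691 (iv F137947)))
theorem Q11718 : ∀ i, i < 11718 → P i := stepQ 11717 Q11717 (allL N11717 (tt N10695 F107400) (tt N11717 F107401) (tt N13366 (iv F136202)) (tt N9852 F107402) (tt N13695 (iv F137968)) (tt N9851 F107403) (tt N13696 D29623) (tt N9850 (iv D23907)) (tt N13362 (iv F136182)) (tt N13692 (iv F137952)))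
theorem Q11719 : ∀ i, i < 11719 → P i := stepQ 11718 Q11718 (allL N11718 (tt N10697 F107411) (tt N11718 F107412) (tt N13328 (iv F135982)) (tt N13696 (iv F137972)) (tt N13687 (iv F137918)) (tt N9866 F107413) (tt N9852 (iv D23909)) (tt N11718 F107414) (tt N13697 D29624) (tt N13693 (iv F137959)))
theorem Q11720 : ∀ i, i < 11720 → P i := stepQ 11719 Q11719 (allL N11719 (tt N10698 F107415) (tt N11719 F107416) (tt N13276 (iv F135632)) (tt N13362 (iv F136179)) (tt N13688 (iv F137925)) (tt N9870 F107417) (tt N13697 (iv F137978)) (tt N9853 F107418) (tt N9852 (iv D23910)) (tt N13289 (iv F135732)))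
theorem Q11721 : ∀ i, i < 11721 → P i := stepQ 11720 Q11720 (allL N11720 (tt N9854 (iv D23912)) (tt N10700 F107424) (tt N11720 F107425) (tt N10885 F107426) (tt N13642 (iv F137698)) (tt N11720 F107427) (tt N13698 D29625) (tt N13689 (iv F137933)) (tt N11720 F107428) (tt N9860 F107429))
theorem Q11722 : ∀ i, i < 11722 → P i := stepQ 11721 Q11721 (allL N11721 (tt N13698 (iv F137980)) (tt N9855 F107430) (tt N11721 F107431) (tt N10886 F107432) (tt N13643 (iv F137703)) (tt N13699 D29626) (tt N9854 (iv D23913)) (tt N13700 D29627) (tt N11721 F107433) (tt N9861 F107434))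
theorem Q11723 : ∀ i, i < 11723 → P i := stepQ 11722 Q11722 (allL N11722 (tt N10702 F107435) (tt N13699 (iv F137986)) (tt N9856 F107436) (tt N10887 F107437) (tt N13701 D29628) (tt N9855 (iv D23914)) (tt N11722 F107438) (tt N13702 D29629) (tt N13703 D29630) (tt N9862 F107439))
theorem Q11724 : ∀ i, i < 11724 → P i := stepQ 11723 Q11723 (allL N11723 (tt N10703 F107440) (tt N13700 (iv F137991)) (tt N9857 F107441) (tt N10888 F107442) (tt N13645 (iv F137711)) (tt N13702 (iv F138003)) (tt N13690 (iv F137939)) (tt N9855 (iv D23915)) (tt N11723 F107443) (tt N9863 F107444))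
theorem Q11725 : ∀ i, i < 11725 → P i := stepQ 11724 Q11724 (allL N11724 (tt N10704 F107445) (tt N11724 F107446) (tt N13701 (iv F137997)) (tt N10051 F107447) (tt N9856 (iv D23916)) (tt N13646 (iv F137717)) (tt N11724 F107448) (tt N13704 D29631) (tt N13705 D29632) (tt N9864 F107449))
theorem Q11726 : ∀ i, i < 11726 → P i := stepQ 11725 Q11725 (allL N11725 (tt N10705 F107450) (tt N11725 F107451) (tt N13702 (iv F138001)) (tt N9858 F107452) (tt N13704 (iv F138014)) (tt N9857 F107453) (tt N13706 D29633) (tt N9856 (iv D23917)) (tt N13707 D29634) (tt N9865 F107454))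
theorem Q11727 : ∀ i, i < 11727 → P i := stepQ 11726 Q11726 (allL N11726 (tt N10706 F107455) (tt N11726 F107456) (tt N13703 (iv F138006)) (tt N9859 F107457) (tt N13705 (iv F138019)) (tt N11726 F107458) (tt N11726 F107459) (tt N13707 (iv F138032)) (tt N9856 (iv D23918)) (tt N11726 F107460))
theorem Q11728 : ∀ i, i < 11728 → P i := stepQ 11727 Q11727 (allL N11727 (tt N10707 F107461) (tt N11727 F107462) (tt N10892 F107463) (tt N13706 (iv F138025)) (tt N10054 F107464) (tt N13693 (iv F137957)) (tt N9858 (iv D23919)) (tt N11727 F107465) (tt N13708 D29635) (tt N9866 F107466))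
theorem Q11729 : ∀ i, i < 11729 → P i := stepQ 11728 Q11728 (allL N11728 (tt N10708 F107467) (tt N11728 F107468) (tt N10893 F107469) (tt N13707 (iv F138030)) (tt N10055 F107470) (tt N11728 F107471) (tt N13708 (iv F138038)) (tt N9859 F107472) (tt N9858 (iv D23920)) (tt N11728 F107473))
theorem Q11730 : ∀ i, i < 11730 → P i := stepQ 11729 Q11729 (allL N11729 (tt N9861 F107474) (tt N10709 F107475) (tt N11729 F107476) (tt N13329 (iv F135990)) (tt N13652 (iv F137745)) (tt N13709 D29636) (tt N9860 (iv D23921)) (tt N13710 D29637) (tt N9871 F107477) (tt N13698 (iv F137985)))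
theorem Q11731 : ∀ i, i < 11731 → P i := stepQ 11730 Q11730 (allL N11730 (tt N13709 (iv F138041)) (tt N9862 F107478) (tt N11730 F107479) (tt N13330 (iv F135997)) (tt N13711 D29638) (tt N9861 (iv D23922)) (tt N11730 F107480) (tt N13712 D29639) (tt N11730 F107481) (tt N13699 (iv F137990)))
theorem Q11732 : ∀ i, i < 11732 → P i := stepQ 11731 Q11731 (allL N11731 (tt N13710 (iv F138046)) (tt N9863 F107482) (tt N11731 F107483) (tt N13317 (iv F135909)) (tt N13654 (iv F137751)) (tt N13712 (iv F138058)) (tt N13315 (iv F135897)) (tt N9861 (iv D23923)) (tt N9872 F107484) (tt N13700 (iv F137995)))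
theorem Q11733 : ∀ i, i < 11733 → P i := stepQ 11732 Q11732 (allL N11732 (tt N10712 F107485) (tt N13711 (iv F138052)) (tt N9864 F107486) (tt N13713 D29640) (tt N9862 (iv D23924)) (tt N13655 (iv F137755)) (tt N11732 F107487) (tt N13714 D29641) (tt N11732 F107488) (tt N13701 (iv F137999)))
theorem Q11734 : ∀ i, i < 11734 → P i := stepQ 11733 Q11733 (allL N11733 (tt N10713 F107489) (tt N13712 (iv F138056)) (tt N9865 F107490) (tt N13332 (iv F136008)) (tt N13714 (iv F138066)) (tt N9863 F107491) (tt N13715 D29642) (tt N9862 (iv D23925)) (tt N11733 F107492) (tt N13702 (iv F138004)))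
theorem Q11735 : ∀ i, i < 11735 → P i := stepQ 11734 Q11734 (allL N11734 (tt N10714 F107493) (tt N11734 F107494) (tt N13714 (iv F138065)) (tt N10060 F107495) (tt N9865 F107496) (tt N13658 (iv F137766)) (tt N13716 D29643) (tt N9864 (iv D23926)) (tt N11734 F107497) (tt N13704 (iv F138015)))
theorem Q11736 : ∀ i, i < 11736 → P i := stepQ 11735 Q11735 (allL N11735 (tt N10715 F107498) (tt N11735 F107499) (tt N13715 (iv F138069)) (tt N9866 F107500) (tt N13716 (iv F138075)) (tt N13696 (iv F137973)) (tt N9865 (iv D23927)) (tt N11735 F107501) (tt N11735 F107502) (tt N13706 (iv F138027)))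
theorem Q11737 : ∀ i, i < 11737 → P i := stepQ 11736 Q11736 (allL N11736 (tt N9872 F107551) (tt N10721 F107552) (tt N11736 F107553) (tt N10354 F135615) (tt N13670 (iv F137825)) (tt N11736 F107554) (tt N10352 F135616) (tt N9871 (iv D23937)) (tt N13710 (iv F138051)) (tt N11736 F107555))
theorem Q11738 : ∀ i, i < 11738 → P i := stepQ 11737 Q11737 (allL N11737 (tt N9894 F107585) (tt N10336 F107586) (tt N13717 D29644) (tt N9873 (iv D23942)) (tt N10542 F107587) (tt N9879 F107588) (tt N13718 D29645) (tt N10322 F107589) (tt N10167 F107590) (tt N10566 F107591))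
theorem Q11739 : ∀ i, i < 11739 → P i := stepQ 11738 Q11738 (allL N11738 (tt N9895 F107592) (tt N10337 F107593) (tt N11738 F107594) (tt N13718 (iv F138087)) (tt N9874 F107595) (tt N13719 D29646) (tt N9873 (iv D23943)) (tt N13720 D29647) (tt N10168 F107596) (tt N10567 F107597))
theorem Q11740 : ∀ i, i < 11740 → P i := stepQ 11739 Q11739 (allL N11739 (tt N9896 F107598) (tt N10338 F107599) (tt N11739 F107600) (tt N10544 F107601) (tt N13720 (iv F138100)) (tt N10760 F107602) (tt N10324 F107603) (tt N9874 (iv D23944)) (tt N10169 F107604) (tt N10568 F107605))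
theorem Q11741 : ∀ i, i < 11741 → P i := stepQ 11740 Q11740 (allL N11740 (tt N9899 F107606) (tt N10333 F107607) (tt N13721 D29648) (tt N9875 (iv D23945)) (tt N10722 F107608) (tt N10322 F107609) (tt N13722 D29649) (tt N9879 F107610) (tt N9882 F107611) (tt N10390 F107612))
theorem Q11742 : ∀ i, i < 11742 → P i := stepQ 11741 Q11741 (allL N11741 (tt N9900 F107613) (tt N10334 F107614) (tt N11741 F107615) (tt N13722 (iv F138113)) (tt N9876 F107616) (tt N13723 D29650) (tt N9875 (iv D23946)) (tt N13724 D29651) (tt N9883 F107617) (tt N10391 F107618))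
theorem Q11743 : ∀ i, i < 11743 → P i := stepQ 11742 Q11742 (allL N11742 (tt N9901 F107619) (tt N10335 F107620) (tt N11742 F107621) (tt N10724 F107622) (tt N13724 (iv F138126)) (tt N10402 F107623) (tt N9881 F107624) (tt N9876 (iv D23947)) (tt N9884 F107625) (tt N10392 F107626))
theorem Q11744 : ∀ i, i < 11744 → P i := stepQ 11743 Q11743 (allL N11743 (tt N9902 F107627) (tt N10722 F107628) (tt N13725 D29652) (tt N9877 (iv D23948)) (tt N10333 F107629) (tt N10566 F107630) (tt N13726 D29653) (tt N10390 F107631) (tt N10062 F107632) (tt N9879 F107633))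
theorem Q11745 : ∀ i, i < 11745 → P i := stepQ 11744 Q11744 (allL N11744 (tt N9903 F107634) (tt N10723 F107635) (tt N11744 F107636) (tt N13726 (iv F138139)) (tt N9878 F107637) (tt N13727 D29654) (tt N9877 (iv D23949)) (tt N13728 D29655) (tt N10063 F107638) (tt N9880 F107639))
theorem Q11746 : ∀ i, i < 11746 → P i := stepQ 11745 Q11745 (allL N11745 (tt N9904 F107640) (tt N10724 F107641) (tt N11745 F107642) (tt N10335 F107643) (tt N13728 (iv F138152)) (tt N10420 F107644) (tt N10392 F107645) (tt N9878 (iv D23950)) (tt N10064 F107646) (tt N9881 F107647))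
theorem Q11747 : ∀ i, i < 11747 → P i := stepQ 11746 Q11746 (allL N11746 (tt N9905 F107648) (tt N13729 D29656) (tt N9879 (iv D23951)) (tt N11746 F107649) (tt N13335 (iv F136026)) (tt N13717 (iv F138081)) (tt N13730 D29657) (tt N13721 (iv F138108)) (tt N9885 F107650) (tt N13725 (iv F138136)))
theorem Q11748 : ∀ i, i < 11748 → P i := stepQ 11747 Q11747 (allL N11747 (tt N9906 F107651) (tt N10725 F107652) (tt N13730 (iv F138160)) (tt N9880 F107653) (tt N13336 (iv F136034)) (tt N13731 D29658) (tt N9879 (iv D23952)) (tt N13732 D29659) (tt N9886 F107654) (tt N13726 (iv F138142)))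
theorem Q11749 : ∀ i, i < 11749 → P i := stepQ 11748 Q11748 (allL N11748 (tt N9907 F107655) (tt N10726 F107656) (tt N11748 F107657) (tt N13731 (iv F138165)) (tt N13488 (iv F136882)) (tt N9880 (iv D23953)) (tt N13719 (iv F138095)) (tt N13733 D29660) (tt N13734 D29661) (tt N13727 (iv F138148)))
theorem Q11750 : ∀ i, i < 11750 → P i := stepQ 11749 Q11749 (allL N11749 (tt N9908 F107658) (tt N10727 F107659) (tt N11749 F107660) (tt N13732 (iv F138168)) (tt N9881 F107661) (tt N13733 (iv F138173)) (tt N13724 (iv F138127)) (tt N9880 (iv D23954)) (tt N9888 F107662) (tt N13728 (iv F138155)))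
theorem Q11751 : ∀ i, i < 11751 → P i := stepQ 11750 Q11750 (allL N11750 (tt N9909 F107663) (tt N13735 D29662) (tt N9882 (iv D23955)) (tt N11750 F107664) (tt N10301 F134401) (tt N10175 F107666) (tt N13736 D29663) (tt N9885 F107667) (tt N13721 (iv F138109)) (tt N10069 F107668))
theorem Q11752 : ∀ i, i < 11752 → P i := stepQ 11751 Q11751 (allL N11751 (tt N9910 F107669) (tt N10728 F107670) (tt N13736 (iv F138187)) (tt N9883 F107671) (tt N10910 F107672) (tt N13737 D29664) (tt N9882 (iv D23956)) (tt N13738 D29665) (tt N13722 (iv F138115)) (tt N10070 F107673))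
theorem Q11753 : ∀ i, i < 11753 → P i := stepQ 11752 Q11752 (allL N11752 (tt N9911 F107674) (tt N10279 F133768) (tt N11752 F107676) (tt N13737 (iv F138193)) (tt N11752 F107677) (tt N9883 (iv D23957)) (tt N10177 F107678) (tt N13739 D29666) (tt N13740 D29667) (tt N10071 F107679))
theorem Q11754 : ∀ i, i < 11754 → P i := stepQ 11753 Q11753 (allL N11753 (tt N9912 F107680) (tt N10729 F107681) (tt N11753 F107682) (tt N13738 (iv F138198)) (tt N9884 F107683) (tt N13739 (iv F138206)) (tt N9888 F107684) (tt N9883 (iv D23958)) (tt N13724 (iv F138128)) (tt N10072 F107685))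
theorem Q11755 : ∀ i, i < 11755 → P i := stepQ 11754 Q11754 (allL N11754 (tt N13741 D29668) (tt N9885 (iv D23959)) (tt N10200 F134824) (tt N11754 F107687) (tt N13339 (iv F136053)) (tt N10178 F107688) (tt N13742 D29669) (tt N13735 (iv F138184)) (tt N13729 (iv F138158)) (tt N10073 F107689))
theorem Q11756 : ∀ i, i < 11756 → P i := stepQ 11755 Q11755 (allL N11755 (tt N9914 F107690) (tt N13742 (iv F138221)) (tt N9886 F107691) (tt N11755 F107692) (tt N13340 (iv F136060)) (tt N13743 D29670) (tt N9885 (iv D23960)) (tt N13744 D29671) (tt N13730 (iv F138162)) (tt N10074 F107693))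
theorem Q11757 : ∀ i, i < 11757 → P i := stepQ 11756 Q11756 (allL N11756 (tt N9915 F107694) (tt N9957 (iv F134134)) (tt N13743 (iv F138228)) (tt N9887 F107696) (tt N10929 F133590) (tt N9886 (iv D23961)) (tt N9956 F133591) (tt N13745 D29672) (tt N13746 D29673) (tt N10075 F107698))
theorem Q11758 : ∀ i, i < 11758 → P i := stepQ 11757 Q11757 (allL N11757 (tt N9916 F107699) (tt N10730 F107700) (tt N13744 (iv F138234)) (tt N9888 F107701) (tt N13342 (iv F136071)) (tt N13745 (iv F138241)) (tt N13738 (iv F138200)) (tt N9886 (iv D23962)) (tt N13732 (iv F138169)) (tt N10076 F107702))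
theorem Q11759 : ∀ i, i < 11759 → P i := stepQ 11758 Q11758 (allL N11758 (tt N9917 F107703) (tt N10021 (iv F134137)) (tt N11758 F107705) (tt N13745 (iv F138239)) (tt N9890 F107706) (tt N9888 F107707) (tt N10027 F133592) (tt N9887 (iv D23963)) (tt N13747 D29674) (tt N10077 F107708))
theorem Q11760 : ∀ i, i < 11760 → P i := stepQ 11759 Q11759 (allL N11759 (tt N9918 F107709) (tt N10001 (iv F134075)) (tt N11759 F107711) (tt N13746 (iv F138246)) (tt N9891 F107712) (tt N13734 (iv F138177)) (tt N10000 F133593) (tt N13747 (iv F138255)) (tt N9887 (iv D23964)) (tt N10453 F133594))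
theorem Q11761 : ∀ i, i < 11761 → P i := stepQ 11760 Q11760 (allL N11760 (tt N9924 F107752) (tt N10044 (iv F134081)) (tt N11760 F107754) (tt N10818 F133679) (tt N13747 (iv F138253)) (tt N13498 (iv F136948)) (tt N10057 F133680) (tt N9891 F107755) (tt N9890 (iv D23972)) (tt N10474 F133681))
theorem Q11762 : ∀ i, i < 11762 → P i := stepQ 11761 Q11761 (allL N11761 (tt N10322 F107761) (tt N9929 F107762) (tt N13748 D29675) (tt N9892 (iv D23974)) (tt N10529 F107763) (tt N9899 F107764) (tt N13749 D29676) (tt N9894 F107765) (tt N10183 F107766) (tt N10400 F107767))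
theorem Q11763 : ∀ i, i < 11763 → P i := stepQ 11762 Q11762 (allL N11762 (tt N10323 F107768) (tt N9930 F107769) (tt N11762 F107770) (tt N13749 (iv F138266)) (tt N9893 F107771) (tt N13750 D29677) (tt N9892 (iv D23975)) (tt N13751 D29678) (tt N10184 F107772) (tt N10401 F107773))
theorem Q11764 : ∀ i, i < 11764 → P i := stepQ 11763 Q11763 (allL N11763 (tt N10324 F107774) (tt N9931 F107775) (tt N11763 F107776) (tt N10531 F107777) (tt N13751 (iv F138279)) (tt N10392 F107778) (tt N9896 F107779) (tt N9893 (iv D23976)) (tt N10185 F107780) (tt N10402 F107781))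
theorem Q11765 : ∀ i, i < 11765 → P i := stepQ 11764 Q11764 (allL N11764 (tt N13717 (iv F138078)) (tt N13752 D29679) (tt N9894 (iv D23977)) (tt N11764 F107782) (tt N13531 (iv F137139)) (tt N9905 F107783) (tt N13753 D29680) (tt N13748 (iv F138261)) (tt N10186 F107784) (tt N13523 (iv F137091)))
theorem Q11766 : ∀ i, i < 11766 → P i := stepQ 11765 Q11765 (allL N11765 (tt N13718 (iv F138085)) (tt N9936 F107785) (tt N13753 (iv F138288)) (tt N9895 F107786) (tt N13532 (iv F137147)) (tt N13754 D29681) (tt N9894 (iv D23978)) (tt N13755 D29682) (tt N10187 F107787) (tt N13524 (iv F137097)))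
theorem Q11767 : ∀ i, i < 11767 → P i := stepQ 11766 Q11766 (allL N11766 (tt N13719 (iv F138091)) (tt N9937 F107788) (tt N11766 F107789) (tt N13754 (iv F138292)) (tt N13501 (iv F136968)) (tt N9895 (iv D23979)) (tt N9907 F107790) (tt N13756 D29683) (tt N13757 D29684) (tt N13525 (iv F137103)))
theorem Q11768 : ∀ i, i < 11768 → P i := stepQ 11767 Q11767 (allL N11767 (tt N13720 (iv F138097)) (tt N9938 F107791) (tt N11767 F107792) (tt N13755 (iv F138295)) (tt N9896 F107793) (tt N13756 (iv F138299)) (tt N13751 (iv F138280)) (tt N9895 (iv D23980)) (tt N10189 F107794) (tt N13526 (iv F137110)))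
theorem Q11769 : ∀ i, i < 11769 → P i := stepQ 11768 Q11768 (allL N11768 (tt N10400 F107795) (tt N9939 F107796) (tt N13758 D29685) (tt N9897 (iv D23981)) (tt N10545 F107797) (tt N10390 F107798) (tt N13759 D29686) (tt N10566 F107799) (tt N11768 F107800) (tt N10322 F107801))
theorem Q11770 : ∀ i, i < 11770 → P i := stepQ 11769 Q11769 (allL N11769 (tt N10401 F107802) (tt N9940 F107803) (tt N11769 F107804) (tt N13759 (iv F138313)) (tt N9898 F107805) (tt N13760 D29687) (tt N9897 (iv D23982)) (tt N13761 D29688) (tt N11769 F107806) (tt N10323 F107807))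
theorem Q11771 : ∀ i, i < 11771 → P i := stepQ 11770 Q11770 (allL N11770 (tt N10402 F107808) (tt N9941 F107809) (tt N11770 F107810) (tt N10547 F107811) (tt N13761 (iv F138326)) (tt N9901 F107812) (tt N10568 F107813) (tt N9898 (iv D23983)) (tt N11770 F107814) (tt N10324 F107815))
theorem Q11772 : ∀ i, i < 11772 → P i := stepQ 11771 Q11771 (allL N11771 (tt N13721 (iv F138104)) (tt N13762 D29689) (tt N9899 (iv D23984)) (tt N11771 F107816) (tt N10739 F107817) (tt N13748 (iv F138260)) (tt N13763 D29690) (tt N9905 F107818) (tt N9909 F107819) (tt N10403 F107820))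
theorem Q11773 : ∀ i, i < 11773 → P i := stepQ 11772 Q11772 (allL N11772 (tt N13722 (iv F138111)) (tt N9943 F107821) (tt N13763 (iv F138337)) (tt N9900 F107822) (tt N10740 F107823) (tt N13764 D29691) (tt N9899 (iv D23985)) (tt N13765 D29692) (tt N9910 F107824) (tt N10404 F107825))
theorem Q11774 : ∀ i, i < 11774 → P i := stepQ 11773 Q11773 (allL N11773 (tt N13723 (iv F138117)) (tt N9944 F107826) (tt N11773 F107827) (tt N13764 (iv F138343)) (tt N13760 (iv F138320)) (tt N9900 (iv D23986)) (tt N13750 (iv F138274)) (tt N13766 D29693) (tt N13767 D29694) (tt N10405 F107828))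
theorem Q11775 : ∀ i, i < 11775 → P i := stepQ 11774 Q11774 (allL N11774 (tt N13724 (iv F138123)) (tt N9945 F107829) (tt N11774 F107830) (tt N13765 (iv F138346)) (tt N9901 F107831) (tt N13766 (iv F138353)) (tt N9908 F107832) (tt N9900 (iv D23987)) (tt N9912 F107833) (tt N10406 F107834))
theorem Q11776 : ∀ i, i < 11776 → P i := stepQ 11775 Q11775 (allL N11775 (tt N13725 (iv F138130)) (tt N11015 F133581) (tt N9902 (iv D23988)) (tt N11775 F107835) (tt N10735 F107836) (tt N13523 (iv F137088)) (tt N13768 D29695) (tt N10403 F107837) (tt N10078 F107838) (tt N9905 F107839))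
theorem Q11777 : ∀ i, i < 11777 → P i := stepQ 11776 Q11776 (allL N11776 (tt N13726 (iv F138137)) (tt N9947 F107840) (tt N13768 (iv F138359)) (tt N9903 F107841) (tt N10736 F107842) (tt N13769 D29696) (tt N9902 (iv D23989)) (tt N13770 D29697) (tt N10079 F107843) (tt N9906 F107844))
theorem Q11778 : ∀ i, i < 11778 → P i := stepQ 11777 Q11777 (allL N11777 (tt N13727 (iv F138143)) (tt N9948 F107845) (tt N11777 F107846) (tt N13769 (iv F138365)) (tt N13372 (iv F136238)) (tt N9903 (iv D23990)) (tt N13525 (iv F137102)) (tt N13771 D29698) (tt N13772 D29699) (tt N9907 F107847))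
theorem Q11779 : ∀ i, i < 11779 → P i := stepQ 11778 Q11778 (allL N11778 (tt N13728 (iv F138149)) (tt N9949 F107848) (tt N11778 F107849) (tt N13770 (iv F138368)) (tt N9904 F107850) (tt N13771 (iv F138375)) (tt N10406 F107851) (tt N9903 (iv D23991)) (tt N10081 F107852) (tt N9908 F107853))
theorem Q11780 : ∀ i, i < 11780 → P i := stepQ 11779 Q11779 (allL N11779 (tt N13773 D29700) (tt N9905 (iv D23992)) (tt N9950 F107854) (tt N11779 F107855) (tt N11016 F135014) (tt N13752 (iv F138285)) (tt N13774 D29701) (tt N13762 (iv F138333)) (tt N9913 F107856) (tt N11015 F135015))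
theorem Q11781 : ∀ i, i < 11781 → P i := stepQ 11780 Q11780 (allL N11780 (tt N13730 (iv F138159)) (tt N13774 (iv F138386)) (tt N9906 F107857) (tt N11780 F107858) (tt N13349 (iv F136114)) (tt N13775 D29702) (tt N9905 (iv D23993)) (tt N13776 D29703) (tt N9914 F107859) (tt N13768 (iv F138363)))
theorem Q11782 : ∀ i, i < 11782 → P i := stepQ 11781 Q11781 (allL N11781 (tt N13731 (iv F138163)) (tt N9952 F107860) (tt N13775 (iv F138392)) (tt N9907 F107861) (tt N13777 D29704) (tt N9906 (iv D23994)) (tt N13754 (iv F138293)) (tt N13778 D29705) (tt N13779 D29706) (tt N13769 (iv F138366)))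
theorem Q11783 : ∀ i, i < 11783 → P i := stepQ 11782 Q11782 (allL N11782 (tt N13732 (iv F138166)) (tt N9953 F107862) (tt N13776 (iv F138394)) (tt N9908 F107863) (tt N13351 (iv F136123)) (tt N13778 (iv F138400)) (tt N13765 (iv F138348)) (tt N9906 (iv D23995)) (tt N9916 F107864) (tt N13770 (iv F138372)))
theorem Q11784 : ∀ i, i < 11784 → P i := stepQ 11783 Q11783 (allL N11783 (tt N13733 (iv F138170)) (tt N9954 F107865) (tt N11783 F107866) (tt N13778 (iv F138399)) (tt N13506 (iv F136992)) (tt N9908 F107867) (tt N13780 D29707) (tt N9907 (iv D23996)) (tt N13781 D29708) (tt N13771 (iv F138376)))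
theorem Q11785 : ∀ i, i < 11785 → P i := stepQ 11784 Q11784 (allL N11784 (tt N13734 (iv F138174)) (tt N9955 F107868) (tt N11784 F107869) (tt N13779 (iv F138402)) (tt N13507 (iv F136996)) (tt N9918 F107870) (tt N13757 (iv F138303)) (tt N13781 (iv F138409)) (tt N9907 (iv D23997)) (tt N13782 D29709))
theorem Q11786 : ∀ i, i < 11786 → P i := stepQ 11785 Q11785 (allL N11785 (tt N10206 F133626) (tt N9909 (iv D23998)) (tt N9956 F107871) (tt N11785 F107872) (tt N10914 F107873) (tt N10179 F133627) (tt N13743 (iv F138230)) (tt N9913 F107875) (tt N13762 (iv F138334)) (tt N10087 F107876))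
theorem Q11787 : ∀ i, i < 11787 → P i := stepQ 11786 Q11786 (allL N11786 (tt N13736 (iv F138186)) (tt N13743 (iv F138227)) (tt N9910 F107877) (tt N11786 F107878) (tt N10915 F107879) (tt N13742 (iv F138224)) (tt N9909 (iv D23999)) (tt N13783 D29710) (tt N13763 (iv F138340)) (tt N10088 F107880))
theorem Q11788 : ∀ i, i < 11788 → P i := stepQ 11787 Q11787 (allL N11787 (tt N13737 (iv F138191)) (tt N9958 F107881) (tt N13742 (iv F138222)) (tt N9911 F107882) (tt N13784 D29711) (tt N9910 (iv D24000)) (tt N10200 F107883) (tt N13785 D29712) (tt N13786 D29713) (tt N10089 F107884))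
theorem Q11789 : ∀ i, i < 11789 → P i := stepQ 11788 Q11788 (allL N11788 (tt N13738 (iv F138196)) (tt N9959 F107885) (tt N13783 (iv F138414)) (tt N9912 F107886) (tt N10917 F107887) (tt N13785 (iv F138426)) (tt N9916 F107888) (tt N9910 (iv D24001)) (tt N13765 (iv F138349)) (tt N10090 F107889))
theorem Q11790 : ∀ i, i < 11790 → P i := stepQ 11789 Q11789 (allL N11789 (tt N13739 (iv F138202)) (tt N9960 F107890) (tt N11789 F107891) (tt N13785 (iv F138425)) (tt N11789 F107892) (tt N9912 F107893) (tt N13787 D29714) (tt N9911 (iv D24002)) (tt N13788 D29715) (tt N10091 F107894))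
theorem Q11791 : ∀ i, i < 11791 → P i := stepQ 11790 Q11790 (allL N11790 (tt N13740 (iv F138209)) (tt N9961 F107895) (tt N11790 F107896) (tt N13786 (iv F138429)) (tt N11790 F107897) (tt N13767 (iv F138357)) (tt N10203 F107898) (tt N13788 (iv F138441)) (tt N9911 (iv D24003)) (tt N13789 D29716))
theorem Q11792 : ∀ i, i < 11792 → P i := stepQ 11791 Q11791 (allL N11791 (tt N9913 (iv D24004)) (tt N13741 (iv F138214)) (tt N9962 F107899) (tt N11791 F107900) (tt N10307 F133601) (tt N10204 F107901) (tt N13790 D29717) (tt N10206 F133634) (tt N13773 (iv F138384)) (tt N10093 F107902))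
theorem Q11793 : ∀ i, i < 11793 → P i := stepQ 11792 Q11792 (allL N11792 (tt N13790 (iv F138447)) (tt N9914 F107903) (tt N9963 F107904) (tt N11792 F107905) (tt N10953 F134955) (tt N13791 D29718) (tt N9913 (iv D24005)) (tt N13792 D29719) (tt N13774 (iv F138390)) (tt N10094 F107906))
theorem Q11794 : ∀ i, i < 11794 → P i := stepQ 11793 Q11793 (allL N11793 (tt N13743 (iv F138226)) (tt N13791 (iv F138452)) (tt N9915 F107907) (tt N11793 F107908) (tt N13793 D29720) (tt N9914 (iv D24006)) (tt N10206 F107909) (tt N13794 D29721) (tt N13795 D29722) (tt N10095 F107910))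
theorem Q11795 : ∀ i, i < 11795 → P i := stepQ 11794 Q11794 (allL N11794 (tt N13744 (iv F138233)) (tt N13792 (iv F138457)) (tt N9916 F107911) (tt N11794 F107912) (tt N13355 (iv F136145)) (tt N13794 (iv F138469)) (tt N13783 (iv F138417)) (tt N9914 (iv D24007)) (tt N13776 (iv F138396)) (tt N10096 F107913))
theorem Q11796 : ∀ i, i < 11796 → P i := stepQ 11795 Q11795 (allL N11795 (tt N10929 F133604) (tt N9966 F107914) (tt N13793 (iv F138463)) (tt N9920 F107915) (tt N9915 (iv D24008)) (tt N13356 (iv F136151)) (tt N10207 F107916) (tt N13796 D29723) (tt N13797 D29724) (tt N10097 F107917))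
theorem Q11797 : ∀ i, i < 11797 → P i := stepQ 11796 Q11796 (allL N11796 (tt N13745 (iv F138237)) (tt N9967 F107918) (tt N13794 (iv F138467)) (tt N9917 F107919) (tt N13796 (iv F138477)) (tt N9916 F107920) (tt N13798 D29725) (tt N9915 (iv D24009)) (tt N13799 D29726) (tt N10098 F107921))
theorem Q11798 : ∀ i, i < 11798 → P i := stepQ 11797 Q11797 (allL N11797 (tt N13746 (iv F138244)) (tt N9968 F107922) (tt N13795 (iv F138471)) (tt N9918 F107923) (tt N13797 (iv F138483)) (tt N13779 (iv F138403)) (tt N10208 F107924) (tt N13799 (iv F138494)) (tt N9915 (iv D24010)) (tt N13800 D29727))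
theorem Q11799 : ∀ i, i < 11799 → P i := stepQ 11798 Q11798 (allL N11798 (tt N10027 F133611) (tt N9969 F107925) (tt N11798 F107926) (tt N13798 (iv F138488)) (tt N9923 F107927) (tt N13787 (iv F138435)) (tt N9917 (iv D24011)) (tt N10025 F133612) (tt N13801 D29728) (tt N10100 F107929))
theorem Q11800 : ∀ i, i < 11800 → P i := stepQ 11799 Q11799 (allL N11799 (tt N13747 (iv F138250)) (tt N9970 F107930) (tt N11799 F107931) (tt N13799 (iv F138493)) (tt N9924 F107932) (tt N13781 (iv F138408)) (tt N13801 (iv F138505)) (tt N9918 F107933) (tt N9917 (iv D24012)) (tt N13802 D29729))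
theorem Q11801 : ∀ i, i < 11801 → P i := stepQ 11800 Q11800 (allL N11800 (tt N10453 F133623) (tt N9971 F107934) (tt N11800 F107935) (tt N13800 (iv F138497)) (tt N9925 F107936) (tt N13782 (iv F138413)) (tt N10209 F107937) (tt N13802 (iv F138513)) (tt N10102 F107938) (tt N9918 (iv D24013)))
theorem Q11802 : ∀ i, i < 11802 → P i := stepQ 11801 Q11801 (allL N11801 (tt N10956 F133721) (tt N9972 F107954) (tt N10163 (iv F134412)) (tt N13796 (iv F138476)) (tt N9921 F107955) (tt N13363 (iv F136188)) (tt N10134 F133722) (tt N9920 (iv D24017)) (tt N13803 D29730) (tt N10103 F107956))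
theorem Q11803 : ∀ i, i < 11803 → P i := stepQ 11802 Q11802 (allL N11802 (tt N10854 F133719) (tt N9973 F107957) (tt N10285 F133727) (tt N13797 (iv F138482)) (tt N9922 F107958) (tt N13804 D29731) (tt N10210 F107959) (tt N13803 (iv F138520)) (tt N9920 (iv D24018)) (tt N10252 F133728))
theorem Q11804 : ∀ i, i < 11804 → P i := stepQ 11803 Q11803 (allL N11803 (tt N10818 F133723) (tt N9975 F107965) (tt N10036 F133724) (tt N9924 F107966) (tt N13803 (iv F138518)) (tt N13520 (iv F137070)) (tt N9978 F133725) (tt N9922 F107967) (tt N9921 (iv D24020)) (tt N9977 F133726))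
theorem Q11805 : ∀ i, i < 11805 → P i := stepQ 11804 Q11804 (allL N11804 (tt N10057 F133737) (tt N9977 F107972) (tt N11804 F107973) (tt N9978 F133743) (tt N13801 (iv F138504)) (tt N13596 (iv F137461)) (tt N9924 F107974) (tt N9976 F133744) (tt N9923 (iv D24022)) (tt N9975 F133745))
theorem Q11806 : ∀ i, i < 11806 → P i := stepQ 11805 Q11805 (allL N11805 (tt N10474 F133738) (tt N9978 F107976) (tt N11805 F107977) (tt N9977 F133740) (tt N13802 (iv F138511)) (tt N13522 (iv F137081)) (tt N9975 F133741) (tt N9925 F107978) (tt N9974 F133742) (tt N9924 (iv D24023)))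
theorem Q11807 : ∀ i, i < 11807 → P i := stepQ 11806 Q11806 (allL N11806 (tt N10761 F107980) (tt N13805 D29732) (tt N9926 (iv D24024)) (tt N11806 F107981) (tt N9935 F107982) (tt N13370 (iv F136224)) (tt N13806 D29733) (tt N13486 (iv F136870)) (tt N10211 F107983) (tt N13499 (iv F136957)))
theorem Q11808 : ∀ i, i < 11808 → P i := stepQ 11807 Q11807 (allL N11807 (tt N10762 F107984) (tt N13532 (iv F137145)) (tt N13806 (iv F138532)) (tt N9927 F107985) (tt N9936 F107986) (tt N13807 D29734) (tt N9926 (iv D24025)) (tt N13808 D29735) (tt N10212 F107987) (tt N13500 (iv F136964)))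
theorem Q11809 : ∀ i, i < 11809 → P i := stepQ 11808 Q11808 (allL N11808 (tt N10763 F107988) (tt N13533 (iv F137151)) (tt N11808 F107989) (tt N13807 (iv F138537)) (tt N13525 (iv F137101)) (tt N9927 (iv D24026)) (tt N13372 (iv F136239)) (tt N13809 D29736) (tt N13810 D29737) (tt N13501 (iv F136970)))
theorem Q11810 : ∀ i, i < 11810 → P i := stepQ 11809 Q11809 (allL N11809 (tt N10764 F107990) (tt N13534 (iv F137157)) (tt N11809 F107991) (tt N13808 (iv F138539)) (tt N9928 F107992) (tt N13809 (iv F138544)) (tt N13489 (iv F136889)) (tt N9927 (iv D24027)) (tt N10214 F107993) (tt N13502 (iv F136977)))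
theorem Q11811 : ∀ i, i < 11811 → P i := stepQ 11810 Q11810 (allL N11810 (tt N10765 F107994) (tt N13811 D29738) (tt N9929 (iv D24028)) (tt N9982 F107995) (tt N13486 (iv F136868)) (tt N9942 F107996) (tt N13812 D29739) (tt N9935 F107997) (tt N10215 F107998) (tt N10421 F107999))
theorem Q11812 : ∀ i, i < 11812 → P i := stepQ 11811 Q11811 (allL N11811 (tt N10766 F108000) (tt N13749 (iv F138265)) (tt N13812 (iv F138555)) (tt N9930 F108001) (tt N13487 (iv F136876)) (tt N13813 D29740) (tt N9929 (iv D24029)) (tt N13814 D29741) (tt N10216 F108002) (tt N10422 F108003))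
theorem Q11813 : ∀ i, i < 11813 → P i := stepQ 11812 Q11812 (allL N11812 (tt N10767 F108004) (tt N13750 (iv F138271)) (tt N9984 F108005) (tt N13813 (iv F138560)) (tt N13337 (iv F136040)) (tt N9930 (iv D24030)) (tt N9944 F108006) (tt N13815 D29742) (tt N13816 D29743) (tt N10423 F108007))
theorem Q11814 : ∀ i, i < 11814 → P i := stepQ 11813 Q11813 (allL N11813 (tt N10768 F108008) (tt N13751 (iv F138277)) (tt N9985 F108009) (tt N13814 (iv F138564)) (tt N9931 F108010) (tt N13815 (iv F138570)) (tt N9938 F108011) (tt N9930 (iv D24031)) (tt N10218 F108012) (tt N10424 F108013))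
theorem Q11815 : ∀ i, i < 11815 → P i := stepQ 11814 Q11814 (allL N11814 (tt N10769 F108014) (tt N11017 F134695) (tt N9932 (iv D24032)) (tt N9986 F108015) (tt N13499 (iv F136953)) (tt N9946 F108016) (tt N13817 D29744) (tt N10421 F108017) (tt N11814 F108018) (tt N9935 F108019))
theorem Q11816 : ∀ i, i < 11816 → P i := stepQ 11815 Q11815 (allL N11815 (tt N10770 F108020) (tt N13524 (iv F137093)) (tt N13817 (iv F138578)) (tt N9933 F108021) (tt N13500 (iv F136962)) (tt N13818 D29745) (tt N9932 (iv D24033)) (tt N13819 D29746) (tt N11815 F108022) (tt N9936 F108023))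
theorem Q11817 : ∀ i, i < 11817 → P i := stepQ 11816 Q11816 (allL N11816 (tt N10771 F108024) (tt N13525 (iv F137099)) (tt N9988 F108025) (tt N13818 (iv F138583)) (tt N13533 (iv F137153)) (tt N9933 (iv D24034)) (tt N9948 F108026) (tt N13820 D29747) (tt N13821 D29748) (tt N9937 F108027))
theorem Q11818 : ∀ i, i < 11818 → P i := stepQ 11817 Q11817 (allL N11817 (tt N10772 F108028) (tt N13526 (iv F137105)) (tt N9989 F108029) (tt N13819 (iv F138587)) (tt N9934 F108030) (tt N13820 (iv F138593)) (tt N10424 F108031) (tt N9933 (iv D24035)) (tt N11817 F108032) (tt N9938 F108033))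
theorem Q11819 : ∀ i, i < 11819 → P i := stepQ 11818 Q11818 (allL N11818 (tt N13822 D29749) (tt N9935 (iv D24036)) (tt N13752 (iv F138283)) (tt N9990 F108034) (tt N13805 (iv F138527)) (tt N9950 F108035) (tt N13823 D29750) (tt N13811 (iv F138551)) (tt N10219 F108036) (tt N11017 F135016))
theorem Q11820 : ∀ i, i < 11820 → P i := stepQ 11819 Q11819 (allL N11819 (tt N10774 F108037) (tt N13823 (iv F138605)) (tt N9936 F108038) (tt N9991 F108039) (tt N13806 (iv F138534)) (tt N13824 D29751) (tt N9935 (iv D24037)) (tt N13825 D29752) (tt N10220 F108040) (tt N13817 (iv F138581)))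
theorem Q11821 : ∀ i, i < 11821 → P i := stepQ 11820 Q11820 (allL N11820 (tt N10775 F108041) (tt N13754 (iv F138291)) (tt N13824 (iv F138610)) (tt N9937 F108042) (tt N13826 D29753) (tt N9936 (iv D24038)) (tt N9952 F108043) (tt N13827 D29754) (tt N13828 D29755) (tt N13818 (iv F138585)))
theorem Q11822 : ∀ i, i < 11822 → P i := stepQ 11821 Q11821 (allL N11821 (tt N10776 F108044) (tt N13755 (iv F138294)) (tt N13825 (iv F138614)) (tt N9938 F108045) (tt N13808 (iv F138540)) (tt N13827 (iv F138621)) (tt N13814 (iv F138565)) (tt N9936 (iv D24039)) (tt N10222 F108046) (tt N13819 (iv F138590)))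
theorem Q11823 : ∀ i, i < 11823 → P i := stepQ 11822 Q11822 (allL N11822 (tt N10777 F108047) (tt N13756 (iv F138297)) (tt N9994 F108048) (tt N13827 (iv F138620)) (tt N13539 (iv F137180)) (tt N9938 F108049) (tt N13829 D29756) (tt N9937 (iv D24040)) (tt N13830 D29757) (tt N13820 (iv F138594)))
theorem Q11824 : ∀ i, i < 11824 → P i := stepQ 11823 Q11823 (allL N11823 (tt N10778 F108050) (tt N13757 (iv F138300)) (tt N9995 F108051) (tt N13828 (iv F138623)) (tt N13540 (iv F137184)) (tt N10224 F108052) (tt N9955 F108053) (tt N13830 (iv F138632)) (tt N9937 (iv D24041)) (tt N13831 D29758))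
theorem Q11825 : ∀ i, i < 11825 → P i := stepQ 11824 Q11824 (allL N11824 (tt N10779 F108054) (tt N13832 D29759) (tt N9939 (iv D24042)) (tt N9996 F108055) (tt N10580 F108056) (tt N13335 (iv F136027)) (tt N13833 D29760) (tt N13541 (iv F137191)) (tt N11824 F108057) (tt N10339 F108058))
theorem Q11826 : ∀ i, i < 11826 → P i := stepQ 11825 Q11825 (allL N11825 (tt N10780 F108059) (tt N13759 (iv F138312)) (tt N13833 (iv F138642)) (tt N9940 F108060) (tt N10581 F108061) (tt N13834 D29761) (tt N9939 (iv D24043)) (tt N13835 D29762) (tt N11825 F108062) (tt N10340 F108063))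
theorem Q11827 : ∀ i, i < 11827 → P i := stepQ 11826 Q11826 (allL N11826 (tt N10781 F108064) (tt N13760 (iv F138318)) (tt N9998 F108065) (tt N13834 (iv F138648)) (tt N9944 F108066) (tt N9940 (iv D24044)) (tt N13337 (iv F136041)) (tt N13836 D29763) (tt N13837 D29764) (tt N10341 F108067))
theorem Q11828 : ∀ i, i < 11828 → P i := stepQ 11827 Q11827 (allL N11827 (tt N10782 F108068) (tt N13761 (iv F138324)) (tt N9999 F108069) (tt N13835 (iv F138651)) (tt N9941 F108070) (tt N13836 (iv F138658)) (tt N13544 (iv F137210)) (tt N9940 (iv D24045)) (tt N11827 F108071) (tt N10342 F108072))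
theorem Q11829 : ∀ i, i < 11829 → P i := stepQ 11828 Q11828 (allL N11828 (tt N10208 F133630) (tt N9942 (iv D24046)) (tt N13762 (iv F138330)) (tt N10000 F108073) (tt N10787 F108074) (tt N13811 (iv F138550)) (tt N13746 (iv F138248)) (tt N9950 F108075) (tt N9956 F108076) (tt N10425 F108077))
theorem Q11830 : ∀ i, i < 11830 → P i := stepQ 11829 Q11829 (allL N11829 (tt N10756 F134718) (tt N13746 (iv F138245)) (tt N9943 F108079) (tt N10001 F108080) (tt N10788 F108081) (tt N13838 D29765) (tt N9942 (iv D24047)) (tt N13839 D29766) (tt N9957 F108082) (tt N10426 F108083))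
theorem Q11831 : ∀ i, i < 11831 → P i := stepQ 11830 Q11830 (allL N11830 (tt N10783 F108084) (tt N13764 (iv F138342)) (tt N13838 (iv F138665)) (tt N9944 F108085) (tt N13840 D29767) (tt N9943 (iv D24048)) (tt N13813 (iv F138561)) (tt N13841 D29768) (tt N13842 D29769) (tt N10427 F108086))
theorem Q11832 : ∀ i, i < 11832 → P i := stepQ 11831 Q11831 (allL N11831 (tt N10784 F108087) (tt N13765 (iv F138345)) (tt N13839 (iv F138670)) (tt N9945 F108088) (tt N10790 F108089) (tt N13841 (iv F138681)) (tt N9953 F108090) (tt N9943 (iv D24049)) (tt N9959 F108091) (tt N10428 F108092))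
theorem Q11833 : ∀ i, i < 11833 → P i := stepQ 11832 Q11832 (allL N11832 (tt N10785 F108093) (tt N13766 (iv F138351)) (tt N10004 F108094) (tt N13841 (iv F138680)) (tt N13836 (iv F138657)) (tt N9945 F108095) (tt N13843 D29770) (tt N9944 (iv D24050)) (tt N13844 D29771) (tt N10429 F108096))
theorem Q11834 : ∀ i, i < 11834 → P i := stepQ 11833 Q11833 (allL N11833 (tt N10786 F108097) (tt N13767 (iv F138355)) (tt N10005 F108098) (tt N13842 (iv F138685)) (tt N13837 (iv F138662)) (tt N9961 F108099) (tt N13816 (iv F138575)) (tt N13844 (iv F138694)) (tt N9944 (iv D24051)) (tt N13845 D29772))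
theorem Q11835 : ∀ i, i < 11835 → P i := stepQ 11834 Q11834 (allL N11834 (tt N10788 F108105) (tt N10810 F134696) (tt N9947 F108106) (tt N10006 F108107) (tt N10756 F134697) (tt N13846 D29773) (tt N9946 (iv D24053)) (tt N13847 D29774) (tt N10104 F108109) (tt N9951 F108110))
theorem Q11836 : ∀ i, i < 11836 → P i := stepQ 11835 Q11835 (allL N11835 (tt N10789 F108111) (tt N13769 (iv F138364)) (tt N13846 (iv F138701)) (tt N9948 F108112) (tt N13848 D29775) (tt N9947 (iv D24054)) (tt N13818 (iv F138584)) (tt N13849 D29776) (tt N13850 D29777) (tt N9952 F108113))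
theorem Q11837 : ∀ i, i < 11837 → P i := stepQ 11836 Q11836 (allL N11836 (tt N10790 F108114) (tt N13770 (iv F138367)) (tt N13847 (iv F138706)) (tt N9949 F108115) (tt N10784 F108116) (tt N13849 (iv F138717)) (tt N10428 F108117) (tt N9947 (iv D24055)) (tt N10106 F108118) (tt N9953 F108119))
theorem Q11838 : ∀ i, i < 11838 → P i := stepQ 11837 Q11837 (allL N11837 (tt N10791 F108120) (tt N13771 (iv F138373)) (tt N10009 F108121) (tt N13849 (iv F138716)) (tt N13559 (iv F137287)) (tt N9949 F108122) (tt N13851 D29778) (tt N9948 (iv D24056)) (tt N13852 D29779) (tt N9954 F108123))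
theorem Q11839 : ∀ i, i < 11839 → P i := stepQ 11838 Q11838 (allL N11838 (tt N10792 F108124) (tt N13772 (iv F138377)) (tt N10010 F108125) (tt N13850 (iv F138720)) (tt N13560 (iv F137292)) (tt N10108 F108126) (tt N13821 (iv F138598)) (tt N13852 (iv F138729)) (tt N9948 (iv D24057)) (tt N13853 D29780))
theorem Q11840 : ∀ i, i < 11840 → P i := stepQ 11839 Q11839 (allL N11839 (tt N9950 (iv D24058)) (tt N10250 (iv F134116)) (tt N13773 (iv F138380)) (tt N10011 F108128) (tt N10251 F133639) (tt N13822 (iv F138601)) (tt N13854 D29781) (tt N10208 F133643) (tt N9962 F108129) (tt N10248 F133640))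
theorem Q11841 : ∀ i, i < 11841 → P i := stepQ 11840 Q11840 (allL N11840 (tt N13854 (iv F138734)) (tt N9951 F108130) (tt N13774 (iv F138387)) (tt N10012 F108131) (tt N10812 F134961) (tt N13855 D29782) (tt N9950 (iv D24059)) (tt N13856 D29783) (tt N9963 F108132) (tt N10810 F134962))
theorem Q11842 : ∀ i, i < 11842 → P i := stepQ 11841 Q11841 (allL N11841 (tt N10794 F108133) (tt N13855 (iv F138740)) (tt N9952 F108134) (tt N10013 F108135) (tt N13857 D29784) (tt N9951 (iv D24060)) (tt N13824 (iv F138612)) (tt N13858 D29785) (tt N13859 D29786) (tt N13846 (iv F138703)))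
theorem Q11843 : ∀ i, i < 11843 → P i := stepQ 11842 Q11842 (allL N11842 (tt N10795 F108136) (tt N13856 (iv F138743)) (tt N9953 F108137) (tt N10014 F108138) (tt N13380 (iv F136286)) (tt N13858 (iv F138753)) (tt N13839 (iv F138673)) (tt N9951 (iv D24061)) (tt N9965 F108139) (tt N13847 (iv F138711)))
theorem Q11844 : ∀ i, i < 11844 → P i := stepQ 11843 Q11843 (allL N11843 (tt N10796 F108140) (tt N13777 (iv F138397)) (tt N13857 (iv F138749)) (tt N13565 (iv F137312)) (tt N9952 (iv D24062)) (tt N13381 (iv F136291)) (tt N13826 (iv F138618)) (tt N13860 D29787) (tt N13861 D29788) (tt N13848 (iv F138714)))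
theorem Q11845 : ∀ i, i < 11845 → P i := stepQ 11844 Q11844 (allL N11844 (tt N10797 F108141) (tt N13778 (iv F138398)) (tt N13858 (iv F138751)) (tt N9954 F108142) (tt N13860 (iv F138759)) (tt N9953 F108143) (tt N13862 D29789) (tt N9952 (iv D24063)) (tt N13863 D29790) (tt N13849 (iv F138718)))
theorem Q11846 : ∀ i, i < 11846 → P i := stepQ 11845 Q11845 (allL N11845 (tt N10798 F108144) (tt N13779 (iv F138401)) (tt N13859 (iv F138755)) (tt N9955 F108145) (tt N13861 (iv F138761)) (tt N9968 F108146) (tt N13828 (iv F138625)) (tt N13863 (iv F138767)) (tt N9952 (iv D24064)) (tt N13864 D29791))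
theorem Q11847 : ∀ i, i < 11847 → P i := stepQ 11846 Q11846 (allL N11846 (tt N10799 F108147) (tt N13780 (iv F138404)) (tt N10018 F108148) (tt N13862 (iv F138763)) (tt N13568 (iv F137321)) (tt N13843 (iv F138689)) (tt N9954 (iv D24065)) (tt N13829 (iv F138628)) (tt N13865 D29792) (tt N13851 (iv F138725)))
theorem Q11848 : ∀ i, i < 11848 → P i := stepQ 11847 Q11847 (allL N11847 (tt N10800 F108149) (tt N13781 (iv F138406)) (tt N10019 F108150) (tt N13863 (iv F138765)) (tt N13569 (iv F137324)) (tt N9970 F108151) (tt N13865 (iv F138773)) (tt N9955 F108152) (tt N9954 (iv D24066)) (tt N13866 D29793))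
theorem Q11849 : ∀ i, i < 11849 → P i := stepQ 11848 Q11848 (allL N11848 (tt N10801 F108153) (tt N13782 (iv F138411)) (tt N10020 F108154) (tt N13864 (iv F138769)) (tt N13570 (iv F137329)) (tt N9971 F108155) (tt N13831 (iv F138636)) (tt N13866 (iv F138777)) (tt N13853 (iv F138733)) (tt N9955 (iv D24067)))
theorem Q11850 : ∀ i, i < 11850 → P i := stepQ 11849 Q11849 (allL N11849 (tt N10755 F134788) (tt N13745 (iv F138238)) (tt N9959 F108172) (tt N10021 F108173) (tt N10931 F108174) (tt N10730 F134789) (tt N9965 F108175) (tt N9957 (iv D24071)) (tt N13839 (iv F138674)) (tt N10117 F108176))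
theorem Q11851 : ∀ i, i < 11851 → P i := stepQ 11850 Q11850 (allL N11850 (tt N10408 F134825) (tt N13784 (iv F138419)) (tt N10393 F134826) (tt N11850 F108178) (tt N9958 (iv D24072)) (tt N10932 F108179) (tt N10237 F108180) (tt N13867 D29794) (tt N13868 D29795) (tt N10118 F108181))
theorem Q11852 : ∀ i, i < 11852 → P i := stepQ 11851 Q11851 (allL N11851 (tt N10754 F134829) (tt N13785 (iv F138424)) (tt N10730 F134830) (tt N9960 F108183) (tt N13867 (iv F138781)) (tt N9959 F108184) (tt N13869 D29796) (tt N9958 (iv D24073)) (tt N13870 D29797) (tt N10119 F108185))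
theorem Q11853 : ∀ i, i < 11853 → P i := stepQ 11852 Q11852 (allL N11852 (tt N10744 F134831) (tt N13786 (iv F138428)) (tt N10725 F134832) (tt N9961 F108187) (tt N13868 (iv F138787)) (tt N13842 (iv F138686)) (tt N10239 F108188) (tt N13870 (iv F138798)) (tt N9958 (iv D24074)) (tt N13871 D29798))
theorem Q11854 : ∀ i, i < 11854 → P i := stepQ 11853 Q11853 (allL N11853 (tt N10802 F108189) (tt N13787 (iv F138432)) (tt N10022 F108190) (tt N13869 (iv F138791)) (tt N11853 F108191) (tt N9969 F108192) (tt N9960 (iv D24075)) (tt N10240 F108193) (tt N13872 D29799) (tt N10121 F108194))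
theorem Q11855 : ∀ i, i < 11855 → P i := stepQ 11854 Q11854 (allL N11854 (tt N10803 F108195) (tt N13788 (iv F138438)) (tt N10023 F108196) (tt N13870 (iv F138797)) (tt N11854 F108197) (tt N13844 (iv F138693)) (tt N13872 (iv F138807)) (tt N9961 F108198) (tt N9960 (iv D24076)) (tt N13873 D29800))
theorem Q11856 : ∀ i, i < 11856 → P i := stepQ 11855 Q11855 (allL N11855 (tt N10804 F108199) (tt N13789 (iv F138442)) (tt N10024 F108200) (tt N13871 (iv F138801)) (tt N11855 F108201) (tt N13845 (iv F138697)) (tt N10242 F108202) (tt N13873 (iv F138812)) (tt N10123 F108203) (tt N9961 (iv D24077)))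
theorem Q11857 : ∀ i, i < 11857 → P i := stepQ 11856 Q11856 (allL N11856 (tt N9963 F108204) (tt N10249 (iv F134114)) (tt N13790 (iv F138448)) (tt N10025 F108206) (tt N10133 F133638) (tt N13874 D29801) (tt N9962 (iv D24078)) (tt N13798 (iv F138490)) (tt N13854 (iv F138738)) (tt N10124 F108207))
theorem Q11858 : ∀ i, i < 11858 → P i := stepQ 11857 Q11857 (allL N11857 (tt N13874 (iv F138814)) (tt N9964 F108208) (tt N13791 (iv F138453)) (tt N10026 F108209) (tt N13875 D29802) (tt N9963 (iv D24079)) (tt N10243 F108210) (tt N13876 D29803) (tt N13877 D29804) (tt N10125 F108211))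
theorem Q11859 : ∀ i, i < 11859 → P i := stepQ 11858 Q11858 (allL N11858 (tt N13798 (iv F138486)) (tt N9965 F108212) (tt N13792 (iv F138458)) (tt N10027 F108213) (tt N10954 F134960) (tt N13876 (iv F138826)) (tt N13745 (iv F138242)) (tt N9963 (iv D24080)) (tt N13856 (iv F138746)) (tt N10126 F108214))
theorem Q11860 : ∀ i, i < 11860 → P i := stepQ 11859 Q11859 (allL N11859 (tt N10806 F108215) (tt N13875 (iv F138819)) (tt N9966 F108216) (tt N11859 F108217) (tt N9964 (iv D24081)) (tt N13387 (iv F136316)) (tt N10244 F108218) (tt N13878 D29805) (tt N13879 D29806) (tt N10127 F108219))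
theorem Q11861 : ∀ i, i < 11861 → P i := stepQ 11860 Q11860 (allL N11860 (tt N10807 F108220) (tt N13876 (iv F138824)) (tt N9967 F108221) (tt N10028 F108222) (tt N13878 (iv F138834)) (tt N9965 F108223) (tt N13880 D29807) (tt N9964 (iv D24082)) (tt N13881 D29808) (tt N10128 F108224))
theorem Q11862 : ∀ i, i < 11862 → P i := stepQ 11861 Q11861 (allL N11861 (tt N10808 F108225) (tt N13877 (iv F138828)) (tt N9968 F108226) (tt N10029 F108227) (tt N13879 (iv F138839)) (tt N13859 (iv F138757)) (tt N10246 F108228) (tt N13881 (iv F138850)) (tt N9964 (iv D24083)) (tt N13882 D29809))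
theorem Q11863 : ∀ i, i < 11863 → P i := stepQ 11862 Q11862 (allL N11862 (tt N10809 F108229) (tt N13796 (iv F138475)) (tt N13878 (iv F138832)) (tt N9972 F108230) (tt N9967 F108231) (tt N13390 (iv F136334)) (tt N13883 D29810) (tt N9966 (iv D24084)) (tt N13884 D29811) (tt N10130 F108232))
theorem Q11864 : ∀ i, i < 11864 → P i := stepQ 11863 Q11863 (allL N11863 (tt N10810 F108233) (tt N13797 (iv F138481)) (tt N13879 (iv F138837)) (tt N9973 F108234) (tt N9968 F108235) (tt N13885 D29812) (tt N10248 F108236) (tt N13884 (iv F138865)) (tt N9966 (iv D24085)) (tt N13854 (iv F138739)))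
theorem Q11865 : ∀ i, i < 11865 → P i := stepQ 11864 Q11864 (allL N11864 (tt N10805 F134767) (tt N13798 (iv F138487)) (tt N13880 (iv F138842)) (tt N9969 F108238) (tt N13883 (iv F138859)) (tt N13869 (iv F138792)) (tt N9967 (iv D24086)) (tt N10249 F108239) (tt N13886 D29813) (tt N10131 F108240))
theorem Q11866 : ∀ i, i < 11866 → P i := stepQ 11865 Q11865 (allL N11865 (tt N10811 F108241) (tt N13799 (iv F138492)) (tt N13881 (iv F138848)) (tt N9970 F108242) (tt N13884 (iv F138864)) (tt N13863 (iv F138766)) (tt N13886 (iv F138870)) (tt N9968 F108243) (tt N9967 (iv D24087)) (tt N13887 D29814))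
theorem Q11867 : ∀ i, i < 11867 → P i := stepQ 11866 Q11866 (allL N11866 (tt N10812 F108244) (tt N13800 (iv F138496)) (tt N13882 (iv F138852)) (tt N9971 F108245) (tt N13854 (iv F138737)) (tt N13864 (iv F138770)) (tt N10251 F108246) (tt N13887 (iv F138874)) (tt N10133 F108247) (tt N9968 (iv D24088)))
theorem Q11868 : ∀ i, i < 11868 → P i := stepQ 11867 Q11867 (allL N11867 (tt N10813 F108248) (tt N13801 (iv F138502)) (tt N10033 F108249) (tt N13886 (iv F138869)) (tt N9977 F108250) (tt N13888 D29815) (tt N9970 F108251) (tt N10252 F108252) (tt N9969 (iv D24089)) (tt N13803 (iv F138521)))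
theorem Q11869 : ∀ i, i < 11869 → P i := stepQ 11868 Q11868 (allL N11868 (tt N10814 F108253) (tt N13802 (iv F138509)) (tt N10034 F108254) (tt N13887 (iv F138873)) (tt N9978 F108255) (tt N13866 (iv F138776)) (tt N13803 (iv F138519)) (tt N9971 F108256) (tt N10134 F108257) (tt N9970 (iv D24090)))
theorem Q11870 : ∀ i, i < 11870 → P i := stepQ 11869 Q11869 (allL N11869 (tt N10463 (iv F134066)) (tt N10134 F133620) (tt N11869 F108259) (tt N13883 (iv F138858)) (tt N9974 F108260) (tt N13889 D29816) (tt N9972 (iv D24091)) (tt N10102 F133621) (tt N13802 (iv F138514)) (tt N10101 F133622))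
theorem Q11871 : ∀ i, i < 11871 → P i := stepQ 11870 Q11870 (allL N11870 (tt N10815 F108263) (tt N13803 (iv F138516)) (tt N11870 F108264) (tt N13884 (iv F138863)) (tt N9975 F108265) (tt N13890 D29817) (tt N13802 (iv F138512)) (tt N9973 F108266) (tt N9972 (iv D24092)) (tt N13801 (iv F138507)))
theorem Q11872 : ∀ i, i < 11872 → P i := stepQ 11871 Q11871 (allL N11871 (tt N10816 F108267) (tt N13804 (iv F138523)) (tt N11871 F108268) (tt N13885 (iv F138867)) (tt N13593 (iv F137445)) (tt N9973 (iv D24093)) (tt N13891 D29818) (tt N13890 (iv F138887)) (tt N13399 (iv F136374)) (tt N13892 D29819))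
theorem Q11873 : ∀ i, i < 11873 → P i := stepQ 11872 Q11872 (allL N11872 (tt N10012 (iv F134329)) (tt N10252 F133657) (tt N11872 F108270) (tt N13854 (iv F138736)) (tt N9976 F108271) (tt N13892 (iv F138894)) (tt N10011 F133652) (tt N13801 (iv F138506)) (tt N10025 F133653) (tt N9973 (iv D24094)))
theorem Q11874 : ∀ i, i < 11874 → P i := stepQ 11873 Q11873 (allL N11873 (tt N10817 F108284) (tt N13596 (iv F137458)) (tt N10035 F108285) (tt N13522 (iv F137080)) (tt N13893 D29820) (tt N9977 (iv D24097)) (tt N13597 (iv F137466)) (tt N10254 F108286) (tt N11873 F108287) (tt N13520 F137072))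
theorem Q11875 : ∀ i, i < 11875 → P i := stepQ 11874 Q11874 (allL N11874 (tt N10819 F108293) (tt N13894 D29821) (tt N9979 (iv D24099)) (tt N13335 (iv F136025)) (tt N11874 F108294) (tt N9996 F108295) (tt N13895 D29822) (tt N10242 (iv F134451)) (tt N10303 F133799) (tt N10241 F133800))
theorem Q11876 : ∀ i, i < 11876 → P i := stepQ 11875 Q11875 (allL N11875 (tt N10820 F108299) (tt N11875 F108300) (tt N13895 (iv F138907)) (tt N9980 F108301) (tt N11875 F108302) (tt N13896 D29823) (tt N9979 (iv D24100)) (tt N13897 D29824) (tt N10309 F135058) (tt N10277 F135059))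
theorem Q11877 : ∀ i, i < 11877 → P i := stepQ 11876 Q11876 (allL N11876 (tt N10821 F108305) (tt N11876 F108306) (tt N13337 (iv F136039)) (tt N13896 (iv F138913)) (tt N9984 F108307) (tt N9980 (iv D24101)) (tt N9998 F108308) (tt N13898 D29825) (tt N13899 D29826) (tt N10357 F108309))
theorem Q11878 : ∀ i, i < 11878 → P i := stepQ 11877 Q11877 (allL N11877 (tt N10822 F108310) (tt N11877 F108311) (tt N13338 (iv F136045)) (tt N13897 (iv F138918)) (tt N9981 F108312) (tt N13898 (iv F138926)) (tt N11231 F108313) (tt N9980 (iv D24102)) (tt N11321 F108314) (tt N10358 F108315))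
theorem Q11879 : ∀ i, i < 11879 → P i := stepQ 11878 Q11878 (allL N11878 (tt N10199 F133648) (tt N9982 (iv D24103)) (tt N11878 F108316) (tt N13811 (iv F138549)) (tt N11878 F108317) (tt N10000 F108318) (tt N13900 D29827) (tt N9990 F108319) (tt N10174 F133649) (tt N10447 F108321))
theorem Q11880 : ∀ i, i < 11880 → P i := stepQ 11879 Q11879 (allL N11879 (tt N10823 F108322) (tt N13900 (iv F138934)) (tt N9983 F108323) (tt N13812 (iv F138556)) (tt N11879 F108324) (tt N13901 D29828) (tt N9982 (iv D24104)) (tt N13902 D29829) (tt N10256 F108325) (tt N10448 F108326))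
theorem Q11881 : ∀ i, i < 11881 → P i := stepQ 11880 Q11880 (allL N11880 (tt N10824 F108327) (tt N11880 F108328) (tt N13901 (iv F138940)) (tt N9984 F108329) (tt N13632 (iv F137651)) (tt N9983 (iv D24105)) (tt N10002 F108330) (tt N13903 D29830) (tt N10359 F135407) (tt N10449 F108331))
theorem Q11882 : ∀ i, i < 11882 → P i := stepQ 11881 Q11881 (allL N11881 (tt N10825 F108332) (tt N11881 F108333) (tt N13902 (iv F138945)) (tt N9985 F108334) (tt N11881 F108335) (tt N13903 (iv F138953)) (tt N9993 F108336) (tt N9983 (iv D24106)) (tt N10257 F108337) (tt N10450 F108338))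
theorem Q11883 : ∀ i, i < 11883 → P i := stepQ 11882 Q11882 (allL N11882 (tt N10826 F108339) (tt N11882 F108340) (tt N13815 (iv F138569)) (tt N13903 (iv F138952)) (tt N13898 (iv F138925)) (tt N9985 F108341) (tt N13904 D29831) (tt N9984 (iv D24107)) (tt N13905 D29832) (tt N10451 F108342))
theorem Q11884 : ∀ i, i < 11884 → P i := stepQ 11883 Q11883 (allL N11883 (tt N10827 F108343) (tt N11883 F108344) (tt N13816 (iv F138573)) (tt N10359 F135399) (tt N13899 (iv F138930)) (tt N10259 F108345) (tt N10005 F108346) (tt N13905 (iv F138965)) (tt N9984 (iv D24108)) (tt N13623 (iv F137600)))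
theorem Q11885 : ∀ i, i < 11885 → P i := stepQ 11884 Q11884 (allL N11884 (tt N10829 F108353) (tt N11018 F134713) (tt N9987 F108354) (tt N13817 (iv F138579)) (tt N11884 F108355) (tt N13906 D29833) (tt N9986 (iv D24110)) (tt N13907 D29834) (tt N11884 F108356) (tt N9991 F108357))
theorem Q11886 : ∀ i, i < 11886 → P i := stepQ 11885 Q11885 (allL N11885 (tt N10830 F108358) (tt N11885 F108359) (tt N13906 (iv F138968)) (tt N9988 F108360) (tt N13908 D29835) (tt N9987 (iv D24111)) (tt N10007 F108361) (tt N13909 D29836) (tt N13910 D29837) (tt N9992 F108362))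
theorem Q11887 : ∀ i, i < 11887 → P i := stepQ 11886 Q11886 (allL N11886 (tt N10831 F108363) (tt N11886 F108364) (tt N13907 (iv F138973)) (tt N9989 F108365) (tt N11886 F108366) (tt N13909 (iv F138986)) (tt N10450 F108367) (tt N9987 (iv D24112)) (tt N11886 F108368) (tt N9993 F108369))
theorem Q11888 : ∀ i, i < 11888 → P i := stepQ 11887 Q11887 (allL N11887 (tt N10832 F108370) (tt N11887 F108371) (tt N13820 (iv F138592)) (tt N13909 (iv F138985)) (tt N13609 (iv F137533)) (tt N9989 F108372) (tt N13911 D29838) (tt N9988 (iv D24113)) (tt N13912 D29839) (tt N9994 F108373))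
theorem Q11889 : ∀ i, i < 11889 → P i := stepQ 11888 Q11888 (allL N11888 (tt N10833 F108374) (tt N11888 F108375) (tt N13821 (iv F138596)) (tt N13910 (iv F138990)) (tt N13610 (iv F137538)) (tt N11888 F108376) (tt N10010 F108377) (tt N13912 (iv F139001)) (tt N9988 (iv D24114)) (tt N13913 D29840))
theorem Q11890 : ∀ i, i < 11890 → P i := stepQ 11889 Q11889 (allL N11889 (tt N9990 (iv D24115)) (tt N10235 (iv F134121)) (tt N11889 F108379) (tt N13822 (iv F138600)) (tt N11889 F108380) (tt N10011 F108381) (tt N13914 D29841) (tt N10199 F133658) (tt N10198 F133659) (tt N10253 F133654))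
theorem Q11891 : ∀ i, i < 11891 → P i := stepQ 11890 Q11890 (allL N11890 (tt N13914 (iv F139007)) (tt N9991 F108383) (tt N11890 F108384) (tt N13823 (iv F138606)) (tt N11890 F108385) (tt N13915 D29842) (tt N9990 (iv D24116)) (tt N13916 D29843) (tt N10260 F108386) (tt N11018 F135019))
theorem Q11892 : ∀ i, i < 11892 → P i := stepQ 11891 Q11891 (allL N11891 (tt N10835 F108387) (tt N13915 (iv F139013)) (tt N9992 F108388) (tt N13824 (iv F138611)) (tt N13917 D29844) (tt N9991 (iv D24117)) (tt N10013 F108389) (tt N13918 D29845) (tt N13919 D29846) (tt N13906 (iv F138970)))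
theorem Q11893 : ∀ i, i < 11893 → P i := stepQ 11892 Q11892 (allL N11892 (tt N10836 F108390) (tt N13916 (iv F139017)) (tt N9993 F108391) (tt N13825 (iv F138615)) (tt N11892 F108392) (tt N13918 (iv F139028)) (tt N13902 (iv F138947)) (tt N9991 (iv D24118)) (tt N10262 F108393) (tt N13907 (iv F138977)))
theorem Q11894 : ∀ i, i < 11894 → P i := stepQ 11893 Q11893 (allL N11893 (tt N10837 F108394) (tt N11893 F108395) (tt N13917 (iv F139023)) (tt N13615 (iv F137559)) (tt N9992 (iv D24119)) (tt N11893 F108396) (tt N10015 F108397) (tt N13920 D29847) (tt N13921 D29848) (tt N13908 (iv F138982)))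
theorem Q11895 : ∀ i, i < 11895 → P i := stepQ 11894 Q11894 (allL N11894 (tt N10838 F108398) (tt N11894 F108399) (tt N13918 (iv F139027)) (tt N9994 F108400) (tt N13920 (iv F139035)) (tt N9993 F108401) (tt N13922 D29849) (tt N9992 (iv D24120)) (tt N13923 D29850) (tt N13909 (iv F138987)))
theorem Q11896 : ∀ i, i < 11896 → P i := stepQ 11895 Q11895 (allL N11895 (tt N10839 F108402) (tt N11895 F108403) (tt N13919 (iv F139030)) (tt N9995 F108404) (tt N13921 (iv F139039)) (tt N10265 F108405) (tt N10017 F108406) (tt N13923 (iv F139049)) (tt N9992 (iv D24121)) (tt N13924 D29851))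
theorem Q11897 : ∀ i, i < 11897 → P i := stepQ 11896 Q11896 (allL N11896 (tt N10840 F108407) (tt N11896 F108408) (tt N13829 (iv F138627)) (tt N13922 (iv F139043)) (tt N13618 (iv F137573)) (tt N13904 (iv F138958)) (tt N9994 (iv D24122)) (tt N10018 F108409) (tt N13925 D29852) (tt N13911 (iv F138997)))
theorem Q11898 : ∀ i, i < 11898 → P i := stepQ 11897 Q11897 (allL N11897 (tt N10841 F108410) (tt N11897 F108411) (tt N13830 (iv F138630)) (tt N13923 (iv F139047)) (tt N13619 (iv F137577)) (tt N10267 F108412) (tt N13925 (iv F139057)) (tt N9995 F108413) (tt N9994 (iv D24123)) (tt N13926 D29853))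
theorem Q11899 : ∀ i, i < 11899 → P i := stepQ 11898 Q11898 (allL N11898 (tt N10842 F108414) (tt N11898 F108415) (tt N13831 (iv F138634)) (tt N13924 (iv F139052)) (tt N13620 (iv F137582)) (tt N10268 F108416) (tt N10020 F108417) (tt N13926 (iv F139062)) (tt N13913 (iv F139006)) (tt N9995 (iv D24124)))
theorem Q11900 : ∀ i, i < 11900 → P i := stepQ 11899 Q11899 (allL N11899 (tt N13927 D29854) (tt N9996 (iv D24125)) (tt N11899 F108418) (tt N13832 (iv F138637)) (tt N10037 F108419) (tt N13894 (iv F138902)) (tt N13928 D29855) (tt N13621 (iv F137588)) (tt N11899 F108420) (tt N10361 F108421))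
theorem Q11901 : ∀ i, i < 11901 → P i := stepQ 11900 Q11900 (allL N11900 (tt N10844 F108422) (tt N13928 (iv F139069)) (tt N9997 F108423) (tt N13833 (iv F138643)) (tt N10038 F108424) (tt N13929 D29856) (tt N9996 (iv D24126)) (tt N13930 D29857) (tt N11900 F108425) (tt N10362 F108426))
theorem Q11902 : ∀ i, i < 11902 → P i := stepQ 11901 Q11901 (allL N11901 (tt N10845 F108427) (tt N11901 F108428) (tt N13929 (iv F139075)) (tt N9998 F108429) (tt N13931 D29858) (tt N9997 (iv D24127)) (tt N13896 (iv F138914)) (tt N13932 D29859) (tt N13933 D29860) (tt N10363 F108430))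
theorem Q11903 : ∀ i, i < 11903 → P i := stepQ 11902 Q11902 (allL N11902 (tt N10846 F108431) (tt N11902 F108432) (tt N13930 (iv F139078)) (tt N9999 F108433) (tt N10040 F108434) (tt N13932 (iv F139091)) (tt N13624 (iv F137606)) (tt N9997 (iv D24128)) (tt N11902 F108435) (tt N10364 F108436))
theorem Q11904 : ∀ i, i < 11904 → P i := stepQ 11903 Q11903 (allL N11903 (tt N10847 F108437) (tt N11903 F108438) (tt N13836 (iv F138656)) (tt N13932 (iv F139090)) (tt N10004 F108439) (tt N9999 F108440) (tt N13934 D29861) (tt N9998 (iv D24129)) (tt N13935 D29862) (tt N10365 F108441))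
theorem Q11905 : ∀ i, i < 11905 → P i := stepQ 11904 Q11904 (allL N11904 (tt N10848 F108442) (tt N11904 F108443) (tt N13837 (iv F138661)) (tt N13933 (iv F139095)) (tt N10005 F108444) (tt N11904 F108445) (tt N13899 (iv F138932)) (tt N13935 (iv F139106)) (tt N9998 (iv D24130)) (tt N13936 D29863))
theorem Q11906 : ∀ i, i < 11906 → P i := stepQ 11905 Q11905 (allL N11905 (tt N10748 F134719) (tt N13734 (iv F138175)) (tt N10002 F108458) (tt N13838 (iv F138666)) (tt N13937 D29864) (tt N10001 (iv D24133)) (tt N13901 (iv F138941)) (tt N13938 D29865) (tt N10726 F134720) (tt N10454 F108459))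
theorem Q11907 : ∀ i, i < 11907 → P i := stepQ 11906 Q11906 (allL N11906 (tt N10757 F134721) (tt N13747 (iv F138251)) (tt N10003 F108461) (tt N13839 (iv F138671)) (tt N10044 F108462) (tt N13938 (iv F139119)) (tt N10014 F108463) (tt N10001 (iv D24134)) (tt N10021 F108464) (tt N10455 F108465))
theorem Q11908 : ∀ i, i < 11908 → P i := stepQ 11907 Q11907 (allL N11907 (tt N10849 F108466) (tt N11907 F108467) (tt N13937 (iv F139113)) (tt N13931 (iv F139084)) (tt N10002 (iv D24135)) (tt N10045 F108468) (tt N13632 (iv F137653)) (tt N13939 D29866) (tt N11040 F135406) (tt N10456 F108469))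
theorem Q11909 : ∀ i, i < 11909 → P i := stepQ 11908 Q11908 (allL N11908 (tt N10850 F108470) (tt N11908 F108471) (tt N13938 (iv F139118)) (tt N10004 F108472) (tt N13939 (iv F139124)) (tt N10003 F108473) (tt N13940 D29867) (tt N10002 (iv D24136)) (tt N11232 F135364) (tt N10457 F108474))
theorem Q11910 : ∀ i, i < 11910 → P i := stepQ 11909 Q11909 (allL N11909 (tt N10851 F108479) (tt N11909 F108480) (tt N13843 (iv F138688)) (tt N13940 (iv F139130)) (tt N13934 (iv F139100)) (tt N10018 F108481) (tt N10004 (iv D24138)) (tt N13904 (iv F138959)) (tt N13941 D29868) (tt N10459 F108482))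
theorem Q11911 : ∀ i, i < 11911 → P i := stepQ 11910 Q11910 (allL N11910 (tt N10852 F108483) (tt N11910 F108484) (tt N13844 (iv F138692)) (tt N11232 F135397) (tt N13935 (iv F139104)) (tt N10023 F108485) (tt N13941 (iv F139137)) (tt N10005 F108486) (tt N10004 (iv D24139)) (tt N13942 D29869))
theorem Q11912 : ∀ i, i < 11912 → P i := stepQ 11911 Q11911 (allL N11911 (tt N10853 F108487) (tt N11911 F108488) (tt N13845 (iv F138696)) (tt N11230 F135400) (tt N13936 (iv F139109)) (tt N10024 F108489) (tt N13623 (iv F137599)) (tt N13942 (iv F139142)) (tt N10461 F108490) (tt N10005 (iv D24140)))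
theorem Q11913 : ∀ i, i < 11913 → P i := stepQ 11912 Q11912 (allL N11912 (tt N10855 F108502) (tt N10816 F134809) (tt N10007 F108503) (tt N13846 (iv F138702)) (tt N13943 D29870) (tt N10006 (iv D24143)) (tt N13906 (iv F138969)) (tt N13944 D29871) (tt N13945 D29872) (tt N10013 F108504))
theorem Q11914 : ∀ i, i < 11914 → P i := stepQ 11913 Q11913 (allL N11913 (tt N10856 F108505) (tt N10815 F134712) (tt N10008 F108506) (tt N13847 (iv F138707)) (tt N10050 F108507) (tt N13944 (iv F139152)) (tt N10455 F108508) (tt N10006 (iv D24144)) (tt N10137 F108509) (tt N10014 F108510))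
theorem Q11915 : ∀ i, i < 11915 → P i := stepQ 11914 Q11914 (allL N11914 (tt N10857 F108511) (tt N11914 F108512) (tt N13943 (iv F139146)) (tt N13646 (iv F137716)) (tt N10007 (iv D24145)) (tt N10051 F108513) (tt N13908 (iv F138981)) (tt N13946 D29873) (tt N13947 D29874) (tt N10015 F108514))
theorem Q11916 : ∀ i, i < 11916 → P i := stepQ 11915 Q11915 (allL N11915 (tt N10858 F108515) (tt N11915 F108516) (tt N13944 (iv F139151)) (tt N10009 F108517) (tt N13946 (iv F139160)) (tt N10008 F108518) (tt N13948 D29875) (tt N10007 (iv D24146)) (tt N13949 D29876) (tt N10016 F108519))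
theorem Q11917 : ∀ i, i < 11917 → P i := stepQ 11916 Q11916 (allL N11916 (tt N10859 F108520) (tt N11916 F108521) (tt N13945 (iv F139156)) (tt N10010 F108522) (tt N13947 (iv F139165)) (tt N10140 F108523) (tt N13910 (iv F138992)) (tt N13949 (iv F139176)) (tt N10007 (iv D24147)) (tt N13950 D29877))
theorem Q11918 : ∀ i, i < 11918 → P i := stepQ 11917 Q11917 (allL N11917 (tt N10860 F108524) (tt N11917 F108525) (tt N13851 (iv F138723)) (tt N13948 (iv F139169)) (tt N13649 (iv F137730)) (tt N10459 F108526) (tt N10009 (iv D24148)) (tt N13911 (iv F138996)) (tt N13951 D29878) (tt N10018 F108527))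
theorem Q11919 : ∀ i, i < 11919 → P i := stepQ 11918 Q11918 (allL N11918 (tt N10861 F108528) (tt N11918 F108529) (tt N13852 (iv F138727)) (tt N13949 (iv F139174)) (tt N13650 (iv F137734)) (tt N10142 F108530) (tt N13951 (iv F139184)) (tt N10010 F108531) (tt N10009 (iv D24149)) (tt N13952 D29879))
theorem Q11920 : ∀ i, i < 11920 → P i := stepQ 11919 Q11919 (allL N11919 (tt N10862 F108532) (tt N11919 F108533) (tt N13853 (iv F138731)) (tt N13950 (iv F139179)) (tt N13651 (iv F137739)) (tt N10143 F108534) (tt N13913 (iv F139005)) (tt N13952 (iv F139188)) (tt N10020 F108535) (tt N10010 (iv D24150)))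
theorem Q11921 : ∀ i, i < 11921 → P i := stepQ 11920 Q11920 (allL N11920 (tt N13892 (iv F138891)) (tt N10013 F108541) (tt N11920 F108542) (tt N13855 (iv F138741)) (tt N13953 D29880) (tt N10012 (iv D24152)) (tt N13915 (iv F139015)) (tt N13954 D29881) (tt N13955 D29882) (tt N10816 F135017))
theorem Q11922 : ∀ i, i < 11922 → P i := stepQ 11921 Q11921 (allL N11921 (tt N13801 (iv F138501)) (tt N10014 F108543) (tt N11921 F108544) (tt N13856 (iv F138744)) (tt N10057 F108545) (tt N13954 (iv F139196)) (tt N13747 (iv F138254)) (tt N10012 (iv D24153)) (tt N10027 F108546) (tt N10815 F135018))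
theorem Q11923 : ∀ i, i < 11923 → P i := stepQ 11922 Q11922 (allL N11922 (tt N10864 F108547) (tt N13953 (iv F139190)) (tt N10015 F108548) (tt N13956 D29883) (tt N10013 (iv D24154)) (tt N10058 F108549) (tt N13917 (iv F139025)) (tt N13957 D29884) (tt N13958 D29885) (tt N13943 (iv F139148)))
theorem Q11924 : ∀ i, i < 11924 → P i := stepQ 11923 Q11923 (allL N11923 (tt N10865 F108550) (tt N13954 (iv F139194)) (tt N10016 F108551) (tt N13858 (iv F138752)) (tt N13957 (iv F139205)) (tt N10014 F108552) (tt N13959 D29886) (tt N10013 (iv D24155)) (tt N13960 D29887) (tt N13944 (iv F139153)))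
theorem Q11925 : ∀ i, i < 11925 → P i := stepQ 11924 Q11924 (allL N11924 (tt N10866 F108553) (tt N13955 (iv F139198)) (tt N10017 F108554) (tt N13859 (iv F138756)) (tt N13958 (iv F139209)) (tt N10029 F108555) (tt N13919 (iv F139032)) (tt N13960 (iv F139216)) (tt N10013 (iv D24156)) (tt N13961 D29888))
theorem Q11926 : ∀ i, i < 11926 → P i := stepQ 11925 Q11925 (allL N11925 (tt N10867 F108556) (tt N11925 F108557) (tt N13957 (iv F139204)) (tt N13658 (iv F137764)) (tt N10016 F108558) (tt N10060 F108559) (tt N13962 D29889) (tt N10015 (iv D24157)) (tt N13963 D29890) (tt N13946 (iv F139162)))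
theorem Q11927 : ∀ i, i < 11927 → P i := stepQ 11926 Q11926 (allL N11926 (tt N10868 F108560) (tt N11926 F108561) (tt N13958 (iv F139208)) (tt N13659 (iv F137769)) (tt N10017 F108562) (tt N11926 F108563) (tt N13921 (iv F139040)) (tt N13963 (iv F139227)) (tt N10015 (iv D24158)) (tt N13964 D29891))
theorem Q11928 : ∀ i, i < 11928 → P i := stepQ 11927 Q11927 (allL N11927 (tt N10869 F108564) (tt N11927 F108565) (tt N13959 (iv F139212)) (tt N10018 F108566) (tt N13962 (iv F139222)) (tt N13940 (iv F139131)) (tt N10016 (iv D24159)) (tt N13922 (iv F139044)) (tt N13965 D29892) (tt N13948 (iv F139171)))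
theorem Q11929 : ∀ i, i < 11929 → P i := stepQ 11928 Q11928 (allL N11928 (tt N10870 F108567) (tt N11928 F108568) (tt N13960 (iv F139214)) (tt N10019 F108569) (tt N13963 (iv F139225)) (tt N10031 F108570) (tt N13965 (iv F139235)) (tt N10017 F108571) (tt N10016 (iv D24160)) (tt N13966 D29893))
theorem Q11930 : ∀ i, i < 11930 → P i := stepQ 11929 Q11929 (allL N11929 (tt N10871 F108572) (tt N11929 F108573) (tt N13961 (iv F139218)) (tt N10020 F108574) (tt N13964 (iv F139230)) (tt N10032 F108575) (tt N13924 (iv F139054)) (tt N13966 (iv F139240)) (tt N13950 (iv F139181)) (tt N10017 (iv D24161)))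
theorem Q11931 : ∀ i, i < 11931 → P i := stepQ 11930 Q11930 (allL N11930 (tt N10872 F108576) (tt N11930 F108577) (tt N13865 (iv F138772)) (tt N13965 (iv F139234)) (tt N13663 (iv F137786)) (tt N13967 D29894) (tt N10019 F108578) (tt N13925 (iv F139058)) (tt N10018 (iv D24162)) (tt N13968 D29895))
theorem Q11932 : ∀ i, i < 11932 → P i := stepQ 11931 Q11931 (allL N11931 (tt N10873 F108579) (tt N11931 F108580) (tt N13866 (iv F138775)) (tt N13966 (iv F139238)) (tt N13664 (iv F137790)) (tt N10034 F108581) (tt N13968 (iv F139246)) (tt N10020 F108582) (tt N13952 (iv F139189)) (tt N10019 (iv D24163)))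
theorem Q11933 : ∀ i, i < 11933 → P i := stepQ 11932 Q11932 (allL N11932 (tt N10874 F108635) (tt N11932 F108636) (tt N13872 (iv F138805)) (tt N10358 F134763) (tt N11932 F108637) (tt N13969 D29896) (tt N10023 F108638) (tt N10277 F108639) (tt N10022 (iv D24175)) (tt N13897 (iv F138922)))
theorem Q11934 : ∀ i, i < 11934 → P i := stepQ 11933 Q11933 (allL N11933 (tt N10875 F108640) (tt N11933 F108641) (tt N13873 (iv F138810)) (tt N11231 F135398) (tt N11933 F108642) (tt N13942 (iv F139141)) (tt N13897 (iv F138920)) (tt N10024 F108643) (tt N10154 F108644) (tt N10023 (iv D24176)))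
theorem Q11935 : ∀ i, i < 11935 → P i := stepQ 11934 Q11934 (allL N11934 (tt N10026 F108645) (tt N10240 F133655) (tt N11934 F108647) (tt N13874 (iv F138816)) (tt N11934 F108648) (tt N10025 (iv D24177)) (tt N10202 F133656) (tt N13787 (iv F138436)) (tt N13970 D29897) (tt N10135 F133651))
theorem Q11936 : ∀ i, i < 11936 → P i := stepQ 11935 Q11935 (allL N11935 (tt N13787 (iv F138431)) (tt N10028 F108656) (tt N11935 F108657) (tt N13876 (iv F138825)) (tt N11935 F108658) (tt N10027 F108659) (tt N13739 (iv F138207)) (tt N10026 (iv D24179)) (tt N13971 D29898) (tt N10155 F108660))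
theorem Q11937 : ∀ i, i < 11937 → P i := stepQ 11936 Q11936 (allL N11936 (tt N13970 (iv F139252)) (tt N10029 F108661) (tt N11936 F108662) (tt N13877 (iv F138829)) (tt N11936 F108663) (tt N13955 (iv F139200)) (tt N10278 F108664) (tt N13971 (iv F139260)) (tt N10026 (iv D24180)) (tt N13972 D29899))
theorem Q11938 : ∀ i, i < 11938 → P i := stepQ 11937 Q11937 (allL N11937 (tt N10752 (iv F134098)) (tt N13739 (iv F138203)) (tt N10030 F108666) (tt N13880 (iv F138843)) (tt N11937 F108667) (tt N10729 F133670) (tt N10028 (iv D24181)) (tt N10279 F108668) (tt N13973 D29900) (tt N10157 F108669))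
theorem Q11939 : ∀ i, i < 11939 → P i := stepQ 11938 Q11938 (allL N11938 (tt N10877 F108670) (tt N13971 (iv F139257)) (tt N10031 F108671) (tt N13881 (iv F138849)) (tt N11938 F108672) (tt N13960 (iv F139215)) (tt N13973 (iv F139269)) (tt N10029 F108673) (tt N10028 (iv D24182)) (tt N13974 D29901))
theorem Q11940 : ∀ i, i < 11940 → P i := stepQ 11939 Q11939 (allL N11939 (tt N10878 F108674) (tt N13972 (iv F139261)) (tt N10032 F108675) (tt N13882 (iv F138853)) (tt N11939 F108676) (tt N13961 (iv F139219)) (tt N10281 F108677) (tt N13974 (iv F139274)) (tt N10159 F108678) (tt N10029 (iv D24183)))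
theorem Q11941 : ∀ i, i < 11941 → P i := stepQ 11940 Q11940 (allL N11940 (tt N10879 F108679) (tt N11940 F108680) (tt N13973 (iv F139267)) (tt N10033 F108681) (tt N11940 F108682) (tt N13975 D29902) (tt N10031 F108683) (tt N10282 F108684) (tt N10030 (iv D24184)) (tt N13976 D29903))
theorem Q11942 : ∀ i, i < 11942 → P i := stepQ 11941 Q11941 (allL N11941 (tt N10880 F108685) (tt N11941 F108686) (tt N13974 (iv F139272)) (tt N10034 F108687) (tt N11941 F108688) (tt N13966 (iv F139239)) (tt N13976 (iv F139286)) (tt N10032 F108689) (tt N10161 F108690) (tt N10031 (iv D24185)))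
theorem Q11943 : ∀ i, i < 11943 → P i := stepQ 11942 Q11942 (allL N11942 (tt N10881 F108691) (tt N11942 F108692) (tt N13888 (iv F138877)) (tt N13975 (iv F139278)) (tt N13977 D29904) (tt N10033 (iv D24186)) (tt N13967 (iv F139243)) (tt N10284 F108693) (tt N13969 (iv F139251)) (tt N13978 D29905))
theorem Q11944 : ∀ i, i < 11944 → P i := stepQ 11943 Q11943 (allL N11943 (tt N10882 F108694) (tt N11943 F108695) (tt N13803 (iv F138517)) (tt N13976 (iv F139284)) (tt N10036 F108696) (tt N13978 (iv F139295)) (tt N10034 F108697) (tt N10285 F108698) (tt N10163 F108699) (tt N10033 (iv D24187)))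
theorem Q11945 : ∀ i, i < 11945 → P i := stepQ 11944 Q11944 (allL N11944 (tt N10883 F108700) (tt N11944 F108701) (tt N13893 (iv F138896)) (tt N13668 (iv F137812)) (tt N10035 (iv D24188)) (tt N13977 (iv F139291)) (tt N13680 (iv F137874)) (tt N10286 F108702) (tt N11944 F108703) (tt N13666 F137804))
theorem Q11946 : ∀ i, i < 11946 → P i := stepQ 11945 Q11945 (allL N11945 (tt N10884 F108704) (tt N11945 F108705) (tt N13520 (iv F137068)) (tt N11945 F108706) (tt N13666 (iv F137802)) (tt N10036 F108707) (tt N13681 (iv F137881)) (tt N10287 F108708) (tt N13516 (iv F137047)) (tt N10035 (iv D24189)))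
theorem Q11947 : ∀ i, i < 11947 → P i := stepQ 11946 Q11946 (allL N11946 (tt N10037 (iv D24190)) (tt N10885 F108709) (tt N11946 F108710) (tt N10700 F108711) (tt N13927 (iv F139065)) (tt N11946 F108712) (tt N13979 D29906) (tt N13682 (iv F137887)) (tt N11946 F108713) (tt N10379 F108714))
theorem Q11948 : ∀ i, i < 11948 → P i := stepQ 11947 Q11947 (allL N11947 (tt N13979 (iv F139297)) (tt N10038 F108715) (tt N11947 F108716) (tt N10701 F108717) (tt N13928 (iv F139071)) (tt N13980 D29907) (tt N10037 (iv D24191)) (tt N13981 D29908) (tt N11947 F108718) (tt N10380 F108719))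
theorem Q11949 : ∀ i, i < 11949 → P i := stepQ 11948 Q11948 (allL N11948 (tt N10887 F108720) (tt N13980 (iv F139303)) (tt N10039 F108721) (tt N10702 F108722) (tt N13982 D29909) (tt N10038 (iv D24192)) (tt N11948 F108723) (tt N13983 D29910) (tt N13984 D29911) (tt N10381 F108724))
theorem Q11950 : ∀ i, i < 11950 → P i := stepQ 11949 Q11949 (allL N11949 (tt N10888 F108725) (tt N13981 (iv F139308)) (tt N10040 F108726) (tt N10703 F108727) (tt N13930 (iv F139079)) (tt N13983 (iv F139321)) (tt N13684 (iv F137901)) (tt N10038 (iv D24193)) (tt N11949 F108728) (tt N10382 F108729))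
theorem Q11951 : ∀ i, i < 11951 → P i := stepQ 11950 Q11950 (allL N11950 (tt N10889 F108730) (tt N11950 F108731) (tt N13982 (iv F139314)) (tt N10045 F108732) (tt N10039 (iv D24194)) (tt N13931 (iv F139085)) (tt N11950 F108733) (tt N13985 D29912) (tt N11048 F135530) (tt N10383 F108734))
theorem Q11952 : ∀ i, i < 11952 → P i := stepQ 11951 Q11951 (allL N11951 (tt N10890 F108735) (tt N11951 F108736) (tt N13983 (iv F139319)) (tt N10041 F108737) (tt N13985 (iv F139333)) (tt N10040 F108738) (tt N13986 D29913) (tt N10039 (iv D24195)) (tt N13987 D29914) (tt N10384 F108739))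
theorem Q11953 : ∀ i, i < 11953 → P i := stepQ 11952 Q11952 (allL N11952 (tt N10891 F108740) (tt N11952 F108741) (tt N13984 (iv F139324)) (tt N10042 F108742) (tt N11048 F135585) (tt N11952 F108743) (tt N11952 F108744) (tt N13987 (iv F139346)) (tt N10039 (iv D24196)) (tt N11952 F108745))
theorem Q11954 : ∀ i, i < 11954 → P i := stepQ 11953 Q11953 (allL N11953 (tt N10892 F108746) (tt N11953 F108747) (tt N10707 F108748) (tt N13986 (iv F139338)) (tt N10047 F108749) (tt N13687 (iv F137919)) (tt N10041 (iv D24197)) (tt N11953 F108750) (tt N13988 D29915) (tt N10385 F108751))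
theorem Q11955 : ∀ i, i < 11955 → P i := stepQ 11954 Q11954 (allL N11954 (tt N10893 F108752) (tt N11954 F108753) (tt N10708 F108754) (tt N13987 (iv F139343)) (tt N10048 F108755) (tt N11954 F108756) (tt N13988 (iv F139352)) (tt N10042 F108757) (tt N10041 (iv D24198)) (tt N11954 F108758))
theorem Q11956 : ∀ i, i < 11956 → P i := stepQ 11955 Q11955 (allL N11955 (tt N10561 F134807) (tt N13495 (iv F136925)) (tt N10045 F108777) (tt N13989 D29916) (tt N10043 (iv D24202)) (tt N13937 (iv F139114)) (tt N11955 F108778) (tt N13990 D29917) (tt N10534 F134808) (tt N10475 F108779))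
theorem Q11957 : ∀ i, i < 11957 → P i := stepQ 11956 Q11956 (allL N11956 (tt N10565 F134725) (tt N13498 (iv F136945)) (tt N10046 F108781) (tt N10899 F108782) (tt N13990 (iv F139362)) (tt N10044 F108783) (tt N13991 D29918) (tt N10043 (iv D24203)) (tt N10538 F134726) (tt N10476 F108784))
theorem Q11958 : ∀ i, i < 11958 → P i := stepQ 11957 Q11957 (allL N11957 (tt N10894 F108791) (tt N11957 F108792) (tt N13990 (iv F139361)) (tt N13985 (iv F139332)) (tt N10046 F108793) (tt N13939 (iv F139125)) (tt N13992 D29919) (tt N10045 (iv D24205)) (tt N11050 F135531) (tt N10477 F108794))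
theorem Q11959 : ∀ i, i < 11959 → P i := stepQ 11958 Q11958 (allL N11958 (tt N10895 F108800) (tt N11958 F108801) (tt N13991 (iv F139366)) (tt N10047 F108802) (tt N13992 (iv F139374)) (tt N10061 F108803) (tt N10046 (iv D24207)) (tt N11958 F108804) (tt N11051 F135532) (tt N10478 F108805))
theorem Q11960 : ∀ i, i < 11960 → P i := stepQ 11959 Q11959 (allL N11959 (tt N10896 F108812) (tt N11959 F108813) (tt N10904 F108814) (tt N11051 F135584) (tt N13988 (iv F139351)) (tt N11959 F108815) (tt N10048 F108816) (tt N11959 F108817) (tt N10047 (iv D24209)) (tt N11959 F108818))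
theorem Q11961 : ∀ i, i < 11961 → P i := stepQ 11960 Q11960 (allL N11960 (tt N10898 F108836) (tt N10607 F134810) (tt N10051 F108837) (tt N13993 D29920) (tt N10049 (iv D24213)) (tt N13943 (iv F139147)) (tt N11960 F108838) (tt N13994 D29921) (tt N10562 F134811) (tt N10058 F108839))
theorem Q11962 : ∀ i, i < 11962 → P i := stepQ 11961 Q11961 (allL N11961 (tt N10899 F108840) (tt N10609 F134730) (tt N10052 F108841) (tt N10565 F134731) (tt N13994 (iv F139387)) (tt N10050 F108843) (tt N13995 D29922) (tt N10049 (iv D24214)) (tt N10563 F134732) (tt N10059 F108844))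
theorem Q11963 : ∀ i, i < 11963 → P i := stepQ 11962 Q11962 (allL N11962 (tt N10900 F108851) (tt N11962 F108852) (tt N13994 (iv F139386)) (tt N13704 (iv F138013)) (tt N10052 F108853) (tt N13946 (iv F139161)) (tt N13996 D29923) (tt N10051 (iv D24216)) (tt N13997 D29924) (tt N10060 F108854))
theorem Q11964 : ∀ i, i < 11964 → P i := stepQ 11963 Q11963 (allL N11963 (tt N10901 F108855) (tt N11963 F108856) (tt N10562 F134921) (tt N13705 (iv F138018)) (tt N10053 F108857) (tt N11169 (iv F108860)) (tt N11963 F108858) (tt N13997 (iv F139407)) (tt N10051 (iv D24217)) (tt N11963 F108859))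
theorem Q11965 : ∀ i, i < 11965 → P i := stepQ 11964 Q11964 (allL N11964 (tt N10902 F108861) (tt N11964 F108862) (tt N13995 (iv F139392)) (tt N10054 F108863) (tt N13996 (iv F139400)) (tt N10478 F108864) (tt N10052 (iv D24218)) (tt N11964 F108865) (tt N13998 D29925) (tt N10061 F108866))
theorem Q11966 : ∀ i, i < 11966 → P i := stepQ 11965 Q11965 (allL N11965 (tt N10903 F108867) (tt N11965 F108868) (tt N10563 F134920) (tt N10055 F108869) (tt N13997 (iv F139406)) (tt N10166 F108870) (tt N13998 (iv F139415)) (tt N10053 F108871) (tt N10052 (iv D24219)) (tt N11965 F108872))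
theorem Q11967 : ∀ i, i < 11967 → P i := stepQ 11966 Q11966 (allL N11966 (tt N10904 F108873) (tt N11966 F108874) (tt N10896 F108875) (tt N13998 (iv F139413)) (tt N13708 (iv F138037)) (tt N11966 F108876) (tt N10055 F108877) (tt N11966 F108878) (tt N10054 (iv D24220)) (tt N11966 F108879))
theorem Q11968 : ∀ i, i < 11968 → P i := stepQ 11967 Q11967 (allL N11967 (tt N13594 (iv F137446)) (tt N10058 F108889) (tt N11967 F108890) (tt N13999 D29926) (tt N10056 (iv D24223)) (tt N13953 (iv F139192)) (tt N11967 F108891) (tt N14000 D29927) (tt N11967 F108892) (tt N10607 F135022))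
theorem Q11969 : ∀ i, i < 11969 → P i := stepQ 11968 Q11968 (allL N11968 (tt N13596 (iv F137457)) (tt N10059 F108893) (tt N11968 F108894) (tt N10611 F135020) (tt N14000 (iv F139425)) (tt N10057 F108895) (tt N14001 D29928) (tt N10056 (iv D24224)) (tt N11968 F108896) (tt N10609 F135021))
theorem Q11970 : ∀ i, i < 11970 → P i := stepQ 11969 Q11969 (allL N11969 (tt N10906 F108897) (tt N13999 (iv F139418)) (tt N13713 (iv F138061)) (tt N10058 (iv D24225)) (tt N13429 (iv F136537)) (tt N13956 (iv F139202)) (tt N11969 F108898) (tt N14002 D29929) (tt N11969 F108899) (tt N13993 (iv F139383)))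
theorem Q11971 : ∀ i, i < 11971 → P i := stepQ 11970 Q11970 (allL N11970 (tt N10907 F108900) (tt N14000 (iv F139423)) (tt N10060 F108901) (tt N14002 (iv F139435)) (tt N10059 F108902) (tt N13957 (iv F139206)) (tt N14003 D29930) (tt N10058 (iv D24226)) (tt N11970 F108903) (tt N13994 (iv F139389)))
theorem Q11972 : ∀ i, i < 11972 → P i := stepQ 11971 Q11971 (allL N11971 (tt N10908 F108904) (tt N14001 (iv F139428)) (tt N10061 F108905) (tt N13431 (iv F136550)) (tt N14003 (iv F139439)) (tt N13991 (iv F139368)) (tt N10059 (iv D24227)) (tt N11971 F108906) (tt N11971 F108907) (tt N13995 (iv F139397)))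
theorem Q11973 : ∀ i, i < 11973 → P i := stepQ 11972 Q11972 (allL N11972 (tt N10909 F108908) (tt N11972 F108909) (tt N14003 (iv F139438)) (tt N13716 (iv F138074)) (tt N10061 F108910) (tt N14004 D29931) (tt N10060 (iv D24228)) (tt N11972 F108911) (tt N11972 F108912) (tt N13996 (iv F139402)))
theorem Q11974 : ∀ i, i < 11974 → P i := stepQ 11973 Q11973 (allL N11973 (tt N10078 F109010) (tt N14005 D29932) (tt N10062 (iv D24246)) (tt N11973 F109011) (tt N10238 F133583) (tt N11973 F109013) (tt N14006 D29933) (tt N10237 (iv F134179)) (tt N13725 (iv F138135)) (tt N10065 F109015))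
theorem Q11975 : ∀ i, i < 11975 → P i := stepQ 11974 Q11974 (allL N11974 (tt N10079 F109016) (tt N10910 F109017) (tt N14006 (iv F139453)) (tt N10063 F109018) (tt N10728 F109019) (tt N14007 D29934) (tt N10062 (iv D24247)) (tt N14008 D29935) (tt N13726 (iv F138141)) (tt N10066 F109020))
theorem Q11976 : ∀ i, i < 11976 → P i := stepQ 11975 Q11975 (allL N11975 (tt N10080 F109021) (tt N10522 F134702) (tt N11975 F109023) (tt N14007 (iv F139459)) (tt N11975 F109024) (tt N10063 (iv D24248)) (tt N11975 F109025) (tt N14009 D29936) (tt N14010 D29937) (tt N10067 F109026))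
theorem Q11977 : ∀ i, i < 11977 → P i := stepQ 11976 Q11976 (allL N11976 (tt N10081 F109027) (tt N10911 F109028) (tt N11976 F109029) (tt N14008 (iv F139464)) (tt N10064 F109030) (tt N14009 (iv F139472)) (tt N10395 F109031) (tt N10063 (iv D24249)) (tt N13728 (iv F138154)) (tt N10068 F109032))
theorem Q11978 : ∀ i, i < 11978 → P i := stepQ 11977 Q11977 (allL N11977 (tt N10304 F133576) (tt N10065 (iv D24250)) (tt N10294 (iv F134188)) (tt N11977 F109034) (tt N10293 F133853) (tt N11977 F109036) (tt N14011 D29938) (tt N10292 (iv F134186)) (tt N10073 F109038) (tt N14005 (iv F139451)))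
theorem Q11979 : ∀ i, i < 11979 → P i := stepQ 11978 Q11978 (allL N11978 (tt N10082 F109039) (tt N14011 (iv F139481)) (tt N10066 F109040) (tt N11978 F109041) (tt N10300 F133582) (tt N14012 D29939) (tt N10065 (iv D24251)) (tt N14013 D29940) (tt N10074 F109043) (tt N14006 (iv F139456)))
theorem Q11980 : ∀ i, i < 11980 → P i := stepQ 11979 Q11979 (allL N11979 (tt N10083 F109044) (tt N10504 F134698) (tt N14012 (iv F139489)) (tt N10067 F109046) (tt N14014 D29941) (tt N10066 (iv D24252)) (tt N11979 F109047) (tt N14015 D29942) (tt N10500 F134699) (tt N14007 (iv F139461)))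
theorem Q11981 : ∀ i, i < 11981 → P i := stepQ 11980 Q11980 (allL N11980 (tt N10084 F109048) (tt N10912 F109049) (tt N14013 (iv F139495)) (tt N10068 F109050) (tt N10913 F109051) (tt N14015 (iv F139510)) (tt N10480 F109052) (tt N10066 (iv D24253)) (tt N10076 F109053) (tt N14008 (iv F139467)))
theorem Q11982 : ∀ i, i < 11982 → P i := stepQ 11981 Q11981 (allL N11981 (tt N10085 F109054) (tt N10521 F134700) (tt N11981 F109056) (tt N14015 (iv F139509)) (tt N11981 F109057) (tt N10068 F109058) (tt N14016 D29943) (tt N10067 (iv D24254)) (tt N10519 F134701) (tt N14009 (iv F139473)))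
theorem Q11983 : ∀ i, i < 11983 → P i := stepQ 11982 Q11982 (allL N11982 (tt N10297 F133845) (tt N10069 (iv D24256)) (tt N10293 F133852) (tt N11982 F109066) (tt N10294 (iv F134189)) (tt N10288 F109068) (tt N14017 D29944) (tt N10073 F109069) (tt N10292 (iv F134187)) (tt N13735 (iv F138185)))
theorem Q11984 : ∀ i, i < 11984 → P i := stepQ 11983 Q11983 (allL N11983 (tt N10088 F109071) (tt N14017 (iv F139520)) (tt N10070 F109072) (tt N11983 F109073) (tt N10120 F134399) (tt N14018 D29945) (tt N10069 (iv D24257)) (tt N14019 D29946) (tt N10118 F134400) (tt N13736 (iv F138190)))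
theorem Q11985 : ∀ i, i < 11985 → P i := stepQ 11984 Q11984 (allL N11984 (tt N10089 F109076) (tt N10306 F133847) (tt N14018 (iv F139528)) (tt N10071 F109078) (tt N14020 D29947) (tt N10070 (iv D24258)) (tt N10290 F109079) (tt N14021 D29948) (tt N14022 D29949) (tt N13737 (iv F138195)))
theorem Q11986 : ∀ i, i < 11986 → P i := stepQ 11985 Q11985 (allL N11985 (tt N10090 F109080) (tt N10913 F109081) (tt N14019 (iv F139534)) (tt N10072 F109082) (tt N10912 F109083) (tt N14021 (iv F139549)) (tt N10076 F109084) (tt N10070 (iv D24259)) (tt N10480 F109085) (tt N13738 (iv F138201)))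
theorem Q11987 : ∀ i, i < 11987 → P i := stepQ 11986 Q11986 (allL N11986 (tt N10091 F109086) (tt N10157 F133663) (tt N11986 F109088) (tt N14021 (iv F139548)) (tt N11986 F109089) (tt N10072 F109090) (tt N10155 F133664) (tt N10071 (iv D24260)) (tt N14023 D29950) (tt N13739 (iv F138208)))
theorem Q11988 : ∀ i, i < 11988 → P i := stepQ 11987 Q11987 (allL N11987 (tt N10092 F109091) (tt N10311 F133849) (tt N11987 F109093) (tt N14022 (iv F139554)) (tt N11987 F109094) (tt N10482 F109095) (tt N10291 F109096) (tt N14023 (iv F139564)) (tt N10071 (iv D24261)) (tt N14024 D29951))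
theorem Q11989 : ∀ i, i < 11989 → P i := stepQ 11988 Q11988 (allL N11988 (tt N10073 (iv D24262)) (tt N10093 F109097) (tt N10290 F133595) (tt N11988 F109099) (tt N10305 F133596) (tt N10289 F133597) (tt N14018 (iv F139531)) (tt N10297 F133633) (tt N10304 F133598) (tt N13741 (iv F138220)))
theorem Q11990 : ∀ i, i < 11990 → P i := stepQ 11989 Q11989 (allL N11989 (tt N14018 (iv F139526)) (tt N10074 F109101) (tt N10089 F134839) (tt N11989 F109103) (tt N13433 (iv F136565)) (tt N10088 F134840) (tt N10073 (iv D24263)) (tt N14025 D29952) (tt N14011 (iv F139485)) (tt N13742 (iv F138225)))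
theorem Q11991 : ∀ i, i < 11991 → P i := stepQ 11990 Q11990 (allL N11990 (tt N10095 F109105) (tt N10088 (iv F134206)) (tt N10075 F109107) (tt N11990 F109108) (tt N10920 (iv F134172)) (tt N10074 (iv D24264)) (tt N10087 F133586) (tt N14026 D29953) (tt N10488 (iv F134057)) (tt N13743 (iv F138231)))
theorem Q11992 : ∀ i, i < 11992 → P i := stepQ 11991 Q11991 (allL N11991 (tt N10096 F109112) (tt N14025 (iv F139571)) (tt N10076 F109113) (tt N11991 F109114) (tt N13435 (iv F136578)) (tt N14026 (iv F139580)) (tt N14019 (iv F139537)) (tt N10074 (iv D24265)) (tt N14013 (iv F139499)) (tt N13744 (iv F138236)))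
theorem Q11993 : ∀ i, i < 11993 → P i := stepQ 11992 Q11992 (allL N11992 (tt N10098 F109121) (tt N10117 (iv F134201)) (tt N14026 (iv F139577)) (tt N10077 F109123) (tt N10939 F133587) (tt N10076 F109124) (tt N10126 F133588) (tt N10075 (iv D24267)) (tt N10501 F133589) (tt N13745 (iv F138243)))
theorem Q11994 : ∀ i, i < 11994 → P i := stepQ 11993 Q11993 (allL N11993 (tt N14006 (iv F139452)) (tt N10806 F133580) (tt N10079 F109200) (tt N11993 F109201) (tt N10749 F109202) (tt N14027 D29954) (tt N10078 (iv D24281)) (tt N14028 D29955) (tt N13768 (iv F138362)) (tt N10082 F109203))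
theorem Q11995 : ∀ i, i < 11995 → P i := stepQ 11994 Q11994 (allL N11994 (tt N14007 (iv F139457)) (tt N10105 F109204) (tt N14027 (iv F139584)) (tt N10080 F109205) (tt N14029 D29956) (tt N10079 (iv D24282)) (tt N11994 F109206) (tt N14030 D29957) (tt N14031 D29958) (tt N10083 F109207))
theorem Q11996 : ∀ i, i < 11996 → P i := stepQ 11995 Q11995 (allL N11995 (tt N14008 (iv F139462)) (tt N10106 F109208) (tt N14028 (iv F139590)) (tt N10081 F109209) (tt N10751 F109210) (tt N14030 (iv F139603)) (tt N10410 F109211) (tt N10079 (iv D24283)) (tt N13770 (iv F138371)) (tt N10084 F109212))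
theorem Q11997 : ∀ i, i < 11997 → P i := stepQ 11996 Q11996 (allL N11996 (tt N14009 (iv F139468)) (tt N10107 F109213) (tt N11996 F109214) (tt N14030 (iv F139602)) (tt N11996 F109215) (tt N10081 F109216) (tt N14032 D29959) (tt N10080 (iv D24284)) (tt N14033 D29960) (tt N10085 F109217))
theorem Q11998 : ∀ i, i < 11998 → P i := stepQ 11997 Q11997 (allL N11997 (tt N14010 (iv F139474)) (tt N10108 F109218) (tt N11997 F109219) (tt N14031 (iv F139606)) (tt N11997 F109220) (tt N13772 (iv F138379)) (tt N11997 F109221) (tt N14033 (iv F139617)) (tt N10080 (iv D24285)) (tt N14034 D29961))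
theorem Q11999 : ∀ i, i < 11999 → P i := stepQ 11998 Q11998 (allL N11998 (tt N14012 (iv F139487)) (tt N10502 F133577) (tt N10083 F109233) (tt N11998 F109234) (tt N10500 F133578) (tt N10082 (iv D24288)) (tt N11998 F109235) (tt N14035 D29962) (tt N14014 (iv F139506)) (tt N14027 (iv F139588)))
theorem Q12000 : ∀ i, i < 12000 → P i := stepQ 11999 Q11999 (allL N11999 (tt N14013 (iv F139494)) (tt N10951 F133579) (tt N10084 F109236) (tt N11999 F109237) (tt N10925 F109238) (tt N14035 (iv F139628)) (tt N10489 F109239) (tt N10082 (iv D24289)) (tt N10096 F109240) (tt N14028 (iv F139594)))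
theorem Q12001 : ∀ i, i < 12001 → P i := stepQ 12000 Q12000 (allL N12000 (tt N14014 (iv F139500)) (tt N10111 F109241) (tt N10500 F134684) (tt N12000 F109242) (tt N10083 (iv D24290)) (tt N10488 F134685) (tt N12000 F109244) (tt N14036 D29963) (tt N14012 (iv F139493)) (tt N14029 (iv F139600)))
theorem Q12002 : ∀ i, i < 12002 → P i := stepQ 12001 Q12001 (allL N12001 (tt N14015 (iv F139507)) (tt N10112 F109245) (tt N14035 (iv F139625)) (tt N10085 F109246) (tt N14036 (iv F139632)) (tt N10084 F109247) (tt N14037 D29964) (tt N10083 (iv D24291)) (tt N14038 D29965) (tt N14030 (iv F139604)))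
theorem Q12003 : ∀ i, i < 12003 → P i := stepQ 12002 Q12002 (allL N12002 (tt N10500 F133605) (tt N10113 F109248) (tt N14014 (iv F139502)) (tt N10086 F109249) (tt N14012 (iv F139491)) (tt N10099 F109250) (tt N12002 F109251) (tt N14038 (iv F139642)) (tt N10083 (iv D24292)) (tt N14039 D29966))
theorem Q12004 : ∀ i, i < 12004 → P i := stepQ 12003 Q12003 (allL N12003 (tt N14016 (iv F139512)) (tt N10114 F109252) (tt N12003 F109253) (tt N14037 (iv F139635)) (tt N12003 F109254) (tt N10492 F109255) (tt N10085 (iv D24293)) (tt N12003 F109256) (tt N13472 F136792) (tt N14032 (iv F139613)))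
theorem Q12005 : ∀ i, i < 12005 → P i := stepQ 12004 Q12004 (allL N12004 (tt N10519 F133613) (tt N10115 F109257) (tt N12004 F109258) (tt N14038 (iv F139640)) (tt N12004 F109259) (tt N10101 F109260) (tt N13472 (iv F136790)) (tt N10086 F109261) (tt N10085 (iv D24294)) (tt N13889 (iv F138884)))
theorem Q12006 : ∀ i, i < 12006 → P i := stepQ 12005 Q12005 (allL N12005 (tt N10462 F133619) (tt N10116 F109262) (tt N12005 F109263) (tt N14039 (iv F139645)) (tt N12005 F109264) (tt N10102 F109265) (tt N12005 F109266) (tt N13889 (iv F138883)) (tt N14034 (iv F139623)) (tt N10086 (iv D24295)))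
theorem Q12007 : ∀ i, i < 12007 → P i := stepQ 12006 Q12006 (allL N12006 (tt N14019 (iv F139533)) (tt N14026 (iv F139576)) (tt N10090 F109281) (tt N12006 F109282) (tt N10921 F109283) (tt N14025 (iv F139574)) (tt N10096 F109284) (tt N10088 (iv D24299)) (tt N10489 F109285) (tt N13783 (iv F138418)))
theorem Q12008 : ∀ i, i < 12008 → P i := stepQ 12007 Q12007 (allL N12007 (tt N14020 (iv F139539)) (tt N10118 F109286) (tt N13433 (iv F136563)) (tt N12007 F109287) (tt N10089 (iv D24300)) (tt N10922 F109288) (tt N10292 F109289) (tt N14040 D29967) (tt N14017 (iv F139525)) (tt N13784 (iv F138423)))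
theorem Q12009 : ∀ i, i < 12009 → P i := stepQ 12008 Q12008 (allL N12008 (tt N14021 (iv F139546)) (tt N10119 F109290) (tt N14025 (iv F139572)) (tt N10091 F109291) (tt N14040 (iv F139650)) (tt N10090 F109292) (tt N14041 D29968) (tt N10089 (iv D24301)) (tt N14042 D29969) (tt N13785 (iv F138427)))
theorem Q12010 : ∀ i, i < 12010 → P i := stepQ 12009 Q12009 (allL N12009 (tt N14022 (iv F139551)) (tt N10120 F109293) (tt N14011 (iv F139482)) (tt N10092 F109294) (tt N14017 (iv F139523)) (tt N10491 F109295) (tt N10294 F109296) (tt N14042 (iv F139660)) (tt N10089 (iv D24302)) (tt N14043 D29970))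
theorem Q12011 : ∀ i, i < 12011 → P i := stepQ 12010 Q12010 (allL N12010 (tt N10155 F133610) (tt N10121 F109297) (tt N12010 F109298) (tt N14041 (iv F139654)) (tt N12010 F109299) (tt N10100 F109300) (tt N10091 (iv D24303)) (tt N10135 F133631) (tt N13474 (iv F136806)) (tt N13787 (iv F138437)))
theorem Q12012 : ∀ i, i < 12012 → P i := stepQ 12011 Q12011 (allL N12011 (tt N14023 (iv F139558)) (tt N10122 F109302) (tt N12011 F109303) (tt N14042 (iv F139658)) (tt N12011 F109304) (tt N10493 F109305) (tt N13474 (iv F136804)) (tt N10092 F109306) (tt N10091 (iv D24304)) (tt N14044 D29971))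
theorem Q12013 : ∀ i, i < 12013 → P i := stepQ 12012 Q12012 (allL N12012 (tt N14024 (iv F139565)) (tt N10123 F109307) (tt N12012 F109308) (tt N14043 (iv F139662)) (tt N12012 F109309) (tt N10494 F109310) (tt N10296 F109311) (tt N14044 (iv F139669)) (tt N13789 (iv F138446)) (tt N10092 (iv D24305)))
theorem Q12014 : ∀ i, i < 12014 → P i := stepQ 12013 Q12013 (allL N12013 (tt N10094 F109312) (tt N14018 (iv F139527)) (tt N10124 F109313) (tt N12013 F109314) (tt N10129 F133599) (tt N14017 (iv F139524)) (tt N10093 (iv D24306)) (tt N14045 D29972) (tt N10127 F133600) (tt N13790 (iv F138451)))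
theorem Q12015 : ∀ i, i < 12015 → P i := stepQ 12014 Q12014 (allL N12014 (tt N14017 (iv F139519)) (tt N10095 F109315) (tt N10125 F109316) (tt N12014 F109317) (tt N14022 (iv F139555)) (tt N10094 (iv D24307)) (tt N10297 F109318) (tt N14046 D29973) (tt N14020 F139545) (tt N13791 (iv F138456)))
theorem Q12016 : ∀ i, i < 12016 → P i := stepQ 12015 Q12015 (allL N12015 (tt N14045 (iv F139670)) (tt N10096 F109319) (tt N10126 F109320) (tt N12015 F109321) (tt N10952 F134953) (tt N14046 (iv F139679)) (tt N14026 (iv F139581)) (tt N10094 (iv D24308)) (tt N10951 F134954) (tt N13792 (iv F138461)))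
theorem Q12017 : ∀ i, i < 12017 → P i := stepQ 12016 Q12016 (allL N12016 (tt N10920 (iv F134170)) (tt N14022 (iv F139552)) (tt N10097 F109323) (tt N10311 F133712) (tt N10095 (iv D24309)) (tt N13437 (iv F136591)) (tt N10298 F109324) (tt N14047 D29974) (tt N10306 F133713) (tt N13793 (iv F138465)))
theorem Q12018 : ∀ i, i < 12018 → P i := stepQ 12017 Q12017 (allL N12017 (tt N14026 (iv F139575)) (tt N14046 (iv F139676)) (tt N10098 F109327) (tt N12017 F109328) (tt N14047 (iv F139683)) (tt N10096 F109329) (tt N14045 (iv F139674)) (tt N10095 (iv D24310)) (tt N14048 D29975) (tt N13794 (iv F138470)))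
theorem Q12019 : ∀ i, i < 12019 → P i := stepQ 12018 Q12018 (allL N12018 (tt N10488 (iv F134055)) (tt N14020 (iv F139540)) (tt N10099 F109331) (tt N12018 F109332) (tt N10306 F133614) (tt N14014 (iv F139504)) (tt N10299 F109334) (tt N14048 (iv F139691)) (tt N10095 (iv D24311)) (tt N14049 D29976))
theorem Q12020 : ∀ i, i < 12020 → P i := stepQ 12019 Q12019 (allL N12019 (tt N10939 F133603) (tt N10130 F109335) (tt N14047 (iv F139681)) (tt N10103 F109336) (tt N10098 F109337) (tt N13447 (iv F136650)) (tt N10132 F133714) (tt N10097 (iv D24312)) (tt N10131 F133715) (tt N13796 (iv F138479)))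
theorem Q12021 : ∀ i, i < 12021 → P i := stepQ 12020 Q12020 (allL N12020 (tt N10126 F133608) (tt N10131 F109345) (tt N14045 (iv F139671)) (tt N10100 F109346) (tt N10132 F133636) (tt N14041 (iv F139655)) (tt N10098 (iv D24314)) (tt N10124 F133609) (tt N10130 F133637) (tt N13798 (iv F138491)))
theorem Q12022 : ∀ i, i < 12022 → P i := stepQ 12021 Q12021 (allL N12021 (tt N10501 F133606) (tt N10132 F109348) (tt N14048 (iv F139687)) (tt N10101 F109349) (tt N10131 F133615) (tt N14038 (iv F139641)) (tt N10130 F133616) (tt N10099 F109350) (tt N10098 (iv D24315)) (tt N13883 (iv F138861)))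
theorem Q12023 : ∀ i, i < 12023 → P i := stepQ 12022 Q12022 (allL N12022 (tt N10431 F133607) (tt N10133 F109351) (tt N14049 (iv F139693)) (tt N10102 F109352) (tt N10249 F133617) (tt N14039 (iv F139646)) (tt N10247 F133618) (tt N13883 (iv F138860)) (tt N13800 (iv F138500)) (tt N10099 (iv D24316)))
theorem Q12024 : ∀ i, i < 12024 → P i := stepQ 12023 Q12023 (allL N12023 (tt N10930 F109430) (tt N10434 F134790) (tt N10105 F109431) (tt N10136 F109432) (tt N10409 F134791) (tt N10104 (iv D24332)) (tt N12023 F109433) (tt N14050 D29977) (tt N14051 D29978) (tt N10109 F109434))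
theorem Q12025 : ∀ i, i < 12025 → P i := stepQ 12024 Q12024 (allL N12024 (tt N10931 F109435) (tt N10809 F134692) (tt N10106 F109436) (tt N10137 F109437) (tt N10755 F134693) (tt N14050 (iv F139702)) (tt N10433 F109439) (tt N10104 (iv D24333)) (tt N13847 (iv F138710)) (tt N10110 F109440))
theorem Q12026 : ∀ i, i < 12026 → P i := stepQ 12025 Q12025 (allL N12025 (tt N10932 F109441) (tt N14029 (iv F139595)) (tt N10409 F134863) (tt N12025 F109442) (tt N10105 (iv D24334)) (tt N10408 F134864) (tt N12025 F109444) (tt N14052 D29979) (tt N14053 D29980) (tt N10111 F109445))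
theorem Q12027 : ∀ i, i < 12027 → P i := stepQ 12026 Q12026 (allL N12026 (tt N10933 F109446) (tt N14030 (iv F139601)) (tt N14050 (iv F139699)) (tt N10107 F109447) (tt N14052 (iv F139713)) (tt N10106 F109448) (tt N14054 D29981) (tt N10105 (iv D24335)) (tt N14055 D29982) (tt N10112 F109449))
theorem Q12028 : ∀ i, i < 12028 → P i := stepQ 12027 Q12027 (allL N12027 (tt N10934 F109450) (tt N14031 (iv F139605)) (tt N14051 (iv F139706)) (tt N10108 F109451) (tt N14053 (iv F139719)) (tt N13850 (iv F138721)) (tt N12027 F109452) (tt N14055 (iv F139728)) (tt N10105 (iv D24336)) (tt N14056 D29983))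
theorem Q12029 : ∀ i, i < 12029 → P i := stepQ 12028 Q12028 (allL N12028 (tt N10935 F109453) (tt N14032 (iv F139608)) (tt N10141 F109454) (tt N14054 (iv F139722)) (tt N12028 F109455) (tt N10437 F109456) (tt N10107 (iv D24337)) (tt N12028 F109457) (tt N14057 D29984) (tt N10114 F109458))
theorem Q12030 : ∀ i, i < 12030 → P i := stepQ 12029 Q12029 (allL N12029 (tt N10936 F109459) (tt N14033 (iv F139614)) (tt N10142 F109460) (tt N14055 (iv F139727)) (tt N12029 F109461) (tt N13852 (iv F138728)) (tt N14057 (iv F139736)) (tt N10108 F109462) (tt N10107 (iv D24338)) (tt N14058 D29985))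
theorem Q12031 : ∀ i, i < 12031 → P i := stepQ 12030 Q12030 (allL N12030 (tt N10937 F109463) (tt N14034 (iv F139619)) (tt N10143 F109464) (tt N14056 (iv F139730)) (tt N12030 F109465) (tt N13853 (iv F138732)) (tt N12030 F109466) (tt N14058 (iv F139741)) (tt N10116 F109467) (tt N10108 (iv D24339)))
theorem Q12032 : ∀ i, i < 12032 → P i := stepQ 12031 Q12031 (allL N12031 (tt N10940 F109485) (tt N10505 F134690) (tt N10112 F109486) (tt N10144 F109487) (tt N10490 F134691) (tt N10110 F109488) (tt N14059 D29986) (tt N10109 (iv D24344)) (tt N14060 D29987) (tt N14050 (iv F139703)))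
theorem Q12033 : ∀ i, i < 12033 → P i := stepQ 12032 Q12032 (allL N12032 (tt N10941 F109489) (tt N10506 F134405) (tt N10113 F109490) (tt N10145 F109491) (tt N10491 F134406) (tt N10129 F109492) (tt N12032 F109493) (tt N14060 (iv F139756)) (tt N10109 (iv D24345)) (tt N14061 D29988))
theorem Q12034 : ∀ i, i < 12034 → P i := stepQ 12033 Q12033 (allL N12033 (tt N10942 F109494) (tt N14036 (iv F139629)) (tt N10490 F134860) (tt N12033 F109495) (tt N10112 F109496) (tt N10489 F134861) (tt N14062 D29989) (tt N10111 (iv D24346)) (tt N14063 D29990) (tt N14052 (iv F139715)))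
theorem Q12035 : ∀ i, i < 12035 → P i := stepQ 12034 Q12034 (allL N12034 (tt N10943 F109498) (tt N14012 (iv F139488)) (tt N10491 F134862) (tt N12034 F109499) (tt N10113 F109500) (tt N14011 F139486) (tt N12034 F109501) (tt N14063 (iv F139773)) (tt N10111 (iv D24347)) (tt N14064 D29991))
theorem Q12036 : ∀ i, i < 12036 → P i := stepQ 12035 Q12035 (allL N12035 (tt N10944 F109502) (tt N14037 (iv F139634)) (tt N14059 (iv F139745)) (tt N10114 F109503) (tt N14062 (iv F139767)) (tt N10507 F109504) (tt N10112 (iv D24348)) (tt N12035 F109505) (tt N14065 D29992) (tt N14054 (iv F139725)))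
theorem Q12037 : ∀ i, i < 12037 → P i := stepQ 12036 Q12036 (allL N12036 (tt N10945 F109506) (tt N14038 (iv F139639)) (tt N14060 (iv F139752)) (tt N10115 F109507) (tt N14063 (iv F139772)) (tt N10132 F109508) (tt N14065 (iv F139781)) (tt N10113 F109509) (tt N10112 (iv D24349)) (tt N14066 D29993))
theorem Q12038 : ∀ i, i < 12038 → P i := stepQ 12037 Q12037 (allL N12037 (tt N10946 F109510) (tt N14039 (iv F139644)) (tt N14061 (iv F139759)) (tt N10116 F109511) (tt N14064 (iv F139777)) (tt N10133 F109512) (tt N12037 F109513) (tt N14066 (iv F139786)) (tt N14056 (iv F139732)) (tt N10113 (iv D24350)))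
theorem Q12039 : ∀ i, i < 12039 → P i := stepQ 12038 Q12038 (allL N12038 (tt N10947 F109514) (tt N13472 (iv F136787)) (tt N10151 F109515) (tt N14065 (iv F139780)) (tt N12038 F109516) (tt N13456 (iv F136702)) (tt N10115 F109517) (tt N12038 F109518) (tt N10114 (iv D24351)) (tt N14067 D29994))
theorem Q12040 : ∀ i, i < 12040 → P i := stepQ 12039 Q12039 (allL N12039 (tt N10948 F109519) (tt N13889 (iv F138880)) (tt N10152 F109520) (tt N14066 (iv F139784)) (tt N12039 F109521) (tt N10134 F109522) (tt N14067 (iv F139790)) (tt N10116 F109523) (tt N14058 (iv F139742)) (tt N10115 (iv D24352)))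
theorem Q12041 : ∀ i, i < 12041 → P i := stepQ 12040 Q12040 (allL N12040 (tt N10489 F134842) (tt N14040 (iv F139648)) (tt N10480 F134843) (tt N12040 F109551) (tt N10119 F109552) (tt N10942 F109553) (tt N14013 (iv F139498)) (tt N10118 (iv D24359)) (tt N14019 (iv F139538)) (tt N13867 (iv F138783)))
theorem Q12042 : ∀ i, i < 12042 → P i := stepQ 12041 Q12041 (allL N12041 (tt N10925 (iv F134160)) (tt N14041 (iv F139653)) (tt N10913 F133632) (tt N10121 F109559) (tt N14013 (iv F139497)) (tt N10131 F109560) (tt N10119 (iv D24361)) (tt N10300 F109561) (tt N13435 (iv F136580)) (tt N13869 (iv F138794)))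
theorem Q12043 : ∀ i, i < 12043 → P i := stepQ 12042 Q12042 (allL N12042 (tt N10921 F134844) (tt N14042 (iv F139657)) (tt N10912 F134845) (tt N10122 F109563) (tt N14019 (iv F139536)) (tt N10508 F109564) (tt N13435 (iv F136579)) (tt N10120 F109565) (tt N10119 (iv D24362)) (tt N14068 D29995))
theorem Q12044 : ∀ i, i < 12044 → P i := stepQ 12043 Q12043 (allL N12043 (tt N10915 F134846) (tt N14043 (iv F139661)) (tt N10910 F134847) (tt N10123 F109567) (tt N13736 (iv F138189)) (tt N10509 F109568) (tt N10301 F109569) (tt N14068 (iv F139796)) (tt N13871 (iv F138803)) (tt N10120 (iv D24363)))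
theorem Q12045 : ∀ i, i < 12045 → P i := stepQ 12044 Q12044 (allL N12044 (tt N10949 F109570) (tt N13474 (iv F136801)) (tt N10153 F109571) (tt N13435 (iv F136577)) (tt N12044 F109572) (tt N13457 (iv F136709)) (tt N10122 F109573) (tt N10302 F109574) (tt N10121 (iv D24364)) (tt N14069 D29996))
theorem Q12046 : ∀ i, i < 12046 → P i := stepQ 12045 Q12045 (allL N12045 (tt N10950 F109575) (tt N14044 (iv F139665)) (tt N10154 F109576) (tt N14068 (iv F139794)) (tt N12045 F109577) (tt N10511 F109578) (tt N14069 (iv F139800)) (tt N10123 F109579) (tt N13873 (iv F138813)) (tt N10122 (iv D24365)))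
theorem Q12047 : ∀ i, i < 12047 → P i := stepQ 12046 Q12046 (allL N12046 (tt N10125 F109580) (tt N10300 F133641) (tt N14017 (iv F139521)) (tt N10135 F133635) (tt N14011 (iv F139484)) (tt N10124 (iv D24366)) (tt N10293 F133642) (tt N14041 (iv F139656)) (tt N13433 (iv F136566)) (tt N13874 (iv F138818)))
theorem Q12048 : ∀ i, i < 12048 → P i := stepQ 12047 Q12047 (allL N12047 (tt N14011 (iv F139480)) (tt N10127 F109587) (tt N14022 (iv F139553)) (tt N12047 F109588) (tt N10125 (iv D24368)) (tt N10943 F133857) (tt N10304 F109589) (tt N14070 D29997) (tt N14018 (iv F139532)) (tt N13875 (iv F138823)))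
theorem Q12049 : ∀ i, i < 12049 → P i := stepQ 12048 Q12048 (allL N12048 (tt N14041 (iv F139652)) (tt N10128 F109590) (tt N14046 (iv F139677)) (tt N10155 F109591) (tt N14070 (iv F139804)) (tt N10126 F109592) (tt N14021 (iv F139550)) (tt N10125 (iv D24369)) (tt N14071 D29998) (tt N13876 (iv F138827)))
theorem Q12050 : ∀ i, i < 12050 → P i := stepQ 12049 Q12049 (allL N12049 (tt N13433 (iv F136561)) (tt N10129 F109593) (tt N14020 (iv F139541)) (tt N10156 F109594) (tt N14018 (iv F139530)) (tt N10506 F133858) (tt N10305 F109595) (tt N14071 (iv F139809)) (tt N10125 (iv D24370)) (tt N14072 D29999))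
theorem Q12051 : ∀ i, i < 12051 → P i := stepQ 12050 Q12050 (allL N12050 (tt N10951 F109596) (tt N14070 (iv F139802)) (tt N10130 F109597) (tt N12050 F109598) (tt N10128 F109599) (tt N13463 (iv F136742)) (tt N14048 (iv F139690)) (tt N10127 (iv D24371)) (tt N14045 (iv F139675)) (tt N13878 (iv F138835)))
theorem Q12052 : ∀ i, i < 12052 → P i := stepQ 12051 Q12051 (allL N12051 (tt N10926 (iv F134162)) (tt N14021 (iv F139547)) (tt N10131 F109606) (tt N10157 F109607) (tt N14048 (iv F139689)) (tt N10913 F133669) (tt N10128 (iv D24373)) (tt N10306 F109608) (tt N14047 (iv F139685)) (tt N13880 (iv F138846)))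
theorem Q12053 : ∀ i, i < 12053 → P i := stepQ 12052 Q12052 (allL N12052 (tt N10952 F109609) (tt N14071 (iv F139806)) (tt N10132 F109610) (tt N10158 F109611) (tt N14045 (iv F139673)) (tt N14060 (iv F139755)) (tt N14047 (iv F139684)) (tt N10129 F109612) (tt N10128 (iv D24374)) (tt N14073 D30000))
theorem Q12054 : ∀ i, i < 12054 → P i := stepQ 12053 Q12053 (allL N12053 (tt N10953 F109613) (tt N14072 (iv F139810)) (tt N10133 F109614) (tt N10159 F109615) (tt N13790 (iv F138450)) (tt N14061 (iv F139762)) (tt N10307 F109616) (tt N14073 (iv F139817)) (tt N13882 (iv F138855)) (tt N10129 (iv D24375)))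
theorem Q12055 : ∀ i, i < 12055 → P i := stepQ 12054 Q12054 (allL N12054 (tt N10954 F109637) (tt N13883 (iv F138857)) (tt N14073 (iv F139815)) (tt N10134 F109638) (tt N13798 (iv F138489)) (tt N14066 (iv F139785)) (tt N13796 (iv F138478)) (tt N10133 F109639) (tt N13887 (iv F138875)) (tt N10132 (iv D24381)))
theorem Q12056 : ∀ i, i < 12056 → P i := stepQ 12055 Q12055 (allL N12055 (tt N10958 F109713) (tt N10440 F134710) (tt N10139 F109714) (tt N14050 (iv F139700)) (tt N10413 F134711) (tt N10137 F109715) (tt N14074 D30001) (tt N10136 (iv D24397)) (tt N14075 D30002) (tt N10144 F109716))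
theorem Q12057 : ∀ i, i < 12057 → P i := stepQ 12056 Q12056 (allL N12056 (tt N10959 F109717) (tt N10441 F134815) (tt N10140 F109718) (tt N14051 (iv F139707)) (tt N10414 F134816) (tt N13945 (iv F139157)) (tt N12056 F109719) (tt N14075 (iv F139829)) (tt N10136 (iv D24398)) (tt N14076 D30003))
theorem Q12058 : ∀ i, i < 12058 → P i := stepQ 12057 Q12057 (allL N12057 (tt N10960 F109720) (tt N12057 F109721) (tt N10413 F134915) (tt N12057 F109722) (tt N10139 F109723) (tt N10164 F109724) (tt N14077 D30004) (tt N10138 (iv D24399)) (tt N14078 D30005) (tt N10146 F109725))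
theorem Q12059 : ∀ i, i < 12059 → P i := stepQ 12058 Q12058 (allL N12058 (tt N10961 F109726) (tt N12058 F109727) (tt N10414 F134917) (tt N12058 F109728) (tt N10140 F109729) (tt N11206 F109730) (tt N12058 F109731) (tt N14078 (iv F139850)) (tt N10138 (iv D24400)) (tt N14079 D30006))
theorem Q12060 : ∀ i, i < 12060 → P i := stepQ 12059 Q12059 (allL N12059 (tt N10962 F109732) (tt N12059 F109733) (tt N14074 (iv F139820)) (tt N10141 F109734) (tt N14077 (iv F139840)) (tt N10466 F109735) (tt N10139 (iv D24401)) (tt N12059 F109736) (tt N14080 D30007) (tt N10148 F109737))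
theorem Q12061 : ∀ i, i < 12061 → P i := stepQ 12060 Q12060 (allL N12060 (tt N10963 F109738) (tt N12060 F109739) (tt N14075 (iv F139827)) (tt N10142 F109740) (tt N14078 (iv F139848)) (tt N13949 (iv F139175)) (tt N14080 (iv F139862)) (tt N10140 F109741) (tt N10139 (iv D24402)) (tt N14081 D30008))
theorem Q12062 : ∀ i, i < 12062 → P i := stepQ 12061 Q12061 (allL N12061 (tt N10964 F109742) (tt N12061 F109743) (tt N14076 (iv F139832)) (tt N10143 F109744) (tt N14079 (iv F139855)) (tt N13950 (iv F139180)) (tt N12061 F109745) (tt N14081 (iv F139867)) (tt N10150 F109746) (tt N10140 (iv D24403)))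
theorem Q12063 : ∀ i, i < 12063 → P i := stepQ 12062 Q12062 (allL N12062 (tt N10965 F109747) (tt N12062 F109748) (tt N14057 (iv F139734)) (tt N14080 (iv F139861)) (tt N12062 F109749) (tt N14082 D30009) (tt N10142 F109750) (tt N12062 F109751) (tt N10141 (iv D24404)) (tt N14083 D30010))
theorem Q12064 : ∀ i, i < 12064 → P i := stepQ 12063 Q12063 (allL N12063 (tt N10966 F109752) (tt N12063 F109753) (tt N14058 (iv F139739)) (tt N14081 (iv F139866)) (tt N12063 F109754) (tt N13952 (iv F139187)) (tt N14083 (iv F139876)) (tt N10143 F109755) (tt N10152 F109756) (tt N10142 (iv D24405)))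
theorem Q12065 : ∀ i, i < 12065 → P i := stepQ 12064 Q12064 (allL N12064 (tt N10968 F109791) (tt N10512 F134922) (tt N10148 F109792) (tt N14059 (iv F139746)) (tt N10495 F134923) (tt N10520 F109793) (tt N10144 (iv D24414)) (tt N12064 F109794) (tt N14084 D30011) (tt N14074 (iv F139824)))
theorem Q12066 : ∀ i, i < 12066 → P i := stepQ 12065 Q12065 (allL N12065 (tt N10969 F109795) (tt N10513 F134407) (tt N10149 F109796) (tt N14060 (iv F139753)) (tt N10496 F134408) (tt N10158 F109797) (tt N14084 (iv F139883)) (tt N10145 F109798) (tt N10144 (iv D24415)) (tt N14085 D30012))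
theorem Q12067 : ∀ i, i < 12067 → P i := stepQ 12066 Q12066 (allL N12066 (tt N10970 F109799) (tt N10514 F134409) (tt N10150 F109800) (tt N14061 (iv F139760)) (tt N10497 F134410) (tt N10159 F109801) (tt N12066 F109802) (tt N14085 (iv F139890)) (tt N14076 (iv F139835)) (tt N10145 (iv D24416)))
theorem Q12068 : ∀ i, i < 12068 → P i := stepQ 12067 Q12067 (allL N12067 (tt N10971 F109803) (tt N12067 F109804) (tt N10495 F134913) (tt N12067 F109805) (tt N10148 F109806) (tt N12067 F109807) (tt N10146 (iv D24417)) (tt N12067 F109808) (tt N14086 D30013) (tt N14077 (iv F139843)))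
theorem Q12069 : ∀ i, i < 12069 → P i := stepQ 12068 Q12068 (allL N12068 (tt N10972 F109809) (tt N12068 F109810) (tt N10496 F134914) (tt N12068 F109811) (tt N10149 F109812) (tt N12068 F109813) (tt N14086 (iv F139896)) (tt N10147 F109814) (tt N10146 (iv D24418)) (tt N14087 D30014))
theorem Q12070 : ∀ i, i < 12070 → P i := stepQ 12069 Q12069 (allL N12069 (tt N10973 F109815) (tt N12069 F109816) (tt N10497 F134916) (tt N12069 F109817) (tt N10150 F109818) (tt N12069 F109819) (tt N12069 F109820) (tt N14087 (iv F139904)) (tt N14079 (iv F139858)) (tt N10147 (iv D24419)))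
theorem Q12071 : ∀ i, i < 12071 → P i := stepQ 12070 Q12070 (allL N12070 (tt N10974 F109821) (tt N12070 F109822) (tt N14084 (iv F139881)) (tt N10151 F109823) (tt N14086 (iv F139895)) (tt N14088 D30015) (tt N10149 F109824) (tt N12070 F109825) (tt N10148 (iv D24420)) (tt N14089 D30016))
theorem Q12072 : ∀ i, i < 12072 → P i := stepQ 12071 Q12071 (allL N12071 (tt N10975 F109826) (tt N12071 F109827) (tt N14085 (iv F139887)) (tt N10152 F109828) (tt N14087 (iv F139902)) (tt N10161 F109829) (tt N14089 (iv F139914)) (tt N10150 F109830) (tt N14081 (iv F139868)) (tt N10149 (iv D24421)))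
theorem Q12073 : ∀ i, i < 12073 → P i := stepQ 12072 Q12072 (allL N12072 (tt N10976 F109831) (tt N12072 F109832) (tt N13456 (iv F136700)) (tt N14088 (iv F139907)) (tt N13453 (iv F136679)) (tt N10151 (iv D24422)) (tt N10162 F109833) (tt N12072 F109834) (tt N10525 F109835) (tt N14090 D30017))
theorem Q12074 : ∀ i, i < 12074 → P i := stepQ 12073 Q12073 (allL N12073 (tt N10977 F109836) (tt N12073 F109837) (tt N14067 (iv F139788)) (tt N14089 (iv F139913)) (tt N12073 F109838) (tt N14090 (iv F139918)) (tt N10152 F109839) (tt N12073 F109840) (tt N14083 (iv F139878)) (tt N10151 (iv D24423)))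
theorem Q12075 : ∀ i, i < 12075 → P i := stepQ 12074 Q12074 (allL N12074 (tt N10978 F109915) (tt N12074 F109916) (tt N13457 (iv F136707)) (tt N11322 F134464) (tt N13454 (iv F136686)) (tt N10153 (iv D24440)) (tt N10525 F109917) (tt N10308 F109918) (tt N10162 F109919) (tt N14091 D30018))
theorem Q12076 : ∀ i, i < 12076 → P i := stepQ 12075 Q12075 (allL N12075 (tt N10979 F109920) (tt N12075 F109921) (tt N14069 (iv F139798)) (tt N11321 F134947) (tt N12075 F109922) (tt N14091 (iv F139924)) (tt N10154 F109923) (tt N10309 F109924) (tt N13897 (iv F138921)) (tt N10153 (iv D24441)))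
theorem Q12077 : ∀ i, i < 12077 → P i := stepQ 12076 Q12076 (allL N12076 (tt N13474 (iv F136800)) (tt N10158 F109939) (tt N12076 F109940) (tt N14071 (iv F139807)) (tt N12076 F109941) (tt N10513 F134403) (tt N14023 (iv F139563)) (tt N10156 F109942) (tt N10155 (iv D24445)) (tt N14092 D30019))
theorem Q12078 : ∀ i, i < 12078 → P i := stepQ 12077 Q12077 (allL N12077 (tt N13476 (iv F136811)) (tt N10159 F109943) (tt N12077 F109944) (tt N14072 (iv F139811)) (tt N12077 F109945) (tt N10514 F134404) (tt N10310 F109946) (tt N14092 (iv F139931)) (tt N13972 (iv F139265)) (tt N10156 (iv D24446)))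
theorem Q12079 : ∀ i, i < 12079 → P i := stepQ 12078 Q12078 (allL N12078 (tt N10927 (iv F134174)) (tt N14023 (iv F139559)) (tt N10160 F109948) (tt N14047 (iv F139682)) (tt N12078 F109949) (tt N13439 (iv F136603)) (tt N10158 F109950) (tt N10311 F109951) (tt N10157 (iv D24447)) (tt N14093 D30020))
theorem Q12080 : ∀ i, i < 12080 → P i := stepQ 12079 Q12079 (allL N12079 (tt N10981 F109952) (tt N14092 (iv F139927)) (tt N10161 F109953) (tt N14073 (iv F139816)) (tt N12079 F109954) (tt N14085 (iv F139889)) (tt N14093 (iv F139935)) (tt N10159 F109955) (tt N13974 (iv F139275)) (tt N10158 (iv D24448)))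
theorem Q12081 : ∀ i, i < 12081 → P i := stepQ 12080 Q12080 (allL N12080 (tt N10982 F109956) (tt N12080 F109957) (tt N13439 (iv F136601)) (tt N10162 F109958) (tt N13287 (iv F135716)) (tt N10160 (iv D24449)) (tt N14088 (iv F139908)) (tt N10313 F109959) (tt N11322 F133672) (tt N14094 D30021))
theorem Q12082 : ∀ i, i < 12082 → P i := stepQ 12081 Q12081 (allL N12081 (tt N10983 F109960) (tt N12081 F109961) (tt N14093 (iv F139933)) (tt N10163 F109962) (tt N12081 F109963) (tt N14094 (iv F139940)) (tt N10161 F109964) (tt N10314 F109965) (tt N13976 (iv F139288)) (tt N10160 (iv D24450)))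
theorem Q12083 : ∀ i, i < 12083 → P i := stepQ 12082 Q12082 (allL N12082 (tt N10985 F109970) (tt N12082 F109971) (tt N13363 (iv F136186)) (tt N14094 (iv F139939)) (tt N13362 (iv F136180)) (tt N10163 F109972) (tt N14090 (iv F139919)) (tt N10315 F109973) (tt N13695 (iv F137969)) (tt N10162 (iv D24452)))
theorem Q12084 : ∀ i, i < 12084 → P i := stepQ 12083 Q12083 (allL N12083 (tt N10986 F110040) (tt N12083 F110041) (tt N10330 F134918) (tt N12083 F110042) (tt N10166 F110043) (tt N11229 (iv F110047)) (tt N12083 F110044) (tt N10165 F110045) (tt N10164 (iv D24465)) (tt N12083 F110046))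
theorem Q12085 : ∀ i, i < 12085 → P i := stepQ 12084 Q12084 (allL N12084 (tt N10186 F110139) (tt N14095 D30022) (tt N10167 (iv D24482)) (tt N12084 F110140) (tt N10552 F110141) (tt N10172 F110142) (tt N14096 D30023) (tt N10325 F110143) (tt N13717 (iv F138083)) (tt N12084 F110144))
theorem Q12086 : ∀ i, i < 12086 → P i := stepQ 12085 Q12085 (allL N12085 (tt N10187 F110145) (tt N10343 F110146) (tt N14096 (iv F139949)) (tt N10168 F110147) (tt N10553 F110148) (tt N14097 D30024) (tt N10167 (iv D24483)) (tt N14098 D30025) (tt N13718 (iv F138089)) (tt N12085 F110149))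
theorem Q12087 : ∀ i, i < 12087 → P i := stepQ 12086 Q12086 (allL N12086 (tt N10188 F110150) (tt N10256 (iv F134308)) (tt N12086 F110152) (tt N14097 (iv F139955)) (tt N12086 F110153) (tt N10168 (iv D24484)) (tt N10174 F110154) (tt N14099 D30026) (tt N13900 (iv F138937)) (tt N12086 F110155))
theorem Q12088 : ∀ i, i < 12088 → P i := stepQ 12087 Q12087 (allL N12087 (tt N10189 F110156) (tt N10344 F110157) (tt N12087 F110158) (tt N14098 (iv F139960)) (tt N10169 F110159) (tt N14099 (iv F139968)) (tt N10328 F110160) (tt N10168 (iv D24485)) (tt N13720 (iv F138102)) (tt N12087 F110161))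
theorem Q12089 : ∀ i, i < 12089 → P i := stepQ 12088 Q12088 (allL N12088 (tt N10190 F110162) (tt N14100 D30027) (tt N10170 (iv D24486)) (tt N12088 F110163) (tt N12088 F110164) (tt N10325 F110165) (tt N14101 D30028) (tt N10172 F110166) (tt N10175 F110167) (tt N12088 F110168))
theorem Q12090 : ∀ i, i < 12090 → P i := stepQ 12089 Q12089 (allL N12089 (tt N10191 F110169) (tt N10230 F133752) (tt N14101 (iv F139982)) (tt N10171 F110171) (tt N12089 F110172) (tt N14102 D30029) (tt N10170 (iv D24487)) (tt N10228 F133753) (tt N10176 F110173) (tt N12089 F110174))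
theorem Q12091 : ∀ i, i < 12091 → P i := stepQ 12090 Q12090 (allL N12090 (tt N10192 F110175) (tt N10270 (iv F134284)) (tt N12090 F110177) (tt N14102 (iv F139990)) (tt N10316 F110178) (tt N10171 (iv D24488)) (tt N10327 F110179) (tt N10269 (iv F134440)) (tt N14103 D30030) (tt N12090 F110180))
theorem Q12092 : ∀ i, i < 12092 → P i := stepQ 12091 Q12091 (allL N12091 (tt N14101 (iv F139980)) (tt N10172 (iv D24490)) (tt N10191 F134980) (tt N12091 F110189) (tt N12091 F110190) (tt N14095 (iv F139945)) (tt N10190 F134981) (tt N14100 (iv F139976)) (tt N10178 F110191) (tt N12091 F110192))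
theorem Q12093 : ∀ i, i < 12093 → P i := stepQ 12092 Q12092 (allL N12092 (tt N10195 F110193) (tt N10190 F133760) (tt N10173 F110194) (tt N12092 F110195) (tt N12092 F110196) (tt N14104 D30031) (tt N10172 (iv D24491)) (tt N10194 F133761) (tt N10179 F110197) (tt N12092 F110198))
theorem Q12094 : ∀ i, i < 12094 → P i := stepQ 12093 Q12093 (allL N12093 (tt N10196 F110199) (tt N10215 (iv F134306)) (tt N14104 (iv F140004)) (tt N10174 F110201) (tt N13490 (iv F136895)) (tt N10173 (iv D24492)) (tt N14097 (iv F139956)) (tt N10219 F133764) (tt N13811 (iv F138552)) (tt N12093 F110202))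
theorem Q12095 : ∀ i, i < 12095 → P i := stepQ 12094 Q12094 (allL N12094 (tt N10205 F133780) (tt N10175 (iv D24496)) (tt N10201 F133776) (tt N12094 F110221) (tt N12094 F110222) (tt N13735 (iv F138183)) (tt N10204 F133781) (tt N10178 F110223) (tt N14100 (iv F139977)) (tt N10288 F110224))
theorem Q12096 : ∀ i, i < 12096 → P i := stepQ 12095 Q12095 (allL N12095 (tt N10178 (iv F134314)) (tt N10204 F133748) (tt N10176 F110226) (tt N12095 F110227) (tt N12095 F110228) (tt N13741 (iv F138218)) (tt N10175 (iv D24497)) (tt N10205 F133749) (tt N14101 (iv F139986)) (tt N10289 F110229))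
theorem Q12097 : ∀ i, i < 12097 → P i := stepQ 12096 Q12096 (allL N12096 (tt N10200 F110230) (tt N10245 F133750) (tt N13741 (iv F138215)) (tt N10177 F110232) (tt N14105 D30032) (tt N10176 (iv D24498)) (tt N13737 (iv F138194)) (tt N10243 F133751) (tt N14106 D30033) (tt N10290 F110233))
theorem Q12098 : ∀ i, i < 12098 → P i := stepQ 12097 Q12097 (allL N12097 (tt N10203 F110246) (tt N10280 F133769) (tt N12097 F110248) (tt N14106 (iv F140018)) (tt N12097 F110249) (tt N14103 (iv F139999)) (tt N13740 (iv F138213)) (tt N10278 F133770) (tt N10177 (iv D24501)) (tt N14107 D30034))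
theorem Q12099 : ∀ i, i < 12099 → P i := stepQ 12098 Q12098 (allL N12098 (tt N10552 F110362) (tt N14108 D30035) (tt N10180 (iv D24522)) (tt N11042 F110363) (tt N10186 F110364) (tt N12098 F110365) (tt N14109 D30036) (tt N10532 F110366) (tt N13531 (iv F137142)) (tt N12098 F110367))
theorem Q12100 : ∀ i, i < 12100 → P i := stepQ 12099 Q12099 (allL N12099 (tt N10553 F110368) (tt N10212 F110369) (tt N14109 (iv F140033)) (tt N10181 F110370) (tt N10187 F110371) (tt N14110 D30037) (tt N10180 (iv D24523)) (tt N14111 D30038) (tt N13532 (iv F137148)) (tt N12099 F110372))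
theorem Q12101 : ∀ i, i < 12101 → P i := stepQ 12100 Q12100 (allL N12100 (tt N10554 F110373) (tt N10213 F110374) (tt N11044 F110375) (tt N14110 (iv F140039)) (tt N12100 F110376) (tt N10181 (iv D24524)) (tt N12100 F110377) (tt N14112 D30039) (tt N14113 D30040) (tt N12100 F110378))
theorem Q12102 : ∀ i, i < 12102 → P i := stepQ 12101 Q12101 (allL N12101 (tt N10555 F110379) (tt N10214 F110380) (tt N11045 F110381) (tt N14111 (iv F140044)) (tt N10182 F110382) (tt N14112 (iv F140052)) (tt N10535 F110383) (tt N10181 (iv D24525)) (tt N13534 (iv F137161)) (tt N12101 F110384))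
theorem Q12103 : ∀ i, i < 12103 → P i := stepQ 12102 Q12102 (allL N12102 (tt N10325 F110385) (tt N14104 (iv F140003)) (tt N10183 (iv D24526)) (tt N12102 F110386) (tt N10532 F110387) (tt N10190 F110388) (tt N14114 D30041) (tt N10186 F110389) (tt N13748 (iv F138262)) (tt N12102 F110390))
theorem Q12104 : ∀ i, i < 12104 → P i := stepQ 12103 Q12103 (allL N12103 (tt N10326 F110391) (tt N10216 F110392) (tt N14114 (iv F140060)) (tt N10184 F110393) (tt N10533 F110394) (tt N14115 D30042) (tt N10183 (iv D24527)) (tt N14116 D30043) (tt N13749 (iv F138268)) (tt N12103 F110395))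
theorem Q12105 : ∀ i, i < 12105 → P i := stepQ 12104 Q12104 (allL N12104 (tt N10327 F110396) (tt N10217 F110397) (tt N12104 F110398) (tt N14115 (iv F140066)) (tt N10320 F110399) (tt N10184 (iv D24528)) (tt N10192 F110400) (tt N14117 D30044) (tt N14118 D30045) (tt N12104 F110401))
theorem Q12106 : ∀ i, i < 12106 → P i := stepQ 12105 Q12105 (allL N12105 (tt N10328 F110402) (tt N10218 F110403) (tt N12105 F110404) (tt N14116 (iv F140072)) (tt N10185 F110405) (tt N14117 (iv F140080)) (tt N10189 F110406) (tt N10184 (iv D24529)) (tt N13751 (iv F138281)) (tt N12105 F110407))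
theorem Q12107 : ∀ i, i < 12107 → P i := stepQ 12106 Q12106 (allL N12106 (tt N14119 D30046) (tt N10186 (iv D24530)) (tt N10219 F110408) (tt N12106 F110409) (tt N14108 (iv F140028)) (tt N10194 F110410) (tt N14120 D30047) (tt N14104 (iv F140006)) (tt N13752 (iv F138286)) (tt N12106 F110411))
theorem Q12108 : ∀ i, i < 12108 → P i := stepQ 12107 Q12107 (allL N12107 (tt N14096 (iv F139948)) (tt N14120 (iv F140093)) (tt N10187 F110412) (tt N12107 F110413) (tt N14109 (iv F140035)) (tt N14121 D30048) (tt N10186 (iv D24531)) (tt N14122 D30049) (tt N13753 (iv F138290)) (tt N12107 F110414))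
theorem Q12109 : ∀ i, i < 12109 → P i := stepQ 12108 Q12108 (allL N12108 (tt N14097 (iv F139953)) (tt N10221 F110415) (tt N14121 (iv F140097)) (tt N10188 F110416) (tt N14123 D30050) (tt N10187 (iv D24532)) (tt N10196 F110417) (tt N14124 D30051) (tt N14125 D30052) (tt N12108 F110418))
theorem Q12110 : ∀ i, i < 12110 → P i := stepQ 12109 Q12109 (allL N12109 (tt N14098 (iv F139958)) (tt N10222 F110419) (tt N14122 (iv F140101)) (tt N10189 F110420) (tt N14111 (iv F140045)) (tt N14124 (iv F140110)) (tt N14116 (iv F140074)) (tt N10187 (iv D24533)) (tt N13755 (iv F138296)) (tt N12109 F110421))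
theorem Q12111 : ∀ i, i < 12111 → P i := stepQ 12110 Q12110 (allL N12110 (tt N14099 (iv F139964)) (tt N10223 F110422) (tt N12110 F110423) (tt N14124 (iv F140109)) (tt N12110 F110424) (tt N10189 F110425) (tt N14126 D30053) (tt N10188 (iv D24534)) (tt N14127 D30054) (tt N12110 F110426))
theorem Q12112 : ∀ i, i < 12112 → P i := stepQ 12111 Q12111 (allL N12111 (tt N13900 (iv F138933)) (tt N10224 F110427) (tt N12111 F110428) (tt N14125 (iv F140113)) (tt N12111 F110429) (tt N13757 (iv F138302)) (tt N10199 F110430) (tt N14127 (iv F140125)) (tt N10188 (iv D24535)) (tt N14128 D30055))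
theorem Q12113 : ∀ i, i < 12113 → P i := stepQ 12112 Q12112 (allL N12112 (tt N14102 (iv F139988)) (tt N10225 F110468) (tt N14095 (iv F139942)) (tt N10192 F110469) (tt N10590 F134982) (tt N10191 (iv D24542)) (tt N14115 (iv F140067)) (tt N10345 F134983) (tt N14129 D30056) (tt N12112 F110470))
theorem Q12114 : ∀ i, i < 12114 → P i := stepQ 12113 Q12113 (allL N12113 (tt N10228 F133783) (tt N10226 F110471) (tt N14100 (iv F139972)) (tt N10193 F110472) (tt N12113 F110473) (tt N10345 F133777) (tt N10197 F110474) (tt N10191 (iv D24543)) (tt N10201 F110475) (tt N12113 F110476))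
theorem Q12115 : ∀ i, i < 12115 → P i := stepQ 12114 Q12114 (allL N12114 (tt N14103 (iv F139995)) (tt N10227 F110481) (tt N12114 F110482) (tt N14129 (iv F140133)) (tt N10373 F135119) (tt N10203 F110483) (tt N14118 (iv F140087)) (tt N10361 F135120) (tt N10192 (iv D24545)) (tt N13621 (iv F137590)))
theorem Q12116 : ∀ i, i < 12116 → P i := stepQ 12115 Q12115 (allL N12115 (tt N10194 (iv D24546)) (tt N14101 (iv F139981)) (tt N10197 F133785) (tt N12115 F110485) (tt N12115 F110486) (tt N14119 (iv F140090)) (tt N14100 F139979) (tt N10195 F133786) (tt N10204 F110487) (tt N12115 F110488))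
theorem Q12117 : ∀ i, i < 12117 → P i := stepQ 12116 Q12116 (allL N12116 (tt N14100 (iv F139971)) (tt N10195 F110489) (tt N10228 F110490) (tt N12116 F110491) (tt N12116 F110492) (tt N14130 D30057) (tt N10194 (iv D24547)) (tt N14101 (iv F139985)) (tt N10205 F110493) (tt N12116 F110494))
theorem Q12118 : ∀ i, i < 12118 → P i := stepQ 12117 Q12117 (allL N12117 (tt N14104 (iv F140002)) (tt N14130 (iv F140138)) (tt N10196 F110495) (tt N12117 F110496) (tt N14131 D30058) (tt N10195 (iv D24548)) (tt N14121 (iv F140099)) (tt N14119 (iv F140091)) (tt N14132 D30059) (tt N12117 F110497))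
theorem Q12119 : ∀ i, i < 12119 → P i := stepQ 12118 Q12118 (allL N12118 (tt N13490 (iv F136892)) (tt N10231 F110503) (tt N14131 (iv F140145)) (tt N12118 F110504) (tt N10196 (iv D24550)) (tt N12118 F110505) (tt N14123 (iv F140106)) (tt N14133 D30060) (tt N14134 D30061) (tt N12118 F110506))
theorem Q12120 : ∀ i, i < 12120 → P i := stepQ 12119 Q12119 (allL N12119 (tt N10219 F133787) (tt N10232 F110507) (tt N14119 (iv F140088)) (tt N10198 F110508) (tt N14133 (iv F140155)) (tt N10197 F110509) (tt N14135 D30062) (tt N10196 (iv D24551)) (tt N13822 (iv F138603)) (tt N12119 F110510))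
theorem Q12121 : ∀ i, i < 12121 → P i := stepQ 12120 Q12120 (allL N12120 (tt N13811 (iv F138548)) (tt N10233 F110511) (tt N14132 (iv F140149)) (tt N10199 F110512) (tt N14134 (iv F140160)) (tt N10208 F110513) (tt N14125 (iv F140114)) (tt N13822 (iv F138602)) (tt N10196 (iv D24552)) (tt N14136 D30063))
theorem Q12122 : ∀ i, i < 12122 → P i := stepQ 12121 Q12121 (allL N12121 (tt N10260 F133788) (tt N10234 F110514) (tt N12121 F110515) (tt N14135 (iv F140163)) (tt N12121 F110516) (tt N10367 F133789) (tt N10198 (iv D24553)) (tt N14126 (iv F140120)) (tt N13914 (iv F139011)) (tt N12121 F110517))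
theorem Q12123 : ∀ i, i < 12123 → P i := stepQ 12122 Q12122 (allL N12122 (tt N10447 F133775) (tt N10236 F110523) (tt N12122 F110524) (tt N14136 (iv F140168)) (tt N12122 F110525) (tt N10209 F110526) (tt N14128 (iv F140130)) (tt N10253 F133842) (tt N12122 F110527) (tt N10199 (iv D24555)))
theorem Q12124 : ∀ i, i < 12124 → P i := stepQ 12123 Q12123 (allL N12123 (tt N14105 (iv F140009)) (tt N10237 F110546) (tt N13339 (iv F136051)) (tt N12123 F110547) (tt N10200 (iv D24560)) (tt N12123 F110548) (tt N13784 (iv F138422)) (tt N14005 (iv F139450)) (tt N14137 D30064) (tt N10292 F110549))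
theorem Q12125 : ∀ i, i < 12125 → P i := stepQ 12124 Q12124 (allL N12124 (tt N10243 F133782) (tt N10238 F110550) (tt N13735 (iv F138180)) (tt N10202 F110551) (tt N14005 (iv F139448)) (tt N10201 F110552) (tt N13874 (iv F138817)) (tt N10200 (iv D24561)) (tt N14138 D30065) (tt N10293 F110553))
theorem Q12126 : ∀ i, i < 12126 → P i := stepQ 12125 Q12125 (allL N12125 (tt N14106 (iv F140016)) (tt N10239 F110554) (tt N13729 (iv F138156)) (tt N10203 F110555) (tt N14137 (iv F140174)) (tt N14129 (iv F140135)) (tt N13786 (iv F138430)) (tt N14138 (iv F140179)) (tt N10200 (iv D24562)) (tt N14139 D30066))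
theorem Q12127 : ∀ i, i < 12127 → P i := stepQ 12126 Q12126 (allL N12126 (tt N10278 F133784) (tt N10241 F110561) (tt N12126 F110562) (tt N14138 (iv F140177)) (tt N12126 F110563) (tt N10361 F133778) (tt N13970 (iv F139256)) (tt N10203 F110564) (tt N10202 (iv D24564)) (tt N13894 (iv F138905)))
theorem Q12128 : ∀ i, i < 12128 → P i := stepQ 12127 Q12127 (allL N12127 (tt N14107 (iv F140020)) (tt N10242 F110565) (tt N12127 F110566) (tt N14139 (iv F140181)) (tt N12127 F110567) (tt N13621 (iv F137587)) (tt N13789 (iv F138445)) (tt N13894 (iv F138903)) (tt N10296 F110568) (tt N10203 (iv D24565)))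
theorem Q12129 : ∀ i, i < 12129 → P i := stepQ 12128 Q12128 (allL N12128 (tt N13735 (iv F138179)) (tt N10206 F110574) (tt N10243 F110575) (tt N12128 F110576) (tt N14140 D30067) (tt N10205 (iv D24567)) (tt N13791 (iv F138455)) (tt N13741 (iv F138219)) (tt N14141 D30068) (tt N10297 F110577))
theorem Q12130 : ∀ i, i < 12130 → P i := stepQ 12129 Q12129 (allL N12129 (tt N10914 (iv F134208)) (tt N14140 (iv F140184)) (tt N10207 F110584) (tt N10312 F133836) (tt N10206 (iv D24569)) (tt N12129 F110585) (tt N13793 (iv F138464)) (tt N10307 F133837) (tt N14142 D30069) (tt N10298 F110586))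
theorem Q12131 : ∀ i, i < 12131 → P i := stepQ 12130 Q12130 (allL N12130 (tt N13762 F138336) (tt N14141 (iv F140190)) (tt N10208 F110592) (tt N12130 F110593) (tt N14142 (iv F140196)) (tt N14132 (iv F140151)) (tt N13795 (iv F138473)) (tt N13773 (iv F138383)) (tt N10206 (iv D24571)) (tt N14143 D30070))
theorem Q12132 : ∀ i, i < 12132 → P i := stepQ 12131 Q12131 (allL N12131 (tt N10787 F133773) (tt N10248 F110599) (tt N14142 (iv F140194)) (tt N10210 F110600) (tt N10208 F110601) (tt N14144 D30071) (tt N13797 (iv F138484)) (tt N10251 F133838) (tt N10207 (iv D24573)) (tt N10250 F133839))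
theorem Q12133 : ∀ i, i < 12133 → P i := stepQ 12132 Q12132 (allL N12132 (tt N10425 F133774) (tt N10251 F110608) (tt N14143 (iv F140200)) (tt N10209 F110609) (tt N10250 F133804) (tt N14136 (iv F140169)) (tt N13800 (iv F138499)) (tt N10248 F133805) (tt N10247 F133806) (tt N10208 (iv D24576)))
theorem Q12134 : ∀ i, i < 12134 → P i := stepQ 12133 Q12133 (allL N12133 (tt N10828 F133807) (tt N10253 F110656) (tt N10276 (iv F134459)) (tt N14144 (iv F140207)) (tt N12133 F110657) (tt N10210 (iv D24586)) (tt N14145 D30072) (tt N10236 F133840) (tt N12133 F110658) (tt N10235 F133841))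
theorem Q12135 : ∀ i, i < 12135 → P i := stepQ 12134 Q12134 (allL N12134 (tt N14133 (iv F140152)) (tt N10211 (iv D24592)) (tt N14108 (iv F140026)) (tt N12134 F110680) (tt N10219 F110681) (tt N12134 F110682) (tt N14146 D30073) (tt N13490 (iv F136897)) (tt N13805 (iv F138529)) (tt N12134 F110683))
theorem Q12136 : ∀ i, i < 12136 → P i := stepQ 12135 Q12135 (allL N12135 (tt N10995 F110684) (tt N14146 (iv F140217)) (tt N10212 F110685) (tt N12135 F110686) (tt N10220 F110687) (tt N14147 D30074) (tt N10211 (iv D24593)) (tt N14148 D30075) (tt N13806 (iv F138535)) (tt N12135 F110688))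
theorem Q12137 : ∀ i, i < 12137 → P i := stepQ 12136 Q12136 (allL N12136 (tt N10996 F110689) (tt N14110 (iv F140038)) (tt N14147 (iv F140222)) (tt N10213 F110690) (tt N14149 D30076) (tt N10212 (iv D24594)) (tt N12136 F110691) (tt N14150 D30077) (tt N14151 D30078) (tt N12136 F110692))
theorem Q12138 : ∀ i, i < 12138 → P i := stepQ 12137 Q12137 (allL N12137 (tt N10997 F110693) (tt N14111 (iv F140043)) (tt N14148 (iv F140227)) (tt N10214 F110694) (tt N10222 F110695) (tt N14150 (iv F140238)) (tt N13493 (iv F136916)) (tt N10212 (iv D24595)) (tt N13808 (iv F138541)) (tt N12137 F110696))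
theorem Q12139 : ∀ i, i < 12139 → P i := stepQ 12138 Q12138 (allL N12138 (tt N10998 F110697) (tt N14112 (iv F140049)) (tt N12138 F110698) (tt N14150 (iv F140237)) (tt N12138 F110699) (tt N10214 F110700) (tt N14152 D30079) (tt N10213 (iv D24596)) (tt N14153 D30080) (tt N12138 F110701))
theorem Q12140 : ∀ i, i < 12140 → P i := stepQ 12139 Q12139 (allL N12139 (tt N10999 F110702) (tt N14113 (iv F140055)) (tt N12139 F110703) (tt N14151 (iv F140241)) (tt N12139 F110704) (tt N13810 (iv F138547)) (tt N12139 F110705) (tt N14153 (iv F140251)) (tt N10213 (iv D24597)) (tt N14154 D30081))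
theorem Q12141 : ∀ i, i < 12141 → P i := stepQ 12140 Q12140 (allL N12140 (tt N10989 F134988) (tt N14097 (iv F139954)) (tt N10216 F110711) (tt N10256 F110712) (tt N13491 (iv F136902)) (tt N10343 F134989) (tt N10215 (iv D24599)) (tt N14155 D30082) (tt N13812 (iv F138557)) (tt N12140 F110713))
theorem Q12142 : ∀ i, i < 12142 → P i := stepQ 12141 Q12141 (allL N12141 (tt N10988 F134985) (tt N14115 (iv F140065)) (tt N10343 F134986) (tt N10217 F110715) (tt N10591 F134987) (tt N10216 (iv D24600)) (tt N10225 F110716) (tt N14156 D30083) (tt N14157 D30084) (tt N12141 F110717))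
theorem Q12143 : ∀ i, i < 12143 → P i := stepQ 12142 Q12142 (allL N12142 (tt N11000 F110718) (tt N14116 (iv F140071)) (tt N14155 (iv F140258)) (tt N10218 F110719) (tt N13493 (iv F136915)) (tt N14156 (iv F140267)) (tt N10222 F110720) (tt N10216 (iv D24601)) (tt N13814 (iv F138566)) (tt N12142 F110721))
theorem Q12144 : ∀ i, i < 12144 → P i := stepQ 12143 Q12143 (allL N12143 (tt N11001 F110722) (tt N14117 (iv F140077)) (tt N10258 F110723) (tt N14156 (iv F140265)) (tt N10386 F135136) (tt N10218 F110724) (tt N10368 F135137) (tt N10217 (iv D24602)) (tt N14158 D30085) (tt N12143 F110725))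
theorem Q12145 : ∀ i, i < 12145 → P i := stepQ 12144 Q12144 (allL N12144 (tt N11002 F110726) (tt N14118 (iv F140084)) (tt N10259 F110727) (tt N14157 (iv F140272)) (tt N10374 F135138) (tt N13816 (iv F138574)) (tt N10227 F110728) (tt N14158 (iv F140279)) (tt N10217 (iv D24603)) (tt N13622 (iv F137595)))
theorem Q12146 : ∀ i, i < 12146 → P i := stepQ 12145 Q12145 (allL N12145 (tt N14135 (iv F140161)) (tt N10220 F110733) (tt N14120 (iv F140094)) (tt N10260 F110734) (tt N14146 (iv F140219)) (tt N14159 D30086) (tt N10219 (iv D24605)) (tt N14160 D30087) (tt N13823 (iv F138607)) (tt N12145 F110735))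
theorem Q12147 : ∀ i, i < 12147 → P i := stepQ 12146 Q12146 (allL N12146 (tt N11004 F110736) (tt N14159 (iv F140281)) (tt N10221 F110737) (tt N10261 F110738) (tt N13578 (iv F137376)) (tt N10220 (iv D24606)) (tt N10229 F110739) (tt N14161 D30088) (tt N14162 D30089) (tt N12146 F110740))
theorem Q12148 : ∀ i, i < 12148 → P i := stepQ 12147 Q12147 (allL N12147 (tt N11005 F110741) (tt N14160 (iv F140286)) (tt N10222 F110742) (tt N10262 F110743) (tt N14148 (iv F140229)) (tt N14161 (iv F140292)) (tt N14155 (iv F140261)) (tt N10220 (iv D24607)) (tt N13825 (iv F138616)) (tt N12147 F110744))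
theorem Q12149 : ∀ i, i < 12149 → P i := stepQ 12148 Q12148 (allL N12148 (tt N11006 F110745) (tt N14123 (iv F140104)) (tt N13578 (iv F137374)) (tt N12148 F110746) (tt N10221 (iv D24608)) (tt N14149 (iv F140233)) (tt N10231 F110747) (tt N14163 D30090) (tt N14164 D30091) (tt N12148 F110748))
theorem Q12150 : ∀ i, i < 12150 → P i := stepQ 12149 Q12149 (allL N12149 (tt N11007 F110749) (tt N14124 (iv F140108)) (tt N14161 (iv F140290)) (tt N10223 F110750) (tt N14163 (iv F140301)) (tt N10222 F110751) (tt N14165 D30092) (tt N10221 (iv D24609)) (tt N14166 D30093) (tt N12149 F110752))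
theorem Q12151 : ∀ i, i < 12151 → P i := stepQ 12150 Q12150 (allL N12150 (tt N11008 F110753) (tt N14125 (iv F140112)) (tt N14162 (iv F140296)) (tt N10224 F110754) (tt N14164 (iv F140305)) (tt N13828 (iv F138624)) (tt N10233 F110755) (tt N14166 (iv F140315)) (tt N10221 (iv D24610)) (tt N14167 D30094))
theorem Q12152 : ∀ i, i < 12152 → P i := stepQ 12151 Q12151 (allL N12151 (tt N11009 F110756) (tt N14126 (iv F140116)) (tt N10266 F110757) (tt N14165 (iv F140309)) (tt N12151 F110758) (tt N10368 F133824) (tt N10223 (iv D24611)) (tt N10234 F110759) (tt N14168 D30095) (tt N12151 F110760))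
theorem Q12153 : ∀ i, i < 12153 → P i := stepQ 12152 Q12152 (allL N12152 (tt N11010 F110761) (tt N14127 (iv F140122)) (tt N10267 F110762) (tt N14166 (iv F140314)) (tt N12152 F110763) (tt N13830 (iv F138631)) (tt N14168 (iv F140323)) (tt N10224 F110764) (tt N10223 (iv D24612)) (tt N14169 D30096))
theorem Q12154 : ∀ i, i < 12154 → P i := stepQ 12153 Q12153 (allL N12153 (tt N11011 F110765) (tt N14128 (iv F140127)) (tt N10268 F110766) (tt N14167 (iv F140317)) (tt N12153 F110767) (tt N13831 (iv F138635)) (tt N10236 F110768) (tt N14169 (iv F140328)) (tt N12153 F110769) (tt N10224 (iv D24613)))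
theorem Q12155 : ∀ i, i < 12155 → P i := stepQ 12154 Q12154 (allL N12154 (tt N10731 F134833) (tt N14129 (iv F140132)) (tt N10336 F134834) (tt N10227 F110830) (tt N10576 F134835) (tt N10239 F110831) (tt N14157 (iv F140274)) (tt N10339 F134836) (tt N10225 (iv D24626)) (tt N13541 (iv F137193)))
theorem Q12156 : ∀ i, i < 12156 → P i := stepQ 12155 Q12155 (allL N12155 (tt N10345 F135126) (tt N10229 F110850) (tt N14130 (iv F140139)) (tt N10269 F110851) (tt N10596 F135127) (tt N10228 (iv D24631)) (tt N14159 (iv F140283)) (tt N14102 (iv F139992)) (tt N14170 D30097) (tt N12155 F110852))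
theorem Q12157 : ∀ i, i < 12157 → P i := stepQ 12156 Q12156 (allL N12156 (tt N10987 (iv F134292)) (tt N14102 (iv F139989)) (tt N10232 F110863) (tt N10270 F110864) (tt N13571 (iv F137334)) (tt N10230 F110865) (tt N10347 F133803) (tt N10229 (iv D24634)) (tt N14171 D30098) (tt N12156 F110866))
theorem Q12158 : ∀ i, i < 12158 → P i := stepQ 12157 Q12157 (allL N12157 (tt N11012 F110867) (tt N14170 (iv F140331)) (tt N10233 F110868) (tt N10271 F110869) (tt N13561 (iv F137297)) (tt N10246 F110870) (tt N14162 (iv F140298)) (tt N14171 (iv F140340)) (tt N10229 (iv D24635)) (tt N14172 D30099))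
theorem Q12159 : ∀ i, i < 12159 → P i := stepQ 12158 Q12158 (allL N12158 (tt N10994 F135005) (tt N14133 (iv F140153)) (tt N13571 (iv F137332)) (tt N12158 F110872) (tt N10232 F110873) (tt N12158 F110874) (tt N14173 D30100) (tt N10231 (iv D24636)) (tt N14174 D30101) (tt N12158 F110875))
theorem Q12160 : ∀ i, i < 12160 → P i := stepQ 12159 Q12159 (allL N12159 (tt N11013 F110876) (tt N14134 (iv F140158)) (tt N13561 (iv F137295)) (tt N12159 F110877) (tt N10233 F110878) (tt N14175 D30102) (tt N14164 (iv F140306)) (tt N14174 (iv F140355)) (tt N10231 (iv D24637)) (tt N14176 D30103))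
theorem Q12161 : ∀ i, i < 12161 → P i := stepQ 12160 Q12160 (allL N12160 (tt N11003 F134443) (tt N14135 (iv F140162)) (tt N10347 F134444) (tt N10234 F110880) (tt N14173 (iv F140349)) (tt N10346 F134445) (tt N10232 (iv D24638)) (tt N14165 (iv F140311)) (tt N14177 D30104) (tt N12160 F110881))
theorem Q12162 : ∀ i, i < 12162 → P i := stepQ 12161 Q12161 (allL N12161 (tt N10773 F134769) (tt N13822 (iv F138599)) (tt N14171 (iv F140336)) (tt N10235 F110883) (tt N14174 (iv F140354)) (tt N10250 F110884) (tt N14177 (iv F140367)) (tt N10233 F110885) (tt N10232 (iv D24639)) (tt N14144 (iv F140210)))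
theorem Q12163 : ∀ i, i < 12163 → P i := stepQ 12162 Q12162 (allL N12162 (tt N11014 F110886) (tt N14136 (iv F140167)) (tt N14172 (iv F140342)) (tt N10236 F110887) (tt N14176 (iv F140362)) (tt N10251 F110888) (tt N14167 (iv F140318)) (tt N14144 (iv F140208)) (tt N12162 F110889) (tt N10233 (iv D24640)))
theorem Q12164 : ∀ i, i < 12164 → P i := stepQ 12163 Q12163 (allL N12163 (tt N10834 (iv F134123)) (tt N13914 (iv F139008)) (tt N10275 F110891) (tt N14177 (iv F140366)) (tt N12163 F110892) (tt N14178 D30105) (tt N10235 F110893) (tt N14168 (iv F140324)) (tt N10234 (iv D24641)) (tt N14145 (iv F140216)))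
theorem Q12165 : ∀ i, i < 12165 → P i := stepQ 12164 Q12164 (allL N12164 (tt N10403 F134827) (tt N14137 (iv F140172)) (tt N10390 F134828) (tt N12164 F110931) (tt N10239 F110932) (tt N13758 (iv F138307)) (tt N13868 (iv F138788)) (tt N13725 (iv F138134)) (tt N10237 (iv D24650)) (tt N13721 (iv F138110)))
theorem Q12166 : ∀ i, i < 12166 → P i := stepQ 12165 Q12165 (allL N12165 (tt N10749 (iv F134086)) (tt N13874 (iv F138815)) (tt N10728 F133796) (tt N10240 F110934) (tt N14006 (iv F139455)) (tt N10249 F110935) (tt N10238 (iv D24651)) (tt N13869 (iv F138793)) (tt N14179 D30106) (tt N10300 F110936))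
theorem Q12167 : ∀ i, i < 12167 → P i := stepQ 12166 Q12166 (allL N12166 (tt N10735 (iv F134087)) (tt N14138 (iv F140176)) (tt N10333 F133797) (tt N10241 F110938) (tt N13725 (iv F138132)) (tt N10339 F133798) (tt N14179 (iv F140375)) (tt N10239 F110939) (tt N10238 (iv D24652)) (tt N13335 (iv F136030)))
theorem Q12168 : ∀ i, i < 12168 → P i := stepQ 12167 Q12167 (allL N12167 (tt N10739 F134837) (tt N14139 (iv F140180)) (tt N10722 F134838) (tt N10242 F110941) (tt N13721 (iv F138106)) (tt N13541 (iv F137190)) (tt N13871 (iv F138802)) (tt N13335 (iv F136028)) (tt N10301 F110942) (tt N10239 (iv D24653)))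
theorem Q12169 : ∀ i, i < 12169 → P i := stepQ 12168 Q12168 (allL N12168 (tt N10876 (iv F134130)) (tt N13970 (iv F139253)) (tt N10277 F110944) (tt N14179 (iv F140374)) (tt N12168 F110945) (tt N14180 D30107) (tt N10241 F110946) (tt N13872 (iv F138808)) (tt N10240 (iv D24654)) (tt N13895 (iv F138910)))
theorem Q12170 : ∀ i, i < 12170 → P i := stepQ 12169 Q12169 (allL N12169 (tt N14005 (iv F139445)) (tt N10244 F110961) (tt N14140 (iv F140185)) (tt N12169 F110962) (tt N10243 (iv D24658)) (tt N12169 F110963) (tt N13875 (iv F138822)) (tt N14105 (iv F140014)) (tt N14181 D30108) (tt N10304 F110964))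
theorem Q12171 : ∀ i, i < 12171 → P i := stepQ 12170 Q12170 (allL N12170 (tt N14138 (iv F140175)) (tt N10246 F110969) (tt N14141 (iv F140191)) (tt N10278 F110970) (tt N14181 (iv F140382)) (tt N14170 (iv F140334)) (tt N13877 (iv F138830)) (tt N14106 (iv F140019)) (tt N10243 (iv D24660)) (tt N14182 D30109))
theorem Q12172 : ∀ i, i < 12172 → P i := stepQ 12171 Q12171 (allL N12171 (tt N10407 (iv F134053)) (tt N14105 (iv F140010)) (tt N10247 F110972) (tt N12171 F110973) (tt N10245 F110974) (tt N12171 F110975) (tt N14049 (iv F139696)) (tt N10244 (iv D24661)) (tt N14143 (iv F140204)) (tt N10299 F133801))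
theorem Q12173 : ∀ i, i < 12173 → P i := stepQ 12172 Q12172 (allL N12172 (tt N11015 F110977) (tt N14181 (iv F140380)) (tt N10248 F110978) (tt N12172 F110979) (tt N10246 F110980) (tt N14183 D30110) (tt N13879 (iv F138840)) (tt N14143 (iv F140203)) (tt N10244 (iv D24662)) (tt N13773 (iv F138385)))
theorem Q12174 : ∀ i, i < 12174 → P i := stepQ 12173 Q12173 (allL N12173 (tt N10750 (iv F134089)) (tt N13737 (iv F138192)) (tt N10249 F110982) (tt N10279 F110983) (tt N14049 (iv F139695)) (tt N10728 F133802) (tt N10245 (iv D24663)) (tt N13880 (iv F138845)) (tt N14184 D30111) (tt N10306 F110984))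
theorem Q12175 : ∀ i, i < 12175 → P i := stepQ 12174 Q12174 (allL N12174 (tt N10743 (iv F134102)) (tt N14106 (iv F140017)) (tt N10250 F110986) (tt N10280 F110987) (tt N14143 (iv F140202)) (tt N14171 (iv F140338)) (tt N14184 (iv F140393)) (tt N10246 F110988) (tt N10245 (iv D24664)) (tt N14142 (iv F140198)))
theorem Q12176 : ∀ i, i < 12176 → P i := stepQ 12175 Q12175 (allL N12175 (tt N11016 F110989) (tt N14182 (iv F140383)) (tt N10251 F110990) (tt N10281 F110991) (tt N13773 (iv F138382)) (tt N14172 (iv F140344)) (tt N13882 (iv F138854)) (tt N14142 (iv F140197)) (tt N10307 F110992) (tt N10246 (iv D24665)))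
theorem Q12177 : ∀ i, i < 12177 → P i := stepQ 12176 Q12176 (allL N12176 (tt N11017 F111001) (tt N14144 (iv F140206)) (tt N14183 (iv F140387)) (tt N10253 F111002) (tt N14175 (iv F140358)) (tt N10248 (iv D24668)) (tt N14185 D30112) (tt N14136 (iv F140170)) (tt N12176 F111003) (tt N13822 (iv F138604)))
theorem Q12178 : ∀ i, i < 12178 → P i := stepQ 12177 Q12177 (allL N12177 (tt N10793 F134768) (tt N13854 (iv F138735)) (tt N14184 (iv F140391)) (tt N10252 F111009) (tt N13800 (iv F138498)) (tt N14186 D30113) (tt N10250 F111010) (tt N13886 (iv F138871)) (tt N10249 (iv D24670)) (tt N13797 (iv F138485)))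
theorem Q12179 : ∀ i, i < 12179 → P i := stepQ 12178 Q12178 (allL N12178 (tt N10863 F134779) (tt N13892 (iv F138892)) (tt N10284 F111016) (tt N14186 (iv F140398)) (tt N14187 D30114) (tt N10252 (iv D24672)) (tt N14178 (iv F140370)) (tt N13888 (iv F138878)) (tt N14180 (iv F140379)) (tt N13804 (iv F138525)))
theorem Q12180 : ∀ i, i < 12180 → P i := stepQ 12179 Q12179 (allL N12179 (tt N11018 F111041) (tt N14145 (iv F140212)) (tt N12179 F111042) (tt N14185 (iv F140395)) (tt N12179 F111043) (tt N13891 (iv F138890)) (tt N10253 (iv D24678)) (tt N14188 D30115) (tt N12179 F111044) (tt N13914 (iv F139012)))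
theorem Q12181 : ∀ i, i < 12181 → P i := stepQ 12180 Q12180 (allL N12180 (tt N10905 F134801) (tt N13594 (iv F137447)) (tt N10286 F111060) (tt N14189 D30116) (tt N10254 (iv D24682)) (tt N14187 (iv F140401)) (tt N12180 F111061) (tt N13893 (iv F138897)) (tt N12180 F111062) (tt N13518 F137060))
theorem Q12182 : ∀ i, i < 12182 → P i := stepQ 12181 Q12181 (allL N12181 (tt N10991 F134990) (tt N14099 (iv F139965)) (tt N10257 F111112) (tt N14155 (iv F140259)) (tt N12181 F111113) (tt N10344 F134991) (tt N10262 F111114) (tt N10256 (iv D24693)) (tt N13902 (iv F138948)) (tt N12181 F111115))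
theorem Q12183 : ∀ i, i < 12183 → P i := stepQ 12182 Q12182 (allL N12182 (tt N11019 F111135) (tt N12182 F111136) (tt N14158 (iv F140276)) (tt N10360 F135402) (tt N10376 F135403) (tt N13905 (iv F138964)) (tt N10364 F135404) (tt N10259 F111137) (tt N10258 (iv D24698)) (tt N13624 (iv F137608)))
theorem Q12184 : ∀ i, i < 12184 → P i := stepQ 12183 Q12183 (allL N12183 (tt N10367 F135128) (tt N10261 F111147) (tt N12183 F111148) (tt N14159 (iv F140282)) (tt N10388 F135129) (tt N10260 (iv D24701)) (tt N10269 F111149) (tt N14190 D30117) (tt N14191 D30118) (tt N12183 F111150))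
theorem Q12185 : ∀ i, i < 12185 → P i := stepQ 12184 Q12184 (allL N12184 (tt N14126 (iv F140115)) (tt N10262 F111151) (tt N12184 F111152) (tt N14160 (iv F140287)) (tt N12184 F111153) (tt N14190 (iv F140413)) (tt N14099 (iv F139969)) (tt N10260 (iv D24702)) (tt N13916 (iv F139020)) (tt N12184 F111154))
theorem Q12186 : ∀ i, i < 12186 → P i := stepQ 12185 Q12185 (allL N12185 (tt N11020 F111160) (tt N14190 (iv F140410)) (tt N10264 F111161) (tt N14161 (iv F140291)) (tt N10354 F135389) (tt N10262 F111162) (tt N10349 F135390) (tt N10261 (iv D24704)) (tt N14192 D30119) (tt N12185 F111163))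
theorem Q12187 : ∀ i, i < 12187 → P i := stepQ 12186 Q12186 (allL N12186 (tt N11021 F111164) (tt N14191 (iv F140417)) (tt N10265 F111165) (tt N14162 (iv F140297)) (tt N13329 (iv F135991)) (tt N13919 (iv F139031)) (tt N10271 F111166) (tt N14192 (iv F140425)) (tt N10261 (iv D24705)) (tt N14193 D30120))
theorem Q12188 : ∀ i, i < 12188 → P i := stepQ 12187 Q12187 (allL N12187 (tt N11022 F111173) (tt N12187 F111174) (tt N13329 (iv F135989)) (tt N12187 F111175) (tt N10265 F111176) (tt N14194 D30121) (tt N10272 F111177) (tt N10371 F134458) (tt N10263 (iv D24707)) (tt N11312 F133812))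
theorem Q12189 : ∀ i, i < 12189 → P i := stepQ 12188 Q12188 (allL N12188 (tt N11023 F111183) (tt N12188 F111184) (tt N14192 (iv F140422)) (tt N10267 F111185) (tt N10371 F135391) (tt N13923 (iv F139048)) (tt N10369 F135392) (tt N10265 F111186) (tt N10264 (iv D24709)) (tt N14195 D30122))
theorem Q12190 : ∀ i, i < 12190 → P i := stepQ 12189 Q12189 (allL N12189 (tt N11024 F111187) (tt N12189 F111188) (tt N14193 (iv F140427)) (tt N10268 F111189) (tt N11312 F133823) (tt N13924 (iv F139053)) (tt N10274 F111190) (tt N14195 (iv F140443)) (tt N12189 F111191) (tt N10265 (iv D24710)))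
theorem Q12191 : ∀ i, i < 12191 → P i := stepQ 12190 Q12190 (allL N12190 (tt N11025 F111192) (tt N12190 F111193) (tt N14168 (iv F140321)) (tt N10369 F133830) (tt N12190 F111194) (tt N14196 D30123) (tt N10267 F111195) (tt N10275 F111196) (tt N10266 (iv D24711)) (tt N14197 D30124))
theorem Q12192 : ∀ i, i < 12192 → P i := stepQ 12191 Q12191 (allL N12191 (tt N11026 F111197) (tt N12191 F111198) (tt N14169 (iv F140326)) (tt N14195 (iv F140440)) (tt N12191 F111199) (tt N13926 (iv F139061)) (tt N14197 (iv F140454)) (tt N10268 F111200) (tt N12191 F111201) (tt N10267 (iv D24712)))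
theorem Q12193 : ∀ i, i < 12193 → P i := stepQ 12192 Q12192 (allL N12192 (tt N10361 F135130) (tt N10271 F111321) (tt N12192 F111322) (tt N14170 (iv F140332)) (tt N10379 F135131) (tt N10278 F111323) (tt N14191 (iv F140420)) (tt N14103 (iv F140001)) (tt N10269 (iv D24739)) (tt N13927 (iv F139068)))
theorem Q12194 : ∀ i, i < 12194 → P i := stepQ 12193 Q12193 (allL N12193 (tt N10992 (iv F134296)) (tt N14103 (iv F139996)) (tt N10273 F111341) (tt N14171 (iv F140337)) (tt N10317 F133813) (tt N10280 F111342) (tt N10350 F133814) (tt N10271 F111343) (tt N10270 (iv D24744)) (tt N14198 D30125))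
theorem Q12195 : ∀ i, i < 12195 → P i := stepQ 12194 Q12194 (allL N12194 (tt N10843 (iv F134363)) (tt N13927 (iv F139063)) (tt N10274 F111345) (tt N14172 (iv F140343)) (tt N10885 F133820) (tt N10281 F111346) (tt N14193 (iv F140429)) (tt N14198 (iv F140462)) (tt N12194 F111347) (tt N10271 (iv D24745)))
theorem Q12196 : ∀ i, i < 12196 → P i := stepQ 12195 Q12195 (allL N12195 (tt N11027 F111369) (tt N12195 F111370) (tt N14198 (iv F140458)) (tt N10276 F111371) (tt N10318 F133818) (tt N10283 F111372) (tt N10370 F133819) (tt N10274 F111373) (tt N12195 F111374) (tt N10273 (iv D24750)))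
theorem Q12197 : ∀ i, i < 12197 → P i := stepQ 12196 Q12196 (allL N12196 (tt N11028 F111375) (tt N12196 F111376) (tt N14178 (iv F140369)) (tt N10366 F134460) (tt N14199 D30126) (tt N10275 (iv D24751)) (tt N10284 F111377) (tt N14196 (iv F140448)) (tt N10363 F134461) (tt N14200 D30127))
theorem Q12198 : ∀ i, i < 12198 → P i := stepQ 12197 Q12197 (allL N12197 (tt N11029 F111378) (tt N12197 F111379) (tt N14145 (iv F140213)) (tt N10370 F134462) (tt N12197 F111380) (tt N14200 (iv F140473)) (tt N10276 F111381) (tt N14197 (iv F140455)) (tt N12197 F111382) (tt N10275 (iv D24752)))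
theorem Q12199 : ∀ i, i < 12199 → P i := stepQ 12198 Q12198 (allL N12198 (tt N11030 F111454) (tt N12198 F111455) (tt N14180 (iv F140377)) (tt N10357 F135060) (tt N14201 D30128) (tt N10277 (iv D24770)) (tt N10363 F135061) (tt N13969 (iv F139250)) (tt N10284 F111456) (tt N13896 (iv F138915)))
theorem Q12200 : ∀ i, i < 12200 → P i := stepQ 12199 Q12199 (allL N12199 (tt N13894 (iv F138899)) (tt N10281 F111480) (tt N12199 F111481) (tt N14182 (iv F140384)) (tt N12199 F111482) (tt N13927 (iv F139066)) (tt N13972 (iv F139264)) (tt N14107 (iv F140024)) (tt N10310 F111483) (tt N10278 (iv D24776)))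
theorem Q12201 : ∀ i, i < 12201 → P i := stepQ 12200 Q12200 (allL N12200 (tt N10753 (iv F134104)) (tt N13740 (iv F138210)) (tt N10282 F111485) (tt N14184 (iv F140392)) (tt N12200 F111486) (tt N14202 D30129) (tt N10280 F111487) (tt N13973 (iv F139270)) (tt N10279 (iv D24777)) (tt N14203 D30130))
theorem Q12202 : ∀ i, i < 12202 → P i := stepQ 12201 Q12201 (allL N12201 (tt N10993 (iv F134299)) (tt N14107 (iv F140021)) (tt N10283 F111489) (tt N14142 (iv F140195)) (tt N12201 F111490) (tt N14198 (iv F140460)) (tt N14203 (iv F140489)) (tt N10281 F111491) (tt N10312 F111492) (tt N10280 (iv D24778)))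
theorem Q12203 : ∀ i, i < 12203 → P i := stepQ 12202 Q12202 (allL N12202 (tt N11031 F111493) (tt N12202 F111494) (tt N14202 (iv F140482)) (tt N10284 F111495) (tt N10452 F133832) (tt N10282 (iv D24779)) (tt N10366 F133833) (tt N13975 (iv F139279)) (tt N10357 F133834) (tt N14204 D30131))
theorem Q12204 : ∀ i, i < 12204 → P i := stepQ 12203 Q12203 (allL N12203 (tt N11032 F111496) (tt N12203 F111497) (tt N14203 (iv F140487)) (tt N10285 F111498) (tt N12203 F111499) (tt N14204 (iv F140495)) (tt N10283 F111500) (tt N13976 (iv F139287)) (tt N10314 F111501) (tt N10282 (iv D24780)))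
theorem Q12205 : ∀ i, i < 12205 → P i := stepQ 12204 Q12204 (allL N12204 (tt N11033 F111502) (tt N12204 F111503) (tt N14187 (iv F140400)) (tt N13641 (iv F137691)) (tt N10284 (iv D24781)) (tt N10286 F111504) (tt N14199 (iv F140468)) (tt N13977 (iv F139292)) (tt N14201 (iv F140480)) (tt N13638 F137681))
theorem Q12206 : ∀ i, i < 12206 → P i := stepQ 12205 Q12205 (allL N12205 (tt N11034 F111505) (tt N12205 F111506) (tt N13804 (iv F138524)) (tt N14204 (iv F140493)) (tt N13638 (iv F137679)) (tt N10285 F111507) (tt N14200 (iv F140474)) (tt N13978 (iv F139296)) (tt N13636 F137671) (tt N10284 (iv D24782)))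
theorem Q12207 : ∀ i, i < 12207 → P i := stepQ 12206 Q12206 (allL N12206 (tt N10292 F111908) (tt N10299 F111909) (tt N10305 F111910) (tt N12206 F111911) (tt N10290 (iv D24859)) (tt N12206 F111912) (tt N14020 (iv F139544)) (tt N10304 F133846) (tt N10297 (iv F111913)) (tt N14105 (iv F140015)))
theorem Q12208 : ∀ i, i < 12208 → P i := stepQ 12207 Q12207 (allL N12207 (tt N10294 F111918) (tt N10298 F111919) (tt N10304 F111920) (tt N10291 F111921) (tt N10297 F111922) (tt N12207 F111923) (tt N14022 (iv F139557)) (tt N10305 F133848) (tt N10290 (iv D24861)) (tt N14140 (iv F140188)))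
theorem Q12209 : ∀ i, i < 12209 → P i := stepQ 12208 Q12208 (allL N12208 (tt N10296 F111935) (tt N10312 F133850) (tt N12208 F111937) (tt N14140 F140189) (tt N12208 F111938) (tt N12208 F111939) (tt N14024 (iv F139570)) (tt N10310 F133851) (tt N14107 (iv F140025)) (tt N10291 (iv D24864)))
theorem Q12210 : ∀ i, i < 12210 → P i := stepQ 12209 Q12209 (allL N12209 (tt N14140 (iv F140183)) (tt N10301 F112079) (tt N14005 (iv F139446)) (tt N10296 F112080) (tt N13735 (iv F138182)) (tt N12209 F112081) (tt N14043 (iv F139664)) (tt N13339 (iv F136055)) (tt N14139 (iv F140182)) (tt N10294 (iv D24890)))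
theorem Q12211 : ∀ i, i < 12211 → P i := stepQ 12210 Q12210 (allL N12210 (tt N10310 F133856) (tt N10303 F112086) (tt N12210 F112087) (tt N13339 (iv F136052)) (tt N12210 F112088) (tt N12210 F112089) (tt N13476 (iv F136816)) (tt N10296 F112090) (tt N13894 (iv F138904)) (tt N10295 (iv D24892)))
theorem Q12212 : ∀ i, i < 12212 → P i := stepQ 12211 Q12211 (allL N12211 (tt N10980 (iv F134272)) (tt N13476 (iv F136812)) (tt N10309 F112276) (tt N13340 (iv F136059)) (tt N12211 F112277) (tt N13458 (iv F136716)) (tt N10303 F112278) (tt N14069 (iv F139801)) (tt N13895 (iv F138909)) (tt N10302 (iv D24933)))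
theorem Q12213 : ∀ i, i < 12213 → P i := stepQ 12212 Q12212 (allL N12212 (tt N13339 (iv F136050)) (tt N10307 F112293) (tt N14105 (iv F140011)) (tt N10310 F112294) (tt N13741 (iv F138217)) (tt N12212 F112295) (tt N14072 (iv F139813)) (tt N14140 (iv F140187)) (tt N14182 (iv F140385)) (tt N10305 (iv D24938)))
theorem Q12214 : ∀ i, i < 12214 → P i := stepQ 12213 Q12213 (allL N12213 (tt N11036 F112514) (tt N12213 F112515) (tt N13458 (iv F136714)) (tt N11320 F133862) (tt N13455 (iv F136694)) (tt N10309 F112516) (tt N12213 F112517) (tt N14091 (iv F139926)) (tt N13691 (iv F137946)) (tt N10308 (iv D24987)))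
theorem Q12215 : ∀ i, i < 12215 → P i := stepQ 12214 Q12214 (allL N12214 (tt N10928 (iv F134221)) (tt N14024 (iv F139566)) (tt N10314 F112546) (tt N13793 F138466) (tt N12214 F112547) (tt N13440 (iv F136609)) (tt N10312 F112548) (tt N14093 (iv F139936)) (tt N14203 (iv F140490)) (tt N10311 (iv D24994)))
theorem Q12216 : ∀ i, i < 12216 → P i := stepQ 12215 Q12215 (allL N12215 (tt N11037 F112553) (tt N12215 F112554) (tt N13440 (iv F136607)) (tt N10315 F112555) (tt N13288 (iv F135723)) (tt N10314 F112556) (tt N12215 F112557) (tt N14094 (iv F139941)) (tt N13685 (iv F137908)) (tt N10313 (iv D24996)))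
theorem Q12217 : ∀ i, i < 12217 → P i := stepQ 12216 Q12216 (allL N12216 (tt N10373 F135123) (tt N10317 F112945) (tt N12216 F112946) (tt N10690 F135124) (tt N14103 (iv F139998)) (tt N12216 F112947) (tt N10332 F112948) (tt N10379 F135125) (tt N10316 (iv D25063)) (tt N13682 (iv F137889)))
theorem Q12218 : ∀ i, i < 12218 → P i := stepQ 12217 Q12217 (allL N12217 (tt N10678 F135144) (tt N13682 (iv F137883)) (tt N10318 F113000) (tt N13689 (iv F137930)) (tt N14198 (iv F140459)) (tt N12217 F113001) (tt N10356 F113002) (tt N10885 F135145) (tt N12217 F113003) (tt N10317 (iv D25075)))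
theorem Q12219 : ∀ i, i < 12219 → P i := stepQ 12218 Q12218 (allL N12218 (tt N10330 F113115) (tt N10717 F134901) (tt N10986 F134902) (tt N10321 F113116) (tt N10537 F113117) (tt N10716 F134903) (tt N12218 F113118) (tt N10319 (iv D25095)) (tt N10397 F113119) (tt N12218 F113120))
theorem Q12220 : ∀ i, i < 12220 → P i := stepQ 12219 Q12219 (allL N12219 (tt N10331 F113121) (tt N10386 F135578) (tt N12219 F113122) (tt N10716 F135579) (tt N14117 (iv F140079)) (tt N10321 F113123) (tt N10389 F135580) (tt N10320 (iv D25096)) (tt N14205 D30132) (tt N12219 F113124))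
theorem Q12221 : ∀ i, i < 12221 → P i := stepQ 12220 Q12220 (allL N12220 (tt N10332 F113125) (tt N10374 F135581) (tt N12220 F113126) (tt N10691 F135582) (tt N14118 (iv F140086)) (tt N10399 F113127) (tt N10373 F135583) (tt N14205 (iv F140503)) (tt N10320 (iv D25097)) (tt N13683 (iv F137896)))
theorem Q12222 : ∀ i, i < 12222 → P i := stepQ 12221 Q12221 (allL N12221 (tt N13748 (iv F138257)) (tt N14206 D30133) (tt N10322 (iv D25098)) (tt N12221 F113128) (tt N10548 F113129) (tt N13721 (iv F138107)) (tt N14207 D30134) (tt N13717 (iv F138082)) (tt N10325 F113130) (tt N13758 (iv F138310)))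
theorem Q12223 : ∀ i, i < 12223 → P i := stepQ 12222 Q12222 (allL N12222 (tt N13749 (iv F138264)) (tt N10340 F113131) (tt N14207 (iv F140508)) (tt N10323 F113132) (tt N10549 F113133) (tt N14208 D30135) (tt N10322 (iv D25099)) (tt N14209 D30136) (tt N10326 F113134) (tt N13759 (iv F138316)))
theorem Q12224 : ∀ i, i < 12224 → P i := stepQ 12223 Q12223 (allL N12223 (tt N13750 (iv F138270)) (tt N10341 F113135) (tt N12223 F113136) (tt N14208 (iv F140513)) (tt N10405 F113137) (tt N10323 (iv D25100)) (tt N13723 (iv F138121)) (tt N14210 D30137) (tt N14211 D30138) (tt N13760 (iv F138322)))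
theorem Q12225 : ∀ i, i < 12225 → P i := stepQ 12224 Q12224 (allL N12224 (tt N13751 (iv F138276)) (tt N10342 F113138) (tt N12224 F113139) (tt N14209 (iv F140515)) (tt N10324 F113140) (tt N14210 (iv F140521)) (tt N13720 (iv F138101)) (tt N10323 (iv D25101)) (tt N10328 F113141) (tt N13761 (iv F138329)))
theorem Q12226 : ∀ i, i < 12226 → P i := stepQ 12225 Q12225 (allL N12225 (tt N14130 (iv F140137)) (tt N10325 (iv D25102)) (tt N10345 F113142) (tt N12225 F113143) (tt N10556 F113144) (tt N14100 (iv F139975)) (tt N14212 D30139) (tt N14095 (iv F139946)) (tt N14206 (iv F140507)) (tt N12225 F113145))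
theorem Q12227 : ∀ i, i < 12227 → P i := stepQ 12226 Q12226 (allL N12226 (tt N14114 (iv F140059)) (tt N14212 (iv F140526)) (tt N10326 F113146) (tt N12226 F113147) (tt N10557 F113148) (tt N14213 D30140) (tt N10325 (iv D25103)) (tt N14214 D30141) (tt N14207 (iv F140511)) (tt N12226 F113149))
theorem Q12228 : ∀ i, i < 12228 → P i := stepQ 12227 Q12227 (allL N12227 (tt N14115 (iv F140064)) (tt N10347 F113150) (tt N14213 (iv F140531)) (tt N10327 F113151) (tt N14215 D30142) (tt N10326 (iv D25104)) (tt N14102 (iv F139991)) (tt N14216 D30143) (tt N14217 D30144) (tt N12227 F113152))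
theorem Q12229 : ∀ i, i < 12229 → P i := stepQ 12228 Q12228 (allL N12228 (tt N14116 (iv F140070)) (tt N10348 F113153) (tt N14214 (iv F140534)) (tt N10328 F113154) (tt N10559 F113155) (tt N14216 (iv F140546)) (tt N14098 (iv F139962)) (tt N10326 (iv D25105)) (tt N14209 (iv F140517)) (tt N12228 F113156))
theorem Q12230 : ∀ i, i < 12230 → P i := stepQ 12229 Q12229 (allL N12229 (tt N14117 (iv F140076)) (tt N10349 F113157) (tt N12229 F113158) (tt N14216 (iv F140545)) (tt N10331 F113159) (tt N10328 F113160) (tt N14190 (iv F140414)) (tt N10327 (iv D25106)) (tt N14218 D30145) (tt N12229 F113161))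
theorem Q12231 : ∀ i, i < 12231 → P i := stepQ 12230 Q12230 (allL N12230 (tt N14118 (iv F140083)) (tt N10350 F113162) (tt N12230 F113163) (tt N14217 (iv F140549)) (tt N10332 F113164) (tt N14211 (iv F140525)) (tt N14103 (iv F140000)) (tt N14218 (iv F140553)) (tt N10327 (iv D25107)) (tt N14219 D30146))
theorem Q12232 : ∀ i, i < 12232 → P i := stepQ 12231 Q12231 (allL N12231 (tt N10657 F134925) (tt N10351 F113176) (tt N11169 F134926) (tt N14215 (iv F140540)) (tt N10329 (iv D25110)) (tt N10562 F113177) (tt N10656 F134927) (tt N14220 D30147) (tt N14221 D30148) (tt N12231 F113178))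
theorem Q12233 : ∀ i, i < 12233 → P i := stepQ 12232 Q12232 (allL N12232 (tt N10716 F134930) (tt N10352 F113179) (tt N11229 F134931) (tt N10331 F113180) (tt N14220 (iv F140561)) (tt N10330 F113181) (tt N10721 F134932) (tt N10329 (iv D25111)) (tt N14222 D30149) (tt N12232 F113182))
theorem Q12234 : ∀ i, i < 12234 → P i := stepQ 12233 Q12233 (allL N12233 (tt N10691 F134933) (tt N10353 F113183) (tt N11206 F134934) (tt N10332 F113184) (tt N14221 (iv F140568)) (tt N10414 F113185) (tt N10690 F134935) (tt N14222 (iv F140576)) (tt N10329 (iv D25112)) (tt N14223 D30150))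
theorem Q12235 : ∀ i, i < 12235 → P i := stepQ 12234 Q12234 (allL N12234 (tt N10389 F135612) (tt N10354 F113186) (tt N12234 F113187) (tt N10721 F135613) (tt N14190 (iv F140412)) (tt N12234 F113188) (tt N10331 (iv D25113)) (tt N10388 F135614) (tt N14224 D30151) (tt N12234 F113189))
theorem Q12236 : ∀ i, i < 12236 → P i := stepQ 12235 Q12235 (allL N12235 (tt N14205 (iv F140497)) (tt N10355 F113190) (tt N12235 F113191) (tt N14222 (iv F140573)) (tt N14218 (iv F140552)) (tt N10416 F113192) (tt N14224 (iv F140588)) (tt N10332 F113193) (tt N10331 (iv D25114)) (tt N14225 D30152))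
theorem Q12237 : ∀ i, i < 12237 → P i := stepQ 12236 Q12236 (allL N12236 (tt N13683 (iv F137891)) (tt N10356 F113194) (tt N12236 F113195) (tt N14223 (iv F140580)) (tt N14219 (iv F140556)) (tt N10417 F113196) (tt N13682 F137890) (tt N14225 (iv F140593)) (tt N12236 F113197) (tt N10332 (iv D25115)))
theorem Q12238 : ∀ i, i < 12238 → P i := stepQ 12237 Q12237 (allL N12237 (tt N10736 F113203) (tt N13722 (iv F138112)) (tt N14179 (iv F140373)) (tt N10334 F113204) (tt N13726 (iv F138140)) (tt N14226 D30153) (tt N10333 (iv D25117)) (tt N14227 D30154) (tt N10728 F113205) (tt N13336 (iv F136036)))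
theorem Q12239 : ∀ i, i < 12239 → P i := stepQ 12238 Q12238 (allL N12238 (tt N10737 F113206) (tt N13723 (iv F138118)) (tt N10357 F113207) (tt N14226 (iv F140596)) (tt N10423 F113208) (tt N10334 (iv D25118)) (tt N10341 F113209) (tt N14228 D30155) (tt N14202 (iv F140484)) (tt N13337 (iv F136042)))
theorem Q12240 : ∀ i, i < 12240 → P i := stepQ 12239 Q12239 (allL N12239 (tt N10738 F113210) (tt N13724 (iv F138124)) (tt N10358 F113211) (tt N14227 (iv F140599)) (tt N10335 F113212) (tt N14228 (iv F140605)) (tt N10727 F113213) (tt N10334 (iv D25119)) (tt N10729 F113214) (tt N13338 (iv F136049)))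
theorem Q12241 : ∀ i, i < 12241 → P i := stepQ 12240 Q12240 (allL N12240 (tt N10732 F113221) (tt N13718 (iv F138086)) (tt N14157 (iv F140271)) (tt N10337 F113222) (tt N10577 F113223) (tt N14229 D30156) (tt N10336 (iv D25121)) (tt N14230 D30157) (tt N10343 F113224) (tt N13542 (iv F137199)))
theorem Q12242 : ∀ i, i < 12242 → P i := stepQ 12241 Q12241 (allL N12241 (tt N10733 F113225) (tt N13719 (iv F138092)) (tt N10359 F113226) (tt N14229 (iv F140607)) (tt N13547 (iv F137229)) (tt N10337 (iv D25122)) (tt N10726 F113227) (tt N14231 D30158) (tt N13901 (iv F138942)) (tt N13543 (iv F137205)))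
theorem Q12243 : ∀ i, i < 12243 → P i := stepQ 12242 Q12242 (allL N12242 (tt N10734 F113228) (tt N13720 (iv F138098)) (tt N10360 F113229) (tt N14230 (iv F140610)) (tt N10338 F113230) (tt N14231 (iv F140616)) (tt N10342 F113231) (tt N10337 (iv D25123)) (tt N10344 F113232) (tt N13544 (iv F137212)))
theorem Q12244 : ∀ i, i < 12244 → P i := stepQ 12243 Q12243 (allL N12243 (tt N14170 (iv F140330)) (tt N10339 (iv D25124)) (tt N14206 (iv F140504)) (tt N10361 F113233) (tt N10584 F113234) (tt N14138 (iv F140178)) (tt N14232 D30159) (tt N14129 (iv F140136)) (tt N10345 F113235) (tt N13832 (iv F138640)))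
theorem Q12245 : ∀ i, i < 12245 → P i := stepQ 12244 Q12244 (allL N12244 (tt N13302 (iv F135810)) (tt N14232 (iv F140617)) (tt N10340 F113236) (tt N10362 F113237) (tt N10585 F113238) (tt N14233 D30160) (tt N10339 (iv D25125)) (tt N14234 D30161) (tt N10346 F113239) (tt N13833 (iv F138646)))
theorem Q12246 : ∀ i, i < 12246 → P i := stepQ 12245 Q12245 (allL N12245 (tt N13303 (iv F135817)) (tt N14208 (iv F140512)) (tt N14233 (iv F140621)) (tt N10341 F113240) (tt N14235 D30162) (tt N10340 (iv D25126)) (tt N14226 (iv F140597)) (tt N14236 D30163) (tt N14237 D30164) (tt N13834 (iv F138649)))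
theorem Q12247 : ∀ i, i < 12247 → P i := stepQ 12246 Q12246 (allL N12246 (tt N13304 (iv F135822)) (tt N14209 (iv F140514)) (tt N14234 (iv F140623)) (tt N10342 F113241) (tt N10587 F113242) (tt N14236 (iv F140630)) (tt N14230 (iv F140612)) (tt N10340 (iv D25127)) (tt N10348 F113243) (tt N13835 (iv F138654)))
theorem Q12248 : ∀ i, i < 12248 → P i := stepQ 12247 Q12247 (allL N12247 (tt N13305 (iv F135829)) (tt N14210 (iv F140518)) (tt N10365 F113244) (tt N14236 (iv F140629)) (tt N10429 F113245) (tt N10342 F113246) (tt N14238 D30165) (tt N10341 (iv D25128)) (tt N14239 D30166) (tt N13836 (iv F138659)))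
theorem Q12249 : ∀ i, i < 12249 → P i := stepQ 12248 Q12248 (allL N12248 (tt N13306 (iv F135835)) (tt N14211 (iv F140522)) (tt N10366 F113247) (tt N14237 (iv F140631)) (tt N10430 F113248) (tt N10350 F113249) (tt N14202 (iv F140483)) (tt N14239 (iv F140638)) (tt N10341 (iv D25129)) (tt N14240 D30167))
theorem Q12250 : ∀ i, i < 12250 → P i := stepQ 12249 Q12249 (allL N12249 (tt N10990 F113264) (tt N14098 (iv F139959)) (tt N14156 (iv F140264)) (tt N10344 F113265) (tt N10593 F113266) (tt N14155 (iv F140260)) (tt N10348 F113267) (tt N10343 (iv D25133)) (tt N14230 (iv F140613)) (tt N12249 F113268))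
theorem Q12251 : ∀ i, i < 12251 → P i := stepQ 12250 Q12250 (allL N12250 (tt N14159 (iv F140280)) (tt N10346 F113281) (tt N14212 (iv F140527)) (tt N10367 F113282) (tt N10597 F113283) (tt N14135 (iv F140164)) (tt N10345 (iv D25137)) (tt N14241 D30168) (tt N14232 (iv F140620)) (tt N12250 F113284))
theorem Q12252 : ∀ i, i < 12252 → P i := stepQ 12251 Q12251 (allL N12251 (tt N13307 (iv F135841)) (tt N14241 (iv F140642)) (tt N10348 F113288) (tt N10368 F113289) (tt N10599 F113290) (tt N14165 (iv F140310)) (tt N14156 (iv F140268)) (tt N10346 (iv D25139)) (tt N14234 (iv F140626)) (tt N12251 F113291))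
theorem Q12253 : ∀ i, i < 12253 → P i := stepQ 12252 Q12252 (allL N12252 (tt N13308 (iv F135849)) (tt N14215 (iv F140539)) (tt N14173 (iv F140347)) (tt N10351 F113292) (tt N10347 (iv D25140)) (tt N10600 F113293) (tt N13571 (iv F137336)) (tt N14242 D30169) (tt N14243 D30170) (tt N12252 F113294))
theorem Q12254 : ∀ i, i < 12254 → P i := stepQ 12253 Q12253 (allL N12253 (tt N13309 (iv F135856)) (tt N14216 (iv F140544)) (tt N14165 (iv F140308)) (tt N10349 F113295) (tt N14242 (iv F140647)) (tt N10348 F113296) (tt N14161 (iv F140293)) (tt N10347 (iv D25141)) (tt N14244 D30171) (tt N12253 F113297))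
theorem Q12255 : ∀ i, i < 12255 → P i := stepQ 12254 Q12254 (allL N12254 (tt N13310 (iv F135863)) (tt N14217 (iv F140548)) (tt N14177 (iv F140365)) (tt N10350 F113298) (tt N14243 (iv F140651)) (tt N14237 (iv F140632)) (tt N14171 (iv F140339)) (tt N14244 (iv F140653)) (tt N10347 (iv D25142)) (tt N14245 D30172))
theorem Q12256 : ∀ i, i < 12256 → P i := stepQ 12255 Q12255 (allL N12255 (tt N13311 (iv F135868)) (tt N14218 (iv F140550)) (tt N10369 F113302) (tt N14244 (iv F140652)) (tt N10355 F113303) (tt N14239 (iv F140637)) (tt N14192 (iv F140424)) (tt N10350 F113304) (tt N10349 (iv D25144)) (tt N14246 D30173))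
theorem Q12257 : ∀ i, i < 12257 → P i := stepQ 12256 Q12256 (allL N12256 (tt N13312 (iv F135874)) (tt N14219 (iv F140554)) (tt N10370 F113305) (tt N14245 (iv F140654)) (tt N10356 F113306) (tt N14240 (iv F140641)) (tt N14198 (iv F140461)) (tt N14246 (iv F140658)) (tt N12256 F113307) (tt N10350 (iv D25145)))
theorem Q12258 : ∀ i, i < 12258 → P i := stepQ 12257 Q12257 (allL N12257 (tt N13313 (iv F135880)) (tt N14220 (iv F140559)) (tt N12257 F113308) (tt N14242 (iv F140646)) (tt N10352 F113309) (tt N10606 F113310) (tt N13670 (iv F137826)) (tt N10351 (iv D25146)) (tt N14247 D30174) (tt N12257 F113311))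
theorem Q12259 : ∀ i, i < 12259 → P i := stepQ 12258 Q12258 (allL N12258 (tt N13314 (iv F135887)) (tt N14221 (iv F140566)) (tt N12258 F113312) (tt N14243 (iv F140650)) (tt N10353 F113313) (tt N14248 D30175) (tt N13633 (iv F137658)) (tt N14247 (iv F140662)) (tt N10351 (iv D25147)) (tt N14249 D30176))
theorem Q12260 : ∀ i, i < 12260 → P i := stepQ 12259 Q12259 (allL N12259 (tt N13315 (iv F135892)) (tt N14222 (iv F140571)) (tt N12259 F113318) (tt N10355 F113319) (tt N14247 (iv F140661)) (tt N10443 F113320) (tt N13710 (iv F138050)) (tt N10353 F113321) (tt N10352 (iv D25149)) (tt N14250 D30177))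
theorem Q12261 : ∀ i, i < 12261 → P i := stepQ 12260 Q12260 (allL N12260 (tt N13316 (iv F135899)) (tt N14223 (iv F140578)) (tt N12260 F113322) (tt N10356 F113323) (tt N14249 (iv F140667)) (tt N10444 F113324) (tt N13689 (iv F137932)) (tt N14250 (iv F140672)) (tt N12260 F113325) (tt N10353 (iv D25150)))
theorem Q12262 : ∀ i, i < 12262 → P i := stepQ 12261 Q12261 (allL N12261 (tt N13317 (iv F135906)) (tt N14224 (iv F140585)) (tt N10371 F113326) (tt N13710 (iv F138049)) (tt N14192 (iv F140423)) (tt N14251 D30178) (tt N10355 F113327) (tt N13329 (iv F135992)) (tt N10354 (iv D25151)) (tt N14252 D30179))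
theorem Q12263 : ∀ i, i < 12263 → P i := stepQ 12262 Q12262 (allL N12262 (tt N13318 (iv F135914)) (tt N14225 (iv F140590)) (tt N10372 F113328) (tt N14250 (iv F140670)) (tt N14246 (iv F140657)) (tt N10446 F113329) (tt N14252 (iv F140679)) (tt N10356 F113330) (tt N12262 F113331) (tt N10355 (iv D25152)))
theorem Q12264 : ∀ i, i < 12264 → P i := stepQ 12263 Q12263 (allL N12263 (tt N11234 F113351) (tt N12263 F113352) (tt N14228 (iv F140603)) (tt N13969 (iv F139249)) (tt N10451 F113353) (tt N10358 F113354) (tt N14253 D30180) (tt N10357 (iv D25157)) (tt N13975 (iv F139280)) (tt N13898 (iv F138927)))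
theorem Q12265 : ∀ i, i < 12265 → P i := stepQ 12264 Q12264 (allL N12264 (tt N11233 F113379) (tt N12264 F113380) (tt N14231 (iv F140615)) (tt N13905 (iv F138963)) (tt N13631 (iv F137646)) (tt N10360 F113381) (tt N14254 D30181) (tt N10359 (iv D25163)) (tt N13903 (iv F138954)) (tt N13625 (iv F137613)))
theorem Q12266 : ∀ i, i < 12266 → P i := stepQ 12265 Q12265 (allL N12265 (tt N14191 (iv F140416)) (tt N10362 F113389) (tt N12265 F113390) (tt N14232 (iv F140618)) (tt N10380 F113391) (tt N14255 D30182) (tt N10361 (iv D25166)) (tt N14256 D30183) (tt N10367 F113392) (tt N13928 (iv F139073)))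
theorem Q12267 : ∀ i, i < 12267 → P i := stepQ 12266 Q12266 (allL N12266 (tt N13319 (iv F135921)) (tt N14255 (iv F140691)) (tt N10363 F113393) (tt N14233 (iv F140622)) (tt N14257 D30184) (tt N10362 (iv D25167)) (tt N14180 (iv F140378)) (tt N14258 D30185) (tt N14178 (iv F140371)) (tt N13929 (iv F139076)))
theorem Q12268 : ∀ i, i < 12268 → P i := stepQ 12267 Q12267 (allL N12267 (tt N13320 (iv F135927)) (tt N14256 (iv F140693)) (tt N10364 F113394) (tt N14234 (iv F140624)) (tt N10382 F113395) (tt N14258 (iv F140700)) (tt N14158 (iv F140278)) (tt N10362 (iv D25168)) (tt N10368 F113396) (tt N13930 (iv F139081)))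
theorem Q12269 : ∀ i, i < 12269 → P i := stepQ 12268 Q12268 (allL N12268 (tt N13321 (iv F135934)) (tt N12268 F113397) (tt N14257 (iv F140697)) (tt N10456 F113398) (tt N10363 (iv D25169)) (tt N10383 F113399) (tt N14201 (iv F140479)) (tt N14259 D30186) (tt N14199 (iv F140469)) (tt N13931 (iv F139086)))
theorem Q12270 : ∀ i, i < 12270 → P i := stepQ 12269 Q12269 (allL N12269 (tt N13322 (iv F135941)) (tt N12269 F113400) (tt N14258 (iv F140699)) (tt N10365 F113401) (tt N14259 (iv F140703)) (tt N10364 F113402) (tt N14260 D30187) (tt N10363 (iv D25170)) (tt N14196 (iv F140449)) (tt N13932 (iv F139092)))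
theorem Q12271 : ∀ i, i < 12271 → P i := stepQ 12270 Q12270 (allL N12270 (tt N13323 (iv F135947)) (tt N12270 F113406) (tt N14238 (iv F140633)) (tt N14260 (iv F140706)) (tt N10459 F113407) (tt N14254 (iv F140689)) (tt N10365 (iv D25172)) (tt N14253 (iv F140686)) (tt N14261 D30188) (tt N13934 (iv F139101)))
theorem Q12272 : ∀ i, i < 12272 → P i := stepQ 12271 Q12271 (allL N12271 (tt N13324 (iv F135953)) (tt N12271 F113408) (tt N14239 (iv F140635)) (tt N14196 (iv F140447)) (tt N10460 F113409) (tt N10369 F113410) (tt N14261 (iv F140709)) (tt N10366 F113411) (tt N10365 (iv D25173)) (tt N14262 D30189))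
theorem Q12273 : ∀ i, i < 12273 → P i := stepQ 12272 Q12272 (allL N12272 (tt N13325 (iv F135959)) (tt N12272 F113412) (tt N14240 (iv F140639)) (tt N14200 (iv F140472)) (tt N10461 F113413) (tt N10370 F113414) (tt N14204 (iv F140496)) (tt N14262 (iv F140713)) (tt N13936 (iv F139111)) (tt N10366 (iv D25174)))
theorem Q12274 : ∀ i, i < 12274 → P i := stepQ 12273 Q12273 (allL N12273 (tt N14190 (iv F140409)) (tt N10368 F113472) (tt N12273 F113473) (tt N14241 (iv F140643)) (tt N10389 F113474) (tt N14126 (iv F140119)) (tt N14117 (iv F140081)) (tt N10367 (iv D25187)) (tt N14256 (iv F140696)) (tt N12273 F113475))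
theorem Q12275 : ∀ i, i < 12275 → P i := stepQ 12274 Q12274 (allL N12274 (tt N13326 (iv F135966)) (tt N12274 F113497) (tt N14246 (iv F140656)) (tt N14197 (iv F140452)) (tt N10372 F113498) (tt N14262 (iv F140712)) (tt N14195 (iv F140442)) (tt N10370 F113499) (tt N12274 F113500) (tt N10369 (iv D25194)))
theorem Q12276 : ∀ i, i < 12276 → P i := stepQ 12275 Q12275 (allL N12275 (tt N13327 (iv F135973)) (tt N12275 F113501) (tt N14251 (iv F140674)) (tt N12275 F113502) (tt N14263 D30190) (tt N10371 (iv D25195)) (tt N10471 F113503) (tt N14194 (iv F140435)) (tt N12275 F113504) (tt N14264 D30191))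
theorem Q12277 : ∀ i, i < 12277 → P i := stepQ 12276 Q12276 (allL N12276 (tt N11314 F135602) (tt N12276 F113505) (tt N14252 (iv F140678)) (tt N12276 F113506) (tt N14195 (iv F140441)) (tt N14264 (iv F140720)) (tt N10372 F113507) (tt N11312 F135603) (tt N12276 F113508) (tt N10371 (iv D25196)))
theorem Q12278 : ∀ i, i < 12278 → P i := stepQ 12277 Q12277 (allL N12277 (tt N13301 (iv F135801)) (tt N14205 (iv F140498)) (tt N10376 F113521) (tt N10693 F113522) (tt N14158 (iv F140277)) (tt N13347 (iv F136102)) (tt N10382 F113523) (tt N10374 (iv D25200)) (tt N10386 F113524) (tt N13684 (iv F137903)))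
theorem Q12279 : ∀ i, i < 12279 → P i := stepQ 12278 Q12278 (allL N12278 (tt N11324 F135617) (tt N12278 F113525) (tt N13344 (iv F136082)) (tt N13691 (iv F137944)) (tt N10375 (iv D25201)) (tt N13899 (iv F138931)) (tt N12278 F113526) (tt N14265 D30192) (tt N11320 F135618) (tt N13685 (iv F137909)))
theorem Q12280 : ∀ i, i < 12280 → P i := stepQ 12279 Q12279 (allL N12279 (tt N13278 (iv F135644)) (tt N12279 F113527) (tt N13347 (iv F136100)) (tt N10377 F113528) (tt N14265 (iv F140725)) (tt N10376 F113529) (tt N14266 D30193) (tt N10375 (iv D25202)) (tt N13275 (iv F135628)) (tt N13686 (iv F137914)))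
theorem Q12281 : ∀ i, i < 12281 → P i := stepQ 12280 Q12280 (allL N12280 (tt N13328 (iv F135980)) (tt N12280 F113534) (tt N10697 F113535) (tt N14266 (iv F140728)) (tt N13693 (iv F137956)) (tt N10385 F113536) (tt N10377 (iv D25204)) (tt N12280 F113537) (tt N14267 D30194) (tt N13687 (iv F137921)))
theorem Q12282 : ∀ i, i < 12282 → P i := stepQ 12281 Q12281 (allL N12281 (tt N13276 (iv F135630)) (tt N12281 F113538) (tt N10698 F113539) (tt N13275 (iv F135625)) (tt N13694 (iv F137963)) (tt N10387 F113540) (tt N14267 (iv F140734)) (tt N10378 F113541) (tt N10377 (iv D25205)) (tt N13284 (iv F135698)))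
theorem Q12283 : ∀ i, i < 12283 → P i := stepQ 12282 Q12282 (allL N12282 (tt N10380 F113546) (tt N13329 (iv F135988)) (tt N12282 F113547) (tt N10709 F113548) (tt N14191 (iv F140419)) (tt N14268 D30195) (tt N10379 (iv D25207)) (tt N14224 (iv F140589)) (tt N10388 F113549) (tt N13979 (iv F139302)))
theorem Q12284 : ∀ i, i < 12284 → P i := stepQ 12283 Q12283 (allL N12283 (tt N14268 (iv F140736)) (tt N10381 F113550) (tt N12283 F113551) (tt N10710 F113552) (tt N14269 D30196) (tt N10380 (iv D25208)) (tt N12283 F113553) (tt N14270 D30197) (tt N12283 F113554) (tt N13980 (iv F139307)))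
theorem Q12285 : ∀ i, i < 12285 → P i := stepQ 12284 Q12284 (allL N12284 (tt N14224 (iv F140584)) (tt N10382 F113555) (tt N12284 F113556) (tt N10711 F113557) (tt N14256 (iv F140695)) (tt N14270 (iv F140748)) (tt N14205 (iv F140502)) (tt N10380 (iv D25209)) (tt N10389 F113558) (tt N13981 (iv F139312)))
theorem Q12286 : ∀ i, i < 12286 → P i := stepQ 12285 Q12285 (allL N12285 (tt N13331 (iv F136001)) (tt N14269 (iv F140741)) (tt N10383 F113559) (tt N14271 D30198) (tt N10381 (iv D25210)) (tt N14257 (iv F140698)) (tt N12285 F113560) (tt N14272 D30199) (tt N12285 F113561) (tt N13982 (iv F139316)))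
theorem Q12287 : ∀ i, i < 12287 → P i := stepQ 12286 Q12286 (allL N12286 (tt N13332 (iv F136006)) (tt N14270 (iv F140745)) (tt N10384 F113562) (tt N10713 F113563) (tt N14272 (iv F140755)) (tt N10382 F113564) (tt N14273 D30200) (tt N10381 (iv D25211)) (tt N12286 F113565) (tt N13983 (iv F139322)))
theorem Q12288 : ∀ i, i < 12288 → P i := stepQ 12287 Q12287 (allL N12287 (tt N13333 (iv F136012)) (tt N12287 F113566) (tt N14272 (iv F140754)) (tt N10477 F113567) (tt N10384 F113568) (tt N14259 (iv F140704)) (tt N14274 D30201) (tt N10383 (iv D25212)) (tt N12287 F113569) (tt N13985 (iv F139335)))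
theorem Q12289 : ∀ i, i < 12289 → P i := stepQ 12288 Q12288 (allL N12288 (tt N13334 (iv F136018)) (tt N12288 F113570) (tt N14273 (iv F140757)) (tt N10385 F113571) (tt N14274 (iv F140763)) (tt N14266 (iv F140729)) (tt N10384 (iv D25213)) (tt N12288 F113572) (tt N12288 F113573) (tt N13986 (iv F139340)))
theorem Q12290 : ∀ i, i < 12290 → P i := stepQ 12289 Q12289 (allL N12289 (tt N10404 F113635) (tt N13336 (iv F136032)) (tt N13868 (iv F138785)) (tt N10391 F113636) (tt N10725 F113637) (tt N14275 D30202) (tt N10390 (iv D25227)) (tt N14276 D30203) (tt N10393 F113638) (tt N13722 (iv F138116)))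
theorem Q12291 : ∀ i, i < 12291 → P i := stepQ 12290 Q12290 (allL N12290 (tt N10405 F113639) (tt N13337 (iv F136038)) (tt N12290 F113640) (tt N14275 (iv F140767)) (tt N13750 (iv F138273)) (tt N10391 (iv D25228)) (tt N13760 (iv F138321)) (tt N14277 D30204) (tt N14278 D30205) (tt N13723 (iv F138122)))
theorem Q12292 : ∀ i, i < 12292 → P i := stepQ 12291 Q12291 (allL N12291 (tt N10406 F113641) (tt N13338 (iv F136044)) (tt N12291 F113642) (tt N14276 (iv F140769)) (tt N10392 F113643) (tt N14277 (iv F140774)) (tt N13728 (iv F138153)) (tt N10391 (iv D25229)) (tt N10395 F113644) (tt N13724 (iv F138129)))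
theorem Q12293 : ∀ i, i < 12293 → P i := stepQ 12292 Q12292 (allL N12292 (tt N10409 F113654) (tt N13341 (iv F136063)) (tt N10932 F134853) (tt N10394 F113655) (tt N10930 F134854) (tt N10393 (iv D25232)) (tt N12292 F113656) (tt N14279 D30206) (tt N14280 D30207) (tt N10479 F113657))
theorem Q12294 : ∀ i, i < 12294 → P i := stepQ 12293 Q12293 (allL N12293 (tt N10410 F113658) (tt N13342 (iv F136069)) (tt N13867 (iv F138779)) (tt N10395 F113659) (tt N10730 F113660) (tt N14279 (iv F140782)) (tt N14008 (iv F139466)) (tt N10393 (iv D25233)) (tt N14276 (iv F140771)) (tt N10480 F113661))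
theorem Q12295 : ∀ i, i < 12295 → P i := stepQ 12294 Q12294 (allL N12294 (tt N10411 F113662) (tt N13343 (iv F136075)) (tt N12294 F113663) (tt N14279 (iv F140780)) (tt N10398 F113664) (tt N10395 F113665) (tt N14281 D30208) (tt N10394 (iv D25234)) (tt N14282 D30209) (tt N10481 F113666))
theorem Q12296 : ∀ i, i < 12296 → P i := stepQ 12295 Q12295 (allL N12295 (tt N10412 F113667) (tt N13344 (iv F136081)) (tt N12295 F113668) (tt N14280 (iv F140786)) (tt N10399 F113669) (tt N14278 (iv F140777)) (tt N12295 F113670) (tt N14282 (iv F140797)) (tt N10394 (iv D25235)) (tt N14283 D30210))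
theorem Q12297 : ∀ i, i < 12297 → P i := stepQ 12296 Q12296 (allL N12296 (tt N10413 F113691) (tt N13345 (iv F136086)) (tt N10960 F134893) (tt N10398 F113692) (tt N10958 F134894) (tt N10397 F113693) (tt N14284 D30211) (tt N10396 (iv D25240)) (tt N14285 D30212) (tt N10483 F113694))
theorem Q12298 : ∀ i, i < 12298 → P i := stepQ 12297 Q12297 (allL N12297 (tt N10414 F113695) (tt N10692 F134897) (tt N10961 F134898) (tt N10399 F113696) (tt N10959 F134899) (tt N10691 F134900) (tt N12297 F113697) (tt N14285 (iv F140816)) (tt N10396 (iv D25241)) (tt N14286 D30213))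
theorem Q12299 : ∀ i, i < 12299 → P i := stepQ 12298 Q12298 (allL N12298 (tt N10415 F113698) (tt N13346 (iv F136094)) (tt N12298 F113699) (tt N14284 (iv F140805)) (tt N14281 (iv F140791)) (tt N12298 F113700) (tt N10398 (iv D25242)) (tt N12298 F113701) (tt N14287 D30214) (tt N10485 F113702))
theorem Q12300 : ∀ i, i < 12300 → P i := stepQ 12299 Q12299 (allL N12299 (tt N10416 F113703) (tt N13347 (iv F136099)) (tt N12299 F113704) (tt N14285 (iv F140813)) (tt N14282 (iv F140796)) (tt N14205 (iv F140501)) (tt N14287 (iv F140827)) (tt N10399 F113705) (tt N10398 (iv D25243)) (tt N14288 D30215))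
theorem Q12301 : ∀ i, i < 12301 → P i := stepQ 12300 Q12300 (allL N12300 (tt N10417 F113706) (tt N13348 (iv F136105)) (tt N12300 F113707) (tt N14286 (iv F140820)) (tt N14283 (iv F140800)) (tt N13683 F137897) (tt N12300 F113708) (tt N14288 (iv F140831)) (tt N10487 F113709) (tt N10399 (iv D25244)))
theorem Q12302 : ∀ i, i < 12302 → P i := stepQ 12301 Q12301 (allL N12301 (tt N13758 (iv F138304)) (tt N14289 D30216) (tt N10400 (iv D25245)) (tt N12301 F113710) (tt N13527 (iv F137113)) (tt N10403 F113711) (tt N14290 D30217) (tt N13523 (iv F137089)) (tt N12301 F113712) (tt N13748 (iv F138263)))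
theorem Q12303 : ∀ i, i < 12303 → P i := stepQ 12302 Q12302 (allL N12302 (tt N13759 (iv F138311)) (tt N10422 F113713) (tt N14290 (iv F140838)) (tt N10401 F113714) (tt N13528 (iv F137121)) (tt N14291 D30218) (tt N10400 (iv D25246)) (tt N14292 D30219) (tt N12302 F113715) (tt N13749 (iv F138269)))
theorem Q12304 : ∀ i, i < 12304 → P i := stepQ 12303 Q12303 (allL N12303 (tt N13760 (iv F138317)) (tt N10423 F113716) (tt N12303 F113717) (tt N14291 (iv F140842)) (tt N13723 (iv F138120)) (tt N10401 (iv D25247)) (tt N10405 F113718) (tt N14293 D30220) (tt N14294 D30221) (tt N13750 (iv F138275)))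
theorem Q12305 : ∀ i, i < 12305 → P i := stepQ 12304 Q12304 (allL N12304 (tt N13761 (iv F138323)) (tt N10424 F113719) (tt N12304 F113720) (tt N14292 (iv F140845)) (tt N10402 F113721) (tt N14293 (iv F140849)) (tt N13526 (iv F137108)) (tt N10401 (iv D25248)) (tt N12304 F113722) (tt N13751 (iv F138282)))
theorem Q12306 : ∀ i, i < 12306 → P i := stepQ 12305 Q12305 (allL N12305 (tt N14143 (iv F140199)) (tt N10403 (iv D25249)) (tt N10425 F113723) (tt N12305 F113724) (tt N10743 F113725) (tt N14289 (iv F140835)) (tt N14295 D30222) (tt N11015 F134683) (tt N10407 F113726) (tt N13762 (iv F138335)))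
theorem Q12307 : ∀ i, i < 12307 → P i := stepQ 12306 Q12306 (allL N12306 (tt N13868 (iv F138784)) (tt N14295 (iv F140854)) (tt N10404 F113727) (tt N12306 F113728) (tt N10744 F113729) (tt N14296 D30223) (tt N10403 (iv D25250)) (tt N14297 D30224) (tt N10408 F113730) (tt N13763 (iv F138341)))
theorem Q12308 : ∀ i, i < 12308 → P i := stepQ 12307 Q12307 (allL N12307 (tt N14275 (iv F140766)) (tt N10427 F113731) (tt N14296 (iv F140859)) (tt N10405 F113732) (tt N14298 D30225) (tt N10404 (iv D25251)) (tt N14291 (iv F140843)) (tt N14299 D30226) (tt N14300 D30227) (tt N13764 (iv F138344)))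
theorem Q12309 : ∀ i, i < 12309 → P i := stepQ 12308 Q12308 (allL N12308 (tt N14276 (iv F140768)) (tt N10428 F113733) (tt N14297 (iv F140861)) (tt N10406 F113734) (tt N10746 F113735) (tt N14299 (iv F140869)) (tt N13770 (iv F138370)) (tt N10404 (iv D25252)) (tt N10410 F113736) (tt N13765 (iv F138350)))
theorem Q12310 : ∀ i, i < 12310 → P i := stepQ 12309 Q12309 (allL N12309 (tt N14277 (iv F140772)) (tt N10429 F113737) (tt N12309 F113738) (tt N14299 (iv F140868)) (tt N14210 (iv F140520)) (tt N10406 F113739) (tt N14301 D30228) (tt N10405 (iv D25253)) (tt N14302 D30229) (tt N13766 (iv F138354)))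
theorem Q12311 : ∀ i, i < 12311 → P i := stepQ 12310 Q12310 (allL N12310 (tt N14278 (iv F140775)) (tt N10430 F113740) (tt N12310 F113741) (tt N14300 (iv F140871)) (tt N14211 (iv F140524)) (tt N10412 F113742) (tt N14294 (iv F140853)) (tt N14302 (iv F140878)) (tt N10405 (iv D25254)) (tt N14303 D30230))
theorem Q12312 : ∀ i, i < 12312 → P i := stepQ 12311 Q12311 (allL N12311 (tt N14049 (iv F139692)) (tt N10408 F113748) (tt N10431 F113749) (tt N12311 F113750) (tt N10750 F134687) (tt N14029 (iv F139598)) (tt N10407 (iv D25256)) (tt N14304 D30231) (tt N14295 (iv F140858)) (tt N10488 F113752))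
theorem Q12313 : ∀ i, i < 12313 → P i := stepQ 12312 Q12312 (allL N12312 (tt N13867 (iv F138778)) (tt N14304 (iv F140882)) (tt N10410 F113757) (tt N12312 F113758) (tt N10754 F113759) (tt N14052 (iv F139714)) (tt N14028 (iv F139593)) (tt N10408 (iv D25258)) (tt N14297 (iv F140864)) (tt N10489 F113760))
theorem Q12314 : ∀ i, i < 12314 → P i := stepQ 12313 Q12313 (allL N12313 (tt N14279 (iv F140778)) (tt N10435 F113766) (tt N14052 (iv F139711)) (tt N10411 F113767) (tt N14050 (iv F139701)) (tt N10410 F113768) (tt N14305 D30232) (tt N10409 (iv D25260)) (tt N14306 D30233) (tt N10490 F113769))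
theorem Q12315 : ∀ i, i < 12315 → P i := stepQ 12314 Q12314 (allL N12314 (tt N14280 (iv F140784)) (tt N10436 F113770) (tt N14053 (iv F139717)) (tt N10412 F113771) (tt N14051 (iv F139708)) (tt N14300 (iv F140872)) (tt N12314 F113772) (tt N14306 (iv F140894)) (tt N10409 (iv D25261)) (tt N14307 D30234))
theorem Q12316 : ∀ i, i < 12316 → P i := stepQ 12315 Q12315 (allL N12315 (tt N14281 (iv F140789)) (tt N10437 F113773) (tt N12315 F113774) (tt N14305 (iv F140889)) (tt N10415 F113775) (tt N14032 (iv F139611)) (tt N10411 (iv D25262)) (tt N12315 F113776) (tt N14308 D30235) (tt N10492 F113777))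
theorem Q12317 : ∀ i, i < 12317 → P i := stepQ 12316 Q12316 (allL N12316 (tt N14282 (iv F140794)) (tt N10438 F113778) (tt N12316 F113779) (tt N14306 (iv F140893)) (tt N10416 F113780) (tt N14302 (iv F140877)) (tt N14308 (iv F140902)) (tt N10412 F113781) (tt N10411 (iv D25263)) (tt N14309 D30236))
theorem Q12318 : ∀ i, i < 12318 → P i := stepQ 12317 Q12317 (allL N12317 (tt N14283 (iv F140798)) (tt N10439 F113782) (tt N12317 F113783) (tt N14307 (iv F140896)) (tt N10417 F113784) (tt N14303 (iv F140881)) (tt N12317 F113785) (tt N14309 (iv F140907)) (tt N10494 F113786) (tt N10412 (iv D25264)))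
theorem Q12319 : ∀ i, i < 12319 → P i := stepQ 12318 Q12318 (allL N12318 (tt N14284 (iv F140803)) (tt N10442 F113808) (tt N14077 (iv F139838)) (tt N10415 F113809) (tt N14074 (iv F139821)) (tt N12318 F113810) (tt N10413 (iv D25270)) (tt N12318 F113811) (tt N14310 D30237) (tt N10495 F113812))
theorem Q12320 : ∀ i, i < 12320 → P i := stepQ 12319 Q12319 (allL N12319 (tt N14285 (iv F140810)) (tt N10443 F113813) (tt N14078 (iv F139846)) (tt N10416 F113814) (tt N14075 (iv F139828)) (tt N14222 (iv F140574)) (tt N14310 (iv F140911)) (tt N10414 F113815) (tt N10413 (iv D25271)) (tt N14311 D30238))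
theorem Q12321 : ∀ i, i < 12321 → P i := stepQ 12320 Q12320 (allL N12320 (tt N14286 (iv F140817)) (tt N10444 F113816) (tt N14079 (iv F139853)) (tt N10417 F113817) (tt N14076 (iv F139833)) (tt N14223 (iv F140581)) (tt N12320 F113818) (tt N14311 (iv F140915)) (tt N10497 F113819) (tt N10414 (iv D25272)))
theorem Q12322 : ∀ i, i < 12322 → P i := stepQ 12321 Q12321 (allL N12321 (tt N14287 (iv F140825)) (tt N10445 F113820) (tt N12321 F113821) (tt N14310 (iv F140910)) (tt N14308 (iv F140901)) (tt N14312 D30239) (tt N10416 F113822) (tt N12321 F113823) (tt N10415 (iv D25273)) (tt N14313 D30240))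
theorem Q12323 : ∀ i, i < 12323 → P i := stepQ 12322 Q12322 (allL N12322 (tt N14288 (iv F140829)) (tt N10446 F113824) (tt N12322 F113825) (tt N14311 (iv F140914)) (tt N14309 (iv F140906)) (tt N14225 (iv F140592)) (tt N14313 (iv F140923)) (tt N10417 F113826) (tt N10499 F113827) (tt N10416 (iv D25274)))
theorem Q12324 : ∀ i, i < 12324 → P i := stepQ 12323 Q12323 (allL N12323 (tt N13370 (iv F136221)) (tt N14314 D30241) (tt N10418 (iv D25275)) (tt N12323 F113828) (tt N10421 F113829) (tt N10761 F113830) (tt N14315 D30242) (tt N13499 (iv F136955)) (tt N12323 F113831) (tt N13486 (iv F136872)))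
theorem Q12325 : ∀ i, i < 12325 → P i := stepQ 12324 Q12324 (allL N12324 (tt N13371 (iv F136229)) (tt N13528 (iv F137119)) (tt N14315 (iv F140931)) (tt N10419 F113832) (tt N10422 F113833) (tt N14316 D30243) (tt N10418 (iv D25276)) (tt N14317 D30244) (tt N12324 F113834) (tt N13487 (iv F136878)))
theorem Q12326 : ∀ i, i < 12326 → P i := stepQ 12325 Q12325 (allL N12325 (tt N13372 (iv F136235)) (tt N13529 (iv F137125)) (tt N12325 F113835) (tt N14316 (iv F140935)) (tt N13727 (iv F138146)) (tt N10419 (iv D25277)) (tt N10763 F113836) (tt N14318 D30245) (tt N14319 D30246) (tt N13488 (iv F136884)))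
theorem Q12327 : ∀ i, i < 12327 → P i := stepQ 12326 Q12326 (allL N12326 (tt N13373 (iv F136241)) (tt N13530 (iv F137131)) (tt N12326 F113837) (tt N14317 (iv F140937)) (tt N10420 F113838) (tt N14318 (iv F140941)) (tt N13502 (iv F136975)) (tt N10419 (iv D25278)) (tt N12326 F113839) (tt N13489 (iv F136891)))
theorem Q12328 : ∀ i, i < 12328 → P i := stepQ 12327 Q12327 (allL N12327 (tt N14136 (iv F140166)) (tt N10421 (iv D25279)) (tt N14289 (iv F140833)) (tt N10447 F113840) (tt N14314 (iv F140927)) (tt N10425 F113841) (tt N14320 D30247) (tt N11017 F134694) (tt N12327 F113842) (tt N13811 (iv F138553)))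
theorem Q12329 : ∀ i, i < 12329 → P i := stepQ 12328 Q12328 (allL N12328 (tt N13374 (iv F136248)) (tt N14320 (iv F140945)) (tt N10422 F113843) (tt N10448 F113844) (tt N14315 (iv F140933)) (tt N14321 D30248) (tt N10421 (iv D25280)) (tt N14322 D30249) (tt N12328 F113845) (tt N13812 (iv F138558)))
theorem Q12330 : ∀ i, i < 12330 → P i := stepQ 12329 Q12329 (allL N12329 (tt N13375 (iv F136254)) (tt N14291 (iv F140841)) (tt N14321 (iv F140948)) (tt N10423 F113846) (tt N14323 D30250) (tt N10422 (iv D25281)) (tt N10427 F113847) (tt N14324 D30251) (tt N14325 D30252) (tt N13813 (iv F138562)))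
theorem Q12331 : ∀ i, i < 12331 → P i := stepQ 12330 Q12330 (allL N12330 (tt N13376 (iv F136259)) (tt N14292 (iv F140844)) (tt N14322 (iv F140951)) (tt N10424 F113848) (tt N14317 (iv F140938)) (tt N14324 (iv F140956)) (tt N13819 (iv F138588)) (tt N10422 (iv D25282)) (tt N12330 F113849) (tt N13814 (iv F138567)))
theorem Q12332 : ∀ i, i < 12332 → P i := stepQ 12331 Q12331 (allL N12331 (tt N13377 (iv F136265)) (tt N14293 (iv F140847)) (tt N10451 F113850) (tt N14324 (iv F140955)) (tt N14228 (iv F140604)) (tt N10424 F113851) (tt N14326 D30253) (tt N10423 (iv D25283)) (tt N14327 D30254) (tt N13815 (iv F138571)))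
theorem Q12333 : ∀ i, i < 12333 → P i := stepQ 12332 Q12332 (allL N12332 (tt N13378 (iv F136271)) (tt N14294 (iv F140850)) (tt N10452 F113852) (tt N14325 (iv F140957)) (tt N14202 F140485) (tt N12332 F113853) (tt N10430 F113854) (tt N14327 (iv F140964)) (tt N10423 (iv D25284)) (tt N14328 D30255))
theorem Q12334 : ∀ i, i < 12334 → P i := stepQ 12333 Q12333 (allL N12333 (tt N13800 (iv F138495)) (tt N10426 F113858) (tt N14295 (iv F140855)) (tt N10453 F113859) (tt N10793 F113860) (tt N14329 D30256) (tt N10425 (iv D25286)) (tt N14330 D30257) (tt N10431 F113861) (tt N13746 (iv F138249)))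
theorem Q12335 : ∀ i, i < 12335 → P i := stepQ 12334 Q12334 (allL N12334 (tt N13379 (iv F136277)) (tt N14329 (iv F140968)) (tt N10427 F113862) (tt N10454 F113863) (tt N14331 D30258) (tt N10426 (iv D25287)) (tt N14321 (iv F140950)) (tt N14332 D30259) (tt N14333 D30260) (tt N13838 (iv F138668)))
theorem Q12336 : ∀ i, i < 12336 → P i := stepQ 12335 Q12335 (allL N12335 (tt N13380 (iv F136282)) (tt N14330 (iv F140970)) (tt N10428 F113864) (tt N10455 F113865) (tt N10795 F113866) (tt N14332 (iv F140979)) (tt N13847 (iv F138709)) (tt N10426 (iv D25288)) (tt N10433 F113867) (tt N13839 (iv F138675)))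
theorem Q12337 : ∀ i, i < 12337 → P i := stepQ 12336 Q12336 (allL N12336 (tt N13381 (iv F136290)) (tt N14298 (iv F140865)) (tt N14331 (iv F140975)) (tt N14235 (iv F140627)) (tt N10427 (iv D25289)) (tt N10796 F113868) (tt N14323 (iv F140954)) (tt N14334 D30261) (tt N14335 D30262) (tt N13840 (iv F138678)))
theorem Q12338 : ∀ i, i < 12338 → P i := stepQ 12337 Q12337 (allL N12337 (tt N13382 (iv F136293)) (tt N14299 (iv F140867)) (tt N14332 (iv F140977)) (tt N10429 F113869) (tt N14334 (iv F140983)) (tt N10428 F113870) (tt N14336 D30263) (tt N10427 (iv D25290)) (tt N14337 D30264) (tt N13841 (iv F138682)))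
theorem Q12339 : ∀ i, i < 12339 → P i := stepQ 12338 Q12338 (allL N12338 (tt N13383 (iv F136297)) (tt N14300 (iv F140870)) (tt N14333 (iv F140980)) (tt N10430 F113871) (tt N14335 (iv F140985)) (tt N10436 F113872) (tt N14325 (iv F140959)) (tt N14337 (iv F140989)) (tt N10427 (iv D25291)) (tt N14338 D30265))
theorem Q12340 : ∀ i, i < 12340 → P i := stepQ 12339 Q12339 (allL N12339 (tt N13384 (iv F136300)) (tt N14301 (iv F140873)) (tt N10459 F113873) (tt N14336 (iv F140986)) (tt N14238 (iv F140634)) (tt N13851 (iv F138724)) (tt N10429 (iv D25292)) (tt N14326 (iv F140961)) (tt N14339 D30266) (tt N13843 (iv F138690)))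
theorem Q12341 : ∀ i, i < 12341 → P i := stepQ 12340 Q12340 (allL N12340 (tt N13385 (iv F136304)) (tt N14302 (iv F140875)) (tt N10460 F113874) (tt N14337 (iv F140987)) (tt N14239 (iv F140636)) (tt N10438 F113875) (tt N14339 (iv F140993)) (tt N10430 F113876) (tt N10429 (iv D25293)) (tt N14340 D30267))
theorem Q12342 : ∀ i, i < 12342 → P i := stepQ 12341 Q12341 (allL N12341 (tt N13386 (iv F136308)) (tt N14303 (iv F140879)) (tt N10461 F113877) (tt N14338 (iv F140990)) (tt N14240 (iv F140640)) (tt N10439 F113878) (tt N14328 (iv F140967)) (tt N14340 (iv F140996)) (tt N13845 (iv F138698)) (tt N10430 (iv D25294)))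
theorem Q12343 : ∀ i, i < 12343 → P i := stepQ 12342 Q12342 (allL N12342 (tt N14039 (iv F139643)) (tt N10432 F113883) (tt N14029 (iv F139596)) (tt N10462 F113884) (tt N14027 (iv F139586)) (tt N10431 (iv D25296)) (tt N12342 F113885) (tt N14341 D30268) (tt N14342 D30269) (tt N10500 F113886))
theorem Q12344 : ∀ i, i < 12344 → P i := stepQ 12343 Q12343 (allL N12343 (tt N13883 (iv F138856)) (tt N10433 F113887) (tt N14304 (iv F140883)) (tt N10463 F113888) (tt N10805 F113889) (tt N14341 (iv F140999)) (tt N10809 F134688) (tt N10431 (iv D25297)) (tt N14330 (iv F140974)) (tt N10501 F113890))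
theorem Q12345 : ∀ i, i < 12345 → P i := stepQ 12344 Q12344 (allL N12344 (tt N13387 (iv F136312)) (tt N14027 (iv F139583)) (tt N10434 F113891) (tt N12344 F113892) (tt N10432 (iv D25298)) (tt N10806 F113893) (tt N12344 F113894) (tt N14343 D30270) (tt N14344 D30271) (tt N10502 F113895))
theorem Q12346 : ∀ i, i < 12346 → P i := stepQ 12345 Q12345 (allL N12345 (tt N13388 (iv F136319)) (tt N14341 (iv F140997)) (tt N10435 F113896) (tt N10464 F113897) (tt N14343 (iv F141006)) (tt N10433 F113898) (tt N14345 D30272) (tt N10432 (iv D25299)) (tt N14346 D30273) (tt N10503 F113899))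
theorem Q12347 : ∀ i, i < 12347 → P i := stepQ 12346 Q12346 (allL N12346 (tt N13389 (iv F136325)) (tt N14342 (iv F141001)) (tt N10436 F113900) (tt N10465 F113901) (tt N14344 (iv F141011)) (tt N14333 (iv F140982)) (tt N12346 F113902) (tt N14346 (iv F141019)) (tt N10432 (iv D25300)) (tt N14347 D30274))
theorem Q12348 : ∀ i, i < 12348 → P i := stepQ 12347 Q12347 (allL N12347 (tt N13390 (iv F136331)) (tt N14050 (iv F139698)) (tt N14343 (iv F141004)) (tt N10440 F113903) (tt N10435 F113904) (tt N10809 F113905) (tt N14348 D30275) (tt N10434 (iv D25301)) (tt N14349 D30276) (tt N10505 F113906))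
theorem Q12349 : ∀ i, i < 12349 → P i := stepQ 12348 Q12348 (allL N12348 (tt N13391 (iv F136336)) (tt N14051 (iv F139705)) (tt N14344 (iv F141009)) (tt N10441 F113907) (tt N10436 F113908) (tt N14350 D30277) (tt N12348 F113909) (tt N14349 (iv F141031)) (tt N10434 (iv D25302)) (tt N14351 D30278))
theorem Q12350 : ∀ i, i < 12350 → P i := stepQ 12349 Q12349 (allL N12349 (tt N13392 (iv F136340)) (tt N14305 (iv F140888)) (tt N14345 (iv F141013)) (tt N10437 F113910) (tt N14348 (iv F141026)) (tt N14054 (iv F139723)) (tt N10435 (iv D25303)) (tt N12349 F113911) (tt N14352 D30279) (tt N10507 F113912))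
theorem Q12351 : ∀ i, i < 12351 → P i := stepQ 12350 Q12350 (allL N12350 (tt N13393 (iv F136345)) (tt N14306 (iv F140892)) (tt N14346 (iv F141017)) (tt N10438 F113913) (tt N14349 (iv F141030)) (tt N14337 (iv F140988)) (tt N14352 (iv F141039)) (tt N10436 F113914) (tt N10435 (iv D25304)) (tt N14353 D30280))
theorem Q12352 : ∀ i, i < 12352 → P i := stepQ 12351 Q12351 (allL N12351 (tt N13394 (iv F136348)) (tt N14307 (iv F140895)) (tt N14347 (iv F141021)) (tt N10439 F113915) (tt N14351 (iv F141035)) (tt N14338 (iv F140991)) (tt N12351 F113916) (tt N14353 (iv F141042)) (tt N10509 F113917) (tt N10436 (iv D25305)))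
theorem Q12353 : ∀ i, i < 12353 → P i := stepQ 12352 Q12352 (allL N12352 (tt N13395 (iv F136353)) (tt N14308 (iv F140899)) (tt N10469 F113918) (tt N14352 (iv F141038)) (tt N10445 F113919) (tt N14354 D30281) (tt N10438 F113920) (tt N12352 F113921) (tt N10437 (iv D25306)) (tt N14355 D30282))
theorem Q12354 : ∀ i, i < 12354 → P i := stepQ 12353 Q12353 (allL N12353 (tt N13396 (iv F136358)) (tt N14309 (iv F140904)) (tt N10470 F113922) (tt N14353 (iv F141041)) (tt N10446 F113923) (tt N14340 (iv F140995)) (tt N14355 (iv F141048)) (tt N10439 F113924) (tt N10511 F113925) (tt N10438 (iv D25307)))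
theorem Q12355 : ∀ i, i < 12355 → P i := stepQ 12354 Q12354 (allL N12354 (tt N13397 (iv F136363)) (tt N14074 (iv F139819)) (tt N12354 F113926) (tt N14348 (iv F141025)) (tt N10442 F113927) (tt N14356 D30283) (tt N10440 (iv D25308)) (tt N12354 F113928) (tt N14357 D30284) (tt N10512 F113929))
theorem Q12356 : ∀ i, i < 12356 → P i := stepQ 12355 Q12355 (allL N12355 (tt N13398 (iv F136368)) (tt N14075 (iv F139826)) (tt N12355 F113930) (tt N14349 (iv F141029)) (tt N10443 F113931) (tt N14358 D30285) (tt N14357 (iv F141059)) (tt N10441 F113932) (tt N10440 (iv D25309)) (tt N14359 D30286))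
theorem Q12357 : ∀ i, i < 12357 → P i := stepQ 12356 Q12356 (allL N12356 (tt N13399 (iv F136372)) (tt N13945 (iv F139155)) (tt N12356 F113933) (tt N14350 (iv F141032)) (tt N14248 (iv F140664)) (tt N10441 (iv D25310)) (tt N14360 D30287) (tt N14358 (iv F141062)) (tt N10816 F113934) (tt N14361 D30288))
theorem Q12358 : ∀ i, i < 12358 → P i := stepQ 12357 Q12357 (allL N12357 (tt N13400 (iv F136375)) (tt N14076 (iv F139831)) (tt N12357 F113935) (tt N14351 (iv F141034)) (tt N10444 F113936) (tt N14361 (iv F141072)) (tt N12357 F113937) (tt N14359 (iv F141066)) (tt N10514 F113938) (tt N10441 (iv D25311)))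
theorem Q12359 : ∀ i, i < 12359 → P i := stepQ 12358 Q12358 (allL N12358 (tt N13401 (iv F136380)) (tt N14310 (iv F140909)) (tt N12358 F113939) (tt N10445 F113940) (tt N14357 (iv F141058)) (tt N14362 D30289) (tt N10443 F113941) (tt N12358 F113942) (tt N10442 (iv D25312)) (tt N14363 D30290))
theorem Q12360 : ∀ i, i < 12360 → P i := stepQ 12359 Q12359 (allL N12359 (tt N13402 (iv F136385)) (tt N14311 (iv F140913)) (tt N12359 F113943) (tt N10446 F113944) (tt N14359 (iv F141065)) (tt N14250 (iv F140671)) (tt N14363 (iv F141079)) (tt N10444 F113945) (tt N10516 F113946) (tt N10443 (iv D25313)))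
theorem Q12361 : ∀ i, i < 12361 → P i := stepQ 12360 Q12360 (allL N12360 (tt N13403 (iv F136390)) (tt N14312 (iv F140917)) (tt N10471 F113947) (tt N14362 (iv F141074)) (tt N14364 D30291) (tt N10445 (iv D25314)) (tt N14251 (iv F140675)) (tt N12360 F113948) (tt N12360 F113949) (tt N14365 D30292))
theorem Q12362 : ∀ i, i < 12362 → P i := stepQ 12361 Q12361 (allL N12361 (tt N13404 (iv F136394)) (tt N14313 (iv F140921)) (tt N10472 F113950) (tt N14363 (iv F141078)) (tt N14355 (iv F141047)) (tt N14365 (iv F141086)) (tt N10446 F113951) (tt N12361 F113952) (tt N10518 F113953) (tt N10445 (iv D25315)))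
theorem Q12363 : ∀ i, i < 12363 → P i := stepQ 12362 Q12362 (allL N12362 (tt N14128 (iv F140126)) (tt N10448 F113958) (tt N12362 F113959) (tt N14320 (iv F140946)) (tt N12362 F113960) (tt N14366 D30293) (tt N10447 (iv D25317)) (tt N14367 D30294) (tt N12362 F113961) (tt N13900 (iv F138938)))
theorem Q12364 : ∀ i, i < 12364 → P i := stepQ 12363 Q12363 (allL N12363 (tt N13405 (iv F136399)) (tt N14366 (iv F141088)) (tt N10449 F113962) (tt N14321 (iv F140949)) (tt N14368 D30295) (tt N10448 (iv D25318)) (tt N10454 F113963) (tt N14369 D30296) (tt N14370 D30297) (tt N13901 (iv F138943)))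
theorem Q12365 : ∀ i, i < 12365 → P i := stepQ 12364 Q12364 (allL N12364 (tt N13406 (iv F136404)) (tt N14367 (iv F141091)) (tt N10450 F113964) (tt N14322 (iv F140952)) (tt N12364 F113965) (tt N14369 (iv F141100)) (tt N13907 (iv F138975)) (tt N10448 (iv D25319)) (tt N12364 F113966) (tt N13902 (iv F138949)))
theorem Q12366 : ∀ i, i < 12366 → P i := stepQ 12365 Q12365 (allL N12365 (tt N13407 (iv F136411)) (tt N12365 F113967) (tt N14368 (iv F141096)) (tt N14201 (iv F140477)) (tt N10449 (iv D25320)) (tt N12365 F113968) (tt N10456 F113969) (tt N14371 D30298) (tt N13641 (iv F137695)) (tt N13632 F137654))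
theorem Q12367 : ∀ i, i < 12367 → P i := stepQ 12366 Q12366 (allL N12366 (tt N13408 (iv F136418)) (tt N12366 F113970) (tt N14369 (iv F141099)) (tt N10451 F113971) (tt N14371 (iv F141105)) (tt N10450 F113972) (tt N14372 D30299) (tt N10449 (iv D25321)) (tt N14373 D30300) (tt N13903 (iv F138955)))
theorem Q12368 : ∀ i, i < 12368 → P i := stepQ 12367 Q12367 (allL N12367 (tt N13409 (iv F136423)) (tt N12367 F113973) (tt N14370 (iv F141101)) (tt N10452 F113974) (tt N13641 (iv F137692)) (tt N12367 F113975) (tt N10458 F113976) (tt N14373 (iv F141113)) (tt N10449 (iv D25322)) (tt N13626 (iv F137620)))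
theorem Q12369 : ∀ i, i < 12369 → P i := stepQ 12368 Q12368 (allL N12368 (tt N13410 (iv F136430)) (tt N12368 F113977) (tt N14326 (iv F140960)) (tt N14372 (iv F141108)) (tt N14253 (iv F140684)) (tt N13911 (iv F138995)) (tt N10451 (iv D25323)) (tt N10459 F113978) (tt N14374 D30301) (tt N13904 (iv F138960)))
theorem Q12370 : ∀ i, i < 12370 → P i := stepQ 12369 Q12369 (allL N12369 (tt N13411 (iv F136436)) (tt N12369 F113979) (tt N14327 (iv F140962)) (tt N14373 (iv F141111)) (tt N13975 F139281) (tt N12369 F113980) (tt N14374 (iv F141115)) (tt N10452 F113981) (tt N10451 (iv D25324)) (tt N14375 D30302))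
theorem Q12371 : ∀ i, i < 12371 → P i := stepQ 12370 Q12370 (allL N12370 (tt N13412 (iv F136441)) (tt N12370 F113982) (tt N14328 (iv F140965)) (tt N13626 (iv F137616)) (tt N14204 (iv F140494)) (tt N12370 F113983) (tt N10461 F113984) (tt N14375 (iv F141119)) (tt N13623 F137601) (tt N10452 (iv D25325)))
theorem Q12372 : ∀ i, i < 12372 → P i := stepQ 12371 Q12371 (allL N12371 (tt N13782 (iv F138410)) (tt N10454 F113989) (tt N12371 F113990) (tt N14329 (iv F140969)) (tt N14376 D30303) (tt N10453 (iv D25327)) (tt N14366 (iv F141090)) (tt N14377 D30304) (tt N14378 D30305) (tt N13734 F138178))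
theorem Q12373 : ∀ i, i < 12373 → P i := stepQ 12372 Q12372 (allL N12372 (tt N13802 (iv F138508)) (tt N10455 F113991) (tt N12372 F113992) (tt N14330 (iv F140971)) (tt N10474 F113993) (tt N14377 (iv F141125)) (tt N10815 F134705) (tt N10453 (iv D25328)) (tt N10463 F113994) (tt N13747 (iv F138256)))
theorem Q12374 : ∀ i, i < 12374 → P i := stepQ 12373 Q12373 (allL N12373 (tt N13413 (iv F136448)) (tt N14376 (iv F141120)) (tt N10456 F113995) (tt N14379 D30306) (tt N10454 (iv D25329)) (tt N10475 F113996) (tt N14368 (iv F141098)) (tt N14380 D30307) (tt N14381 D30308) (tt N13937 (iv F139116)))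
theorem Q12375 : ∀ i, i < 12375 → P i := stepQ 12374 Q12374 (allL N12374 (tt N13414 (iv F136453)) (tt N14377 (iv F141123)) (tt N10457 F113997) (tt N14332 (iv F140978)) (tt N14380 (iv F141131)) (tt N10455 F113998) (tt N14382 D30309) (tt N10454 (iv D25330)) (tt N14383 D30310) (tt N13938 (iv F139121)))
theorem Q12376 : ∀ i, i < 12376 → P i := stepQ 12375 Q12375 (allL N12375 (tt N13415 (iv F136458)) (tt N14378 (iv F141126)) (tt N10458 F113999) (tt N14333 (iv F140981)) (tt N14381 (iv F141134)) (tt N10465 F114000) (tt N14370 (iv F141103)) (tt N14383 (iv F141139)) (tt N10454 (iv D25331)) (tt N14384 D30311))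
theorem Q12377 : ∀ i, i < 12377 → P i := stepQ 12376 Q12376 (allL N12376 (tt N13416 (iv F136463)) (tt N12376 F114001) (tt N14380 (iv F141130)) (tt N14259 (iv F140702)) (tt N10457 F114002) (tt N10477 F114003) (tt N14385 D30312) (tt N10456 (iv D25332)) (tt N14386 D30313) (tt N13939 (iv F139127)))
theorem Q12378 : ∀ i, i < 12378 → P i := stepQ 12377 Q12377 (allL N12377 (tt N13417 (iv F136468)) (tt N12377 F114004) (tt N14381 (iv F141133)) (tt N14199 (iv F140466)) (tt N10458 F114005) (tt N12377 F114006) (tt N13641 (iv F137694)) (tt N14386 (iv F141149)) (tt N10456 (iv D25333)) (tt N13604 (iv F137507)))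
theorem Q12379 : ∀ i, i < 12379 → P i := stepQ 12378 Q12378 (allL N12378 (tt N13418 (iv F136475)) (tt N12378 F114007) (tt N14382 (iv F141136)) (tt N10459 F114008) (tt N14385 (iv F141145)) (tt N13948 (iv F139170)) (tt N10457 (iv D25334)) (tt N14372 (iv F141109)) (tt N14387 D30314) (tt N13940 (iv F139133)))
theorem Q12380 : ∀ i, i < 12380 → P i := stepQ 12379 Q12379 (allL N12379 (tt N13419 (iv F136480)) (tt N12379 F114009) (tt N14383 (iv F141137)) (tt N10460 F114010) (tt N14386 (iv F141147)) (tt N10467 F114011) (tt N14387 (iv F141152)) (tt N10458 F114012) (tt N10457 (iv D25335)) (tt N14388 D30315))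
theorem Q12381 : ∀ i, i < 12381 → P i := stepQ 12380 Q12380 (allL N12380 (tt N11236 F135557) (tt N12380 F114013) (tt N14384 (iv F141141)) (tt N10461 F114014) (tt N13604 (iv F137504)) (tt N10468 F114015) (tt N13626 (iv F137619)) (tt N14388 (iv F141157)) (tt N11230 F135558) (tt N10458 (iv D25336)))
theorem Q12382 : ∀ i, i < 12382 → P i := stepQ 12381 Q12381 (allL N12381 (tt N13420 (iv F136486)) (tt N12381 F114016) (tt N14339 (iv F140992)) (tt N14387 (iv F141151)) (tt N14261 (iv F140708)) (tt N14389 D30316) (tt N10460 F114017) (tt N14374 (iv F141116)) (tt N10459 (iv D25337)) (tt N14390 D30317))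
theorem Q12383 : ∀ i, i < 12383 → P i := stepQ 12382 Q12382 (allL N12382 (tt N13421 (iv F136489)) (tt N12382 F114018) (tt N14340 (iv F140994)) (tt N14388 (iv F141155)) (tt N14262 (iv F140711)) (tt N10470 F114019) (tt N14390 (iv F141162)) (tt N10461 F114020) (tt N13942 (iv F139143)) (tt N10460 (iv D25338)))
theorem Q12384 : ∀ i, i < 12384 → P i := stepQ 12383 Q12383 (allL N12383 (tt N13889 (iv F138879)) (tt N10464 F114030) (tt N12383 F114031) (tt N14341 (iv F140998)) (tt N12383 F114032) (tt N10463 F114033) (tt N14356 (iv F141054)) (tt N10462 (iv D25341)) (tt N14391 D30318) (tt N10519 F114034))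
theorem Q12385 : ∀ i, i < 12385 → P i := stepQ 12384 Q12384 (allL N12384 (tt N14034 (iv F139618)) (tt N10465 F114035) (tt N12384 F114036) (tt N14342 (iv F141002)) (tt N12384 F114037) (tt N14378 (iv F141128)) (tt N12384 F114038) (tt N14391 (iv F141166)) (tt N10462 (iv D25342)) (tt N14010 (iv F139479)))
theorem Q12386 : ∀ i, i < 12386 → P i := stepQ 12385 Q12385 (allL N12385 (tt N13422 (iv F136495)) (tt N14356 (iv F141051)) (tt N10466 F114039) (tt N14345 (iv F141014)) (tt N12385 F114040) (tt N14074 (iv F139822)) (tt N10464 (iv D25343)) (tt N12385 F114041) (tt N14392 D30319) (tt N10520 F114042))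
theorem Q12387 : ∀ i, i < 12387 → P i := stepQ 12386 Q12386 (allL N12386 (tt N13423 (iv F136502)) (tt N14391 (iv F141163)) (tt N10467 F114043) (tt N14346 (iv F141018)) (tt N12386 F114044) (tt N14383 (iv F141138)) (tt N14392 (iv F141169)) (tt N10465 F114045) (tt N10464 (iv D25344)) (tt N14393 D30320))
theorem Q12388 : ∀ i, i < 12388 → P i := stepQ 12387 Q12387 (allL N12387 (tt N10919 F134874) (tt N14010 (iv F139475)) (tt N10468 F114046) (tt N14347 (iv F141022)) (tt N12387 F114047) (tt N14384 (iv F141142)) (tt N12387 F114048) (tt N14393 (iv F141174)) (tt N10522 F114049) (tt N10465 (iv D25345)))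
theorem Q12389 : ∀ i, i < 12389 → P i := stepQ 12388 Q12388 (allL N12388 (tt N13424 (iv F136508)) (tt N12388 F114050) (tt N14392 (iv F141167)) (tt N10469 F114051) (tt N12388 F114052) (tt N14394 D30321) (tt N10467 F114053) (tt N12388 F114054) (tt N10466 (iv D25346)) (tt N14395 D30322))
theorem Q12390 : ∀ i, i < 12390 → P i := stepQ 12389 Q12389 (allL N12389 (tt N11327 F135556) (tt N12389 F114055) (tt N14393 (iv F141172)) (tt N10470 F114056) (tt N12389 F114057) (tt N14388 (iv F141156)) (tt N14395 (iv F141183)) (tt N10468 F114058) (tt N10524 F114059) (tt N10467 (iv D25347)))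
theorem Q12391 : ∀ i, i < 12391 → P i := stepQ 12390 Q12390 (allL N12390 (tt N13425 (iv F136515)) (tt N12390 F114060) (tt N14354 (iv F141044)) (tt N14394 (iv F141177)) (tt N14396 D30323) (tt N10469 (iv D25348)) (tt N14389 (iv F141160)) (tt N12390 F114061) (tt N14082 (iv F139872)) (tt N14397 D30324))
theorem Q12392 : ∀ i, i < 12392 → P i := stepQ 12391 Q12391 (allL N12391 (tt N13426 (iv F136519)) (tt N12391 F114062) (tt N14355 (iv F141046)) (tt N14395 (iv F141181)) (tt N10472 F114063) (tt N14397 (iv F141190)) (tt N10470 F114064) (tt N12391 F114065) (tt N10526 F114066) (tt N10469 (iv D25349)))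
theorem Q12393 : ∀ i, i < 12393 → P i := stepQ 12392 Q12392 (allL N12392 (tt N13427 (iv F136526)) (tt N12392 F114067) (tt N14364 (iv F141082)) (tt N14398 D30325) (tt N10471 (iv D25350)) (tt N14396 (iv F141187)) (tt N14263 (iv F140715)) (tt N12392 F114068) (tt N12392 F114069) (tt N14399 D30326))
theorem Q12394 : ∀ i, i < 12394 → P i := stepQ 12393 Q12393 (allL N12393 (tt N13428 (iv F136529)) (tt N12393 F114070) (tt N14365 (iv F141085)) (tt N12393 F114071) (tt N14399 (iv F141197)) (tt N10472 F114072) (tt N14264 (iv F140721)) (tt N12393 F114073) (tt N14400 D30327) (tt N10471 (iv D25351)))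
theorem Q12395 : ∀ i, i < 12395 → P i := stepQ 12394 Q12394 (allL N12394 (tt N13515 (iv F137035)) (tt N10475 F114083) (tt N12394 F114084) (tt N14401 D30328) (tt N10473 (iv D25354)) (tt N14376 (iv F141122)) (tt N12394 F114085) (tt N14402 D30329) (tt N12394 F114086) (tt N13495 F136929))
theorem Q12396 : ∀ i, i < 12396 → P i := stepQ 12395 Q12395 (allL N12395 (tt N13522 (iv F137077)) (tt N10476 F114087) (tt N12395 F114088) (tt N10817 F134722) (tt N14402 (iv F141210)) (tt N10474 F114090) (tt N14403 D30330) (tt N10473 (iv D25355)) (tt N12395 F114091) (tt N13498 F136950))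
theorem Q12397 : ∀ i, i < 12397 → P i := stepQ 12396 Q12396 (allL N12396 (tt N13429 (iv F136535)) (tt N14401 (iv F141204)) (tt N14271 (iv F140750)) (tt N10475 (iv D25356)) (tt N10906 F114092) (tt N14379 (iv F141129)) (tt N12396 F114093) (tt N14404 D30331) (tt N12396 F114094) (tt N13989 (iv F139359)))
theorem Q12398 : ∀ i, i < 12398 → P i := stepQ 12397 Q12397 (allL N12397 (tt N13430 (iv F136541)) (tt N14402 (iv F141208)) (tt N10477 F114095) (tt N14404 (iv F141218)) (tt N10476 F114096) (tt N14380 (iv F141132)) (tt N14405 D30332) (tt N10475 (iv D25357)) (tt N12397 F114097) (tt N13990 (iv F139364)))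
theorem Q12399 : ∀ i, i < 12399 → P i := stepQ 12398 Q12398 (allL N12398 (tt N13431 (iv F136547)) (tt N14403 (iv F141212)) (tt N10478 F114098) (tt N10908 F114099) (tt N14405 (iv F141222)) (tt N13995 (iv F139394)) (tt N10476 (iv D25358)) (tt N12398 F114100) (tt N12398 F114101) (tt N13991 (iv F139371)))
theorem Q12400 : ∀ i, i < 12400 → P i := stepQ 12399 Q12399 (allL N12399 (tt N13432 (iv F136555)) (tt N12399 F114102) (tt N14405 (iv F141221)) (tt N14274 (iv F140762)) (tt N10478 F114103) (tt N14406 D30333) (tt N10477 (iv D25359)) (tt N12399 F114104) (tt N12399 F114105) (tt N13992 (iv F139377)))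
theorem Q12401 : ∀ i, i < 12401 → P i := stepQ 12400 Q12400 (allL N12400 (tt N10490 F114125) (tt N13436 (iv F136582)) (tt N10942 F134849) (tt N10481 F114126) (tt N10940 F134850) (tt N10480 F114127) (tt N14407 D30334) (tt N10479 (iv D25365)) (tt N14408 D30335) (tt N14279 (iv F140783)))
theorem Q12402 : ∀ i, i < 12402 → P i := stepQ 12401 Q12401 (allL N12401 (tt N10491 F114128) (tt N13437 (iv F136587)) (tt N10943 F134851) (tt N10482 F114129) (tt N10941 F134852) (tt N14022 (iv F139556)) (tt N12401 F114130) (tt N14408 (iv F141236)) (tt N10479 (iv D25366)) (tt N14409 D30336))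
theorem Q12403 : ∀ i, i < 12403 → P i := stepQ 12402 Q12402 (allL N12402 (tt N10492 F114131) (tt N13438 (iv F136594)) (tt N12402 F114132) (tt N14407 (iv F141229)) (tt N10485 F114133) (tt N14016 (iv F139516)) (tt N10481 (iv D25367)) (tt N12402 F114134) (tt N14410 D30337) (tt N14281 (iv F140793)))
theorem Q12404 : ∀ i, i < 12404 → P i := stepQ 12403 Q12403 (allL N12403 (tt N10493 F114135) (tt N13439 (iv F136600)) (tt N12403 F114136) (tt N14408 (iv F141234)) (tt N10486 F114137) (tt N14023 (iv F139562)) (tt N14410 (iv F141246)) (tt N10482 F114138) (tt N10481 (iv D25368)) (tt N14411 D30338))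
theorem Q12405 : ∀ i, i < 12405 → P i := stepQ 12404 Q12404 (allL N12404 (tt N10494 F114139) (tt N13440 (iv F136606)) (tt N12404 F114140) (tt N14409 (iv F141239)) (tt N10487 F114141) (tt N14024 (iv F139569)) (tt N12404 F114142) (tt N14411 (iv F141251)) (tt N14283 (iv F140802)) (tt N10482 (iv D25369)))
theorem Q12406 : ∀ i, i < 12406 → P i := stepQ 12405 Q12405 (allL N12405 (tt N10495 F114183) (tt N13441 (iv F136612)) (tt N10971 F134889) (tt N10485 F114184) (tt N10968 F134890) (tt N12405 F114185) (tt N10483 (iv D25377)) (tt N12405 F114186) (tt N14412 D30339) (tt N14284 (iv F140809)))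
theorem Q12407 : ∀ i, i < 12407 → P i := stepQ 12406 Q12406 (allL N12406 (tt N10496 F114187) (tt N13442 (iv F136619)) (tt N10972 F134891) (tt N10486 F114188) (tt N10969 F134892) (tt N12406 F114189) (tt N14412 (iv F141256)) (tt N10484 F114190) (tt N10483 (iv D25378)) (tt N14413 D30340))
theorem Q12408 : ∀ i, i < 12408 → P i := stepQ 12407 Q12407 (allL N12407 (tt N10497 F114191) (tt N13443 (iv F136626)) (tt N10973 F134895) (tt N10487 F114192) (tt N10970 F134896) (tt N12407 F114193) (tt N12407 F114194) (tt N14413 (iv F141263)) (tt N14286 (iv F140824)) (tt N10484 (iv D25379)))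
theorem Q12409 : ∀ i, i < 12409 → P i := stepQ 12408 Q12408 (allL N12408 (tt N10498 F114195) (tt N13444 (iv F136634)) (tt N12408 F114196) (tt N14412 (iv F141254)) (tt N14410 (iv F141244)) (tt N14414 D30341) (tt N10486 F114197) (tt N12408 F114198) (tt N10485 (iv D25380)) (tt N14415 D30342))
theorem Q12410 : ∀ i, i < 12410 → P i := stepQ 12409 Q12409 (allL N12409 (tt N10499 F114199) (tt N13445 (iv F136638)) (tt N12409 F114200) (tt N14413 (iv F141260)) (tt N14411 (iv F141250)) (tt N12409 F114201) (tt N14415 (iv F141272)) (tt N10487 F114202) (tt N14288 (iv F140832)) (tt N10486 (iv D25381)))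
theorem Q12411 : ∀ i, i < 12411 → P i := stepQ 12410 Q12410 (allL N12410 (tt N14048 (iv F139686)) (tt N10489 F114211) (tt N10501 F114212) (tt N12410 F114213) (tt N10926 F134686) (tt N14036 (iv F139633)) (tt N10951 F134682) (tt N10488 (iv D25384)) (tt N14026 (iv F139582)) (tt N14304 (iv F140887)))
theorem Q12412 : ∀ i, i < 12412 → P i := stepQ 12411 Q12411 (allL N12411 (tt N14407 (iv F141227)) (tt N10507 F114232) (tt N14062 (iv F139765)) (tt N10492 F114233) (tt N14059 (iv F139747)) (tt N14037 (iv F139636)) (tt N10490 (iv D25390)) (tt N12411 F114234) (tt N14416 D30343) (tt N14305 (iv F140891)))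
theorem Q12413 : ∀ i, i < 12413 → P i := stepQ 12412 Q12412 (allL N12412 (tt N14408 (iv F141232)) (tt N10508 F114235) (tt N14063 (iv F139770)) (tt N10493 F114236) (tt N14060 (iv F139754)) (tt N14042 (iv F139659)) (tt N14416 (iv F141276)) (tt N10491 F114237) (tt N10490 (iv D25391)) (tt N14417 D30344))
theorem Q12414 : ∀ i, i < 12414 → P i := stepQ 12413 Q12413 (allL N12413 (tt N14409 (iv F141237)) (tt N10509 F114238) (tt N14064 (iv F139775)) (tt N10494 F114239) (tt N14061 (iv F139761)) (tt N14043 (iv F139663)) (tt N12413 F114240) (tt N14417 (iv F141280)) (tt N14307 (iv F140898)) (tt N10491 (iv D25392)))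
theorem Q12415 : ∀ i, i < 12415 → P i := stepQ 12414 Q12414 (allL N12414 (tt N14410 (iv F141242)) (tt N10510 F114241) (tt N12414 F114242) (tt N14416 (iv F141275)) (tt N10498 F114243) (tt N13473 (iv F136797)) (tt N10493 F114244) (tt N12414 F114245) (tt N10492 (iv D25393)) (tt N14418 D30345))
theorem Q12416 : ∀ i, i < 12416 → P i := stepQ 12415 Q12415 (allL N12415 (tt N14411 (iv F141248)) (tt N10511 F114246) (tt N12415 F114247) (tt N14417 (iv F141279)) (tt N10499 F114248) (tt N14044 (iv F139668)) (tt N14418 (iv F141284)) (tt N10494 F114249) (tt N14309 (iv F140908)) (tt N10493 (iv D25394)))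
theorem Q12417 : ∀ i, i < 12417 → P i := stepQ 12416 Q12416 (allL N12416 (tt N14412 (iv F141252)) (tt N10515 F114297) (tt N14086 (iv F139893)) (tt N10498 F114298) (tt N14084 (iv F139882)) (tt N14419 D30346) (tt N10496 F114299) (tt N12416 F114300) (tt N10495 (iv D25405)) (tt N14420 D30347))
theorem Q12418 : ∀ i, i < 12418 → P i := stepQ 12417 Q12417 (allL N12417 (tt N14413 (iv F141258)) (tt N10516 F114301) (tt N14087 (iv F139900)) (tt N10499 F114302) (tt N14085 (iv F139888)) (tt N12417 F114303) (tt N14420 (iv F141293)) (tt N10497 F114304) (tt N14311 (iv F140916)) (tt N10496 (iv D25406)))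
theorem Q12419 : ∀ i, i < 12419 → P i := stepQ 12418 Q12418 (allL N12418 (tt N14414 (iv F141264)) (tt N10517 F114305) (tt N12418 F114306) (tt N14419 (iv F141287)) (tt N13477 (iv F136821)) (tt N10498 (iv D25407)) (tt N12418 F114307) (tt N12418 F114308) (tt N12418 F114309) (tt N14421 D30348))
theorem Q12420 : ∀ i, i < 12420 → P i := stepQ 12419 Q12419 (allL N12419 (tt N14415 (iv F141270)) (tt N10518 F114310) (tt N12419 F114311) (tt N14420 (iv F141292)) (tt N14418 (iv F141283)) (tt N14421 (iv F141297)) (tt N10499 F114312) (tt N12419 F114313) (tt N14313 (iv F140925)) (tt N10498 (iv D25408)))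
theorem Q12421 : ∀ i, i < 12421 → P i := stepQ 12420 Q12420 (allL N12420 (tt N14038 (iv F139638)) (tt N10503 F114324) (tt N14036 (iv F139630)) (tt N10519 F114325) (tt N14035 (iv F139627)) (tt N10501 F114326) (tt N14422 D30349) (tt N10500 (iv D25412)) (tt N14015 (iv F139511)) (tt N14341 (iv F141000)))
theorem Q12422 : ∀ i, i < 12422 → P i := stepQ 12421 Q12421 (allL N12421 (tt N13463 (iv F136737)) (tt N14035 (iv F139624)) (tt N10505 F114330) (tt N12421 F114331) (tt N10503 F114332) (tt N10951 F114333) (tt N14423 D30350) (tt N10502 (iv D25414)) (tt N14424 D30351) (tt N14343 (iv F141008)))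
theorem Q12423 : ∀ i, i < 12423 → P i := stepQ 12422 Q12422 (allL N12422 (tt N10922 F134855) (tt N14014 (iv F139501)) (tt N10506 F114334) (tt N12422 F114335) (tt N10504 F114336) (tt N14020 (iv F139543)) (tt N12422 F114337) (tt N14424 (iv F141312)) (tt N10502 (iv D25415)) (tt N14425 D30352))
theorem Q12424 : ∀ i, i < 12424 → P i := stepQ 12423 Q12423 (allL N12423 (tt N13464 (iv F136744)) (tt N14422 (iv F141300)) (tt N10507 F114338) (tt N10520 F114339) (tt N14423 (iv F141306)) (tt N14059 (iv F139748)) (tt N10503 (iv D25416)) (tt N12423 F114340) (tt N14426 D30353) (tt N14345 (iv F141016)))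
theorem Q12425 : ∀ i, i < 12425 → P i := stepQ 12424 Q12424 (allL N12424 (tt N10923 F134856) (tt N14015 (iv F139508)) (tt N10508 F114341) (tt N10521 F114342) (tt N14424 (iv F141311)) (tt N10912 F134857) (tt N14426 (iv F141321)) (tt N10504 F114343) (tt N10503 (iv D25417)) (tt N14427 D30354))
theorem Q12426 : ∀ i, i < 12426 → P i := stepQ 12425 Q12425 (allL N12425 (tt N10916 F134858) (tt N14007 (iv F139458)) (tt N10509 F114344) (tt N10522 F114345) (tt N14425 (iv F141316)) (tt N10910 F134859) (tt N12425 F114346) (tt N14427 (iv F141327)) (tt N14347 (iv F141024)) (tt N10504 (iv D25418)))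
theorem Q12427 : ∀ i, i < 12427 → P i := stepQ 12426 Q12426 (allL N12426 (tt N13465 (iv F136751)) (tt N14059 (iv F139744)) (tt N14423 (iv F141304)) (tt N10512 F114347) (tt N10507 F114348) (tt N14422 (iv F141302)) (tt N10505 (iv D25419)) (tt N12426 F114349) (tt N14428 D30355) (tt N14348 (iv F141028)))
theorem Q12428 : ∀ i, i < 12428 → P i := stepQ 12427 Q12427 (allL N12427 (tt N13466 (iv F136755)) (tt N14060 (iv F139751)) (tt N14424 (iv F141309)) (tt N10513 F114350) (tt N10508 F114351) (tt N14071 (iv F139808)) (tt N14428 (iv F141330)) (tt N10506 F114352) (tt N10505 (iv D25420)) (tt N14429 D30356))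
theorem Q12429 : ∀ i, i < 12429 → P i := stepQ 12428 Q12428 (allL N12428 (tt N13467 (iv F136760)) (tt N14061 (iv F139758)) (tt N14425 (iv F141314)) (tt N10514 F114355) (tt N10509 F114356) (tt N14072 (iv F139812)) (tt N12428 F114357) (tt N14429 (iv F141334)) (tt N14351 (iv F141037)) (tt N10506 (iv D25422)))
theorem Q12430 : ∀ i, i < 12430 → P i := stepQ 12429 Q12429 (allL N12429 (tt N13468 (iv F136765)) (tt N14416 (iv F141274)) (tt N14426 (iv F141319)) (tt N10510 F114358) (tt N14428 (iv F141329)) (tt N14430 D30357) (tt N10508 F114359) (tt N12429 F114360) (tt N10507 (iv D25423)) (tt N14431 D30358))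
theorem Q12431 : ∀ i, i < 12431 → P i := stepQ 12430 Q12430 (allL N12430 (tt N13469 (iv F136770)) (tt N14417 (iv F141278)) (tt N14427 (iv F141324)) (tt N10511 F114361) (tt N14429 (iv F141333)) (tt N14068 (iv F139795)) (tt N14431 (iv F141338)) (tt N10509 F114362) (tt N14353 (iv F141043)) (tt N10508 (iv D25424)))
theorem Q12432 : ∀ i, i < 12432 → P i := stepQ 12431 Q12431 (allL N12431 (tt N13470 (iv F136775)) (tt N13473 (iv F136794)) (tt N10525 F114363) (tt N14430 (iv F141335)) (tt N13459 (iv F136721)) (tt N10510 (iv D25425)) (tt N13457 (iv F136710)) (tt N12431 F114364) (tt N13456 (iv F136704)) (tt N14432 D30359))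
theorem Q12433 : ∀ i, i < 12433 → P i := stepQ 12432 Q12432 (allL N12432 (tt N13471 (iv F136781)) (tt N14418 (iv F141281)) (tt N10526 F114365) (tt N14431 (iv F141337)) (tt N10518 F114366) (tt N14432 (iv F141341)) (tt N10511 F114367) (tt N12432 F114368) (tt N14355 (iv F141050)) (tt N10510 (iv D25426)))
theorem Q12434 : ∀ i, i < 12434 → P i := stepQ 12433 Q12433 (allL N12433 (tt N13472 (iv F136786)) (tt N10520 F134703) (tt N12433 F114369) (tt N14422 (iv F141301)) (tt N12433 F114370) (tt N10512 (iv D25427)) (tt N10519 F134704) (tt N12433 F114372) (tt N14016 (iv F139518)) (tt N14356 (iv F141056)))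
theorem Q12435 : ∀ i, i < 12435 → P i := stepQ 12434 Q12434 (allL N12434 (tt N13473 (iv F136793)) (tt N14084 (iv F139880)) (tt N12434 F114373) (tt N14428 (iv F141328)) (tt N10515 F114374) (tt N14410 (iv F141245)) (tt N10513 F114375) (tt N12434 F114376) (tt N10512 (iv D25428)) (tt N14433 D30360))
theorem Q12436 : ∀ i, i < 12436 → P i := stepQ 12435 Q12435 (allL N12435 (tt N13475 (iv F136807)) (tt N14085 (iv F139886)) (tt N12435 F114381) (tt N14429 (iv F141332)) (tt N10516 F114382) (tt N14092 (iv F139930)) (tt N14433 (iv F141345)) (tt N10514 F114383) (tt N14359 (iv F141067)) (tt N10513 (iv D25430)))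
theorem Q12437 : ∀ i, i < 12437 → P i := stepQ 12436 Q12436 (allL N12436 (tt N13477 (iv F136817)) (tt N14419 (iv F141286)) (tt N12436 F114394) (tt N10517 F114395) (tt N14414 (iv F141266)) (tt N10515 (iv D25433)) (tt N12436 F114396) (tt N12436 F114397) (tt N12436 F114398) (tt N14434 D30361))
theorem Q12438 : ∀ i, i < 12438 → P i := stepQ 12437 Q12437 (allL N12437 (tt N13478 (iv F136825)) (tt N14420 (iv F141291)) (tt N12437 F114399) (tt N10518 F114400) (tt N14433 (iv F141344)) (tt N14434 (iv F141349)) (tt N10516 F114401) (tt N12437 F114402) (tt N14363 (iv F141081)) (tt N10515 (iv D25434)))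
theorem Q12439 : ∀ i, i < 12439 → P i := stepQ 12438 Q12438 (allL N12438 (tt N13479 (iv F136830)) (tt N13477 (iv F136818)) (tt N10527 F114403) (tt N13461 (iv F136730)) (tt N10517 (iv D25435)) (tt N13459 F136724) (tt N12438 F114404) (tt N12438 F114405) (tt N12438 F114406) (tt N14435 D30362))
theorem Q12440 : ∀ i, i < 12440 → P i := stepQ 12439 Q12439 (allL N12439 (tt N13480 (iv F136835)) (tt N14421 (iv F141295)) (tt N10528 F114407) (tt N14434 (iv F141348)) (tt N14435 (iv F141353)) (tt N10518 F114408) (tt N12439 F114409) (tt N12439 F114410) (tt N14436 D30363) (tt N10517 (iv D25436)))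
theorem Q12441 : ∀ i, i < 12441 → P i := stepQ 12440 Q12440 (allL N12440 (tt N10924 F134871) (tt N14016 (iv F139513)) (tt N10523 F114431) (tt N14426 (iv F141320)) (tt N12440 F114432) (tt N13438 (iv F136597)) (tt N10521 F114433) (tt N12440 F114434) (tt N10520 (iv D25442)) (tt N14437 D30364))
theorem Q12442 : ∀ i, i < 12442 → P i := stepQ 12441 Q12441 (allL N12441 (tt N10918 F134872) (tt N14009 (iv F139469)) (tt N10524 F114435) (tt N14427 (iv F141325)) (tt N12441 F114436) (tt N10911 F134873) (tt N14437 (iv F141363)) (tt N10522 F114437) (tt N14393 (iv F141175)) (tt N10521 (iv D25443)))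
theorem Q12443 : ∀ i, i < 12443 → P i := stepQ 12442 Q12442 (allL N12442 (tt N11325 F135553) (tt N12442 F114438) (tt N13438 (iv F136595)) (tt N10525 F114439) (tt N13286 (iv F135710)) (tt N10523 (iv D25444)) (tt N11322 F135554) (tt N12442 F114440) (tt N14088 (iv F139910)) (tt N14438 D30365))
theorem Q12444 : ∀ i, i < 12444 → P i := stepQ 12443 Q12443 (allL N12443 (tt N11326 F135555) (tt N12443 F114441) (tt N14437 (iv F141361)) (tt N10526 F114442) (tt N12443 F114443) (tt N14438 (iv F141368)) (tt N10524 F114444) (tt N12443 F114445) (tt N14395 (iv F141185)) (tt N10523 (iv D25445)))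
theorem Q12445 : ∀ i, i < 12445 → P i := stepQ 12444 Q12444 (allL N12444 (tt N13481 (iv F136840)) (tt N12444 F114446) (tt N13459 (iv F136719)) (tt N14439 D30366) (tt N10525 (iv D25446)) (tt N10527 F114447) (tt N13454 (iv F136688)) (tt N12444 F114448) (tt N13453 F136682) (tt N14440 D30367))
theorem Q12446 : ∀ i, i < 12446 → P i := stepQ 12445 Q12445 (allL N12445 (tt N13482 (iv F136846)) (tt N12445 F114449) (tt N14432 (iv F141340)) (tt N14438 (iv F141367)) (tt N14440 (iv F141375)) (tt N10526 F114450) (tt N14091 (iv F139925)) (tt N12445 F114451) (tt N14441 D30368) (tt N10525 (iv D25447)))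
theorem Q12447 : ∀ i, i < 12447 → P i := stepQ 12446 Q12446 (allL N12446 (tt N13483 (iv F136852)) (tt N12446 F114452) (tt N14442 D30369) (tt N10527 (iv D25448)) (tt N12446 F114453) (tt N14439 (iv F141372)) (tt N12446 F114454) (tt N12446 F114455) (tt N12446 F114456) (tt N14443 D30370))
theorem Q12448 : ∀ i, i < 12448 → P i := stepQ 12447 Q12447 (allL N12447 (tt N13484 (iv F136857)) (tt N12447 F114457) (tt N14435 (iv F141352)) (tt N14443 (iv F141385)) (tt N10528 F114458) (tt N14440 (iv F141376)) (tt N12447 F114459) (tt N12447 F114460) (tt N14444 D30371) (tt N10527 (iv D25449)))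
theorem Q12449 : ∀ i, i < 12449 → P i := stepQ 12448 Q12448 (allL N12448 (tt N13485 (iv F136861)) (tt N12448 F114461) (tt N14436 (iv F141356)) (tt N12448 F114462) (tt N14444 (iv F141390)) (tt N14400 (iv F141201)) (tt N12448 F114463) (tt N12448 F114464) (tt N10528 (iv D25450)) (tt N12448 F114465))
theorem Q12450 : ∀ i, i < 12450 → P i := stepQ 12449 Q12449 (allL N12449 (tt N10548 F114466) (tt N14445 D30372) (tt N10529 (iv D25451)) (tt N11038 F114467) (tt N13748 (iv F138259)) (tt N13545 (iv F137216)) (tt N14446 D30373) (tt N13531 (iv F137141)) (tt N10532 F114468) (tt N13527 (iv F137117)))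
theorem Q12451 : ∀ i, i < 12451 → P i := stepQ 12450 Q12450 (allL N12450 (tt N10549 F114469) (tt N13487 (iv F136874)) (tt N14446 (iv F141397)) (tt N10530 F114470) (tt N13749 (iv F138267)) (tt N14447 D30374) (tt N10529 (iv D25452)) (tt N14448 D30375) (tt N10533 F114471) (tt N13528 (iv F137123)))
theorem Q12452 : ∀ i, i < 12452 → P i := stepQ 12451 Q12451 (allL N12451 (tt N10550 F114472) (tt N13488 (iv F136880)) (tt N11040 F114473) (tt N14447 (iv F141401)) (tt N10726 F114474) (tt N10530 (iv D25453)) (tt N13547 (iv F137230)) (tt N14449 D30376) (tt N13937 (iv F139115)) (tt N13529 (iv F137129)))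
theorem Q12453 : ∀ i, i < 12453 → P i := stepQ 12452 Q12452 (allL N12452 (tt N10551 F114475) (tt N13489 (iv F136886)) (tt N11041 F114476) (tt N14448 (iv F141403)) (tt N10531 F114477) (tt N14449 (iv F141408)) (tt N13534 (iv F137160)) (tt N10530 (iv D25454)) (tt N10535 F114478) (tt N13530 (iv F137136)))
theorem Q12454 : ∀ i, i < 12454 → P i := stepQ 12453 Q12453 (allL N12453 (tt N14131 (iv F140143)) (tt N10532 (iv D25455)) (tt N13490 (iv F136893)) (tt N11046 F114479) (tt N14104 F140008) (tt N12453 F114480) (tt N14450 D30377) (tt N14108 (iv F140030)) (tt N14445 (iv F141395)) (tt N12453 F114481))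
theorem Q12455 : ∀ i, i < 12455 → P i := stepQ 12454 Q12454 (allL N12454 (tt N10557 F114482) (tt N14450 (iv F141409)) (tt N10533 F114483) (tt N11047 F114484) (tt N14114 (iv F140062)) (tt N14451 D30378) (tt N10532 (iv D25456)) (tt N14452 D30379) (tt N14446 (iv F141399)) (tt N12454 F114485))
theorem Q12456 : ∀ i, i < 12456 → P i := stepQ 12455 Q12455 (allL N12455 (tt N10558 F114486) (tt N13492 (iv F136906)) (tt N14451 (iv F141413)) (tt N10534 F114487) (tt N14453 D30380) (tt N10533 (iv D25457)) (tt N12455 F114488) (tt N14454 D30381) (tt N13989 (iv F139358)) (tt N12455 F114489))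
theorem Q12457 : ∀ i, i < 12457 → P i := stepQ 12456 Q12456 (allL N12456 (tt N10559 F114490) (tt N13493 (iv F136913)) (tt N14452 (iv F141418)) (tt N10535 F114491) (tt N14116 (iv F140073)) (tt N14454 (iv F141430)) (tt N14111 (iv F140046)) (tt N10533 (iv D25458)) (tt N14448 (iv F141404)) (tt N12456 F114492))
theorem Q12458 : ∀ i, i < 12458 → P i := stepQ 12457 Q12457 (allL N12457 (tt N10560 F114493) (tt N13494 (iv F136919)) (tt N11050 F114494) (tt N14454 (iv F141429)) (tt N10538 F114495) (tt N10535 F114496) (tt N14455 D30382) (tt N10534 (iv D25459)) (tt N13990 (iv F139363)) (tt N12457 F114497))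
theorem Q12459 : ∀ i, i < 12459 → P i := stepQ 12458 Q12458 (allL N12458 (tt N10562 F114518) (tt N10658 F134909) (tt N10901 F134910) (tt N14453 (iv F141423)) (tt N10536 (iv D25464)) (tt N10657 F134911) (tt N12458 F114519) (tt N14456 D30383) (tt N10898 F134912) (tt N12458 F114520))
theorem Q12460 : ∀ i, i < 12460 → P i := stepQ 12459 Q12459 (allL N12459 (tt N10563 F114521) (tt N13496 (iv F136931)) (tt N10903 F134907) (tt N10538 F114522) (tt N14456 (iv F141440)) (tt N10537 F114523) (tt N14457 D30384) (tt N10536 (iv D25465)) (tt N10899 F134908) (tt N12459 F114524))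
theorem Q12461 : ∀ i, i < 12461 → P i := stepQ 12460 Q12460 (allL N12460 (tt N10564 F114529) (tt N13497 (iv F136939)) (tt N11051 F114530) (tt N14457 (iv F141446)) (tt N14455 (iv F141434)) (tt N12460 F114531) (tt N10538 (iv D25467)) (tt N12460 F114532) (tt N13991 (iv F139370)) (tt N12460 F114533))
theorem Q12462 : ∀ i, i < 12462 → P i := stepQ 12461 Q12461 (allL N12461 (tt N13545 (iv F137213)) (tt N14458 D30385) (tt N10539 (iv D25470)) (tt N10630 F114543) (tt N13541 (iv F137189)) (tt N10548 F114544) (tt N14459 D30386) (tt N10580 F114545) (tt N12461 F114546) (tt N10576 F114547))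
theorem Q12463 : ∀ i, i < 12463 → P i := stepQ 12462 Q12462 (allL N12462 (tt N13546 (iv F137220)) (tt N10570 F114548) (tt N14459 (iv F141457)) (tt N10540 F114549) (tt N13542 (iv F137197)) (tt N14460 D30387) (tt N10539 (iv D25471)) (tt N14461 D30388) (tt N12462 F114550) (tt N10577 F114551))
theorem Q12464 : ∀ i, i < 12464 → P i := stepQ 12463 Q12463 (allL N12463 (tt N13547 (iv F137226)) (tt N10571 F114552) (tt N10632 F114553) (tt N14460 (iv F141462)) (tt N10733 F114554) (tt N10540 (iv D25472)) (tt N10550 F114555) (tt N14462 D30389) (tt N14463 D30390) (tt N10578 F114556))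
theorem Q12465 : ∀ i, i < 12465 → P i := stepQ 12464 Q12464 (allL N12464 (tt N13548 (iv F137232)) (tt N10572 F114557) (tt N10633 F114558) (tt N14461 (iv F141466)) (tt N10541 F114559) (tt N14462 (iv F141473)) (tt N10583 F114560) (tt N10540 (iv D25473)) (tt N12464 F114561) (tt N10579 F114562))
theorem Q12466 : ∀ i, i < 12466 → P i := stepQ 12465 Q12465 (allL N12465 (tt N13531 (iv F137137)) (tt N14464 D30391) (tt N10542 (iv D25474)) (tt N10616 F114563) (tt N13717 (iv F138080)) (tt N10580 F114564) (tt N14465 D30392) (tt N10548 F114565) (tt N10552 F114566) (tt N10569 F114567))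
theorem Q12467 : ∀ i, i < 12467 → P i := stepQ 12466 Q12466 (allL N12466 (tt N13532 (iv F137144)) (tt N10577 F114568) (tt N14465 (iv F141486)) (tt N10543 F114569) (tt N13718 (iv F138088)) (tt N14466 D30393) (tt N10542 (iv D25475)) (tt N14467 D30394) (tt N10553 F114570) (tt N10570 F114571))
theorem Q12468 : ∀ i, i < 12468 → P i := stepQ 12467 Q12467 (allL N12467 (tt N13533 (iv F137150)) (tt N10578 F114572) (tt N10618 F114573) (tt N14466 (iv F141491)) (tt N10771 F114574) (tt N10543 (iv D25476)) (tt N10582 F114575) (tt N14468 D30395) (tt N14469 D30396) (tt N10571 F114576))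
theorem Q12469 : ∀ i, i < 12469 → P i := stepQ 12468 Q12468 (allL N12468 (tt N13534 (iv F137156)) (tt N10579 F114577) (tt N10619 F114578) (tt N14467 (iv F141495)) (tt N10544 F114579) (tt N14468 (iv F141502)) (tt N10551 F114580) (tt N10543 (iv D25477)) (tt N10555 F114581) (tt N10572 F114582))
theorem Q12470 : ∀ i, i < 12470 → P i := stepQ 12469 Q12469 (allL N12469 (tt N13527 (iv F137111)) (tt N14470 D30397) (tt N10545 (iv D25478)) (tt N10612 F114583) (tt N13758 (iv F138306)) (tt N10576 F114584) (tt N14471 D30398) (tt N10569 F114585) (tt N12469 F114586) (tt N10548 F114587))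
theorem Q12471 : ∀ i, i < 12471 → P i := stepQ 12470 Q12470 (allL N12470 (tt N13528 (iv F137118)) (tt N10581 F114588) (tt N14471 (iv F141515)) (tt N10546 F114589) (tt N13759 (iv F138314)) (tt N14472 D30399) (tt N10545 (iv D25479)) (tt N14473 D30400) (tt N12470 F114590) (tt N10549 F114591))
theorem Q12472 : ∀ i, i < 12472 → P i := stepQ 12471 Q12471 (allL N12471 (tt N13529 (iv F137124)) (tt N10582 F114592) (tt N10614 F114593) (tt N14472 (iv F141520)) (tt N10741 F114594) (tt N10546 (iv D25480)) (tt N10578 F114595) (tt N14474 D30401) (tt N14475 D30402) (tt N10550 F114596))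
theorem Q12473 : ∀ i, i < 12473 → P i := stepQ 12472 Q12472 (allL N12472 (tt N13530 (iv F137130)) (tt N10583 F114597) (tt N10615 F114598) (tt N14473 (iv F141524)) (tt N10547 F114599) (tt N14474 (iv F141531)) (tt N10572 F114600) (tt N10546 (iv D25481)) (tt N12472 F114601) (tt N10551 F114602))
theorem Q12474 : ∀ i, i < 12474 → P i := stepQ 12473 Q12473 (allL N12473 (tt N14476 D30403) (tt N10548 (iv D25482)) (tt N10584 F114603) (tt N11052 F114604) (tt N14206 (iv F140506)) (tt N14458 (iv F141453)) (tt N14477 D30404) (tt N14464 (iv F141483)) (tt N10556 F114605) (tt N14470 (iv F141514)))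
theorem Q12475 : ∀ i, i < 12475 → P i := stepQ 12474 Q12474 (allL N12474 (tt N14446 (iv F141396)) (tt N14477 (iv F141541)) (tt N10549 F114606) (tt N11053 F114607) (tt N14207 (iv F140510)) (tt N14478 D30405) (tt N10548 (iv D25483)) (tt N14479 D30406) (tt N10557 F114608) (tt N14471 (iv F141518)))
theorem Q12476 : ∀ i, i < 12476 → P i := stepQ 12475 Q12475 (allL N12475 (tt N14447 (iv F141400)) (tt N10586 F114609) (tt N14478 (iv F141545)) (tt N10550 F114610) (tt N14480 D30407) (tt N10549 (iv D25484)) (tt N14460 (iv F141463)) (tt N14481 D30408) (tt N14482 D30409) (tt N14472 (iv F141522)))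
theorem Q12477 : ∀ i, i < 12477 → P i := stepQ 12476 Q12476 (allL N12476 (tt N14448 (iv F141402)) (tt N10587 F114611) (tt N14479 (iv F141547)) (tt N10551 F114612) (tt N14209 (iv F140516)) (tt N14481 (iv F141554)) (tt N14467 (iv F141496)) (tt N10549 (iv D25485)) (tt N10559 F114613) (tt N14473 (iv F141527)))
theorem Q12478 : ∀ i, i < 12478 → P i := stepQ 12477 Q12477 (allL N12477 (tt N14449 (iv F141405)) (tt N10588 F114614) (tt N11056 F114615) (tt N14481 (iv F141553)) (tt N10747 F114616) (tt N10551 F114617) (tt N14483 D30410) (tt N10550 (iv D25486)) (tt N14484 D30411) (tt N14474 (iv F141532)))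
theorem Q12479 : ∀ i, i < 12479 → P i := stepQ 12478 Q12478 (allL N12478 (tt N13937 (iv F139112)) (tt N10589 F114618) (tt N10849 (iv F135178)) (tt N14482 (iv F141556)) (tt N10748 F114620) (tt N10561 F114621) (tt N14463 (iv F141479)) (tt N14484 (iv F141565)) (tt N10550 (iv D25487)) (tt N13413 (iv F136452)))
theorem Q12480 : ∀ i, i < 12480 → P i := stepQ 12479 Q12479 (allL N12479 (tt N14485 D30412) (tt N10552 (iv D25488)) (tt N10590 F114622) (tt N11057 F114623) (tt N14095 (iv F139944)) (tt N12479 F114624) (tt N14486 D30413) (tt N10556 F114625) (tt N14464 (iv F141484)) (tt N12479 F114626))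
theorem Q12481 : ∀ i, i < 12481 → P i := stepQ 12480 Q12480 (allL N12480 (tt N14109 (iv F140032)) (tt N14486 (iv F141571)) (tt N10553 F114627) (tt N11058 F114628) (tt N14096 (iv F139951)) (tt N14487 D30414) (tt N10552 (iv D25489)) (tt N14488 D30415) (tt N14465 (iv F141488)) (tt N12480 F114629))
theorem Q12482 : ∀ i, i < 12482 → P i := stepQ 12481 Q12481 (allL N12481 (tt N14110 (iv F140037)) (tt N10592 F114630) (tt N14487 (iv F141575)) (tt N10554 F114631) (tt N14489 D30416) (tt N10553 (iv D25490)) (tt N12481 F114632) (tt N14490 D30417) (tt N14491 D30418) (tt N12481 F114633))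
theorem Q12483 : ∀ i, i < 12483 → P i := stepQ 12482 Q12482 (allL N12482 (tt N14111 (iv F140042)) (tt N10593 F114634) (tt N14488 (iv F141579)) (tt N10555 F114635) (tt N14098 (iv F139961)) (tt N14490 (iv F141589)) (tt N10559 F114636) (tt N10553 (iv D25491)) (tt N14467 (iv F141497)) (tt N12482 F114637))
theorem Q12484 : ∀ i, i < 12484 → P i := stepQ 12483 Q12483 (allL N12483 (tt N14112 (iv F140048)) (tt N10594 F114638) (tt N11061 F114639) (tt N14490 (iv F141588)) (tt N12483 F114640) (tt N10555 F114641) (tt N14492 D30419) (tt N10554 (iv D25492)) (tt N14493 D30420) (tt N12483 F114642))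
theorem Q12485 : ∀ i, i < 12485 → P i := stepQ 12484 Q12484 (allL N12484 (tt N14113 (iv F140054)) (tt N10595 F114643) (tt N11062 F114644) (tt N14491 (iv F141592)) (tt N12484 F114645) (tt N14469 (iv F141507)) (tt N12484 F114646) (tt N14493 (iv F141603)) (tt N10554 (iv D25493)) (tt N14494 D30421))
theorem Q12486 : ∀ i, i < 12486 → P i := stepQ 12485 Q12485 (allL N12485 (tt N10556 (iv D25494)) (tt N14131 (iv F140144)) (tt N10596 F114647) (tt N11063 F114648) (tt N14130 F140142) (tt N12485 F114649) (tt N14495 D30422) (tt N14485 (iv F141569)) (tt N14476 (iv F141540)) (tt N12485 F114650))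
theorem Q12487 : ∀ i, i < 12487 → P i := stepQ 12486 Q12486 (allL N12486 (tt N14495 (iv F141609)) (tt N10557 F114651) (tt N10597 F114652) (tt N11064 F114653) (tt N14212 (iv F140529)) (tt N14496 D30423) (tt N10556 (iv D25495)) (tt N14497 D30424) (tt N14477 (iv F141544)) (tt N12486 F114654))
theorem Q12488 : ∀ i, i < 12488 → P i := stepQ 12487 Q12487 (allL N12487 (tt N14451 (iv F141412)) (tt N14496 (iv F141613)) (tt N10558 F114655) (tt N11065 F114656) (tt N14498 D30425) (tt N10557 (iv D25496)) (tt N12487 F114657) (tt N14499 D30426) (tt N14500 D30427) (tt N12487 F114658))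
theorem Q12489 : ∀ i, i < 12489 → P i := stepQ 12488 Q12488 (allL N12488 (tt N14452 (iv F141417)) (tt N14497 (iv F141618)) (tt N10559 F114659) (tt N11066 F114660) (tt N14214 (iv F140536)) (tt N14499 (iv F141627)) (tt N14488 (iv F141581)) (tt N10557 (iv D25497)) (tt N14479 (iv F141549)) (tt N12488 F114661))
theorem Q12490 : ∀ i, i < 12490 → P i := stepQ 12489 Q12489 (allL N12489 (tt N14453 (iv F141421)) (tt N10600 F114662) (tt N14498 (iv F141622)) (tt N10562 F114663) (tt N10558 (iv D25498)) (tt N14215 (iv F140541)) (tt N12489 F114664) (tt N14501 D30428) (tt N13993 (iv F139382)) (tt N12489 F114665))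
theorem Q12491 : ∀ i, i < 12491 → P i := stepQ 12490 Q12490 (allL N12490 (tt N14454 (iv F141428)) (tt N10601 F114666) (tt N14499 (iv F141625)) (tt N10560 F114667) (tt N14501 (iv F141634)) (tt N10559 F114668) (tt N14502 D30429) (tt N10558 (iv D25499)) (tt N14503 D30430) (tt N12490 F114669))
theorem Q12492 : ∀ i, i < 12492 → P i := stepQ 12491 Q12491 (allL N12491 (tt N13989 (iv F139355)) (tt N10602 F114670) (tt N14500 (iv F141629)) (tt N10561 F114671) (tt N13993 (iv F139380)) (tt N14482 (iv F141557)) (tt N12491 F114672) (tt N14503 (iv F141642)) (tt N10558 (iv D25500)) (tt N13429 (iv F136540)))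
theorem Q12493 : ∀ i, i < 12493 → P i := stepQ 12492 Q12492 (allL N12492 (tt N14455 (iv F141432)) (tt N10603 F114673) (tt N11068 F114674) (tt N14502 (iv F141637)) (tt N10564 F114675) (tt N14492 (iv F141597)) (tt N10560 (iv D25501)) (tt N12492 F114676) (tt N14504 D30431) (tt N12492 F114677))
theorem Q12494 : ∀ i, i < 12494 → P i := stepQ 12493 Q12493 (allL N12493 (tt N13990 (iv F139360)) (tt N10604 F114678) (tt N10894 (iv F135275)) (tt N14503 (iv F141641)) (tt N10565 F114680) (tt N14484 (iv F141564)) (tt N14504 (iv F141646)) (tt N10561 F114681) (tt N10560 (iv D25502)) (tt N13430 (iv F136546)))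
theorem Q12495 : ∀ i, i < 12495 → P i := stepQ 12494 Q12494 (allL N12494 (tt N14456 (iv F141437)) (tt N10606 F114701) (tt N13997 (iv F139405)) (tt N14501 (iv F141633)) (tt N10563 F114702) (tt N14220 (iv F140562)) (tt N14505 D30432) (tt N10562 (iv D25507)) (tt N13994 (iv F139388)) (tt N12494 F114703))
theorem Q12496 : ∀ i, i < 12496 → P i := stepQ 12495 Q12495 (allL N12495 (tt N14457 (iv F141444)) (tt N10608 F114707) (tt N13998 (iv F139412)) (tt N10564 F114708) (tt N14505 (iv F141649)) (tt N12495 F114709) (tt N10563 (iv D25509)) (tt N12495 F114710) (tt N13995 (iv F139396)) (tt N12495 F114711))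
theorem Q12497 : ∀ i, i < 12497 → P i := stepQ 12496 Q12496 (allL N12496 (tt N13991 (iv F139365)) (tt N10610 F114721) (tt N10895 (iv F135279)) (tt N13995 (iv F139393)) (tt N14504 (iv F141645)) (tt N10908 F134814) (tt N10565 F114723) (tt N12496 F114724) (tt N10564 (iv D25512)) (tt N13431 (iv F136554)))
theorem Q12498 : ∀ i, i < 12498 → P i := stepQ 12497 Q12497 (allL N12497 (tt N13523 (iv F137084)) (tt N14506 D30433) (tt N10566 (iv D25514)) (tt N12497 F114730) (tt N10569 F114731) (tt N13725 (iv F138133)) (tt N14507 D30434) (tt N13758 (iv F138308)) (tt N12497 F114732) (tt N13717 (iv F138084)))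
theorem Q12499 : ∀ i, i < 12499 → P i := stepQ 12498 Q12498 (allL N12498 (tt N13524 (iv F137092)) (tt N13542 (iv F137195)) (tt N14507 (iv F141655)) (tt N10567 F114733) (tt N10570 F114734) (tt N14508 D30435) (tt N10566 (iv D25515)) (tt N14509 D30436) (tt N12498 F114735) (tt N13718 (iv F138090)))
theorem Q12500 : ∀ i, i < 12500 → P i := stepQ 12499 Q12499 (allL N12499 (tt N13525 (iv F137098)) (tt N13543 (iv F137201)) (tt N12499 F114736) (tt N14508 (iv F141659)) (tt N10763 F114737) (tt N10567 (iv D25516)) (tt N13727 (iv F138147)) (tt N14510 D30437) (tt N14511 D30438) (tt N13719 (iv F138096)))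
theorem Q12501 : ∀ i, i < 12501 → P i := stepQ 12500 Q12500 (allL N12500 (tt N13526 (iv F137104)) (tt N13544 (iv F137207)) (tt N12500 F114738) (tt N14509 (iv F141660)) (tt N10568 F114739) (tt N14510 (iv F141665)) (tt N13761 (iv F138327)) (tt N10567 (iv D25517)) (tt N12500 F114740) (tt N13720 (iv F138103)))
theorem Q12502 : ∀ i, i < 12502 → P i := stepQ 12501 Q12501 (allL N12501 (tt N14512 D30439) (tt N10569 (iv D25518)) (tt N14458 (iv F141451)) (tt N10620 F114741) (tt N14506 (iv F141653)) (tt N10584 F114742) (tt N14513 D30440) (tt N14470 (iv F141512)) (tt N12501 F114743) (tt N14464 (iv F141485)))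
theorem Q12503 : ∀ i, i < 12503 → P i := stepQ 12502 Q12502 (allL N12502 (tt N13536 (iv F137168)) (tt N14513 (iv F141672)) (tt N10570 F114744) (tt N10621 F114745) (tt N14507 (iv F141657)) (tt N14514 D30441) (tt N10569 (iv D25519)) (tt N14515 D30442) (tt N12502 F114746) (tt N14465 (iv F141489)))
theorem Q12504 : ∀ i, i < 12504 → P i := stepQ 12503 Q12503 (allL N12503 (tt N13537 (iv F137172)) (tt N14460 (iv F141461)) (tt N14514 (iv F141675)) (tt N10571 F114747) (tt N14516 D30443) (tt N10570 (iv D25520)) (tt N10586 F114748) (tt N14517 D30444) (tt N14518 D30445) (tt N14466 (iv F141493)))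
theorem Q12505 : ∀ i, i < 12505 → P i := stepQ 12504 Q12504 (allL N12504 (tt N13538 (iv F137175)) (tt N14461 (iv F141465)) (tt N14515 (iv F141678)) (tt N10572 F114749) (tt N14509 (iv F141661)) (tt N14517 (iv F141684)) (tt N14473 (iv F141525)) (tt N10570 (iv D25521)) (tt N12504 F114750) (tt N14467 (iv F141498)))
theorem Q12506 : ∀ i, i < 12506 → P i := stepQ 12505 Q12505 (allL N12505 (tt N13539 (iv F137178)) (tt N14462 (iv F141470)) (tt N10624 F114751) (tt N14517 (iv F141683)) (tt N10777 F114752) (tt N10572 F114753) (tt N14519 D30446) (tt N10571 (iv D25522)) (tt N14520 D30447) (tt N14468 (iv F141503)))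
theorem Q12507 : ∀ i, i < 12507 → P i := stepQ 12506 Q12506 (allL N12506 (tt N13540 (iv F137182)) (tt N14463 (iv F141475)) (tt N10625 F114754) (tt N14518 (iv F141685)) (tt N10778 F114755) (tt N12506 F114756) (tt N10589 F114757) (tt N14520 (iv F141694)) (tt N10571 (iv D25523)) (tt N14521 D30448))
theorem Q12508 : ∀ i, i < 12508 → P i := stepQ 12507 Q12507 (allL N12507 (tt N13541 (iv F137187)) (tt N14522 D30449) (tt N10573 (iv D25524)) (tt N10626 F114758) (tt N13545 (iv F137215)) (tt N10739 F114759) (tt N14523 D30450) (tt N10779 F114760) (tt N12507 F114761) (tt N10731 F114762))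
theorem Q12509 : ∀ i, i < 12509 → P i := stepQ 12508 Q12508 (allL N12508 (tt N13542 (iv F137194)) (tt N10770 F114763) (tt N14523 (iv F141705)) (tt N10574 F114764) (tt N13546 (iv F137223)) (tt N14524 D30451) (tt N10573 (iv D25525)) (tt N14525 D30452) (tt N12508 F114765) (tt N10732 F114766))
theorem Q12510 : ∀ i, i < 12510 → P i := stepQ 12509 Q12509 (allL N12509 (tt N13543 (iv F137200)) (tt N10771 F114767) (tt N10628 F114768) (tt N14524 (iv F141710)) (tt N10578 F114769) (tt N10574 (iv D25526)) (tt N10741 F114770) (tt N14526 D30453) (tt N14527 D30454) (tt N10733 F114771))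
theorem Q12511 : ∀ i, i < 12511 → P i := stepQ 12510 Q12510 (allL N12510 (tt N13544 (iv F137206)) (tt N10772 F114772) (tt N10629 F114773) (tt N14525 (iv F141714)) (tt N10575 F114774) (tt N14526 (iv F141721)) (tt N10782 F114775) (tt N10574 (iv D25527)) (tt N12510 F114776) (tt N10734 F114777))
theorem Q12512 : ∀ i, i < 12512 → P i := stepQ 12511 Q12511 (allL N12511 (tt N14528 D30455) (tt N10576 (iv D25528)) (tt N14464 (iv F141480)) (tt N10634 F114778) (tt N14129 (iv F140134)) (tt N14470 (iv F141511)) (tt N14529 D30456) (tt N10584 F114779) (tt N10590 F114780) (tt N14458 (iv F141456)))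
theorem Q12513 : ∀ i, i < 12513 → P i := stepQ 12512 Q12512 (allL N12512 (tt N13550 (iv F137244)) (tt N14529 (iv F141731)) (tt N10577 F114781) (tt N10635 F114782) (tt N14157 (iv F140273)) (tt N14530 D30457) (tt N10576 (iv D25529)) (tt N14531 D30458) (tt N10591 F114783) (tt N14459 (iv F141460)))
theorem Q12514 : ∀ i, i < 12514 → P i := stepQ 12513 Q12513 (allL N12513 (tt N13551 (iv F137249)) (tt N14466 (iv F141490)) (tt N14530 (iv F141734)) (tt N10578 F114784) (tt N14532 D30459) (tt N10577 (iv D25530)) (tt N14472 (iv F141521)) (tt N14533 D30460) (tt N14534 D30461) (tt N14460 (iv F141464)))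
theorem Q12515 : ∀ i, i < 12515 → P i := stepQ 12514 Q12514 (allL N12514 (tt N13552 (iv F137252)) (tt N14467 (iv F141494)) (tt N14531 (iv F141736)) (tt N10579 F114785) (tt N14230 (iv F140611)) (tt N14533 (iv F141741)) (tt N10587 F114786) (tt N10577 (iv D25531)) (tt N10593 F114787) (tt N14461 (iv F141469)))
theorem Q12516 : ∀ i, i < 12516 → P i := stepQ 12515 Q12515 (allL N12515 (tt N13553 (iv F137258)) (tt N14468 (iv F141499)) (tt N10638 F114788) (tt N14533 (iv F141740)) (tt N14526 (iv F141720)) (tt N10579 F114789) (tt N14535 D30462) (tt N10578 (iv D25532)) (tt N14536 D30463) (tt N14462 (iv F141474)))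
theorem Q12517 : ∀ i, i < 12517 → P i := stepQ 12516 Q12516 (allL N12516 (tt N13554 (iv F137262)) (tt N14469 (iv F141504)) (tt N10639 F114790) (tt N14534 (iv F141742)) (tt N14527 (iv F141725)) (tt N10595 F114791) (tt N14475 (iv F141537)) (tt N14536 (iv F141748)) (tt N10578 (iv D25533)) (tt N14537 D30464))
theorem Q12518 : ∀ i, i < 12518 → P i := stepQ 12517 Q12517 (allL N12517 (tt N14538 D30465) (tt N10580 (iv D25534)) (tt N14470 (iv F141509)) (tt N10640 F114792) (tt N13832 (iv F138638)) (tt N14464 (iv F141482)) (tt N14539 D30466) (tt N14458 (iv F141454)) (tt N12517 F114793) (tt N10584 F114794))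
theorem Q12519 : ∀ i, i < 12519 → P i := stepQ 12518 Q12518 (allL N12518 (tt N13556 (iv F137271)) (tt N14539 (iv F141754)) (tt N10581 F114795) (tt N10641 F114796) (tt N13833 (iv F138644)) (tt N14540 D30467) (tt N10580 (iv D25535)) (tt N14541 D30468) (tt N12518 F114797) (tt N10585 F114798))
theorem Q12520 : ∀ i, i < 12520 → P i := stepQ 12519 Q12519 (allL N12519 (tt N13557 (iv F137277)) (tt N14472 (iv F141519)) (tt N14540 (iv F141758)) (tt N10582 F114799) (tt N14542 D30469) (tt N10581 (iv D25536)) (tt N14466 (iv F141492)) (tt N14543 D30470) (tt N14544 D30471) (tt N10586 F114800))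
theorem Q12521 : ∀ i, i < 12521 → P i := stepQ 12520 Q12520 (allL N12520 (tt N13558 (iv F137280)) (tt N14473 (iv F141523)) (tt N14541 (iv F141761)) (tt N10583 F114801) (tt N13835 (iv F138652)) (tt N14543 (iv F141768)) (tt N14461 (iv F141467)) (tt N10581 (iv D25537)) (tt N12520 F114802) (tt N10587 F114803))
theorem Q12522 : ∀ i, i < 12522 → P i := stepQ 12521 Q12521 (allL N12521 (tt N13559 (iv F137285)) (tt N14474 (iv F141528)) (tt N10644 F114804) (tt N14543 (iv F141767)) (tt N10791 F114805) (tt N10583 F114806) (tt N14545 D30472) (tt N10582 (iv D25538)) (tt N14546 D30473) (tt N10588 F114807))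
theorem Q12523 : ∀ i, i < 12523 → P i := stepQ 12522 Q12522 (allL N12522 (tt N13560 (iv F137290)) (tt N14475 (iv F141533)) (tt N10645 F114808) (tt N14544 (iv F141770)) (tt N10792 F114809) (tt N12522 F114810) (tt N14469 (iv F141508)) (tt N14546 (iv F141778)) (tt N10582 (iv D25539)) (tt N14547 D30474))
theorem Q12524 : ∀ i, i < 12524 → P i := stepQ 12523 Q12523 (allL N12523 (tt N10584 (iv D25540)) (tt N13561 (iv F137294)) (tt N14476 (iv F141538)) (tt N10646 F114811) (tt N14170 (iv F140333)) (tt N14512 (iv F141670)) (tt N14548 D30475) (tt N14528 (iv F141729)) (tt N10596 F114812) (tt N14538 (iv F141753)))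
theorem Q12525 : ∀ i, i < 12525 → P i := stepQ 12524 Q12524 (allL N12524 (tt N14548 (iv F141783)) (tt N10585 F114813) (tt N14477 (iv F141542)) (tt N10647 F114814) (tt N14232 (iv F140619)) (tt N14549 D30476) (tt N10584 (iv D25541)) (tt N14550 D30477) (tt N10597 F114815) (tt N14539 (iv F141757)))
theorem Q12526 : ∀ i, i < 12526 → P i := stepQ 12525 Q12525 (allL N12525 (tt N13563 (iv F137304)) (tt N14549 (iv F141786)) (tt N10586 F114816) (tt N10648 F114817) (tt N14551 D30478) (tt N10585 (iv D25542)) (tt N14514 (iv F141677)) (tt N14552 D30479) (tt N14553 D30480) (tt N14540 (iv F141760)))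
theorem Q12527 : ∀ i, i < 12527 → P i := stepQ 12526 Q12526 (allL N12526 (tt N13564 (iv F137307)) (tt N14550 (iv F141788)) (tt N10587 F114818) (tt N10649 F114819) (tt N14234 (iv F140625)) (tt N14552 (iv F141794)) (tt N14531 (iv F141738)) (tt N10585 (iv D25543)) (tt N10599 F114820) (tt N14541 (iv F141764)))
theorem Q12528 : ∀ i, i < 12528 → P i := stepQ 12527 Q12527 (allL N12527 (tt N13565 (iv F137311)) (tt N14480 (iv F141550)) (tt N14551 (iv F141791)) (tt N10796 F114821) (tt N10586 (iv D25544)) (tt N14235 (iv F140628)) (tt N14516 (iv F141682)) (tt N14554 D30481) (tt N14555 D30482) (tt N14542 (iv F141766)))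
theorem Q12529 : ∀ i, i < 12529 → P i := stepQ 12528 Q12528 (allL N12528 (tt N13566 (iv F137313)) (tt N14481 (iv F141552)) (tt N14552 (iv F141792)) (tt N10588 F114822) (tt N14554 (iv F141799)) (tt N10587 F114823) (tt N14556 D30483) (tt N10586 (iv D25545)) (tt N14557 D30484) (tt N14543 (iv F141769)))
theorem Q12530 : ∀ i, i < 12530 → P i := stepQ 12529 Q12529 (allL N12529 (tt N13567 (iv F137316)) (tt N14482 (iv F141555)) (tt N14553 (iv F141795)) (tt N10589 F114824) (tt N14555 (iv F141801)) (tt N10602 F114825) (tt N14518 (iv F141687)) (tt N14557 (iv F141805)) (tt N10586 (iv D25546)) (tt N14558 D30485))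
theorem Q12531 : ∀ i, i < 12531 → P i := stepQ 12530 Q12530 (allL N12530 (tt N13568 (iv F137319)) (tt N14483 (iv F141558)) (tt N10653 F114826) (tt N14556 (iv F141802)) (tt N10799 F114827) (tt N14535 (iv F141745)) (tt N10588 (iv D25547)) (tt N14519 (iv F141690)) (tt N14559 D30486) (tt N14545 (iv F141774)))
theorem Q12532 : ∀ i, i < 12532 → P i := stepQ 12531 Q12531 (allL N12531 (tt N13569 (iv F137322)) (tt N14484 (iv F141561)) (tt N10654 F114828) (tt N14557 (iv F141803)) (tt N10800 F114829) (tt N10604 F114830) (tt N14559 (iv F141810)) (tt N10589 F114831) (tt N10588 (iv D25548)) (tt N14560 D30487))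
theorem Q12533 : ∀ i, i < 12533 → P i := stepQ 12532 Q12532 (allL N12532 (tt N13570 (iv F137327)) (tt N13413 (iv F136449)) (tt N10655 F114832) (tt N14558 (iv F141806)) (tt N10801 F114833) (tt N10605 F114834) (tt N14521 (iv F141698)) (tt N14560 (iv F141814)) (tt N14547 (iv F141782)) (tt N10589 (iv D25549)))
theorem Q12534 : ∀ i, i < 12534 → P i := stepQ 12533 Q12533 (allL N12533 (tt N10590 (iv D25550)) (tt N13571 (iv F137331)) (tt N14485 (iv F141566)) (tt N10656 F114835) (tt N14102 F139994) (tt N12533 F114836) (tt N14215 (iv F140542)) (tt N10596 F114837) (tt N14528 (iv F141730)) (tt N12533 F114838))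
theorem Q12535 : ∀ i, i < 12535 → P i := stepQ 12534 Q12534 (allL N12534 (tt N14215 (iv F140538)) (tt N10591 F114839) (tt N14486 (iv F141572)) (tt N10657 F114840) (tt N14115 F140069) (tt N14453 (iv F141424)) (tt N10590 (iv D25551)) (tt N14561 D30488) (tt N14529 (iv F141733)) (tt N12534 F114841))
theorem Q12536 : ∀ i, i < 12536 → P i := stepQ 12535 Q12535 (allL N12535 (tt N13510 (iv F137011)) (tt N14453 (iv F141422)) (tt N10592 F114842) (tt N10658 F114843) (tt N13492 (iv F136909)) (tt N10591 (iv D25552)) (tt N12535 F114844) (tt N14562 D30489) (tt N14563 D30490) (tt N12535 F114845))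
theorem Q12537 : ∀ i, i < 12537 → P i := stepQ 12536 Q12536 (allL N12536 (tt N13572 (iv F137339)) (tt N14561 (iv F141815)) (tt N10593 F114846) (tt N10659 F114847) (tt N14156 (iv F140266)) (tt N14562 (iv F141821)) (tt N10599 F114848) (tt N10591 (iv D25553)) (tt N14531 (iv F141739)) (tt N12536 F114849))
theorem Q12538 : ∀ i, i < 12538 → P i := stepQ 12537 Q12537 (allL N12537 (tt N13508 (iv F136998)) (tt N14489 (iv F141583)) (tt N13492 (iv F136907)) (tt N12537 F114850) (tt N10592 (iv D25554)) (tt N13491 F136904) (tt N12537 F114851) (tt N14564 D30491) (tt N14565 D30492) (tt N12537 F114852))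
theorem Q12539 : ∀ i, i < 12539 → P i := stepQ 12538 Q12538 (allL N12538 (tt N13573 (iv F137345)) (tt N14490 (iv F141587)) (tt N14562 (iv F141819)) (tt N10594 F114853) (tt N14564 (iv F141829)) (tt N10593 F114854) (tt N14566 D30493) (tt N10592 (iv D25555)) (tt N14567 D30494) (tt N12538 F114855))
theorem Q12540 : ∀ i, i < 12540 → P i := stepQ 12539 Q12539 (allL N12539 (tt N13574 (iv F137350)) (tt N14491 (iv F141591)) (tt N14563 (iv F141824)) (tt N10595 F114856) (tt N14565 (iv F141832)) (tt N14534 (iv F141743)) (tt N12539 F114857) (tt N14567 (iv F141839)) (tt N10592 (iv D25556)) (tt N14568 D30495))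
theorem Q12541 : ∀ i, i < 12541 → P i := stepQ 12540 Q12540 (allL N12540 (tt N13575 (iv F137354)) (tt N14492 (iv F141594)) (tt N10663 F114858) (tt N14566 (iv F141834)) (tt N12540 F114859) (tt N10603 F114860) (tt N10594 (iv D25557)) (tt N12540 F114861) (tt N14569 D30496) (tt N12540 F114862))
theorem Q12542 : ∀ i, i < 12542 → P i := stepQ 12541 Q12541 (allL N12541 (tt N13576 (iv F137361)) (tt N14493 (iv F141600)) (tt N10664 F114863) (tt N14567 (iv F141838)) (tt N12541 F114864) (tt N14536 (iv F141747)) (tt N14569 (iv F141846)) (tt N10595 F114865) (tt N10594 (iv D25558)) (tt N14570 D30497))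
theorem Q12543 : ∀ i, i < 12543 → P i := stepQ 12542 Q12542 (allL N12542 (tt N13577 (iv F137366)) (tt N14494 (iv F141604)) (tt N10665 F114866) (tt N14568 (iv F141841)) (tt N12542 F114867) (tt N14537 (iv F141750)) (tt N12542 F114868) (tt N14570 (iv F141850)) (tt N12542 F114869) (tt N10595 (iv D25559)))
theorem Q12544 : ∀ i, i < 12544 → P i := stepQ 12543 Q12543 (allL N12543 (tt N10597 F114870) (tt N13578 (iv F137373)) (tt N14495 (iv F141610)) (tt N10666 F114871) (tt N14159 F140285) (tt N14571 D30498) (tt N10596 (iv D25560)) (tt N14572 D30499) (tt N14548 (iv F141785)) (tt N12543 F114872))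
theorem Q12545 : ∀ i, i < 12545 → P i := stepQ 12544 Q12544 (allL N12544 (tt N14571 (iv F141852)) (tt N10598 F114873) (tt N14496 (iv F141614)) (tt N10667 F114874) (tt N14573 D30500) (tt N10597 (iv D25561)) (tt N12544 F114875) (tt N14574 D30501) (tt N14575 D30502) (tt N12544 F114876))
theorem Q12546 : ∀ i, i < 12546 → P i := stepQ 12545 Q12545 (allL N12545 (tt N14572 (iv F141856)) (tt N10599 F114877) (tt N14497 (iv F141619)) (tt N10668 F114878) (tt N14241 (iv F140644)) (tt N14574 (iv F141865)) (tt N14561 (iv F141817)) (tt N10597 (iv D25562)) (tt N14550 (iv F141790)) (tt N12545 F114879))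
theorem Q12547 : ∀ i, i < 12547 → P i := stepQ 12546 Q12546 (allL N12546 (tt N13581 (iv F137389)) (tt N14573 (iv F141859)) (tt N10600 F114880) (tt N12546 F114881) (tt N10598 (iv D25563)) (tt N14173 F140351) (tt N12546 F114882) (tt N14576 D30503) (tt N14577 D30504) (tt N12546 F114883))
theorem Q12548 : ∀ i, i < 12548 → P i := stepQ 12547 Q12547 (allL N12547 (tt N13582 (iv F137396)) (tt N14574 (iv F141863)) (tt N10601 F114884) (tt N10669 F114885) (tt N14576 (iv F141872)) (tt N10599 F114886) (tt N14578 D30505) (tt N10598 (iv D25564)) (tt N14579 D30506) (tt N12547 F114887))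
theorem Q12549 : ∀ i, i < 12549 → P i := stepQ 12548 Q12548 (allL N12548 (tt N13583 (iv F137401)) (tt N14575 (iv F141867)) (tt N10602 F114888) (tt N10670 F114889) (tt N14577 (iv F141876)) (tt N14553 (iv F141797)) (tt N12548 F114890) (tt N14579 (iv F141884)) (tt N10598 (iv D25565)) (tt N14580 D30507))
theorem Q12550 : ∀ i, i < 12550 → P i := stepQ 12549 Q12549 (allL N12549 (tt N13584 (iv F137405)) (tt N14501 (iv F141632)) (tt N14576 (iv F141870)) (tt N10606 F114891) (tt N10601 F114892) (tt N14242 (iv F140648)) (tt N14581 D30508) (tt N10600 (iv D25566)) (tt N14582 D30509) (tt N12549 F114893))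
theorem Q12551 : ∀ i, i < 12551 → P i := stepQ 12550 Q12550 (allL N12550 (tt N13585 (iv F137409)) (tt N13993 (iv F139379)) (tt N14577 (iv F141874)) (tt N10607 F114894) (tt N10602 F114895) (tt N14583 D30510) (tt N12550 F114896) (tt N14582 (iv F141895)) (tt N10600 (iv D25567)) (tt N13999 (iv F139422)))
theorem Q12552 : ∀ i, i < 12552 → P i := stepQ 12551 Q12551 (allL N12551 (tt N13586 (iv F137413)) (tt N14502 (iv F141636)) (tt N14578 (iv F141878)) (tt N10603 F114897) (tt N14581 (iv F141890)) (tt N14566 (iv F141835)) (tt N10601 (iv D25568)) (tt N12551 F114898) (tt N14584 D30511) (tt N12551 F114899))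
theorem Q12553 : ∀ i, i < 12553 → P i := stepQ 12552 Q12552 (allL N12552 (tt N13587 (iv F137417)) (tt N14503 (iv F141640)) (tt N14579 (iv F141882)) (tt N10604 F114900) (tt N14582 (iv F141894)) (tt N14557 (iv F141804)) (tt N14584 (iv F141898)) (tt N10602 F114901) (tt N10601 (iv D25569)) (tt N14585 D30512))
theorem Q12554 : ∀ i, i < 12554 → P i := stepQ 12553 Q12553 (allL N12553 (tt N13588 (iv F137420)) (tt N13429 (iv F136536)) (tt N14580 (iv F141885)) (tt N10605 F114902) (tt N13999 (iv F139419)) (tt N14558 (iv F141807)) (tt N12553 F114903) (tt N14585 (iv F141901)) (tt N12553 F114904) (tt N10602 (iv D25570)))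
theorem Q12555 : ∀ i, i < 12555 → P i := stepQ 12554 Q12554 (allL N12554 (tt N13589 (iv F137424)) (tt N14504 (iv F141643)) (tt N10674 F114905) (tt N14584 (iv F141897)) (tt N10610 F114906) (tt N14586 D30513) (tt N10604 F114907) (tt N12554 F114908) (tt N10603 (iv D25571)) (tt N14587 D30514))
theorem Q12556 : ∀ i, i < 12556 → P i := stepQ 12555 Q12555 (allL N12555 (tt N13590 (iv F137429)) (tt N13430 (iv F136542)) (tt N10675 F114909) (tt N14585 (iv F141900)) (tt N10611 F114910) (tt N14560 (iv F141813)) (tt N14587 (iv F141907)) (tt N10605 F114911) (tt N12555 F114912) (tt N10604 (iv D25572)))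
theorem Q12557 : ∀ i, i < 12557 → P i := stepQ 12556 Q12556 (allL N12556 (tt N13591 (iv F137434)) (tt N14505 (iv F141648)) (tt N12556 F114913) (tt N14581 (iv F141889)) (tt N10608 F114914) (tt N14588 D30515) (tt N10606 (iv D25573)) (tt N12556 F114915) (tt N14589 D30516) (tt N12556 F114916))
theorem Q12558 : ∀ i, i < 12558 → P i := stepQ 12557 Q12557 (allL N12557 (tt N13592 (iv F137439)) (tt N13994 (iv F139385)) (tt N12557 F114917) (tt N14582 (iv F141893)) (tt N10609 F114918) (tt N14590 D30517) (tt N14589 (iv F141916)) (tt N10607 F114919) (tt N10606 (iv D25574)) (tt N14000 (iv F139427)))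
theorem Q12559 : ∀ i, i < 12559 → P i := stepQ 12558 Q12558 (allL N12558 (tt N13593 (iv F137443)) (tt N13943 (iv F139145)) (tt N12558 F114920) (tt N14583 (iv F141896)) (tt N10816 F114921) (tt N10607 (iv D25575)) (tt N14591 D30518) (tt N14590 (iv F141920)) (tt N14248 (iv F140665)) (tt N13953 (iv F139193)))
theorem Q12560 : ∀ i, i < 12560 → P i := stepQ 12559 Q12559 (allL N12559 (tt N13595 (iv F137452)) (tt N13995 (iv F139391)) (tt N12559 F114926) (tt N10610 F114927) (tt N14589 (iv F141915)) (tt N14403 (iv F141215)) (tt N10609 F114928) (tt N12559 F114929) (tt N10608 (iv D25577)) (tt N14001 (iv F139433)))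
theorem Q12561 : ∀ i, i < 12561 → P i := stepQ 12560 Q12560 (allL N12560 (tt N13597 (iv F137464)) (tt N10908 F134804) (tt N10676 F114935) (tt N14403 (iv F141214)) (tt N14592 D30519) (tt N10610 (iv D25579)) (tt N10817 F114936) (tt N12560 F114937) (tt N12560 F114938) (tt N14593 D30520))
theorem Q12562 : ∀ i, i < 12562 → P i := stepQ 12561 Q12561 (allL N12561 (tt N13598 (iv F137469)) (tt N13431 (iv F136548)) (tt N10677 F114939) (tt N14001 (iv F139430)) (tt N14587 (iv F141906)) (tt N14593 (iv F141931)) (tt N10611 F114940) (tt N12561 F114941) (tt N12561 F114942) (tt N10610 (iv D25580)))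
theorem Q12563 : ∀ i, i < 12563 → P i := stepQ 12562 Q12562 (allL N12562 (tt N14594 D30521) (tt N10612 (iv D25581)) (tt N11081 F114943) (tt N14470 (iv F141510)) (tt N12562 F114944) (tt N10634 F114945) (tt N14595 D30522) (tt N10620 F114946) (tt N12562 F114947) (tt N11052 F114948))
theorem Q12564 : ∀ i, i < 12564 → P i := stepQ 12563 Q12563 (allL N12563 (tt N13600 (iv F137480)) (tt N14595 (iv F141940)) (tt N10613 F114949) (tt N14471 (iv F141516)) (tt N12563 F114950) (tt N14596 D30523) (tt N10612 (iv D25582)) (tt N14597 D30524) (tt N12563 F114951) (tt N11053 F114952))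
theorem Q12565 : ∀ i, i < 12565 → P i := stepQ 12564 Q12564 (allL N12564 (tt N13601 (iv F137485)) (tt N11083 F114953) (tt N14596 (iv F141945)) (tt N10614 F114954) (tt N14598 D30525) (tt N10613 (iv D25583)) (tt N10636 F114955) (tt N14599 D30526) (tt N14600 D30527) (tt N11054 F114956))
theorem Q12566 : ∀ i, i < 12566 → P i := stepQ 12565 Q12565 (allL N12565 (tt N13602 (iv F137490)) (tt N11084 F114957) (tt N14597 (iv F141948)) (tt N10615 F114958) (tt N12565 F114959) (tt N14599 (iv F141961)) (tt N10623 F114960) (tt N10613 (iv D25584)) (tt N12565 F114961) (tt N11055 F114962))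
theorem Q12567 : ∀ i, i < 12567 → P i := stepQ 12566 Q12566 (allL N12566 (tt N13603 (iv F137497)) (tt N11085 F114963) (tt N14474 (iv F141529)) (tt N14599 (iv F141960)) (tt N11235 F114964) (tt N10615 F114965) (tt N14601 D30528) (tt N10614 (iv D25585)) (tt N14602 D30529) (tt N11056 F114966))
theorem Q12568 : ∀ i, i < 12568 → P i := stepQ 12567 Q12567 (allL N12567 (tt N13604 (iv F137502)) (tt N11086 F114967) (tt N14475 (iv F141534)) (tt N14600 (iv F141964)) (tt N11236 F114968) (tt N12567 F114969) (tt N10639 F114970) (tt N14602 (iv F141977)) (tt N10614 (iv D25586)) (tt N13417 (iv F136474)))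
theorem Q12569 : ∀ i, i < 12569 → P i := stepQ 12568 Q12568 (allL N12568 (tt N14603 D30530) (tt N10616 (iv D25587)) (tt N11075 F114971) (tt N14464 (iv F141481)) (tt N12568 F114972) (tt N10640 F114973) (tt N14604 D30531) (tt N11052 F114974) (tt N11057 F114975) (tt N10620 F114976))
theorem Q12570 : ∀ i, i < 12570 → P i := stepQ 12569 Q12569 (allL N12569 (tt N13606 (iv F137514)) (tt N14604 (iv F141984)) (tt N10617 F114977) (tt N14465 (iv F141487)) (tt N12569 F114978) (tt N14605 D30532) (tt N10616 (iv D25588)) (tt N14606 D30533) (tt N11058 F114979) (tt N10621 F114980))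
theorem Q12571 : ∀ i, i < 12571 → P i := stepQ 12570 Q12570 (allL N12570 (tt N13607 (iv F137519)) (tt N11077 F114981) (tt N14605 (iv F141989)) (tt N10618 F114982) (tt N14607 D30534) (tt N10617 (iv D25589)) (tt N10642 F114983) (tt N14608 D30535) (tt N14609 D30536) (tt N10622 F114984))
theorem Q12572 : ∀ i, i < 12572 → P i := stepQ 12571 Q12571 (allL N12571 (tt N13608 (iv F137524)) (tt N11078 F114985) (tt N14606 (iv F141992)) (tt N10619 F114986) (tt N12571 F114987) (tt N14608 (iv F142005)) (tt N11055 F114988) (tt N10617 (iv D25590)) (tt N11060 F114989) (tt N10623 F114990))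
theorem Q12573 : ∀ i, i < 12573 → P i := stepQ 12572 Q12572 (allL N12572 (tt N13609 (iv F137531)) (tt N11079 F114991) (tt N14468 (iv F141500)) (tt N14608 (iv F142004)) (tt N10832 F114992) (tt N10619 F114993) (tt N14610 D30537) (tt N10618 (iv D25591)) (tt N14611 D30538) (tt N10624 F114994))
theorem Q12574 : ∀ i, i < 12574 → P i := stepQ 12573 Q12573 (allL N12573 (tt N13610 (iv F137536)) (tt N11080 F114995) (tt N14469 (iv F141505)) (tt N14609 (iv F142008)) (tt N10833 F114996) (tt N11062 F114997) (tt N10645 F114998) (tt N14611 (iv F142021)) (tt N10618 (iv D25592)) (tt N14612 D30539))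
theorem Q12575 : ∀ i, i < 12575 → P i := stepQ 12574 Q12574 (allL N12574 (tt N10620 (iv D25593)) (tt N13611 (iv F137541)) (tt N11121 F114999) (tt N14512 (iv F141669)) (tt N12574 F115000) (tt N10646 F115001) (tt N14613 D30540) (tt N14594 (iv F141937)) (tt N12574 F115002) (tt N14603 (iv F141983)))
theorem Q12576 : ∀ i, i < 12576 → P i := stepQ 12575 Q12575 (allL N12575 (tt N14613 (iv F142028)) (tt N10621 F115003) (tt N11122 F115004) (tt N14513 (iv F141673)) (tt N12575 F115005) (tt N14614 D30541) (tt N10620 (iv D25594)) (tt N14615 D30542) (tt N12575 F115006) (tt N14604 (iv F141988)))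
theorem Q12577 : ∀ i, i < 12577 → P i := stepQ 12576 Q12576 (allL N12576 (tt N13613 (iv F137550)) (tt N14614 (iv F142032)) (tt N10622 F115007) (tt N14514 (iv F141676)) (tt N14616 D30543) (tt N10621 (iv D25595)) (tt N10648 F115008) (tt N14617 D30544) (tt N14618 D30545) (tt N14605 (iv F141991)))
theorem Q12578 : ∀ i, i < 12578 → P i := stepQ 12577 Q12577 (allL N12577 (tt N13614 (iv F137553)) (tt N14615 (iv F142035)) (tt N10623 F115009) (tt N14515 (iv F141679)) (tt N12577 F115010) (tt N14617 (iv F142043)) (tt N14597 (iv F141950)) (tt N10621 (iv D25596)) (tt N12577 F115011) (tt N14606 (iv F141996)))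
theorem Q12579 : ∀ i, i < 12579 → P i := stepQ 12578 Q12578 (allL N12578 (tt N13615 (iv F137557)) (tt N11125 F115012) (tt N14616 (iv F142039)) (tt N10837 F115013) (tt N10622 (iv D25597)) (tt N12578 F115014) (tt N10650 F115015) (tt N14619 D30546) (tt N14620 D30547) (tt N14607 (iv F142001)))
theorem Q12580 : ∀ i, i < 12580 → P i := stepQ 12579 Q12579 (allL N12579 (tt N13616 (iv F137562)) (tt N11126 F115016) (tt N14617 (iv F142042)) (tt N10624 F115017) (tt N14619 (iv F142049)) (tt N10623 F115018) (tt N14621 D30548) (tt N10622 (iv D25598)) (tt N14622 D30549) (tt N14608 (iv F142006)))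
theorem Q12581 : ∀ i, i < 12581 → P i := stepQ 12580 Q12580 (allL N12580 (tt N13617 (iv F137566)) (tt N11127 F115019) (tt N14618 (iv F142044)) (tt N10625 F115020) (tt N14620 (iv F142053)) (tt N12580 F115021) (tt N10652 F115022) (tt N14622 (iv F142063)) (tt N10622 (iv D25599)) (tt N14623 D30550))
theorem Q12582 : ∀ i, i < 12582 → P i := stepQ 12581 Q12581 (allL N12581 (tt N13618 (iv F137571)) (tt N11128 F115023) (tt N14519 (iv F141688)) (tt N14621 (iv F142058)) (tt N10840 F115024) (tt N14601 (iv F141971)) (tt N10624 (iv D25600)) (tt N10653 F115025) (tt N14624 D30551) (tt N14610 (iv F142017)))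
theorem Q12583 : ∀ i, i < 12583 → P i := stepQ 12582 Q12582 (allL N12582 (tt N13619 (iv F137575)) (tt N11129 F115026) (tt N14520 (iv F141691)) (tt N14622 (iv F142061)) (tt N10841 F115027) (tt N12582 F115028) (tt N14624 (iv F142072)) (tt N10625 F115029) (tt N10624 (iv D25601)) (tt N14625 D30552))
theorem Q12584 : ∀ i, i < 12584 → P i := stepQ 12583 Q12583 (allL N12583 (tt N13620 (iv F137580)) (tt N11130 F115030) (tt N14521 (iv F141695)) (tt N14623 (iv F142065)) (tt N10842 F115031) (tt N12583 F115032) (tt N10655 F115033) (tt N14625 (iv F142077)) (tt N14612 (iv F142027)) (tt N10625 (iv D25602)))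
theorem Q12585 : ∀ i, i < 12585 → P i := stepQ 12584 Q12584 (allL N12584 (tt N14198 (iv F140457)) (tt N10626 (iv D25603)) (tt N11027 F134979) (tt N14522 (iv F141700)) (tt N10678 F115035) (tt N10993 F134977) (tt N13312 (iv F135878)) (tt N10843 F115037) (tt N12584 F115038) (tt N10992 F134978))
theorem Q12586 : ∀ i, i < 12586 → P i := stepQ 12585 Q12585 (allL N12585 (tt N13622 (iv F137591)) (tt N13312 (iv F135875)) (tt N10627 F115040) (tt N14523 (iv F141706)) (tt N10679 F115041) (tt N14626 D30553) (tt N10626 (iv D25604)) (tt N14627 D30554) (tt N12585 F115042) (tt N11002 F135438))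
theorem Q12587 : ∀ i, i < 12587 → P i := stepQ 12586 Q12586 (allL N12586 (tt N13623 (iv F137596)) (tt N11132 F115044) (tt N14626 (iv F142078)) (tt N10628 F115045) (tt N14628 D30555) (tt N10627 (iv D25605)) (tt N10853 F135419) (tt N14629 D30556) (tt N13412 (iv F136447)) (tt N10827 F135420))
theorem Q12588 : ∀ i, i < 12588 → P i := stepQ 12587 Q12587 (allL N12587 (tt N13624 (iv F137602)) (tt N11133 F115048) (tt N14627 (iv F142081)) (tt N10629 F115049) (tt N10681 F115050) (tt N14629 (iv F142094)) (tt N10846 F115051) (tt N10627 (iv D25606)) (tt N12587 F115052) (tt N11019 F135444))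
theorem Q12589 : ∀ i, i < 12589 → P i := stepQ 12588 Q12588 (allL N12588 (tt N13625 (iv F137609)) (tt N11134 F115054) (tt N14526 (iv F141719)) (tt N14629 (iv F142093)) (tt N10638 F115055) (tt N10629 F115056) (tt N14630 D30557) (tt N10628 (iv D25607)) (tt N14631 D30558) (tt N11233 F115057))
theorem Q12590 : ∀ i, i < 12590 → P i := stepQ 12589 Q12589 (allL N12589 (tt N13626 (iv F137614)) (tt N11135 F115058) (tt N14527 (iv F141724)) (tt N13412 (iv F136443)) (tt N10639 F115059) (tt N12589 F115060) (tt N11236 F115061) (tt N14631 (iv F142104)) (tt N10628 (iv D25608)) (tt N13409 (iv F136429)))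
theorem Q12591 : ∀ i, i < 12591 → P i := stepQ 12590 Q12590 (allL N12590 (tt N14632 D30559) (tt N10630 (iv D25609)) (tt N11069 F115062) (tt N14458 (iv F141452)) (tt N10684 F115063) (tt N11052 F115064) (tt N14633 D30560) (tt N10640 F115065) (tt N12590 F115066) (tt N10634 F115067))
theorem Q12592 : ∀ i, i < 12592 → P i := stepQ 12591 Q12591 (allL N12591 (tt N13628 (iv F137627)) (tt N14633 (iv F142111)) (tt N10631 F115068) (tt N14459 (iv F141458)) (tt N10685 F115069) (tt N14634 D30561) (tt N10630 (iv D25610)) (tt N14635 D30562) (tt N12591 F115070) (tt N10635 F115071))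
theorem Q12593 : ∀ i, i < 12593 → P i := stepQ 12592 Q12592 (allL N12592 (tt N13629 (iv F137632)) (tt N11071 F115072) (tt N14634 (iv F142116)) (tt N10632 F115073) (tt N14636 D30563) (tt N10631 (iv D25611)) (tt N11054 F115074) (tt N14637 D30564) (tt N14638 D30565) (tt N10636 F115075))
theorem Q12594 : ∀ i, i < 12594 → P i := stepQ 12593 Q12593 (allL N12593 (tt N13630 (iv F137637)) (tt N11072 F115076) (tt N14635 (iv F142119)) (tt N10633 F115077) (tt N10687 F115078) (tt N14637 (iv F142132)) (tt N10643 F115079) (tt N10631 (iv D25612)) (tt N12593 F115080) (tt N10637 F115081))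
theorem Q12595 : ∀ i, i < 12595 → P i := stepQ 12594 Q12594 (allL N12594 (tt N13631 (iv F137644)) (tt N11073 F115082) (tt N14462 (iv F141471)) (tt N14637 (iv F142131)) (tt N11233 F115083) (tt N10633 F115084) (tt N14639 D30566) (tt N10632 (iv D25613)) (tt N14640 D30567) (tt N10638 F115085))
theorem Q12596 : ∀ i, i < 12596 → P i := stepQ 12595 Q12595 (allL N12595 (tt N13632 (iv F137649)) (tt N11074 F115086) (tt N14463 (iv F141476)) (tt N14638 (iv F142135)) (tt N10824 F135430) (tt N12595 F115088) (tt N10849 F135431) (tt N14640 (iv F142148)) (tt N10632 (iv D25614)) (tt N13407 (iv F136416)))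
theorem Q12597 : ∀ i, i < 12597 → P i := stepQ 12596 Q12596 (allL N12596 (tt N10634 (iv D25615)) (tt N13633 (iv F137655)) (tt N11136 F115090) (tt N14528 (iv F141728)) (tt N10690 F115091) (tt N14594 (iv F141936)) (tt N14221 (iv F140569)) (tt N10646 F115092) (tt N10656 F115093) (tt N14632 (iv F142110)))
theorem Q12598 : ∀ i, i < 12598 → P i := stepQ 12597 Q12597 (allL N12597 (tt N14221 (iv F140565)) (tt N10635 F115094) (tt N11137 F115095) (tt N14529 (iv F141732)) (tt N10691 F115096) (tt N14641 D30568) (tt N10634 (iv D25616)) (tt N14642 D30569) (tt N10657 F115097) (tt N14633 (iv F142115)))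
theorem Q12599 : ∀ i, i < 12599 → P i := stepQ 12598 Q12598 (allL N12598 (tt N13634 (iv F137661)) (tt N14641 (iv F142149)) (tt N10636 F115098) (tt N14530 (iv F141735)) (tt N14643 D30570) (tt N10635 (iv D25617)) (tt N14596 (iv F141946)) (tt N14644 D30571) (tt N14645 D30572) (tt N14634 (iv F142118)))
theorem Q12600 : ∀ i, i < 12600 → P i := stepQ 12599 Q12599 (allL N12599 (tt N13635 (iv F137663)) (tt N14642 (iv F142153)) (tt N10637 F115099) (tt N14531 (iv F141737)) (tt N10693 F115100) (tt N14644 (iv F142163)) (tt N10649 F115101) (tt N10635 (iv D25618)) (tt N10659 F115102) (tt N14635 (iv F142123)))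
theorem Q12601 : ∀ i, i < 12601 → P i := stepQ 12600 Q12600 (allL N12600 (tt N13636 (iv F137668)) (tt N11140 F115103) (tt N14643 (iv F142159)) (tt N14628 (iv F142087)) (tt N10636 (iv D25619)) (tt N10694 F115104) (tt N14598 (iv F141956)) (tt N14646 D30573) (tt N11034 F135514) (tt N14636 (iv F142128)))
theorem Q12602 : ∀ i, i < 12602 → P i := stepQ 12601 Q12601 (allL N12601 (tt N13637 (iv F137672)) (tt N11141 F115106) (tt N14644 (iv F142162)) (tt N10638 F115107) (tt N14646 (iv F142170)) (tt N10637 F115108) (tt N14647 D30574) (tt N10636 (iv D25620)) (tt N14648 D30575) (tt N14637 (iv F142133)))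
theorem Q12603 : ∀ i, i < 12603 → P i := stepQ 12602 Q12602 (allL N12602 (tt N13638 (iv F137676)) (tt N11142 F115109) (tt N14645 (iv F142165)) (tt N10639 F115110) (tt N11034 F135510) (tt N10662 F115112) (tt N14600 (iv F141967)) (tt N14648 (iv F142180)) (tt N10636 (iv D25621)) (tt N11033 F135511))
theorem Q12604 : ∀ i, i < 12604 → P i := stepQ 12603 Q12603 (allL N12603 (tt N13639 (iv F137682)) (tt N11143 F115114) (tt N14535 (iv F141744)) (tt N14647 (iv F142174)) (tt N14630 (iv F142097)) (tt N10653 F115115) (tt N10638 (iv D25622)) (tt N14601 (iv F141972)) (tt N14649 D30576) (tt N14639 (iv F142144)))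
theorem Q12605 : ∀ i, i < 12605 → P i := stepQ 12604 Q12604 (allL N12604 (tt N13640 (iv F137685)) (tt N11144 F115116) (tt N14536 (iv F141746)) (tt N14648 (iv F142177)) (tt N14631 (iv F142102)) (tt N10664 F115117) (tt N14649 (iv F142183)) (tt N10639 F115118) (tt N10638 (iv D25623)) (tt N14650 D30577))
theorem Q12606 : ∀ i, i < 12606 → P i := stepQ 12605 Q12605 (allL N12605 (tt N13641 (iv F137689)) (tt N11145 F115119) (tt N14537 (iv F141749)) (tt N11033 F135508) (tt N13409 (iv F136426)) (tt N10665 F115121) (tt N13417 (iv F136473)) (tt N14650 (iv F142187)) (tt N13407 F136417) (tt N10639 (iv D25624)))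
theorem Q12607 : ∀ i, i < 12607 → P i := stepQ 12606 Q12606 (allL N12606 (tt N10640 (iv D25625)) (tt N13642 (iv F137696)) (tt N11146 F115122) (tt N14538 (iv F141751)) (tt N10700 F115123) (tt N14603 (iv F141980)) (tt N14651 D30578) (tt N14632 (iv F142108)) (tt N12606 F115124) (tt N10646 F115125))
theorem Q12608 : ∀ i, i < 12608 → P i := stepQ 12607 Q12607 (allL N12607 (tt N14651 (iv F142188)) (tt N10641 F115126) (tt N11147 F115127) (tt N14539 (iv F141755)) (tt N10701 F115128) (tt N14652 D30579) (tt N10640 (iv D25626)) (tt N14653 D30580) (tt N12607 F115129) (tt N10647 F115130))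
theorem Q12609 : ∀ i, i < 12609 → P i := stepQ 12608 Q12608 (allL N12608 (tt N13644 (iv F137706)) (tt N14652 (iv F142193)) (tt N10642 F115131) (tt N14540 (iv F141759)) (tt N14654 D30581) (tt N10641 (iv D25627)) (tt N14605 (iv F141990)) (tt N14655 D30582) (tt N14656 D30583) (tt N10648 F115132))
theorem Q12610 : ∀ i, i < 12610 → P i := stepQ 12609 Q12609 (allL N12609 (tt N13645 (iv F137709)) (tt N14653 (iv F142196)) (tt N10643 F115133) (tt N14541 (iv F141762)) (tt N10703 F115134) (tt N14655 (iv F142205)) (tt N14635 (iv F142121)) (tt N10641 (iv D25628)) (tt N12609 F115135) (tt N10649 F115136))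
theorem Q12611 : ∀ i, i < 12611 → P i := stepQ 12610 Q12610 (allL N12610 (tt N13646 (iv F137714)) (tt N11150 F115137) (tt N14654 (iv F142201)) (tt N10857 F115138) (tt N10642 (iv D25629)) (tt N10704 F115139) (tt N14607 (iv F142000)) (tt N14657 D30584) (tt N14658 D30585) (tt N10650 F115140))
theorem Q12612 : ∀ i, i < 12612 → P i := stepQ 12611 Q12611 (allL N12611 (tt N13647 (iv F137719)) (tt N11151 F115141) (tt N14655 (iv F142204)) (tt N10644 F115142) (tt N14657 (iv F142211)) (tt N10643 F115143) (tt N14659 D30586) (tt N10642 (iv D25630)) (tt N14660 D30587) (tt N10651 F115144))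
theorem Q12613 : ∀ i, i < 12613 → P i := stepQ 12612 Q12612 (allL N12612 (tt N13648 (iv F137724)) (tt N11152 F115145) (tt N14656 (iv F142207)) (tt N10645 F115146) (tt N14658 (iv F142216)) (tt N12612 F115147) (tt N14609 (iv F142011)) (tt N14660 (iv F142226)) (tt N10642 (iv D25631)) (tt N14661 D30588))
theorem Q12614 : ∀ i, i < 12614 → P i := stepQ 12613 Q12613 (allL N12613 (tt N13649 (iv F137728)) (tt N11153 F115148) (tt N14545 (iv F141772)) (tt N14659 (iv F142221)) (tt N10860 F115149) (tt N14639 (iv F142142)) (tt N10644 (iv D25632)) (tt N14610 (iv F142016)) (tt N14662 D30589) (tt N10653 F115150))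
theorem Q12615 : ∀ i, i < 12615 → P i := stepQ 12614 Q12614 (allL N12614 (tt N13650 (iv F137732)) (tt N11154 F115151) (tt N14546 (iv F141775)) (tt N14660 (iv F142224)) (tt N10861 F115152) (tt N12614 F115153) (tt N14662 (iv F142235)) (tt N10645 F115154) (tt N10644 (iv D25633)) (tt N14663 D30590))
theorem Q12616 : ∀ i, i < 12616 → P i := stepQ 12615 Q12615 (allL N12615 (tt N13651 (iv F137737)) (tt N11155 F115155) (tt N14547 (iv F141779)) (tt N14661 (iv F142228)) (tt N10862 F115156) (tt N12615 F115157) (tt N14612 (iv F142026)) (tt N14663 (iv F142239)) (tt N10655 F115158) (tt N10645 (iv D25634)))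
theorem Q12617 : ∀ i, i < 12617 → P i := stepQ 12616 Q12616 (allL N12616 (tt N10647 F115159) (tt N13652 (iv F137743)) (tt N11156 F115160) (tt N14548 (iv F141784)) (tt N10709 F115161) (tt N14664 D30591) (tt N10646 (iv D25635)) (tt N14665 D30592) (tt N10666 F115162) (tt N14651 (iv F142192)))
theorem Q12618 : ∀ i, i < 12618 → P i := stepQ 12617 Q12617 (allL N12617 (tt N14664 (iv F142241)) (tt N10648 F115163) (tt N11157 F115164) (tt N14549 (iv F141787)) (tt N14666 D30593) (tt N10647 (iv D25636)) (tt N14614 (iv F142034)) (tt N14667 D30594) (tt N14668 D30595) (tt N14652 (iv F142195)))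
theorem Q12619 : ∀ i, i < 12619 → P i := stepQ 12618 Q12618 (allL N12618 (tt N14665 (iv F142243)) (tt N10649 F115165) (tt N11158 F115166) (tt N14550 (iv F141789)) (tt N10711 F115167) (tt N14667 (iv F142252)) (tt N14642 (iv F142156)) (tt N10647 (iv D25637)) (tt N10668 F115168) (tt N14653 (iv F142200)))
theorem Q12620 : ∀ i, i < 12620 → P i := stepQ 12619 Q12619 (allL N12619 (tt N13655 (iv F137753)) (tt N14666 (iv F142247)) (tt N10650 F115169) (tt N14669 D30596) (tt N10648 (iv D25638)) (tt N10712 F115170) (tt N14616 (iv F142041)) (tt N14670 D30597) (tt N14671 D30598) (tt N14654 (iv F142203)))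
theorem Q12621 : ∀ i, i < 12621 → P i := stepQ 12620 Q12620 (allL N12620 (tt N13656 (iv F137756)) (tt N14667 (iv F142250)) (tt N10651 F115171) (tt N14552 (iv F141793)) (tt N14670 (iv F142259)) (tt N10649 F115172) (tt N14672 D30599) (tt N10648 (iv D25639)) (tt N14673 D30600) (tt N14655 (iv F142206)))
theorem Q12622 : ∀ i, i < 12622 → P i := stepQ 12621 Q12621 (allL N12621 (tt N13657 (iv F137759)) (tt N14668 (iv F142253)) (tt N10652 F115173) (tt N14553 (iv F141796)) (tt N14671 (iv F142262)) (tt N10670 F115174) (tt N14618 (iv F142046)) (tt N14673 (iv F142267)) (tt N10648 (iv D25640)) (tt N14674 D30601))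
theorem Q12623 : ∀ i, i < 12623 → P i := stepQ 12622 Q12622 (allL N12622 (tt N13658 (iv F137762)) (tt N11162 F115175) (tt N14670 (iv F142258)) (tt N10867 F115176) (tt N10651 F115177) (tt N10714 F115178) (tt N14675 D30602) (tt N10650 (iv D25641)) (tt N14676 D30603) (tt N14657 (iv F142213)))
theorem Q12624 : ∀ i, i < 12624 → P i := stepQ 12623 Q12623 (allL N12623 (tt N13659 (iv F137767)) (tt N11163 F115179) (tt N14671 (iv F142261)) (tt N10868 F115180) (tt N10652 F115181) (tt N12623 F115182) (tt N14620 (iv F142054)) (tt N14676 (iv F142277)) (tt N10650 (iv D25642)) (tt N14677 D30604))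
theorem Q12625 : ∀ i, i < 12625 → P i := stepQ 12624 Q12624 (allL N12624 (tt N13660 (iv F137772)) (tt N11164 F115183) (tt N14672 (iv F142264)) (tt N10653 F115184) (tt N14675 (iv F142272)) (tt N14647 (iv F142175)) (tt N10651 (iv D25643)) (tt N14621 (iv F142059)) (tt N14678 D30605) (tt N14659 (iv F142222)))
theorem Q12626 : ∀ i, i < 12626 → P i := stepQ 12625 Q12625 (allL N12625 (tt N13661 (iv F137775)) (tt N11165 F115185) (tt N14673 (iv F142265)) (tt N10654 F115186) (tt N14676 (iv F142275)) (tt N10672 F115187) (tt N14678 (iv F142286)) (tt N10652 F115188) (tt N10651 (iv D25644)) (tt N14679 D30606))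
theorem Q12627 : ∀ i, i < 12627 → P i := stepQ 12626 Q12626 (allL N12626 (tt N13662 (iv F137780)) (tt N11166 F115189) (tt N14674 (iv F142268)) (tt N10655 F115190) (tt N14677 (iv F142280)) (tt N10673 F115191) (tt N14623 (iv F142068)) (tt N14679 (iv F142290)) (tt N14661 (iv F142232)) (tt N10652 (iv D25645)))
theorem Q12628 : ∀ i, i < 12628 → P i := stepQ 12627 Q12627 (allL N12627 (tt N13663 (iv F137784)) (tt N11167 F115192) (tt N14559 (iv F141808)) (tt N14678 (iv F142285)) (tt N10872 F115193) (tt N14680 D30607) (tt N10654 F115194) (tt N14624 (iv F142073)) (tt N10653 (iv D25646)) (tt N14681 D30608))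
theorem Q12629 : ∀ i, i < 12629 → P i := stepQ 12628 Q12628 (allL N12628 (tt N13664 (iv F137788)) (tt N11168 F115195) (tt N14560 (iv F141811)) (tt N14679 (iv F142288)) (tt N10873 F115196) (tt N10675 F115197) (tt N14681 (iv F142295)) (tt N10655 F115198) (tt N14663 (iv F142240)) (tt N10654 (iv D25647)))
theorem Q12630 : ∀ i, i < 12630 → P i := stepQ 12629 Q12629 (allL N12629 (tt N14220 (iv F140558)) (tt N10659 F115209) (tt N11170 F115210) (tt N14561 (iv F141816)) (tt N10716 F115211) (tt N14456 (iv F141441)) (tt N10668 F115212) (tt N10657 (iv D25650)) (tt N14642 (iv F142157)) (tt N12629 F115213))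
theorem Q12631 : ∀ i, i < 12631 → P i := stepQ 12630 Q12630 (allL N12630 (tt N13517 (iv F137049)) (tt N14456 (iv F141438)) (tt N10661 F115220) (tt N14562 (iv F141820)) (tt N13496 (iv F136934)) (tt N10659 F115221) (tt N14682 D30609) (tt N10658 (iv D25652)) (tt N14683 D30610) (tt N12630 F115222))
theorem Q12632 : ∀ i, i < 12632 → P i := stepQ 12631 Q12631 (allL N12631 (tt N13518 (iv F137055)) (tt N10898 F115223) (tt N10662 F115224) (tt N14563 (iv F141825)) (tt N10897 F115225) (tt N14645 (iv F142167)) (tt N12631 F115226) (tt N14683 (iv F142303)) (tt N10658 (iv D25653)) (tt N10905 (iv F115227)))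
theorem Q12633 : ∀ i, i < 12633 → P i := stepQ 12632 Q12632 (allL N12632 (tt N13516 (iv F137041)) (tt N11172 F115228) (tt N13496 (iv F136932)) (tt N12632 F115229) (tt N10661 F115230) (tt N10718 F115231) (tt N14684 D30611) (tt N10660 (iv D25654)) (tt N10884 (iv F135257)) (tt N12632 F115233))
theorem Q12634 : ∀ i, i < 12634 → P i := stepQ 12633 Q12633 (allL N12633 (tt N13665 (iv F137793)) (tt N11173 F115234) (tt N14682 (iv F142296)) (tt N10663 F115235) (tt N14684 (iv F142307)) (tt N10671 F115236) (tt N10661 (iv D25655)) (tt N12633 F115237) (tt N14685 D30612) (tt N12633 F115238))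
theorem Q12635 : ∀ i, i < 12635 → P i := stepQ 12634 Q12634 (allL N12634 (tt N13666 (iv F137799)) (tt N11174 F115239) (tt N14683 (iv F142301)) (tt N10664 F115240) (tt N10884 F135519) (tt N14648 (iv F142179)) (tt N14685 (iv F142315)) (tt N10662 F115242) (tt N10661 (iv D25656)) (tt N10883 F135520))
theorem Q12636 : ∀ i, i < 12636 → P i := stepQ 12635 Q12635 (allL N12635 (tt N13667 (iv F137805)) (tt N11175 F115244) (tt N14569 (iv F141844)) (tt N14685 (iv F142313)) (tt N12635 F115245) (tt N14686 D30613) (tt N10664 F115246) (tt N12635 F115247) (tt N10663 (iv D25657)) (tt N14687 D30614))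
theorem Q12637 : ∀ i, i < 12637 → P i := stepQ 12636 Q12636 (allL N12636 (tt N13668 (iv F137810)) (tt N11176 F115248) (tt N14570 (iv F141848)) (tt N10883 F135518) (tt N12636 F115250) (tt N14650 (iv F142186)) (tt N14687 (iv F142324)) (tt N10665 F115251) (tt N12636 F115252) (tt N10664 (iv D25658)))
theorem Q12638 : ∀ i, i < 12638 → P i := stepQ 12637 Q12637 (allL N12637 (tt N10667 F115253) (tt N13669 (iv F137817)) (tt N11177 F115254) (tt N14571 (iv F141853)) (tt N12637 F115255) (tt N10666 (iv D25659)) (tt N12637 F115256) (tt N14688 D30615) (tt N14689 D30616) (tt N12637 F115257))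
theorem Q12639 : ∀ i, i < 12639 → P i := stepQ 12638 Q12638 (allL N12638 (tt N10668 F115258) (tt N13670 (iv F137823)) (tt N11178 F115259) (tt N14572 (iv F141857)) (tt N10721 F115260) (tt N14688 (iv F142330)) (tt N14220 (iv F140563)) (tt N10666 (iv D25660)) (tt N14665 (iv F142246)) (tt N12638 F115261))
theorem Q12640 : ∀ i, i < 12640 → P i := stepQ 12639 Q12639 (allL N12639 (tt N14688 (iv F142327)) (tt N10669 F115262) (tt N11179 F115263) (tt N14574 (iv F141864)) (tt N12639 F115264) (tt N10668 F115265) (tt N14690 D30617) (tt N10667 (iv D25661)) (tt N14691 D30618) (tt N12639 F115266))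
theorem Q12641 : ∀ i, i < 12641 → P i := stepQ 12640 Q12640 (allL N12640 (tt N14689 (iv F142332)) (tt N10670 F115267) (tt N11180 F115268) (tt N14575 (iv F141868)) (tt N12640 F115269) (tt N14668 (iv F142255)) (tt N12640 F115270) (tt N14691 (iv F142344)) (tt N10667 (iv D25662)) (tt N14692 D30619))
theorem Q12642 : ∀ i, i < 12642 → P i := stepQ 12641 Q12641 (allL N12641 (tt N13673 (iv F137837)) (tt N14690 (iv F142336)) (tt N10671 F115271) (tt N14578 (iv F141879)) (tt N12641 F115272) (tt N14682 (iv F142297)) (tt N10669 (iv D25663)) (tt N12641 F115273) (tt N14693 D30620) (tt N12641 F115274))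
theorem Q12643 : ∀ i, i < 12643 → P i := stepQ 12642 Q12642 (allL N12642 (tt N13674 (iv F137842)) (tt N14691 (iv F142341)) (tt N10672 F115275) (tt N14579 (iv F141883)) (tt N12642 F115276) (tt N14673 (iv F142266)) (tt N14693 (iv F142352)) (tt N10670 F115277) (tt N10669 (iv D25664)) (tt N14694 D30621))
theorem Q12644 : ∀ i, i < 12644 → P i := stepQ 12643 Q12643 (allL N12643 (tt N13675 (iv F137846)) (tt N14692 (iv F142345)) (tt N10673 F115278) (tt N14580 (iv F141886)) (tt N12643 F115279) (tt N14674 (iv F142269)) (tt N12643 F115280) (tt N14694 (iv F142356)) (tt N12643 F115281) (tt N10670 (iv D25665)))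
theorem Q12645 : ∀ i, i < 12645 → P i := stepQ 12644 Q12644 (allL N12644 (tt N13676 (iv F137851)) (tt N11184 F115282) (tt N14693 (iv F142350)) (tt N10674 F115283) (tt N12644 F115284) (tt N14695 D30622) (tt N10672 F115285) (tt N12644 F115286) (tt N10671 (iv D25666)) (tt N14696 D30623))
theorem Q12646 : ∀ i, i < 12646 → P i := stepQ 12645 Q12645 (allL N12645 (tt N13677 (iv F137857)) (tt N11185 F115287) (tt N14694 (iv F142354)) (tt N10675 F115288) (tt N12645 F115289) (tt N14679 (iv F142289)) (tt N14696 (iv F142364)) (tt N10673 F115290) (tt N12645 F115291) (tt N10672 (iv D25667)))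
theorem Q12647 : ∀ i, i < 12647 → P i := stepQ 12646 Q12646 (allL N12646 (tt N13678 (iv F137863)) (tt N11186 F115292) (tt N14586 (iv F141903)) (tt N14695 (iv F142359)) (tt N14697 D30624) (tt N10674 (iv D25668)) (tt N14680 (iv F142292)) (tt N12646 F115293) (tt N14686 (iv F142320)) (tt N14698 D30625))
theorem Q12648 : ∀ i, i < 12648 → P i := stepQ 12647 Q12647 (allL N12647 (tt N13679 (iv F137866)) (tt N11187 F115294) (tt N14587 (iv F141905)) (tt N14696 (iv F142362)) (tt N10677 F115295) (tt N14698 (iv F142371)) (tt N10675 F115296) (tt N12647 F115297) (tt N12647 F115298) (tt N10674 (iv D25669)))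
theorem Q12649 : ∀ i, i < 12649 → P i := stepQ 12648 Q12648 (allL N12648 (tt N13680 (iv F137872)) (tt N11188 F115299) (tt N14592 (iv F141925)) (tt N14687 (iv F142322)) (tt N10676 (iv D25670)) (tt N14697 (iv F142368)) (tt N10883 F115300) (tt N12648 F115301) (tt N12648 F115302) (tt N14685 F142317))
theorem Q12650 : ∀ i, i < 12650 → P i := stepQ 12649 Q12649 (allL N12649 (tt N13681 (iv F137877)) (tt N11189 F115303) (tt N14593 (iv F141930)) (tt N12649 F115304) (tt N14685 (iv F142314)) (tt N10677 F115305) (tt N10884 F115306) (tt N12649 F115307) (tt N14684 (iv F142310)) (tt N10676 (iv D25671)))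
theorem Q12651 : ∀ i, i < 12651 → P i := stepQ 12650 Q12650 (allL N12650 (tt N13684 (iv F137898)) (tt N13318 (iv F135915)) (tt N10681 F115317) (tt N13690 (iv F137938)) (tt N14627 (iv F142082)) (tt N13369 (iv F136218)) (tt N10888 F115318) (tt N10679 (iv D25675)) (tt N12650 F115319) (tt N13301 F135809))
theorem Q12652 : ∀ i, i < 12652 → P i := stepQ 12651 Q12651 (allL N12651 (tt N13685 (iv F137904)) (tt N11193 F115320) (tt N13361 (iv F136172)) (tt N10694 F115321) (tt N10680 (iv D25676)) (tt N14628 (iv F142088)) (tt N12651 F115322) (tt N14699 D30626) (tt N11037 F135074) (tt N11324 F135073))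
theorem Q12653 : ∀ i, i < 12653 → P i := stepQ 12652 Q12652 (allL N12652 (tt N13686 (iv F137910)) (tt N11194 F115324) (tt N13369 (iv F136217)) (tt N10682 F115325) (tt N14699 (iv F142375)) (tt N10681 F115326) (tt N14700 D30627) (tt N10680 (iv D25677)) (tt N13294 (iv F135760)) (tt N13278 F135651))
theorem Q12654 : ∀ i, i < 12654 → P i := stepQ 12653 Q12653 (allL N12653 (tt N13687 (iv F137915)) (tt N11195 F115333) (tt N13693 (iv F137955)) (tt N14700 (iv F142379)) (tt N10697 F115334) (tt N10892 F115335) (tt N10682 (iv D25679)) (tt N12653 F115336) (tt N14701 D30628) (tt N13328 (iv F135986)))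
theorem Q12655 : ∀ i, i < 12655 → P i := stepQ 12654 Q12654 (allL N12654 (tt N13688 (iv F137922)) (tt N11196 F115337) (tt N13694 (iv F137962)) (tt N13294 (iv F135756)) (tt N10698 F115338) (tt N12654 F115339) (tt N14701 (iv F142384)) (tt N10683 F115340) (tt N10682 (iv D25680)) (tt N13292 (iv F135748)))
theorem Q12656 : ∀ i, i < 12656 → P i := stepQ 12655 Q12655 (allL N12655 (tt N10684 (iv D25682)) (tt N13689 (iv F137928)) (tt N11197 F115346) (tt N13682 (iv F137885)) (tt N14632 (iv F142106)) (tt N12655 F115347) (tt N14223 (iv F140582)) (tt N10700 F115348) (tt N12655 F115349) (tt N10690 F115350))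
theorem Q12657 : ∀ i, i < 12657 → P i := stepQ 12656 Q12656 (allL N12656 (tt N14223 (iv F140577)) (tt N10685 F115351) (tt N11198 F115352) (tt N13683 (iv F137894)) (tt N14633 (iv F142113)) (tt N14286 (iv F140822)) (tt N10684 (iv D25683)) (tt N14702 D30629) (tt N12656 F115353) (tt N10691 F115354))
theorem Q12658 : ∀ i, i < 12658 → P i := stepQ 12657 Q12657 (allL N12657 (tt N13367 (iv F136206)) (tt N14286 (iv F140818)) (tt N10686 F115355) (tt N13348 (iv F136107)) (tt N14703 D30630) (tt N10685 (iv D25684)) (tt N12657 F115356) (tt N14704 D30631) (tt N13443 (iv F136632)) (tt N10692 F115357))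
theorem Q12659 : ∀ i, i < 12659 → P i := stepQ 12658 Q12658 (allL N12658 (tt N13690 (iv F137936)) (tt N14702 (iv F142386)) (tt N10687 F115358) (tt N13684 (iv F137900)) (tt N14635 (iv F142120)) (tt N14704 (iv F142397)) (tt N10703 F115359) (tt N10685 (iv D25685)) (tt N12658 F115360) (tt N10693 F115361))
theorem Q12660 : ∀ i, i < 12660 → P i := stepQ 12659 Q12659 (allL N12659 (tt N13691 (iv F137942)) (tt N11201 F115362) (tt N14703 (iv F142392)) (tt N11324 F135072) (tt N10686 (iv D25686)) (tt N14636 (iv F142126)) (tt N12659 F115363) (tt N14705 D30632) (tt N11036 F135068) (tt N10694 F115364))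
theorem Q12661 : ∀ i, i < 12661 → P i := stepQ 12660 Q12660 (allL N12660 (tt N13692 (iv F137948)) (tt N11202 F115366) (tt N14704 (iv F142396)) (tt N10688 F115367) (tt N14705 (iv F142401)) (tt N10687 F115368) (tt N14706 D30633) (tt N10686 (iv D25687)) (tt N14707 D30634) (tt N10695 F115369))
theorem Q12662 : ∀ i, i < 12662 → P i := stepQ 12661 Q12661 (allL N12661 (tt N13455 (iv F136690)) (tt N11203 F115370) (tt N13443 (iv F136627)) (tt N10689 F115371) (tt N11036 F135066) (tt N12661 F115373) (tt N12661 F115374) (tt N14707 (iv F142413)) (tt N10686 (iv D25688)) (tt N11035 F135067))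
theorem Q12663 : ∀ i, i < 12663 → P i := stepQ 12662 Q12662 (allL N12662 (tt N13693 (iv F137953)) (tt N11204 F115376) (tt N13687 (iv F137917)) (tt N14706 (iv F142405)) (tt N13328 (iv F135983)) (tt N10707 F115377) (tt N10688 (iv D25689)) (tt N12662 F115378) (tt N14708 D30635) (tt N10697 F115379))
theorem Q12664 : ∀ i, i < 12664 → P i := stepQ 12663 Q12663 (allL N12663 (tt N13694 (iv F137960)) (tt N11205 F115380) (tt N13688 (iv F137924)) (tt N14707 (iv F142410)) (tt N13276 (iv F135634)) (tt N12663 F115381) (tt N14708 (iv F142416)) (tt N10689 F115382) (tt N10688 (iv D25690)) (tt N13290 (iv F135738)))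
theorem Q12665 : ∀ i, i < 12665 → P i := stepQ 12664 Q12664 (allL N12664 (tt N14222 (iv F140570)) (tt N10693 F115396) (tt N11207 F115397) (tt N14205 (iv F140500)) (tt N14642 (iv F142155)) (tt N14285 (iv F140815)) (tt N10711 F115398) (tt N10691 (iv D25694)) (tt N10716 F115399) (tt N14702 (iv F142390)))
theorem Q12666 : ∀ i, i < 12666 → P i := stepQ 12665 Q12665 (allL N12665 (tt N13364 (iv F136190)) (tt N10959 F115400) (tt N10694 F115401) (tt N14709 D30636) (tt N10692 (iv D25695)) (tt N14643 (iv F142160)) (tt N12665 F115402) (tt N14710 D30637) (tt N10957 (iv F115403)) (tt N14703 (iv F142395)))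
theorem Q12667 : ∀ i, i < 12667 → P i := stepQ 12666 Q12666 (allL N12666 (tt N13366 (iv F136200)) (tt N14285 (iv F140811)) (tt N10695 F115404) (tt N13347 (iv F136101)) (tt N14710 (iv F142423)) (tt N10693 F115405) (tt N14711 D30638) (tt N10692 (iv D25696)) (tt N13345 (iv F136091)) (tt N14704 (iv F142398)))
theorem Q12668 : ∀ i, i < 12668 → P i := stepQ 12667 Q12667 (allL N12667 (tt N13695 (iv F137966)) (tt N11209 F115412) (tt N14710 (iv F142422)) (tt N14699 (iv F142374)) (tt N10695 F115413) (tt N14646 (iv F142171)) (tt N14712 D30639) (tt N10694 (iv D25698)) (tt N10985 F135587) (tt N14705 (iv F142403)))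
theorem Q12669 : ∀ i, i < 12669 → P i := stepQ 12668 Q12668 (allL N12668 (tt N13696 (iv F137970)) (tt N11210 F115415) (tt N14711 (iv F142425)) (tt N10697 F115416) (tt N14712 (iv F142429)) (tt N10715 F115417) (tt N10695 (iv D25699)) (tt N12668 F115418) (tt N14713 D30640) (tt N14706 (iv F142408)))
theorem Q12670 : ∀ i, i < 12670 → P i := stepQ 12669 Q12669 (allL N12669 (tt N13362 (iv F136176)) (tt N11211 F115419) (tt N13345 (iv F136087)) (tt N10698 F115420) (tt N10985 (iv F135323)) (tt N10719 F115422) (tt N14713 (iv F142436)) (tt N10696 F115423) (tt N10695 (iv D25700)) (tt N10984 F135082))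
theorem Q12671 : ∀ i, i < 12671 → P i := stepQ 12670 Q12670 (allL N12670 (tt N13697 (iv F137975)) (tt N11212 F115425) (tt N14267 (iv F140732)) (tt N14713 (iv F142433)) (tt N14701 (iv F142383)) (tt N12670 F115426) (tt N10698 F115427) (tt N12670 F115428) (tt N10697 (iv D25701)) (tt N14714 D30641))
theorem Q12672 : ∀ i, i < 12672 → P i := stepQ 12671 Q12671 (allL N12671 (tt N13289 (iv F135727)) (tt N11213 F115429) (tt N13284 (iv F135695)) (tt N10984 F135081) (tt N13292 (iv F135745)) (tt N10720 F115431) (tt N14714 (iv F142442)) (tt N10699 F115432) (tt N13290 (iv F135737)) (tt N10698 (iv D25702)))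
theorem Q12673 : ∀ i, i < 12673 → P i := stepQ 12672 Q12672 (allL N12672 (tt N10701 F115433) (tt N13698 (iv F137981)) (tt N11214 F115434) (tt N13979 (iv F139300)) (tt N14651 (iv F142190)) (tt N14715 D30642) (tt N10700 (iv D25703)) (tt N14716 D30643) (tt N12672 F115435) (tt N10709 F115436))
theorem Q12674 : ∀ i, i < 12674 → P i := stepQ 12673 Q12673 (allL N12673 (tt N14715 (iv F142444)) (tt N10702 F115437) (tt N11215 F115438) (tt N13980 (iv F139305)) (tt N14717 D30644) (tt N10701 (iv D25704)) (tt N12673 F115439) (tt N14718 D30645) (tt N14719 D30646) (tt N10710 F115440))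
theorem Q12675 : ∀ i, i < 12675 → P i := stepQ 12674 Q12674 (allL N12674 (tt N14716 (iv F142448)) (tt N10703 F115441) (tt N11216 F115442) (tt N13981 (iv F139310)) (tt N14653 (iv F142198)) (tt N14718 (iv F142459)) (tt N14702 (iv F142388)) (tt N10701 (iv D25705)) (tt N12674 F115443) (tt N10711 F115444))
theorem Q12676 : ∀ i, i < 12676 → P i := stepQ 12675 Q12675 (allL N12675 (tt N13701 (iv F137996)) (tt N14717 (iv F142452)) (tt N10704 F115445) (tt N14720 D30647) (tt N10702 (iv D25706)) (tt N14654 (iv F142202)) (tt N12675 F115446) (tt N14721 D30648) (tt N14722 D30649) (tt N10712 F115447))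
theorem Q12677 : ∀ i, i < 12677 → P i := stepQ 12676 Q12676 (allL N12676 (tt N13702 (iv F138000)) (tt N14718 (iv F142457)) (tt N10705 F115448) (tt N13983 (iv F139320)) (tt N14721 (iv F142471)) (tt N10703 F115449) (tt N14723 D30650) (tt N10702 (iv D25707)) (tt N14724 D30651) (tt N10713 F115450))
theorem Q12678 : ∀ i, i < 12678 → P i := stepQ 12677 Q12677 (allL N12677 (tt N13703 (iv F138005)) (tt N14719 (iv F142461)) (tt N10706 F115451) (tt N13984 (iv F139325)) (tt N14722 (iv F142475)) (tt N12677 F115452) (tt N12677 F115453) (tt N14724 (iv F142484)) (tt N10702 (iv D25708)) (tt N12677 F115454))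
theorem Q12679 : ∀ i, i < 12679 → P i := stepQ 12678 Q12678 (allL N12678 (tt N13704 (iv F138011)) (tt N11218 F115455) (tt N14721 (iv F142470)) (tt N10900 F115456) (tt N10705 F115457) (tt N14657 (iv F142212)) (tt N14725 D30652) (tt N10704 (iv D25709)) (tt N14726 D30653) (tt N10714 F115458))
theorem Q12680 : ∀ i, i < 12680 → P i := stepQ 12679 Q12679 (allL N12679 (tt N13705 (iv F138016)) (tt N11099 F115459) (tt N14722 (iv F142474)) (tt N10901 F115460) (tt N10706 F115461) (tt N11098 (iv F115464)) (tt N12679 F115462) (tt N14726 (iv F142494)) (tt N10704 (iv D25710)) (tt N12679 F115463))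
theorem Q12681 : ∀ i, i < 12681 → P i := stepQ 12680 Q12680 (allL N12680 (tt N13706 (iv F138023)) (tt N11219 F115465) (tt N14723 (iv F142479)) (tt N10707 F115466) (tt N14725 (iv F142488)) (tt N14706 (iv F142406)) (tt N10705 (iv D25711)) (tt N12680 F115467) (tt N14727 D30654) (tt N10715 F115468))
theorem Q12682 : ∀ i, i < 12682 → P i := stepQ 12681 Q12681 (allL N12681 (tt N13707 (iv F138028)) (tt N11220 F115469) (tt N14724 (iv F142482)) (tt N10708 F115470) (tt N14726 (iv F142493)) (tt N12681 F115471) (tt N14727 (iv F142499)) (tt N10706 F115472) (tt N10705 (iv D25712)) (tt N12681 F115473))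
theorem Q12683 : ∀ i, i < 12683 → P i := stepQ 12682 Q12682 (allL N12682 (tt N13708 (iv F138034)) (tt N11221 F115474) (tt N13988 (iv F139350)) (tt N14727 (iv F142498)) (tt N10904 F115475) (tt N14728 D30655) (tt N10708 F115476) (tt N12682 F115477) (tt N10707 (iv D25713)) (tt N12682 F115478))
theorem Q12684 : ∀ i, i < 12684 → P i := stepQ 12683 Q12683 (allL N12683 (tt N10710 F115479) (tt N13709 (iv F138042)) (tt N11222 F115480) (tt N14268 (iv F140738)) (tt N14729 D30656) (tt N10709 (iv D25714)) (tt N12683 F115481) (tt N14730 D30657) (tt N12683 F115482) (tt N14715 (iv F142447)))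
theorem Q12685 : ∀ i, i < 12685 → P i := stepQ 12684 Q12684 (allL N12684 (tt N10711 F115483) (tt N13710 (iv F138047)) (tt N11223 F115484) (tt N14224 (iv F140587)) (tt N14665 (iv F142245)) (tt N14730 (iv F142513)) (tt N14222 (iv F140575)) (tt N10709 (iv D25715)) (tt N10721 F115485) (tt N14716 (iv F142451)))
theorem Q12686 : ∀ i, i < 12686 → P i := stepQ 12685 Q12685 (allL N12685 (tt N14729 (iv F142507)) (tt N10712 F115486) (tt N11224 F115487) (tt N14731 D30658) (tt N10710 (iv D25716)) (tt N14666 (iv F142249)) (tt N12685 F115488) (tt N14732 D30659) (tt N12685 F115489) (tt N14717 (iv F142455)))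
theorem Q12687 : ∀ i, i < 12687 → P i := stepQ 12686 Q12686 (allL N12686 (tt N14730 (iv F142511)) (tt N10713 F115490) (tt N11225 F115491) (tt N14270 (iv F140747)) (tt N14732 (iv F142520)) (tt N10711 F115492) (tt N14733 D30660) (tt N10710 (iv D25717)) (tt N12686 F115493) (tt N14718 (iv F142460)))
theorem Q12688 : ∀ i, i < 12688 → P i := stepQ 12687 Q12687 (allL N12687 (tt N13713 (iv F138060)) (tt N14731 (iv F142515)) (tt N10906 F115494) (tt N10712 (iv D25718)) (tt N14271 (iv F140751)) (tt N14669 (iv F142257)) (tt N12687 F115495) (tt N14734 D30661) (tt N12687 F115496) (tt N14720 (iv F142469)))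
theorem Q12689 : ∀ i, i < 12689 → P i := stepQ 12688 Q12688 (allL N12688 (tt N13714 (iv F138064)) (tt N14732 (iv F142518)) (tt N10714 F115497) (tt N14734 (iv F142527)) (tt N10713 F115498) (tt N14670 (iv F142260)) (tt N14735 D30662) (tt N10712 (iv D25719)) (tt N12688 F115499) (tt N14721 (iv F142472)))
theorem Q12690 : ∀ i, i < 12690 → P i := stepQ 12689 Q12689 (allL N12689 (tt N13715 (iv F138068)) (tt N14733 (iv F142522)) (tt N10715 F115500) (tt N14273 (iv F140758)) (tt N14735 (iv F142530)) (tt N14711 (iv F142426)) (tt N10713 (iv D25720)) (tt N12689 F115501) (tt N12689 F115502) (tt N14723 (iv F142481)))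
theorem Q12691 : ∀ i, i < 12691 → P i := stepQ 12690 Q12690 (allL N12690 (tt N13716 (iv F138072)) (tt N11228 F115503) (tt N14735 (iv F142529)) (tt N10909 F115504) (tt N10715 F115505) (tt N14736 D30663) (tt N10714 (iv D25721)) (tt N12690 F115506) (tt N12690 F115507) (tt N14725 (iv F142490)))
theorem Q12692 : ∀ i, i < 12692 → P i := stepQ 12691 Q12691 (allL N12691 (tt N10740 F115535) (tt N13726 (iv F138138)) (tt N13871 (iv F138800)) (tt N10723 F115536) (tt N13722 (iv F138114)) (tt N14737 D30664) (tt N10722 (iv D25727)) (tt N14738 D30665) (tt N10910 F115537) (tt N10725 F115538))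
theorem Q12693 : ∀ i, i < 12693 → P i := stepQ 12692 Q12692 (allL N12692 (tt N10741 F115539) (tt N13727 (iv F138144)) (tt N11230 F115540) (tt N14737 (iv F142537)) (tt N13529 (iv F137127)) (tt N10723 (iv D25728)) (tt N13543 (iv F137204)) (tt N14739 D30666) (tt N14384 (iv F141143)) (tt N10726 F115541))
theorem Q12694 : ∀ i, i < 12694 → P i := stepQ 12693 Q12693 (allL N12693 (tt N10742 F115542) (tt N13728 (iv F138150)) (tt N11231 F115543) (tt N14738 (iv F142540)) (tt N10724 F115544) (tt N14739 (iv F142545)) (tt N13338 (iv F136047)) (tt N10723 (iv D25729)) (tt N10911 F115545) (tt N10727 F115546))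
theorem Q12695 : ∀ i, i < 12695 → P i := stepQ 12694 Q12694 (allL N12694 (tt N10745 F115553) (tt N13731 (iv F138164)) (tt N13842 (iv F138684)) (tt N10726 F115554) (tt N14740 D30667) (tt N10725 (iv D25732)) (tt N14229 (iv F140608)) (tt N14741 D30668) (tt N13838 (iv F138667)) (tt N14737 (iv F142538)))
theorem Q12696 : ∀ i, i < 12696 → P i := stepQ 12695 Q12695 (allL N12695 (tt N10746 F115555) (tt N13732 (iv F138167)) (tt N13870 (iv F138796)) (tt N10727 F115556) (tt N14276 (iv F140770)) (tt N14741 (iv F142550)) (tt N14227 (iv F140600)) (tt N10725 (iv D25733)) (tt N10730 F115557) (tt N14738 (iv F142542)))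
theorem Q12697 : ∀ i, i < 12697 → P i := stepQ 12696 Q12696 (allL N12696 (tt N10747 F115558) (tt N13733 (iv F138171)) (tt N11232 F115559) (tt N14741 (iv F142549)) (tt N14449 (iv F141407)) (tt N10727 F115560) (tt N14742 D30669) (tt N10726 (iv D25734)) (tt N13938 (iv F139120)) (tt N14739 (iv F142546)))
theorem Q12698 : ∀ i, i < 12698 → P i := stepQ 12697 Q12697 (allL N12697 (tt N10751 F115576) (tt N13738 (iv F138197)) (tt N13869 (iv F138790)) (tt N10729 F115577) (tt N14008 (iv F139465)) (tt N13880 (iv F138844)) (tt N10730 F115578) (tt N10728 (iv D25739)) (tt N14227 (iv F140601)) (tt N10913 F115579))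
theorem Q12699 : ∀ i, i < 12699 → P i := stepQ 12698 Q12698 (allL N12698 (tt N14171 (iv F140335)) (tt N10731 (iv D25764)) (tt N10773 F115683) (tt N10992 F134753) (tt N13549 (iv F137241)) (tt N10743 F115685) (tt N13310 (iv F135867)) (tt N11012 F134749) (tt N10987 F115686) (tt N14522 (iv F141704)))
theorem Q12700 : ∀ i, i < 12700 → P i := stepQ 12699 Q12699 (allL N12699 (tt N14157 (iv F140270)) (tt N13310 (iv F135864)) (tt N10732 F115687) (tt N11002 (iv F135186)) (tt N13550 (iv F137247)) (tt N14743 D30670) (tt N10731 (iv D25765)) (tt N14744 D30671) (tt N10988 F115689) (tt N14523 (iv F141708)))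
theorem Q12701 : ∀ i, i < 12701 → P i := stepQ 12700 Q12700 (allL N12700 (tt N14229 (iv F140606)) (tt N10775 F115690) (tt N14743 (iv F142553)) (tt N10733 F115691) (tt N14745 D30672) (tt N10732 (iv D25766)) (tt N10745 F115692) (tt N14746 D30673) (tt N14747 D30674) (tt N14524 (iv F141712)))
theorem Q12702 : ∀ i, i < 12702 → P i := stepQ 12701 Q12701 (allL N12701 (tt N14230 (iv F140609)) (tt N10776 F115693) (tt N14744 (iv F142557)) (tt N10734 F115694) (tt N13552 (iv F137255)) (tt N14746 (iv F142564)) (tt N13304 (iv F135826)) (tt N10732 (iv D25767)) (tt N10990 F115695) (tt N14525 (iv F141717)))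
theorem Q12703 : ∀ i, i < 12703 → P i := stepQ 12702 Q12702 (allL N12702 (tt N14231 (iv F140614)) (tt N10777 F115696) (tt N11233 F115697) (tt N14746 (iv F142563)) (tt N14462 (iv F141472)) (tt N10734 F115698) (tt N14748 D30675) (tt N10733 (iv D25768)) (tt N14749 D30676) (tt N14526 (iv F141722)))
theorem Q12704 : ∀ i, i < 12704 → P i := stepQ 12703 Q12703 (allL N12703 (tt N13901 (iv F138939)) (tt N10778 F115699) (tt N10824 (iv F135181)) (tt N14747 (iv F142567)) (tt N14463 (iv F141477)) (tt N10823 F134798) (tt N10748 F115702) (tt N14749 (iv F142576)) (tt N10733 (iv D25769)) (tt N13405 (iv F136403)))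
theorem Q12705 : ∀ i, i < 12705 → P i := stepQ 12704 Q12704 (allL N12704 (tt N14179 (iv F140372)) (tt N10808 F134740) (tt N10736 F115707) (tt N10876 F134741) (tt N13768 (iv F138361)) (tt N14750 D30677) (tt N10735 (iv D25771)) (tt N14751 D30678) (tt N10749 F115709) (tt N13349 (iv F136116)))
theorem Q12706 : ∀ i, i < 12706 → P i := stepQ 12705 Q12705 (allL N12705 (tt N14226 (iv F140595)) (tt N10783 F115710) (tt N14750 (iv F142578)) (tt N10737 F115711) (tt N14752 D30679) (tt N10736 (iv D25772)) (tt N13303 (iv F135820)) (tt N14753 D30680) (tt N14754 D30681) (tt N13350 (iv F136120)))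
theorem Q12707 : ∀ i, i < 12707 → P i := stepQ 12706 Q12706 (allL N12706 (tt N14227 (iv F140598)) (tt N10784 F115712) (tt N14751 (iv F142582)) (tt N10738 F115713) (tt N13770 (iv F138369)) (tt N14753 (iv F142589)) (tt N10746 F115714) (tt N10736 (iv D25773)) (tt N10751 F115715) (tt N13351 (iv F136126)))
theorem Q12708 : ∀ i, i < 12708 → P i := stepQ 12707 Q12707 (allL N12707 (tt N14228 (iv F140602)) (tt N10785 F115716) (tt N11234 F115717) (tt N14753 (iv F142588)) (tt N13377 (iv F136268)) (tt N10738 F115718) (tt N14755 D30682) (tt N10737 (iv D25774)) (tt N14756 D30683) (tt N13352 (iv F136131)))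
theorem Q12709 : ∀ i, i < 12709 → P i := stepQ 12708 Q12708 (allL N12708 (tt N14202 (iv F140481)) (tt N10786 F115719) (tt N11031 F134751) (tt N14754 (iv F142592)) (tt N13378 (iv F136274)) (tt N10753 F115721) (tt N13306 (iv F135840)) (tt N14756 (iv F142600)) (tt N10737 (iv D25775)) (tt N14757 D30684))
theorem Q12710 : ∀ i, i < 12710 → P i := stepQ 12709 Q12709 (allL N12709 (tt N14142 (iv F140193)) (tt N10739 (iv D25776)) (tt N10787 F115722) (tt N10993 F134754) (tt N13762 (iv F138332)) (tt N14522 (iv F141701)) (tt N14758 D30685) (tt N11016 F134750) (tt N10914 F115724) (tt N10743 F115725))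
theorem Q12711 : ∀ i, i < 12711 → P i := stepQ 12710 Q12710 (allL N12710 (tt N13871 (iv F138799)) (tt N14758 (iv F142604)) (tt N10740 F115726) (tt N10804 (iv F135162)) (tt N13763 (iv F138339)) (tt N14759 D30686) (tt N10739 (iv D25777)) (tt N14760 D30687) (tt N10915 F115728) (tt N10744 F115729))
theorem Q12712 : ∀ i, i < 12712 → P i := stepQ 12711 Q12711 (allL N12711 (tt N14737 (iv F142536)) (tt N10789 F115730) (tt N14759 (iv F142609)) (tt N10741 F115731) (tt N14761 D30688) (tt N10740 (iv D25778)) (tt N14524 (iv F141711)) (tt N14762 D30689) (tt N14763 D30690) (tt N10745 F115732))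
theorem Q12713 : ∀ i, i < 12713 → P i := stepQ 12712 Q12712 (allL N12712 (tt N14738 (iv F142539)) (tt N10790 F115733) (tt N14760 (iv F142612)) (tt N10742 F115734) (tt N13765 (iv F138347)) (tt N14762 (iv F142620)) (tt N13351 (iv F136124)) (tt N10740 (iv D25779)) (tt N10917 F115735) (tt N10746 F115736))
theorem Q12714 : ∀ i, i < 12714 → P i := stepQ 12713 Q12713 (allL N12713 (tt N14739 (iv F142543)) (tt N10791 F115737) (tt N11235 F115738) (tt N14762 (iv F142619)) (tt N14474 (iv F141530)) (tt N10742 F115739) (tt N14764 D30691) (tt N10741 (iv D25780)) (tt N14765 D30692) (tt N10747 F115740))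
theorem Q12715 : ∀ i, i < 12715 → P i := stepQ 12714 Q12714 (allL N12714 (tt N14384 (iv F141140)) (tt N10792 F115741) (tt N11236 F115742) (tt N14763 (iv F142623)) (tt N14475 (iv F141535)) (tt N10919 F115743) (tt N14527 (iv F141727)) (tt N14765 (iv F142631)) (tt N10741 (iv D25781)) (tt N13415 (iv F136462)))
theorem Q12716 : ∀ i, i < 12716 → P i := stepQ 12715 Q12715 (allL N12715 (tt N14184 (iv F140390)) (tt N10744 F115747) (tt N10793 F115748) (tt N10753 F134744) (tt N14295 (iv F140857)) (tt N14754 (iv F142593)) (tt N10743 (iv D25783)) (tt N14766 D30693) (tt N10750 F134745) (tt N14758 (iv F142608)))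
theorem Q12717 : ∀ i, i < 12717 → P i := stepQ 12716 Q12716 (allL N12716 (tt N13842 (iv F138683)) (tt N14754 (iv F142590)) (tt N10745 F115751) (tt N10786 (iv F135161)) (tt N14767 D30694) (tt N10744 (iv D25784)) (tt N14743 (iv F142555)) (tt N14768 D30695) (tt N10783 F134865) (tt N14759 (iv F142611)))
theorem Q12718 : ∀ i, i < 12718 → P i := stepQ 12717 Q12717 (allL N12717 (tt N13870 (iv F138795)) (tt N14766 (iv F142632)) (tt N10746 F115753) (tt N10803 (iv F135160)) (tt N14297 (iv F140863)) (tt N14768 (iv F142641)) (tt N14751 (iv F142584)) (tt N10744 (iv D25785)) (tt N10754 F115755) (tt N14760 (iv F142615)))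
theorem Q12719 : ∀ i, i < 12719 → P i := stepQ 12718 Q12718 (allL N12718 (tt N14740 (iv F142547)) (tt N10796 F115756) (tt N14767 (iv F142637)) (tt N14480 (iv F141551)) (tt N10745 (iv D25786)) (tt N14298 (iv F140866)) (tt N14745 (iv F142561)) (tt N14769 D30696) (tt N14770 D30697) (tt N14761 (iv F142617)))
theorem Q12720 : ∀ i, i < 12720 → P i := stepQ 12719 Q12719 (allL N12719 (tt N14741 (iv F142548)) (tt N10797 F115757) (tt N14768 (iv F142639)) (tt N10747 F115758) (tt N14769 (iv F142644)) (tt N10746 F115759) (tt N14771 D30698) (tt N10745 (iv D25787)) (tt N14772 D30699) (tt N14762 (iv F142621)))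
theorem Q12721 : ∀ i, i < 12721 → P i := stepQ 12720 Q12720 (allL N12720 (tt N13838 (iv F138664)) (tt N10798 F115760) (tt N10783 F134794) (tt N10748 F115761) (tt N14770 (iv F142647)) (tt N10756 F115762) (tt N14747 (iv F142569)) (tt N14772 (iv F142654)) (tt N10745 (iv D25788)) (tt N13379 (iv F136281)))
theorem Q12722 : ∀ i, i < 12722 → P i := stepQ 12721 Q12721 (allL N12721 (tt N14742 (iv F142551)) (tt N10799 F115763) (tt N11237 F115764) (tt N14771 (iv F142649)) (tt N14483 (iv F141560)) (tt N14755 (iv F142596)) (tt N10747 (iv D25789)) (tt N14748 (iv F142572)) (tt N14773 D30700) (tt N14764 (iv F142627)))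
theorem Q12723 : ∀ i, i < 12723 → P i := stepQ 12722 Q12722 (allL N12722 (tt N13938 (iv F139117)) (tt N10800 F115765) (tt N10850 (iv F135174)) (tt N14772 (iv F142652)) (tt N14484 (iv F141563)) (tt N10757 F115767) (tt N14773 (iv F142657)) (tt N10748 F115768) (tt N10747 (iv D25790)) (tt N13414 (iv F136457)))
theorem Q12724 : ∀ i, i < 12724 → P i := stepQ 12723 Q12723 (allL N12723 (tt N13869 (iv F138789)) (tt N10807 F134738) (tt N10751 F115785) (tt N10802 F134733) (tt N14028 (iv F139592)) (tt N10805 F134739) (tt N10754 F115787) (tt N10749 (iv D25795)) (tt N14751 (iv F142585)) (tt N10925 F115788))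
theorem Q12725 : ∀ i, i < 12725 → P i := stepQ 12724 Q12724 (allL N12724 (tt N13880 (iv F138841)) (tt N10754 F134742) (tt N10805 F134743) (tt N10752 F115794) (tt N14304 (iv F140885)) (tt N10751 F115795) (tt N10807 F134734) (tt N10750 (iv D25797)) (tt N14766 (iv F142636)) (tt N10926 F115796))
theorem Q12726 : ∀ i, i < 12726 → P i := stepQ 12725 Q12725 (allL N12725 (tt N13973 (iv F139266)) (tt N10803 F115806) (tt N10879 F134746) (tt N14766 (iv F142634)) (tt N12725 F115808) (tt N14756 (iv F142599)) (tt N10877 F134747) (tt N10753 F115809) (tt N10752 (iv D25800)) (tt N14774 D30701))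
theorem Q12727 : ∀ i, i < 12727 → P i := stepQ 12726 Q12726 (allL N12726 (tt N14203 (iv F140486)) (tt N10804 F115810) (tt N11032 F134752) (tt N14758 (iv F142606)) (tt N12726 F115812) (tt N14757 (iv F142603)) (tt N10993 F115813) (tt N14774 (iv F142663)) (tt N10928 F115814) (tt N10753 (iv D25801)))
theorem Q12728 : ∀ i, i < 12728 → P i := stepQ 12727 Q12727 (allL N12727 (tt N13839 (iv F138669)) (tt N10811 F115850) (tt N10784 F134792) (tt N10757 F115851) (tt N13847 (iv F138708)) (tt N14772 (iv F142653)) (tt N10795 F134793) (tt N10756 F115852) (tt N10755 (iv D25811)) (tt N13380 (iv F136289)))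
theorem Q12729 : ∀ i, i < 12729 → P i := stepQ 12728 Q12728 (allL N12728 (tt N13499 (iv F136951)) (tt N14775 D30702) (tt N10758 (iv D25829)) (tt N12728 F115924) (tt N10769 F115925) (tt N13486 (iv F136869)) (tt N14776 D30703) (tt N13370 (iv F136225)) (tt N12728 F115926) (tt N10761 F115927))
theorem Q12730 : ∀ i, i < 12730 → P i := stepQ 12729 Q12729 (allL N12729 (tt N13500 (iv F136959)) (tt N13546 (iv F137221)) (tt N14776 (iv F142670)) (tt N10759 F115928) (tt N10770 F115929) (tt N14777 D30704) (tt N10758 (iv D25830)) (tt N14778 D30705) (tt N12729 F115930) (tt N10762 F115931))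
theorem Q12731 : ∀ i, i < 12731 → P i := stepQ 12730 Q12730 (allL N12730 (tt N13501 (iv F136965)) (tt N13547 (iv F137227)) (tt N12730 F115932) (tt N14777 (iv F142675)) (tt N13719 (iv F138094)) (tt N10759 (iv D25831)) (tt N13488 (iv F136883)) (tt N14779 D30706) (tt N14780 D30707) (tt N10763 F115933))
theorem Q12732 : ∀ i, i < 12732 → P i := stepQ 12731 Q12731 (allL N12731 (tt N13502 (iv F136971)) (tt N13548 (iv F137233)) (tt N12731 F115934) (tt N14778 (iv F142677)) (tt N10760 F115935) (tt N14779 (iv F142682)) (tt N13373 (iv F136245)) (tt N10759 (iv D25832)) (tt N12731 F115936) (tt N10764 F115937))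
theorem Q12733 : ∀ i, i < 12733 → P i := stepQ 12732 Q12732 (allL N12732 (tt N14174 (iv F140352)) (tt N10761 (iv D25833)) (tt N13549 (iv F137239)) (tt N12732 F115938) (tt N10773 F115939) (tt N14314 (iv F140928)) (tt N14781 D30708) (tt N11013 F134775) (tt N10994 F115940) (tt N14775 (iv F142669)))
theorem Q12734 : ∀ i, i < 12734 → P i := stepQ 12733 Q12733 (allL N12733 (tt N13806 (iv F138531)) (tt N14781 (iv F142686)) (tt N10762 F115941) (tt N12733 F115942) (tt N10774 F115943) (tt N14782 D30709) (tt N10761 (iv D25834)) (tt N14783 D30710) (tt N10995 F115944) (tt N14776 (iv F142674)))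
theorem Q12735 : ∀ i, i < 12735 → P i := stepQ 12734 Q12734 (allL N12734 (tt N13807 (iv F138536)) (tt N13551 (iv F137250)) (tt N14782 (iv F142690)) (tt N10763 F115945) (tt N14784 D30711) (tt N10762 (iv D25835)) (tt N14316 (iv F140936)) (tt N14785 D30712) (tt N14786 D30713) (tt N14777 (iv F142676)))
theorem Q12736 : ∀ i, i < 12736 → P i := stepQ 12735 Q12735 (allL N12735 (tt N13808 (iv F138538)) (tt N13552 (iv F137253)) (tt N14783 (iv F142692)) (tt N10764 F115946) (tt N10776 F115947) (tt N14785 (iv F142698)) (tt N13505 (iv F136988)) (tt N10762 (iv D25836)) (tt N10997 F115948) (tt N14778 (iv F142680)))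
theorem Q12737 : ∀ i, i < 12737 → P i := stepQ 12736 Q12736 (allL N12736 (tt N13809 (iv F138542)) (tt N13553 (iv F137259)) (tt N12736 F115949) (tt N14785 (iv F142697)) (tt N14510 (iv F141664)) (tt N10764 F115950) (tt N14787 D30714) (tt N10763 (iv D25837)) (tt N14788 D30715) (tt N14779 (iv F142683)))
theorem Q12738 : ∀ i, i < 12738 → P i := stepQ 12737 Q12737 (allL N12737 (tt N13810 (iv F138545)) (tt N13554 (iv F137263)) (tt N12737 F115951) (tt N14786 (iv F142699)) (tt N14511 (iv F141667)) (tt N10999 F115952) (tt N14319 (iv F140944)) (tt N14788 (iv F142704)) (tt N10763 (iv D25838)) (tt N14789 D30716))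
theorem Q12739 : ∀ i, i < 12739 → P i := stepQ 12738 Q12738 (allL N12738 (tt N13812 (iv F138554)) (tt N11008 F134796) (tt N10766 F115957) (tt N10823 F115958) (tt N13503 (iv F136981)) (tt N14747 (iv F142568)) (tt N10765 (iv D25840)) (tt N14790 D30717) (tt N10989 F134797) (tt N13374 (iv F136253)))
theorem Q12740 : ∀ i, i < 12740 → P i := stepQ 12739 Q12739 (allL N12739 (tt N13813 (iv F138559)) (tt N13303 (iv F135818)) (tt N14747 (iv F142566)) (tt N10767 F115960) (tt N14791 D30718) (tt N10766 (iv D25841)) (tt N10783 F115961) (tt N14792 D30719) (tt N14743 (iv F142556)) (tt N13375 (iv F136258)))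
theorem Q12741 : ∀ i, i < 12741 → P i := stepQ 12740 Q12740 (allL N12740 (tt N13814 (iv F138563)) (tt N13304 (iv F135823)) (tt N14790 (iv F142708)) (tt N10768 F115962) (tt N13505 (iv F136987)) (tt N14792 (iv F142714)) (tt N10776 F115963) (tt N10766 (iv D25842)) (tt N11000 F115964) (tt N13376 (iv F136264)))
theorem Q12742 : ∀ i, i < 12742 → P i := stepQ 12741 Q12741 (allL N12741 (tt N13815 (iv F138568)) (tt N13305 (iv F135830)) (tt N10826 F115965) (tt N14792 (iv F142713)) (tt N13352 (iv F136129)) (tt N10768 F115966) (tt N14793 D30720) (tt N10767 (iv D25843)) (tt N14794 D30721) (tt N13377 (iv F136270)))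
theorem Q12743 : ∀ i, i < 12743 → P i := stepQ 12742 Q12742 (allL N12742 (tt N13816 (iv F138572)) (tt N13306 (iv F135836)) (tt N10827 F115967) (tt N14743 (iv F142554)) (tt N13353 (iv F136134)) (tt N11002 F115968) (tt N10786 F115969) (tt N14794 (iv F142720)) (tt N10767 (iv D25844)) (tt N14626 (iv F142080)))
theorem Q12744 : ∀ i, i < 12744 → P i := stepQ 12743 Q12743 (allL N12743 (tt N14144 (iv F140205)) (tt N10769 (iv D25845)) (tt N14522 (iv F141699)) (tt N10828 F115970) (tt N14775 (iv F142666)) (tt N10787 F115971) (tt N14795 D30722) (tt N11014 F134755) (tt N12743 F115972) (tt N10773 F115973))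
theorem Q12745 : ∀ i, i < 12745 → P i := stepQ 12744 Q12744 (allL N12744 (tt N13817 (iv F138576)) (tt N14795 (iv F142721)) (tt N10770 F115974) (tt N10829 F115975) (tt N14776 (iv F142672)) (tt N14796 D30723) (tt N10769 (iv D25846)) (tt N14797 D30724) (tt N12744 F115976) (tt N10774 F115977))
theorem Q12746 : ∀ i, i < 12746 → P i := stepQ 12745 Q12745 (allL N12745 (tt N13818 (iv F138582)) (tt N14524 (iv F141709)) (tt N14796 (iv F142725)) (tt N10771 F115978) (tt N14798 D30725) (tt N10770 (iv D25847)) (tt N10789 F115979) (tt N14799 D30726) (tt N14800 D30727) (tt N10775 F115980))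
theorem Q12747 : ∀ i, i < 12747 → P i := stepQ 12746 Q12746 (allL N12746 (tt N13819 (iv F138586)) (tt N14525 (iv F141713)) (tt N14797 (iv F142729)) (tt N10772 F115981) (tt N14778 (iv F142678)) (tt N14799 (iv F142736)) (tt N13376 (iv F136262)) (tt N10770 (iv D25848)) (tt N12746 F115982) (tt N10776 F115983))
theorem Q12748 : ∀ i, i < 12748 → P i := stepQ 12747 Q12747 (allL N12747 (tt N13820 (iv F138591)) (tt N14526 (iv F141718)) (tt N10832 F115984) (tt N14799 (iv F142735)) (tt N14468 (iv F141501)) (tt N10772 F115985) (tt N14801 D30728) (tt N10771 (iv D25849)) (tt N14802 D30729) (tt N10777 F115986))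
theorem Q12749 : ∀ i, i < 12749 → P i := stepQ 12748 Q12748 (allL N12748 (tt N13821 (iv F138595)) (tt N14527 (iv F141723)) (tt N10833 F115987) (tt N14800 (iv F142738)) (tt N14469 (iv F141506)) (tt N12748 F115988) (tt N10792 F115989) (tt N14802 (iv F142746)) (tt N10771 (iv D25850)) (tt N14803 D30730))
theorem Q12750 : ∀ i, i < 12750 → P i := stepQ 12749 Q12749 (allL N12749 (tt N14177 (iv F140364)) (tt N10774 F115993) (tt N13310 (iv F135865)) (tt N10834 F115994) (tt N14781 (iv F142688)) (tt N14804 D30731) (tt N10773 (iv D25852)) (tt N14805 D30732) (tt N11003 F115995) (tt N14795 (iv F142724)))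
theorem Q12751 : ∀ i, i < 12751 → P i := stepQ 12750 Q12750 (allL N12750 (tt N13824 (iv F138609)) (tt N14804 (iv F142751)) (tt N10775 F115996) (tt N10835 F115997) (tt N14806 D30733) (tt N10774 (iv D25853)) (tt N10794 F115998) (tt N14807 D30734) (tt N14808 D30735) (tt N14796 (iv F142728)))
theorem Q12752 : ∀ i, i < 12752 → P i := stepQ 12751 Q12751 (allL N12751 (tt N13825 (iv F138613)) (tt N14805 (iv F142754)) (tt N10776 F115999) (tt N10836 F116000) (tt N14783 (iv F142694)) (tt N14807 (iv F142762)) (tt N14790 (iv F142710)) (tt N10774 (iv D25854)) (tt N11005 F116001) (tt N14797 (iv F142732)))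
theorem Q12753 : ∀ i, i < 12753 → P i := stepQ 12752 Q12752 (allL N12752 (tt N13826 (iv F138617)) (tt N14745 (iv F142560)) (tt N14806 (iv F142758)) (tt N14516 (iv F141681)) (tt N10775 (iv D25855)) (tt N14784 (iv F142696)) (tt N10796 F116002) (tt N14809 D30736) (tt N14810 D30737) (tt N14798 (iv F142734)))
theorem Q12754 : ∀ i, i < 12754 → P i := stepQ 12753 Q12753 (allL N12753 (tt N13827 (iv F138619)) (tt N14746 (iv F142562)) (tt N14807 (iv F142760)) (tt N10777 F116003) (tt N14809 (iv F142767)) (tt N10776 F116004) (tt N14811 D30738) (tt N10775 (iv D25856)) (tt N14812 D30739) (tt N14799 (iv F142737)))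
theorem Q12755 : ∀ i, i < 12755 → P i := stepQ 12754 Q12754 (allL N12754 (tt N13828 (iv F138622)) (tt N14747 (iv F142565)) (tt N14808 (iv F142763)) (tt N10778 F116005) (tt N14810 (iv F142768)) (tt N11008 F116006) (tt N10798 F116007) (tt N14812 (iv F142774)) (tt N10775 (iv D25857)) (tt N14813 D30740))
theorem Q12756 : ∀ i, i < 12756 → P i := stepQ 12755 Q12755 (allL N12755 (tt N13829 (iv F138626)) (tt N14748 (iv F142570)) (tt N10840 F116008) (tt N14811 (iv F142770)) (tt N14519 (iv F141689)) (tt N14793 (iv F142716)) (tt N10777 (iv D25858)) (tt N10799 F116009) (tt N14814 D30741) (tt N14801 (iv F142743)))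
theorem Q12757 : ∀ i, i < 12757 → P i := stepQ 12756 Q12756 (allL N12756 (tt N13830 (iv F138629)) (tt N14749 (iv F142573)) (tt N10841 F116010) (tt N14812 (iv F142772)) (tt N14520 (iv F141692)) (tt N11010 F116011) (tt N14814 (iv F142779)) (tt N10778 F116012) (tt N10777 (iv D25859)) (tt N14815 D30742))
theorem Q12758 : ∀ i, i < 12758 → P i := stepQ 12757 Q12757 (allL N12757 (tt N13831 (iv F138633)) (tt N13405 (iv F136400)) (tt N10842 F116013) (tt N14813 (iv F142775)) (tt N14521 (iv F141696)) (tt N11011 F116014) (tt N10801 F116015) (tt N14815 (iv F142783)) (tt N14803 (iv F142750)) (tt N10778 (iv D25860)))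
theorem Q12759 : ∀ i, i < 12759 → P i := stepQ 12758 Q12758 (allL N12758 (tt N14172 (iv F140341)) (tt N10779 (iv D25861)) (tt N11014 F135062) (tt N10843 F116016) (tt N13555 (iv F137268)) (tt N11016 F135063) (tt N14816 D30743) (tt N14522 (iv F141702)) (tt N12758 F116017) (tt N11012 F135064))
theorem Q12760 : ∀ i, i < 12760 → P i := stepQ 12759 Q12759 (allL N12759 (tt N13833 (iv F138641)) (tt N14816 (iv F142784)) (tt N10780 F116018) (tt N10844 F116019) (tt N13556 (iv F137274)) (tt N14817 D30744) (tt N10779 (iv D25862)) (tt N14818 D30745) (tt N12759 F116020) (tt N13302 (iv F135816)))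
theorem Q12761 : ∀ i, i < 12761 → P i := stepQ 12760 Q12760 (allL N12760 (tt N13834 (iv F138647)) (tt N13375 (iv F136255)) (tt N14817 (iv F142789)) (tt N10781 F116021) (tt N14819 D30746) (tt N10780 (iv D25863)) (tt N13350 (iv F136119)) (tt N14820 D30747) (tt N14821 D30748) (tt N13303 (iv F135821)))
theorem Q12762 : ∀ i, i < 12762 → P i := stepQ 12761 Q12761 (allL N12761 (tt N13835 (iv F138650)) (tt N13376 (iv F136260)) (tt N14818 (iv F142791)) (tt N10782 F116022) (tt N13558 (iv F137282)) (tt N14820 (iv F142796)) (tt N14525 (iv F141715)) (tt N10780 (iv D25864)) (tt N12761 F116023) (tt N13304 (iv F135828)))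
theorem Q12763 : ∀ i, i < 12763 → P i := stepQ 12762 Q12762 (allL N12762 (tt N13836 (iv F138655)) (tt N13377 (iv F136266)) (tt N10847 F116024) (tt N14820 (iv F142795)) (tt N10785 F116025) (tt N10782 F116026) (tt N14822 D30749) (tt N10781 (iv D25865)) (tt N14823 D30750) (tt N13305 (iv F135834)))
theorem Q12764 : ∀ i, i < 12764 → P i := stepQ 12763 Q12763 (allL N12763 (tt N13837 (iv F138660)) (tt N13378 (iv F136272)) (tt N10848 F116027) (tt N14821 (iv F142797)) (tt N10786 F116028) (tt N12763 F116029) (tt N13353 (iv F136136)) (tt N14823 (iv F142804)) (tt N10781 (iv D25866)) (tt N14824 D30751))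
theorem Q12765 : ∀ i, i < 12765 → P i := stepQ 12764 Q12764 (allL N12764 (tt N13840 (iv F138676)) (tt N14752 (iv F142586)) (tt N14770 (iv F142646)) (tt N14819 (iv F142794)) (tt N10783 (iv D25871)) (tt N13848 (iv F138713)) (tt N14791 (iv F142712)) (tt N14825 D30752) (tt N14767 (iv F142638)) (tt N13381 (iv F136292)))
theorem Q12766 : ∀ i, i < 12766 → P i := stepQ 12765 Q12765 (allL N12765 (tt N13841 (iv F138679)) (tt N14753 (iv F142587)) (tt N14772 (iv F142651)) (tt N10785 F116042) (tt N14825 (iv F142808)) (tt N10784 F116043) (tt N14826 D30753) (tt N10783 (iv D25872)) (tt N14768 (iv F142642)) (tt N13382 (iv F136296)))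
theorem Q12767 : ∀ i, i < 12767 → P i := stepQ 12766 Q12766 (allL N12766 (tt N13843 (iv F138687)) (tt N14755 (iv F142594)) (tt N10851 F116046) (tt N14826 (iv F142809)) (tt N14822 (iv F142800)) (tt N10799 F116047) (tt N10785 (iv D25874)) (tt N14793 (iv F142717)) (tt N14827 D30754) (tt N13384 (iv F136303)))
theorem Q12768 : ∀ i, i < 12768 → P i := stepQ 12767 Q12767 (allL N12767 (tt N13844 (iv F138691)) (tt N14756 (iv F142597)) (tt N10852 F116048) (tt N14768 (iv F142640)) (tt N14823 (iv F142802)) (tt N10803 F116049) (tt N14827 (iv F142812)) (tt N10786 F116050) (tt N10785 (iv D25875)) (tt N14828 D30755))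
theorem Q12769 : ∀ i, i < 12769 → P i := stepQ 12768 Q12768 (allL N12768 (tt N13845 (iv F138695)) (tt N14757 (iv F142601)) (tt N10853 F116051) (tt N14759 (iv F142610)) (tt N14824 (iv F142806)) (tt N10804 F116052) (tt N14626 (iv F142079)) (tt N14828 (iv F142815)) (tt N13386 (iv F136311)) (tt N10786 (iv D25876)))
theorem Q12770 : ∀ i, i < 12770 → P i := stepQ 12769 Q12769 (allL N12769 (tt N13797 (iv F138480)) (tt N10788 F116056) (tt N14758 (iv F142605)) (tt N10854 F116057) (tt N13746 (iv F138247)) (tt N14829 D30756) (tt N10787 (iv D25878)) (tt N14830 D30757) (tt N10929 F116058) (tt N10793 F116059))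
theorem Q12771 : ∀ i, i < 12771 → P i := stepQ 12770 Q12770 (allL N12770 (tt N13846 (iv F138699)) (tt N14829 (iv F142816)) (tt N10789 F116060) (tt N10855 F116061) (tt N14831 D30758) (tt N10788 (iv D25879)) (tt N14796 (iv F142727)) (tt N14832 D30759) (tt N14833 D30760) (tt N10794 F116062))
theorem Q12772 : ∀ i, i < 12772 → P i := stepQ 12771 Q12771 (allL N12771 (tt N13847 (iv F138704)) (tt N14830 (iv F142819)) (tt N10790 F116063) (tt N10856 F116064) (tt N13839 (iv F138672)) (tt N14832 (iv F142828)) (tt N13380 (iv F136287)) (tt N10788 (iv D25880)) (tt N10931 F116065) (tt N10795 F116066))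
theorem Q12773 : ∀ i, i < 12773 → P i := stepQ 12772 Q12772 (allL N12772 (tt N13848 (iv F138712)) (tt N14761 (iv F142616)) (tt N14831 (iv F142824)) (tt N14542 (iv F141765)) (tt N10789 (iv D25881)) (tt N13840 (iv F138677)) (tt N14798 (iv F142733)) (tt N14834 D30761) (tt N14835 D30762) (tt N10796 F116067))
theorem Q12774 : ∀ i, i < 12774 → P i := stepQ 12773 Q12773 (allL N12773 (tt N13849 (iv F138715)) (tt N14762 (iv F142618)) (tt N14832 (iv F142826)) (tt N10791 F116068) (tt N14834 (iv F142833)) (tt N10790 F116069) (tt N14836 D30763) (tt N10789 (iv D25882)) (tt N14837 D30764) (tt N10797 F116070))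
theorem Q12775 : ∀ i, i < 12775 → P i := stepQ 12774 Q12774 (allL N12774 (tt N13850 (iv F138719)) (tt N14763 (iv F142622)) (tt N14833 (iv F142830)) (tt N10792 F116071) (tt N14835 (iv F142835)) (tt N10934 F116072) (tt N14800 (iv F142740)) (tt N14837 (iv F142840)) (tt N10789 (iv D25883)) (tt N14838 D30765))
theorem Q12776 : ∀ i, i < 12776 → P i := stepQ 12775 Q12775 (allL N12775 (tt N13851 (iv F138722)) (tt N14764 (iv F142625)) (tt N10860 F116073) (tt N14836 (iv F142836)) (tt N14545 (iv F141773)) (tt N13384 (iv F136302)) (tt N10791 (iv D25884)) (tt N14801 (iv F142742)) (tt N14839 D30766) (tt N10799 F116074))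
theorem Q12777 : ∀ i, i < 12777 → P i := stepQ 12776 Q12776 (allL N12776 (tt N13852 (iv F138726)) (tt N14765 (iv F142628)) (tt N10861 F116075) (tt N14837 (iv F142838)) (tt N14546 (iv F141776)) (tt N10936 F116076) (tt N14839 (iv F142845)) (tt N10792 F116077) (tt N10791 (iv D25885)) (tt N14840 D30767))
theorem Q12778 : ∀ i, i < 12778 → P i := stepQ 12777 Q12777 (allL N12777 (tt N13853 (iv F138730)) (tt N13415 (iv F136459)) (tt N10862 F116078) (tt N14838 (iv F142841)) (tt N14547 (iv F141780)) (tt N10937 F116079) (tt N14803 (iv F142749)) (tt N14840 (iv F142848)) (tt N10801 F116080) (tt N10792 (iv D25886)))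
theorem Q12779 : ∀ i, i < 12779 → P i := stepQ 12778 Q12778 (allL N12778 (tt N14186 (iv F140397)) (tt N10794 F116084) (tt N14754 (iv F142591)) (tt N10863 F116085) (tt N14841 D30768) (tt N10793 (iv D25888)) (tt N14804 (iv F142753)) (tt N14842 D30769) (tt N14750 (iv F142580)) (tt N14829 (iv F142818)))
theorem Q12780 : ∀ i, i < 12780 → P i := stepQ 12779 Q12779 (allL N12779 (tt N13886 (iv F138868)) (tt N10795 F116086) (tt N14766 (iv F142633)) (tt N10813 F134771) (tt N14330 (iv F140972)) (tt N14842 (iv F142853)) (tt N10811 F134772) (tt N10793 (iv D25889)) (tt N10805 F116088) (tt N14830 (iv F142823)))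
theorem Q12781 : ∀ i, i < 12781 → P i := stepQ 12780 Q12780 (allL N12780 (tt N13857 (iv F138748)) (tt N14841 (iv F142850)) (tt N10796 F116089) (tt N14843 D30770) (tt N10794 (iv D25890)) (tt N14331 (iv F140976)) (tt N14806 (iv F142759)) (tt N14844 D30771) (tt N14845 D30772) (tt N14831 (iv F142825)))
theorem Q12782 : ∀ i, i < 12782 → P i := stepQ 12781 Q12781 (allL N12781 (tt N13858 (iv F138750)) (tt N14842 (iv F142851)) (tt N10797 F116090) (tt N10865 F116091) (tt N14844 (iv F142856)) (tt N10795 F116092) (tt N14846 D30773) (tt N10794 (iv D25891)) (tt N14847 D30774) (tt N14832 (iv F142829)))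
theorem Q12783 : ∀ i, i < 12783 → P i := stepQ 12782 Q12782 (allL N12782 (tt N13859 (iv F138754)) (tt N14750 (iv F142577)) (tt N10798 F116093) (tt N10866 F116094) (tt N14845 (iv F142858)) (tt N10808 F116095) (tt N14808 (iv F142766)) (tt N14847 (iv F142864)) (tt N10794 (iv D25892)) (tt N14848 D30775))
theorem Q12784 : ∀ i, i < 12784 → P i := stepQ 12783 Q12783 (allL N12783 (tt N13860 (iv F138758)) (tt N14769 (iv F142643)) (tt N14844 (iv F142855)) (tt N14554 (iv F141798)) (tt N10797 F116096) (tt N14334 (iv F140984)) (tt N14849 D30776) (tt N10796 (iv D25893)) (tt N14850 D30777) (tt N14834 (iv F142834)))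
theorem Q12785 : ∀ i, i < 12785 → P i := stepQ 12784 Q12784 (allL N12784 (tt N13861 (iv F138760)) (tt N14770 (iv F142645)) (tt N14845 (iv F142857)) (tt N14555 (iv F141800)) (tt N10798 F116097) (tt N14851 D30778) (tt N14810 (iv F142769)) (tt N14850 (iv F142870)) (tt N10796 (iv D25894)) (tt N14852 D30779))
theorem Q12786 : ∀ i, i < 12786 → P i := stepQ 12785 Q12785 (allL N12785 (tt N13862 (iv F138762)) (tt N14771 (iv F142648)) (tt N14846 (iv F142859)) (tt N10799 F116098) (tt N14849 (iv F142868)) (tt N14826 (iv F142810)) (tt N10797 (iv D25895)) (tt N14811 (iv F142771)) (tt N14853 D30780) (tt N14836 (iv F142837)))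
theorem Q12787 : ∀ i, i < 12787 → P i := stepQ 12786 Q12786 (allL N12786 (tt N13863 (iv F138764)) (tt N14772 (iv F142650)) (tt N14847 (iv F142861)) (tt N10800 F116099) (tt N14850 (iv F142869)) (tt N10811 F116100) (tt N14853 (iv F142874)) (tt N10798 F116101) (tt N10797 (iv D25896)) (tt N14854 D30781))
theorem Q12788 : ∀ i, i < 12788 → P i := stepQ 12787 Q12787 (allL N12787 (tt N13864 (iv F138768)) (tt N13379 (iv F136278)) (tt N14848 (iv F142865)) (tt N10801 F116102) (tt N14852 (iv F142872)) (tt N10812 F116103) (tt N14813 (iv F142777)) (tt N14854 (iv F142877)) (tt N14838 (iv F142843)) (tt N10798 (iv D25897)))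
theorem Q12789 : ∀ i, i < 12789 → P i := stepQ 12788 Q12788 (allL N12788 (tt N13865 (iv F138771)) (tt N14773 (iv F142655)) (tt N10872 F116104) (tt N14853 (iv F142873)) (tt N14559 (iv F141809)) (tt N14855 D30782) (tt N10800 F116105) (tt N14814 (iv F142780)) (tt N10799 (iv D25898)) (tt N14856 D30783))
theorem Q12790 : ∀ i, i < 12790 → P i := stepQ 12789 Q12789 (allL N12789 (tt N13866 (iv F138774)) (tt N13414 (iv F136454)) (tt N10873 F116106) (tt N14854 (iv F142875)) (tt N14560 (iv F141812)) (tt N10814 F116107) (tt N14856 (iv F142882)) (tt N10801 F116108) (tt N14840 (iv F142849)) (tt N10800 (iv D25899)))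
theorem Q12791 : ∀ i, i < 12791 → P i := stepQ 12790 Q12790 (allL N12790 (tt N13872 (iv F138804)) (tt N10877 F134761) (tt N10874 F116145) (tt N14751 (iv F142583)) (tt N12790 F116146) (tt N14857 D30784) (tt N10803 F116147) (tt N10876 F134762) (tt N10802 (iv D25911)) (tt N14858 D30785))
theorem Q12792 : ∀ i, i < 12792 → P i := stepQ 12791 Q12791 (allL N12791 (tt N13873 (iv F138809)) (tt N14774 (iv F142659)) (tt N10875 F116149) (tt N14760 (iv F142613)) (tt N12791 F116150) (tt N14828 (iv F142814)) (tt N14858 (iv F142890)) (tt N10804 F116151) (tt N10950 F116152) (tt N10803 (iv D25912)))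
theorem Q12793 : ∀ i, i < 12793 → P i := stepQ 12792 Q12792 (allL N12792 (tt N13878 (iv F138831)) (tt N14028 (iv F139589)) (tt N10809 F116171) (tt N12792 F116172) (tt N10807 F116173) (tt N14343 (iv F141007)) (tt N14304 (iv F140886)) (tt N10806 (iv D25918)) (tt N14859 D30786) (tt N10951 F116174))
theorem Q12794 : ∀ i, i < 12794 → P i := stepQ 12793 Q12793 (allL N12793 (tt N13879 (iv F138836)) (tt N13768 (iv F138358)) (tt N10810 F116175) (tt N12793 F116176) (tt N10808 F116177) (tt N14860 D30787) (tt N11015 F116178) (tt N14859 (iv F142896)) (tt N10806 (iv D25919)) (tt N13774 (iv F138391)))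
theorem Q12795 : ∀ i, i < 12795 → P i := stepQ 12794 Q12794 (allL N12794 (tt N13881 (iv F138847)) (tt N14751 (iv F142581)) (tt N10811 F116183) (tt N10877 F116184) (tt N14859 (iv F142895)) (tt N14847 (iv F142863)) (tt N14766 (iv F142635)) (tt N10808 F116185) (tt N10807 (iv D25921)) (tt N14861 D30788))
theorem Q12796 : ∀ i, i < 12796 → P i := stepQ 12795 Q12795 (allL N12795 (tt N13882 (iv F138851)) (tt N13349 (iv F136111)) (tt N10812 F116186) (tt N10878 F116187) (tt N13774 (iv F138389)) (tt N14848 (iv F142867)) (tt N11016 F116188) (tt N14861 (iv F142901)) (tt N10953 F116189) (tt N10808 (iv D25922)))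
theorem Q12797 : ∀ i, i < 12797 → P i := stepQ 12796 Q12796 (allL N12796 (tt N13884 (iv F138862)) (tt N13847 (iv F138705)) (tt N14859 (iv F142893)) (tt N10815 F116194) (tt N10811 F116195) (tt N14862 D30789) (tt N14330 (iv F140973)) (tt N10810 F116196) (tt N10809 (iv D25924)) (tt N13856 (iv F138747)))
theorem Q12798 : ∀ i, i < 12798 → P i := stepQ 12797 Q12797 (allL N12797 (tt N13885 (iv F138866)) (tt N13846 (iv F138700)) (tt N14860 (iv F142897)) (tt N10816 F116197) (tt N14851 (iv F142871)) (tt N10810 (iv D25925)) (tt N14863 D30790) (tt N14862 (iv F142904)) (tt N14350 (iv F141033)) (tt N13855 (iv F138742)))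
theorem Q12799 : ∀ i, i < 12799 → P i := stepQ 12798 Q12798 (allL N12798 (tt N13887 (iv F138872)) (tt N13380 (iv F136283)) (tt N14861 (iv F142899)) (tt N10814 F116205) (tt N13856 (iv F138745)) (tt N14854 (iv F142876)) (tt N14830 (iv F142821)) (tt N10812 F116206) (tt N10954 F116207) (tt N10811 (iv D25928)))
theorem Q12800 : ∀ i, i < 12800 → P i := stepQ 12799 Q12799 (allL N12799 (tt N13888 (iv F138876)) (tt N10865 F134784) (tt N10881 F116208) (tt N14842 (iv F142852)) (tt N14864 D30791) (tt N10813 (iv D25929)) (tt N14855 (iv F142880)) (tt N10863 F134785) (tt N14857 (iv F142886)) (tt N14865 D30792))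
theorem Q12801 : ∀ i, i < 12801 → P i := stepQ 12800 Q12800 (allL N12800 (tt N13803 (iv F138515)) (tt N10856 F134757) (tt N10882 F116210) (tt N14830 (iv F142820)) (tt N10818 F116211) (tt N14865 (iv F142913)) (tt N10814 F116212) (tt N10854 F134758) (tt N10956 F116214) (tt N10813 (iv D25930)))
theorem Q12802 : ∀ i, i < 12802 → P i := stepQ 12801 Q12801 (allL N12801 (tt N13890 (iv F138885)) (tt N13944 (iv F139150)) (tt N12801 F116223) (tt N14862 (iv F142903)) (tt N14590 (iv F141919)) (tt N10815 (iv D25933)) (tt N14866 D30793) (tt N10816 F116224) (tt N14358 (iv F141063)) (tt N13954 (iv F139197)))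
theorem Q12803 : ∀ i, i < 12803 → P i := stepQ 12802 Q12802 (allL N12802 (tt N13891 (iv F138888)) (tt N13906 (iv F138967)) (tt N12802 F116229) (tt N14863 (iv F142905)) (tt N14591 (iv F141922)) (tt N11018 F116230) (tt N10816 (iv D25935)) (tt N14867 D30794) (tt N14360 (iv F141070)) (tt N13915 (iv F139016)))
theorem Q12804 : ∀ i, i < 12804 → P i := stepQ 12803 Q12803 (allL N12803 (tt N13893 (iv F138895)) (tt N10907 F134802) (tt N10883 F116242) (tt N14868 D30795) (tt N10817 (iv D25939)) (tt N14864 (iv F142909)) (tt N14592 (iv F141926)) (tt N10905 F134803) (tt N12803 F116244) (tt N14683 F142304))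
theorem Q12805 : ∀ i, i < 12805 → P i := stepQ 12804 Q12804 (allL N12804 (tt N13520 (iv F137066)) (tt N10899 F134805) (tt N10884 F116245) (tt N13498 (iv F136947)) (tt N14683 (iv F142302)) (tt N10818 F116246) (tt N14593 (iv F141932)) (tt N10897 F134806) (tt N13496 (iv F136936)) (tt N10817 (iv D25940)))
theorem Q12806 : ∀ i, i < 12806 → P i := stepQ 12805 Q12805 (allL N12805 (tt N13895 (iv F138906)) (tt N10878 F134776) (tt N10820 F116254) (tt N13349 (iv F136113)) (tt N12805 F116255) (tt N14869 D30796) (tt N10819 (iv D25942)) (tt N14858 (iv F142891)) (tt N10980 F134777) (tt N10876 F134778))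
theorem Q12807 : ∀ i, i < 12807 → P i := stepQ 12806 Q12806 (allL N12806 (tt N13896 (iv F138911)) (tt N11251 F116258) (tt N14869 (iv F142922)) (tt N10821 F116259) (tt N14638 (iv F142136)) (tt N10820 (iv D25943)) (tt N10845 F116260) (tt N14870 D30797) (tt N14636 F142129) (tt N11030 F135057))
theorem Q12808 : ∀ i, i < 12808 → P i := stepQ 12807 Q12807 (allL N12807 (tt N13897 (iv F138916)) (tt N11252 F116262) (tt N14858 (iv F142888)) (tt N10822 F116263) (tt N12807 F116264) (tt N14870 (iv F142927)) (tt N10875 (iv F135167)) (tt N10820 (iv D25944)) (tt N10979 F134765) (tt N10874 F134766))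
theorem Q12809 : ∀ i, i < 12809 → P i := stepQ 12808 Q12808 (allL N12808 (tt N13898 (iv F138923)) (tt N11253 F116268) (tt N13352 (iv F136128)) (tt N14870 (iv F142926)) (tt N10826 F116269) (tt N10822 F116270) (tt N14871 D30798) (tt N10821 (iv D25945)) (tt N14872 D30799) (tt N11234 F116271))
theorem Q12810 : ∀ i, i < 12810 → P i := stepQ 12809 Q12809 (allL N12809 (tt N13899 (iv F138928)) (tt N11243 F135415) (tt N13353 (iv F136133)) (tt N14636 (iv F142125)) (tt N10827 F116273) (tt N11324 F116274) (tt N10848 F116275) (tt N14872 (iv F142937)) (tt N10821 (iv D25946)) (tt N14628 (iv F142091)))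
theorem Q12811 : ∀ i, i < 12811 → P i := stepQ 12810 Q12810 (allL N12810 (tt N13902 (iv F138944)) (tt N11010 F134799) (tt N10825 F116287) (tt N14790 (iv F142709)) (tt N12810 F116288) (tt N14749 (iv F142575)) (tt N10836 F116289) (tt N10823 (iv D25950)) (tt N10991 F134800) (tt N13406 (iv F136410)))
theorem Q12812 : ∀ i, i < 12812 → P i := stepQ 12811 Q12811 (allL N12811 (tt N13903 (iv F138950)) (tt N11246 F135433) (tt N14749 (iv F142574)) (tt N10826 F116295) (tt N14640 (iv F142146)) (tt N10825 F116296) (tt N14873 D30800) (tt N10824 (iv D25952)) (tt N11233 F135434) (tt N13408 (iv F136422)))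
theorem Q12813 : ∀ i, i < 12813 → P i := stepQ 12812 Q12812 (allL N12812 (tt N13904 (iv F138956)) (tt N11270 F116301) (tt N14793 (iv F142715)) (tt N14873 (iv F142939)) (tt N14871 (iv F142930)) (tt N10840 F116302) (tt N10826 (iv D25954)) (tt N10851 F116303) (tt N14874 D30801) (tt N13410 (iv F136435)))
theorem Q12814 : ∀ i, i < 12814 → P i := stepQ 12813 Q12813 (allL N12813 (tt N13905 (iv F138961)) (tt N11244 F135417) (tt N14794 (iv F142718)) (tt N11233 F135418) (tt N14872 (iv F142935)) (tt N11019 F116305) (tt N14874 (iv F142945)) (tt N10827 F116306) (tt N10826 (iv D25955)) (tt N14629 (iv F142095)))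
theorem Q12815 : ∀ i, i < 12815 → P i := stepQ 12814 Q12814 (allL N12814 (tt N14145 (iv F140211)) (tt N10829 F116315) (tt N11029 F134756) (tt N14795 (iv F142722)) (tt N12814 F116317) (tt N14875 D30802) (tt N10828 (iv D25958)) (tt N14876 D30803) (tt N12814 F116318) (tt N10834 F116319))
theorem Q12816 : ∀ i, i < 12816 → P i := stepQ 12815 Q12815 (allL N12815 (tt N13906 (iv F138966)) (tt N14875 (iv F142947)) (tt N10830 F116320) (tt N14796 (iv F142726)) (tt N14877 D30804) (tt N10829 (iv D25959)) (tt N10855 F116321) (tt N14878 D30805) (tt N14879 D30806) (tt N10835 F116322))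
theorem Q12817 : ∀ i, i < 12817 → P i := stepQ 12816 Q12816 (allL N12816 (tt N13907 (iv F138971)) (tt N14876 (iv F142951)) (tt N10831 F116323) (tt N14797 (iv F142730)) (tt N12816 F116324) (tt N14878 (iv F142962)) (tt N13406 (iv F136408)) (tt N10829 (iv D25960)) (tt N12816 F116325) (tt N10836 F116326))
theorem Q12818 : ∀ i, i < 12818 → P i := stepQ 12817 Q12817 (allL N12817 (tt N13908 (iv F138978)) (tt N11273 F116327) (tt N14877 (iv F142957)) (tt N14607 (iv F141998)) (tt N10830 (iv D25961)) (tt N12817 F116328) (tt N10857 F116329) (tt N14880 D30807) (tt N14881 D30808) (tt N10837 F116330))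
theorem Q12819 : ∀ i, i < 12819 → P i := stepQ 12818 Q12818 (allL N12818 (tt N13909 (iv F138983)) (tt N11274 F116331) (tt N14878 (iv F142961)) (tt N10832 F116332) (tt N14880 (iv F142968)) (tt N10831 F116333) (tt N14882 D30809) (tt N10830 (iv D25962)) (tt N14883 D30810) (tt N10838 F116334))
theorem Q12820 : ∀ i, i < 12820 → P i := stepQ 12819 Q12819 (allL N12819 (tt N13910 (iv F138988)) (tt N11275 F116335) (tt N14879 (iv F142964)) (tt N10833 F116336) (tt N14881 (iv F142973)) (tt N12819 F116337) (tt N10859 F116338) (tt N14883 (iv F142984)) (tt N10830 (iv D25963)) (tt N14884 D30811))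
theorem Q12821 : ∀ i, i < 12821 → P i := stepQ 12820 Q12820 (allL N12820 (tt N13911 (iv F138993)) (tt N11276 F116339) (tt N14801 (iv F142741)) (tt N14882 (iv F142978)) (tt N14610 (iv F142014)) (tt N13410 (iv F136433)) (tt N10832 (iv D25964)) (tt N10860 F116340) (tt N14885 D30812) (tt N10840 F116341))
theorem Q12822 : ∀ i, i < 12822 → P i := stepQ 12821 Q12821 (allL N12821 (tt N13912 (iv F138998)) (tt N11277 F116342) (tt N14802 (iv F142744)) (tt N14883 (iv F142982)) (tt N14611 (iv F142019)) (tt N12821 F116343) (tt N14885 (iv F142992)) (tt N10833 F116344) (tt N10832 (iv D25965)) (tt N14886 D30813))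
theorem Q12823 : ∀ i, i < 12823 → P i := stepQ 12822 Q12822 (allL N12822 (tt N13913 (iv F139002)) (tt N11278 F116345) (tt N14803 (iv F142747)) (tt N14884 (iv F142986)) (tt N14612 (iv F142024)) (tt N12822 F116346) (tt N10862 F116347) (tt N14886 (iv F142996)) (tt N10842 F116348) (tt N10833 (iv D25966)))
theorem Q12824 : ∀ i, i < 12824 → P i := stepQ 12823 Q12823 (allL N12823 (tt N14178 (iv F140368)) (tt N10835 F116353) (tt N11028 (iv F135056)) (tt N14804 (iv F142752)) (tt N14887 D30814) (tt N10834 (iv D25968)) (tt N10863 F116355) (tt N14888 D30815) (tt N13319 (iv F135925)) (tt N14875 (iv F142950)))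
theorem Q12825 : ∀ i, i < 12825 → P i := stepQ 12824 Q12824 (allL N12824 (tt N14168 (iv F140320)) (tt N10836 F116356) (tt N11025 F134780) (tt N14805 (iv F142755)) (tt N12824 F116358) (tt N14888 (iv F143004)) (tt N11010 F134781) (tt N10834 (iv D25969)) (tt N11009 F134782) (tt N14876 (iv F142956)))
theorem Q12826 : ∀ i, i < 12826 → P i := stepQ 12825 Q12825 (allL N12825 (tt N13917 (iv F139022)) (tt N14887 (iv F142998)) (tt N10837 F116360) (tt N14889 D30816) (tt N10835 (iv D25970)) (tt N12825 F116361) (tt N10864 F116362) (tt N14890 D30817) (tt N14891 D30818) (tt N14877 (iv F142960)))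
theorem Q12827 : ∀ i, i < 12827 → P i := stepQ 12826 Q12826 (allL N12826 (tt N13918 (iv F139026)) (tt N14888 (iv F143002)) (tt N10838 F116363) (tt N14807 (iv F142761)) (tt N14890 (iv F143008)) (tt N10836 F116364) (tt N14892 D30819) (tt N10835 (iv D25971)) (tt N14893 D30820) (tt N14878 (iv F142963)))
theorem Q12828 : ∀ i, i < 12828 → P i := stepQ 12827 Q12827 (allL N12827 (tt N13919 (iv F139029)) (tt N13319 (iv F135922)) (tt N10839 F116365) (tt N14808 (iv F142764)) (tt N14891 (iv F143011)) (tt N11021 F116366) (tt N10866 F116367) (tt N14893 (iv F143017)) (tt N10835 (iv D25972)) (tt N14894 D30821))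
theorem Q12829 : ∀ i, i < 12829 → P i := stepQ 12828 Q12828 (allL N12828 (tt N13920 (iv F139033)) (tt N11281 F116368) (tt N14890 (iv F143007)) (tt N14619 (iv F142048)) (tt N10838 F116369) (tt N12828 F116370) (tt N14895 D30822) (tt N10837 (iv D25973)) (tt N14896 D30823) (tt N14880 (iv F142970)))
theorem Q12830 : ∀ i, i < 12830 → P i := stepQ 12829 Q12829 (allL N12829 (tt N13921 (iv F139037)) (tt N11282 F116371) (tt N14891 (iv F143010)) (tt N14620 (iv F142052)) (tt N10839 F116372) (tt N14897 D30824) (tt N10868 F116373) (tt N14896 (iv F143027)) (tt N10837 (iv D25974)) (tt N14898 D30825))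
theorem Q12831 : ∀ i, i < 12831 → P i := stepQ 12830 Q12830 (allL N12830 (tt N13922 (iv F139041)) (tt N11283 F116374) (tt N14892 (iv F143013)) (tt N10840 F116375) (tt N14895 (iv F143023)) (tt N14873 (iv F142940)) (tt N10838 (iv D25975)) (tt N10869 F116376) (tt N14899 D30826) (tt N14882 (iv F142980)))
theorem Q12832 : ∀ i, i < 12832 → P i := stepQ 12831 Q12831 (allL N12831 (tt N13923 (iv F139045)) (tt N11284 F116377) (tt N14893 (iv F143015)) (tt N10841 F116378) (tt N14896 (iv F143026)) (tt N11023 F116379) (tt N14899 (iv F143042)) (tt N10839 F116380) (tt N10838 (iv D25976)) (tt N14900 D30827))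
theorem Q12833 : ∀ i, i < 12833 → P i := stepQ 12832 Q12832 (allL N12832 (tt N13924 (iv F139050)) (tt N11285 F116381) (tt N14894 (iv F143019)) (tt N10842 F116382) (tt N14898 (iv F143036)) (tt N11024 F116383) (tt N10871 F116384) (tt N14900 (iv F143047)) (tt N14884 (iv F142990)) (tt N10839 (iv D25977)))
theorem Q12834 : ∀ i, i < 12834 → P i := stepQ 12833 Q12833 (allL N12833 (tt N13925 (iv F139055)) (tt N11286 F116385) (tt N14814 (iv F142778)) (tt N14899 (iv F143041)) (tt N14624 (iv F142071)) (tt N14901 D30828) (tt N10841 F116386) (tt N10872 F116387) (tt N10840 (iv D25978)) (tt N14902 D30829))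
theorem Q12835 : ∀ i, i < 12835 → P i := stepQ 12834 Q12834 (allL N12834 (tt N13926 (iv F139059)) (tt N11287 F116388) (tt N14815 (iv F142781)) (tt N14900 (iv F143045)) (tt N14625 (iv F142075)) (tt N11026 F116389) (tt N14902 (iv F143052)) (tt N10842 F116390) (tt N14886 (iv F142997)) (tt N10841 (iv D25979)))
theorem Q12836 : ∀ i, i < 12836 → P i := stepQ 12835 Q12835 (allL N12835 (tt N14193 (iv F140426)) (tt N10844 F116394) (tt N11024 F135051) (tt N14816 (iv F142786)) (tt N10886 F116396) (tt N14894 (iv F143020)) (tt N10843 (iv D25981)) (tt N14903 D30830) (tt N12835 F116397) (tt N11021 F135052))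
theorem Q12837 : ∀ i, i < 12837 → P i := stepQ 12836 Q12836 (allL N12836 (tt N13929 (iv F139074)) (tt N14894 (iv F143018)) (tt N10845 F116398) (tt N14817 (iv F142790)) (tt N14904 D30831) (tt N10844 (iv D25982)) (tt N14869 (iv F142923)) (tt N14905 D30832) (tt N14906 D30833) (tt N13319 (iv F135926)))
theorem Q12838 : ∀ i, i < 12838 → P i := stepQ 12837 Q12837 (allL N12837 (tt N13930 (iv F139077)) (tt N14903 (iv F143054)) (tt N10846 F116399) (tt N14818 (iv F142792)) (tt N10888 F116400) (tt N14905 (iv F143063)) (tt N14627 (iv F142083)) (tt N10844 (iv D25983)) (tt N12837 F116401) (tt N13320 (iv F135933)))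
theorem Q12839 : ∀ i, i < 12839 → P i := stepQ 12838 Q12838 (allL N12838 (tt N13931 (iv F139082)) (tt N11093 F135428) (tt N14904 (iv F143059)) (tt N10849 F116403) (tt N10845 (iv D25984)) (tt N10889 F116404) (tt N14638 (iv F142138)) (tt N14907 D30834) (tt N11054 F135429) (tt N13321 (iv F135940)))
theorem Q12840 : ∀ i, i < 12840 → P i := stepQ 12839 Q12839 (allL N12839 (tt N13932 (iv F139088)) (tt N11289 F116405) (tt N14905 (iv F143062)) (tt N10847 F116406) (tt N14907 (iv F143069)) (tt N10846 F116407) (tt N14908 D30835) (tt N10845 (iv D25985)) (tt N14909 D30836) (tt N13322 (iv F135946)))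
theorem Q12841 : ∀ i, i < 12841 → P i := stepQ 12840 Q12840 (allL N12840 (tt N13933 (iv F139093)) (tt N11091 F135413) (tt N14906 (iv F143064)) (tt N10848 F116409) (tt N11054 F135414) (tt N12840 F116410) (tt N14636 (iv F142127)) (tt N14909 (iv F143078)) (tt N10845 (iv D25986)) (tt N14598 (iv F141957)))
theorem Q12842 : ∀ i, i < 12842 → P i := stepQ 12841 Q12841 (allL N12841 (tt N13934 (iv F139098)) (tt N11290 F116411) (tt N14822 (iv F142799)) (tt N14908 (iv F143073)) (tt N10851 F116412) (tt N14630 (iv F142098)) (tt N10847 (iv D25987)) (tt N14871 (iv F142932)) (tt N14910 D30837) (tt N13323 (iv F135952)))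
theorem Q12843 : ∀ i, i < 12843 → P i := stepQ 12842 Q12842 (allL N12842 (tt N13935 (iv F139102)) (tt N11266 F135408) (tt N14823 (iv F142801)) (tt N14909 (iv F143075)) (tt N10852 F116414) (tt N12842 F116415) (tt N14910 (iv F143081)) (tt N10848 F116416) (tt N10847 (iv D25988)) (tt N14911 D30838))
theorem Q12844 : ∀ i, i < 12844 → P i := stepQ 12843 Q12843 (allL N12843 (tt N13936 (iv F139107)) (tt N11260 F135416) (tt N14824 (iv F142805)) (tt N14598 (iv F141954)) (tt N10853 F116418) (tt N12843 F116419) (tt N14628 (iv F142089)) (tt N14911 (iv F143085)) (tt N13325 (iv F135965)) (tt N10848 (iv D25989)))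
theorem Q12845 : ∀ i, i < 12845 → P i := stepQ 12844 Q12844 (allL N12844 (tt N13939 (iv F139122)) (tt N11095 F135423) (tt N14484 (iv F141562)) (tt N14907 (iv F143068)) (tt N10850 F116438) (tt N10894 F116439) (tt N14912 D30839) (tt N10849 (iv D25996)) (tt N11056 F135424) (tt N13416 (iv F136467)))
theorem Q12846 : ∀ i, i < 12846 → P i := stepQ 12845 Q12845 (allL N12845 (tt N13940 (iv F139128)) (tt N11268 F135425) (tt N14773 (iv F142656)) (tt N10851 F116443) (tt N14912 (iv F143087)) (tt N10869 F116444) (tt N10850 (iv D25998)) (tt N14873 (iv F142941)) (tt N11237 F135426) (tt N13418 (iv F136479)))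
theorem Q12847 : ∀ i, i < 12847 → P i := stepQ 12846 Q12846 (allL N12846 (tt N13941 (iv F139134)) (tt N11267 F135409) (tt N14827 (iv F142811)) (tt N11237 F135410) (tt N14910 (iv F143080)) (tt N14913 D30840) (tt N10852 F116453) (tt N14874 (iv F142946)) (tt N10851 (iv D26001)) (tt N14914 D30841))
theorem Q12848 : ∀ i, i < 12848 → P i := stepQ 12847 Q12847 (allL N12847 (tt N13942 (iv F139138)) (tt N11261 F135411) (tt N14828 (iv F142813)) (tt N11235 F135412) (tt N14911 (iv F143083)) (tt N10875 F116455) (tt N14914 (iv F143095)) (tt N10853 F116456) (tt N13421 (iv F136494)) (tt N10852 (iv D26002)))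
theorem Q12849 : ∀ i, i < 12849 → P i := stepQ 12848 Q12848 (allL N12848 (tt N13804 (iv F138522)) (tt N10855 F116462) (tt N11034 (iv F135252)) (tt N14829 (iv F142817)) (tt N14645 (iv F142166)) (tt N10854 (iv D26004)) (tt N14875 (iv F142949)) (tt N14865 (iv F142914)) (tt N14643 F142161) (tt N10863 F116464))
theorem Q12850 : ∀ i, i < 12850 → P i := stepQ 12849 Q12849 (allL N12849 (tt N13943 (iv F139144)) (tt N14645 (iv F142164)) (tt N10857 F116470) (tt N14915 D30842) (tt N10855 (iv D26006)) (tt N10898 F116471) (tt N14877 (iv F142959)) (tt N14916 D30843) (tt N14641 (iv F142152)) (tt N10864 F116472))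
theorem Q12851 : ∀ i, i < 12851 → P i := stepQ 12850 Q12850 (allL N12850 (tt N13944 (iv F139149)) (tt N14865 (iv F142911)) (tt N10858 F116473) (tt N14832 (iv F142827)) (tt N14916 (iv F143099)) (tt N10856 F116474) (tt N14917 D30844) (tt N10855 (iv D26007)) (tt N14918 D30845) (tt N10865 F116475))
theorem Q12852 : ∀ i, i < 12852 → P i := stepQ 12851 Q12851 (allL N12851 (tt N13945 (iv F139154)) (tt N14643 (iv F142158)) (tt N10859 F116476) (tt N14833 (iv F142831)) (tt N14641 (iv F142151)) (tt N10959 F116477) (tt N14879 (iv F142966)) (tt N14918 (iv F143106)) (tt N10855 (iv D26008)) (tt N14919 D30846))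
theorem Q12853 : ∀ i, i < 12853 → P i := stepQ 12852 Q12852 (allL N12852 (tt N13946 (iv F139158)) (tt N11294 F116478) (tt N14916 (iv F143098)) (tt N14657 (iv F142210)) (tt N10858 F116479) (tt N10900 F116480) (tt N14920 D30847) (tt N10857 (iv D26009)) (tt N14921 D30848) (tt N10867 F116481))
theorem Q12854 : ∀ i, i < 12854 → P i := stepQ 12853 Q12853 (allL N12853 (tt N13947 (iv F139163)) (tt N11138 F116482) (tt N14641 (iv F142150)) (tt N14658 (iv F142215)) (tt N10859 F116483) (tt N11137 F116484) (tt N14881 (iv F142974)) (tt N14921 (iv F143116)) (tt N10857 (iv D26010)) (tt N14922 D30849))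
theorem Q12855 : ∀ i, i < 12855 → P i := stepQ 12854 Q12854 (allL N12854 (tt N13948 (iv F139167)) (tt N11295 F116485) (tt N14917 (iv F143102)) (tt N10860 F116486) (tt N14920 (iv F143111)) (tt N13418 (iv F136478)) (tt N10858 (iv D26011)) (tt N14882 (iv F142979)) (tt N14923 D30850) (tt N10869 F116487))
theorem Q12856 : ∀ i, i < 12856 → P i := stepQ 12855 Q12855 (allL N12855 (tt N13949 (iv F139172)) (tt N11296 F116488) (tt N14918 (iv F143104)) (tt N10861 F116489) (tt N14921 (iv F143114)) (tt N10963 F116490) (tt N14923 (iv F143125)) (tt N10859 F116491) (tt N10858 (iv D26012)) (tt N14924 D30851))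
theorem Q12857 : ∀ i, i < 12857 → P i := stepQ 12856 Q12856 (allL N12856 (tt N13950 (iv F139177)) (tt N11297 F116492) (tt N14919 (iv F143107)) (tt N10862 F116493) (tt N14922 (iv F143119)) (tt N10964 F116494) (tt N14884 (iv F142989)) (tt N14924 (iv F143129)) (tt N10871 F116495) (tt N10859 (iv D26013)))
theorem Q12858 : ∀ i, i < 12858 → P i := stepQ 12857 Q12857 (allL N12857 (tt N13951 (iv F139182)) (tt N11298 F116496) (tt N14839 (iv F142844)) (tt N14923 (iv F143124)) (tt N14662 (iv F142234)) (tt N14925 D30852) (tt N10861 F116497) (tt N14885 (iv F142993)) (tt N10860 (iv D26014)) (tt N14926 D30853))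
theorem Q12859 : ∀ i, i < 12859 → P i := stepQ 12858 Q12858 (allL N12858 (tt N13952 (iv F139185)) (tt N11299 F116498) (tt N14840 (iv F142846)) (tt N14924 (iv F143127)) (tt N14663 (iv F142237)) (tt N10966 F116499) (tt N14926 (iv F143134)) (tt N10862 F116500) (tt N10873 F116501) (tt N10861 (iv D26015)))
theorem Q12860 : ∀ i, i < 12860 → P i := stepQ 12859 Q12859 (allL N12859 (tt N14187 (iv F140399)) (tt N10864 F116508) (tt N11033 (iv F135249)) (tt N14927 D30854) (tt N10863 (iv D26018)) (tt N10905 F116510) (tt N14887 (iv F143001)) (tt N14864 (iv F142910)) (tt N14928 D30855) (tt N14645 F142168))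
theorem Q12861 : ∀ i, i < 12861 → P i := stepQ 12860 Q12860 (allL N12860 (tt N14180 (iv F140376)) (tt N10866 F116514) (tt N11030 F134786) (tt N14750 (iv F142579)) (tt N14928 (iv F143140)) (tt N10876 F116516) (tt N13319 (iv F135924)) (tt N14857 (iv F142885)) (tt N10863 (iv D26020)) (tt N14869 (iv F142924)))
theorem Q12862 : ∀ i, i < 12862 → P i := stepQ 12861 Q12861 (allL N12861 (tt N13956 (iv F139201)) (tt N14927 (iv F143136)) (tt N14669 (iv F142256)) (tt N10864 (iv D26021)) (tt N14843 (iv F142854)) (tt N10906 F116517) (tt N14889 (iv F143006)) (tt N14929 D30856) (tt N14930 D30857) (tt N14915 (iv F143097)))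
theorem Q12863 : ∀ i, i < 12863 → P i := stepQ 12862 Q12862 (allL N12862 (tt N13957 (iv F139203)) (tt N14864 (iv F142907)) (tt N10867 F116518) (tt N14929 (iv F143142)) (tt N10865 F116519) (tt N10907 F116520) (tt N14931 D30858) (tt N10864 (iv D26022)) (tt N14932 D30859) (tt N14916 (iv F143101)))
theorem Q12864 : ∀ i, i < 12864 → P i := stepQ 12863 Q12863 (allL N12863 (tt N13958 (iv F139207)) (tt N14928 (iv F143138)) (tt N10868 F116521) (tt N14930 (iv F143144)) (tt N10866 F116522) (tt N12863 F116523) (tt N14891 (iv F143012)) (tt N14932 (iv F143151)) (tt N10864 (iv D26023)) (tt N14933 D30860))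
theorem Q12865 : ∀ i, i < 12865 → P i := stepQ 12864 Q12864 (allL N12864 (tt N13959 (iv F139211)) (tt N14855 (iv F142878)) (tt N10869 F116524) (tt N14846 (iv F142860)) (tt N14931 (iv F143147)) (tt N14773 F142658) (tt N10865 (iv D26024)) (tt N14892 (iv F143014)) (tt N14934 D30861) (tt N14917 (iv F143103)))
theorem Q12866 : ∀ i, i < 12866 → P i := stepQ 12865 Q12865 (allL N12865 (tt N13960 (iv F139213)) (tt N14857 (iv F142883)) (tt N10870 F116525) (tt N14847 (iv F142862)) (tt N14932 (iv F143149)) (tt N10877 F116526) (tt N14934 (iv F143156)) (tt N10866 F116527) (tt N10865 (iv D26025)) (tt N14935 D30862))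
theorem Q12867 : ∀ i, i < 12867 → P i := stepQ 12866 Q12866 (allL N12866 (tt N13961 (iv F139217)) (tt N14869 (iv F142921)) (tt N10871 F116528) (tt N14848 (iv F142866)) (tt N14933 (iv F143153)) (tt N10878 F116529) (tt N14894 (iv F143021)) (tt N14935 (iv F143159)) (tt N14919 (iv F143109)) (tt N10866 (iv D26026)))
theorem Q12868 : ∀ i, i < 12868 → P i := stepQ 12867 Q12867 (allL N12867 (tt N13962 (iv F139220)) (tt N11302 F116530) (tt N14931 (iv F143146)) (tt N14675 (iv F142271)) (tt N10869 F116531) (tt N14936 D30863) (tt N10867 (iv D26027)) (tt N14895 (iv F143024)) (tt N14937 D30864) (tt N14920 (iv F143112)))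
theorem Q12869 : ∀ i, i < 12869 → P i := stepQ 12868 Q12868 (allL N12868 (tt N13963 (iv F139223)) (tt N11303 F116532) (tt N14932 (iv F143148)) (tt N14676 (iv F142274)) (tt N10870 F116533) (tt N12868 F116534) (tt N14937 (iv F143164)) (tt N10868 F116535) (tt N10867 (iv D26028)) (tt N14938 D30865))
theorem Q12870 : ∀ i, i < 12870 → P i := stepQ 12869 Q12869 (allL N12869 (tt N13964 (iv F139228)) (tt N11304 F116536) (tt N14933 (iv F143152)) (tt N14677 (iv F142279)) (tt N10871 F116537) (tt N12869 F116538) (tt N14898 (iv F143038)) (tt N14938 (iv F143168)) (tt N14922 (iv F143122)) (tt N10868 (iv D26029)))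
theorem Q12871 : ∀ i, i < 12871 → P i := stepQ 12870 Q12870 (allL N12870 (tt N13965 (iv F139232)) (tt N11305 F116539) (tt N14934 (iv F143155)) (tt N10872 F116540) (tt N14937 (iv F143163)) (tt N14939 D30866) (tt N10870 F116541) (tt N14899 (iv F143043)) (tt N10869 (iv D26030)) (tt N14940 D30867))
theorem Q12872 : ∀ i, i < 12872 → P i := stepQ 12871 Q12871 (allL N12871 (tt N13966 (iv F139236)) (tt N11306 F116542) (tt N14935 (iv F143157)) (tt N10873 F116543) (tt N14938 (iv F143166)) (tt N10880 F116544) (tt N14940 (iv F143175)) (tt N10871 F116545) (tt N14924 (iv F143130)) (tt N10870 (iv D26031)))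
theorem Q12873 : ∀ i, i < 12873 → P i := stepQ 12872 Q12872 (allL N12872 (tt N13967 (iv F139241)) (tt N11301 F135512) (tt N14855 (iv F142879)) (tt N14939 (iv F143170)) (tt N14941 D30868) (tt N10872 (iv D26032)) (tt N10881 F116547) (tt N14901 (iv F143050)) (tt N14913 (iv F143092)) (tt N14942 D30869))
theorem Q12874 : ∀ i, i < 12874 → P i := stepQ 12873 Q12873 (allL N12873 (tt N13968 (iv F139244)) (tt N11307 F116548) (tt N14856 (iv F142881)) (tt N14940 (iv F143174)) (tt N14681 (iv F142294)) (tt N14942 (iv F143179)) (tt N10873 F116549) (tt N14902 (iv F143053)) (tt N14926 (iv F143135)) (tt N10872 (iv D26033)))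
theorem Q12875 : ∀ i, i < 12875 → P i := stepQ 12874 Q12874 (allL N12874 (tt N13969 (iv F139247)) (tt N11255 (iv F135205)) (tt N14857 (iv F142884)) (tt N11234 F134764) (tt N14943 D30870) (tt N10874 (iv D26051)) (tt N14913 (iv F143091)) (tt N11030 F116618) (tt N10881 F116619) (tt N14870 (iv F142928)))
theorem Q12876 : ∀ i, i < 12876 → P i := stepQ 12875 Q12875 (allL N12875 (tt N13974 (iv F139271)) (tt N14858 (iv F142887)) (tt N10880 F116652) (tt N14861 (iv F142900)) (tt N12875 F116653) (tt N14935 (iv F143158)) (tt N14774 (iv F142662)) (tt N10878 F116654) (tt N10981 F116655) (tt N10877 (iv D26059)))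
theorem Q12877 : ∀ i, i < 12877 → P i := stepQ 12876 Q12876 (allL N12876 (tt N13975 (iv F139276)) (tt N11257 (iv F135206)) (tt N14756 (iv F142598)) (tt N10881 F116657) (tt N13411 (iv F136438)) (tt N10879 (iv D26060)) (tt N14939 (iv F143171)) (tt N11031 F116658) (tt N11234 F134787) (tt N14944 D30871))
theorem Q12878 : ∀ i, i < 12878 → P i := stepQ 12877 Q12877 (allL N12877 (tt N13976 (iv F139282)) (tt N11259 (iv F135228)) (tt N14774 (iv F142660)) (tt N10882 F116660) (tt N12877 F116661) (tt N14944 (iv F143187)) (tt N10880 F116662) (tt N11032 F116663) (tt N10983 F116664) (tt N10879 (iv D26061)))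
theorem Q12879 : ∀ i, i < 12879 → P i := stepQ 12878 Q12878 (allL N12878 (tt N13977 (iv F139289)) (tt N11300 F135509) (tt N14864 (iv F142908)) (tt N14650 (iv F142185)) (tt N10881 (iv D26062)) (tt N10883 F116666) (tt N14941 (iv F143177)) (tt N11033 F116667) (tt N14943 (iv F143184)) (tt N14648 F142181))
theorem Q12880 : ∀ i, i < 12880 → P i := stepQ 12879 Q12879 (allL N12879 (tt N13978 (iv F139293)) (tt N11293 F135513) (tt N14865 (iv F142912)) (tt N14944 (iv F143186)) (tt N14648 (iv F142178)) (tt N10882 F116669) (tt N14942 (iv F143180)) (tt N11034 F116670) (tt N14646 (iv F142172)) (tt N10881 (iv D26063)))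
theorem Q12881 : ∀ i, i < 12881 → P i := stepQ 12880 Q12880 (allL N12880 (tt N10886 F116683) (tt N13979 (iv F139298)) (tt N11312 F116684) (tt N13698 (iv F137983)) (tt N14193 (iv F140428)) (tt N14945 D30872) (tt N10885 (iv D26067)) (tt N14252 (iv F140680)) (tt N12880 F116685) (tt N13329 (iv F135994)))
theorem Q12882 : ∀ i, i < 12882 → P i := stepQ 12881 Q12881 (allL N12881 (tt N14945 (iv F143189)) (tt N10887 F116686) (tt N11313 F116687) (tt N13699 (iv F137988)) (tt N14946 D30873) (tt N10886 (iv D26068)) (tt N12881 F116688) (tt N14947 D30874) (tt N14948 D30875) (tt N13330 (iv F136000)))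
theorem Q12883 : ∀ i, i < 12883 → P i := stepQ 12882 Q12882 (allL N12882 (tt N14252 (iv F140677)) (tt N10888 F116689) (tt N11314 F116690) (tt N13700 (iv F137993)) (tt N14903 (iv F143056)) (tt N14947 (iv F143198)) (tt N13318 (iv F135918)) (tt N10886 (iv D26069)) (tt N12882 F116691) (tt N13317 F135913))
theorem Q12884 : ∀ i, i < 12884 → P i := stepQ 12883 Q12883 (allL N12883 (tt N13982 (iv F139313)) (tt N14946 (iv F143192)) (tt N10889 F116692) (tt N14500 (iv F141630)) (tt N10887 (iv D26070)) (tt N14904 (iv F143060)) (tt N12883 F116693) (tt N14949 D30876) (tt N11065 F135533) (tt N13331 (iv F136005)))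
theorem Q12885 : ∀ i, i < 12885 → P i := stepQ 12884 Q12884 (allL N12884 (tt N13983 (iv F139318)) (tt N14947 (iv F143196)) (tt N10890 F116694) (tt N13702 (iv F138002)) (tt N14949 (iv F143206)) (tt N10888 F116695) (tt N14950 D30877) (tt N10887 (iv D26071)) (tt N14951 D30878) (tt N13332 (iv F136011)))
theorem Q12886 : ∀ i, i < 12886 → P i := stepQ 12885 Q12885 (allL N12885 (tt N13984 (iv F139323)) (tt N14948 (iv F143199)) (tt N10891 F116696) (tt N13703 (iv F138007)) (tt N11065 F135591) (tt N12885 F116697) (tt N12885 F116698) (tt N14951 (iv F143213)) (tt N10887 (iv D26072)) (tt N12885 F116699))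
theorem Q12887 : ∀ i, i < 12887 → P i := stepQ 12886 Q12886 (allL N12886 (tt N13985 (iv F139330)) (tt N11115 F135534) (tt N14949 (iv F143205)) (tt N10894 F116701) (tt N10890 F116702) (tt N14907 (iv F143070)) (tt N14952 D30879) (tt N10889 (iv D26073)) (tt N11067 F135535) (tt N13333 (iv F136017)))
theorem Q12888 : ∀ i, i < 12888 → P i := stepQ 12887 Q12887 (allL N12887 (tt N13986 (iv F139336)) (tt N11316 F116708) (tt N14950 (iv F143208)) (tt N10892 F116709) (tt N14952 (iv F143217)) (tt N14700 (iv F142380)) (tt N10890 (iv D26075)) (tt N12887 F116710) (tt N14953 D30880) (tt N13334 (iv F136023)))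
theorem Q12889 : ∀ i, i < 12889 → P i := stepQ 12888 Q12888 (allL N12888 (tt N13987 (iv F139341)) (tt N11113 F135588) (tt N14951 (iv F143210)) (tt N10893 F116712) (tt N11067 F135589) (tt N12888 F116713) (tt N14953 (iv F143223)) (tt N10891 F116714) (tt N10890 (iv D26076)) (tt N12888 F116715))
theorem Q12890 : ∀ i, i < 12890 → P i := stepQ 12889 Q12889 (allL N12889 (tt N13988 (iv F139348)) (tt N11119 F135590) (tt N13708 (iv F138036)) (tt N14953 (iv F143221)) (tt N10896 F116717) (tt N14954 D30881) (tt N10893 F116718) (tt N12889 F116719) (tt N10892 (iv D26077)) (tt N12889 F116720))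
theorem Q12891 : ∀ i, i < 12891 → P i := stepQ 12890 Q12890 (allL N12890 (tt N13992 (iv F139372)) (tt N11117 F135537) (tt N14504 (iv F141644)) (tt N14952 (iv F143216)) (tt N10895 F116754) (tt N14955 D30882) (tt N10894 (iv D26088)) (tt N12890 F116755) (tt N11068 F135538) (tt N13432 (iv F136560)))
theorem Q12892 : ∀ i, i < 12892 → P i := stepQ 12891 Q12891 (allL N12891 (tt N13993 (iv F139378)) (tt N14563 (iv F141823)) (tt N14720 (iv F142467)) (tt N10898 (iv D26095)) (tt N13989 (iv F139356)) (tt N14915 (iv F143096)) (tt N12891 F116781) (tt N14956 D30883) (tt N14453 (iv F141426)) (tt N10906 F116782))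
theorem Q12893 : ∀ i, i < 12893 → P i := stepQ 12892 Q12892 (allL N12892 (tt N13994 (iv F139384)) (tt N14683 (iv F142300)) (tt N10900 F116783) (tt N14956 (iv F143234)) (tt N10899 F116784) (tt N14916 (iv F143100)) (tt N14957 D30884) (tt N10898 (iv D26096)) (tt N14456 (iv F141442)) (tt N10907 F116785))
theorem Q12894 : ∀ i, i < 12894 → P i := stepQ 12893 Q12893 (allL N12893 (tt N13995 (iv F139390)) (tt N14593 (iv F141929)) (tt N10902 F116786) (tt N13991 (iv F139367)) (tt N14957 (iv F143237)) (tt N13431 (iv F136551)) (tt N10899 (iv D26097)) (tt N12893 F116787) (tt N14457 (iv F141449)) (tt N10908 F116788))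
theorem Q12895 : ∀ i, i < 12895 → P i := stepQ 12894 Q12894 (allL N12894 (tt N13996 (iv F139398)) (tt N11317 F116793) (tt N14957 (iv F143236)) (tt N14725 (iv F142487)) (tt N10902 F116794) (tt N14958 D30885) (tt N10900 (iv D26099)) (tt N12894 F116795) (tt N14959 D30886) (tt N10909 F116796))
theorem Q12896 : ∀ i, i < 12896 → P i := stepQ 12895 Q12895 (allL N12895 (tt N13997 (iv F139403)) (tt N11171 F116797) (tt N14456 (iv F141439)) (tt N14726 (iv F142492)) (tt N10903 F116798) (tt N11170 (iv F116801)) (tt N14959 (iv F143245)) (tt N10901 F116799) (tt N10900 (iv D26100)) (tt N12895 F116800))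
theorem Q12897 : ∀ i, i < 12897 → P i := stepQ 12896 Q12896 (allL N12896 (tt N13998 (iv F139410)) (tt N11318 F116802) (tt N14457 (iv F141445)) (tt N10904 F116803) (tt N14959 (iv F143244)) (tt N12896 F116804) (tt N10903 F116805) (tt N12896 F116806) (tt N10902 (iv D26101)) (tt N12896 F116807))
theorem Q12898 : ∀ i, i < 12898 → P i := stepQ 12897 Q12897 (allL N12897 (tt N14189 (iv F140406)) (tt N10906 F116816) (tt N14568 (iv F141840)) (tt N10905 (iv D26104)) (tt N14401 (iv F141205)) (tt N14927 (iv F143137)) (tt N12897 F116817) (tt N14868 (iv F142919)) (tt N12897 F116818) (tt N14563 F141827))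
theorem Q12899 : ∀ i, i < 12899 → P i := stepQ 12898 Q12898 (allL N12898 (tt N14002 (iv F139434)) (tt N14868 (iv F142918)) (tt N14734 (iv F142526)) (tt N10907 F116827) (tt N14404 (iv F141219)) (tt N14929 (iv F143143)) (tt N14960 D30887) (tt N10906 (iv D26107)) (tt N12898 F116828) (tt N14956 (iv F143235)))
theorem Q12900 : ∀ i, i < 12900 → P i := stepQ 12899 Q12899 (allL N12899 (tt N14003 (iv F139437)) (tt N14592 (iv F141924)) (tt N10909 F116829) (tt N14960 (iv F143249)) (tt N10908 F116830) (tt N14961 D30888) (tt N10907 (iv D26108)) (tt N12899 F116831) (tt N12899 F116832) (tt N14957 (iv F143239)))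
theorem Q12901 : ∀ i, i < 12901 → P i := stepQ 12900 Q12900 (allL N12900 (tt N14004 (iv F139442)) (tt N11319 F116833) (tt N14961 (iv F143252)) (tt N14736 (iv F142534)) (tt N14955 (iv F143232)) (tt N10909 (iv D26109)) (tt N14936 (iv F143161)) (tt N12900 F116834) (tt N14962 D30889) (tt N14958 (iv F143242)))
theorem Q12902 : ∀ i, i < 12902 → P i := stepQ 12901 Q12901 (allL N12901 (tt N10917 F116939) (tt N14008 (iv F139463)) (tt N14068 (iv F139793)) (tt N10911 F116940) (tt N13738 (iv F138199)) (tt N14427 (iv F141326)) (tt N13342 (iv F136072)) (tt N10910 (iv D26134)) (tt N14738 (iv F142541)) (tt N10912 F116941))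
theorem Q12903 : ∀ i, i < 12903 → P i := stepQ 12902 Q12902 (allL N12902 (tt N13793 (iv F138462)) (tt N10915 F117138) (tt N10929 F117139) (tt N10928 F134820) (tt N13743 F138232) (tt N13450 (iv F136663)) (tt N10914 (iv D26179)) (tt N14963 D30890) (tt N14758 (iv F142607)) (tt N10920 F117141))
theorem Q12904 : ∀ i, i < 12904 → P i := stepQ 12903 Q12903 (allL N12903 (tt N14068 (iv F139792)) (tt N14963 (iv F143257)) (tt N10917 F117146) (tt N10950 (iv F135293)) (tt N13783 (iv F138416)) (tt N13469 (iv F136773)) (tt N13355 (iv F136146)) (tt N10915 (iv D26181)) (tt N14760 (iv F142614)) (tt N10921 F117148))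
theorem Q12905 : ∀ i, i < 12905 → P i := stepQ 12904 Q12904 (allL N12904 (tt N14425 (iv F141313)) (tt N10932 F117149) (tt N13467 (iv F136761)) (tt N12904 F117150) (tt N10916 (iv D26182)) (tt N13784 (iv F138421)) (tt N12904 F117151) (tt N14964 D30891) (tt N14965 D30892) (tt N10922 F117152))
theorem Q12906 : ∀ i, i < 12906 → P i := stepQ 12905 Q12905 (allL N12905 (tt N14427 (iv F141323)) (tt N10933 F117153) (tt N13469 (iv F136771)) (tt N10918 F117154) (tt N14964 (iv F143264)) (tt N10917 F117155) (tt N14966 D30893) (tt N10916 (iv D26183)) (tt N14967 D30894) (tt N10923 F117156))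
theorem Q12907 : ∀ i, i < 12907 → P i := stepQ 12906 Q12906 (allL N12906 (tt N14347 (iv F141020)) (tt N10934 F117157) (tt N13394 (iv F136349)) (tt N10919 F117158) (tt N14965 (iv F143268)) (tt N14763 (iv F142624)) (tt N12906 F117159) (tt N14967 (iv F143276)) (tt N10916 (iv D26184)) (tt N13389 (iv F136330)))
theorem Q12908 : ∀ i, i < 12908 → P i := stepQ 12907 Q12907 (allL N12907 (tt N14437 (iv F141360)) (tt N10935 F117160) (tt N11326 F117161) (tt N14966 (iv F143271)) (tt N12907 F117162) (tt N13359 (iv F136164)) (tt N10918 (iv D26185)) (tt N12907 F117163) (tt N14968 D30895) (tt N10924 F117164))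
theorem Q12909 : ∀ i, i < 12909 → P i := stepQ 12908 Q12908 (allL N12908 (tt N14393 (iv F141171)) (tt N10936 F117165) (tt N11327 F117166) (tt N14967 (iv F143275)) (tt N12908 F117167) (tt N14765 (iv F142630)) (tt N14968 (iv F143280)) (tt N10919 F117168) (tt N10918 (iv D26186)) (tt N13423 (iv F136507)))
theorem Q12910 : ∀ i, i < 12910 → P i := stepQ 12909 Q12909 (allL N12909 (tt N14047 (iv F139680)) (tt N10921 F117182) (tt N10939 F117183) (tt N10927 F134818) (tt N14026 (iv F139579)) (tt N13449 (iv F136658)) (tt N10952 F134817) (tt N10920 (iv D26190)) (tt N10926 F134819) (tt N14963 (iv F143261)))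
theorem Q12911 : ∀ i, i < 12911 → P i := stepQ 12910 Q12910 (allL N12910 (tt N14424 (iv F141308)) (tt N10942 F117195) (tt N13466 (iv F136756)) (tt N12910 F117196) (tt N10923 F117197) (tt N14040 (iv F139651)) (tt N14969 D30896) (tt N10922 (iv D26194)) (tt N13463 (iv F136743)) (tt N14964 (iv F143265)))
theorem Q12912 : ∀ i, i < 12912 → P i := stepQ 12911 Q12911 (allL N12911 (tt N14426 (iv F141318)) (tt N10944 F117202) (tt N13468 (iv F136766)) (tt N10924 F117203) (tt N14969 (iv F143284)) (tt N13448 (iv F136653)) (tt N10923 (iv D26196)) (tt N12911 F117204) (tt N13464 (iv F136750)) (tt N14966 (iv F143273)))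
theorem Q12913 : ∀ i, i < 12913 → P i := stepQ 12912 Q12912 (allL N12912 (tt N14093 (iv F139932)) (tt N10950 F117253) (tt N10983 F134822) (tt N14963 (iv F143259)) (tt N12912 F117255) (tt N13452 (iv F136674)) (tt N10981 F134823) (tt N10928 F117256) (tt N14774 (iv F142664)) (tt N10927 (iv D26209)))
theorem Q12914 : ∀ i, i < 12914 → P i := stepQ 12913 Q12913 (allL N12913 (tt N13356 (iv F136148)) (tt N10930 F117401) (tt N13450 (iv F136661)) (tt N10957 F117402) (tt N13341 (iv F136065)) (tt N10929 (iv D26244)) (tt N12913 F117403) (tt N14970 D30897) (tt N14709 (iv F142420)) (tt N10938 F117404))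
theorem Q12915 : ∀ i, i < 12915 → P i := stepQ 12914 Q12914 (allL N12914 (tt N13796 (iv F138474)) (tt N10931 F117405) (tt N14963 (iv F143258)) (tt N10956 F134876) (tt N13745 (iv F138240)) (tt N14970 (iv F143288)) (tt N10954 F134877) (tt N10929 (iv D26245)) (tt N14830 (iv F142822)) (tt N10939 F117407))
theorem Q12916 : ∀ i, i < 12916 → P i := stepQ 12915 Q12915 (allL N12915 (tt N14050 (iv F139697)) (tt N14970 (iv F143286)) (tt N10933 F117411) (tt N10958 F117412) (tt N14279 (iv F140781)) (tt N10931 F117413) (tt N14971 D30898) (tt N10930 (iv D26247)) (tt N14972 D30899) (tt N10940 F117414))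
theorem Q12917 : ∀ i, i < 12917 → P i := stepQ 12916 Q12916 (allL N12916 (tt N14051 (iv F139704)) (tt N14709 (iv F142418)) (tt N10934 F117415) (tt N10959 F117416) (tt N14280 (iv F140787)) (tt N14833 (iv F142832)) (tt N12916 F117417) (tt N14972 (iv F143296)) (tt N10930 (iv D26248)) (tt N14973 D30900))
theorem Q12918 : ∀ i, i < 12918 → P i := stepQ 12917 Q12917 (allL N12917 (tt N14052 (iv F139710)) (tt N14964 (iv F143262)) (tt N14279 (iv F140779)) (tt N12917 F117418) (tt N10933 F117419) (tt N13867 (iv F138782)) (tt N14974 D30901) (tt N10932 (iv D26249)) (tt N14975 D30902) (tt N10942 F117420))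
theorem Q12919 : ∀ i, i < 12919 → P i := stepQ 12918 Q12918 (allL N12918 (tt N14053 (iv F139716)) (tt N14965 (iv F143266)) (tt N14280 (iv F140785)) (tt N12918 F117421) (tt N10934 F117422) (tt N14976 D30903) (tt N12918 F117423) (tt N14975 (iv F143307)) (tt N10932 (iv D26250)) (tt N14977 D30904))
theorem Q12920 : ∀ i, i < 12920 → P i := stepQ 12919 Q12919 (allL N12919 (tt N14054 (iv F139721)) (tt N14966 (iv F143270)) (tt N14971 (iv F143290)) (tt N10935 F117424) (tt N14974 (iv F143302)) (tt N13392 (iv F136342)) (tt N10933 (iv D26251)) (tt N12919 F117425) (tt N14978 D30905) (tt N10944 F117426))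
theorem Q12921 : ∀ i, i < 12921 → P i := stepQ 12920 Q12920 (allL N12920 (tt N14055 (iv F139726)) (tt N14967 (iv F143274)) (tt N14972 (iv F143294)) (tt N10936 F117427) (tt N14975 (iv F143306)) (tt N14837 (iv F142839)) (tt N14978 (iv F143314)) (tt N10934 F117428) (tt N10933 (iv D26252)) (tt N14979 D30906))
theorem Q12922 : ∀ i, i < 12922 → P i := stepQ 12921 Q12921 (allL N12921 (tt N14056 (iv F139729)) (tt N13389 (iv F136326)) (tt N14973 (iv F143297)) (tt N10937 F117429) (tt N14977 (iv F143310)) (tt N14838 (iv F142842)) (tt N12921 F117430) (tt N14979 (iv F143317)) (tt N10946 F117431) (tt N10934 (iv D26253)))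
theorem Q12923 : ∀ i, i < 12923 → P i := stepQ 12922 Q12922 (allL N12922 (tt N14057 (iv F139733)) (tt N14968 (iv F143277)) (tt N10965 F117432) (tt N14978 (iv F143313)) (tt N12922 F117433) (tt N14980 D30907) (tt N10936 F117434) (tt N12922 F117435) (tt N10935 (iv D26254)) (tt N14981 D30908))
theorem Q12924 : ∀ i, i < 12924 → P i := stepQ 12923 Q12923 (allL N12923 (tt N14058 (iv F139738)) (tt N13423 (iv F136503)) (tt N10966 F117436) (tt N14979 (iv F143316)) (tt N12923 F117437) (tt N14840 (iv F142847)) (tt N14981 (iv F143323)) (tt N10937 F117438) (tt N10948 F117439) (tt N10936 (iv D26255)))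
theorem Q12925 : ∀ i, i < 12925 → P i := stepQ 12924 Q12924 (allL N12924 (tt N13447 (iv F136646)) (tt N10940 F117448) (tt N13449 (iv F136656)) (tt N10955 F134875) (tt N13436 (iv F136584)) (tt N10939 F117450) (tt N14982 D30909) (tt N10938 (iv D26259)) (tt N13446 (iv F136645)) (tt N14970 (iv F143289)))
theorem Q12926 : ∀ i, i < 12926 → P i := stepQ 12925 Q12925 (allL N12925 (tt N14059 (iv F139743)) (tt N14982 (iv F143326)) (tt N10944 F117463) (tt N10968 F117464) (tt N14407 (iv F141230)) (tt N13464 (iv F136748)) (tt N10940 (iv D26264)) (tt N12925 F117465) (tt N14983 D30910) (tt N14971 (iv F143293)))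
theorem Q12927 : ∀ i, i < 12927 → P i := stepQ 12926 Q12926 (allL N12926 (tt N14060 (iv F139750)) (tt N13446 (iv F136641)) (tt N10945 F117466) (tt N10969 F117467) (tt N14408 (iv F141235)) (tt N10952 F117468) (tt N14983 (iv F143332)) (tt N10941 F117469) (tt N10940 (iv D26265)) (tt N14984 D30911))
theorem Q12928 : ∀ i, i < 12928 → P i := stepQ 12927 Q12927 (allL N12927 (tt N14061 (iv F139757)) (tt N13354 (iv F136137)) (tt N10946 F117470) (tt N10970 F117471) (tt N14409 (iv F141240)) (tt N10953 F117472) (tt N12927 F117473) (tt N14984 (iv F143337)) (tt N14973 (iv F143300)) (tt N10941 (iv D26266)))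
theorem Q12929 : ∀ i, i < 12929 → P i := stepQ 12928 Q12928 (allL N12928 (tt N14062 (iv F139764)) (tt N14969 (iv F143282)) (tt N14407 (iv F141228)) (tt N12928 F117474) (tt N10944 F117475) (tt N14985 D30912) (tt N10942 (iv D26267)) (tt N12928 F117476) (tt N14986 D30913) (tt N14974 (iv F143304)))
theorem Q12930 : ∀ i, i < 12930 → P i := stepQ 12929 Q12929 (allL N12929 (tt N14063 (iv F139769)) (tt N13463 (iv F136738)) (tt N14408 (iv F141233)) (tt N12929 F117477) (tt N10945 F117478) (tt N14070 (iv F139805)) (tt N14986 (iv F143342)) (tt N10943 F117479) (tt N10942 (iv D26268)) (tt N14987 D30914))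
theorem Q12931 : ∀ i, i < 12931 → P i := stepQ 12930 Q12930 (allL N12930 (tt N14064 (iv F139774)) (tt N13387 (iv F136313)) (tt N14409 (iv F141238)) (tt N12930 F117482) (tt N10946 F117483) (tt N13875 (iv F138821)) (tt N12930 F117484) (tt N14987 (iv F143346)) (tt N14977 (iv F143312)) (tt N10943 (iv D26270)))
theorem Q12932 : ∀ i, i < 12932 → P i := stepQ 12931 Q12931 (allL N12931 (tt N14065 (iv F139779)) (tt N13464 (iv F136745)) (tt N14983 (iv F143330)) (tt N10947 F117485) (tt N14986 (iv F143341)) (tt N14982 (iv F143328)) (tt N10945 F117486) (tt N12931 F117487) (tt N10944 (iv D26271)) (tt N14988 D30915))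
theorem Q12933 : ∀ i, i < 12933 → P i := stepQ 12932 Q12932 (allL N12932 (tt N14066 (iv F139783)) (tt N13388 (iv F136320)) (tt N14984 (iv F143334)) (tt N10948 F117488) (tt N14987 (iv F143345)) (tt N10954 F117489) (tt N14988 (iv F143348)) (tt N10946 F117490) (tt N14979 (iv F143318)) (tt N10945 (iv D26272)))
theorem Q12934 : ∀ i, i < 12934 → P i := stepQ 12933 Q12933 (allL N12933 (tt N13456 (iv F136698)) (tt N10968 F134943) (tt N10976 F117491) (tt N14982 (iv F143327)) (tt N13441 (iv F136615)) (tt N10947 (iv D26273)) (tt N10955 F117492) (tt N12933 F117493) (tt N13470 (iv F136780)) (tt N14989 D30916))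
theorem Q12935 : ∀ i, i < 12935 → P i := stepQ 12934 Q12934 (allL N12934 (tt N14067 (iv F139787)) (tt N13422 (iv F136496)) (tt N10977 F117494) (tt N14988 (iv F143347)) (tt N12934 F117495) (tt N14989 (iv F143352)) (tt N10948 F117496) (tt N12934 F117497) (tt N14981 (iv F143325)) (tt N10947 (iv D26274)))
theorem Q12936 : ∀ i, i < 12936 → P i := stepQ 12935 Q12935 (allL N12935 (tt N13457 (iv F136705)) (tt N10969 F134880) (tt N10978 F117535) (tt N13446 (iv F136643)) (tt N13442 (iv F136622)) (tt N10949 (iv D26287)) (tt N13470 (iv F136778)) (tt N10967 F134881) (tt N10955 F117537) (tt N14990 D30917))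
theorem Q12937 : ∀ i, i < 12937 → P i := stepQ 12936 Q12936 (allL N12936 (tt N14069 (iv F139797)) (tt N10981 F134882) (tt N10979 F117538) (tt N13355 (iv F136144)) (tt N12936 F117539) (tt N14990 (iv F143357)) (tt N10950 F117540) (tt N10980 F134883) (tt N14858 (iv F142892)) (tt N10949 (iv D26288)))
theorem Q12938 : ∀ i, i < 12938 → P i := stepQ 12937 Q12937 (allL N12937 (tt N14073 (iv F139814)) (tt N13355 (iv F136142)) (tt N10954 F117585) (tt N10981 F117586) (tt N13792 (iv F138460)) (tt N14984 (iv F143336)) (tt N14963 (iv F143260)) (tt N10953 F117587) (tt N14861 (iv F142902)) (tt N10952 (iv D26302)))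
theorem Q12939 : ∀ i, i < 12939 → P i := stepQ 12938 Q12938 (allL N12938 (tt N13363 (iv F136184)) (tt N10958 F134944) (tt N10985 F117609) (tt N14970 (iv F143287)) (tt N13345 (iv F136089)) (tt N10956 F117610) (tt N14989 (iv F143353)) (tt N10957 F134945) (tt N14710 (iv F142424)) (tt N10955 (iv D26311)))
theorem Q12940 : ∀ i, i < 12940 → P i := stepQ 12939 Q12939 (allL N12939 (tt N14074 (iv F139818)) (tt N14989 (iv F143350)) (tt N10962 F117679) (tt N14971 (iv F143291)) (tt N14284 (iv F140806)) (tt N13422 (iv F136499)) (tt N10958 (iv D26329)) (tt N12939 F117680) (tt N14991 D30918) (tt N10968 F117681))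
theorem Q12941 : ∀ i, i < 12941 → P i := stepQ 12940 Q12940 (allL N12940 (tt N14075 (iv F139825)) (tt N14710 (iv F142421)) (tt N10963 F117682) (tt N14972 (iv F143295)) (tt N14285 (iv F140814)) (tt N14918 (iv F143105)) (tt N14991 (iv F143360)) (tt N10959 F117683) (tt N10958 (iv D26330)) (tt N14992 D30919))
theorem Q12942 : ∀ i, i < 12942 → P i := stepQ 12941 Q12941 (allL N12941 (tt N14076 (iv F139830)) (tt N14703 (iv F142391)) (tt N10964 F117684) (tt N14973 (iv F143298)) (tt N14286 (iv F140821)) (tt N14919 (iv F143108)) (tt N12941 F117685) (tt N14992 (iv F143363)) (tt N10970 F117686) (tt N10959 (iv D26331)))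
theorem Q12943 : ∀ i, i < 12943 → P i := stepQ 12942 Q12942 (allL N12942 (tt N14077 (iv F139836)) (tt N11342 F117687) (tt N14284 (iv F140804)) (tt N12942 F117688) (tt N10962 F117689) (tt N12942 F117690) (tt N10960 (iv D26332)) (tt N12942 F117691) (tt N14993 D30920) (tt N10971 F117692))
theorem Q12944 : ∀ i, i < 12944 → P i := stepQ 12943 Q12943 (allL N12943 (tt N14078 (iv F139844)) (tt N11208 F117693) (tt N14285 (iv F140812)) (tt N12943 F117694) (tt N10963 F117695) (tt N11207 F117696) (tt N14993 (iv F143368)) (tt N10961 F117697) (tt N10960 (iv D26333)) (tt N14994 D30921))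
theorem Q12945 : ∀ i, i < 12945 → P i := stepQ 12944 Q12944 (allL N12944 (tt N14079 (iv F139851)) (tt N11199 F117698) (tt N14286 (iv F140819)) (tt N12944 F117699) (tt N10964 F117700) (tt N11198 F117701) (tt N12944 F117702) (tt N14994 (iv F143375)) (tt N10973 F117703) (tt N10961 (iv D26334)))
theorem Q12946 : ∀ i, i < 12946 → P i := stepQ 12945 Q12945 (allL N12945 (tt N14080 (iv F139859)) (tt N11343 F117704) (tt N14991 (iv F143359)) (tt N10965 F117705) (tt N14993 (iv F143367)) (tt N14995 D30922) (tt N10963 F117706) (tt N12945 F117707) (tt N10962 (iv D26335)) (tt N14996 D30923))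
theorem Q12947 : ∀ i, i < 12947 → P i := stepQ 12946 Q12946 (allL N12946 (tt N14081 (iv F139864)) (tt N11344 F117708) (tt N14992 (iv F143362)) (tt N10966 F117709) (tt N14994 (iv F143373)) (tt N14924 (iv F143128)) (tt N14996 (iv F143382)) (tt N10964 F117710) (tt N10975 F117711) (tt N10963 (iv D26336)))
theorem Q12948 : ∀ i, i < 12948 → P i := stepQ 12947 Q12947 (allL N12947 (tt N14082 (iv F139869)) (tt N11345 F117712) (tt N14980 (iv F143319)) (tt N14995 (iv F143378)) (tt N14997 D30924) (tt N10965 (iv D26337)) (tt N14925 (iv F143132)) (tt N12947 F117713) (tt N13425 (iv F136518)) (tt N14998 D30925))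
theorem Q12949 : ∀ i, i < 12949 → P i := stepQ 12948 Q12948 (allL N12948 (tt N14083 (iv F139873)) (tt N11346 F117714) (tt N14981 (iv F143321)) (tt N14996 (iv F143381)) (tt N12948 F117715) (tt N14998 (iv F143389)) (tt N10966 F117716) (tt N12948 F117717) (tt N10977 F117718) (tt N10965 (iv D26338)))
theorem Q12950 : ∀ i, i < 12950 → P i := stepQ 12949 Q12949 (allL N12949 (tt N13458 (iv F136712)) (tt N10970 F117749) (tt N11036 F134946) (tt N13354 (iv F136139)) (tt N13443 (iv F136629)) (tt N10980 F117751) (tt N12949 F117752) (tt N14990 (iv F143358)) (tt N14703 (iv F142394)) (tt N10967 (iv D26347)))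
theorem Q12951 : ∀ i, i < 12951 → P i := stepQ 12950 Q12950 (allL N12950 (tt N14084 (iv F139879)) (tt N13470 (iv F136776)) (tt N10974 F117772) (tt N14983 (iv F143331)) (tt N14412 (iv F141255)) (tt N13451 (iv F136668)) (tt N10969 F117773) (tt N12950 F117774) (tt N10968 (iv D26353)) (tt N14999 D30926))
theorem Q12952 : ∀ i, i < 12952 → P i := stepQ 12951 Q12951 (allL N12951 (tt N14085 (iv F139885)) (tt N14990 (iv F143355)) (tt N10975 F117775) (tt N14984 (iv F143335)) (tt N14413 (iv F141261)) (tt N10981 F117776) (tt N14999 (iv F143392)) (tt N10970 F117777) (tt N14992 (iv F143364)) (tt N10969 (iv D26354)))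
theorem Q12953 : ∀ i, i < 12953 → P i := stepQ 12952 Q12952 (allL N12952 (tt N14086 (iv F139891)) (tt N11348 F117778) (tt N14412 (iv F141253)) (tt N12952 F117779) (tt N10974 F117780) (tt N15000 D30927) (tt N10972 F117781) (tt N12952 F117782) (tt N10971 (iv D26355)) (tt N15001 D30928))
theorem Q12954 : ∀ i, i < 12954 → P i := stepQ 12953 Q12953 (allL N12953 (tt N14087 (iv F139898)) (tt N11349 F117783) (tt N14413 (iv F141259)) (tt N12953 F117784) (tt N10975 F117785) (tt N12953 F117786) (tt N15001 (iv F143402)) (tt N10973 F117787) (tt N14994 (iv F143376)) (tt N10972 (iv D26356)))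
theorem Q12955 : ∀ i, i < 12955 → P i := stepQ 12954 Q12954 (allL N12954 (tt N14088 (iv F139905)) (tt N11333 F134957) (tt N13451 (iv F136666)) (tt N10976 F117789) (tt N13293 (iv F135751)) (tt N10974 (iv D26357)) (tt N10982 F117790) (tt N12954 F117791) (tt N11325 F134958) (tt N15002 D30929))
theorem Q12956 : ∀ i, i < 12956 → P i := stepQ 12955 Q12955 (allL N12955 (tt N14089 (iv F139911)) (tt N11350 F117792) (tt N14999 (iv F143391)) (tt N10977 F117793) (tt N15001 (iv F143401)) (tt N15002 (iv F143406)) (tt N10975 F117794) (tt N12955 F117795) (tt N14996 (iv F143384)) (tt N10974 (iv D26358)))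
theorem Q12957 : ∀ i, i < 12957 → P i := stepQ 12956 Q12956 (allL N12956 (tt N13453 (iv F136676)) (tt N11347 (iv F135328)) (tt N13441 (iv F136613)) (tt N14714 (iv F142440)) (tt N10976 (iv D26359)) (tt N12956 F117797) (tt N10984 F117798) (tt N12956 F117799) (tt N13481 (iv F136845)) (tt N14713 F142438))
theorem Q12958 : ∀ i, i < 12958 → P i := stepQ 12957 Q12957 (allL N12957 (tt N14090 (iv F139916)) (tt N11341 F135586) (tt N14989 (iv F143351)) (tt N15002 (iv F143405)) (tt N14713 (iv F142434)) (tt N10977 F117801) (tt N10985 F117802) (tt N12957 F117803) (tt N14712 (iv F142431)) (tt N10976 (iv D26360)))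
theorem Q12959 : ∀ i, i < 12959 → P i := stepQ 12958 Q12958 (allL N12958 (tt N13454 (iv F136683)) (tt N11331 F134948) (tt N13442 (iv F136620)) (tt N13290 (iv F135734)) (tt N10978 (iv D26380)) (tt N12958 F117886) (tt N13481 (iv F136843)) (tt N11035 F117887) (tt N10984 F117888) (tt N14707 (iv F142414)))
theorem Q12960 : ∀ i, i < 12960 → P i := stepQ 12959 Q12959 (allL N12959 (tt N14091 (iv F139921)) (tt N11328 F134951) (tt N14990 (iv F143356)) (tt N11323 F134952) (tt N14707 (iv F142411)) (tt N10979 F117890) (tt N13482 (iv F136850)) (tt N11036 F117891) (tt N14705 (iv F142402)) (tt N10978 (iv D26381)))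
theorem Q12961 : ∀ i, i < 12961 → P i := stepQ 12960 Q12960 (allL N12960 (tt N14094 (iv F139937)) (tt N11334 F134959) (tt N13452 (iv F136672)) (tt N10985 F117923) (tt N13294 (iv F135757)) (tt N10983 F117924) (tt N15002 (iv F143407)) (tt N11037 F117925) (tt N14699 (iv F142376)) (tt N10982 (iv D26390)))
theorem Q12962 : ∀ i, i < 12962 → P i := stepQ 12961 Q12961 (allL N12961 (tt N14156 (iv F140263)) (tt N13309 (iv F135857)) (tt N10990 F118214) (tt N11001 (iv F135339)) (tt N13572 (iv F137342)) (tt N11000 F135001) (tt N13307 (iv F135847)) (tt N10988 (iv D26455)) (tt N14744 (iv F142559)) (tt N12961 F118216))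
theorem Q12963 : ∀ i, i < 12963 → P i := stepQ 12962 Q12962 (allL N12962 (tt N14155 (iv F140257)) (tt N11007 F118221) (tt N11000 F134997) (tt N10991 F118222) (tt N13509 (iv F137008)) (tt N10990 F118223) (tt N11005 F134998) (tt N10989 (iv D26457)) (tt N14790 (iv F142711)) (tt N12962 F118224))
theorem Q12964 : ∀ i, i < 12964 → P i := stepQ 12963 Q12963 (allL N12963 (tt N14173 (iv F140346)) (tt N10995 F118542) (tt N13308 (iv F135851)) (tt N12963 F118543) (tt N11003 F118544) (tt N13581 (iv F137393)) (tt N10994 (iv D26535)) (tt N15003 D30930) (tt N14781 (iv F142689)) (tt N12963 F118545))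
theorem Q12965 : ∀ i, i < 12965 → P i := stepQ 12964 Q12964 (allL N12964 (tt N14147 (iv F140221)) (tt N13581 (iv F137390)) (tt N10996 F118546) (tt N12964 F118547) (tt N13579 (iv F137381)) (tt N10995 (iv D26536)) (tt N12964 F118548) (tt N15004 D30931) (tt N15005 D30932) (tt N12964 F118549))
theorem Q12966 : ∀ i, i < 12966 → P i := stepQ 12965 Q12965 (allL N12965 (tt N14148 (iv F140226)) (tt N15003 (iv F143409)) (tt N10997 F118550) (tt N12965 F118551) (tt N11005 F118552) (tt N15004 (iv F143416)) (tt N13509 (iv F137009)) (tt N10995 (iv D26537)) (tt N14783 (iv F142695)) (tt N12965 F118553))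
theorem Q12967 : ∀ i, i < 12967 → P i := stepQ 12966 Q12966 (allL N12966 (tt N14149 (iv F140231)) (tt N13508 (iv F136999)) (tt N13579 (iv F137379)) (tt N12966 F118554) (tt N10996 (iv D26538)) (tt N11006 F118555) (tt N12966 F118556) (tt N15006 D30933) (tt N15007 D30934) (tt N12966 F118557))
theorem Q12968 : ∀ i, i < 12968 → P i := stepQ 12967 Q12967 (allL N12967 (tt N14150 (iv F140236)) (tt N13573 (iv F137346)) (tt N15004 (iv F143414)) (tt N10998 F118558) (tt N15006 (iv F143422)) (tt N10997 F118559) (tt N15008 D30935) (tt N10996 (iv D26539)) (tt N15009 D30936) (tt N12967 F118560))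
theorem Q12969 : ∀ i, i < 12969 → P i := stepQ 12968 Q12968 (allL N12968 (tt N14151 (iv F140240)) (tt N13574 (iv F137351)) (tt N15005 (iv F143418)) (tt N10999 F118561) (tt N15007 (iv F143426)) (tt N14786 (iv F142700)) (tt N12968 F118562) (tt N15009 (iv F143432)) (tt N10996 (iv D26540)) (tt N15010 D30937))
theorem Q12970 : ∀ i, i < 12970 → P i := stepQ 12969 Q12969 (allL N12969 (tt N14152 (iv F140243)) (tt N13575 (iv F137355)) (tt N12969 F118563) (tt N15008 (iv F143428)) (tt N12969 F118564) (tt N13513 (iv F137028)) (tt N10998 (iv D26541)) (tt N12969 F118565) (tt N15011 D30938) (tt N12969 F118566))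
theorem Q12971 : ∀ i, i < 12971 → P i := stepQ 12970 Q12970 (allL N12970 (tt N14153 (iv F140248)) (tt N13576 (iv F137362)) (tt N12970 F118567) (tt N15009 (iv F143431)) (tt N12970 F118568) (tt N14788 (iv F142703)) (tt N15011 (iv F143438)) (tt N10999 F118569) (tt N10998 (iv D26542)) (tt N15012 D30939))
theorem Q12972 : ∀ i, i < 12972 → P i := stepQ 12971 Q12971 (allL N12971 (tt N14154 (iv F140252)) (tt N13577 (iv F137367)) (tt N12971 F118570) (tt N15010 (iv F143433)) (tt N12971 F118571) (tt N14789 (iv F142706)) (tt N12971 F118572) (tt N15012 (iv F143442)) (tt N12971 F118573) (tt N10999 (iv D26543)))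
theorem Q12973 : ∀ i, i < 12973 → P i := stepQ 12972 Q12972 (allL N12972 (tt N14158 (iv F140275)) (tt N13311 (iv F135869)) (tt N11019 F118600) (tt N14744 (iv F142558)) (tt N13301 (iv F135805)) (tt N14794 (iv F142719)) (tt N13320 (iv F135931)) (tt N11002 F118601) (tt N11001 (iv D26552)) (tt N14627 (iv F142085)))
theorem Q12974 : ∀ i, i < 12974 → P i := stepQ 12973 Q12973 (allL N12973 (tt N14165 (iv F140307)) (tt N11005 F118612) (tt N13309 (iv F135858)) (tt N11009 F135006) (tt N15003 (iv F143411)) (tt N13307 (iv F135846)) (tt N11007 F135007) (tt N11003 (iv D26556)) (tt N14805 (iv F142757)) (tt N12973 F118614))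
theorem Q12975 : ∀ i, i < 12975 → P i := stepQ 12974 Q12974 (allL N12974 (tt N14161 (iv F140289)) (tt N13307 (iv F135842)) (tt N11007 F118618) (tt N11020 F118619) (tt N13580 (iv F137387)) (tt N11005 F118620) (tt N13309 (iv F135861)) (tt N11004 (iv D26558)) (tt N15013 D30940) (tt N12974 F118621))
theorem Q12976 : ∀ i, i < 12976 → P i := stepQ 12975 Q12975 (allL N12975 (tt N14162 (iv F140295)) (tt N13302 (iv F135811)) (tt N11008 F118622) (tt N11021 F118623) (tt N13562 (iv F137302)) (tt N14808 (iv F142765)) (tt N11012 F118624) (tt N15013 (iv F143446)) (tt N11004 (iv D26559)) (tt N14816 (iv F142788)))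
theorem Q12977 : ∀ i, i < 12977 → P i := stepQ 12976 Q12976 (allL N12976 (tt N14163 (iv F140299)) (tt N13509 (iv F137005)) (tt N13580 (iv F137385)) (tt N12976 F118625) (tt N11007 F118626) (tt N15006 (iv F143423)) (tt N15003 (iv F143412)) (tt N11006 (iv D26560)) (tt N15014 D30941) (tt N12976 F118627))
theorem Q12978 : ∀ i, i < 12978 → P i := stepQ 12977 Q12977 (allL N12977 (tt N14164 (iv F140303)) (tt N13503 (iv F136978)) (tt N13562 (iv F137300)) (tt N12977 F118628) (tt N11008 F118629) (tt N15015 D30942) (tt N11013 F118630) (tt N15014 (iv F143449)) (tt N11006 (iv D26561)) (tt N15016 D30943))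
theorem Q12979 : ∀ i, i < 12979 → P i := stepQ 12978 Q12978 (allL N12978 (tt N14166 (iv F140313)) (tt N14790 (iv F142707)) (tt N15013 (iv F143444)) (tt N11010 F118634) (tt N15014 (iv F143448)) (tt N14812 (iv F142773)) (tt N14805 (iv F142756)) (tt N11008 F118635) (tt N11007 (iv D26563)) (tt N15017 D30944))
theorem Q12980 : ∀ i, i < 12980 → P i := stepQ 12979 Q12979 (allL N12979 (tt N14167 (iv F140316)) (tt N13374 (iv F136249)) (tt N14816 (iv F142785)) (tt N11011 F118636) (tt N15016 (iv F143452)) (tt N14813 (iv F142776)) (tt N11014 F118637) (tt N15017 (iv F143456)) (tt N12979 F118638) (tt N11008 (iv D26564)))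
theorem Q12981 : ∀ i, i < 12981 → P i := stepQ 12980 Q12980 (allL N12980 (tt N14169 (iv F140325)) (tt N13406 (iv F136405)) (tt N11026 F118643) (tt N15017 (iv F143455)) (tt N12980 F118644) (tt N14815 (iv F142782)) (tt N14876 (iv F142954)) (tt N11011 F118645) (tt N12980 F118646) (tt N11010 (iv D26566)))
theorem Q12982 : ∀ i, i < 12982 → P i := stepQ 12981 Q12981 (allL N12981 (tt N14175 (iv F140356)) (tt N13499 F136958) (tt N13535 (iv F137163)) (tt N12981 F118766) (tt N11017 F118767) (tt N11013 (iv D26601)) (tt N15018 D30945) (tt N14314 (iv F140929)) (tt N12981 F118768) (tt N13805 (iv F138530)))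
theorem Q12983 : ∀ i, i < 12983 → P i := stepQ 12982 Q12982 (allL N12982 (tt N14176 (iv F140360)) (tt N13370 F136228) (tt N13555 (iv F137266)) (tt N12982 F118769) (tt N11014 F118770) (tt N13805 (iv F138528)) (tt N15016 (iv F143453)) (tt N14775 (iv F142667)) (tt N12982 F118771) (tt N11013 (iv D26602)))
theorem Q12984 : ∀ i, i < 12984 → P i := stepQ 12983 Q12983 (allL N12983 (tt N14183 (iv F140386)) (tt N13523 (iv F137085)) (tt N11017 F118884) (tt N12983 F118885) (tt N13535 (iv F137165)) (tt N11015 (iv D26636)) (tt N15019 D30946) (tt N14289 (iv F140836)) (tt N12983 F118886) (tt N13752 (iv F138287)))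
theorem Q12985 : ∀ i, i < 12985 → P i := stepQ 12984 Q12984 (allL N12984 (tt N14185 (iv F140394)) (tt N13817 (iv F138577)) (tt N15019 (iv F143461)) (tt N11018 F118911) (tt N15018 (iv F143459)) (tt N14863 (iv F142906)) (tt N11017 (iv D26644)) (tt N15020 D30947) (tt N12984 F118912) (tt N13823 (iv F138608)))
theorem Q12986 : ∀ i, i < 12986 → P i := stepQ 12985 Q12985 (allL N12985 (tt N14188 (iv F140402)) (tt N13907 (iv F138972)) (tt N12985 F118938) (tt N15020 (iv F143464)) (tt N12985 F118939) (tt N14867 (iv F142917)) (tt N14367 (iv F141094)) (tt N11018 (iv D26655)) (tt N12985 F118940) (tt N13916 (iv F139021)))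
theorem Q12987 : ∀ i, i < 12987 → P i := stepQ 12986 Q12986 (allL N12986 (tt N14192 (iv F140421)) (tt N13320 (iv F135928)) (tt N11023 F119078) (tt N15013 (iv F143445)) (tt N13317 (iv F135910)) (tt N14893 (iv F143016)) (tt N13311 (iv F135872)) (tt N11021 F119079) (tt N11020 (iv D26693)) (tt N14903 (iv F143058)))
theorem Q12988 : ∀ i, i < 12988 → P i := stepQ 12987 Q12987 (allL N12987 (tt N14194 (iv F140431)) (tt N11308 (iv F135351)) (tt N13330 (iv F135996)) (tt N12987 F119093) (tt N14897 (iv F143030)) (tt N11022 (iv D26697)) (tt N12987 F119094) (tt N13327 (iv F135977)) (tt N12987 F119095) (tt N11313 F135037))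
theorem Q12989 : ∀ i, i < 12989 → P i := stepQ 12988 Q12988 (allL N12988 (tt N14195 (iv F140438)) (tt N11288 (iv F135348)) (tt N14903 (iv F143055)) (tt N11026 F119106) (tt N11314 F135053) (tt N14900 (iv F143046)) (tt N13326 (iv F135970)) (tt N11024 F119107) (tt N12988 F119108) (tt N11023 (iv D26700)))
theorem Q12990 : ∀ i, i < 12990 → P i := stepQ 12989 Q12989 (allL N12989 (tt N14196 (iv F140445)) (tt N11280 (iv F135239)) (tt N14888 (iv F143003)) (tt N13324 (iv F135955)) (tt N15021 D30948) (tt N11025 (iv D26701)) (tt N14901 (iv F143049)) (tt N11028 F119110) (tt N13322 (iv F135945)) (tt N15022 D30949))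
theorem Q12991 : ∀ i, i < 12991 → P i := stepQ 12990 Q12990 (allL N12990 (tt N14197 (iv F140450)) (tt N11272 (iv F135243)) (tt N14876 (iv F142952)) (tt N13326 (iv F135968)) (tt N12990 F119112) (tt N15022 (iv F143470)) (tt N11026 F119113) (tt N11029 F119114) (tt N12990 F119115) (tt N11025 (iv D26702)))
theorem Q12992 : ∀ i, i < 12992 → P i := stepQ 12991 Q12991 (allL N12991 (tt N14199 (iv F140464)) (tt N11279 F135354) (tt N14887 (iv F142999)) (tt N13417 (iv F136470)) (tt N11028 (iv D26753)) (tt N12991 F119298) (tt N11033 F119299) (tt N15021 (iv F143468)) (tt N13321 (iv F135939)) (tt N14600 (iv F141968)))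
theorem Q12993 : ∀ i, i < 12993 → P i := stepQ 12992 Q12992 (allL N12992 (tt N14200 (iv F140470)) (tt N11271 (iv F135240)) (tt N14875 (iv F142948)) (tt N13325 (iv F135961)) (tt N14600 (iv F141965)) (tt N11029 F119301) (tt N11034 F119302) (tt N15022 (iv F143471)) (tt N14598 F141958) (tt N11028 (iv D26754)))
theorem Q12994 : ∀ i, i < 12994 → P i := stepQ 12993 Q12993 (allL N12993 (tt N14201 (iv F140475)) (tt N11254 (iv F135204)) (tt N14928 (iv F143139)) (tt N13407 (iv F136413)) (tt N11030 (iv D26779)) (tt N12993 F119388) (tt N13321 (iv F135938)) (tt N14943 (iv F143183)) (tt N11033 F119389) (tt N14638 (iv F142139)))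
theorem Q12995 : ∀ i, i < 12995 → P i := stepQ 12994 Q12994 (allL N12994 (tt N14204 (iv F140491)) (tt N11258 (iv F135207)) (tt N14757 (iv F142602)) (tt N11034 F119421) (tt N13412 (iv F136444)) (tt N11032 F119422) (tt N13325 (iv F135964)) (tt N14944 (iv F143188)) (tt N14628 (iv F142090)) (tt N11031 (iv D26789)))
theorem Q12996 : ∀ i, i < 12996 → P i := stepQ 12995 Q12995 (allL N12995 (tt N15023 D30950) (tt N11038 (iv D27103)) (tt N12995 F120810) (tt N14445 (iv F141394)) (tt N12995 F120811) (tt N13627 (iv F137623)) (tt N15024 D30951) (tt N13605 (iv F137511)) (tt N11046 F120812) (tt N13599 (iv F137479)))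
theorem Q12997 : ∀ i, i < 12997 → P i := stepQ 12996 Q12996 (allL N12996 (tt N11053 F120813) (tt N15024 (iv F143476)) (tt N11039 F120814) (tt N14446 (iv F141398)) (tt N12996 F120815) (tt N15025 D30952) (tt N11038 (iv D27104)) (tt N15026 D30953) (tt N11047 F120816) (tt N13600 (iv F137484)))
theorem Q12998 : ∀ i, i < 12998 → P i := stepQ 12997 Q12997 (allL N12997 (tt N11054 F120817) (tt N12997 F120818) (tt N15025 (iv F143481)) (tt N11040 F120819) (tt N13933 (iv F139096)) (tt N11039 (iv D27105)) (tt N13629 (iv F137635)) (tt N15027 D30954) (tt N13931 F139087) (tt N13601 (iv F137489)))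
theorem Q12999 : ∀ i, i < 12999 → P i := stepQ 12998 Q12998 (allL N12998 (tt N11055 F120820) (tt N12998 F120821) (tt N15026 (iv F143483)) (tt N11041 F120822) (tt N12998 F120823) (tt N15027 (iv F143489)) (tt N13608 (iv F137528)) (tt N11039 (iv D27106)) (tt N11049 F120824) (tt N13602 (iv F137496)))
theorem Q13000 : ∀ i, i < 13000 → P i := stepQ 12999 Q12999 (allL N12999 (tt N11056 F120825) (tt N12999 F120826) (tt N14449 (iv F141406)) (tt N15027 (iv F143488)) (tt N11232 F120827) (tt N11041 F120828) (tt N15028 D30955) (tt N11040 (iv D27107)) (tt N13939 (iv F139126)) (tt N13603 (iv F137501)))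
theorem Q13001 : ∀ i, i < 13001 → P i := stepQ 13000 Q13000 (allL N13000 (tt N15029 D30956) (tt N11042 (iv D27109)) (tt N13000 F120833) (tt N14108 (iv F140027)) (tt N13000 F120834) (tt N13000 F120835) (tt N15030 D30957) (tt N11046 F120836) (tt N13605 (iv F137512)) (tt N13000 F120837))
theorem Q13002 : ∀ i, i < 13002 → P i := stepQ 13001 Q13001 (allL N13001 (tt N11058 F120838) (tt N15030 (iv F143499)) (tt N11043 F120839) (tt N14109 (iv F140034)) (tt N13001 F120840) (tt N15031 D30958) (tt N11042 (iv D27110)) (tt N15032 D30959) (tt N13606 (iv F137517)) (tt N13001 F120841))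
theorem Q13003 : ∀ i, i < 13003 → P i := stepQ 13002 Q13002 (allL N13002 (tt N11059 F120842) (tt N13002 F120843) (tt N15031 (iv F143504)) (tt N11044 F120844) (tt N15033 D30960) (tt N11043 (iv D27111)) (tt N13002 F120845) (tt N15034 D30961) (tt N15035 D30962) (tt N13002 F120846))
theorem Q13004 : ∀ i, i < 13004 → P i := stepQ 13003 Q13003 (allL N13003 (tt N11060 F120847) (tt N13003 F120848) (tt N15032 (iv F143508)) (tt N11045 F120849) (tt N13003 F120850) (tt N15034 (iv F143522)) (tt N11049 F120851) (tt N11043 (iv D27112)) (tt N13608 (iv F137529)) (tt N13003 F120852))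
theorem Q13005 : ∀ i, i < 13005 → P i := stepQ 13004 Q13004 (allL N13004 (tt N11061 F120853) (tt N13004 F120854) (tt N14112 (iv F140050)) (tt N15034 (iv F143521)) (tt N13004 F120855) (tt N11045 F120856) (tt N15036 D30963) (tt N11044 (iv D27113)) (tt N15037 D30964) (tt N13004 F120857))
theorem Q13006 : ∀ i, i < 13006 → P i := stepQ 13005 Q13005 (allL N13005 (tt N11062 F120858) (tt N13005 F120859) (tt N14113 (iv F140056)) (tt N15035 (iv F143526)) (tt N13005 F120860) (tt N13610 (iv F137539)) (tt N13005 F120861) (tt N15037 (iv F143539)) (tt N11044 (iv D27114)) (tt N15038 D30965))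
theorem Q13007 : ∀ i, i < 13007 → P i := stepQ 13006 Q13006 (allL N13006 (tt N11046 (iv D27115)) (tt N11063 F120862) (tt N13006 F120863) (tt N14131 F140148) (tt N13006 F120864) (tt N13006 F120865) (tt N15039 D30966) (tt N15029 (iv F143497)) (tt N15023 (iv F143475)) (tt N13006 F120866))
theorem Q13008 : ∀ i, i < 13008 → P i := stepQ 13007 Q13007 (allL N13007 (tt N15039 (iv F143546)) (tt N11047 F120867) (tt N13007 F120868) (tt N14450 (iv F141410)) (tt N13007 F120869) (tt N15040 D30967) (tt N11046 (iv D27116)) (tt N15041 D30968) (tt N15024 (iv F143479)) (tt N13007 F120870))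
theorem Q13009 : ∀ i, i < 13009 → P i := stepQ 13008 Q13008 (allL N13008 (tt N11065 F120871) (tt N15040 (iv F143551)) (tt N11048 F120872) (tt N14451 (iv F141414)) (tt N13984 (iv F139326)) (tt N11047 (iv D27117)) (tt N13008 F120873) (tt N15042 D30969) (tt N13982 F139317) (tt N13008 F120874))
theorem Q13010 : ∀ i, i < 13010 → P i := stepQ 13009 Q13009 (allL N13009 (tt N11066 F120875) (tt N15041 (iv F143555)) (tt N11049 F120876) (tt N14452 (iv F141419)) (tt N13009 F120877) (tt N15042 (iv F143561)) (tt N15032 (iv F143510)) (tt N11047 (iv D27118)) (tt N15026 (iv F143485)) (tt N13009 F120878))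
theorem Q13011 : ∀ i, i < 13011 → P i := stepQ 13010 Q13010 (allL N13010 (tt N11067 F120885) (tt N13010 F120886) (tt N15042 (iv F143560)) (tt N11050 F120887) (tt N13987 (iv F139344)) (tt N11049 F120888) (tt N15043 D30970) (tt N11048 (iv D27120)) (tt N13985 (iv F139334)) (tt N13010 F120889))
theorem Q13012 : ∀ i, i < 13012 → P i := stepQ 13011 Q13011 (allL N13011 (tt N11068 F120894) (tt N13011 F120895) (tt N14455 (iv F141433)) (tt N15043 (iv F143565)) (tt N11051 F120896) (tt N15036 (iv F143533)) (tt N11050 (iv D27122)) (tt N13011 F120897) (tt N13992 (iv F139376)) (tt N13011 F120898))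
theorem Q13013 : ∀ i, i < 13013 → P i := stepQ 13012 Q13012 (allL N13012 (tt N11052 (iv D27137)) (tt N15023 (iv F143472)) (tt N11087 F120968) (tt N14476 (iv F141539)) (tt N13012 F120969) (tt N14632 (iv F142107)) (tt N15044 D30971) (tt N14603 (iv F141981)) (tt N11063 F120970) (tt N14594 (iv F141939)))
theorem Q13014 : ∀ i, i < 13014 → P i := stepQ 13013 Q13013 (allL N13013 (tt N15044 (iv F143568)) (tt N11053 F120971) (tt N11088 F120972) (tt N14477 (iv F141543)) (tt N13013 F120973) (tt N15045 D30972) (tt N11052 (iv D27138)) (tt N15046 D30973) (tt N11064 F120974) (tt N14595 (iv F141944)))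
theorem Q13015 : ∀ i, i < 13015 → P i := stepQ 13014 Q13014 (allL N13014 (tt N15025 (iv F143480)) (tt N15045 (iv F143572)) (tt N11054 F120975) (tt N14478 (iv F141546)) (tt N14906 (iv F143065)) (tt N11053 (iv D27139)) (tt N14634 (iv F142117)) (tt N15047 D30974) (tt N14904 F143061) (tt N14596 (iv F141947)))
theorem Q13016 : ∀ i, i < 13016 → P i := stepQ 13015 Q13015 (allL N13015 (tt N15026 (iv F143482)) (tt N15046 (iv F143574)) (tt N11055 F120976) (tt N14479 (iv F141548)) (tt N13015 F120977) (tt N15047 (iv F143579)) (tt N14606 (iv F141994)) (tt N11053 (iv D27140)) (tt N11066 F120978) (tt N14597 (iv F141952)))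
theorem Q13017 : ∀ i, i < 13017 → P i := stepQ 13016 Q13016 (allL N13016 (tt N15027 (iv F143486)) (tt N11092 F120982) (tt N15047 (iv F143578)) (tt N11056 F120983) (tt N14909 (iv F143076)) (tt N11055 F120984) (tt N15048 D30975) (tt N11054 (iv D27142)) (tt N14907 (iv F143071)) (tt N14599 (iv F141962)))
theorem Q13018 : ∀ i, i < 13018 → P i := stepQ 13017 Q13017 (allL N13017 (tt N15028 (iv F143490)) (tt N11094 F120988) (tt N14483 (iv F141559)) (tt N15048 (iv F143581)) (tt N11237 F120989) (tt N14610 (iv F142015)) (tt N11056 (iv D27144)) (tt N14639 (iv F142143)) (tt N14912 (iv F143088)) (tt N14601 (iv F141973)))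
theorem Q13019 : ∀ i, i < 13019 → P i := stepQ 13018 Q13018 (allL N13018 (tt N11057 (iv D27147)) (tt N15029 (iv F143493)) (tt N11097 F120997) (tt N14485 (iv F141567)) (tt N13018 F120998) (tt N13018 F120999) (tt N15049 D30976) (tt N11063 F121000) (tt N14603 (iv F141982)) (tt N13018 F121001))
theorem Q13020 : ∀ i, i < 13020 → P i := stepQ 13019 Q13019 (allL N13019 (tt N15049 (iv F143582)) (tt N11058 F121002) (tt N11098 F121003) (tt N14486 (iv F141573)) (tt N13019 F121004) (tt N14722 F142478) (tt N11057 (iv D27148)) (tt N15050 D30977) (tt N14604 (iv F141987)) (tt N13019 F121005))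
theorem Q13021 : ∀ i, i < 13021 → P i := stepQ 13020 Q13020 (allL N13020 (tt N15031 (iv F143503)) (tt N14722 (iv F142473)) (tt N11059 F121006) (tt N14487 (iv F141576)) (tt N14719 (iv F142463)) (tt N11058 (iv D27149)) (tt N13020 F121007) (tt N15051 D30978) (tt N14717 F142456) (tt N13020 F121008))
theorem Q13022 : ∀ i, i < 13022 → P i := stepQ 13021 Q13021 (allL N13021 (tt N15032 (iv F143507)) (tt N15050 (iv F143586)) (tt N11060 F121009) (tt N14488 (iv F141580)) (tt N13021 F121010) (tt N15051 (iv F143592)) (tt N11066 F121011) (tt N11058 (iv D27150)) (tt N14606 (iv F141995)) (tt N13021 F121012))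
theorem Q13023 : ∀ i, i < 13023 → P i := stepQ 13022 Q13022 (allL N13022 (tt N15033 (iv F143512)) (tt N11101 F121013) (tt N14719 (iv F142462)) (tt N13022 F121014) (tt N11059 (iv D27151)) (tt N13022 F121015) (tt N13022 F121016) (tt N15052 D30979) (tt N11215 (iv F121018)) (tt N13022 F121017))
theorem Q13024 : ∀ i, i < 13024 → P i := stepQ 13023 Q13023 (allL N13023 (tt N15034 (iv F143519)) (tt N11102 F121019) (tt N15051 (iv F143591)) (tt N11061 F121020) (tt N15052 (iv F143596)) (tt N11060 F121021) (tt N15053 D30980) (tt N11059 (iv D27152)) (tt N15054 D30981) (tt N13023 F121022))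
theorem Q13025 : ∀ i, i < 13025 → P i := stepQ 13024 Q13024 (allL N13024 (tt N15035 (iv F143524)) (tt N11103 F121023) (tt N14717 (iv F142453)) (tt N11062 F121024) (tt N11215 F121025) (tt N14609 (iv F142010)) (tt N13024 F121026) (tt N15054 (iv F143608)) (tt N11059 (iv D27153)) (tt N11224 (iv F121027)))
theorem Q13026 : ∀ i, i < 13026 → P i := stepQ 13025 Q13025 (allL N13025 (tt N15036 (iv F143530)) (tt N11104 F121028) (tt N14492 (iv F141595)) (tt N15053 (iv F143601)) (tt N13025 F121029) (tt N11068 F121030) (tt N11061 (iv D27154)) (tt N13025 F121031) (tt N15055 D30982) (tt N13025 F121032))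
theorem Q13027 : ∀ i, i < 13027 → P i := stepQ 13026 Q13026 (allL N13026 (tt N15037 (iv F143536)) (tt N11105 F121033) (tt N14493 (iv F141601)) (tt N15054 (iv F143606)) (tt N13026 F121034) (tt N14611 (iv F142020)) (tt N15055 (iv F143612)) (tt N11062 F121035) (tt N11061 (iv D27155)) (tt N15056 D30983))
theorem Q13028 : ∀ i, i < 13028 → P i := stepQ 13027 Q13027 (allL N13027 (tt N15038 (iv F143540)) (tt N11106 F121036) (tt N14494 (iv F141605)) (tt N11224 F121037) (tt N13027 F121038) (tt N14612 (iv F142025)) (tt N13027 F121039) (tt N15056 (iv F143617)) (tt N13027 F121040) (tt N11062 (iv D27156)))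
theorem Q13029 : ∀ i, i < 13029 → P i := stepQ 13028 Q13028 (allL N13028 (tt N11064 F121041) (tt N15039 (iv F143547)) (tt N11107 F121042) (tt N14495 (iv F141611)) (tt N13028 F121043) (tt N15057 D30984) (tt N11063 (iv D27157)) (tt N15058 D30985) (tt N15044 (iv F143571)) (tt N13028 F121044))
theorem Q13030 : ∀ i, i < 13030 → P i := stepQ 13029 Q13029 (allL N13029 (tt N15057 (iv F143619)) (tt N11065 F121045) (tt N11108 F121046) (tt N14496 (iv F141615)) (tt N14948 (iv F143201)) (tt N11064 (iv D27158)) (tt N13029 F121047) (tt N15059 D30986) (tt N14946 F143195) (tt N13029 F121048))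
theorem Q13031 : ∀ i, i < 13031 → P i := stepQ 13030 Q13030 (allL N13030 (tt N15058 (iv F143623)) (tt N11066 F121049) (tt N11109 F121050) (tt N14497 (iv F141620)) (tt N13030 F121051) (tt N15059 (iv F143629)) (tt N15050 (iv F143589)) (tt N11064 (iv D27159)) (tt N15046 (iv F143577)) (tt N13030 F121052))
theorem Q13032 : ∀ i, i < 13032 → P i := stepQ 13031 Q13031 (allL N13031 (tt N15042 (iv F143559)) (tt N15059 (iv F143627)) (tt N11067 F121057) (tt N14499 (iv F141626)) (tt N14951 (iv F143211)) (tt N11066 F121058) (tt N15060 D30987) (tt N11065 (iv D27161)) (tt N14949 (iv F143207)) (tt N13031 F121059))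
theorem Q13033 : ∀ i, i < 13033 → P i := stepQ 13032 Q13032 (allL N13032 (tt N15043 (iv F143563)) (tt N11114 F121071) (tt N15060 (iv F143631)) (tt N11068 F121072) (tt N14953 (iv F143222)) (tt N15053 (iv F143602)) (tt N11067 (iv D27165)) (tt N13032 F121073) (tt N14952 (iv F143219)) (tt N13032 F121074))
theorem Q13034 : ∀ i, i < 13034 → P i := stepQ 13033 Q13033 (allL N13033 (tt N11069 (iv D27184)) (tt N13033 F121148) (tt N14632 (iv F142105)) (tt N11121 F121149) (tt N11197 F121150) (tt N11087 F121151) (tt N15061 D30988) (tt N11146 F121152) (tt N13033 F121153) (tt N11136 F121154))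
theorem Q13035 : ∀ i, i < 13035 → P i := stepQ 13034 Q13034 (allL N13034 (tt N15061 (iv F143634)) (tt N11070 F121155) (tt N14633 (iv F142112)) (tt N11122 F121156) (tt N11198 F121157) (tt N14922 (iv F143120)) (tt N11069 (iv D27185)) (tt N15062 D30989) (tt N13034 F121158) (tt N11137 F121159))
theorem Q13036 : ∀ i, i < 13036 → P i := stepQ 13035 Q13035 (allL N13035 (tt N13035 F121160) (tt N14922 (iv F143117)) (tt N11071 F121161) (tt N11123 F121162) (tt N11297 F121163) (tt N11070 (iv D27186)) (tt N11089 F121164) (tt N15063 D30990) (tt N11304 (iv F121166)) (tt N11138 F121165))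
theorem Q13037 : ∀ i, i < 13037 → P i := stepQ 13036 Q13036 (allL N13036 (tt N13036 F121167) (tt N15062 (iv F143640)) (tt N11072 F121168) (tt N11124 F121169) (tt N11200 F121170) (tt N15063 (iv F143650)) (tt N11149 F121171) (tt N11070 (iv D27187)) (tt N13036 F121172) (tt N11139 F121173))
theorem Q13038 : ∀ i, i < 13038 → P i := stepQ 13037 Q13037 (allL N13037 (tt N13037 F121174) (tt N14636 (iv F142124)) (tt N11297 F121175) (tt N11243 F121176) (tt N11071 (iv D27188)) (tt N11201 F121177) (tt N11091 F121178) (tt N15064 D30991) (tt N11251 F135089) (tt N11140 F121179))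
theorem Q13039 : ∀ i, i < 13039 → P i := stepQ 13038 Q13038 (allL N13038 (tt N13038 F121181) (tt N14637 (iv F142130)) (tt N15063 (iv F143647)) (tt N11073 F121182) (tt N15064 (iv F143656)) (tt N11072 F121183) (tt N15065 D30992) (tt N11071 (iv D27189)) (tt N15066 D30993) (tt N11141 F121184))
theorem Q13040 : ∀ i, i < 13040 → P i := stepQ 13039 Q13039 (allL N13039 (tt N13039 F121185) (tt N14638 (iv F142134)) (tt N11304 F121186) (tt N11074 F121187) (tt N11251 F135091) (tt N13039 F121189) (tt N11093 F121190) (tt N15066 (iv F143670)) (tt N11071 (iv D27190)) (tt N11254 (iv F135213)))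
theorem Q13041 : ∀ i, i < 13041 → P i := stepQ 13040 Q13040 (allL N13040 (tt N13040 F121192) (tt N14639 (iv F142140)) (tt N11128 F121193) (tt N15065 (iv F143661)) (tt N11245 F121194) (tt N11153 F121195) (tt N11073 (iv D27191)) (tt N11094 F121196) (tt N15067 D30994) (tt N11143 F121197))
theorem Q13042 : ∀ i, i < 13042 → P i := stepQ 13041 Q13041 (allL N13041 (tt N13041 F121198) (tt N14640 (iv F142145)) (tt N11129 F121199) (tt N15066 (iv F143667)) (tt N11246 F121200) (tt N13041 F121201) (tt N15067 (iv F143675)) (tt N11074 F121202) (tt N11073 (iv D27192)) (tt N15068 D30995))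
theorem Q13043 : ∀ i, i < 13043 → P i := stepQ 13042 Q13042 (allL N13042 (tt N13042 F121203) (tt N13407 (iv F136412)) (tt N11130 F121204) (tt N11254 F135465) (tt N11247 F121206) (tt N13042 F121207) (tt N11096 F121208) (tt N15068 (iv F143682)) (tt N11145 F121209) (tt N11074 (iv D27193)))
theorem Q13044 : ∀ i, i < 13044 → P i := stepQ 13043 Q13043 (allL N13043 (tt N11075 (iv D27194)) (tt N13043 F121210) (tt N14603 (iv F141978)) (tt N11136 F121211) (tt N13043 F121212) (tt N11146 F121213) (tt N15069 D30996) (tt N11087 F121214) (tt N11097 F121215) (tt N11121 F121216))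
theorem Q13045 : ∀ i, i < 13045 → P i := stepQ 13044 Q13044 (allL N13044 (tt N15069 (iv F143684)) (tt N11076 F121217) (tt N14604 (iv F141985)) (tt N11137 F121218) (tt N13044 F121219) (tt N14658 (iv F142217)) (tt N11075 (iv D27195)) (tt N15070 D30997) (tt N11098 F121220) (tt N11122 F121221))
theorem Q13046 : ∀ i, i < 13046 → P i := stepQ 13045 Q13045 (allL N13045 (tt N13045 F121222) (tt N14658 (iv F142214)) (tt N11077 F121223) (tt N11138 F121224) (tt N11152 (iv F121228)) (tt N11076 (iv D27196)) (tt N11148 F121225) (tt N15071 D30998) (tt N11150 F121226) (tt N11123 F121227))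
theorem Q13047 : ∀ i, i < 13047 → P i := stepQ 13046 Q13046 (allL N13046 (tt N13046 F121229) (tt N15070 (iv F143690)) (tt N11078 F121230) (tt N11139 F121231) (tt N13046 F121232) (tt N15071 (iv F143700)) (tt N11090 F121233) (tt N11076 (iv D27197)) (tt N11100 F121234) (tt N11124 F121235))
theorem Q13048 : ∀ i, i < 13048 → P i := stepQ 13047 Q13047 (allL N13047 (tt N13047 F121236) (tt N14607 (iv F141997)) (tt N11152 F121237) (tt N11273 F121238) (tt N11077 (iv D27198)) (tt N13047 F121239) (tt N11150 F121240) (tt N15072 D30999) (tt N11148 (iv F121242)) (tt N11125 F121241))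
theorem Q13049 : ∀ i, i < 13049 → P i := stepQ 13048 Q13048 (allL N13048 (tt N13048 F121243) (tt N14608 (iv F142003)) (tt N15071 (iv F143697)) (tt N11079 F121244) (tt N15072 (iv F143706)) (tt N11078 F121245) (tt N15073 D31000) (tt N11077 (iv D27199)) (tt N15074 D31001) (tt N11126 F121246))
theorem Q13050 : ∀ i, i < 13050 → P i := stepQ 13049 Q13049 (allL N13049 (tt N13049 F121247) (tt N14609 (iv F142007)) (tt N11150 F121248) (tt N11080 F121249) (tt N11148 F121250) (tt N11103 F121251) (tt N11152 F121252) (tt N15074 (iv F143720)) (tt N11077 (iv D27200)) (tt N11159 (iv F121253)))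
theorem Q13051 : ∀ i, i < 13051 → P i := stepQ 13050 Q13050 (allL N13050 (tt N13050 F121254) (tt N14610 (iv F142013)) (tt N11143 F121255) (tt N15073 (iv F143711)) (tt N11276 F121256) (tt N11094 F121257) (tt N11079 (iv D27201)) (tt N11153 F121258) (tt N15075 D31002) (tt N11128 F121259))
theorem Q13052 : ∀ i, i < 13052 → P i := stepQ 13051 Q13051 (allL N13051 (tt N13051 F121260) (tt N14611 (iv F142018)) (tt N11144 F121261) (tt N15074 (iv F143717)) (tt N11277 F121262) (tt N11105 F121263) (tt N15075 (iv F143725)) (tt N11080 F121264) (tt N11079 (iv D27202)) (tt N15076 D31003))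
theorem Q13053 : ∀ i, i < 13053 → P i := stepQ 13052 Q13052 (allL N13052 (tt N13052 F121265) (tt N14612 (iv F142022)) (tt N11145 F121266) (tt N11159 F121267) (tt N11278 F121268) (tt N11106 F121269) (tt N11155 F121270) (tt N15076 (iv F143732)) (tt N11130 F121271) (tt N11080 (iv D27203)))
theorem Q13054 : ∀ i, i < 13054 → P i := stepQ 13053 Q13053 (allL N13053 (tt N11081 (iv D27204)) (tt N13053 F121272) (tt N14594 (iv F141934)) (tt N11146 F121273) (tt N13053 F121274) (tt N11136 F121275) (tt N15077 D31004) (tt N11121 F121276) (tt N13053 F121277) (tt N11087 F121278))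
theorem Q13055 : ∀ i, i < 13055 → P i := stepQ 13054 Q13054 (allL N13054 (tt N15077 (iv F143734)) (tt N11082 F121279) (tt N14595 (iv F141941)) (tt N11147 F121280) (tt N13054 F121281) (tt N14881 F142975) (tt N11081 (iv D27205)) (tt N15078 D31005) (tt N13054 F121282) (tt N11088 F121283))
theorem Q13056 : ∀ i, i < 13056 → P i := stepQ 13055 Q13055 (allL N13055 (tt N13055 F121284) (tt N14881 (iv F142971)) (tt N11083 F121285) (tt N11148 F121286) (tt N11275 (iv F121289)) (tt N11082 (iv D27206)) (tt N11138 F121287) (tt N15079 D31006) (tt N11273 (iv F121290)) (tt N11089 F121288))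
theorem Q13057 : ∀ i, i < 13057 → P i := stepQ 13056 Q13056 (allL N13056 (tt N13056 F121291) (tt N15078 (iv F143740)) (tt N11084 F121292) (tt N11149 F121293) (tt N13056 F121294) (tt N15079 (iv F143750)) (tt N11124 F121295) (tt N11082 (iv D27207)) (tt N13056 F121296) (tt N11090 F121297))
theorem Q13058 : ∀ i, i < 13058 → P i := stepQ 13057 Q13057 (allL N13057 (tt N13057 F121298) (tt N14598 (iv F141953)) (tt N11275 F121299) (tt N11260 F121300) (tt N11083 (iv D27208)) (tt N13057 F121301) (tt N11140 F121302) (tt N15080 D31007) (tt N11271 (iv F121304)) (tt N11091 F121303))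
theorem Q13059 : ∀ i, i < 13059 → P i := stepQ 13058 Q13058 (allL N13058 (tt N13058 F121305) (tt N14599 (iv F141959)) (tt N15079 (iv F143747)) (tt N11085 F121306) (tt N15080 (iv F143756)) (tt N11084 F121307) (tt N15081 D31008) (tt N11083 (iv D27209)) (tt N15082 D31009) (tt N11092 F121308))
theorem Q13060 : ∀ i, i < 13060 → P i := stepQ 13059 Q13059 (allL N13059 (tt N13059 F121309) (tt N14600 (iv F141963)) (tt N11273 F121310) (tt N11086 F121311) (tt N11271 F121312) (tt N13059 F121313) (tt N11142 F121314) (tt N15082 (iv F143770)) (tt N11083 (iv D27210)) (tt N11279 (iv F121315)))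
theorem Q13061 : ∀ i, i < 13061 → P i := stepQ 13060 Q13060 (allL N13060 (tt N13060 F121316) (tt N14601 (iv F141969)) (tt N11153 F121317) (tt N15081 (iv F143761)) (tt N11263 F121318) (tt N11128 F121319) (tt N11085 (iv D27211)) (tt N11143 F121320) (tt N15083 D31010) (tt N11094 F121321))
theorem Q13062 : ∀ i, i < 13062 → P i := stepQ 13061 Q13061 (allL N13061 (tt N13061 F121322) (tt N14602 (iv F141974)) (tt N11154 F121323) (tt N15082 (iv F143767)) (tt N11264 F121324) (tt N13061 F121325) (tt N15083 (iv F143775)) (tt N11086 F121326) (tt N11085 (iv D27212)) (tt N15084 D31011))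
theorem Q13063 : ∀ i, i < 13063 → P i := stepQ 13062 Q13062 (allL N13062 (tt N13062 F121327) (tt N13417 (iv F136469)) (tt N11155 F121328) (tt N11279 F121329) (tt N11265 F121330) (tt N13062 F121331) (tt N11145 F121332) (tt N15084 (iv F143782)) (tt N11096 F121333) (tt N11086 (iv D27213)))
theorem Q13064 : ∀ i, i < 13064 → P i := stepQ 13063 Q13063 (allL N13063 (tt N11088 F121334) (tt N13063 F121335) (tt N15044 (iv F143569)) (tt N11156 F121336) (tt N13063 F121337) (tt N15085 D31012) (tt N11087 (iv D27214)) (tt N15086 D31013) (tt N11107 F121338) (tt N15077 (iv F143739)))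
theorem Q13065 : ∀ i, i < 13065 → P i := stepQ 13064 Q13064 (allL N13064 (tt N15085 (iv F143784)) (tt N11089 F121339) (tt N15045 (iv F143573)) (tt N11157 F121340) (tt N14884 (iv F142987)) (tt N11088 (iv D27215)) (tt N14922 (iv F143121)) (tt N15087 D31014) (tt N14898 (iv F143039)) (tt N14881 (iv F142976)))
theorem Q13066 : ∀ i, i < 13066 → P i := stepQ 13065 Q13065 (allL N13065 (tt N15086 (iv F143787)) (tt N11090 F121341) (tt N15046 (iv F143575)) (tt N11158 F121342) (tt N13065 F121343) (tt N15087 (iv F143794)) (tt N15070 (iv F143693)) (tt N11088 (iv D27216)) (tt N11109 F121344) (tt N15078 (iv F143745)))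
theorem Q13067 : ∀ i, i < 13067 → P i := stepQ 13066 Q13066 (allL N13066 (tt N13066 F121345) (tt N14884 (iv F142985)) (tt N11091 F121346) (tt N11278 F121347) (tt N11089 (iv D27217)) (tt N13066 F121348) (tt N11297 F121349) (tt N15088 D31015) (tt N11285 (iv F121351)) (tt N11275 F121350))
theorem Q13068 : ∀ i, i < 13068 → P i := stepQ 13067 Q13067 (allL N13067 (tt N13067 F121352) (tt N15087 (iv F143792)) (tt N11092 F121353) (tt N11160 F121354) (tt N15088 (iv F143798)) (tt N11090 F121355) (tt N15089 D31016) (tt N11089 (iv D27218)) (tt N15090 D31017) (tt N15079 (iv F143752)))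
theorem Q13069 : ∀ i, i < 13069 → P i := stepQ 13068 Q13068 (allL N13068 (tt N13068 F121356) (tt N14898 (iv F143034)) (tt N11093 F121357) (tt N11161 F121358) (tt N11285 F121359) (tt N11112 F121360) (tt N11304 F121361) (tt N15090 (iv F143810)) (tt N11089 (iv D27219)) (tt N11282 F121362))
theorem Q13070 : ∀ i, i < 13070 → P i := stepQ 13069 Q13069 (allL N13069 (tt N13069 F121363) (tt N14909 (iv F143074)) (tt N15088 (iv F143796)) (tt N11266 F121364) (tt N11092 F121365) (tt N13069 F121366) (tt N15091 D31018) (tt N11091 (iv D27220)) (tt N11289 F135496) (tt N15080 (iv F143759)))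
theorem Q13071 : ∀ i, i < 13071 → P i := stepQ 13070 Q13070 (allL N13070 (tt N13070 F121374) (tt N15048 (iv F143580)) (tt N15089 (iv F143803)) (tt N11094 F121375) (tt N15091 (iv F143814)) (tt N15073 (iv F143712)) (tt N11092 (iv D27222)) (tt N15065 (iv F143663)) (tt N15092 D31019) (tt N15081 (iv F143764)))
theorem Q13072 : ∀ i, i < 13072 → P i := stepQ 13071 Q13071 (allL N13071 (tt N13071 F121376) (tt N14907 (iv F143067)) (tt N15090 (iv F143806)) (tt N11095 F121377) (tt N11289 F135501) (tt N11115 F121378) (tt N15092 (iv F143819)) (tt N11093 F121379) (tt N11092 (iv D27223)) (tt N15093 D31020))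
theorem Q13073 : ∀ i, i < 13073 → P i := stepQ 13072 Q13072 (allL N13072 (tt N13072 F121380) (tt N13321 (iv F135935)) (tt N11282 F121381) (tt N11096 F121382) (tt N11238 F135448) (tt N11116 F121384) (tt N11254 F135449) (tt N15093 (iv F143825)) (tt N11279 F121386) (tt N11093 (iv D27224)))
theorem Q13074 : ∀ i, i < 13074 → P i := stepQ 13073 Q13073 (allL N13073 (tt N13073 F121387) (tt N14912 (iv F143086)) (tt N11167 F121388) (tt N15092 (iv F143817)) (tt N11268 F121389) (tt N15094 D31021) (tt N11095 F121390) (tt N15067 (iv F143676)) (tt N11094 (iv D27225)) (tt N15095 D31022))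
theorem Q13075 : ∀ i, i < 13075 → P i := stepQ 13074 Q13074 (allL N13074 (tt N13074 F121391) (tt N13416 (iv F136464)) (tt N11168 F121392) (tt N15093 (iv F143822)) (tt N11269 F121393) (tt N11118 F121394) (tt N15095 (iv F143834)) (tt N11096 F121395) (tt N15084 (iv F143783)) (tt N11095 (iv D27226)))
theorem Q13076 : ∀ i, i < 13076 → P i := stepQ 13075 Q13075 (allL N13075 (tt N11098 F121396) (tt N13075 F121397) (tt N15049 (iv F143583)) (tt N11169 F121398) (tt N13075 F121399) (tt N13705 F138022) (tt N11097 (iv D27227)) (tt N15096 D31023) (tt N15069 (iv F143688)) (tt N13075 F121400))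
theorem Q13077 : ∀ i, i < 13077 → P i := stepQ 13076 Q13076 (allL N13076 (tt N15096 (iv F143835)) (tt N11100 F121401) (tt N15050 (iv F143587)) (tt N11170 F121402) (tt N13076 F121403) (tt N14726 F142496) (tt N11109 F121404) (tt N11098 (iv D27228)) (tt N15070 (iv F143694)) (tt N13076 F121405))
theorem Q13078 : ∀ i, i < 13078 → P i := stepQ 13077 Q13077 (allL N13077 (tt N13077 F121406) (tt N14726 (iv F142491)) (tt N11102 F121407) (tt N11171 F121408) (tt N11220 F121409) (tt N11100 F121410) (tt N15097 D31024) (tt N11099 (iv D27229)) (tt N11218 F121411) (tt N13077 F121412))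
theorem Q13079 : ∀ i, i < 13079 → P i := stepQ 13078 Q13078 (allL N13078 (tt N13078 F121413) (tt N15052 (iv F143594)) (tt N11220 F121414) (tt N13078 F121415) (tt N11102 F121416) (tt N13078 F121417) (tt N15098 D31025) (tt N11101 (iv D27230)) (tt N11217 F121418) (tt N13078 F121419))
theorem Q13080 : ∀ i, i < 13080 → P i := stepQ 13079 Q13079 (allL N13079 (tt N13079 F121420) (tt N15053 (iv F143600)) (tt N15097 (iv F143842)) (tt N11104 F121421) (tt N15098 (iv F143852)) (tt N11114 F121422) (tt N11102 (iv D27231)) (tt N13079 F121423) (tt N15099 D31026) (tt N13079 F121424))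
theorem Q13081 : ∀ i, i < 13081 → P i := stepQ 13080 Q13080 (allL N13080 (tt N13080 F121425) (tt N15054 (iv F143605)) (tt N11218 F121426) (tt N11105 F121427) (tt N11217 F121428) (tt N15074 (iv F143719)) (tt N15099 (iv F143860)) (tt N11103 F121429) (tt N11102 (iv D27232)) (tt N11226 (iv F121430)))
theorem Q13082 : ∀ i, i < 13082 → P i := stepQ 13081 Q13081 (allL N13081 (tt N13081 F121431) (tt N15055 (iv F143610)) (tt N11175 F121432) (tt N15099 (iv F143858)) (tt N13081 F121433) (tt N15100 D31027) (tt N11105 F121434) (tt N13081 F121435) (tt N11104 (iv D27233)) (tt N15101 D31028))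
theorem Q13083 : ∀ i, i < 13083 → P i := stepQ 13082 Q13082 (allL N13082 (tt N13082 F121436) (tt N15056 (iv F143614)) (tt N11176 F121437) (tt N11226 F121438) (tt N13082 F121439) (tt N15076 (iv F143731)) (tt N15101 (iv F143872)) (tt N11106 F121440) (tt N13082 F121441) (tt N11105 (iv D27234)))
theorem Q13084 : ∀ i, i < 13084 → P i := stepQ 13083 Q13083 (allL N13083 (tt N11108 F121442) (tt N13083 F121443) (tt N15057 (iv F143620)) (tt N11177 F121444) (tt N15102 D31029) (tt N11107 (iv D27235)) (tt N13083 F121445) (tt N15103 D31030) (tt N15104 D31031) (tt N13083 F121446))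
theorem Q13085 : ∀ i, i < 13085 → P i := stepQ 13084 Q13084 (allL N13084 (tt N11109 F121447) (tt N13084 F121448) (tt N15058 (iv F143624)) (tt N11178 F121449) (tt N13084 F121450) (tt N15103 (iv F143885)) (tt N15096 (iv F143839)) (tt N11107 (iv D27236)) (tt N15086 (iv F143791)) (tt N13084 F121451))
theorem Q13086 : ∀ i, i < 13086 → P i := stepQ 13085 Q13085 (allL N13085 (tt N15102 (iv F143875)) (tt N11110 F121452) (tt N14948 (iv F143200)) (tt N13085 F121453) (tt N11108 (iv D27237)) (tt N13085 F121454) (tt N13085 F121455) (tt N15105 D31032) (tt N11313 F135594) (tt N13085 F121456))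
theorem Q13087 : ∀ i, i < 13087 → P i := stepQ 13086 Q13086 (allL N13086 (tt N15103 (iv F143882)) (tt N11111 F121457) (tt N15059 (iv F143628)) (tt N11179 F121458) (tt N15105 (iv F143894)) (tt N11109 F121459) (tt N15106 D31033) (tt N11108 (iv D27238)) (tt N15107 D31034) (tt N13086 F121460))
theorem Q13088 : ∀ i, i < 13088 → P i := stepQ 13087 Q13087 (allL N13087 (tt N15104 (iv F143887)) (tt N11112 F121461) (tt N14946 (iv F143193)) (tt N11180 F121462) (tt N11313 F135547) (tt N14898 (iv F143037)) (tt N13087 F121463) (tt N15107 (iv F143905)) (tt N11108 (iv D27239)) (tt N14897 F143033))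
theorem Q13089 : ∀ i, i < 13089 → P i := stepQ 13088 Q13088 (allL N13088 (tt N13088 F121464) (tt N15105 (iv F143892)) (tt N11113 F121465) (tt N13088 F121466) (tt N11111 F121467) (tt N13088 F121468) (tt N15108 D31035) (tt N11110 (iv D27240)) (tt N11315 F135592) (tt N13088 F121469))
theorem Q13090 : ∀ i, i < 13090 → P i := stepQ 13089 Q13089 (allL N13089 (tt N13089 F121477) (tt N15106 (iv F143898)) (tt N11114 F121478) (tt N11181 F121479) (tt N15108 (iv F143909)) (tt N15097 (iv F143845)) (tt N11111 (iv D27242)) (tt N13089 F121480) (tt N15109 D31036) (tt N13089 F121481))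
theorem Q13091 : ∀ i, i < 13091 → P i := stepQ 13090 Q13090 (allL N13090 (tt N13090 F121482) (tt N15107 (iv F143902)) (tt N11115 F121483) (tt N11182 F121484) (tt N11315 F135548) (tt N15090 (iv F143809)) (tt N15109 (iv F143917)) (tt N11112 F121485) (tt N11111 (iv D27243)) (tt N15110 D31037))
theorem Q13092 : ∀ i, i < 13092 → P i := stepQ 13091 Q13091 (allL N13091 (tt N13091 F121486) (tt N14897 (iv F143028)) (tt N11116 F121487) (tt N11183 F121488) (tt N11308 F135549) (tt N11282 F121490) (tt N13091 F121491) (tt N15110 (iv F143924)) (tt N13091 F121492) (tt N11112 (iv D27244)))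
theorem Q13093 : ∀ i, i < 13093 → P i := stepQ 13092 Q13092 (allL N13092 (tt N13092 F121493) (tt N14953 (iv F143220)) (tt N15108 (iv F143907)) (tt N11119 F121494) (tt N11114 F121495) (tt N15111 D31038) (tt N11113 (iv D27245)) (tt N13092 F121496) (tt N11316 F135593) (tt N13092 F121497))
theorem Q13094 : ∀ i, i < 13094 → P i := stepQ 13093 Q13093 (allL N13093 (tt N13093 F121516) (tt N14952 (iv F143215)) (tt N15109 (iv F143914)) (tt N11117 F121517) (tt N11316 F135550) (tt N15112 D31039) (tt N11115 F121518) (tt N13093 F121519) (tt N11114 (iv D27249)) (tt N15113 D31040))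
theorem Q13095 : ∀ i, i < 13095 → P i := stepQ 13094 Q13094 (allL N13094 (tt N13094 F121520) (tt N13333 (iv F136013)) (tt N15110 (iv F143920)) (tt N11118 F121521) (tt N11310 F135551) (tt N15093 (iv F143824)) (tt N15113 (iv F143937)) (tt N11116 F121522) (tt N13094 F121523) (tt N11115 (iv D27250)))
theorem Q13096 : ∀ i, i < 13096 → P i := stepQ 13095 Q13095 (allL N13095 (tt N13095 F121524) (tt N14955 (iv F143231)) (tt N11186 F121525) (tt N15112 (iv F143932)) (tt N11319 F135552) (tt N11117 (iv D27251)) (tt N15094 (iv F143830)) (tt N13095 F121526) (tt N15100 (iv F143866)) (tt N15114 D31041))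
theorem Q13097 : ∀ i, i < 13097 → P i := stepQ 13096 Q13096 (allL N13096 (tt N13096 F121527) (tt N13432 (iv F136556)) (tt N11187 F121528) (tt N15113 (iv F143935)) (tt N11120 F121529) (tt N15114 (iv F143943)) (tt N11118 F121530) (tt N13096 F121531) (tt N13096 F121532) (tt N11117 (iv D27252)))
theorem Q13098 : ∀ i, i < 13098 → P i := stepQ 13097 Q13097 (allL N13097 (tt N13097 F121533) (tt N14954 (iv F143226)) (tt N13097 F121534) (tt N15111 (iv F143927)) (tt N13097 F121535) (tt N11119 (iv D27253)) (tt N13097 F121536) (tt N13097 F121537) (tt N15115 D31042) (tt N13097 F121538))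
theorem Q13099 : ∀ i, i < 13099 → P i := stepQ 13098 Q13098 (allL N13098 (tt N11122 F121590) (tt N13098 F121591) (tt N14613 (iv F142029)) (tt N15061 (iv F143636)) (tt N13098 F121592) (tt N15116 D31043) (tt N11121 (iv D27263)) (tt N15117 D31044) (tt N13098 F121593) (tt N15069 (iv F143689)))
theorem Q13100 : ∀ i, i < 13100 → P i := stepQ 13099 Q13099 (allL N13099 (tt N15116 (iv F143951)) (tt N11123 F121594) (tt N14614 (iv F142033)) (tt N14922 (iv F143118)) (tt N14661 (iv F142229)) (tt N11122 (iv D27264)) (tt N11157 F121595) (tt N15118 D31045) (tt N14677 (iv F142283)) (tt N14658 F142219))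
theorem Q13101 : ∀ i, i < 13101 → P i := stepQ 13100 Q13100 (allL N13100 (tt N15117 (iv F143954)) (tt N11124 F121596) (tt N14615 (iv F142036)) (tt N15062 (iv F143641)) (tt N13100 F121597) (tt N15118 (iv F143959)) (tt N15078 (iv F143743)) (tt N11122 (iv D27265)) (tt N13100 F121598) (tt N15070 (iv F143695)))
theorem Q13102 : ∀ i, i < 13102 → P i := stepQ 13101 Q13101 (allL N13101 (tt N13101 F121599) (tt N14661 (iv F142227)) (tt N11125 F121600) (tt N11155 F121601) (tt N11123 (iv D27266)) (tt N13101 F121602) (tt N11159 F121603) (tt N15119 D31046) (tt N11166 (iv F121605)) (tt N11152 F121604))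
theorem Q13103 : ∀ i, i < 13103 → P i := stepQ 13102 Q13102 (allL N13102 (tt N13102 F121606) (tt N15118 (iv F143958)) (tt N11126 F121607) (tt N15063 (iv F143648)) (tt N15119 (iv F143963)) (tt N11124 F121608) (tt N15120 D31047) (tt N11123 (iv D27267)) (tt N15121 D31048) (tt N15071 (iv F143702)))
theorem Q13104 : ∀ i, i < 13104 → P i := stepQ 13103 Q13103 (allL N13103 (tt N13103 F121609) (tt N14677 (iv F142278)) (tt N11127 F121610) (tt N11304 F121611) (tt N11166 F121612) (tt N13103 F121613) (tt N11161 F121614) (tt N15121 (iv F143975)) (tt N11123 (iv D27268)) (tt N11163 F121615))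
theorem Q13105 : ∀ i, i < 13105 → P i := stepQ 13104 Q13104 (allL N13104 (tt N13104 F121616) (tt N14619 (iv F142047)) (tt N15119 (iv F143961)) (tt N11281 F121617) (tt N11126 F121618) (tt N13104 F121619) (tt N15122 D31049) (tt N11125 (iv D27269)) (tt N15123 D31050) (tt N15072 (iv F143709)))
theorem Q13106 : ∀ i, i < 13106 → P i := stepQ 13105 Q13105 (allL N13105 (tt N13105 F121620) (tt N14620 (iv F142051)) (tt N11166 F121621) (tt N11282 F121622) (tt N11127 F121623) (tt N11183 (iv F121626)) (tt N11163 F121624) (tt N15123 (iv F143985)) (tt N11125 (iv D27270)) (tt N11161 F121625))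
theorem Q13107 : ∀ i, i < 13107 → P i := stepQ 13106 Q13106 (allL N13106 (tt N13106 F121627) (tt N14621 (iv F142057)) (tt N15120 (iv F143968)) (tt N11128 F121628) (tt N15122 (iv F143979)) (tt N15081 (iv F143762)) (tt N11126 (iv D27271)) (tt N11164 F121629) (tt N15124 D31051) (tt N15073 (iv F143714)))
theorem Q13108 : ∀ i, i < 13108 → P i := stepQ 13107 Q13107 (allL N13107 (tt N13107 F121630) (tt N14622 (iv F142060)) (tt N15121 (iv F143971)) (tt N11129 F121631) (tt N15123 (iv F143984)) (tt N13107 F121632) (tt N15124 (iv F143990)) (tt N11127 F121633) (tt N11126 (iv D27272)) (tt N15125 D31052))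
theorem Q13109 : ∀ i, i < 13109 → P i := stepQ 13108 Q13108 (allL N13108 (tt N13108 F121634) (tt N14623 (iv F142064)) (tt N11163 F121635) (tt N11130 F121636) (tt N11161 F121637) (tt N13108 F121638) (tt N11166 F121639) (tt N15125 (iv F143997)) (tt N11159 F121640) (tt N11127 (iv D27273)))
theorem Q13110 : ∀ i, i < 13110 → P i := stepQ 13109 Q13109 (allL N13109 (tt N13109 F121641) (tt N14624 (iv F142070)) (tt N15067 (iv F143673)) (tt N15124 (iv F143989)) (tt N11286 F121642) (tt N15126 D31053) (tt N11129 F121643) (tt N11167 F121644) (tt N11128 (iv D27274)) (tt N15127 D31054))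
theorem Q13111 : ∀ i, i < 13111 → P i := stepQ 13110 Q13110 (allL N13110 (tt N13110 F121645) (tt N14625 (iv F142074)) (tt N15068 (iv F143678)) (tt N15125 (iv F143994)) (tt N11287 F121646) (tt N13110 F121647) (tt N15127 (iv F144004)) (tt N11130 F121648) (tt N15076 (iv F143733)) (tt N11129 (iv D27275)))
theorem Q13112 : ∀ i, i < 13112 → P i := stepQ 13111 Q13111 (allL N13111 (tt N13111 F121661) (tt N13325 (iv F135960)) (tt N11132 F121662) (tt N11271 F121663) (tt N11262 F121664) (tt N11131 (iv D27278)) (tt N11258 F135459) (tt N15128 D31055) (tt N11260 (iv F121667)) (tt N11241 F135460))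
theorem Q13113 : ∀ i, i < 13113 → P i := stepQ 13112 Q13112 (allL N13112 (tt N13112 F121668) (tt N13326 (iv F135967)) (tt N11133 F121669) (tt N11272 F121670) (tt N11192 F121671) (tt N15128 (iv F144010)) (tt N11288 F121672) (tt N11131 (iv D27279)) (tt N13112 F121673) (tt N11242 F121674))
theorem Q13114 : ∀ i, i < 13114 → P i := stepQ 13113 Q13113 (allL N13113 (tt N13113 F121675) (tt N14628 (iv F142086)) (tt N11262 F121676) (tt N11140 F121677) (tt N11132 (iv D27280)) (tt N11193 F121678) (tt N11260 F121679) (tt N15129 D31056) (tt N11258 F135481) (tt N11243 F121680))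
theorem Q13115 : ∀ i, i < 13115 → P i := stepQ 13114 Q13114 (allL N13114 (tt N13114 F121682) (tt N14629 (iv F142092)) (tt N15128 (iv F144007)) (tt N11134 F121683) (tt N15129 (iv F144016)) (tt N11133 F121684) (tt N15130 D31057) (tt N11132 (iv D27281)) (tt N15131 D31058) (tt N11244 F121685))
theorem Q13116 : ∀ i, i < 13116 → P i := stepQ 13115 Q13115 (allL N13115 (tt N13115 F121686) (tt N13412 (iv F136442)) (tt N11260 F121687) (tt N11135 F121688) (tt N11258 F135474) (tt N13115 F121690) (tt N11262 F121691) (tt N15131 (iv F144030)) (tt N11132 (iv D27282)) (tt N11250 F135475))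
theorem Q13117 : ∀ i, i < 13117 → P i := stepQ 13116 Q13116 (allL N13116 (tt N13116 F121693) (tt N14630 (iv F142096)) (tt N11276 F121694) (tt N15130 (iv F144021)) (tt N11143 F121695) (tt N11290 F121696) (tt N11134 (iv D27283)) (tt N11263 F121697) (tt N15132 D31059) (tt N11245 F121698))
theorem Q13118 : ∀ i, i < 13118 → P i := stepQ 13117 Q13117 (allL N13117 (tt N13117 F121699) (tt N14631 (iv F142101)) (tt N11277 F121700) (tt N15131 (iv F144027)) (tt N11144 F121701) (tt N13117 F121702) (tt N15132 (iv F144035)) (tt N11135 F121703) (tt N11134 (iv D27284)) (tt N15133 D31060))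
theorem Q13119 : ∀ i, i < 13119 → P i := stepQ 13118 Q13118 (allL N13118 (tt N13118 F121704) (tt N13409 (iv F136424)) (tt N11278 F121705) (tt N11250 F135472) (tt N11145 F121707) (tt N13118 F121708) (tt N11265 F121709) (tt N15133 (iv F144042)) (tt N11247 F121710) (tt N11135 (iv D27285)))
theorem Q13120 : ∀ i, i < 13120 → P i := stepQ 13119 Q13119 (allL N13119 (tt N11137 F121711) (tt N13119 F121712) (tt N14221 (iv F140567)) (tt N15069 (iv F143686)) (tt N11206 F121713) (tt N13947 (iv F139166)) (tt N11136 (iv D27286)) (tt N15134 D31061) (tt N11169 F121714) (tt N15061 (iv F143639)))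
theorem Q13121 : ∀ i, i < 13121 → P i := stepQ 13120 Q13120 (allL N13120 (tt N15134 (iv F144044)) (tt N11139 F121715) (tt N14642 (iv F142154)) (tt N15070 (iv F143691)) (tt N11207 F121716) (tt N14921 (iv F143115)) (tt N11158 F121717) (tt N11137 (iv D27287)) (tt N11170 F121718) (tt N15062 (iv F143645)))
theorem Q13122 : ∀ i, i < 13122 → P i := stepQ 13121 Q13121 (allL N13121 (tt N13121 F121719) (tt N14921 (iv F143113)) (tt N11141 F121720) (tt N15071 (iv F143698)) (tt N11296 F121721) (tt N11139 F121722) (tt N15135 D31062) (tt N11138 (iv D27288)) (tt N11294 F121723) (tt N15063 (iv F143652)))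
theorem Q13123 : ∀ i, i < 13123 → P i := stepQ 13122 Q13122 (allL N13122 (tt N13122 F121724) (tt N14646 (iv F142169)) (tt N11296 F121725) (tt N15129 (iv F144015)) (tt N11141 F121726) (tt N11209 F121727) (tt N15136 D31063) (tt N11140 (iv D27289)) (tt N11293 F121728) (tt N15064 (iv F143659)))
theorem Q13124 : ∀ i, i < 13124 → P i := stepQ 13123 Q13123 (allL N13123 (tt N13123 F121729) (tt N14647 (iv F142173)) (tt N15135 (iv F144050)) (tt N11143 F121730) (tt N15136 (iv F144056)) (tt N11164 F121731) (tt N11141 (iv D27290)) (tt N15081 (iv F143763)) (tt N15137 D31064) (tt N15065 (iv F143664)))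
theorem Q13125 : ∀ i, i < 13125 → P i := stepQ 13124 Q13124 (allL N13124 (tt N13124 F121732) (tt N14648 (iv F142176)) (tt N11294 F121733) (tt N11144 F121734) (tt N11293 F121735) (tt N11174 F121736) (tt N15137 (iv F144062)) (tt N11142 F121737) (tt N11141 (iv D27291)) (tt N11300 (iv F121738)))
theorem Q13126 : ∀ i, i < 13126 → P i := stepQ 13125 Q13125 (allL N13125 (tt N13125 F121739) (tt N14649 (iv F142182)) (tt N15075 (iv F143723)) (tt N15137 (iv F144060)) (tt N15132 (iv F144034)) (tt N15138 D31065) (tt N11144 F121740) (tt N15083 (iv F143776)) (tt N11143 (iv D27292)) (tt N15139 D31066))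
theorem Q13127 : ∀ i, i < 13127 → P i := stepQ 13126 Q13126 (allL N13126 (tt N13126 F121741) (tt N14650 (iv F142184)) (tt N15076 (iv F143728)) (tt N11300 F121742) (tt N15133 (iv F144040)) (tt N11176 F121743) (tt N15139 (iv F144069)) (tt N11145 F121744) (tt N15068 (iv F143683)) (tt N11144 (iv D27293)))
theorem Q13128 : ∀ i, i < 13128 → P i := stepQ 13127 Q13127 (allL N13127 (tt N11147 F121745) (tt N13127 F121746) (tt N14651 (iv F142189)) (tt N15077 (iv F143736)) (tt N11214 F121747) (tt N15140 D31067) (tt N11146 (iv D27294)) (tt N15141 D31068) (tt N13127 F121748) (tt N11156 F121749))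
theorem Q13129 : ∀ i, i < 13129 → P i := stepQ 13128 Q13128 (allL N13128 (tt N15140 (iv F144070)) (tt N11148 F121750) (tt N14652 (iv F142194)) (tt N14881 (iv F142972)) (tt N14609 (iv F142009)) (tt N11147 (iv D27295)) (tt N14658 (iv F142218)) (tt N15142 D31069) (tt N14607 F142002) (tt N11157 F121751))
theorem Q13130 : ∀ i, i < 13130 → P i := stepQ 13129 Q13129 (allL N13129 (tt N15141 (iv F144073)) (tt N11149 F121752) (tt N14653 (iv F142197)) (tt N15078 (iv F143741)) (tt N11216 F121753) (tt N15142 (iv F144079)) (tt N15062 (iv F143643)) (tt N11147 (iv D27296)) (tt N13129 F121754) (tt N11158 F121755))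
theorem Q13131 : ∀ i, i < 13131 → P i := stepQ 13130 Q13130 (allL N13130 (tt N13130 F121756) (tt N15142 (iv F144078)) (tt N11151 F121757) (tt N15079 (iv F143748)) (tt N15074 (iv F143718)) (tt N11149 F121758) (tt N15143 D31070) (tt N11148 (iv D27297)) (tt N15072 (iv F143708)) (tt N11160 F121759))
theorem Q13132 : ∀ i, i < 13132 → P i := stepQ 13131 Q13131 (allL N13131 (tt N13131 F121760) (tt N14657 (iv F142209)) (tt N15074 (iv F143716)) (tt N11294 F121761) (tt N11151 F121762) (tt N11218 F121763) (tt N15144 D31071) (tt N11150 (iv D27298)) (tt N15071 (iv F143701)) (tt N11162 F121764))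
theorem Q13133 : ∀ i, i < 13133 → P i := stepQ 13132 Q13132 (allL N13132 (tt N13132 F121765) (tt N14659 (iv F142220)) (tt N15143 (iv F144082)) (tt N11153 F121766) (tt N15144 (iv F144086)) (tt N15065 (iv F143662)) (tt N11151 (iv D27299)) (tt N15073 (iv F143713)) (tt N15145 D31072) (tt N11164 F121767))
theorem Q13134 : ∀ i, i < 13134 → P i := stepQ 13133 Q13133 (allL N13133 (tt N13133 F121768) (tt N14660 (iv F142223)) (tt N15072 (iv F143704)) (tt N11154 F121769) (tt N15071 (iv F143699)) (tt N13133 F121770) (tt N15145 (iv F144090)) (tt N11152 F121771) (tt N11151 (iv D27300)) (tt N15119 (iv F143966)))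
theorem Q13135 : ∀ i, i < 13135 → P i := stepQ 13134 Q13134 (allL N13134 (tt N13134 F121772) (tt N14662 (iv F142233)) (tt N15083 (iv F143773)) (tt N15145 (iv F144089)) (tt N11298 F121773) (tt N15146 D31073) (tt N11154 F121774) (tt N15075 (iv F143726)) (tt N11153 (iv D27301)) (tt N15147 D31074))
theorem Q13136 : ∀ i, i < 13136 → P i := stepQ 13135 Q13135 (allL N13135 (tt N13135 F121775) (tt N14663 (iv F142236)) (tt N15084 (iv F143778)) (tt N15119 (iv F143962)) (tt N11299 F121776) (tt N13135 F121777) (tt N15147 (iv F144095)) (tt N11155 F121778) (tt N11168 F121779) (tt N11154 (iv D27302)))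
theorem Q13137 : ∀ i, i < 13137 → P i := stepQ 13136 Q13136 (allL N13136 (tt N11157 F121780) (tt N13136 F121781) (tt N14664 (iv F142242)) (tt N15085 (iv F143786)) (tt N15148 D31075) (tt N11156 (iv D27303)) (tt N15116 (iv F143953)) (tt N15149 D31076) (tt N15150 D31077) (tt N15140 (iv F144072)))
theorem Q13138 : ∀ i, i < 13138 → P i := stepQ 13137 Q13137 (allL N13137 (tt N11158 F121782) (tt N13137 F121783) (tt N14665 (iv F142244)) (tt N15086 (iv F143789)) (tt N11223 F121784) (tt N15149 (iv F144102)) (tt N15134 (iv F144047)) (tt N11156 (iv D27304)) (tt N11178 F121785) (tt N15141 (iv F144077)))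
theorem Q13139 : ∀ i, i < 13139 → P i := stepQ 13138 Q13138 (allL N13138 (tt N15148 (iv F144097)) (tt N11159 F121786) (tt N14666 (iv F142248)) (tt N14612 (iv F142023)) (tt N11157 (iv D27305)) (tt N11224 F121787) (tt N14661 (iv F142231)) (tt N15151 D31078) (tt N14623 (iv F142069)) (tt N14609 F142012))
theorem Q13140 : ∀ i, i < 13140 → P i := stepQ 13139 Q13139 (allL N13139 (tt N15149 (iv F144100)) (tt N11160 F121788) (tt N14667 (iv F142251)) (tt N15087 (iv F143793)) (tt N15151 (iv F144107)) (tt N11158 F121789) (tt N15152 D31079) (tt N11157 (iv D27306)) (tt N15153 D31080) (tt N15142 (iv F144080)))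
theorem Q13141 : ∀ i, i < 13141 → P i := stepQ 13140 Q13140 (allL N13140 (tt N15150 (iv F144103)) (tt N11161 F121790) (tt N14668 (iv F142254)) (tt N14898 (iv F143035)) (tt N14623 (iv F142066)) (tt N11180 F121791) (tt N14677 (iv F142282)) (tt N15153 (iv F144112)) (tt N11157 (iv D27307)) (tt N14620 (iv F142055)))
theorem Q13142 : ∀ i, i < 13142 → P i := stepQ 13141 Q13141 (allL N13141 (tt N13141 F121792) (tt N15151 (iv F144106)) (tt N11162 F121793) (tt N15076 (iv F143729)) (tt N11160 F121794) (tt N11226 F121795) (tt N15154 D31081) (tt N11159 (iv D27308)) (tt N15125 (iv F143998)) (tt N15074 F143721))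
theorem Q13143 : ∀ i, i < 13143 → P i := stepQ 13142 Q13142 (allL N13142 (tt N13142 F121796) (tt N15152 (iv F144109)) (tt N11164 F121797) (tt N15089 (iv F143804)) (tt N15154 (iv F144115)) (tt N15135 (iv F144052)) (tt N11160 (iv D27309)) (tt N15120 (iv F143969)) (tt N15155 D31082) (tt N15143 (iv F144083)))
theorem Q13144 : ∀ i, i < 13144 → P i := stepQ 13143 Q13143 (allL N13143 (tt N13143 F121798) (tt N15153 (iv F144110)) (tt N11165 F121799) (tt N15090 (iv F143807)) (tt N15125 (iv F143995)) (tt N11182 F121800) (tt N15155 (iv F144118)) (tt N11161 F121801) (tt N11160 (iv D27310)) (tt N15123 (iv F143986)))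
theorem Q13145 : ∀ i, i < 13145 → P i := stepQ 13144 Q13144 (allL N13144 (tt N13144 F121802) (tt N14675 (iv F142270)) (tt N15154 (iv F144114)) (tt N11302 F121803) (tt N11164 F121804) (tt N15156 D31083) (tt N11162 (iv D27311)) (tt N15122 (iv F143980)) (tt N15157 D31084) (tt N15144 (iv F144087)))
theorem Q13146 : ∀ i, i < 13146 → P i := stepQ 13145 Q13145 (allL N13145 (tt N13145 F121805) (tt N14676 (iv F142273)) (tt N15125 (iv F143993)) (tt N11303 F121806) (tt N11165 F121807) (tt N13145 F121808) (tt N15157 (iv F144125)) (tt N11163 F121809) (tt N11162 (iv D27312)) (tt N15121 (iv F143976)))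
theorem Q13147 : ∀ i, i < 13147 → P i := stepQ 13146 Q13146 (allL N13146 (tt N13146 F121810) (tt N14678 (iv F142284)) (tt N15155 (iv F144117)) (tt N11167 F121811) (tt N15157 (iv F144124)) (tt N15158 D31085) (tt N11165 F121812) (tt N15124 (iv F143991)) (tt N11164 (iv D27313)) (tt N15159 D31086))
theorem Q13148 : ∀ i, i < 13148 → P i := stepQ 13147 Q13147 (allL N13147 (tt N13147 F121813) (tt N14679 (iv F142287)) (tt N15123 (iv F143982)) (tt N11168 F121814) (tt N15121 (iv F143973)) (tt N11185 F121815) (tt N15159 (iv F144131)) (tt N11166 F121816) (tt N15119 (iv F143965)) (tt N11165 (iv D27314)))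
theorem Q13149 : ∀ i, i < 13149 → P i := stepQ 13148 Q13148 (allL N13148 (tt N13148 F121817) (tt N14680 (iv F142291)) (tt N15094 (iv F143828)) (tt N15158 (iv F144127)) (tt N15160 D31087) (tt N11167 (iv D27315)) (tt N11186 F121818) (tt N15126 (iv F144001)) (tt N15138 (iv F144066)) (tt N15161 D31088))
theorem Q13150 : ∀ i, i < 13150 → P i := stepQ 13149 Q13149 (allL N13149 (tt N13149 F121819) (tt N14681 (iv F142293)) (tt N15095 (iv F143832)) (tt N15159 (iv F144130)) (tt N11307 F121820) (tt N15161 (iv F144137)) (tt N11168 F121821) (tt N15127 (iv F144005)) (tt N15147 (iv F144096)) (tt N11167 (iv D27316)))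
theorem Q13151 : ∀ i, i < 13151 → P i := stepQ 13150 Q13150 (allL N13150 (tt N11170 F121822) (tt N13150 F121823) (tt N14220 (iv F140560)) (tt N15096 (iv F143837)) (tt N11229 F121824) (tt N13997 F139409) (tt N11178 F121825) (tt N11169 (iv D27317)) (tt N15134 (iv F144048)) (tt N13150 F121826))
theorem Q13152 : ∀ i, i < 13152 → P i := stepQ 13151 Q13151 (allL N13151 (tt N13151 F121827) (tt N14959 (iv F143243)) (tt N11173 F121828) (tt N15097 (iv F143843)) (tt N11318 F121829) (tt N11181 F121830) (tt N11171 (iv D27318)) (tt N13151 F121831) (tt N11317 F121832) (tt N13151 F121833))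
theorem Q13153 : ∀ i, i < 13153 → P i := stepQ 13152 Q13152 (allL N13152 (tt N13152 F121834) (tt N14684 (iv F142305)) (tt N11318 F121835) (tt N13152 F121836) (tt N11173 F121837) (tt N13152 F121838) (tt N11172 (iv D27319)) (tt N13152 F121839) (tt N11189 F135528) (tt N13152 F121841))
theorem Q13154 : ∀ i, i < 13154 → P i := stepQ 13153 Q13153 (allL N13153 (tt N13153 F121842) (tt N14685 (iv F142312)) (tt N11317 F121843) (tt N11175 F121844) (tt N11189 F135526) (tt N15162 D31089) (tt N11174 F121846) (tt N13153 F121847) (tt N11173 (iv D27320)) (tt N11188 F135527))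
theorem Q13155 : ∀ i, i < 13155 → P i := stepQ 13154 Q13154 (allL N13154 (tt N13154 F121849) (tt N14686 (iv F142318)) (tt N15100 (iv F143864)) (tt N15162 (iv F144141)) (tt N15163 D31090) (tt N11175 (iv D27321)) (tt N15138 (iv F144065)) (tt N13154 F121850) (tt N11186 F121851) (tt N15164 D31091))
theorem Q13156 : ∀ i, i < 13156 → P i := stepQ 13155 Q13155 (allL N13155 (tt N13155 F121852) (tt N14687 (iv F142321)) (tt N15101 (iv F143869)) (tt N11188 F135524) (tt N13155 F121854) (tt N15164 (iv F144153)) (tt N11176 F121855) (tt N13155 F121856) (tt N13155 F121857) (tt N11175 (iv D27322)))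
theorem Q13157 : ∀ i, i < 13157 → P i := stepQ 13156 Q13156 (allL N13156 (tt N11179 F121858) (tt N13156 F121859) (tt N14688 (iv F142328)) (tt N15103 (iv F143884)) (tt N13156 F121860) (tt N11178 F121861) (tt N15165 D31092) (tt N11177 (iv D27323)) (tt N15166 D31093) (tt N13156 F121862))
theorem Q13158 : ∀ i, i < 13158 → P i := stepQ 13157 Q13157 (allL N13157 (tt N11180 F121863) (tt N13157 F121864) (tt N14689 (iv F142333)) (tt N15104 (iv F143889)) (tt N13157 F121865) (tt N15150 (iv F144105)) (tt N13157 F121866) (tt N15166 (iv F144163)) (tt N11177 (iv D27324)) (tt N15167 D31094))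
theorem Q13159 : ∀ i, i < 13159 → P i := stepQ 13158 Q13158 (allL N13158 (tt N15165 (iv F144155)) (tt N11181 F121867) (tt N14690 (iv F142337)) (tt N15106 (iv F143899)) (tt N13158 F121868) (tt N14959 F143248) (tt N11179 (iv D27325)) (tt N13158 F121869) (tt N15168 D31095) (tt N13158 F121870))
theorem Q13160 : ∀ i, i < 13160 → P i := stepQ 13159 Q13159 (allL N13159 (tt N15166 (iv F144160)) (tt N11182 F121871) (tt N14691 (iv F142342)) (tt N15107 (iv F143903)) (tt N13159 F121872) (tt N15153 (iv F144111)) (tt N15168 (iv F144171)) (tt N11180 F121873) (tt N11179 (iv D27326)) (tt N15169 D31096))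
theorem Q13161 : ∀ i, i < 13161 → P i := stepQ 13160 Q13160 (allL N13160 (tt N15167 (iv F144164)) (tt N11183 F121874) (tt N14692 (iv F142346)) (tt N14897 (iv F143029)) (tt N13160 F121875) (tt N14620 F142056) (tt N13160 F121876) (tt N15169 (iv F144175)) (tt N13160 F121877) (tt N11180 (iv D27327)))
theorem Q13162 : ∀ i, i < 13162 → P i := stepQ 13161 Q13161 (allL N13161 (tt N13161 F121878) (tt N15168 (iv F144169)) (tt N11184 F121879) (tt N15109 (iv F143915)) (tt N13161 F121880) (tt N15170 D31097) (tt N11182 F121881) (tt N13161 F121882) (tt N11181 (iv D27328)) (tt N15171 D31098))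
theorem Q13163 : ∀ i, i < 13163 → P i := stepQ 13162 Q13162 (allL N13162 (tt N13162 F121883) (tt N15169 (iv F144173)) (tt N11185 F121884) (tt N15110 (iv F143921)) (tt N13162 F121885) (tt N15123 F143987) (tt N15171 (iv F144184)) (tt N11183 F121886) (tt N13162 F121887) (tt N11182 (iv D27329)))
theorem Q13164 : ∀ i, i < 13164 → P i := stepQ 13163 Q13163 (allL N13163 (tt N13163 F121888) (tt N14695 (iv F142358)) (tt N15170 (iv F144178)) (tt N11186 F121889) (tt N15172 D31099) (tt N11184 (iv D27330)) (tt N15158 (iv F144128)) (tt N13163 F121890) (tt N15162 (iv F144144)) (tt N15173 D31100))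
theorem Q13165 : ∀ i, i < 13165 → P i := stepQ 13164 Q13164 (allL N13164 (tt N13164 F121891) (tt N14696 (iv F142361)) (tt N15171 (iv F144182)) (tt N11187 F121892) (tt N13164 F121893) (tt N15173 (iv F144193)) (tt N11185 F121894) (tt N13164 F121895) (tt N13164 F121896) (tt N11184 (iv D27331)))
theorem Q13166 : ∀ i, i < 13166 → P i := stepQ 13165 Q13165 (allL N13165 (tt N13165 F121897) (tt N14697 (iv F142367)) (tt N11319 F135525) (tt N15164 (iv F144152)) (tt N11186 (iv D27332)) (tt N11188 F121898) (tt N15160 (iv F144135)) (tt N13165 F121899) (tt N15163 (iv F144150)) (tt N15162 (iv F144145)))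
theorem Q13167 : ∀ i, i < 13167 → P i := stepQ 13166 Q13166 (allL N13166 (tt N13166 F121900) (tt N14698 (iv F142370)) (tt N15114 (iv F143941)) (tt N15173 (iv F144192)) (tt N15162 (iv F144142)) (tt N11187 F121901) (tt N15161 (iv F144138)) (tt N13166 F121902) (tt N15172 (iv F144190)) (tt N11186 (iv D27333)))
theorem Q13168 : ∀ i, i < 13168 → P i := stepQ 13167 Q13167 (allL N13167 (tt N13167 F121962) (tt N13328 (iv F135981)) (tt N13167 F121963) (tt N13280 (iv F135662)) (tt N11204 F121964) (tt N11311 F121965) (tt N11191 (iv D27344)) (tt N13167 F121966) (tt N13279 (iv F135658)) (tt N11195 F121967))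
theorem Q13169 : ∀ i, i < 13169 → P i := stepQ 13168 Q13168 (allL N13168 (tt N13168 F121999) (tt N14699 (iv F142373)) (tt N11336 F122000) (tt N11209 F122001) (tt N11194 F122002) (tt N15129 (iv F144017)) (tt N15174 D31101) (tt N11193 (iv D27351)) (tt N11334 F135566) (tt N11330 F135567))
theorem Q13170 : ∀ i, i < 13170 → P i := stepQ 13169 Q13169 (allL N13169 (tt N13169 F122004) (tt N14700 (iv F142378)) (tt N13282 (iv F135678)) (tt N11195 F122005) (tt N15174 (iv F144198)) (tt N11316 F122006) (tt N11194 (iv D27352)) (tt N13169 F122007) (tt N13298 (iv F135787)) (tt N13280 F135667))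
theorem Q13171 : ∀ i, i < 13171 → P i := stepQ 13170 Q13170 (allL N13170 (tt N13170 F122015) (tt N14701 (iv F142382)) (tt N13170 F122016) (tt N13298 (iv F135783)) (tt N11212 F122017) (tt N15115 (iv F143948)) (tt N11196 F122018) (tt N13170 F122019) (tt N11195 (iv D27354)) (tt N13296 (iv F135774)))
theorem Q13172 : ∀ i, i < 13172 → P i := stepQ 13171 Q13171 (allL N13171 (tt N11198 F122026) (tt N13171 F122027) (tt N14223 (iv F140579)) (tt N13171 F122028) (tt N15061 (iv F143637)) (tt N14079 (iv F139856)) (tt N11197 (iv D27356)) (tt N15175 D31102) (tt N13171 F122029) (tt N11206 F122030))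
theorem Q13173 : ∀ i, i < 13173 → P i := stepQ 13172 Q13172 (allL N13172 (tt N15175 (iv F144202)) (tt N11200 F122031) (tt N14702 (iv F142387)) (tt N13172 F122032) (tt N15062 (iv F143642)) (tt N14994 (iv F143374)) (tt N11216 F122033) (tt N11198 (iv D27357)) (tt N13172 F122034) (tt N11207 F122035))
theorem Q13174 : ∀ i, i < 13174 → P i := stepQ 13173 Q13173 (allL N13173 (tt N13173 F122036) (tt N14994 (iv F143371)) (tt N11202 F122037) (tt N13173 F122038) (tt N11344 F122039) (tt N11200 F122040) (tt N15176 D31103) (tt N11199 (iv D27358)) (tt N11349 F122041) (tt N11208 F122042))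
theorem Q13175 : ∀ i, i < 13175 → P i := stepQ 13174 Q13174 (allL N13174 (tt N13174 F122043) (tt N14705 (iv F142399)) (tt N11344 F122044) (tt N11330 F135087) (tt N11202 F122045) (tt N15064 (iv F143657)) (tt N15177 D31104) (tt N11201 (iv D27359)) (tt N11328 F135088) (tt N11209 F122047))
theorem Q13176 : ∀ i, i < 13176 → P i := stepQ 13175 Q13175 (allL N13175 (tt N13175 F122048) (tt N14706 (iv F142404)) (tt N15176 (iv F144209)) (tt N11204 F122049) (tt N15177 (iv F144219)) (tt N11219 F122050) (tt N11202 (iv D27360)) (tt N13175 F122051) (tt N15178 D31105) (tt N11210 F122052))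
theorem Q13177 : ∀ i, i < 13177 → P i := stepQ 13176 Q13176 (allL N13176 (tt N13176 F122053) (tt N14707 (iv F142409)) (tt N11349 F122054) (tt N11205 F122055) (tt N11328 F135084) (tt N13176 F122057) (tt N15178 (iv F144227)) (tt N11203 F122058) (tt N11202 (iv D27361)) (tt N11331 F135085))
theorem Q13178 : ∀ i, i < 13178 → P i := stepQ 13177 Q13177 (allL N13177 (tt N13177 F122060) (tt N14708 (iv F142415)) (tt N13177 F122061) (tt N15178 (iv F144225)) (tt N13279 (iv F135655)) (tt N15179 D31106) (tt N11205 F122062) (tt N13177 F122063) (tt N11204 (iv D27362)) (tt N13295 (iv F135767)))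
theorem Q13179 : ∀ i, i < 13179 → P i := stepQ 13178 Q13178 (allL N13178 (tt N11207 F122070) (tt N13178 F122071) (tt N14222 (iv F140572)) (tt N13178 F122072) (tt N15134 (iv F144046)) (tt N14078 (iv F139849)) (tt N11223 F122073) (tt N11206 (iv D27364)) (tt N11229 F122074) (tt N15175 (iv F144207)))
theorem Q13180 : ∀ i, i < 13180 → P i := stepQ 13179 Q13179 (allL N13179 (tt N13179 F122075) (tt N14993 (iv F143365)) (tt N11210 F122076) (tt N13179 F122077) (tt N11343 F122078) (tt N11227 F122079) (tt N11208 (iv D27365)) (tt N13179 F122080) (tt N11342 F122081) (tt N15176 (iv F144215)))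
theorem Q13181 : ∀ i, i < 13181 → P i := stepQ 13180 Q13180 (allL N13180 (tt N13180 F122082) (tt N14712 (iv F142428)) (tt N11343 F122083) (tt N15174 (iv F144197)) (tt N11210 F122084) (tt N15180 D31107) (tt N11209 (iv D27366)) (tt N13180 F122085) (tt N11341 F122086) (tt N15177 (iv F144222)))
theorem Q13182 : ∀ i, i < 13182 → P i := stepQ 13181 Q13181 (allL N13181 (tt N13181 F122087) (tt N14713 (iv F142432)) (tt N11342 F122088) (tt N11212 F122089) (tt N11341 F122090) (tt N13181 F122091) (tt N11211 F122092) (tt N13181 F122093) (tt N11210 (iv D27367)) (tt N11347 (iv F122094)))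
theorem Q13183 : ∀ i, i < 13183 → P i := stepQ 13182 Q13182 (allL N13182 (tt N13182 F122095) (tt N14714 (iv F142439)) (tt N13182 F122096) (tt N11347 F122097) (tt N13296 (iv F135771)) (tt N13182 F122098) (tt N11213 F122099) (tt N13182 F122100) (tt N13295 (iv F135766)) (tt N11212 (iv D27368)))
theorem Q13184 : ∀ i, i < 13184 → P i := stepQ 13183 Q13183 (allL N13183 (tt N11215 F122101) (tt N13183 F122102) (tt N14715 (iv F142445)) (tt N13183 F122103) (tt N15035 (iv F143527)) (tt N11214 (iv D27369)) (tt N13183 F122104) (tt N15181 D31108) (tt N15033 F143518) (tt N11222 F122105))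
theorem Q13185 : ∀ i, i < 13185 → P i := stepQ 13184 Q13184 (allL N13184 (tt N11216 F122106) (tt N13184 F122107) (tt N14716 (iv F142449)) (tt N13184 F122108) (tt N15141 (iv F144075)) (tt N15181 (iv F144244)) (tt N15175 (iv F144205)) (tt N11214 (iv D27370)) (tt N13184 F122109) (tt N11223 F122110))
theorem Q13186 : ∀ i, i < 13186 → P i := stepQ 13185 Q13185 (allL N13185 (tt N15181 (iv F144241)) (tt N11217 F122111) (tt N14718 (iv F142458)) (tt N13185 F122112) (tt N15054 (iv F143607)) (tt N11216 F122113) (tt N15182 D31109) (tt N11215 (iv D27371)) (tt N15052 (iv F143598)) (tt N11225 F122114))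
theorem Q13187 : ∀ i, i < 13187 → P i := stepQ 13186 Q13186 (allL N13186 (tt N13186 F122115) (tt N15182 (iv F144246)) (tt N11219 F122116) (tt N13186 F122117) (tt N15099 (iv F143859)) (tt N15176 (iv F144212)) (tt N11217 (iv D27372)) (tt N13186 F122118) (tt N15098 (iv F143854)) (tt N11227 F122119))
theorem Q13188 : ∀ i, i < 13188 → P i := stepQ 13187 Q13187 (allL N13187 (tt N13187 F122120) (tt N14725 (iv F142486)) (tt N15099 (iv F143857)) (tt N11317 F122121) (tt N11219 F122122) (tt N15183 D31110) (tt N11218 (iv D27373)) (tt N13187 F122123) (tt N15097 (iv F143847)) (tt N11228 F122124))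
theorem Q13189 : ∀ i, i < 13189 → P i := stepQ 13188 Q13188 (allL N13188 (tt N13188 F122125) (tt N14727 (iv F142497)) (tt N15098 (iv F143850)) (tt N11221 F122126) (tt N15097 (iv F143844)) (tt N15184 D31111) (tt N11220 F122127) (tt N13188 F122128) (tt N11219 (iv D27374)) (tt N13188 F122129))
theorem Q13190 : ∀ i, i < 13190 → P i := stepQ 13189 Q13189 (allL N13189 (tt N13189 F122130) (tt N14728 (iv F142502)) (tt N13189 F122131) (tt N15184 (iv F144255)) (tt N13189 F122132) (tt N11221 (iv D27375)) (tt N13189 F122133) (tt N13189 F122134) (tt N15179 (iv F144235)) (tt N13189 F122135))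
theorem Q13191 : ∀ i, i < 13191 → P i := stepQ 13190 Q13190 (allL N13190 (tt N11224 F122136) (tt N13190 F122137) (tt N14729 (iv F142508)) (tt N15038 (iv F143542)) (tt N11222 (iv D27376)) (tt N15148 (iv F144099)) (tt N13190 F122138) (tt N15185 D31112) (tt N13190 F122139) (tt N15035 F143529))
theorem Q13192 : ∀ i, i < 13192 → P i := stepQ 13191 Q13191 (allL N13191 (tt N11225 F122140) (tt N13191 F122141) (tt N14730 (iv F142512)) (tt N13191 F122142) (tt N15185 (iv F144261)) (tt N11223 F122143) (tt N15186 D31113) (tt N11222 (iv D27377)) (tt N13191 F122144) (tt N15181 (iv F144245)))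
theorem Q13193 : ∀ i, i < 13193 → P i := stepQ 13192 Q13192 (allL N13192 (tt N15185 (iv F144259)) (tt N11226 F122145) (tt N14732 (iv F142519)) (tt N15056 (iv F143615)) (tt N11225 F122146) (tt N15151 (iv F144108)) (tt N15187 D31114) (tt N11224 (iv D27378)) (tt N13192 F122147) (tt N15054 F143609))
theorem Q13194 : ∀ i, i < 13194 → P i := stepQ 13193 Q13193 (allL N13193 (tt N15186 (iv F144263)) (tt N11227 F122148) (tt N14733 (iv F142523)) (tt N13193 F122149) (tt N15187 (iv F144269)) (tt N14993 F143370) (tt N11225 (iv D27379)) (tt N13193 F122150) (tt N13193 F122151) (tt N15182 (iv F144249)))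
theorem Q13195 : ∀ i, i < 13195 → P i := stepQ 13194 Q13194 (allL N13194 (tt N13194 F122152) (tt N15187 (iv F144268)) (tt N11228 F122153) (tt N15101 (iv F143870)) (tt N11227 F122154) (tt N15188 D31115) (tt N11226 (iv D27380)) (tt N13194 F122155) (tt N13194 F122156) (tt N15099 F143862))
theorem Q13196 : ∀ i, i < 13196 → P i := stepQ 13195 Q13195 (allL N13195 (tt N13195 F122157) (tt N14736 (iv F142533)) (tt N15188 (iv F144273)) (tt N11319 F122158) (tt N15180 (iv F144238)) (tt N11228 (iv D27381)) (tt N15156 (iv F144121)) (tt N13195 F122159) (tt N15189 D31116) (tt N15183 (iv F144253)))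
theorem Q13197 : ∀ i, i < 13197 → P i := stepQ 13196 Q13196 (allL N13196 (tt N11235 F122179) (tt N13196 F122180) (tt N14739 (iv F142544)) (tt N13942 (iv F139140)) (tt N13603 (iv F137499)) (tt N11231 F122181) (tt N15190 D31117) (tt N11230 (iv D27386)) (tt N14388 (iv F141158)) (tt N11232 F122182))
theorem Q13198 : ∀ i, i < 13198 → P i := stepQ 13197 Q13197 (allL N13197 (tt N11237 F122211) (tt N13197 F122212) (tt N14742 (iv F142552)) (tt N13941 (iv F139136)) (tt N15028 (iv F143492)) (tt N14253 (iv F140685)) (tt N11232 (iv D27395)) (tt N14254 (iv F140690)) (tt N13940 (iv F139132)) (tt N15190 (iv F144284)))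
theorem Q13199 : ∀ i, i < 13199 → P i := stepQ 13198 Q13198 (allL N13198 (tt N14254 (iv F140687)) (tt N11245 F122407) (tt N14748 (iv F142571)) (tt N14874 (iv F142944)) (tt N14639 (iv F142141)) (tt N13323 (iv F135950)) (tt N11233 (iv D27441)) (tt N11237 F122408) (tt N14873 (iv F142942)) (tt N14630 (iv F142100)))
theorem Q13200 : ∀ i, i < 13200 → P i := stepQ 13199 Q13199 (allL N13199 (tt N14253 (iv F140682)) (tt N11256 F122436) (tt N14755 (iv F142595)) (tt N14913 (iv F143090)) (tt N13410 (iv F136432)) (tt N11237 F122437) (tt N11234 (iv D27451)) (tt N13323 (iv F135951)) (tt N14939 (iv F143172)) (tt N14871 (iv F142933)))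
theorem Q13201 : ∀ i, i < 13201 → P i := stepQ 13200 Q13200 (allL N13200 (tt N15190 (iv F144282)) (tt N11263 F122468) (tt N14764 (iv F142626)) (tt N14914 (iv F143094)) (tt N14601 (iv F141970)) (tt N14871 (iv F142931)) (tt N11235 (iv D27461)) (tt N14630 (iv F142099)) (tt N15191 D31118) (tt N11237 F122469))
theorem Q13202 : ∀ i, i < 13202 → P i := stepQ 13201 Q13201 (allL N13201 (tt N14388 (iv F141153)) (tt N11264 F122470) (tt N14765 (iv F142629)) (tt N13421 (iv F136491)) (tt N14602 (iv F141975)) (tt N11327 F122471) (tt N15191 (iv F144286)) (tt N11236 F122472) (tt N11235 (iv D27462)) (tt N13419 (iv F136485)))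
theorem Q13203 : ∀ i, i < 13203 → P i := stepQ 13202 Q13202 (allL N13202 (tt N13202 F122718) (tt N13322 (iv F135942)) (tt N11284 F135450) (tt N11240 F122719) (tt N15093 (iv F143823)) (tt N11239 F122720) (tt N15192 D31119) (tt N11238 (iv D27529)) (tt N11280 F135451) (tt N11289 F122721))
theorem Q13204 : ∀ i, i < 13204 → P i := stepQ 13203 Q13203 (allL N13203 (tt N13203 F122726) (tt N13323 (iv F135948)) (tt N11270 F122727) (tt N15192 (iv F144289)) (tt N11291 F122728) (tt N11245 F122729) (tt N11240 (iv D27531)) (tt N11256 F122730) (tt N15193 D31120) (tt N11290 F122731))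
theorem Q13205 : ∀ i, i < 13205 → P i := stepQ 13204 Q13204 (allL N13204 (tt N13204 F122732) (tt N13324 (iv F135954)) (tt N11244 F135456) (tt N11280 F135457) (tt N11292 F122734) (tt N11242 F135458) (tt N15193 (iv F144299)) (tt N11241 F122736) (tt N11240 (iv D27532)) (tt N15128 (iv F144012)))
theorem Q13206 : ∀ i, i < 13206 → P i := stepQ 13205 Q13205 (allL N13205 (tt N13205 F122771) (tt N14872 (iv F142934)) (tt N11292 F135482) (tt N15064 (iv F143655)) (tt N11244 F122772) (tt N11330 F135483) (tt N15194 D31121) (tt N11243 (iv D27540)) (tt N11253 F135484) (tt N15129 (iv F144019)))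
theorem Q13207 : ∀ i, i < 13207 → P i := stepQ 13206 Q13206 (allL N13206 (tt N13206 F122780) (tt N14874 (iv F142943)) (tt N15193 (iv F144295)) (tt N11245 F122781) (tt N15194 (iv F144303)) (tt N15192 (iv F144290)) (tt N11244 (iv D27542)) (tt N11267 F122782) (tt N11270 F135495) (tt N15130 (iv F144024)))
theorem Q13208 : ∀ i, i < 13208 → P i := stepQ 13207 Q13207 (allL N13207 (tt N13207 F122794) (tt N14873 (iv F142938)) (tt N11286 F122795) (tt N11270 F135502) (tt N15067 (iv F143674)) (tt N11283 F135503) (tt N11246 F122796) (tt N11268 F122797) (tt N11245 (iv D27545)) (tt N15195 D31122))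
theorem Q13209 : ∀ i, i < 13209 → P i := stepQ 13208 Q13208 (allL N13208 (tt N13208 F122798) (tt N13408 (iv F136419)) (tt N11287 F122799) (tt N11249 F135470) (tt N15068 (iv F143680)) (tt N11248 F135471) (tt N15195 (iv F144310)) (tt N11247 F122801) (tt N15133 (iv F144043)) (tt N11246 (iv D27546)))
theorem Q13210 : ∀ i, i < 13210 → P i := stepQ 13209 Q13209 (allL N13209 (tt N13209 F122839) (tt N13410 (iv F136431)) (tt N11290 F122840) (tt N15195 (iv F144308)) (tt N11256 F122841) (tt N11276 F122842) (tt N11249 (iv D27554)) (tt N11291 F122843) (tt N15196 D31123) (tt N11270 F122844))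
theorem Q13211 : ∀ i, i < 13211 → P i := stepQ 13210 Q13210 (allL N13210 (tt N13210 F122845) (tt N13411 (iv F136437)) (tt N11266 F135473) (tt N15133 (iv F144039)) (tt N11257 F122847) (tt N13210 F122848) (tt N15196 (iv F144315)) (tt N11250 F122849) (tt N11249 (iv D27555)) (tt N15131 (iv F144031)))
theorem Q13212 : ∀ i, i < 13212 → P i := stepQ 13211 Q13211 (allL N13211 (tt N13211 F122885) (tt N14870 (iv F142925)) (tt N11306 F135090) (tt N11253 F122886) (tt N15066 (iv F143668)) (tt N11252 F122887) (tt N15197 D31124) (tt N11251 (iv D27562)) (tt N15064 (iv F143658)) (tt N11255 F122888))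
theorem Q13213 : ∀ i, i < 13213 → P i := stepQ 13212 Q13212 (allL N13212 (tt N13212 F122893) (tt N14871 (iv F142929)) (tt N11291 F122894) (tt N15197 (iv F144319)) (tt N11270 F122895) (tt N11263 F122896) (tt N11253 (iv D27564)) (tt N11290 F122897) (tt N15194 (iv F144305)) (tt N11256 F122898))
theorem Q13214 : ∀ i, i < 13214 → P i := stepQ 13213 Q13213 (allL N13213 (tt N13213 F122933) (tt N14943 (iv F143181)) (tt N11303 F135466) (tt N15068 (iv F143679)) (tt N11255 F122934) (tt N13213 F122935) (tt N15198 D31125) (tt N11254 (iv D27573)) (tt N11300 F135467) (tt N15066 (iv F143671)))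
theorem Q13215 : ∀ i, i < 13215 → P i := stepQ 13214 Q13214 (allL N13214 (tt N13214 F122938) (tt N14913 (iv F143089)) (tt N11305 F135468) (tt N11256 F122939) (tt N15198 (iv F144325)) (tt N11267 F122940) (tt N11255 (iv D27575)) (tt N15192 (iv F144291)) (tt N11301 F135469) (tt N15197 (iv F144322)))
theorem Q13216 : ∀ i, i < 13216 → P i := stepQ 13215 Q13215 (allL N13215 (tt N13215 F122948) (tt N14939 (iv F143169)) (tt N11267 F135476) (tt N11301 F135477) (tt N15196 (iv F144314)) (tt N11305 F135462) (tt N11257 F122950) (tt N15193 (iv F144300)) (tt N11256 (iv D27578)) (tt N15199 D31126))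
theorem Q13217 : ∀ i, i < 13217 → P i := stepQ 13216 Q13216 (allL N13216 (tt N13216 F122951) (tt N14944 (iv F143185)) (tt N11261 F135478) (tt N11293 F135479) (tt N15131 (iv F144028)) (tt N11259 F135480) (tt N15199 (iv F144331)) (tt N11258 F122954) (tt N15129 (iv F144018)) (tt N11257 (iv D27579)))
theorem Q13218 : ∀ i, i < 13218 → P i := stepQ 13217 Q13217 (allL N13217 (tt N13217 F122974) (tt N14911 (iv F143082)) (tt N15131 (iv F144026)) (tt N15080 (iv F143755)) (tt N11261 F122975) (tt N13217 F122976) (tt N15200 D31127) (tt N11260 (iv D27584)) (tt N15128 (iv F144011)) (tt N11266 F122977))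
theorem Q13219 : ∀ i, i < 13219 → P i := stepQ 13218 Q13218 (allL N13218 (tt N13218 F122978) (tt N14914 (iv F143093)) (tt N15199 (iv F144328)) (tt N11263 F122979) (tt N15200 (iv F144333)) (tt N15197 (iv F144320)) (tt N11261 (iv D27585)) (tt N15130 (iv F144023)) (tt N15201 D31128) (tt N11267 F122980))
theorem Q13220 : ∀ i, i < 13220 → P i := stepQ 13219 Q13219 (allL N13219 (tt N13219 F122981) (tt N13421 (iv F136490)) (tt N15129 (iv F144014)) (tt N11264 F122982) (tt N15128 (iv F144009)) (tt N11336 F122983) (tt N15201 (iv F144337)) (tt N11262 F122984) (tt N11261 (iv D27586)) (tt N11292 F135498))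
theorem Q13221 : ∀ i, i < 13221 → P i := stepQ 13220 Q13220 (allL N13220 (tt N13220 F122985) (tt N15191 (iv F144285)) (tt N11298 F122986) (tt N15201 (iv F144336)) (tt N15083 (iv F143774)) (tt N15202 D31129) (tt N11264 F122987) (tt N15132 (iv F144036)) (tt N11263 (iv D27587)) (tt N15203 D31130))
theorem Q13222 : ∀ i, i < 13222 → P i := stepQ 13221 Q13221 (allL N13221 (tt N13221 F122988) (tt N13419 (iv F136481)) (tt N11299 F122989) (tt N11292 F135506) (tt N15084 (iv F143780)) (tt N11338 F122990) (tt N15203 (iv F144345)) (tt N11265 F122991) (tt N11269 F122992) (tt N11264 (iv D27588)))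
theorem Q13223 : ∀ i, i < 13223 → P i := stepQ 13222 Q13222 (allL N13222 (tt N13222 F123021) (tt N14910 (iv F143079)) (tt N15196 (iv F144313)) (tt N15091 (iv F143813)) (tt N11267 F123022) (tt N15204 D31131) (tt N11266 (iv D27597)) (tt N15194 (iv F144304)) (tt N11290 F135497) (tt N15200 (iv F144334)))
theorem Q13224 : ∀ i, i < 13224 → P i := stepQ 13223 Q13223 (allL N13223 (tt N13223 F123043) (tt N13418 (iv F136476)) (tt N11307 F123044) (tt N11291 F135504) (tt N15095 (iv F143833)) (tt N11295 F135505) (tt N11269 F123045) (tt N15195 (iv F144311)) (tt N15203 (iv F144346)) (tt N11268 (iv D27603)))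
theorem Q13225 : ∀ i, i < 13225 → P i := stepQ 13224 Q13224 (allL N13224 (tt N13224 F123363) (tt N15022 (iv F143469)) (tt N11274 F123364) (tt N15128 (iv F144008)) (tt N15082 (iv F143768)) (tt N11272 F123365) (tt N15205 D31132) (tt N11271 (iv D27674)) (tt N15080 (iv F143758)) (tt N11280 F123366))
theorem Q13226 : ∀ i, i < 13226 → P i := stepQ 13225 Q13225 (allL N13225 (tt N13225 F123367) (tt N14880 (iv F142967)) (tt N15082 (iv F143766)) (tt N15072 (iv F143705)) (tt N11274 F123368) (tt N13225 F123369) (tt N15206 D31133) (tt N11273 (iv D27675)) (tt N15079 (iv F143751)) (tt N11281 F123370))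
theorem Q13227 : ∀ i, i < 13227 → P i := stepQ 13226 Q13226 (allL N13226 (tt N13226 F123371) (tt N14882 (iv F142977)) (tt N15205 (iv F144350)) (tt N11276 F123372) (tt N15206 (iv F144355)) (tt N15195 (iv F144309)) (tt N11274 (iv D27676)) (tt N11295 F123373) (tt N15207 D31134) (tt N11283 F123374))
theorem Q13228 : ∀ i, i < 13228 → P i := stepQ 13227 Q13227 (allL N13227 (tt N13227 F123375) (tt N14883 (iv F142981)) (tt N15080 (iv F143754)) (tt N11277 F123376) (tt N15079 (iv F143749)) (tt N13227 F123377) (tt N15207 (iv F144360)) (tt N11275 F123378) (tt N11274 (iv D27677)) (tt N15088 (iv F143801)))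
theorem Q13229 : ∀ i, i < 13229 → P i := stepQ 13228 Q13228 (allL N13228 (tt N13228 F123379) (tt N14885 (iv F142991)) (tt N15132 (iv F144033)) (tt N15207 (iv F144359)) (tt N15075 (iv F143724)) (tt N15208 D31135) (tt N11277 F123380) (tt N11298 F123381) (tt N11276 (iv D27678)) (tt N15209 D31136))
theorem Q13230 : ∀ i, i < 13230 → P i := stepQ 13229 Q13229 (allL N13229 (tt N13229 F123382) (tt N14886 (iv F142994)) (tt N15133 (iv F144038)) (tt N15088 (iv F143797)) (tt N15076 (iv F143730)) (tt N13229 F123383) (tt N15209 (iv F144366)) (tt N11278 F123384) (tt N11287 F123385) (tt N11277 (iv D27679)))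
theorem Q13231 : ∀ i, i < 13231 → P i := stepQ 13230 Q13230 (allL N13230 (tt N13230 F123401) (tt N15021 (iv F143466)) (tt N11281 F123402) (tt N15084 (iv F143779)) (tt N11280 F123403) (tt N13230 F123404) (tt N15210 D31137) (tt N11279 (iv D27685)) (tt N15093 (iv F143826)) (tt N15082 F143771))
theorem Q13232 : ∀ i, i < 13232 → P i := stepQ 13231 Q13231 (allL N13231 (tt N13231 F123405) (tt N14901 (iv F143048)) (tt N11283 F123406) (tt N15193 (iv F144296)) (tt N15210 (iv F144371)) (tt N11286 F135507) (tt N11280 (iv D27686)) (tt N11301 F123407) (tt N15192 (iv F144292)) (tt N15205 (iv F144353)))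
theorem Q13233 : ∀ i, i < 13233 → P i := stepQ 13232 Q13232 (allL N13232 (tt N13232 F123412) (tt N14895 (iv F143022)) (tt N15210 (iv F144370)) (tt N15122 (iv F143978)) (tt N11283 F123413) (tt N15211 D31138) (tt N11281 (iv D27688)) (tt N11302 F123414) (tt N15212 D31139) (tt N15206 (iv F144357)))
theorem Q13234 : ∀ i, i < 13234 → P i := stepQ 13233 Q13233 (allL N13233 (tt N13233 F123415) (tt N14896 (iv F143025)) (tt N15093 (iv F143821)) (tt N15123 (iv F143983)) (tt N11284 F123416) (tt N15110 (iv F143923)) (tt N15212 (iv F144378)) (tt N11282 F123417) (tt N11281 (iv D27689)) (tt N15090 (iv F143811)))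
theorem Q13235 : ∀ i, i < 13235 → P i := stepQ 13234 Q13234 (allL N13234 (tt N13234 F123418) (tt N14899 (iv F143040)) (tt N15192 (iv F144288)) (tt N11286 F123419) (tt N15212 (iv F144377)) (tt N15193 (iv F144298)) (tt N11284 F123420) (tt N11305 F123421) (tt N11283 (iv D27690)) (tt N15213 D31140))
theorem Q13236 : ∀ i, i < 13236 → P i := stepQ 13235 Q13235 (allL N13235 (tt N13235 F123422) (tt N14900 (iv F143044)) (tt N11289 F135516) (tt N11287 F123423) (tt N15090 (iv F143808)) (tt N11288 F135517) (tt N15213 (iv F144383)) (tt N11285 F123425) (tt N15088 (iv F143800)) (tt N11284 (iv D27691)))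
theorem Q13237 : ∀ i, i < 13237 → P i := stepQ 13236 Q13236 (allL N13236 (tt N13236 F123429) (tt N14902 (iv F143051)) (tt N15195 (iv F144307)) (tt N15213 (iv F144382)) (tt N15127 (iv F144003)) (tt N15205 (iv F144351)) (tt N11287 F123430) (tt N11307 F123431) (tt N15209 (iv F144368)) (tt N11286 (iv D27693)))
theorem Q13238 : ∀ i, i < 13238 → P i := stepQ 13237 Q13237 (allL N13237 (tt N13237 F123456) (tt N14908 (iv F143072)) (tt N15213 (iv F144381)) (tt N11290 F123457) (tt N15092 (iv F143818)) (tt N15130 (iv F144022)) (tt N11289 (iv D27702)) (tt N15197 (iv F144321)) (tt N15091 (iv F143815)) (tt N15192 (iv F144293)))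
theorem Q13239 : ∀ i, i < 13239 → P i := stepQ 13238 Q13238 (allL N13238 (tt N13238 F123514) (tt N13420 (iv F136487)) (tt N15194 (iv F144302)) (tt N15203 (iv F144344)) (tt N15193 (iv F144297)) (tt N15214 D31141) (tt N11292 F123515) (tt N15196 (iv F144316)) (tt N11291 (iv D27718)) (tt N15201 (iv F144338)))
theorem Q13240 : ∀ i, i < 13240 → P i := stepQ 13239 Q13239 (allL N13239 (tt N13239 F123585) (tt N14942 (iv F143178)) (tt N11295 F123586) (tt N15199 (iv F144329)) (tt N15137 (iv F144061)) (tt N11307 F135515) (tt N11293 (iv D27742)) (tt N15205 (iv F144352)) (tt N15136 (iv F144057)) (tt N11301 F123587))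
theorem Q13241 : ∀ i, i < 13241 → P i := stepQ 13240 Q13240 (allL N13240 (tt N13240 F123588) (tt N14920 (iv F143110)) (tt N15137 (iv F144059)) (tt N15144 (iv F144085)) (tt N11295 F123589) (tt N15215 D31142) (tt N11294 (iv D27743)) (tt N15206 (iv F144356)) (tt N15135 (iv F144053)) (tt N11302 F123590))
theorem Q13242 : ∀ i, i < 13242 → P i := stepQ 13241 Q13241 (allL N13241 (tt N13241 F123591) (tt N14923 (iv F143123)) (tt N15136 (iv F144055)) (tt N11298 F123592) (tt N15135 (iv F144051)) (tt N15216 D31143) (tt N11296 F123593) (tt N15207 (iv F144361)) (tt N11295 (iv D27744)) (tt N15217 D31144))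
theorem Q13243 : ∀ i, i < 13243 → P i := stepQ 13242 Q13242 (allL N13242 (tt N13242 F123594) (tt N14924 (iv F143126)) (tt N15064 (iv F143654)) (tt N11299 F123595) (tt N15063 (iv F143649)) (tt N11344 F123596) (tt N15217 (iv F144396)) (tt N11297 F123597) (tt N11306 F123598) (tt N11296 (iv D27745)))
theorem Q13244 : ∀ i, i < 13244 → P i := stepQ 13243 Q13243 (allL N13243 (tt N13243 F123599) (tt N14925 (iv F143131)) (tt N15202 (iv F144340)) (tt N15216 (iv F144392)) (tt N15218 D31145) (tt N11298 (iv D27746)) (tt N11345 F123600) (tt N15208 (iv F144364)) (tt N15214 (iv F144387)) (tt N15219 D31146))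
theorem Q13245 : ∀ i, i < 13245 → P i := stepQ 13244 Q13244 (allL N13244 (tt N13244 F123601) (tt N14926 (iv F143133)) (tt N15203 (iv F144343)) (tt N15217 (iv F144395)) (tt N15147 (iv F144094)) (tt N15219 (iv F144401)) (tt N11299 F123602) (tt N15209 (iv F144367)) (tt N11307 F123603) (tt N11298 (iv D27747)))
theorem Q13246 : ∀ i, i < 13246 → P i := stepQ 13245 Q13245 (allL N13245 (tt N13245 F123625) (tt N14941 (iv F143176)) (tt N11302 F123626) (tt N15139 (iv F144068)) (tt N11301 F123627) (tt N15160 (iv F144134)) (tt N11300 (iv D27756)) (tt N15210 (iv F144372)) (tt N15198 (iv F144326)) (tt N15137 F144063))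
theorem Q13247 : ∀ i, i < 13247 → P i := stepQ 13246 Q13246 (allL N13246 (tt N13246 F123640) (tt N14936 (iv F143160)) (tt N15160 (iv F144133)) (tt N15156 (iv F144120)) (tt N15094 (iv F143829)) (tt N11302 (iv D27760)) (tt N11319 F123641) (tt N15211 (iv F144375)) (tt N15220 D31147) (tt N15215 (iv F144390)))
theorem Q13248 : ∀ i, i < 13248 → P i := stepQ 13247 Q13247 (allL N13247 (tt N13247 F123642) (tt N14937 (iv F143162)) (tt N15198 (iv F144324)) (tt N15157 (iv F144123)) (tt N11305 F123643) (tt N15221 D31148) (tt N11303 F123644) (tt N15212 (iv F144379)) (tt N11302 (iv D27761)) (tt N15222 D31149))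
theorem Q13249 : ∀ i, i < 13249 → P i := stepQ 13248 Q13248 (allL N13248 (tt N13248 F123645) (tt N14938 (iv F143165)) (tt N15066 (iv F143666)) (tt N15121 (iv F143972)) (tt N11306 F123646) (tt N13248 F123647) (tt N15222 (iv F144409)) (tt N11304 F123648) (tt N15063 (iv F143651)) (tt N11303 (iv D27762)))
theorem Q13250 : ∀ i, i < 13250 → P i := stepQ 13249 Q13249 (allL N13249 (tt N13249 F123652) (tt N14940 (iv F143173)) (tt N15197 (iv F144318)) (tt N11307 F123653) (tt N15222 (iv F144408)) (tt N15199 (iv F144330)) (tt N11306 F123654) (tt N15213 (iv F144384)) (tt N15217 (iv F144397)) (tt N11305 (iv D27764)))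
theorem Q13251 : ∀ i, i < 13251 → P i := stepQ 13250 Q13250 (allL N13250 (tt N13250 F123846) (tt N13327 (iv F135974)) (tt N11310 F123847) (tt N13250 F123848) (tt N15110 (iv F143922)) (tt N11309 F123849) (tt N13281 (iv F135672)) (tt N11308 (iv D27812)) (tt N13250 F123850) (tt N11315 F123851))
theorem Q13252 : ∀ i, i < 13252 → P i := stepQ 13251 Q13251 (allL N13251 (tt N13251 F123857) (tt N13334 (iv F136019)) (tt N13281 (iv F135670)) (tt N11311 F123858) (tt N15113 (iv F143936)) (tt N13280 F135666) (tt N11310 (iv D27814)) (tt N13251 F123859) (tt N13251 F123860) (tt N11316 F123861))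
theorem Q13253 : ∀ i, i < 13253 → P i := stepQ 13252 Q13252 (allL N13252 (tt N11313 F123862) (tt N13252 F123863) (tt N14945 (iv F143190)) (tt N13252 F123864) (tt N15104 (iv F143890)) (tt N11312 (iv D27815)) (tt N13252 F123865) (tt N14264 (iv F140722)) (tt N15102 F143881) (tt N14194 (iv F140437)))
theorem Q13254 : ∀ i, i < 13254 → P i := stepQ 13253 Q13253 (allL N13253 (tt N14264 (iv F140717)) (tt N11315 F123872) (tt N14947 (iv F143197)) (tt N13253 F123873) (tt N15107 (iv F143904)) (tt N11314 F123874) (tt N13428 (iv F136533)) (tt N11313 (iv D27818)) (tt N15105 (iv F143896)) (tt N13327 (iv F135979)))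
theorem Q13255 : ∀ i, i < 13255 → P i := stepQ 13254 Q13254 (allL N13254 (tt N13254 F123892) (tt N13428 (iv F136530)) (tt N11316 F123893) (tt N13254 F123894) (tt N15109 (iv F143916)) (tt N13282 (iv F135681)) (tt N11315 (iv D27823)) (tt N13254 F123895) (tt N15108 (iv F143911)) (tt N13281 F135675))
theorem Q13256 : ∀ i, i < 13256 → P i := stepQ 13255 Q13255 (allL N13255 (tt N13255 F124053) (tt N14958 (iv F143240)) (tt N15162 (iv F144140)) (tt N15183 (iv F144251)) (tt N15114 (iv F143942)) (tt N11317 (iv D27858)) (tt N15215 (iv F144389)) (tt N13255 F124054) (tt N15170 (iv F144180)) (tt N11319 F124055))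
theorem Q13257 : ∀ i, i < 13257 → P i := stepQ 13256 Q13256 (allL N13256 (tt N13256 F124072) (tt N14962 (iv F143254)) (tt N15163 (iv F144147)) (tt N15189 (iv F144277)) (tt N15100 F143867) (tt N13256 F124073) (tt N15220 (iv F144404)) (tt N13256 F124074) (tt N11319 (iv D27863)) (tt N15223 D31150))
theorem Q13258 : ∀ i, i < 13258 → P i := stepQ 13257 Q13257 (allL N13257 (tt N11323 F124219) (tt N13257 F124220) (tt N13343 (iv F136076)) (tt N14091 (iv F139923)) (tt N13275 (iv F135626)) (tt N11321 F124221) (tt N14438 (iv F141369)) (tt N11320 (iv D27892)) (tt N14265 (iv F140726)) (tt N11322 F124222))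
theorem Q13259 : ∀ i, i < 13259 → P i := stepQ 13258 Q13258 (allL N13258 (tt N14438 (iv F141365)) (tt N11329 F124533) (tt N13359 (iv F136162)) (tt N13482 (iv F136848)) (tt N13277 (iv F135640)) (tt N11326 F124534) (tt N11323 (iv D27961)) (tt N13258 F124535) (tt N15224 D31151) (tt N11325 F124536))
theorem Q13260 : ∀ i, i < 13260 → P i := stepQ 13259 Q13259 (allL N13259 (tt N14265 (iv F140723)) (tt N11330 F124537) (tt N13360 (iv F136168)) (tt N14705 (iv F142400)) (tt N13278 (iv F135648)) (tt N14872 (iv F142936)) (tt N15224 (iv F144415)) (tt N11324 F124538) (tt N11323 (iv D27962)) (tt N14699 (iv F142377)))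
theorem Q13261 : ∀ i, i < 13261 → P i := stepQ 13260 Q13260 (allL N13260 (tt N14395 (iv F141179)) (tt N11337 F124607) (tt N14968 (iv F143278)) (tt N13426 (iv F136521)) (tt N13260 F124608) (tt N15225 D31152) (tt N11327 F124609) (tt N13260 F124610) (tt N11326 (iv D27982)) (tt N13424 (iv F136514)))
theorem Q13262 : ∀ i, i < 13262 → P i := stepQ 13261 Q13261 (allL N13261 (tt N13261 F124895) (tt N13482 (iv F136847)) (tt N11350 F135086) (tt N11329 F124896) (tt N15178 (iv F144226)) (tt N11335 F124897) (tt N11328 (iv D28055)) (tt N13261 F124898) (tt N15177 (iv F144221)) (tt N11332 F124899))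
theorem Q13263 : ∀ i, i < 13263 → P i := stepQ 13262 Q13262 (allL N13262 (tt N13262 F124907) (tt N15224 (iv F144414)) (tt N11340 F124908) (tt N15177 (iv F144218)) (tt N13280 (iv F135663)) (tt N15226 D31153) (tt N11330 F124909) (tt N13262 F124910) (tt N11329 (iv D28058)) (tt N15174 (iv F144201)))
theorem Q13264 : ∀ i, i < 13264 → P i := stepQ 13263 Q13263 (allL N13263 (tt N13263 F124944) (tt N13481 (iv F136841)) (tt N11348 F135094) (tt N13295 (iv F135763)) (tt N11332 F124945) (tt N13299 (iv F135791)) (tt N11331 (iv D28066)) (tt N13263 F124946) (tt N11347 F135095) (tt N15178 (iv F144229)))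
theorem Q13265 : ∀ i, i < 13265 → P i := stepQ 13264 Q13264 (allL N13264 (tt N13264 F124966) (tt N15002 (iv F143404)) (tt N11335 (iv F135313)) (tt N11341 F135097) (tt N13298 (iv F135784)) (tt N11350 F135096) (tt N11334 F124968) (tt N13264 F124969) (tt N15174 (iv F144200)) (tt N11333 (iv D28072)))
theorem Q13266 : ∀ i, i < 13266 → P i := stepQ 13265 Q13265 (allL N13265 (tt N13265 F124994) (tt N13426 (iv F136520)) (tt N15174 (iv F144196)) (tt N11337 F124995) (tt N13282 (iv F135680)) (tt N15227 D31154) (tt N11336 F124996) (tt N13265 F124997) (tt N11335 (iv D28078)) (tt N11340 F135572))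
theorem Q13267 : ∀ i, i < 13267 → P i := stepQ 13266 Q13266 (allL N13266 (tt N13266 F125002) (tt N15225 (iv F144417)) (tt N11345 F125003) (tt N15227 (iv F144424)) (tt N15228 D31155) (tt N11337 (iv D28080)) (tt N15202 (iv F144341)) (tt N13266 F125004) (tt N15226 (iv F144422)) (tt N15229 D31156))
theorem Q13268 : ∀ i, i < 13268 → P i := stepQ 13267 Q13267 (allL N13267 (tt N13267 F125005) (tt N13424 (iv F136509)) (tt N11346 F125006) (tt N11340 F135575) (tt N13267 F125007) (tt N15229 (iv F144434)) (tt N11338 F125008) (tt N13267 F125009) (tt N11339 F125010) (tt N11337 (iv D28081)))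
theorem Q13269 : ∀ i, i < 13269 → P i := stepQ 13268 Q13268 (allL N13268 (tt N13268 F125377) (tt N13425 (iv F136516)) (tt N15226 (iv F144420)) (tt N15229 (iv F144433)) (tt N15230 D31157) (tt N11340 (iv D28155)) (tt N15214 (iv F144386)) (tt N13268 F125378) (tt N11345 F125379) (tt N15227 (iv F144426)))
theorem Q13270 : ∀ i, i < 13270 → P i := stepQ 13269 Q13269 (allL N13269 (tt N13269 F125435) (tt N14995 (iv F143377)) (tt N15180 (iv F144237)) (tt N11345 F125436) (tt N15188 (iv F144274)) (tt N11343 (iv D28169)) (tt N15216 (iv F144393)) (tt N13269 F125437) (tt N15229 F144436) (tt N15231 D31158))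
theorem Q13271 : ∀ i, i < 13271 → P i := stepQ 13270 Q13270 (allL N13270 (tt N13270 F125438) (tt N14996 (iv F143380)) (tt N15177 (iv F144217)) (tt N11346 F125439) (tt N15176 (iv F144211)) (tt N15231 (iv F144442)) (tt N11344 F125440) (tt N13270 F125441) (tt N11350 F125442) (tt N11343 (iv D28170)))
theorem Q13272 : ∀ i, i < 13272 → P i := stepQ 13271 Q13271 (allL N13271 (tt N13271 F125443) (tt N14997 (iv F143385)) (tt N15228 (iv F144428)) (tt N15223 (iv F144411)) (tt N11345 (iv D28171)) (tt N13271 F125444) (tt N15218 (iv F144399)) (tt N13271 F125445) (tt N15230 (iv F144439)) (tt N15189 F144281))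
theorem Q13273 : ∀ i, i < 13273 → P i := stepQ 13272 Q13272 (allL N13272 (tt N13272 F125446) (tt N14998 (iv F143388)) (tt N15229 (iv F144432)) (tt N15231 (iv F144441)) (tt N15189 (iv F144278)) (tt N11346 F125447) (tt N15219 (iv F144402)) (tt N13272 F125448) (tt N15180 (iv F144240)) (tt N11345 (iv D28172)))
theorem Q13274 : ∀ i, i < 13274 → P i := stepQ 13273 Q13273 (allL N13273 (tt N13273 F125496) (tt N15000 (iv F143394)) (tt N13299 (iv F135790)) (tt N13273 F125497) (tt N13297 (iv F135777)) (tt N11348 (iv D28185)) (tt N13273 F125498) (tt N13273 F125499) (tt N13273 F125500) (tt N15232 D31159))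
theorem Q13275 : ∀ i, i < 13275 → P i := stepQ 13274 Q13274 (allL N13274 (tt N13274 F125501) (tt N15001 (iv F143399)) (tt N15178 (iv F144224)) (tt N13274 F125502) (tt N11350 F125503) (tt N15232 (iv F144446)) (tt N11349 F125504) (tt N13274 F125505) (tt N15176 (iv F144214)) (tt N11348 (iv D28186)))
theorem Q13276 : ∀ i, i < 13276 → P i := stepQ 13275 Q13275 (allL N13275 (tt N11356 F135622) (tt N13275 F135623) (tt N11431 F135624) (tt N12281 F135625) (tt N13257 F135626) (tt N11353 F135627) (tt N15233 D31160) (tt N11352 (iv D29202)) (tt N12279 F135628) (tt N11365 F135629))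
theorem Q13277 : ∀ i, i < 13277 → P i := stepQ 13276 Q13276 (allL N13276 (tt N12281 F135630) (tt N11358 F135631) (tt N11719 F135632) (tt N11356 F135633) (tt N12663 F135634) (tt N11355 F135635) (tt N15234 D31161) (tt N11354 (iv D29203)) (tt N11413 F135636) (tt N11370 F135637))
theorem Q13278 : ∀ i, i < 13278 → P i := stepQ 13277 Q13277 (allL N13277 (tt N15233 (iv F144449)) (tt N11359 F135638) (tt N11447 F135639) (tt N15234 (iv F144461)) (tt N13258 F135640) (tt N13277 F135641) (tt N11356 (iv D29204)) (tt N13277 F135642) (tt N15235 D31162) (tt N11372 F135643))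
theorem Q13279 : ∀ i, i < 13279 → P i := stepQ 13278 Q13278 (allL N13278 (tt N12279 F135644) (tt N11360 F135645) (tt N11448 F135646) (tt N11413 F135647) (tt N13259 F135648) (tt N11412 F135649) (tt N15235 (iv F144472)) (tt N11357 F135650) (tt N11356 (iv D29205)) (tt N12652 (iv F135651)))
theorem Q13280 : ∀ i, i < 13280 → P i := stepQ 13279 Q13279 (allL N13279 (tt N13279 F135652) (tt N15234 (iv F144459)) (tt N13279 F135653) (tt N11359 F135654) (tt N13177 F135655) (tt N13279 F135656) (tt N11358 (iv D29206)) (tt N13279 F135657) (tt N13167 F135658) (tt N11376 F135659))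
theorem Q13281 : ∀ i, i < 13281 → P i := stepQ 13280 Q13280 (allL N13280 (tt N13280 F135660) (tt N15235 (iv F144468)) (tt N11361 F135661) (tt N13167 F135662) (tt N13262 F135663) (tt N13251 (iv F135666)) (tt N11360 F135664) (tt N13280 F135665) (tt N11359 (iv D29207)) (tt N13169 (iv F135667)))
theorem Q13282 : ∀ i, i < 13282 → P i := stepQ 13281 Q13281 (allL N13281 (tt N13281 F135668) (tt N11496 F135669) (tt N13251 F135670) (tt N13281 F135671) (tt N15236 D31163) (tt N11361 (iv D29208)) (tt N13250 F135672) (tt N13281 F135673) (tt N13281 F135674) (tt N13254 (iv F135675)))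
theorem Q13283 : ∀ i, i < 13283 → P i := stepQ 13282 Q13282 (allL N13282 (tt N13282 F135676) (tt N11497 F135677) (tt N13169 F135678) (tt N13282 F135679) (tt N13265 F135680) (tt N13254 F135681) (tt N11362 F135682) (tt N13282 F135683) (tt N11381 F135684) (tt N11361 (iv D29209)))
theorem Q13284 : ∀ i, i < 13284 → P i := stepQ 13283 Q13283 (allL N13283 (tt N11369 F135685) (tt N13283 F135686) (tt N11371 F135687) (tt N11522 F135688) (tt N11363 (iv D29210)) (tt N13283 F135689) (tt N13283 F135690) (tt N15237 D31164) (tt N11367 (iv F135692)) (tt N11713 F135691))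
theorem Q13285 : ∀ i, i < 13285 → P i := stepQ 13284 Q13284 (allL N13284 (tt N11370 F135693) (tt N13284 F135694) (tt N12671 F135695) (tt N11365 F135696) (tt N15237 (iv F144489)) (tt N11364 F135697) (tt N15238 D31165) (tt N11363 (iv D29211)) (tt N15239 D31166) (tt N12281 F135698))
theorem Q13286 : ∀ i, i < 13286 → P i := stepQ 13285 Q13285 (allL N13285 (tt N11371 F135699) (tt N13285 F135700) (tt N11369 F135701) (tt N11366 F135702) (tt N11367 F135703) (tt N13285 F135704) (tt N13285 F135705) (tt N15239 (iv F144508)) (tt N11363 (iv D29212)) (tt N11707 F135706))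
theorem Q13287 : ∀ i, i < 13287 → P i := stepQ 13286 Q13286 (allL N13286 (tt N11372 F135707) (tt N13286 F135708) (tt N11510 F135709) (tt N15238 (iv F144497)) (tt N12442 F135710) (tt N13286 F135711) (tt N11365 (iv D29213)) (tt N13286 F135712) (tt N15240 D31167) (tt N15233 (iv F144457)))
theorem Q13288 : ∀ i, i < 13288 → P i := stepQ 13287 Q13287 (allL N13287 (tt N11373 F135713) (tt N13287 F135714) (tt N11511 F135715) (tt N15239 (iv F144505)) (tt N12080 F135716) (tt N13287 F135717) (tt N15240 (iv F144514)) (tt N11366 F135718) (tt N11365 (iv D29214)) (tt N15241 D31168))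
theorem Q13289 : ∀ i, i < 13289 → P i := stepQ 13288 Q13288 (allL N13288 (tt N11374 F135719) (tt N13288 F135720) (tt N11512 F135721) (tt N11707 F135722) (tt N12215 F135723) (tt N13288 F135724) (tt N13288 F135725) (tt N15241 (iv F144522)) (tt N11704 F135726) (tt N11366 (iv D29215)))
theorem Q13290 : ∀ i, i < 13290 → P i := stepQ 13289 Q13289 (allL N13289 (tt N12671 F135727) (tt N13289 F135728) (tt N11370 F135729) (tt N11521 F135730) (tt N15239 (iv F144506)) (tt N11368 F135731) (tt N15242 D31169) (tt N11367 (iv D29216)) (tt N15237 (iv F144491)) (tt N11719 F135732))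
theorem Q13291 : ∀ i, i < 13291 → P i := stepQ 13290 Q13290 (allL N13290 (tt N15237 (iv F144485)) (tt N11375 F135733) (tt N15239 (iv F144504)) (tt N12958 F135734) (tt N11370 F135735) (tt N13290 F135736) (tt N15243 D31170) (tt N11369 (iv D29217)) (tt N12671 F135737) (tt N12663 F135738))
theorem Q13292 : ∀ i, i < 13292 → P i := stepQ 13291 Q13291 (allL N13291 (tt N15238 (iv F144494)) (tt N11376 F135739) (tt N15242 (iv F144526)) (tt N11372 F135740) (tt N15243 (iv F144535)) (tt N13291 F135741) (tt N11370 (iv D29218)) (tt N13291 F135742) (tt N15244 D31171) (tt N15234 (iv F144466)))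
theorem Q13293 : ∀ i, i < 13293 → P i := stepQ 13292 Q13292 (allL N13292 (tt N15239 (iv F144502)) (tt N11377 F135743) (tt N15237 (iv F144487)) (tt N11373 F135744) (tt N12671 F135745) (tt N13292 F135746) (tt N15244 (iv F144544)) (tt N11371 F135747) (tt N11370 (iv D29219)) (tt N12654 F135748))
theorem Q13294 : ∀ i, i < 13294 → P i := stepQ 13293 Q13293 (allL N13293 (tt N15240 (iv F144510)) (tt N11378 F135749) (tt N11528 F135750) (tt N15244 (iv F144542)) (tt N12954 F135751) (tt N15245 D31172) (tt N11373 F135752) (tt N13293 F135753) (tt N11372 (iv D29220)) (tt N15246 D31173))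
theorem Q13295 : ∀ i, i < 13295 → P i := stepQ 13294 Q13294 (allL N13294 (tt N15241 (iv F144516)) (tt N11379 F135754) (tt N11529 F135755) (tt N12654 F135756) (tt N12960 F135757) (tt N13294 F135758) (tt N15246 (iv F144559)) (tt N11374 F135759) (tt N12652 F135760) (tt N11373 (iv D29221)))
theorem Q13296 : ∀ i, i < 13296 → P i := stepQ 13295 Q13295 (allL N13295 (tt N13295 F135761) (tt N15243 (iv F144533)) (tt N13295 F135762) (tt N13263 F135763) (tt N11376 F135764) (tt N15247 D31174) (tt N11375 (iv D29222)) (tt N13295 F135765) (tt N13182 F135766) (tt N13177 F135767))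
theorem Q13297 : ∀ i, i < 13297 → P i := stepQ 13296 Q13296 (allL N13296 (tt N13296 F135768) (tt N15244 (iv F144540)) (tt N13296 F135769) (tt N11378 F135770) (tt N13182 F135771) (tt N15248 D31175) (tt N11377 F135772) (tt N13296 F135773) (tt N11376 (iv D29223)) (tt N13170 F135774))
theorem Q13298 : ∀ i, i < 13298 → P i := stepQ 13297 Q13297 (allL N13297 (tt N13297 F135775) (tt N15245 (iv F144548)) (tt N11380 F135776) (tt N15248 (iv F144574)) (tt N13273 F135777) (tt N11378 (iv D29224)) (tt N13297 F135778) (tt N13297 F135779) (tt N13297 F135780) (tt N15249 D31176))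
theorem Q13299 : ∀ i, i < 13299 → P i := stepQ 13298 Q13298 (allL N13298 (tt N13298 F135781) (tt N15246 (iv F144555)) (tt N11381 F135782) (tt N13170 F135783) (tt N13264 F135784) (tt N15249 (iv F144584)) (tt N11379 F135785) (tt N13298 F135786) (tt N13169 F135787) (tt N11378 (iv D29225)))
theorem Q13300 : ∀ i, i < 13300 → P i := stepQ 13299 Q13299 (allL N13299 (tt N13299 F135788) (tt N11550 F135789) (tt N13273 F135790) (tt N15247 (iv F144565)) (tt N11380 (iv D29226)) (tt N13263 F135791) (tt N13299 F135792) (tt N13299 F135793) (tt N13299 F135794) (tt N15250 D31177))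
theorem Q13301 : ∀ i, i < 13301 → P i := stepQ 13300 Q13300 (allL N13300 (tt N13300 F135795) (tt N11551 F135796) (tt N15249 (iv F144581)) (tt N13300 F135797) (tt N15250 (iv F144592)) (tt N11381 F135798) (tt N13300 F135799) (tt N13300 F135800) (tt N15251 D31178) (tt N11380 (iv D29227)))
theorem Q13302 : ∀ i, i < 13302 → P i := stepQ 13301 Q13301 (allL N13301 (tt N12277 F135801) (tt N11400 F135802) (tt N11412 F135803) (tt N11715 F135804) (tt N12972 F135805) (tt N11448 F135806) (tt N11417 F135807) (tt N11386 F135808) (tt N11385 (iv D29228)) (tt N12650 (iv F135809)))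
theorem Q13303 : ∀ i, i < 13303 → P i := stepQ 13302 Q13302 (allL N13302 (tt N12244 F135810) (tt N12975 F135811) (tt N11388 F135812) (tt N11402 F135813) (tt N11611 F135814) (tt N15252 D31179) (tt N11387 (iv D29229)) (tt N15253 D31180) (tt N11391 F135815) (tt N12759 F135816))
theorem Q13304 : ∀ i, i < 13304 → P i := stepQ 13303 Q13303 (allL N13303 (tt N12245 F135817) (tt N12739 F135818) (tt N15252 (iv F144608)) (tt N11389 F135819) (tt N15254 D31181) (tt N11388 (iv D29230)) (tt N12705 F135820) (tt N15255 D31182) (tt N15256 D31183) (tt N12760 F135821))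
theorem Q13305 : ∀ i, i < 13305 → P i := stepQ 13304 Q13304 (allL N13304 (tt N12246 F135822) (tt N12740 F135823) (tt N15253 (iv F144615)) (tt N11390 F135824) (tt N11613 F135825) (tt N15255 (iv F144630)) (tt N12701 F135826) (tt N11388 (iv D29231)) (tt N11393 F135827) (tt N12761 F135828))
theorem Q13306 : ∀ i, i < 13306 → P i := stepQ 13305 Q13305 (allL N13305 (tt N12247 F135829) (tt N12741 F135830) (tt N11405 F135831) (tt N15255 (iv F144629)) (tt N11460 F135832) (tt N11390 F135833) (tt N15257 D31184) (tt N11389 (iv D29232)) (tt N15258 D31185) (tt N12762 F135834))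
theorem Q13307 : ∀ i, i < 13307 → P i := stepQ 13306 Q13306 (allL N13306 (tt N12248 F135835) (tt N12742 F135836) (tt N11406 F135837) (tt N15256 (iv F144635)) (tt N11461 F135838) (tt N11395 F135839) (tt N12708 F135840) (tt N15258 (iv F144650)) (tt N11389 (iv D29233)) (tt N15259 D31186))
theorem Q13308 : ∀ i, i < 13308 → P i := stepQ 13307 Q13307 (allL N13307 (tt N12251 F135841) (tt N12974 F135842) (tt N11393 F135843) (tt N11407 F135844) (tt N11625 F135845) (tt N12973 F135846) (tt N12961 F135847) (tt N11391 (iv D29234)) (tt N15253 (iv F144619)) (tt N13307 F135848))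
theorem Q13309 : ∀ i, i < 13309 → P i := stepQ 13308 Q13308 (allL N13308 (tt N12252 F135849) (tt N11617 F135850) (tt N12963 F135851) (tt N11396 F135852) (tt N11392 (iv D29235)) (tt N11626 F135853) (tt N11616 F135854) (tt N15260 D31187) (tt N15261 D31188) (tt N13308 F135855))
theorem Q13310 : ∀ i, i < 13310 → P i := stepQ 13309 Q13309 (allL N13309 (tt N12253 F135856) (tt N12961 F135857) (tt N12973 F135858) (tt N11394 F135859) (tt N15260 (iv F144662)) (tt N11393 F135860) (tt N12974 F135861) (tt N11392 (iv D29236)) (tt N15262 D31189) (tt N13309 F135862))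
theorem Q13311 : ∀ i, i < 13311 → P i := stepQ 13310 Q13310 (allL N13310 (tt N12254 F135863) (tt N12699 F135864) (tt N12749 F135865) (tt N11395 F135866) (tt N15261 (iv F144670)) (tt N15256 (iv F144636)) (tt N12698 F135867) (tt N15262 (iv F144677)) (tt N11392 (iv D29237)) (tt N15263 D31190))
theorem Q13312 : ∀ i, i < 13312 → P i := stepQ 13311 Q13311 (allL N13311 (tt N12255 F135868) (tt N12972 F135869) (tt N11408 F135870) (tt N15262 (iv F144675)) (tt N11400 F135871) (tt N15258 (iv F144649)) (tt N12986 F135872) (tt N11395 F135873) (tt N11394 (iv D29238)) (tt N15264 D31191))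
theorem Q13313 : ∀ i, i < 13313 → P i := stepQ 13312 Q13312 (allL N13312 (tt N12256 F135874) (tt N12585 F135875) (tt N11409 F135876) (tt N15263 (iv F144681)) (tt N11401 F135877) (tt N15259 (iv F144655)) (tt N12584 F135878) (tt N15264 (iv F144689)) (tt N13312 F135879) (tt N11395 (iv D29239)))
theorem Q13314 : ∀ i, i < 13314 → P i := stepQ 13313 Q13313 (allL N13313 (tt N12257 F135880) (tt N11684 F135881) (tt N13313 F135882) (tt N15260 (iv F144661)) (tt N11397 F135883) (tt N11632 F135884) (tt N11692 F135885) (tt N11396 (iv D29240)) (tt N15265 D31192) (tt N13313 F135886))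
theorem Q13315 : ∀ i, i < 13315 → P i := stepQ 13314 Q13314 (allL N13314 (tt N12258 F135887) (tt N11662 F135888) (tt N13314 F135889) (tt N15261 (iv F144669)) (tt N11398 F135890) (tt N15266 D31193) (tt N11661 F135891) (tt N15265 (iv F144696)) (tt N11396 (iv D29241)) (tt N15267 D31194))
theorem Q13316 : ∀ i, i < 13316 → P i := stepQ 13315 Q13315 (allL N13315 (tt N12259 F135892) (tt N11715 F135893) (tt N13315 F135894) (tt N11400 F135895) (tt N15265 (iv F144694)) (tt N11473 F135896) (tt N11731 F135897) (tt N11398 F135898) (tt N11397 (iv D29242)) (tt N15268 D31195))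
theorem Q13317 : ∀ i, i < 13317 → P i := stepQ 13316 Q13316 (allL N13316 (tt N12260 F135899) (tt N11709 F135900) (tt N13316 F135901) (tt N11401 F135902) (tt N15267 (iv F144705)) (tt N11474 F135903) (tt N11708 F135904) (tt N15268 (iv F144714)) (tt N13316 F135905) (tt N11398 (iv D29243)))
theorem Q13318 : ∀ i, i < 13318 → P i := stepQ 13317 Q13317 (allL N13317 (tt N12261 F135906) (tt N11417 F135907) (tt N11410 F135908) (tt N11731 F135909) (tt N12986 F135910) (tt N15269 D31196) (tt N11400 F135911) (tt N11415 F135912) (tt N11399 (iv D29244)) (tt N12882 (iv F135913)))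
theorem Q13319 : ∀ i, i < 13319 → P i := stepQ 13318 Q13318 (allL N13318 (tt N12262 F135914) (tt N12650 F135915) (tt N11411 F135916) (tt N15268 (iv F144711)) (tt N15264 (iv F144687)) (tt N11476 F135917) (tt N12882 F135918) (tt N11401 F135919) (tt N13318 F135920) (tt N11400 (iv D29245)))
theorem Q13320 : ∀ i, i < 13320 → P i := stepQ 13319 Q13319 (allL N13319 (tt N12266 F135921) (tt N12827 F135922) (tt N11403 F135923) (tt N15252 (iv F144609)) (tt N15270 D31197) (tt N11402 (iv D29246)) (tt N12860 F135924) (tt N15271 D31198) (tt N12823 F135925) (tt N12836 F135926))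
theorem Q13321 : ∀ i, i < 13321 → P i := stepQ 13320 Q13320 (allL N13320 (tt N12267 F135927) (tt N12986 F135928) (tt N11404 F135929) (tt N15253 (iv F144616)) (tt N11417 F135930) (tt N15271 (iv F144734)) (tt N12972 F135931) (tt N11402 (iv D29247)) (tt N11407 F135932) (tt N12837 F135933))
theorem Q13322 : ∀ i, i < 13322 → P i := stepQ 13321 Q13321 (allL N13321 (tt N12268 F135934) (tt N13072 F135935) (tt N15270 (iv F144726)) (tt N11484 F135936) (tt N11403 (iv D29248)) (tt N11418 F135937) (tt N12993 F135938) (tt N15272 D31199) (tt N12991 F135939) (tt N12838 F135940))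
theorem Q13323 : ∀ i, i < 13323 → P i := stepQ 13322 Q13322 (allL N13322 (tt N12269 F135941) (tt N13202 F135942) (tt N15271 (iv F144733)) (tt N11405 F135943) (tt N15272 (iv F144740)) (tt N11404 F135944) (tt N15273 D31200) (tt N11403 (iv D29249)) (tt N12989 F135945) (tt N12839 F135946))
theorem Q13324 : ∀ i, i < 13324 → P i := stepQ 13323 Q13323 (allL N13323 (tt N12270 F135947) (tt N13203 F135948) (tt N15257 (iv F144640)) (tt N15273 (iv F144746)) (tt N11487 F135949) (tt N13198 F135950) (tt N11405 (iv D29250)) (tt N13199 F135951) (tt N15274 D31201) (tt N12841 F135952))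
theorem Q13325 : ∀ i, i < 13325 → P i := stepQ 13324 Q13324 (allL N13324 (tt N12271 F135953) (tt N13204 F135954) (tt N15258 (iv F144647)) (tt N12989 F135955) (tt N11488 F135956) (tt N11408 F135957) (tt N15274 (iv F144756)) (tt N11406 F135958) (tt N11405 (iv D29251)) (tt N15275 D31202))
theorem Q13326 : ∀ i, i < 13326 → P i := stepQ 13325 Q13325 (allL N13325 (tt N12272 F135959) (tt N13111 F135960) (tt N15259 (iv F144653)) (tt N12992 F135961) (tt N11489 F135962) (tt N11409 F135963) (tt N12994 F135964) (tt N15275 (iv F144763)) (tt N12843 F135965) (tt N11406 (iv D29252)))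
theorem Q13327 : ∀ i, i < 13327 → P i := stepQ 13326 Q13326 (allL N13326 (tt N12274 F135966) (tt N13112 F135967) (tt N15264 (iv F144686)) (tt N12990 F135968) (tt N11411 F135969) (tt N15275 (iv F144762)) (tt N12988 F135970) (tt N11409 F135971) (tt N13326 F135972) (tt N11408 (iv D29253)))
theorem Q13328 : ∀ i, i < 13328 → P i := stepQ 13327 Q13327 (allL N13327 (tt N12275 F135973) (tt N13250 F135974) (tt N15269 (iv F144718)) (tt N13327 F135975) (tt N15276 D31203) (tt N11410 (iv D29254)) (tt N11496 F135976) (tt N12987 F135977) (tt N13327 F135978) (tt N13253 F135979))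
theorem Q13329 : ∀ i, i < 13329 → P i := stepQ 13328 Q13328 (allL N13328 (tt N12280 F135980) (tt N13167 F135981) (tt N11718 F135982) (tt N15235 (iv F144470)) (tt N12662 F135983) (tt N11420 F135984) (tt N11413 (iv D29255)) (tt N13328 F135985) (tt N15234 (iv F144465)) (tt N12653 F135986))
theorem Q13330 : ∀ i, i < 13330 → P i := stepQ 13329 Q13329 (allL N13329 (tt N11415 F135987) (tt N12282 F135988) (tt N12187 F135989) (tt N11729 F135990) (tt N12186 F135991) (tt N15277 D31204) (tt N11414 (iv D29256)) (tt N12261 F135992) (tt N11421 F135993) (tt N12880 F135994))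
theorem Q13331 : ∀ i, i < 13331 → P i := stepQ 13330 Q13330 (allL N13330 (tt N15277 (iv F144773)) (tt N11416 F135995) (tt N12987 F135996) (tt N11730 F135997) (tt N15278 D31205) (tt N11415 (iv D29257)) (tt N13330 F135998) (tt N15269 (iv F144721)) (tt N13330 F135999) (tt N12881 F136000))
theorem Q13332 : ∀ i, i < 13332 → P i := stepQ 13331 Q13331 (allL N13331 (tt N12285 F136001) (tt N15278 (iv F144781)) (tt N11418 F136002) (tt N15279 D31206) (tt N11416 (iv D29258)) (tt N15270 (iv F144727)) (tt N13331 F136003) (tt N15280 D31207) (tt N13331 F136004) (tt N12883 F136005))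
theorem Q13333 : ∀ i, i < 13333 → P i := stepQ 13332 Q13332 (allL N13332 (tt N12286 F136006) (tt N15269 (iv F144717)) (tt N11419 F136007) (tt N11733 F136008) (tt N15280 (iv F144795)) (tt N11417 F136009) (tt N15281 D31208) (tt N11416 (iv D29259)) (tt N13332 F136010) (tt N12884 F136011))
theorem Q13334 : ∀ i, i < 13334 → P i := stepQ 13333 Q13333 (allL N13333 (tt N12287 F136012) (tt N13094 F136013) (tt N15280 (iv F144794)) (tt N11500 F136014) (tt N11419 F136015) (tt N15272 (iv F144741)) (tt N15282 D31209) (tt N11418 (iv D29260)) (tt N13333 F136016) (tt N12886 F136017))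
theorem Q13335 : ∀ i, i < 13335 → P i := stepQ 13334 Q13334 (allL N13334 (tt N12288 F136018) (tt N13251 F136019) (tt N15281 (iv F144800)) (tt N11420 F136020) (tt N15282 (iv F144809)) (tt N15235 F144474) (tt N11419 (iv D29261)) (tt N13334 F136021) (tt N13334 F136022) (tt N12887 F136023))
theorem Q13336 : ∀ i, i < 13336 → P i := stepQ 13335 Q13335 (allL N13335 (tt N11433 F136024) (tt N15283 D31210) (tt N11422 (iv D29262)) (tt N11874 F136025) (tt N11746 F136026) (tt N11824 F136027) (tt N15284 D31211) (tt N12167 F136028) (tt N11425 F136029) (tt N12166 F136030))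
theorem Q13337 : ∀ i, i < 13337 → P i := stepQ 13336 Q13336 (allL N13336 (tt N11434 F136031) (tt N12289 F136032) (tt N15284 (iv F144822)) (tt N11423 F136033) (tt N11747 F136034) (tt N15285 D31212) (tt N11422 (iv D29263)) (tt N15286 D31213) (tt N11426 F136035) (tt N12237 F136036))
theorem Q13338 : ∀ i, i < 13338 → P i := stepQ 13337 Q13337 (allL N13337 (tt N11435 F136037) (tt N12290 F136038) (tt N11876 F136039) (tt N15285 (iv F144829)) (tt N11812 F136040) (tt N11423 (iv D29264)) (tt N11826 F136041) (tt N15287 D31214) (tt N15288 D31215) (tt N12238 F136042))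
theorem Q13339 : ∀ i, i < 13339 → P i := stepQ 13338 Q13338 (allL N13338 (tt N11436 F136043) (tt N12291 F136044) (tt N11877 F136045) (tt N15286 (iv F144834)) (tt N11424 F136046) (tt N15287 (iv F144843)) (tt N12693 F136047) (tt N11423 (iv D29265)) (tt N11428 F136048) (tt N12239 F136049))
theorem Q13340 : ∀ i, i < 13340 → P i := stepQ 13339 Q13339 (allL N13339 (tt N12212 F136050) (tt N11425 (iv D29266)) (tt N12123 F136051) (tt N12210 F136052) (tt N11754 F136053) (tt N13339 F136054) (tt N15289 D31216) (tt N12209 F136055) (tt N15283 (iv F144819)) (tt N11502 F136056))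
theorem Q13341 : ∀ i, i < 13341 → P i := stepQ 13340 Q13340 (allL N13340 (tt N11437 F136057) (tt N15289 (iv F144852)) (tt N11426 F136058) (tt N12211 F136059) (tt N11755 F136060) (tt N15290 D31217) (tt N11425 (iv D29267)) (tt N15291 D31218) (tt N15284 (iv F144825)) (tt N11503 F136061))
theorem Q13342 : ∀ i, i < 13342 → P i := stepQ 13341 Q13341 (allL N13341 (tt N11438 F136062) (tt N12292 F136063) (tt N15290 (iv F144860)) (tt N11427 F136064) (tt N12913 F136065) (tt N11426 (iv D29268)) (tt N13341 F136066) (tt N15292 D31219) (tt N15293 D31220) (tt N11504 F136067))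
theorem Q13343 : ∀ i, i < 13343 → P i := stepQ 13342 Q13342 (allL N13342 (tt N11439 F136068) (tt N12293 F136069) (tt N15291 (iv F144866)) (tt N11428 F136070) (tt N11757 F136071) (tt N15292 (iv F144875)) (tt N12901 F136072) (tt N11426 (iv D29269)) (tt N15286 (iv F144837)) (tt N11505 F136073))
theorem Q13344 : ∀ i, i < 13344 → P i := stepQ 13343 Q13343 (allL N13343 (tt N11440 F136074) (tt N12294 F136075) (tt N13257 F136076) (tt N15292 (iv F144873)) (tt N11431 F136077) (tt N11428 F136078) (tt N15294 D31221) (tt N11427 (iv D29270)) (tt N15295 D31222) (tt N11506 F136079))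
theorem Q13345 : ∀ i, i < 13345 → P i := stepQ 13344 Q13344 (allL N13344 (tt N11441 F136080) (tt N12295 F136081) (tt N12278 F136082) (tt N15293 (iv F144879)) (tt N11432 F136083) (tt N15288 (iv F144849)) (tt N13344 F136084) (tt N15295 (iv F144893)) (tt N11427 (iv D29271)) (tt N15296 D31223))
theorem Q13346 : ∀ i, i < 13346 → P i := stepQ 13345 Q13345 (allL N13345 (tt N11445 F136085) (tt N12296 F136086) (tt N12669 F136087) (tt N11431 F136088) (tt N12938 F136089) (tt N11430 F136090) (tt N15297 D31224) (tt N11429 (iv D29272)) (tt N12666 F136091) (tt N11508 F136092))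
theorem Q13347 : ∀ i, i < 13347 → P i := stepQ 13346 Q13346 (allL N13346 (tt N11447 F136093) (tt N12298 F136094) (tt N15233 (iv F144451)) (tt N15297 (iv F144903)) (tt N15294 (iv F144885)) (tt N13346 F136095) (tt N11431 (iv D29273)) (tt N13346 F136096) (tt N15298 D31225) (tt N11510 F136097))
theorem Q13348 : ∀ i, i < 13348 → P i := stepQ 13347 Q13347 (allL N13347 (tt N11448 F136098) (tt N12299 F136099) (tt N12279 F136100) (tt N12666 F136101) (tt N15295 (iv F144892)) (tt N12277 F136102) (tt N15298 (iv F144913)) (tt N11432 F136103) (tt N11431 (iv D29274)) (tt N15299 D31226))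
theorem Q13349 : ∀ i, i < 13349 → P i := stepQ 13348 Q13348 (allL N13348 (tt N11449 F136104) (tt N12300 F136105) (tt N11704 F136106) (tt N12657 F136107) (tt N15296 (iv F144897)) (tt N11703 F136108) (tt N13348 F136109) (tt N15299 (iv F144921)) (tt N11512 F136110) (tt N11432 (iv D29275)))
theorem Q13350 : ∀ i, i < 13350 → P i := stepQ 13349 Q13349 (allL N13349 (tt N15284 (iv F144821)) (tt N12795 F136111) (tt N11434 F136112) (tt N12805 F136113) (tt N11780 F136114) (tt N15300 D31227) (tt N11433 (iv D29276)) (tt N15301 D31228) (tt N11437 F136115) (tt N12704 F136116))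
theorem Q13351 : ∀ i, i < 13351 → P i := stepQ 13350 Q13350 (allL N13350 (tt N15285 (iv F144827)) (tt N11458 F136117) (tt N15300 (iv F144924)) (tt N11435 F136118) (tt N15302 D31229) (tt N11434 (iv D29277)) (tt N12760 F136119) (tt N15303 D31230) (tt N15304 D31231) (tt N12705 F136120))
theorem Q13352 : ∀ i, i < 13352 → P i := stepQ 13351 Q13351 (allL N13351 (tt N15286 (iv F144832)) (tt N11459 F136121) (tt N15301 (iv F144929)) (tt N11436 F136122) (tt N11782 F136123) (tt N15303 (iv F144942)) (tt N12712 F136124) (tt N11434 (iv D29278)) (tt N11439 F136125) (tt N12706 F136126))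
theorem Q13353 : ∀ i, i < 13353 → P i := stepQ 13352 Q13352 (allL N13352 (tt N15287 (iv F144839)) (tt N11460 F136127) (tt N12808 F136128) (tt N15303 (iv F144941)) (tt N12741 F136129) (tt N11436 F136130) (tt N15305 D31232) (tt N11435 (iv D29279)) (tt N15306 D31233) (tt N12707 F136131))
theorem Q13354 : ∀ i, i < 13354 → P i := stepQ 13353 Q13353 (allL N13353 (tt N15288 (iv F144845)) (tt N11461 F136132) (tt N12809 F136133) (tt N15304 (iv F144945)) (tt N12742 F136134) (tt N11441 F136135) (tt N12763 F136136) (tt N15306 (iv F144958)) (tt N11435 (iv D29280)) (tt N15307 D31234))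
theorem Q13355 : ∀ i, i < 13355 → P i := stepQ 13354 Q13354 (allL N13354 (tt N15290 (iv F144858)) (tt N12927 F136137) (tt N11438 F136138) (tt N12949 F136139) (tt N15308 D31235) (tt N11437 (iv D29281)) (tt N13354 F136140) (tt N15309 D31236) (tt N15310 D31237) (tt N11513 F136141))
theorem Q13356 : ∀ i, i < 13356 → P i := stepQ 13355 Q13355 (allL N13355 (tt N15291 (iv F144865)) (tt N12937 F136142) (tt N11439 F136143) (tt N12936 F136144) (tt N11794 F136145) (tt N15309 (iv F144975)) (tt N12903 F136146) (tt N11437 (iv D29282)) (tt N15301 (iv F144933)) (tt N11514 F136147))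
theorem Q13357 : ∀ i, i < 13357 → P i := stepQ 13356 Q13356 (allL N13356 (tt N12913 F136148) (tt N11464 F136149) (tt N15308 (iv F144967)) (tt N11444 F136150) (tt N11438 (iv D29283)) (tt N11795 F136151) (tt N13356 F136152) (tt N15311 D31238) (tt N15312 D31239) (tt N11515 F136153))
theorem Q13358 : ∀ i, i < 13358 → P i := stepQ 13357 Q13357 (allL N13357 (tt N15292 (iv F144871)) (tt N11465 F136154) (tt N15309 (iv F144973)) (tt N11440 F136155) (tt N15311 (iv F144985)) (tt N11439 F136156) (tt N15313 D31240) (tt N11438 (iv D29284)) (tt N15314 D31241) (tt N11516 F136157))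
theorem Q13359 : ∀ i, i < 13359 → P i := stepQ 13358 Q13358 (allL N13358 (tt N15293 (iv F144877)) (tt N11466 F136158) (tt N15310 (iv F144978)) (tt N11441 F136159) (tt N15312 (iv F144991)) (tt N15304 (iv F144946)) (tt N13358 F136160) (tt N15314 (iv F145000)) (tt N11438 (iv D29285)) (tt N15315 D31242))
theorem Q13360 : ∀ i, i < 13360 → P i := stepQ 13359 Q13359 (allL N13359 (tt N15294 (iv F144882)) (tt N11467 F136161) (tt N13258 F136162) (tt N15313 (iv F144994)) (tt N11447 F136163) (tt N12907 F136164) (tt N11440 (iv D29286)) (tt N13359 F136165) (tt N15316 D31243) (tt N11518 F136166))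
theorem Q13361 : ∀ i, i < 13361 → P i := stepQ 13360 Q13360 (allL N13360 (tt N15295 (iv F144889)) (tt N11468 F136167) (tt N13259 F136168) (tt N15314 (iv F144999)) (tt N11448 F136169) (tt N15306 (iv F144957)) (tt N15316 (iv F145009)) (tt N11441 F136170) (tt N11440 (iv D29287)) (tt N15317 D31244))
theorem Q13362 : ∀ i, i < 13362 → P i := stepQ 13361 Q13361 (allL N13361 (tt N15296 (iv F144894)) (tt N11469 F136171) (tt N12651 F136172) (tt N15315 (iv F145003)) (tt N11449 F136173) (tt N15307 (iv F144962)) (tt N13361 F136174) (tt N15317 (iv F145014)) (tt N11520 F136175) (tt N11441 (iv D29288)))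
theorem Q13363 : ∀ i, i < 13363 → P i := stepQ 13362 Q13362 (allL N13362 (tt N12669 F136176) (tt N13362 F136177) (tt N11445 F136178) (tt N11719 F136179) (tt N12082 F136180) (tt N11443 F136181) (tt N15318 D31245) (tt N11442 (iv D29289)) (tt N11717 F136182) (tt N11521 F136183))
theorem Q13364 : ∀ i, i < 13364 → P i := stepQ 13363 Q13363 (allL N13363 (tt N12938 F136184) (tt N11470 F136185) (tt N12082 F136186) (tt N15311 (iv F144984)) (tt N11445 F136187) (tt N11801 F136188) (tt N15319 D31246) (tt N11444 (iv D29290)) (tt N15320 D31247) (tt N11523 F136189))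
theorem Q13365 : ∀ i, i < 13365 → P i := stepQ 13364 Q13364 (allL N13364 (tt N12665 F136190) (tt N11471 F136191) (tt N11716 F136192) (tt N15312 (iv F144990)) (tt N11446 F136193) (tt N15321 D31248) (tt N13364 F136194) (tt N15320 (iv F145036)) (tt N11444 (iv D29291)) (tt N15322 D31249))
theorem Q13366 : ∀ i, i < 13366 → P i := stepQ 13365 Q13365 (allL N13365 (tt N15297 (iv F144900)) (tt N11472 F136195) (tt N15318 (iv F145018)) (tt N11447 F136196) (tt N15319 (iv F145028)) (tt N13365 F136197) (tt N11445 (iv D29292)) (tt N13365 F136198) (tt N15323 D31250) (tt N11525 F136199))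
theorem Q13367 : ∀ i, i < 13367 → P i := stepQ 13366 Q13366 (allL N13366 (tt N12666 F136200) (tt N11473 F136201) (tt N11717 F136202) (tt N11448 F136203) (tt N15320 (iv F145035)) (tt N11715 F136204) (tt N15323 (iv F145052)) (tt N11446 F136205) (tt N11445 (iv D29293)) (tt N15324 D31251))
theorem Q13368 : ∀ i, i < 13368 → P i := stepQ 13367 Q13367 (allL N13367 (tt N12657 F136206) (tt N11474 F136207) (tt N11710 F136208) (tt N11449 F136209) (tt N15322 (iv F145045)) (tt N11709 F136210) (tt N13367 F136211) (tt N15324 (iv F145060)) (tt N11527 F136212) (tt N11446 (iv D29294)))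
theorem Q13369 : ∀ i, i < 13369 → P i := stepQ 13368 Q13368 (allL N13368 (tt N15298 (iv F144909)) (tt N11475 F136213) (tt N15235 (iv F144469)) (tt N15323 (iv F145051)) (tt N15316 (iv F145008)) (tt N15281 (iv F144802)) (tt N11448 F136214) (tt N13368 F136215) (tt N11447 (iv D29295)) (tt N15325 D31252))
theorem Q13370 : ∀ i, i < 13370 → P i := stepQ 13369 Q13369 (allL N13369 (tt N15299 (iv F144916)) (tt N11476 F136216) (tt N12652 F136217) (tt N15324 (iv F145058)) (tt N15317 (iv F145013)) (tt N12650 F136218) (tt N15325 (iv F145065)) (tt N11449 F136219) (tt N11529 F136220) (tt N11448 (iv D29296)))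
theorem Q13371 : ∀ i, i < 13371 → P i := stepQ 13370 Q13370 (allL N13370 (tt N12323 F136221) (tt N12982 (iv F136228)) (tt N11450 (iv D29297)) (tt N13370 F136222) (tt N11453 F136223) (tt N11806 F136224) (tt N15326 D31253) (tt N12728 F136225) (tt N13370 F136226) (tt N11566 F136227))
theorem Q13372 : ∀ i, i < 13372 → P i := stepQ 13371 Q13371 (allL N13371 (tt N12324 F136229) (tt N11607 F136230) (tt N15326 (iv F145070)) (tt N11451 F136231) (tt N11454 F136232) (tt N15327 D31254) (tt N11450 (iv D29298)) (tt N15328 D31255) (tt N13371 F136233) (tt N11567 F136234))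
theorem Q13373 : ∀ i, i < 13373 → P i := stepQ 13372 Q13372 (allL N13372 (tt N12325 F136235) (tt N11608 F136236) (tt N13372 F136237) (tt N15327 (iv F145077)) (tt N11777 F136238) (tt N11451 (iv D29299)) (tt N11808 F136239) (tt N15329 D31256) (tt N15330 D31257) (tt N11568 F136240))
theorem Q13374 : ∀ i, i < 13374 → P i := stepQ 13373 Q13373 (allL N13373 (tt N12326 F136241) (tt N11609 F136242) (tt N13373 F136243) (tt N15328 (iv F145082)) (tt N11452 F136244) (tt N15329 (iv F145091)) (tt N12731 F136245) (tt N11451 (iv D29300)) (tt N13373 F136246) (tt N11569 F136247))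
theorem Q13375 : ∀ i, i < 13375 → P i := stepQ 13374 Q13374 (allL N13374 (tt N12328 F136248) (tt N12979 F136249) (tt N11454 F136250) (tt N11477 F136251) (tt N15326 (iv F145072)) (tt N15331 D31258) (tt N11453 (iv D29301)) (tt N15332 D31259) (tt N13374 F136252) (tt N12738 F136253))
theorem Q13376 : ∀ i, i < 13376 → P i := stepQ 13375 Q13375 (allL N13375 (tt N12329 F136254) (tt N12760 F136255) (tt N15331 (iv F145101)) (tt N11455 F136256) (tt N15333 D31260) (tt N11454 (iv D29302)) (tt N11458 F136257) (tt N15334 D31261) (tt N15335 D31262) (tt N12739 F136258))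
theorem Q13377 : ∀ i, i < 13377 → P i := stepQ 13376 Q13376 (allL N13376 (tt N12330 F136259) (tt N12761 F136260) (tt N15332 (iv F145107)) (tt N11456 F136261) (tt N15328 (iv F145083)) (tt N15334 (iv F145120)) (tt N12746 F136262) (tt N11454 (iv D29303)) (tt N13376 F136263) (tt N12740 F136264))
theorem Q13378 : ∀ i, i < 13378 → P i := stepQ 13377 Q13377 (allL N13377 (tt N12331 F136265) (tt N12762 F136266) (tt N11480 F136267) (tt N15334 (iv F145119)) (tt N12707 F136268) (tt N11456 F136269) (tt N15336 D31263) (tt N11455 (iv D29304)) (tt N15337 D31264) (tt N12741 F136270))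
theorem Q13379 : ∀ i, i < 13379 → P i := stepQ 13378 Q13378 (allL N13378 (tt N12332 F136271) (tt N12763 F136272) (tt N11481 F136273) (tt N15335 (iv F145124)) (tt N12708 F136274) (tt N13378 F136275) (tt N11461 F136276) (tt N15337 (iv F145139)) (tt N11455 (iv D29305)) (tt N15338 D31265))
theorem Q13380 : ∀ i, i < 13380 → P i := stepQ 13379 Q13379 (allL N13379 (tt N12334 F136277) (tt N12787 F136278) (tt N11458 F136279) (tt N11482 F136280) (tt N15339 D31266) (tt N11457 (iv D29306)) (tt N15331 (iv F145103)) (tt N15340 D31267) (tt N15341 D31268) (tt N12720 F136281))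
theorem Q13381 : ∀ i, i < 13381 → P i := stepQ 13380 Q13380 (allL N13380 (tt N12335 F136282) (tt N12798 F136283) (tt N11459 F136284) (tt N11483 F136285) (tt N11842 F136286) (tt N15340 (iv F145156)) (tt N12771 F136287) (tt N11457 (iv D29307)) (tt N11463 F136288) (tt N12727 F136289))
theorem Q13382 : ∀ i, i < 13382 → P i := stepQ 13381 Q13381 (allL N13381 (tt N12336 F136290) (tt N15302 (iv F144935)) (tt N15339 (iv F145149)) (tt N15254 (iv F144623)) (tt N11458 (iv D29308)) (tt N11843 F136291) (tt N15333 (iv F145115)) (tt N15342 D31269) (tt N15343 D31270) (tt N12764 F136292))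
theorem Q13383 : ∀ i, i < 13383 → P i := stepQ 13382 Q13382 (allL N13382 (tt N12337 F136293) (tt N15303 (iv F144940)) (tt N15340 (iv F145154)) (tt N11460 F136294) (tt N15342 (iv F145165)) (tt N11459 F136295) (tt N15344 D31271) (tt N11458 (iv D29309)) (tt N15345 D31272) (tt N12765 F136296))
theorem Q13384 : ∀ i, i < 13384 → P i := stepQ 13383 Q13383 (allL N13383 (tt N12338 F136297) (tt N15304 (iv F144944)) (tt N15341 (iv F145160)) (tt N11461 F136298) (tt N15343 (iv F145169)) (tt N11466 F136299) (tt N15335 (iv F145126)) (tt N15345 (iv F145177)) (tt N11458 (iv D29310)) (tt N15346 D31273))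
theorem Q13385 : ∀ i, i < 13385 → P i := stepQ 13384 Q13384 (allL N13384 (tt N12339 F136300) (tt N15305 (iv F144948)) (tt N11487 F136301) (tt N15344 (iv F145171)) (tt N15257 (iv F144641)) (tt N12775 F136302) (tt N11460 (iv D29311)) (tt N15336 (iv F145132)) (tt N15347 D31274) (tt N12766 F136303))
theorem Q13386 : ∀ i, i < 13386 → P i := stepQ 13385 Q13385 (allL N13385 (tt N12340 F136304) (tt N15306 (iv F144954)) (tt N11488 F136305) (tt N15345 (iv F145175)) (tt N15258 (iv F144648)) (tt N11468 F136306) (tt N15347 (iv F145185)) (tt N11461 F136307) (tt N11460 (iv D29312)) (tt N15348 D31275))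
theorem Q13387 : ∀ i, i < 13387 → P i := stepQ 13386 Q13386 (allL N13386 (tt N12341 F136308) (tt N15307 (iv F144959)) (tt N11489 F136309) (tt N15346 (iv F145180)) (tt N15259 (iv F144654)) (tt N11469 F136310) (tt N15338 (iv F145145)) (tt N15348 (iv F145189)) (tt N12768 F136311) (tt N11461 (iv D29313)))
theorem Q13388 : ∀ i, i < 13388 → P i := stepQ 13387 Q13387 (allL N13387 (tt N12344 F136312) (tt N12930 F136313) (tt N11464 F136314) (tt N13387 F136315) (tt N11462 (iv D29314)) (tt N11859 F136316) (tt N13387 F136317) (tt N15349 D31276) (tt N15350 D31277) (tt N11530 F136318))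
theorem Q13389 : ∀ i, i < 13389 → P i := stepQ 13388 Q13388 (allL N13388 (tt N12345 F136319) (tt N12932 F136320) (tt N11465 F136321) (tt N11490 F136322) (tt N15349 (iv F145195)) (tt N11463 F136323) (tt N15351 D31278) (tt N11462 (iv D29315)) (tt N15352 D31279) (tt N11531 F136324))
theorem Q13390 : ∀ i, i < 13390 → P i := stepQ 13389 Q13389 (allL N13389 (tt N12346 F136325) (tt N12921 F136326) (tt N11466 F136327) (tt N11491 F136328) (tt N15350 (iv F145202)) (tt N15341 (iv F145162)) (tt N13389 F136329) (tt N15352 (iv F145216)) (tt N11462 (iv D29316)) (tt N12906 F136330))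
theorem Q13391 : ∀ i, i < 13391 → P i := stepQ 13390 Q13390 (allL N13390 (tt N12347 F136331) (tt N15311 (iv F144983)) (tt N15349 (iv F145193)) (tt N11470 F136332) (tt N11465 F136333) (tt N11862 F136334) (tt N15353 D31280) (tt N11464 (iv D29317)) (tt N15354 D31281) (tt N11532 F136335))
theorem Q13392 : ∀ i, i < 13392 → P i := stepQ 13391 Q13391 (allL N13391 (tt N12348 F136336) (tt N15312 (iv F144989)) (tt N15350 (iv F145200)) (tt N11471 F136337) (tt N11466 F136338) (tt N15355 D31282) (tt N13391 F136339) (tt N15354 (iv F145226)) (tt N11464 (iv D29318)) (tt N15356 D31283))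
theorem Q13393 : ∀ i, i < 13393 → P i := stepQ 13392 Q13392 (allL N13392 (tt N12349 F136340) (tt N15313 (iv F144993)) (tt N15351 (iv F145207)) (tt N11467 F136341) (tt N15353 (iv F145220)) (tt N12919 F136342) (tt N11465 (iv D29319)) (tt N13392 F136343) (tt N15357 D31284) (tt N11534 F136344))
theorem Q13394 : ∀ i, i < 13394 → P i := stepQ 13393 Q13393 (allL N13393 (tt N12350 F136345) (tt N15314 (iv F144998)) (tt N15352 (iv F145214)) (tt N11468 F136346) (tt N15354 (iv F145225)) (tt N15345 (iv F145176)) (tt N15357 (iv F145238)) (tt N11466 F136347) (tt N11465 (iv D29320)) (tt N15358 D31285))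
theorem Q13395 : ∀ i, i < 13395 → P i := stepQ 13394 Q13394 (allL N13394 (tt N12351 F136348) (tt N15315 (iv F145001)) (tt N12906 F136349) (tt N11469 F136350) (tt N15356 (iv F145233)) (tt N15346 (iv F145181)) (tt N13394 F136351) (tt N15358 (iv F145243)) (tt N11536 F136352) (tt N11466 (iv D29321)))
theorem Q13396 : ∀ i, i < 13396 → P i := stepQ 13395 Q13395 (allL N13395 (tt N12352 F136353) (tt N15316 (iv F145006)) (tt N11494 F136354) (tt N15357 (iv F145237)) (tt N11475 F136355) (tt N15359 D31286) (tt N11468 F136356) (tt N13395 F136357) (tt N11467 (iv D29322)) (tt N15360 D31287))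
theorem Q13397 : ∀ i, i < 13397 → P i := stepQ 13396 Q13396 (allL N13396 (tt N12353 F136358) (tt N15317 (iv F145011)) (tt N11495 F136359) (tt N15358 (iv F145242)) (tt N11476 F136360) (tt N15348 (iv F145188)) (tt N15360 (iv F145252)) (tt N11469 F136361) (tt N11538 F136362) (tt N11468 (iv D29323)))
theorem Q13398 : ∀ i, i < 13398 → P i := stepQ 13397 Q13397 (allL N13397 (tt N12354 F136363) (tt N15319 (iv F145026)) (tt N13397 F136364) (tt N15353 (iv F145219)) (tt N11472 F136365) (tt N15361 D31288) (tt N11470 (iv D29324)) (tt N13397 F136366) (tt N15362 D31289) (tt N11539 F136367))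
theorem Q13399 : ∀ i, i < 13399 → P i := stepQ 13398 Q13398 (allL N13398 (tt N12355 F136368) (tt N15320 (iv F145033)) (tt N13398 F136369) (tt N15354 (iv F145224)) (tt N11473 F136370) (tt N15363 D31290) (tt N15362 (iv F145265)) (tt N11471 F136371) (tt N11470 (iv D29325)) (tt N15364 D31291))
theorem Q13400 : ∀ i, i < 13400 → P i := stepQ 13399 Q13399 (allL N13399 (tt N12356 F136372) (tt N15321 (iv F145038)) (tt N13399 F136373) (tt N15355 (iv F145228)) (tt N15266 (iv F144700)) (tt N11471 (iv D29326)) (tt N15365 D31292) (tt N15363 (iv F145269)) (tt N11871 F136374) (tt N15366 D31293))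
theorem Q13401 : ∀ i, i < 13401 → P i := stepQ 13400 Q13400 (allL N13400 (tt N12357 F136375) (tt N15322 (iv F145043)) (tt N13400 F136376) (tt N15356 (iv F145232)) (tt N11474 F136377) (tt N15366 (iv F145282)) (tt N13400 F136378) (tt N15364 (iv F145274)) (tt N11542 F136379) (tt N11471 (iv D29327)))
theorem Q13402 : ∀ i, i < 13402 → P i := stepQ 13401 Q13401 (allL N13401 (tt N12358 F136380) (tt N15323 (iv F145049)) (tt N13401 F136381) (tt N11475 F136382) (tt N15362 (iv F145264)) (tt N15367 D31294) (tt N11473 F136383) (tt N13401 F136384) (tt N11472 (iv D29328)) (tt N15368 D31295))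
theorem Q13403 : ∀ i, i < 13403 → P i := stepQ 13402 Q13402 (allL N13402 (tt N12359 F136385) (tt N15324 (iv F145056)) (tt N13402 F136386) (tt N11476 F136387) (tt N15364 (iv F145273)) (tt N15268 (iv F144712)) (tt N15368 (iv F145293)) (tt N11474 F136388) (tt N11544 F136389) (tt N11473 (iv D29329)))
theorem Q13404 : ∀ i, i < 13404 → P i := stepQ 13403 Q13403 (allL N13403 (tt N12360 F136390) (tt N15281 (iv F144799)) (tt N11496 F136391) (tt N15367 (iv F145286)) (tt N15369 D31296) (tt N11475 (iv D29330)) (tt N15269 (iv F144720)) (tt N13403 F136392) (tt N13403 F136393) (tt N15370 D31297))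
theorem Q13405 : ∀ i, i < 13405 → P i := stepQ 13404 Q13404 (allL N13404 (tt N12361 F136394) (tt N15325 (iv F145062)) (tt N11497 F136395) (tt N15368 (iv F145292)) (tt N15360 (iv F145251)) (tt N15370 (iv F145303)) (tt N11476 F136396) (tt N13404 F136397) (tt N11546 F136398) (tt N11475 (iv D29331)))
theorem Q13406 : ∀ i, i < 13406 → P i := stepQ 13405 Q13405 (allL N13405 (tt N12363 F136399) (tt N12757 F136400) (tt N11478 F136401) (tt N15331 (iv F145102)) (tt N15371 D31298) (tt N11477 (iv D29332)) (tt N11482 F136402) (tt N15372 D31299) (tt N15373 D31300) (tt N12703 F136403))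
theorem Q13407 : ∀ i, i < 13407 → P i := stepQ 13406 Q13406 (allL N13406 (tt N12364 F136404) (tt N12980 F136405) (tt N11479 F136406) (tt N15332 (iv F145108)) (tt N13406 F136407) (tt N15372 (iv F145316)) (tt N12816 F136408) (tt N11477 (iv D29333)) (tt N13406 F136409) (tt N12810 F136410))
theorem Q13408 : ∀ i, i < 13408 → P i := stepQ 13407 Q13407 (allL N13407 (tt N12365 F136411) (tt N13042 F136412) (tt N15371 (iv F145308)) (tt N12993 F136413) (tt N11478 (iv D29334)) (tt N13407 F136414) (tt N11484 F136415) (tt N15374 D31301) (tt N12605 (iv F136417)) (tt N12595 F136416))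
theorem Q13409 : ∀ i, i < 13409 → P i := stepQ 13408 Q13408 (allL N13408 (tt N12366 F136418) (tt N13208 F136419) (tt N15372 (iv F145315)) (tt N11480 F136420) (tt N15374 (iv F145328)) (tt N11479 F136421) (tt N15375 D31302) (tt N11478 (iv D29335)) (tt N15376 D31303) (tt N12811 F136422))
theorem Q13410 : ∀ i, i < 13410 → P i := stepQ 13409 Q13409 (allL N13409 (tt N12367 F136423) (tt N13118 F136424) (tt N15373 (iv F145320)) (tt N11481 F136425) (tt N12605 F136426) (tt N13409 F136427) (tt N11486 F136428) (tt N15376 (iv F145343)) (tt N11478 (iv D29336)) (tt N12589 F136429))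
theorem Q13411 : ∀ i, i < 13411 → P i := stepQ 13410 Q13410 (allL N13410 (tt N12368 F136430) (tt N13209 F136431) (tt N15336 (iv F145129)) (tt N15375 (iv F145334)) (tt N13199 F136432) (tt N12820 F136433) (tt N11480 (iv D29337)) (tt N11487 F136434) (tt N15377 D31304) (tt N12812 F136435))
theorem Q13412 : ∀ i, i < 13412 → P i := stepQ 13411 Q13411 (allL N13411 (tt N12369 F136436) (tt N13210 F136437) (tt N15337 (iv F145136)) (tt N15376 (iv F145340)) (tt N12876 F136438) (tt N13411 F136439) (tt N15377 (iv F145348)) (tt N11481 F136440) (tt N11480 (iv D29338)) (tt N15378 D31305))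
theorem Q13413 : ∀ i, i < 13413 → P i := stepQ 13412 Q13412 (allL N13412 (tt N12370 F136441) (tt N13115 F136442) (tt N15338 (iv F145142)) (tt N12589 F136443) (tt N12994 F136444) (tt N13412 F136445) (tt N11489 F136446) (tt N15378 (iv F145355)) (tt N12586 F136447) (tt N11481 (iv D29339)))
theorem Q13414 : ∀ i, i < 13414 → P i := stepQ 13413 Q13413 (allL N13413 (tt N12373 F136448) (tt N12532 F136449) (tt N11484 F136450) (tt N15379 D31306) (tt N11482 (iv D29340)) (tt N11498 F136451) (tt N15371 (iv F145310)) (tt N15380 D31307) (tt N15381 D31308) (tt N12478 F136452))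
theorem Q13415 : ∀ i, i < 13415 → P i := stepQ 13414 Q13414 (allL N13414 (tt N12374 F136453) (tt N12789 F136454) (tt N11485 F136455) (tt N15340 (iv F145155)) (tt N15380 (iv F145364)) (tt N11483 F136456) (tt N15382 D31309) (tt N11482 (iv D29341)) (tt N15383 D31310) (tt N12722 F136457))
theorem Q13416 : ∀ i, i < 13416 → P i := stepQ 13415 Q13415 (allL N13415 (tt N12375 F136458) (tt N12777 F136459) (tt N11486 F136460) (tt N15341 (iv F145161)) (tt N15381 (iv F145370)) (tt N11491 F136461) (tt N15373 (iv F145323)) (tt N15383 (iv F145383)) (tt N11482 (iv D29342)) (tt N12714 F136462))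
theorem Q13417 : ∀ i, i < 13417 → P i := stepQ 13416 Q13416 (allL N13416 (tt N12376 F136463) (tt N13074 F136464) (tt N15380 (iv F145363)) (tt N15272 (iv F144739)) (tt N11485 F136465) (tt N11500 F136466) (tt N15384 D31311) (tt N11484 (iv D29343)) (tt N15385 D31312) (tt N12844 F136467))
theorem Q13418 : ∀ i, i < 13418 → P i := stepQ 13417 Q13417 (allL N13417 (tt N12377 F136468) (tt N13062 F136469) (tt N15381 (iv F145369)) (tt N12991 F136470) (tt N11486 F136471) (tt N13417 F136472) (tt N12605 F136473) (tt N15385 (iv F145394)) (tt N11484 (iv D29344)) (tt N12567 F136474))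
theorem Q13419 : ∀ i, i < 13419 → P i := stepQ 13418 Q13418 (allL N13418 (tt N12378 F136475) (tt N13223 F136476) (tt N15382 (iv F145376)) (tt N11487 F136477) (tt N15384 (iv F145387)) (tt N12854 F136478) (tt N11485 (iv D29345)) (tt N15375 (iv F145336)) (tt N15386 D31313) (tt N12845 F136479))
theorem Q13420 : ∀ i, i < 13420 → P i := stepQ 13419 Q13419 (allL N13419 (tt N12379 F136480) (tt N13221 F136481) (tt N15383 (iv F145381)) (tt N11488 F136482) (tt N15385 (iv F145392)) (tt N11493 F136483) (tt N15386 (iv F145399)) (tt N11486 F136484) (tt N11485 (iv D29346)) (tt N13201 F136485))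
theorem Q13421 : ∀ i, i < 13421 → P i := stepQ 13420 Q13420 (allL N13420 (tt N12381 F136486) (tt N13238 F136487) (tt N15347 (iv F145184)) (tt N15386 (iv F145398)) (tt N15274 (iv F144754)) (tt N15387 D31314) (tt N11488 F136488) (tt N15377 (iv F145349)) (tt N11487 (iv D29347)) (tt N15388 D31315))
theorem Q13422 : ∀ i, i < 13422 → P i := stepQ 13421 Q13421 (allL N13421 (tt N12382 F136489) (tt N13219 F136490) (tt N15348 (iv F145187)) (tt N13201 F136491) (tt N15275 (iv F144761)) (tt N11495 F136492) (tt N15388 (iv F145408)) (tt N11489 F136493) (tt N12847 F136494) (tt N11488 (iv D29348)))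
theorem Q13423 : ∀ i, i < 13423 → P i := stepQ 13422 Q13422 (allL N13422 (tt N12385 F136495) (tt N12934 F136496) (tt N11492 F136497) (tt N15351 (iv F145208)) (tt N13422 F136498) (tt N12939 F136499) (tt N11490 (iv D29349)) (tt N13422 F136500) (tt N15389 D31316) (tt N11547 F136501))
theorem Q13424 : ∀ i, i < 13424 → P i := stepQ 13423 Q13423 (allL N13423 (tt N12386 F136502) (tt N12923 F136503) (tt N11493 F136504) (tt N15352 (iv F145215)) (tt N13423 F136505) (tt N15383 (iv F145382)) (tt N15389 (iv F145414)) (tt N11491 F136506) (tt N11490 (iv D29350)) (tt N12908 F136507))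
theorem Q13425 : ∀ i, i < 13425 → P i := stepQ 13424 Q13424 (allL N13424 (tt N12388 F136508) (tt N13267 F136509) (tt N15389 (iv F145412)) (tt N11494 F136510) (tt N13424 F136511) (tt N15390 D31317) (tt N11493 F136512) (tt N13424 F136513) (tt N11492 (iv D29351)) (tt N13260 F136514))
theorem Q13426 : ∀ i, i < 13426 → P i := stepQ 13425 Q13425 (allL N13425 (tt N12390 F136515) (tt N13268 F136516) (tt N15359 (iv F145246)) (tt N15390 (iv F145419)) (tt N15391 D31318) (tt N11494 (iv D29352)) (tt N15387 (iv F145403)) (tt N13425 F136517) (tt N12947 F136518) (tt N15392 D31319))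
theorem Q13427 : ∀ i, i < 13427 → P i := stepQ 13426 Q13426 (allL N13426 (tt N12391 F136519) (tt N13265 F136520) (tt N15360 (iv F145250)) (tt N13260 F136521) (tt N11497 F136522) (tt N15392 (iv F145431)) (tt N11495 F136523) (tt N13426 F136524) (tt N11549 F136525) (tt N11494 (iv D29353)))
theorem Q13428 : ∀ i, i < 13428 → P i := stepQ 13427 Q13427 (allL N13427 (tt N12392 F136526) (tt N15236 (iv F144477)) (tt N15369 (iv F145297)) (tt N15393 D31320) (tt N11496 (iv D29354)) (tt N15391 (iv F145425)) (tt N15276 (iv F144768)) (tt N13427 F136527) (tt N13427 F136528) (tt N15394 D31321))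
theorem Q13429 : ∀ i, i < 13429 → P i := stepQ 13428 Q13428 (allL N13428 (tt N12393 F136529) (tt N13254 F136530) (tt N15370 (iv F145302)) (tt N13428 F136531) (tt N15394 (iv F145443)) (tt N11497 F136532) (tt N13253 F136533) (tt N13428 F136534) (tt N15395 D31322) (tt N11496 (iv D29355)))
theorem Q13430 : ∀ i, i < 13430 → P i := stepQ 13429 Q13429 (allL N13429 (tt N12396 F136535) (tt N12553 F136536) (tt N15279 (iv F144788)) (tt N11498 (iv D29356)) (tt N11969 F136537) (tt N15379 (iv F145359)) (tt N13429 F136538) (tt N15396 D31323) (tt N13429 F136539) (tt N12491 F136540))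
theorem Q13431 : ∀ i, i < 13431 → P i := stepQ 13430 Q13430 (allL N13430 (tt N12397 F136541) (tt N12555 F136542) (tt N11500 F136543) (tt N15396 (iv F145457)) (tt N11499 F136544) (tt N15380 (iv F145365)) (tt N15397 D31324) (tt N11498 (iv D29357)) (tt N13430 F136545) (tt N12493 F136546))
theorem Q13432 : ∀ i, i < 13432 → P i := stepQ 13431 Q13431 (allL N13431 (tt N12398 F136547) (tt N12561 F136548) (tt N11501 F136549) (tt N11971 F136550) (tt N15397 (iv F145464)) (tt N12893 F136551) (tt N11499 (iv D29358)) (tt N13431 F136552) (tt N13431 F136553) (tt N12496 F136554))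
theorem Q13433 : ∀ i, i < 13433 → P i := stepQ 13432 Q13432 (allL N13432 (tt N12399 F136555) (tt N13096 F136556) (tt N15397 (iv F145463)) (tt N15282 (iv F144808)) (tt N11501 F136557) (tt N15398 D31325) (tt N11500 (iv D29359)) (tt N13432 F136558) (tt N13432 F136559) (tt N12890 F136560))
theorem Q13434 : ∀ i, i < 13434 → P i := stepQ 13433 Q13433 (allL N13433 (tt N12049 F136561) (tt N11503 F136562) (tt N12007 F136563) (tt N11541 F136564) (tt N11989 F136565) (tt N11533 (iv F136567)) (tt N11502 (iv D29360)) (tt N15399 D31326) (tt N12046 F136566) (tt N15289 (iv F144856)))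
theorem Q13435 : ∀ i, i < 13435 → P i := stepQ 13434 Q13434 (allL N13434 (tt N11513 F136568) (tt N11533 F136569) (tt N11504 F136570) (tt N11524 F136571) (tt N11517 F136572) (tt N11503 (iv D29361)) (tt N13434 F136573) (tt N15400 D31327) (tt N11515 F136574) (tt N15290 (iv F144864)))
theorem Q13436 : ∀ i, i < 13436 → P i := stepQ 13435 Q13435 (allL N13435 (tt N11514 F136575) (tt N15399 (iv F145474)) (tt N11505 F136576) (tt N12044 F136577) (tt N11991 F136578) (tt N15400 (iv F145486)) (tt N12042 F136579) (tt N11503 (iv D29362)) (tt N12041 F136580) (tt N15291 (iv F144870)))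
theorem Q13437 : ∀ i, i < 13437 → P i := stepQ 13436 Q13436 (allL N13436 (tt N11516 F136581) (tt N12400 F136582) (tt N15400 (iv F145483)) (tt N11506 F136583) (tt N12924 F136584) (tt N11505 F136585) (tt N15401 D31328) (tt N11504 (iv D29363)) (tt N15402 D31329) (tt N15292 (iv F144876)))
theorem Q13438 : ∀ i, i < 13438 → P i := stepQ 13437 Q13437 (allL N13437 (tt N11517 F136586) (tt N12401 F136587) (tt N11515 F136588) (tt N11507 F136589) (tt N11513 F136590) (tt N12016 F136591) (tt N13437 F136592) (tt N15402 (iv F145502)) (tt N11504 (iv D29364)) (tt N15308 (iv F144971)))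
theorem Q13439 : ∀ i, i < 13439 → P i := stepQ 13438 Q13438 (allL N13438 (tt N11518 F136593) (tt N12402 F136594) (tt N12442 F136595) (tt N15401 (iv F145492)) (tt N11510 F136596) (tt N12440 F136597) (tt N11506 (iv D29365)) (tt N13438 F136598) (tt N15403 D31330) (tt N15294 (iv F144888)))
theorem Q13440 : ∀ i, i < 13440 → P i := stepQ 13439 Q13439 (allL N13439 (tt N11519 F136599) (tt N12403 F136600) (tt N12080 F136601) (tt N15402 (iv F145499)) (tt N11511 F136602) (tt N12078 F136603) (tt N15403 (iv F145508)) (tt N11507 F136604) (tt N11506 (iv D29366)) (tt N15404 D31331))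
theorem Q13441 : ∀ i, i < 13441 → P i := stepQ 13440 Q13440 (allL N13440 (tt N11520 F136605) (tt N12404 F136606) (tt N12215 F136607) (tt N15308 (iv F144968)) (tt N11512 F136608) (tt N12214 F136609) (tt N13440 F136610) (tt N15404 (iv F145515)) (tt N15296 (iv F144899)) (tt N11507 (iv D29367)))
theorem Q13442 : ∀ i, i < 13442 → P i := stepQ 13441 Q13441 (allL N13441 (tt N11525 F136611) (tt N12405 F136612) (tt N12956 F136613) (tt N11510 F136614) (tt N12933 F136615) (tt N13441 F136616) (tt N11508 (iv D29368)) (tt N13441 F136617) (tt N15405 D31332) (tt N15297 (iv F144908)))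
theorem Q13443 : ∀ i, i < 13443 → P i := stepQ 13442 Q13442 (allL N13442 (tt N11526 F136618) (tt N12406 F136619) (tt N12958 F136620) (tt N11511 F136621) (tt N12935 F136622) (tt N13442 F136623) (tt N15405 (iv F145521)) (tt N11509 F136624) (tt N11508 (iv D29369)) (tt N15406 D31333))
theorem Q13444 : ∀ i, i < 13444 → P i := stepQ 13443 Q13443 (allL N13443 (tt N11527 F136625) (tt N12407 F136626) (tt N12661 F136627) (tt N11512 F136628) (tt N12949 F136629) (tt N13443 F136630) (tt N13443 F136631) (tt N15406 (iv F145530)) (tt N12657 F136632) (tt N11509 (iv D29370)))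
theorem Q13445 : ∀ i, i < 13445 → P i := stepQ 13444 Q13444 (allL N13444 (tt N11528 F136633) (tt N12408 F136634) (tt N15240 (iv F144512)) (tt N15405 (iv F145519)) (tt N15403 (iv F145506)) (tt N15407 D31334) (tt N11511 F136635) (tt N13444 F136636) (tt N11510 (iv D29371)) (tt N15408 D31335))
theorem Q13446 : ∀ i, i < 13446 → P i := stepQ 13445 Q13445 (allL N13445 (tt N11529 F136637) (tt N12409 F136638) (tt N15241 (iv F144518)) (tt N15406 (iv F145527)) (tt N15404 (iv F145513)) (tt N13445 F136639) (tt N15408 (iv F145541)) (tt N11512 F136640) (tt N15299 (iv F144922)) (tt N11511 (iv D29372)))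
theorem Q13447 : ∀ i, i < 13447 → P i := stepQ 13446 Q13446 (allL N13446 (tt N15400 (iv F145481)) (tt N12926 F136641) (tt N11516 F136642) (tt N12935 F136643) (tt N15402 (iv F145500)) (tt N11514 F136644) (tt N15409 D31336) (tt N11513 (iv D29373)) (tt N12924 F136645) (tt N15309 (iv F144976)))
theorem Q13448 : ∀ i, i < 13448 → P i := stepQ 13447 Q13447 (allL N13447 (tt N12924 F136646) (tt N11532 F136647) (tt N15402 (iv F145498)) (tt N11523 F136648) (tt N11516 F136649) (tt N12019 F136650) (tt N15410 D31337) (tt N11515 (iv D29374)) (tt N15400 (iv F145487)) (tt N15311 (iv F144987)))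
theorem Q13449 : ∀ i, i < 13449 → P i := stepQ 13448 Q13448 (allL N13448 (tt N15401 (iv F145489)) (tt N11534 F136651) (tt N15409 (iv F145545)) (tt N11518 F136652) (tt N15410 (iv F145553)) (tt N12911 F136653) (tt N11516 (iv D29375)) (tt N13448 F136654) (tt N15411 D31338) (tt N15313 (iv F144997)))
theorem Q13450 : ∀ i, i < 13450 → P i := stepQ 13449 Q13449 (allL N13449 (tt N15402 (iv F145496)) (tt N11535 F136655) (tt N12924 F136656) (tt N11519 F136657) (tt N15400 (iv F145485)) (tt N12909 F136658) (tt N15411 (iv F145562)) (tt N11517 F136659) (tt N11516 (iv D29376)) (tt N15412 D31339))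
theorem Q13451 : ∀ i, i < 13451 → P i := stepQ 13450 Q13450 (allL N13450 (tt N15308 (iv F144965)) (tt N11536 F136660) (tt N12913 F136661) (tt N11520 F136662) (tt N15290 (iv F144862)) (tt N12902 F136663) (tt N13450 F136664) (tt N15412 (iv F145568)) (tt N15315 (iv F145005)) (tt N11517 (iv D29377)))
theorem Q13452 : ∀ i, i < 13452 → P i := stepQ 13451 Q13451 (allL N13451 (tt N15403 (iv F145503)) (tt N11537 F136665) (tt N12954 F136666) (tt N15411 (iv F145559)) (tt N11528 F136667) (tt N12950 F136668) (tt N11519 F136669) (tt N13451 F136670) (tt N11518 (iv D29378)) (tt N15413 D31340))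
theorem Q13453 : ∀ i, i < 13453 → P i := stepQ 13452 Q13452 (allL N13452 (tt N15404 (iv F145510)) (tt N11538 F136671) (tt N12960 F136672) (tt N15412 (iv F145566)) (tt N11529 F136673) (tt N12912 F136674) (tt N15413 (iv F145573)) (tt N11520 F136675) (tt N15317 (iv F145015)) (tt N11519 (iv D29379)))
theorem Q13454 : ∀ i, i < 13454 → P i := stepQ 13453 Q13453 (allL N13453 (tt N12956 F136676) (tt N13453 F136677) (tt N11525 F136678) (tt N15242 (iv F144527)) (tt N12072 F136679) (tt N13453 F136680) (tt N11521 (iv D29380)) (tt N13453 F136681) (tt N12444 (iv F136682)) (tt N15318 (iv F145024)))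
theorem Q13455 : ∀ i, i < 13455 → P i := stepQ 13454 Q13454 (allL N13454 (tt N12958 F136683) (tt N13454 F136684) (tt N11526 F136685) (tt N15237 (iv F144488)) (tt N12074 F136686) (tt N13454 F136687) (tt N12444 F136688) (tt N11522 F136689) (tt N11521 (iv D29381)) (tt N15414 D31341))
theorem Q13456 : ∀ i, i < 13456 → P i := stepQ 13455 Q13455 (allL N13455 (tt N12661 F136690) (tt N13455 F136691) (tt N11527 F136692) (tt N11713 F136693) (tt N12213 F136694) (tt N13455 F136695) (tt N13455 F136696) (tt N15414 (iv F145582)) (tt N11710 F136697) (tt N11522 (iv D29382)))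
theorem Q13457 : ∀ i, i < 13457 → P i := stepQ 13456 Q13456 (allL N13456 (tt N12933 F136698) (tt N11539 F136699) (tt N12072 F136700) (tt N15410 (iv F145552)) (tt N11525 F136701) (tt N12038 F136702) (tt N11523 (iv D29383)) (tt N13456 F136703) (tt N12431 F136704) (tt N15319 (iv F145031)))
theorem Q13458 : ∀ i, i < 13458 → P i := stepQ 13457 Q13457 (allL N13457 (tt N12935 F136705) (tt N11540 F136706) (tt N12074 F136707) (tt N15400 (iv F145484)) (tt N11526 F136708) (tt N12044 F136709) (tt N12431 F136710) (tt N11524 F136711) (tt N11523 (iv D29384)) (tt N15415 D31342))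
theorem Q13459 : ∀ i, i < 13459 → P i := stepQ 13458 Q13458 (allL N13458 (tt N12949 F136712) (tt N11542 F136713) (tt N12213 F136714) (tt N15290 (iv F144861)) (tt N11527 F136715) (tt N12211 F136716) (tt N13458 F136717) (tt N15415 (iv F145590)) (tt N15322 (iv F145047)) (tt N11524 (iv D29385)))
theorem Q13460 : ∀ i, i < 13460 → P i := stepQ 13459 Q13459 (allL N13459 (tt N15405 (iv F145516)) (tt N11543 F136718) (tt N12444 F136719) (tt N11528 F136720) (tt N12431 F136721) (tt N12438 (iv F136724)) (tt N11526 F136722) (tt N13459 F136723) (tt N11525 (iv D29386)) (tt N15416 D31343))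
theorem Q13461 : ∀ i, i < 13461 → P i := stepQ 13460 Q13460 (allL N13460 (tt N15406 (iv F145524)) (tt N11544 F136725) (tt N15414 (iv F145577)) (tt N11529 F136726) (tt N15415 (iv F145587)) (tt N13460 F136727) (tt N15416 (iv F145596)) (tt N11527 F136728) (tt N15324 (iv F145061)) (tt N11526 (iv D29387)))
theorem Q13462 : ∀ i, i < 13462 → P i := stepQ 13461 Q13461 (allL N13461 (tt N15407 (iv F145532)) (tt N11545 F136729) (tt N15245 (iv F144549)) (tt N12438 F136730) (tt N15417 D31344) (tt N11528 (iv D29388)) (tt N13461 F136731) (tt N13461 F136732) (tt N13461 F136733) (tt N15418 D31345))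
theorem Q13463 : ∀ i, i < 13463 → P i := stepQ 13462 Q13462 (allL N13462 (tt N15408 (iv F145539)) (tt N11546 F136734) (tt N15246 (iv F144556)) (tt N15416 (iv F145593)) (tt N15413 (iv F145571)) (tt N15418 (iv F145608)) (tt N11529 F136735) (tt N13462 F136736) (tt N15325 (iv F145067)) (tt N11528 (iv D29389)))
theorem Q13464 : ∀ i, i < 13464 → P i := stepQ 13463 Q13463 (allL N13463 (tt N12421 F136737) (tt N12929 F136738) (tt N11532 F136739) (tt N13463 F136740) (tt N11531 F136741) (tt N12050 F136742) (tt N15419 D31346) (tt N11530 (iv D29390)) (tt N12910 F136743) (tt N15349 (iv F145197)))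
theorem Q13465 : ∀ i, i < 13465 → P i := stepQ 13464 Q13464 (allL N13464 (tt N12423 F136744) (tt N12931 F136745) (tt N11534 F136746) (tt N11547 F136747) (tt N15419 (iv F145615)) (tt N12925 F136748) (tt N11531 (iv D29391)) (tt N13464 F136749) (tt N12911 F136750) (tt N15351 (iv F145211)))
theorem Q13466 : ∀ i, i < 13466 → P i := stepQ 13465 Q13465 (allL N13465 (tt N12426 F136751) (tt N15410 (iv F145551)) (tt N15419 (iv F145613)) (tt N11539 F136752) (tt N11534 F136753) (tt N15420 D31347) (tt N11532 (iv D29392)) (tt N13465 F136754) (tt N15421 D31348) (tt N15353 (iv F145222)))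
theorem Q13467 : ∀ i, i < 13467 → P i := stepQ 13466 Q13466 (allL N13466 (tt N12427 F136755) (tt N15400 (iv F145482)) (tt N12910 F136756) (tt N11540 F136757) (tt N11535 F136758) (tt N15399 (iv F145478)) (tt N15421 (iv F145631)) (tt N11533 F136759) (tt N11532 (iv D29393)) (tt N15422 D31349))
theorem Q13468 : ∀ i, i < 13468 → P i := stepQ 13467 Q13467 (allL N13467 (tt N12428 F136760) (tt N15290 (iv F144859)) (tt N12904 F136761) (tt N11542 F136762) (tt N11536 F136763) (tt N15289 F144857) (tt N13467 F136764) (tt N15422 (iv F145637)) (tt N15356 (iv F145235)) (tt N11533 (iv D29394)))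
theorem Q13469 : ∀ i, i < 13469 → P i := stepQ 13468 Q13468 (allL N13468 (tt N12429 F136765) (tt N15411 (iv F145557)) (tt N12911 F136766) (tt N11537 F136767) (tt N15421 (iv F145629)) (tt N15409 (iv F145547)) (tt N11535 F136768) (tt N13468 F136769) (tt N11534 (iv D29395)) (tt N15423 D31350))
theorem Q13470 : ∀ i, i < 13470 → P i := stepQ 13469 Q13469 (allL N13469 (tt N12430 F136770) (tt N15412 (iv F145564)) (tt N12905 F136771) (tt N11538 F136772) (tt N15422 (iv F145636)) (tt N12903 F136773) (tt N15423 (iv F145641)) (tt N11536 F136774) (tt N15358 (iv F145244)) (tt N11535 (iv D29396)))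
theorem Q13471 : ∀ i, i < 13471 → P i := stepQ 13470 Q13470 (allL N13470 (tt N12431 F136775) (tt N12950 F136776) (tt N11548 F136777) (tt N15409 (iv F145546)) (tt N15405 (iv F145520)) (tt N11537 (iv D29397)) (tt N12935 F136778) (tt N13470 F136779) (tt N12933 F136780) (tt N15424 D31351))
theorem Q13472 : ∀ i, i < 13472 → P i := stepQ 13471 Q13471 (allL N13471 (tt N12432 F136781) (tt N15413 (iv F145569)) (tt N11549 F136782) (tt N15423 (iv F145640)) (tt N11546 F136783) (tt N15424 (iv F145646)) (tt N11538 F136784) (tt N13471 F136785) (tt N15360 (iv F145254)) (tt N11537 (iv D29398)))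
theorem Q13473 : ∀ i, i < 13473 → P i := stepQ 13472 Q13472 (allL N13472 (tt N12433 F136786) (tt N12038 F136787) (tt N13472 F136788) (tt N15420 (iv F145620)) (tt N13472 F136789) (tt N11539 (iv D29399)) (tt N12004 F136790) (tt N13472 F136791) (tt N12003 (iv F136792)) (tt N15361 (iv F145261)))
theorem Q13474 : ∀ i, i < 13474 → P i := stepQ 13473 Q13473 (allL N13473 (tt N12434 F136793) (tt N12431 F136794) (tt N13473 F136795) (tt N15421 (iv F145628)) (tt N11543 F136796) (tt N12414 F136797) (tt N11540 F136798) (tt N13473 F136799) (tt N11539 (iv D29400)) (tt N15425 D31352))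
theorem Q13475 : ∀ i, i < 13475 → P i := stepQ 13474 Q13474 (allL N13474 (tt N12076 F136800) (tt N12044 F136801) (tt N13474 F136802) (tt N15399 (iv F145476)) (tt N13474 F136803) (tt N11540 (iv D29401)) (tt N12011 F136804) (tt N11541 F136805) (tt N12010 F136806) (tt N15426 D31353))
theorem Q13476 : ∀ i, i < 13476 → P i := stepQ 13475 Q13475 (allL N13475 (tt N12435 F136807) (tt N15415 (iv F145585)) (tt N13475 F136808) (tt N15422 (iv F145635)) (tt N11544 F136809) (tt N15426 (iv F145660)) (tt N15425 (iv F145654)) (tt N11542 F136810) (tt N15364 (iv F145275)) (tt N11540 (iv D29402)))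
theorem Q13477 : ∀ i, i < 13477 → P i := stepQ 13476 Q13476 (allL N13476 (tt N12077 F136811) (tt N12211 F136812) (tt N13476 F136813) (tt N15289 (iv F144854)) (tt N13476 F136814) (tt N11542 F136815) (tt N12210 F136816) (tt N15426 (iv F145662)) (tt N15427 D31354) (tt N11541 (iv D29403)))
theorem Q13478 : ∀ i, i < 13478 → P i := stepQ 13477 Q13477 (allL N13477 (tt N12436 F136817) (tt N12438 F136818) (tt N13477 F136819) (tt N11545 F136820) (tt N12418 F136821) (tt N11543 (iv D29404)) (tt N13477 F136822) (tt N13477 F136823) (tt N13477 F136824) (tt N15428 D31355))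
theorem Q13479 : ∀ i, i < 13479 → P i := stepQ 13478 Q13478 (allL N13478 (tt N12437 F136825) (tt N15416 (iv F145591)) (tt N13478 F136826) (tt N11546 F136827) (tt N15425 (iv F145652)) (tt N15428 (iv F145674)) (tt N11544 F136828) (tt N13478 F136829) (tt N15368 (iv F145295)) (tt N11543 (iv D29405)))
theorem Q13480 : ∀ i, i < 13480 → P i := stepQ 13479 Q13479 (allL N13479 (tt N12438 F136830) (tt N15417 (iv F145599)) (tt N11550 F136831) (tt N15407 (iv F145534)) (tt N11545 (iv D29406)) (tt N15405 F145523) (tt N13479 F136832) (tt N13479 F136833) (tt N13479 F136834) (tt N15429 D31356))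
theorem Q13481 : ∀ i, i < 13481 → P i := stepQ 13480 Q13480 (allL N13480 (tt N12439 F136835) (tt N15418 (iv F145606)) (tt N11551 F136836) (tt N15428 (iv F145672)) (tt N15429 (iv F145679)) (tt N11546 F136837) (tt N13480 F136838) (tt N13480 F136839) (tt N15430 D31357) (tt N11545 (iv D29407)))
theorem Q13482 : ∀ i, i < 13482 → P i := stepQ 13481 Q13481 (allL N13481 (tt N12444 F136840) (tt N13263 F136841) (tt N15405 (iv F145518)) (tt N15243 (iv F144534)) (tt N11548 (iv D29408)) (tt N11550 F136842) (tt N12958 F136843) (tt N13481 F136844) (tt N12956 F136845) (tt N15431 D31358))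
theorem Q13483 : ∀ i, i < 13483 → P i := stepQ 13482 Q13482 (allL N13482 (tt N12445 F136846) (tt N13261 F136847) (tt N15424 (iv F145645)) (tt N13258 F136848) (tt N15431 (iv F145690)) (tt N11549 F136849) (tt N12959 F136850) (tt N13482 F136851) (tt N15432 D31359) (tt N11548 (iv D29409)))
theorem Q13484 : ∀ i, i < 13484 → P i := stepQ 13483 Q13483 (allL N13483 (tt N12446 F136852) (tt N15247 (iv F144563)) (tt N15433 D31360) (tt N11550 (iv D29410)) (tt N13483 F136853) (tt N15243 F144539) (tt N13483 F136854) (tt N13483 F136855) (tt N13483 F136856) (tt N15434 D31361))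
theorem Q13485 : ∀ i, i < 13485 → P i := stepQ 13484 Q13484 (allL N13484 (tt N12447 F136857) (tt N15250 (iv F144589)) (tt N15429 (iv F145678)) (tt N15434 (iv F145710)) (tt N11551 F136858) (tt N15431 (iv F145691)) (tt N13484 F136859) (tt N13484 F136860) (tt N15435 D31362) (tt N11550 (iv D29411)))
theorem Q13486 : ∀ i, i < 13486 → P i := stepQ 13485 Q13485 (allL N13485 (tt N12448 F136861) (tt N15251 (iv F144598)) (tt N15430 (iv F145683)) (tt N13485 F136862) (tt N15435 (iv F145719)) (tt N15395 (iv F145451)) (tt N13485 F136863) (tt N13485 F136864) (tt N11551 (iv D29412)) (tt N13485 F136865))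
theorem Q13487 : ∀ i, i < 13487 → P i := stepQ 13486 Q13486 (allL N13486 (tt N11566 F136866) (tt N15436 D31363) (tt N11552 (iv D29413)) (tt N13486 F136867) (tt N11810 F136868) (tt N12728 F136869) (tt N15437 D31364) (tt N11806 F136870) (tt N11555 F136871) (tt N12323 F136872))
theorem Q13488 : ∀ i, i < 13488 → P i := stepQ 13487 Q13487 (allL N13487 (tt N11567 F136873) (tt N12450 F136874) (tt N15437 (iv F145733)) (tt N11553 F136875) (tt N11811 F136876) (tt N15438 D31365) (tt N11552 (iv D29414)) (tt N15439 D31366) (tt N11556 F136877) (tt N12324 F136878))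
theorem Q13489 : ∀ i, i < 13489 → P i := stepQ 13488 Q13488 (allL N13488 (tt N11568 F136879) (tt N12451 F136880) (tt N13488 F136881) (tt N15438 (iv F145740)) (tt N11748 F136882) (tt N11553 (iv D29415)) (tt N12730 F136883) (tt N15440 D31367) (tt N15441 D31368) (tt N12325 F136884))
theorem Q13490 : ∀ i, i < 13490 → P i := stepQ 13489 Q13489 (allL N13489 (tt N11569 F136885) (tt N12452 F136886) (tt N13489 F136887) (tt N15439 (iv F145745)) (tt N11554 F136888) (tt N15440 (iv F145754)) (tt N11809 F136889) (tt N11553 (iv D29416)) (tt N11558 F136890) (tt N12326 F136891))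
theorem Q13491 : ∀ i, i < 13491 → P i := stepQ 13490 Q13490 (allL N13490 (tt N12118 F136892) (tt N11555 (iv D29417)) (tt N12453 F136893) (tt N13490 F136894) (tt N12093 F136895) (tt N13490 F136896) (tt N15442 D31369) (tt N12134 F136897) (tt N15436 (iv F145730)) (tt N13490 F136898))
theorem Q13492 : ∀ i, i < 13492 → P i := stepQ 13491 Q13491 (allL N13491 (tt N11570 F136899) (tt N15442 (iv F145764)) (tt N11556 F136900) (tt N13491 F136901) (tt N12140 F136902) (tt N12537 (iv F136904)) (tt N11555 (iv D29418)) (tt N15443 D31370) (tt N15437 (iv F145736)) (tt N13491 F136903))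
theorem Q13493 : ∀ i, i < 13493 → P i := stepQ 13492 Q13492 (allL N13492 (tt N11571 F136905) (tt N12455 F136906) (tt N12537 F136907) (tt N11557 F136908) (tt N12535 F136909) (tt N11556 (iv D29419)) (tt N13492 F136910) (tt N15444 D31371) (tt N15445 D31372) (tt N13492 F136911))
theorem Q13494 : ∀ i, i < 13494 → P i := stepQ 13493 Q13493 (allL N13493 (tt N11572 F136912) (tt N12456 F136913) (tt N15443 (iv F145771)) (tt N11558 F136914) (tt N12142 F136915) (tt N15444 (iv F145782)) (tt N12137 F136916) (tt N11556 (iv D29420)) (tt N15439 (iv F145748)) (tt N13493 F136917))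
theorem Q13495 : ∀ i, i < 13495 → P i := stepQ 13494 Q13494 (allL N13494 (tt N11573 F136918) (tt N12457 F136919) (tt N13494 F136920) (tt N15444 (iv F145780)) (tt N11561 F136921) (tt N11558 F136922) (tt N15446 D31373) (tt N11557 (iv D29421)) (tt N15447 D31374) (tt N13494 F136923))
theorem Q13496 : ∀ i, i < 13496 → P i := stepQ 13495 Q13495 (allL N13495 (tt N11574 F136924) (tt N11955 F136925) (tt N13495 F136926) (tt N15445 (iv F145787)) (tt N11562 F136927) (tt N15441 (iv F145760)) (tt N13495 F136928) (tt N15447 (iv F145802)) (tt N11557 (iv D29422)) (tt N12394 (iv F136929)))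
theorem Q13497 : ∀ i, i < 13497 → P i := stepQ 13496 Q13496 (allL N13496 (tt N11578 F136930) (tt N12459 F136931) (tt N12632 F136932) (tt N11561 F136933) (tt N12630 F136934) (tt N11560 F136935) (tt N15448 D31375) (tt N11559 (iv D29423)) (tt N12804 F136936) (tt N13496 F136937))
theorem Q13498 : ∀ i, i < 13498 → P i := stepQ 13497 Q13497 (allL N13497 (tt N11580 F136938) (tt N12460 F136939) (tt N13497 F136940) (tt N15448 (iv F145807)) (tt N15446 (iv F145794)) (tt N13497 F136941) (tt N11561 (iv D29424)) (tt N13497 F136942) (tt N15449 D31376) (tt N13497 F136943))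
theorem Q13499 : ∀ i, i < 13499 → P i := stepQ 13498 Q13498 (allL N13498 (tt N11581 F136944) (tt N11956 F136945) (tt N13498 F136946) (tt N12804 F136947) (tt N15447 (iv F145801)) (tt N11760 F136948) (tt N15449 (iv F145817)) (tt N11562 F136949) (tt N11561 (iv D29425)) (tt N12395 (iv F136950)))
theorem Q13500 : ∀ i, i < 13500 → P i := stepQ 13499 Q13499 (allL N13499 (tt N12728 F136951) (tt N12981 (iv F136958)) (tt N11563 (iv D29426)) (tt N13499 F136952) (tt N11814 F136953) (tt N11566 F136954) (tt N15450 D31377) (tt N12323 F136955) (tt N13499 F136956) (tt N11806 F136957))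
theorem Q13501 : ∀ i, i < 13501 → P i := stepQ 13500 Q13500 (allL N13500 (tt N12729 F136959) (tt N11593 F136960) (tt N15450 (iv F145823)) (tt N11564 F136961) (tt N11815 F136962) (tt N15451 D31378) (tt N11563 (iv D29427)) (tt N15452 D31379) (tt N13500 F136963) (tt N11807 F136964))
theorem Q13502 : ∀ i, i < 13502 → P i := stepQ 13501 Q13501 (allL N13501 (tt N12730 F136965) (tt N11594 F136966) (tt N13501 F136967) (tt N15451 (iv F145830)) (tt N11766 F136968) (tt N11564 (iv D29428)) (tt N11568 F136969) (tt N15453 D31380) (tt N15454 D31381) (tt N11808 F136970))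
theorem Q13503 : ∀ i, i < 13503 → P i := stepQ 13502 Q13502 (allL N13502 (tt N12731 F136971) (tt N11595 F136972) (tt N13502 F136973) (tt N15452 (iv F145835)) (tt N11565 F136974) (tt N15453 (iv F145844)) (tt N12326 F136975) (tt N11564 (iv D29429)) (tt N13502 F136976) (tt N11809 F136977))
theorem Q13504 : ∀ i, i < 13504 → P i := stepQ 13503 Q13503 (allL N13503 (tt N15437 (iv F145732)) (tt N12977 F136978) (tt N11567 F136979) (tt N13503 F136980) (tt N12738 F136981) (tt N15455 D31382) (tt N11566 (iv D29430)) (tt N15456 D31383) (tt N11570 F136982) (tt N15326 (iv F145074)))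
theorem Q13505 : ∀ i, i < 13505 → P i := stepQ 13504 Q13504 (allL N13504 (tt N15438 (iv F145738)) (tt N11612 F136983) (tt N15455 (iv F145853)) (tt N11568 F136984) (tt N15457 D31384) (tt N11567 (iv D29431)) (tt N15451 (iv F145831)) (tt N15458 D31385) (tt N15459 D31386) (tt N15327 (iv F145079)))
theorem Q13506 : ∀ i, i < 13506 → P i := stepQ 13505 Q13505 (allL N13505 (tt N15439 (iv F145743)) (tt N11613 F136985) (tt N15456 (iv F145856)) (tt N11569 F136986) (tt N12740 F136987) (tt N15458 (iv F145866)) (tt N12735 F136988) (tt N11567 (iv D29432)) (tt N11572 F136989) (tt N15328 (iv F145086)))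
theorem Q13507 : ∀ i, i < 13507 → P i := stepQ 13506 Q13506 (allL N13506 (tt N15440 (iv F145750)) (tt N11614 F136990) (tt N13506 F136991) (tt N15458 (iv F145865)) (tt N11783 F136992) (tt N11569 F136993) (tt N15460 D31387) (tt N11568 (iv D29433)) (tt N15461 D31388) (tt N15329 (iv F145092)))
theorem Q13508 : ∀ i, i < 13508 → P i := stepQ 13507 Q13507 (allL N13507 (tt N15441 (iv F145756)) (tt N11615 F136994) (tt N13507 F136995) (tt N15459 (iv F145868)) (tt N11784 F136996) (tt N11574 F136997) (tt N15454 (iv F145851)) (tt N15461 (iv F145878)) (tt N11568 (iv D29434)) (tt N15462 D31389))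
theorem Q13509 : ∀ i, i < 13509 → P i := stepQ 13508 Q13508 (allL N13508 (tt N12537 F136998) (tt N12966 F136999) (tt N11571 F137000) (tt N13508 F137001) (tt N11618 F137002) (tt N11570 (iv D29435)) (tt N13508 F137003) (tt N15463 D31390) (tt N15464 D31391) (tt N13508 F137004))
theorem Q13510 : ∀ i, i < 13510 → P i := stepQ 13509 Q13509 (allL N13509 (tt N15443 (iv F145770)) (tt N12976 F137005) (tt N11572 F137006) (tt N13509 F137007) (tt N12962 F137008) (tt N15463 (iv F145889)) (tt N12965 F137009) (tt N11570 (iv D29436)) (tt N15456 (iv F145860)) (tt N13509 F137010))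
theorem Q13511 : ∀ i, i < 13511 → P i := stepQ 13510 Q13510 (allL N13510 (tt N12535 F137011) (tt N11626 F137012) (tt N11618 F137013) (tt N11577 F137014) (tt N11571 (iv D29437)) (tt N11617 F137015) (tt N13510 F137016) (tt N15465 D31392) (tt N15466 D31393) (tt N13510 F137017))
theorem Q13512 : ∀ i, i < 13512 → P i := stepQ 13511 Q13511 (allL N13511 (tt N15444 (iv F145777)) (tt N11627 F137018) (tt N15463 (iv F145886)) (tt N11573 F137019) (tt N15465 (iv F145901)) (tt N11572 F137020) (tt N15467 D31394) (tt N11571 (iv D29438)) (tt N15468 D31395) (tt N13511 F137021))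
theorem Q13513 : ∀ i, i < 13513 → P i := stepQ 13512 Q13512 (allL N13512 (tt N15445 (iv F145784)) (tt N11628 F137022) (tt N15464 (iv F145893)) (tt N11574 F137023) (tt N15466 (iv F145908)) (tt N15459 (iv F145869)) (tt N13512 F137024) (tt N15468 (iv F145918)) (tt N11571 (iv D29439)) (tt N15469 D31396))
theorem Q13514 : ∀ i, i < 13514 → P i := stepQ 13513 Q13513 (allL N13513 (tt N15446 (iv F145791)) (tt N11629 F137025) (tt N13513 F137026) (tt N15467 (iv F145912)) (tt N11580 F137027) (tt N12969 F137028) (tt N11573 (iv D29440)) (tt N13513 F137029) (tt N15470 D31397) (tt N13513 F137030))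
theorem Q13515 : ∀ i, i < 13515 → P i := stepQ 13514 Q13514 (allL N13514 (tt N15447 (iv F145798)) (tt N11630 F137031) (tt N13514 F137032) (tt N15468 (iv F145917)) (tt N11581 F137033) (tt N15461 (iv F145877)) (tt N15470 (iv F145928)) (tt N11574 F137034) (tt N11573 (iv D29441)) (tt N15471 D31398))
theorem Q13516 : ∀ i, i < 13516 → P i := stepQ 13515 Q13515 (allL N13515 (tt N12394 F137035) (tt N11631 F137036) (tt N13515 F137037) (tt N15469 (iv F145921)) (tt N11582 F137038) (tt N15462 (iv F145883)) (tt N13515 F137039) (tt N15471 (iv F145934)) (tt N13515 F137040) (tt N11574 (iv D29442)))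
theorem Q13517 : ∀ i, i < 13517 → P i := stepQ 13516 Q13516 (allL N13516 (tt N12632 F137041) (tt N13516 F137042) (tt N11578 F137043) (tt N13516 F137044) (tt N11685 F137045) (tt N11576 F137046) (tt N15472 D31399) (tt N11575 (iv D29443)) (tt N11945 F137047) (tt N13516 F137048))
theorem Q13518 : ∀ i, i < 13518 → P i := stepQ 13517 Q13517 (allL N13517 (tt N12630 F137049) (tt N11632 F137050) (tt N11685 F137051) (tt N15465 (iv F145900)) (tt N11578 F137052) (tt N11684 F137053) (tt N15473 D31400) (tt N11577 (iv D29444)) (tt N15474 D31401) (tt N13517 F137054))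
theorem Q13519 : ∀ i, i < 13519 → P i := stepQ 13518 Q13518 (allL N13518 (tt N12631 F137055) (tt N11633 F137056) (tt N11686 F137057) (tt N15466 (iv F145907)) (tt N11579 F137058) (tt N15475 D31402) (tt N13518 F137059) (tt N15474 (iv F145956)) (tt N11577 (iv D29445)) (tt N12180 (iv F137060)))
theorem Q13520 : ∀ i, i < 13520 → P i := stepQ 13519 Q13519 (allL N13519 (tt N15448 (iv F145804)) (tt N11634 F137061) (tt N15472 (iv F145938)) (tt N11580 F137062) (tt N15473 (iv F145948)) (tt N13519 F137063) (tt N11578 (iv D29446)) (tt N13519 F137064) (tt N15476 D31403) (tt N13519 F137065))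
theorem Q13521 : ∀ i, i < 13521 → P i := stepQ 13520 Q13520 (allL N13520 (tt N12804 F137066) (tt N11635 F137067) (tt N11945 F137068) (tt N11581 F137069) (tt N15474 (iv F145955)) (tt N11803 F137070) (tt N15476 (iv F145968)) (tt N11579 F137071) (tt N11578 (iv D29447)) (tt N11873 (iv F137072)))
theorem Q13522 : ∀ i, i < 13522 → P i := stepQ 13521 Q13521 (allL N13521 (tt N15449 (iv F145813)) (tt N11637 F137073) (tt N13521 F137074) (tt N15476 (iv F145967)) (tt N15470 (iv F145927)) (tt N15477 D31404) (tt N11581 F137075) (tt N13521 F137076) (tt N11580 (iv D29448)) (tt N15478 D31405))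
theorem Q13523 : ∀ i, i < 13523 → P i := stepQ 13522 Q13522 (allL N13522 (tt N12395 F137077) (tt N11638 F137078) (tt N13522 F137079) (tt N11873 F137080) (tt N15471 (iv F145933)) (tt N11805 F137081) (tt N15478 (iv F145985)) (tt N11582 F137082) (tt N13522 F137083) (tt N11581 (iv D29449)))
theorem Q13524 : ∀ i, i < 13524 → P i := stepQ 13523 Q13523 (allL N13523 (tt N12497 F137084) (tt N12983 F137085) (tt N11583 (iv D29450)) (tt N13523 F137086) (tt N11592 F137087) (tt N11775 F137088) (tt N15479 D31406) (tt N12301 F137089) (tt N13523 F137090) (tt N11764 F137091))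
theorem Q13525 : ∀ i, i < 13525 → P i := stepQ 13524 Q13524 (allL N13524 (tt N12498 F137092) (tt N11815 F137093) (tt N15479 (iv F145990)) (tt N11584 F137094) (tt N11593 F137095) (tt N15480 D31407) (tt N11583 (iv D29451)) (tt N15481 D31408) (tt N13524 F137096) (tt N11765 F137097))
theorem Q13526 : ∀ i, i < 13526 → P i := stepQ 13525 Q13525 (allL N13525 (tt N12499 F137098) (tt N11816 F137099) (tt N13525 F137100) (tt N15480 (iv F145997)) (tt N11808 F137101) (tt N11584 (iv D29452)) (tt N11777 F137102) (tt N15482 D31409) (tt N15483 D31410) (tt N11766 F137103))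
theorem Q13527 : ∀ i, i < 13527 → P i := stepQ 13526 Q13526 (allL N13526 (tt N12500 F137104) (tt N11817 F137105) (tt N13526 F137106) (tt N15481 (iv F146002)) (tt N11585 F137107) (tt N15482 (iv F146011)) (tt N12304 F137108) (tt N11584 (iv D29453)) (tt N13526 F137109) (tt N11767 F137110))
theorem Q13528 : ∀ i, i < 13528 → P i := stepQ 13527 Q13527 (allL N13527 (tt N12469 F137111) (tt N15484 D31411) (tt N11586 (iv D29454)) (tt N11639 F137112) (tt N12301 F137113) (tt N11602 F137114) (tt N15485 D31412) (tt N11592 F137115) (tt N13527 F137116) (tt N12449 F137117))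
theorem Q13529 : ∀ i, i < 13529 → P i := stepQ 13528 Q13528 (allL N13528 (tt N12470 F137118) (tt N12324 F137119) (tt N15485 (iv F146027)) (tt N11587 F137120) (tt N12302 F137121) (tt N15486 D31413) (tt N11586 (iv D29455)) (tt N15487 D31414) (tt N13528 F137122) (tt N12450 F137123))
theorem Q13530 : ∀ i, i < 13530 → P i := stepQ 13529 Q13529 (allL N13529 (tt N12471 F137124) (tt N12325 F137125) (tt N11641 F137126) (tt N15486 (iv F146034)) (tt N12692 F137127) (tt N11587 (iv D29456)) (tt N11604 F137128) (tt N15488 D31415) (tt N15489 D31416) (tt N12451 F137129))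
theorem Q13531 : ∀ i, i < 13531 → P i := stepQ 13530 Q13530 (allL N13530 (tt N12472 F137130) (tt N12326 F137131) (tt N11642 F137132) (tt N15487 (iv F146039)) (tt N11588 F137133) (tt N15488 (iv F146048)) (tt N11595 F137134) (tt N11587 (iv D29457)) (tt N13530 F137135) (tt N12452 F137136))
theorem Q13532 : ∀ i, i < 13532 → P i := stepQ 13531 Q13531 (allL N13531 (tt N12465 F137137) (tt N15490 D31417) (tt N11589 (iv D29458)) (tt N11643 F137138) (tt N11764 F137139) (tt N11606 F137140) (tt N15491 D31418) (tt N12449 F137141) (tt N12098 F137142) (tt N11592 F137143))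
theorem Q13533 : ∀ i, i < 13533 → P i := stepQ 13532 Q13532 (allL N13532 (tt N12466 F137144) (tt N11807 F137145) (tt N15491 (iv F146065)) (tt N11590 F137146) (tt N11765 F137147) (tt N15492 D31419) (tt N11589 (iv D29459)) (tt N15493 D31420) (tt N12099 F137148) (tt N11593 F137149))
theorem Q13534 : ∀ i, i < 13534 → P i := stepQ 13533 Q13533 (allL N13533 (tt N12467 F137150) (tt N11808 F137151) (tt N11645 F137152) (tt N15492 (iv F146072)) (tt N11816 F137153) (tt N11590 (iv D29460)) (tt N11608 F137154) (tt N15494 D31421) (tt N15495 D31422) (tt N11594 F137155))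
theorem Q13535 : ∀ i, i < 13535 → P i := stepQ 13534 Q13534 (allL N13534 (tt N12468 F137156) (tt N11809 F137157) (tt N11646 F137158) (tt N15493 (iv F146077)) (tt N11591 F137159) (tt N15494 (iv F146086)) (tt N12452 F137160) (tt N11590 (iv D29461)) (tt N12101 F137161) (tt N11595 F137162))
theorem Q13536 : ∀ i, i < 13536 → P i := stepQ 13535 Q13535 (allL N13535 (tt N15496 D31423) (tt N11592 (iv D29462)) (tt N12981 F137163) (tt N11647 F137164) (tt N12983 F137165) (tt N11610 F137166) (tt N15497 D31424) (tt N15484 (iv F146023)) (tt N13535 F137167) (tt N15490 (iv F146063)))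
theorem Q13537 : ∀ i, i < 13537 → P i := stepQ 13536 Q13536 (allL N13536 (tt N12502 F137168) (tt N15497 (iv F146100)) (tt N11593 F137169) (tt N11648 F137170) (tt N15479 (iv F145992)) (tt N15498 D31425) (tt N11592 (iv D29463)) (tt N15499 D31426) (tt N13536 F137171) (tt N15491 (iv F146069)))
theorem Q13538 : ∀ i, i < 13538 → P i := stepQ 13537 Q13537 (allL N13537 (tt N12503 F137172) (tt N15451 (iv F145829)) (tt N15498 (iv F146106)) (tt N11594 F137173) (tt N15500 D31427) (tt N11593 (iv D29464)) (tt N11612 F137174) (tt N15501 D31428) (tt N15502 D31429) (tt N15492 (iv F146074)))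
theorem Q13539 : ∀ i, i < 13539 → P i := stepQ 13538 Q13538 (allL N13538 (tt N12504 F137175) (tt N15452 (iv F145834)) (tt N15499 (iv F146110)) (tt N11595 F137176) (tt N15481 (iv F146003)) (tt N15501 (iv F146118)) (tt N15487 (iv F146041)) (tt N11593 (iv D29465)) (tt N13538 F137177) (tt N15493 (iv F146081)))
theorem Q13540 : ∀ i, i < 13540 → P i := stepQ 13539 Q13539 (allL N13539 (tt N12505 F137178) (tt N15453 (iv F145841)) (tt N11651 F137179) (tt N15501 (iv F146117)) (tt N11822 F137180) (tt N11595 F137181) (tt N15503 D31430) (tt N11594 (iv D29466)) (tt N15504 D31431) (tt N15494 (iv F146087)))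
theorem Q13541 : ∀ i, i < 13541 → P i := stepQ 13540 Q13540 (allL N13540 (tt N12506 F137182) (tt N15454 (iv F145847)) (tt N11652 F137183) (tt N15502 (iv F146120)) (tt N11823 F137184) (tt N13540 F137185) (tt N11615 F137186) (tt N15504 (iv F146131)) (tt N11594 (iv D29467)) (tt N15505 D31432))
theorem Q13542 : ∀ i, i < 13542 → P i := stepQ 13541 Q13541 (allL N13541 (tt N12507 F137187) (tt N15506 D31433) (tt N11596 (iv D29468)) (tt N11653 F137188) (tt N12461 F137189) (tt N12167 F137190) (tt N15507 D31434) (tt N11824 F137191) (tt N13541 F137192) (tt N12154 F137193))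
theorem Q13543 : ∀ i, i < 13543 → P i := stepQ 13542 Q13542 (allL N13542 (tt N12508 F137194) (tt N12498 F137195) (tt N15507 (iv F146145)) (tt N11597 F137196) (tt N12462 F137197) (tt N15508 D31435) (tt N11596 (iv D29469)) (tt N15509 D31436) (tt N13542 F137198) (tt N12240 F137199))
theorem Q13544 : ∀ i, i < 13544 → P i := stepQ 13543 Q13543 (allL N13543 (tt N12509 F137200) (tt N12499 F137201) (tt N11655 F137202) (tt N15508 (iv F146152)) (tt N11604 F137203) (tt N11597 (iv D29470)) (tt N12692 F137204) (tt N15510 D31437) (tt N15511 D31438) (tt N12241 F137205))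
theorem Q13545 : ∀ i, i < 13545 → P i := stepQ 13544 Q13544 (allL N13544 (tt N12510 F137206) (tt N12500 F137207) (tt N11656 F137208) (tt N15509 (iv F146157)) (tt N11598 F137209) (tt N15510 (iv F146166)) (tt N11827 F137210) (tt N11597 (iv D29471)) (tt N13544 F137211) (tt N12242 F137212))
theorem Q13546 : ∀ i, i < 13546 → P i := stepQ 13545 Q13545 (allL N13545 (tt N12461 F137213) (tt N15512 D31439) (tt N11599 (iv D29472)) (tt N11657 F137214) (tt N12507 F137215) (tt N12449 F137216) (tt N15513 D31440) (tt N11606 F137217) (tt N13545 F137218) (tt N11602 F137219))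
theorem Q13547 : ∀ i, i < 13547 → P i := stepQ 13546 Q13546 (allL N13546 (tt N12462 F137220) (tt N12729 F137221) (tt N15513 (iv F146183)) (tt N11600 F137222) (tt N12508 F137223) (tt N15514 D31441) (tt N11599 (iv D29473)) (tt N15515 D31442) (tt N13546 F137224) (tt N11603 F137225))
theorem Q13548 : ∀ i, i < 13548 → P i := stepQ 13547 Q13547 (allL N13547 (tt N12463 F137226) (tt N12730 F137227) (tt N11659 F137228) (tt N15514 (iv F146190)) (tt N12241 F137229) (tt N11600 (iv D29474)) (tt N12451 F137230) (tt N15516 D31443) (tt N15517 D31444) (tt N11604 F137231))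
theorem Q13549 : ∀ i, i < 13549 → P i := stepQ 13548 Q13548 (allL N13548 (tt N12464 F137232) (tt N12731 F137233) (tt N11660 F137234) (tt N15515 (iv F146195)) (tt N11601 F137235) (tt N15516 (iv F146204)) (tt N11609 F137236) (tt N11600 (iv D29475)) (tt N13548 F137237) (tt N11605 F137238))
theorem Q13550 : ∀ i, i < 13550 → P i := stepQ 13549 Q13549 (allL N13549 (tt N15518 D31445) (tt N11602 (iv D29476)) (tt N12732 F137239) (tt N11661 F137240) (tt N12698 F137241) (tt N15484 (iv F146022)) (tt N15261 (iv F144671)) (tt N11610 F137242) (tt N11616 F137243) (tt N15512 (iv F146181)))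
theorem Q13551 : ∀ i, i < 13551 → P i := stepQ 13550 Q13550 (allL N13550 (tt N12512 F137244) (tt N15261 (iv F144667)) (tt N11603 F137245) (tt N11662 F137246) (tt N12699 F137247) (tt N15519 D31446) (tt N11602 (iv D29477)) (tt N15520 D31447) (tt N11617 F137248) (tt N15513 (iv F146187)))
theorem Q13552 : ∀ i, i < 13552 → P i := stepQ 13551 Q13551 (allL N13551 (tt N12513 F137249) (tt N12734 F137250) (tt N15519 (iv F146221)) (tt N11604 F137251) (tt N15521 D31448) (tt N11603 (iv D29478)) (tt N15486 (iv F146035)) (tt N15522 D31449) (tt N15523 D31450) (tt N15514 (iv F146192)))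
theorem Q13553 : ∀ i, i < 13553 → P i := stepQ 13552 Q13552 (allL N13552 (tt N12514 F137252) (tt N12735 F137253) (tt N15520 (iv F146224)) (tt N11605 F137254) (tt N12701 F137255) (tt N15522 (iv F146235)) (tt N11613 F137256) (tt N11603 (iv D29479)) (tt N11619 F137257) (tt N15515 (iv F146199)))
theorem Q13554 : ∀ i, i < 13554 → P i := stepQ 13553 Q13553 (allL N13553 (tt N12515 F137258) (tt N12736 F137259) (tt N11665 F137260) (tt N15522 (iv F146234)) (tt N15510 (iv F146165)) (tt N11605 F137261) (tt N15524 D31451) (tt N11604 (iv D29480)) (tt N15525 D31452) (tt N15516 (iv F146205)))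
theorem Q13555 : ∀ i, i < 13555 → P i := stepQ 13554 Q13554 (allL N13554 (tt N12516 F137262) (tt N12737 F137263) (tt N11666 F137264) (tt N15523 (iv F146238)) (tt N15511 (iv F146171)) (tt N11621 F137265) (tt N15489 (iv F146055)) (tt N15525 (iv F146248)) (tt N11604 (iv D29481)) (tt N15526 D31453))
theorem Q13556 : ∀ i, i < 13556 → P i := stepQ 13555 Q13555 (allL N13555 (tt N15527 D31454) (tt N11606 (iv D29482)) (tt N12982 F137266) (tt N11667 F137267) (tt N12758 F137268) (tt N15490 (iv F146060)) (tt N15528 D31455) (tt N15512 (iv F146179)) (tt N13555 F137269) (tt N11610 F137270))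
theorem Q13557 : ∀ i, i < 13557 → P i := stepQ 13556 Q13556 (allL N13556 (tt N12518 F137271) (tt N15528 (iv F146262)) (tt N11607 F137272) (tt N11668 F137273) (tt N12759 F137274) (tt N15529 D31456) (tt N11606 (iv D29483)) (tt N15530 D31457) (tt N13556 F137275) (tt N11611 F137276))
theorem Q13558 : ∀ i, i < 13558 → P i := stepQ 13557 Q13557 (allL N13557 (tt N12519 F137277) (tt N15327 (iv F145076)) (tt N15529 (iv F146269)) (tt N11608 F137278) (tt N15531 D31458) (tt N11607 (iv D29484)) (tt N15492 (iv F146073)) (tt N15532 D31459) (tt N15533 D31460) (tt N11612 F137279))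
theorem Q13559 : ∀ i, i < 13559 → P i := stepQ 13558 Q13558 (allL N13558 (tt N12520 F137280) (tt N15328 (iv F145081)) (tt N15530 (iv F146273)) (tt N11609 F137281) (tt N12761 F137282) (tt N15532 (iv F146284)) (tt N15515 (iv F146197)) (tt N11607 (iv D29485)) (tt N13558 F137283) (tt N11613 F137284))
theorem Q13560 : ∀ i, i < 13560 → P i := stepQ 13559 Q13559 (allL N13559 (tt N12521 F137285) (tt N15329 (iv F145088)) (tt N11671 F137286) (tt N15532 (iv F146283)) (tt N11837 F137287) (tt N11609 F137288) (tt N15534 D31461) (tt N11608 (iv D29486)) (tt N15535 D31462) (tt N11614 F137289))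
theorem Q13561 : ∀ i, i < 13561 → P i := stepQ 13560 Q13560 (allL N13560 (tt N12522 F137290) (tt N15330 (iv F145094)) (tt N11672 F137291) (tt N15533 (iv F146287)) (tt N11838 F137292) (tt N13560 F137293) (tt N15495 (iv F146093)) (tt N15535 (iv F146297)) (tt N11608 (iv D29487)) (tt N15536 D31463))
theorem Q13562 : ∀ i, i < 13562 → P i := stepQ 13561 Q13561 (allL N13561 (tt N11610 (iv D29488)) (tt N12523 F137294) (tt N12159 F137295) (tt N11673 F137296) (tt N12157 F137297) (tt N15496 (iv F146098)) (tt N15537 D31464) (tt N15518 (iv F146218)) (tt N11622 F137298) (tt N15527 (iv F146261)))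
theorem Q13563 : ∀ i, i < 13563 → P i := stepQ 13562 Q13562 (allL N13562 (tt N15537 (iv F146303)) (tt N11611 F137299) (tt N12977 F137300) (tt N11674 F137301) (tt N12975 F137302) (tt N15538 D31465) (tt N11610 (iv D29489)) (tt N15539 D31466) (tt N11623 F137303) (tt N15528 (iv F146267)))
theorem Q13564 : ∀ i, i < 13564 → P i := stepQ 13563 Q13563 (allL N13563 (tt N12525 F137304) (tt N15538 (iv F146309)) (tt N11612 F137305) (tt N11675 F137306) (tt N15540 D31467) (tt N11611 (iv D29490)) (tt N15498 (iv F146108)) (tt N15541 D31468) (tt N15542 D31469) (tt N15529 (iv F146271)))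
theorem Q13565 : ∀ i, i < 13565 → P i := stepQ 13564 Q13564 (allL N13564 (tt N12526 F137307) (tt N15539 (iv F146312)) (tt N11613 F137308) (tt N11676 F137309) (tt N15253 (iv F144617)) (tt N15541 (iv F146322)) (tt N15520 (iv F146227)) (tt N11611 (iv D29491)) (tt N11625 F137310) (tt N15530 (iv F146277)))
theorem Q13566 : ∀ i, i < 13566 → P i := stepQ 13565 Q13565 (allL N13565 (tt N12527 F137311) (tt N15457 (iv F145861)) (tt N15540 (iv F146318)) (tt N11843 F137312) (tt N11612 (iv D29492)) (tt N15254 (iv F144624)) (tt N15500 (iv F146115)) (tt N15543 D31470) (tt N15544 D31471) (tt N15531 (iv F146281)))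
theorem Q13567 : ∀ i, i < 13567 → P i := stepQ 13566 Q13566 (allL N13566 (tt N12528 F137313) (tt N15458 (iv F145864)) (tt N15541 (iv F146320)) (tt N11614 F137314) (tt N15543 (iv F146329)) (tt N11613 F137315) (tt N15545 D31472) (tt N11612 (iv D29493)) (tt N15546 D31473) (tt N15532 (iv F146285)))
theorem Q13568 : ∀ i, i < 13568 → P i := stepQ 13567 Q13567 (allL N13567 (tt N12529 F137316) (tt N15459 (iv F145867)) (tt N15542 (iv F146324)) (tt N11615 F137317) (tt N15544 (iv F146332)) (tt N11628 F137318) (tt N15502 (iv F146122)) (tt N15546 (iv F146338)) (tt N11612 (iv D29494)) (tt N15547 D31474))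
theorem Q13569 : ∀ i, i < 13569 → P i := stepQ 13568 Q13568 (allL N13568 (tt N12530 F137319) (tt N15460 (iv F145870)) (tt N11680 F137320) (tt N15545 (iv F146334)) (tt N11846 F137321) (tt N15524 (iv F146243)) (tt N11614 (iv D29495)) (tt N15503 (iv F146126)) (tt N15548 D31475) (tt N15534 (iv F146292)))
theorem Q13570 : ∀ i, i < 13570 → P i := stepQ 13569 Q13569 (allL N13569 (tt N12531 F137322) (tt N15461 (iv F145874)) (tt N11681 F137323) (tt N15546 (iv F146336)) (tt N11847 F137324) (tt N11630 F137325) (tt N15548 (iv F146345)) (tt N11615 F137326) (tt N11614 (iv D29496)) (tt N15549 D31476))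
theorem Q13571 : ∀ i, i < 13571 → P i := stepQ 13570 Q13570 (allL N13570 (tt N12532 F137327) (tt N15462 (iv F145880)) (tt N11682 F137328) (tt N15547 (iv F146340)) (tt N11848 F137329) (tt N11631 F137330) (tt N15505 (iv F146136)) (tt N15549 (iv F146350)) (tt N15536 (iv F146302)) (tt N11615 (iv D29497)))
theorem Q13572 : ∀ i, i < 13572 → P i := stepQ 13571 Q13571 (allL N13571 (tt N11616 (iv D29498)) (tt N12533 F137331) (tt N12158 F137332) (tt N11683 F137333) (tt N12156 F137334) (tt N13571 F137335) (tt N12252 F137336) (tt N11622 F137337) (tt N15518 (iv F146219)) (tt N13571 F137338))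
theorem Q13573 : ∀ i, i < 13573 → P i := stepQ 13572 Q13572 (allL N13572 (tt N12536 F137339) (tt N15260 (iv F144659)) (tt N11619 F137340) (tt N11684 F137341) (tt N12961 F137342) (tt N15465 (iv F145902)) (tt N11625 F137343) (tt N11617 (iv D29499)) (tt N15520 (iv F146228)) (tt N13572 F137344))
theorem Q13574 : ∀ i, i < 13574 → P i := stepQ 13573 Q13573 (allL N13573 (tt N12538 F137345) (tt N12967 F137346) (tt N15465 (iv F145899)) (tt N11620 F137347) (tt N15463 (iv F145888)) (tt N11619 F137348) (tt N15550 D31477) (tt N11618 (iv D29500)) (tt N15551 D31478) (tt N13573 F137349))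
theorem Q13575 : ∀ i, i < 13575 → P i := stepQ 13574 Q13574 (allL N13574 (tt N12539 F137350) (tt N12968 F137351) (tt N15466 (iv F145906)) (tt N11621 F137352) (tt N15464 (iv F145895)) (tt N15523 (iv F146239)) (tt N13574 F137353) (tt N15551 (iv F146360)) (tt N11618 (iv D29501)) (tt N15552 D31479))
theorem Q13576 : ∀ i, i < 13576 → P i := stepQ 13575 Q13575 (allL N13575 (tt N12540 F137354) (tt N12969 F137355) (tt N11687 F137356) (tt N15550 (iv F146353)) (tt N13575 F137357) (tt N11629 F137358) (tt N11620 (iv D29502)) (tt N13575 F137359) (tt N15553 D31480) (tt N13575 F137360))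
theorem Q13577 : ∀ i, i < 13577 → P i := stepQ 13576 Q13576 (allL N13576 (tt N12541 F137361) (tt N12970 F137362) (tt N11688 F137363) (tt N15551 (iv F146359)) (tt N13576 F137364) (tt N15525 (iv F146247)) (tt N15553 (iv F146371)) (tt N11621 F137365) (tt N11620 (iv D29503)) (tt N15554 D31481))
theorem Q13578 : ∀ i, i < 13578 → P i := stepQ 13577 Q13577 (allL N13577 (tt N12542 F137366) (tt N12971 F137367) (tt N11689 F137368) (tt N15552 (iv F146364)) (tt N13577 F137369) (tt N15526 (iv F146253)) (tt N13577 F137370) (tt N15554 (iv F146377)) (tt N13577 F137371) (tt N11621 (iv D29504)))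
theorem Q13579 : ∀ i, i < 13579 → P i := stepQ 13578 Q13578 (allL N13578 (tt N11623 F137372) (tt N12543 F137373) (tt N12148 F137374) (tt N11690 F137375) (tt N12146 F137376) (tt N15555 D31482) (tt N11622 (iv D29505)) (tt N15556 D31483) (tt N15537 (iv F146308)) (tt N13578 F137377))
theorem Q13580 : ∀ i, i < 13580 → P i := stepQ 13579 Q13579 (allL N13579 (tt N15555 (iv F146379)) (tt N11624 F137378) (tt N12966 F137379) (tt N11691 F137380) (tt N12964 F137381) (tt N11623 (iv D29506)) (tt N13579 F137382) (tt N15557 D31484) (tt N15558 D31485) (tt N13579 F137383))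
theorem Q13581 : ∀ i, i < 13581 → P i := stepQ 13580 Q13580 (allL N13580 (tt N15556 (iv F146386)) (tt N11625 F137384) (tt N12976 F137385) (tt N11692 F137386) (tt N12974 F137387) (tt N15557 (iv F146397)) (tt N15260 (iv F144664)) (tt N11623 (iv D29507)) (tt N15539 (iv F146316)) (tt N13580 F137388))
theorem Q13582 : ∀ i, i < 13582 → P i := stepQ 13581 Q13581 (allL N13581 (tt N12546 F137389) (tt N12964 F137390) (tt N11626 F137391) (tt N13581 F137392) (tt N11624 (iv D29508)) (tt N12963 F137393) (tt N13581 F137394) (tt N15559 D31486) (tt N15560 D31487) (tt N13581 F137395))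
theorem Q13583 : ∀ i, i < 13583 → P i := stepQ 13582 Q13582 (allL N13582 (tt N12547 F137396) (tt N15557 (iv F146393)) (tt N11627 F137397) (tt N11693 F137398) (tt N15559 (iv F146408)) (tt N11625 F137399) (tt N15561 D31488) (tt N11624 (iv D29509)) (tt N15562 D31489) (tt N13582 F137400))
theorem Q13584 : ∀ i, i < 13584 → P i := stepQ 13583 Q13583 (allL N13583 (tt N12548 F137401) (tt N15558 (iv F146399)) (tt N11628 F137402) (tt N11694 F137403) (tt N15560 (iv F146415)) (tt N15542 (iv F146326)) (tt N13583 F137404) (tt N15562 (iv F146425)) (tt N11624 (iv D29510)) (tt N15563 D31490))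
theorem Q13585 : ∀ i, i < 13585 → P i := stepQ 13584 Q13584 (allL N13584 (tt N12549 F137405) (tt N15465 (iv F145898)) (tt N15559 (iv F146406)) (tt N11632 F137406) (tt N11627 F137407) (tt N15260 (iv F144663)) (tt N15564 D31491) (tt N11626 (iv D29511)) (tt N15565 D31492) (tt N13584 F137408))
theorem Q13586 : ∀ i, i < 13586 → P i := stepQ 13585 Q13585 (allL N13585 (tt N12550 F137409) (tt N15466 (iv F145905)) (tt N15560 (iv F146413)) (tt N11633 F137410) (tt N11628 F137411) (tt N15566 D31493) (tt N13585 F137412) (tt N15565 (iv F146439)) (tt N11626 (iv D29512)) (tt N15567 D31494))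
theorem Q13587 : ∀ i, i < 13587 → P i := stepQ 13586 Q13586 (allL N13586 (tt N12551 F137413) (tt N15467 (iv F145911)) (tt N15561 (iv F146418)) (tt N11629 F137414) (tt N15564 (iv F146433)) (tt N15550 (iv F146354)) (tt N11627 (iv D29513)) (tt N13586 F137415) (tt N15568 D31495) (tt N13586 F137416))
theorem Q13588 : ∀ i, i < 13588 → P i := stepQ 13587 Q13587 (allL N13587 (tt N12552 F137417) (tt N15468 (iv F145916)) (tt N15562 (iv F146423)) (tt N11630 F137418) (tt N15565 (iv F146438)) (tt N15546 (iv F146337)) (tt N15568 (iv F146450)) (tt N11628 F137419) (tt N11627 (iv D29514)) (tt N15569 D31496))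
theorem Q13589 : ∀ i, i < 13589 → P i := stepQ 13588 Q13588 (allL N13588 (tt N12553 F137420) (tt N15469 (iv F145920)) (tt N15563 (iv F146427)) (tt N11631 F137421) (tt N15567 (iv F146445)) (tt N15547 (iv F146341)) (tt N13588 F137422) (tt N15569 (iv F146454)) (tt N13588 F137423) (tt N11628 (iv D29515)))
theorem Q13590 : ∀ i, i < 13590 → P i := stepQ 13589 Q13589 (allL N13589 (tt N12554 F137424) (tt N15470 (iv F145925)) (tt N11698 F137425) (tt N15568 (iv F146449)) (tt N11637 F137426) (tt N15570 D31497) (tt N11630 F137427) (tt N13589 F137428) (tt N11629 (iv D29516)) (tt N15571 D31498))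
theorem Q13591 : ∀ i, i < 13591 → P i := stepQ 13590 Q13590 (allL N13590 (tt N12555 F137429) (tt N15471 (iv F145931)) (tt N11699 F137430) (tt N15569 (iv F146453)) (tt N11638 F137431) (tt N15549 (iv F146349)) (tt N15571 (iv F146462)) (tt N11631 F137432) (tt N13590 F137433) (tt N11630 (iv D29517)))
theorem Q13592 : ∀ i, i < 13592 → P i := stepQ 13591 Q13591 (allL N13591 (tt N12556 F137434) (tt N15473 (iv F145946)) (tt N13591 F137435) (tt N15564 (iv F146432)) (tt N11634 F137436) (tt N15572 D31499) (tt N11632 (iv D29518)) (tt N13591 F137437) (tt N15573 D31500) (tt N13591 F137438))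
theorem Q13593 : ∀ i, i < 13593 → P i := stepQ 13592 Q13592 (allL N13592 (tt N12557 F137439) (tt N15474 (iv F145953)) (tt N13592 F137440) (tt N15565 (iv F146437)) (tt N11635 F137441) (tt N15574 D31501) (tt N15573 (iv F146475)) (tt N11633 F137442) (tt N11632 (iv D29519)) (tt N15575 D31502))
theorem Q13594 : ∀ i, i < 13594 → P i := stepQ 13593 Q13593 (allL N13593 (tt N12558 F137443) (tt N15475 (iv F145959)) (tt N13593 F137444) (tt N15566 (iv F146441)) (tt N11871 F137445) (tt N11633 (iv D29520)) (tt N15576 D31503) (tt N15574 (iv F146480)) (tt N15266 (iv F144701)) (tt N15577 D31504))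
theorem Q13595 : ∀ i, i < 13595 → P i := stepQ 13594 Q13594 (allL N13594 (tt N11967 F137446) (tt N12180 F137447) (tt N13594 F137448) (tt N15567 (iv F146444)) (tt N11636 F137449) (tt N15577 (iv F146495)) (tt N13594 F137450) (tt N15575 (iv F146485)) (tt N13594 F137451) (tt N11633 (iv D29521)))
theorem Q13596 : ∀ i, i < 13596 → P i := stepQ 13595 Q13595 (allL N13595 (tt N12559 F137452) (tt N15476 (iv F145965)) (tt N13595 F137453) (tt N11637 F137454) (tt N15573 (iv F146474)) (tt N15478 (iv F145984)) (tt N11635 F137455) (tt N13595 F137456) (tt N11634 (iv D29522)) (tt N15477 F145979))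
theorem Q13597 : ∀ i, i < 13597 → P i := stepQ 13596 Q13596 (allL N13596 (tt N11968 F137457) (tt N11873 F137458) (tt N13596 F137459) (tt N11638 F137460) (tt N15575 (iv F146484)) (tt N11804 F137461) (tt N15477 (iv F145976)) (tt N11636 F137462) (tt N13596 F137463) (tt N11635 (iv D29523)))
theorem Q13598 : ∀ i, i < 13598 → P i := stepQ 13597 Q13597 (allL N13597 (tt N12560 F137464) (tt N15477 (iv F145973)) (tt N11700 F137465) (tt N15478 (iv F145983)) (tt N15578 D31505) (tt N11637 (iv D29524)) (tt N11873 F137466) (tt N13597 F137467) (tt N13597 F137468) (tt N15476 F145971))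
theorem Q13599 : ∀ i, i < 13599 → P i := stepQ 13598 Q13598 (allL N13598 (tt N12561 F137469) (tt N15478 (iv F145981)) (tt N11701 F137470) (tt N15477 (iv F145975)) (tt N15571 (iv F146461)) (tt N15476 F145970) (tt N11638 F137471) (tt N13598 F137472) (tt N13598 F137473) (tt N11637 (iv D29525)))
theorem Q13600 : ∀ i, i < 13600 → P i := stepQ 13599 Q13599 (allL N13599 (tt N15579 D31506) (tt N11639 (iv D29526)) (tt N13599 F137474) (tt N15484 (iv F146020)) (tt N13599 F137475) (tt N11661 F137476) (tt N15580 D31507) (tt N11647 F137477) (tt N13599 F137478) (tt N12995 F137479))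
theorem Q13601 : ∀ i, i < 13601 → P i := stepQ 13600 Q13600 (allL N13600 (tt N12563 F137480) (tt N15580 (iv F146508)) (tt N11640 F137481) (tt N15485 (iv F146028)) (tt N13600 F137482) (tt N15581 D31508) (tt N11639 (iv D29527)) (tt N15582 D31509) (tt N13600 F137483) (tt N12996 F137484))
theorem Q13602 : ∀ i, i < 13602 → P i := stepQ 13601 Q13601 (allL N13601 (tt N12564 F137485) (tt N13601 F137486) (tt N15581 (iv F146514)) (tt N11641 F137487) (tt N15583 D31510) (tt N11640 (iv D29528)) (tt N11663 F137488) (tt N15584 D31511) (tt N15585 D31512) (tt N12997 F137489))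
theorem Q13603 : ∀ i, i < 13603 → P i := stepQ 13602 Q13602 (allL N13602 (tt N12565 F137490) (tt N13602 F137491) (tt N15582 (iv F146518)) (tt N11642 F137492) (tt N13602 F137493) (tt N15584 (iv F146533)) (tt N11650 F137494) (tt N11640 (iv D29529)) (tt N13602 F137495) (tt N12998 F137496))
theorem Q13604 : ∀ i, i < 13604 → P i := stepQ 13603 Q13603 (allL N13603 (tt N12566 F137497) (tt N13603 F137498) (tt N15488 (iv F146046)) (tt N15584 (iv F146532)) (tt N13196 F137499) (tt N11642 F137500) (tt N15586 D31513) (tt N11641 (iv D29530)) (tt N15587 D31514) (tt N12999 F137501))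
theorem Q13605 : ∀ i, i < 13605 → P i := stepQ 13604 Q13604 (allL N13604 (tt N12567 F137502) (tt N13604 F137503) (tt N15489 (iv F146052)) (tt N15585 (iv F146537)) (tt N12380 F137504) (tt N13604 F137505) (tt N11666 F137506) (tt N15587 (iv F146552)) (tt N11641 (iv D29531)) (tt N12377 F137507))
theorem Q13606 : ∀ i, i < 13606 → P i := stepQ 13605 Q13605 (allL N13605 (tt N15588 D31515) (tt N11643 (iv D29532)) (tt N13605 F137508) (tt N15490 (iv F146058)) (tt N13605 F137509) (tt N11667 F137510) (tt N15589 D31516) (tt N12995 F137511) (tt N13000 F137512) (tt N11647 F137513))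
theorem Q13607 : ∀ i, i < 13607 → P i := stepQ 13606 Q13606 (allL N13606 (tt N12569 F137514) (tt N15589 (iv F146561)) (tt N11644 F137515) (tt N15491 (iv F146066)) (tt N13606 F137516) (tt N15590 D31517) (tt N11643 (iv D29533)) (tt N15591 D31518) (tt N13001 F137517) (tt N11648 F137518))
theorem Q13608 : ∀ i, i < 13608 → P i := stepQ 13607 Q13607 (allL N13607 (tt N12570 F137519) (tt N13607 F137520) (tt N15590 (iv F146567)) (tt N11645 F137521) (tt N15592 D31519) (tt N11644 (iv D29534)) (tt N11669 F137522) (tt N15593 D31520) (tt N15594 D31521) (tt N11649 F137523))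
theorem Q13609 : ∀ i, i < 13609 → P i := stepQ 13608 Q13608 (allL N13608 (tt N12571 F137524) (tt N13608 F137525) (tt N15591 (iv F146571)) (tt N11646 F137526) (tt N13608 F137527) (tt N15593 (iv F146586)) (tt N12998 F137528) (tt N11644 (iv D29535)) (tt N13003 F137529) (tt N11650 F137530))
theorem Q13610 : ∀ i, i < 13610 → P i := stepQ 13609 Q13609 (allL N13609 (tt N12572 F137531) (tt N13609 F137532) (tt N15494 (iv F146084)) (tt N15593 (iv F146585)) (tt N11887 F137533) (tt N11646 F137534) (tt N15595 D31522) (tt N11645 (iv D29536)) (tt N15596 D31523) (tt N11651 F137535))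
theorem Q13611 : ∀ i, i < 13611 → P i := stepQ 13610 Q13610 (allL N13610 (tt N12573 F137536) (tt N13610 F137537) (tt N15495 (iv F146090)) (tt N15594 (iv F146590)) (tt N11888 F137538) (tt N13005 F137539) (tt N11672 F137540) (tt N15596 (iv F146605)) (tt N11645 (iv D29537)) (tt N15597 D31524))
theorem Q13612 : ∀ i, i < 13612 → P i := stepQ 13611 Q13611 (allL N13611 (tt N11647 (iv D29538)) (tt N12574 F137541) (tt N13611 F137542) (tt N15496 (iv F146096)) (tt N13611 F137543) (tt N11673 F137544) (tt N15598 D31525) (tt N15579 (iv F146505)) (tt N13611 F137545) (tt N15588 (iv F146560)))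
theorem Q13613 : ∀ i, i < 13613 → P i := stepQ 13612 Q13612 (allL N13612 (tt N15598 (iv F146613)) (tt N11648 F137546) (tt N13612 F137547) (tt N15497 (iv F146102)) (tt N13612 F137548) (tt N15599 D31526) (tt N11647 (iv D29539)) (tt N15600 D31527) (tt N13612 F137549) (tt N15589 (iv F146565)))
theorem Q13614 : ∀ i, i < 13614 → P i := stepQ 13613 Q13613 (allL N13613 (tt N12576 F137550) (tt N15599 (iv F146618)) (tt N11649 F137551) (tt N15498 (iv F146107)) (tt N15601 D31528) (tt N11648 (iv D29540)) (tt N11675 F137552) (tt N15602 D31529) (tt N15603 D31530) (tt N15590 (iv F146569)))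
theorem Q13615 : ∀ i, i < 13615 → P i := stepQ 13614 Q13614 (allL N13614 (tt N12577 F137553) (tt N15600 (iv F146621)) (tt N11650 F137554) (tt N15499 (iv F146111)) (tt N13614 F137555) (tt N15602 (iv F146631)) (tt N15582 (iv F146520)) (tt N11648 (iv D29541)) (tt N13614 F137556) (tt N15591 (iv F146575)))
theorem Q13616 : ∀ i, i < 13616 → P i := stepQ 13615 Q13615 (allL N13615 (tt N12578 F137557) (tt N13615 F137558) (tt N15601 (iv F146626)) (tt N11893 F137559) (tt N11649 (iv D29542)) (tt N13615 F137560) (tt N11677 F137561) (tt N15604 D31531) (tt N15605 D31532) (tt N15592 (iv F146581)))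
theorem Q13617 : ∀ i, i < 13617 → P i := stepQ 13616 Q13616 (allL N13616 (tt N12579 F137562) (tt N13616 F137563) (tt N15602 (iv F146630)) (tt N11651 F137564) (tt N15604 (iv F146639)) (tt N11650 F137565) (tt N15606 D31533) (tt N11649 (iv D29543)) (tt N15607 D31534) (tt N15593 (iv F146587)))
theorem Q13618 : ∀ i, i < 13618 → P i := stepQ 13617 Q13617 (allL N13617 (tt N12580 F137566) (tt N13617 F137567) (tt N15603 (iv F146633)) (tt N11652 F137568) (tt N15605 (iv F146644)) (tt N13617 F137569) (tt N11679 F137570) (tt N15607 (iv F146656)) (tt N11649 (iv D29544)) (tt N15608 D31535))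
theorem Q13619 : ∀ i, i < 13619 → P i := stepQ 13618 Q13618 (allL N13618 (tt N12581 F137571) (tt N13618 F137572) (tt N15503 (iv F146124)) (tt N15606 (iv F146650)) (tt N11896 F137573) (tt N15586 (iv F146545)) (tt N11651 (iv D29545)) (tt N11680 F137574) (tt N15609 D31536) (tt N15595 (iv F146600)))
theorem Q13620 : ∀ i, i < 13620 → P i := stepQ 13619 Q13619 (allL N13619 (tt N12582 F137575) (tt N13619 F137576) (tt N15504 (iv F146128)) (tt N15607 (iv F146654)) (tt N11897 F137577) (tt N13619 F137578) (tt N15609 (iv F146667)) (tt N11652 F137579) (tt N11651 (iv D29546)) (tt N15610 D31537))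
theorem Q13621 : ∀ i, i < 13621 → P i := stepQ 13620 Q13620 (allL N13620 (tt N12583 F137580) (tt N13620 F137581) (tt N15505 (iv F146133)) (tt N15608 (iv F146659)) (tt N11898 F137582) (tt N13620 F137583) (tt N11682 F137584) (tt N15610 (iv F146673)) (tt N15597 (iv F146612)) (tt N11652 (iv D29547)))
theorem Q13622 : ∀ i, i < 13622 → P i := stepQ 13621 Q13621 (allL N13621 (tt N15611 D31538) (tt N11653 (iv D29548)) (tt N13621 F137585) (tt N15506 (iv F146138)) (tt N11702 F137586) (tt N12127 F137587) (tt N15612 D31539) (tt N11899 F137588) (tt N13621 F137589) (tt N12114 F137590))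
theorem Q13623 : ∀ i, i < 13623 → P i := stepQ 13622 Q13622 (allL N13622 (tt N12585 F137591) (tt N15612 (iv F146683)) (tt N11654 F137592) (tt N15507 (iv F146146)) (tt N11703 F137593) (tt N15613 D31540) (tt N11653 (iv D29549)) (tt N15614 D31541) (tt N13622 F137594) (tt N12144 F137595))
theorem Q13624 : ∀ i, i < 13624 → P i := stepQ 13623 Q13623 (allL N13623 (tt N12586 F137596) (tt N13623 F137597) (tt N15613 (iv F146689)) (tt N11655 F137598) (tt N15615 D31542) (tt N11654 (iv D29550)) (tt N11911 F137599) (tt N15616 D31543) (tt N12370 (iv F137601)) (tt N11883 F137600))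
theorem Q13625 : ∀ i, i < 13625 → P i := stepQ 13624 Q13624 (allL N13624 (tt N12587 F137602) (tt N13624 F137603) (tt N15614 (iv F146694)) (tt N11656 F137604) (tt N11705 F137605) (tt N15616 (iv F146709)) (tt N11902 F137606) (tt N11654 (iv D29551)) (tt N13624 F137607) (tt N12182 F137608))
theorem Q13626 : ∀ i, i < 13626 → P i := stepQ 13625 Q13625 (allL N13625 (tt N12588 F137609) (tt N13625 F137610) (tt N15510 (iv F146164)) (tt N15616 (iv F146708)) (tt N11665 F137611) (tt N11656 F137612) (tt N15617 D31544) (tt N11655 (iv D29552)) (tt N15618 D31545) (tt N12264 F137613))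
theorem Q13627 : ∀ i, i < 13627 → P i := stepQ 13626 Q13626 (allL N13626 (tt N12589 F137614) (tt N13626 F137615) (tt N15511 (iv F146170)) (tt N12370 F137616) (tt N11666 F137617) (tt N13626 F137618) (tt N12380 F137619) (tt N15618 (iv F146723)) (tt N11655 (iv D29553)) (tt N12367 F137620))
theorem Q13628 : ∀ i, i < 13628 → P i := stepQ 13627 Q13627 (allL N13627 (tt N15619 D31546) (tt N11657 (iv D29554)) (tt N13627 F137621) (tt N15512 (iv F146176)) (tt N11708 F137622) (tt N12995 F137623) (tt N15267 (iv F144706)) (tt N11667 F137624) (tt N13627 F137625) (tt N11661 F137626))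
theorem Q13629 : ∀ i, i < 13629 → P i := stepQ 13628 Q13628 (allL N13628 (tt N12591 F137627) (tt N15267 (iv F144703)) (tt N11658 F137628) (tt N15513 (iv F146184)) (tt N11709 F137629) (tt N15620 D31547) (tt N11657 (iv D29555)) (tt N15621 D31548) (tt N13628 F137630) (tt N11662 F137631))
theorem Q13630 : ∀ i, i < 13630 → P i := stepQ 13629 Q13629 (allL N13629 (tt N12592 F137632) (tt N13629 F137633) (tt N15620 (iv F146734)) (tt N11659 F137634) (tt N15622 D31549) (tt N11658 (iv D29556)) (tt N12997 F137635) (tt N15623 D31550) (tt N15624 D31551) (tt N11663 F137636))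
theorem Q13631 : ∀ i, i < 13631 → P i := stepQ 13630 Q13630 (allL N13630 (tt N12593 F137637) (tt N13630 F137638) (tt N15621 (iv F146738)) (tt N11660 F137639) (tt N11711 F137640) (tt N15623 (iv F146753)) (tt N11670 F137641) (tt N11658 (iv D29557)) (tt N13630 F137642) (tt N11664 F137643))
theorem Q13632 : ∀ i, i < 13632 → P i := stepQ 13631 Q13631 (allL N13631 (tt N12594 F137644) (tt N13631 F137645) (tt N15516 (iv F146202)) (tt N15623 (iv F146752)) (tt N12264 F137646) (tt N11660 F137647) (tt N15625 D31552) (tt N11659 (iv D29558)) (tt N15626 D31553) (tt N11665 F137648))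
theorem Q13633 : ∀ i, i < 13633 → P i := stepQ 13632 Q13632 (allL N13632 (tt N12595 F137649) (tt N13632 F137650) (tt N15517 (iv F146208)) (tt N15624 (iv F146757)) (tt N11880 F137651) (tt N13632 F137652) (tt N11907 F137653) (tt N15626 (iv F146772)) (tt N11659 (iv D29559)) (tt N12365 (iv F137654)))
theorem Q13634 : ∀ i, i < 13634 → P i := stepQ 13633 Q13633 (allL N13633 (tt N11661 (iv D29560)) (tt N12596 F137655) (tt N13633 F137656) (tt N15518 (iv F146215)) (tt N11714 F137657) (tt N15579 (iv F146504)) (tt N12258 F137658) (tt N11673 F137659) (tt N11683 F137660) (tt N15619 (iv F146732)))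
theorem Q13635 : ∀ i, i < 13635 → P i := stepQ 13634 Q13634 (allL N13634 (tt N12598 F137661) (tt N15266 (iv F144698)) (tt N11663 F137662) (tt N15519 (iv F146222)) (tt N15321 (iv F145040)) (tt N11662 (iv D29561)) (tt N15581 (iv F146515)) (tt N15627 D31554) (tt N15475 (iv F145962)) (tt N15620 (iv F146736)))
theorem Q13636 : ∀ i, i < 13636 → P i := stepQ 13635 Q13635 (allL N13635 (tt N12599 F137663) (tt N15265 (iv F144692)) (tt N11664 F137664) (tt N15520 (iv F146225)) (tt N11715 F137665) (tt N15627 (iv F146776)) (tt N11676 F137666) (tt N11662 (iv D29562)) (tt N11684 F137667) (tt N15621 (iv F146742)))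
theorem Q13637 : ∀ i, i < 13637 → P i := stepQ 13636 Q13636 (allL N13636 (tt N12600 F137668) (tt N13636 F137669) (tt N15321 (iv F145039)) (tt N15615 (iv F146701)) (tt N11663 (iv D29563)) (tt N11716 F137670) (tt N15583 (iv F146527)) (tt N15628 D31555) (tt N12205 (iv F137671)) (tt N15622 (iv F146748)))
theorem Q13638 : ∀ i, i < 13638 → P i := stepQ 13637 Q13637 (allL N13637 (tt N12601 F137672) (tt N13637 F137673) (tt N15627 (iv F146775)) (tt N11665 F137674) (tt N15628 (iv F146779)) (tt N11664 F137675) (tt N15629 D31556) (tt N11663 (iv D29564)) (tt N15630 D31557) (tt N15623 (iv F146754)))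
theorem Q13639 : ∀ i, i < 13639 → P i := stepQ 13638 Q13638 (allL N13638 (tt N12602 F137676) (tt N13638 F137677) (tt N15475 (iv F145960)) (tt N11666 F137678) (tt N12205 F137679) (tt N11686 F137680) (tt N15585 (iv F146540)) (tt N15630 (iv F146791)) (tt N11663 (iv D29565)) (tt N12204 (iv F137681)))
theorem Q13640 : ∀ i, i < 13640 → P i := stepQ 13639 Q13639 (allL N13639 (tt N12603 F137682) (tt N13639 F137683) (tt N15524 (iv F146242)) (tt N15629 (iv F146784)) (tt N15617 (iv F146714)) (tt N11680 F137684) (tt N11665 (iv D29566)) (tt N15586 (iv F146546)) (tt N15631 D31558) (tt N15625 (iv F146767)))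
theorem Q13641 : ∀ i, i < 13641 → P i := stepQ 13640 Q13640 (allL N13640 (tt N12604 F137685) (tt N13640 F137686) (tt N15525 (iv F146246)) (tt N15630 (iv F146788)) (tt N15618 (iv F146721)) (tt N11688 F137687) (tt N15631 (iv F146795)) (tt N11666 F137688) (tt N11665 (iv D29567)) (tt N15632 D31559))
theorem Q13642 : ∀ i, i < 13642 → P i := stepQ 13641 Q13641 (allL N13641 (tt N12605 F137689) (tt N13641 F137690) (tt N15526 (iv F146251)) (tt N12204 F137691) (tt N12367 F137692) (tt N11689 F137693) (tt N12377 F137694) (tt N15632 (iv F146801)) (tt N12365 F137695) (tt N11666 (iv D29568)))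
theorem Q13643 : ∀ i, i < 13643 → P i := stepQ 13642 Q13642 (allL N13642 (tt N11667 (iv D29569)) (tt N12606 F137696) (tt N13642 F137697) (tt N15527 (iv F146258)) (tt N11720 F137698) (tt N15588 (iv F146557)) (tt N15633 D31560) (tt N15619 (iv F146730)) (tt N13642 F137699) (tt N11673 F137700))
theorem Q13644 : ∀ i, i < 13644 → P i := stepQ 13643 Q13643 (allL N13643 (tt N15633 (iv F146803)) (tt N11668 F137701) (tt N13643 F137702) (tt N15528 (iv F146264)) (tt N11721 F137703) (tt N15634 D31561) (tt N11667 (iv D29570)) (tt N15635 D31562) (tt N13643 F137704) (tt N11674 F137705))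
theorem Q13645 : ∀ i, i < 13645 → P i := stepQ 13644 Q13644 (allL N13644 (tt N12608 F137706) (tt N15634 (iv F146809)) (tt N11669 F137707) (tt N15529 (iv F146270)) (tt N15636 D31563) (tt N11668 (iv D29571)) (tt N15590 (iv F146568)) (tt N15637 D31564) (tt N15638 D31565) (tt N11675 F137708))
theorem Q13646 : ∀ i, i < 13646 → P i := stepQ 13645 Q13645 (allL N13645 (tt N12609 F137709) (tt N15635 (iv F146812)) (tt N11670 F137710) (tt N15530 (iv F146274)) (tt N11723 F137711) (tt N15637 (iv F146823)) (tt N15621 (iv F146740)) (tt N11668 (iv D29572)) (tt N13645 F137712) (tt N11676 F137713))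
theorem Q13647 : ∀ i, i < 13647 → P i := stepQ 13646 Q13646 (allL N13646 (tt N12610 F137714) (tt N13646 F137715) (tt N15636 (iv F146818)) (tt N11914 F137716) (tt N11669 (iv D29573)) (tt N11724 F137717) (tt N15592 (iv F146580)) (tt N15639 D31566) (tt N15640 D31567) (tt N11677 F137718))
theorem Q13648 : ∀ i, i < 13648 → P i := stepQ 13647 Q13647 (allL N13647 (tt N12611 F137719) (tt N13647 F137720) (tt N15637 (iv F146822)) (tt N11671 F137721) (tt N15639 (iv F146831)) (tt N11670 F137722) (tt N15641 D31568) (tt N11669 (iv D29574)) (tt N15642 D31569) (tt N11678 F137723))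
theorem Q13649 : ∀ i, i < 13649 → P i := stepQ 13648 Q13648 (allL N13648 (tt N12612 F137724) (tt N13648 F137725) (tt N15638 (iv F146826)) (tt N11672 F137726) (tt N15640 (iv F146837)) (tt N13648 F137727) (tt N15594 (iv F146593)) (tt N15642 (iv F146849)) (tt N11669 (iv D29575)) (tt N15643 D31570))
theorem Q13650 : ∀ i, i < 13650 → P i := stepQ 13649 Q13649 (allL N13649 (tt N12613 F137728) (tt N13649 F137729) (tt N15534 (iv F146290)) (tt N15641 (iv F146843)) (tt N11917 F137730) (tt N15625 (iv F146765)) (tt N11671 (iv D29576)) (tt N15595 (iv F146599)) (tt N15644 D31571) (tt N11680 F137731))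
theorem Q13651 : ∀ i, i < 13651 → P i := stepQ 13650 Q13650 (allL N13650 (tt N12614 F137732) (tt N13650 F137733) (tt N15535 (iv F146294)) (tt N15642 (iv F146847)) (tt N11918 F137734) (tt N13650 F137735) (tt N15644 (iv F146860)) (tt N11672 F137736) (tt N11671 (iv D29577)) (tt N15645 D31572))
theorem Q13652 : ∀ i, i < 13652 → P i := stepQ 13651 Q13651 (allL N13651 (tt N12615 F137737) (tt N13651 F137738) (tt N15536 (iv F146299)) (tt N15643 (iv F146852)) (tt N11919 F137739) (tt N13651 F137740) (tt N15597 (iv F146611)) (tt N15645 (iv F146865)) (tt N11682 F137741) (tt N11672 (iv D29578)))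
theorem Q13653 : ∀ i, i < 13653 → P i := stepQ 13652 Q13652 (allL N13652 (tt N11674 F137742) (tt N12616 F137743) (tt N13652 F137744) (tt N15537 (iv F146306)) (tt N11729 F137745) (tt N15646 D31573) (tt N11673 (iv D29579)) (tt N15647 D31574) (tt N11690 F137746) (tt N15633 (iv F146808)))
theorem Q13654 : ∀ i, i < 13654 → P i := stepQ 13653 Q13653 (allL N13653 (tt N15646 (iv F146867)) (tt N11675 F137747) (tt N13653 F137748) (tt N15538 (iv F146311)) (tt N15648 D31575) (tt N11674 (iv D29580)) (tt N15599 (iv F146620)) (tt N15649 D31576) (tt N15650 D31577) (tt N15634 (iv F146811)))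
theorem Q13655 : ∀ i, i < 13655 → P i := stepQ 13654 Q13654 (allL N13654 (tt N15647 (iv F146870)) (tt N11676 F137749) (tt N13654 F137750) (tt N15539 (iv F146314)) (tt N11731 F137751) (tt N15649 (iv F146881)) (tt N15265 (iv F144695)) (tt N11674 (iv D29581)) (tt N11692 F137752) (tt N15635 (iv F146816)))
theorem Q13656 : ∀ i, i < 13656 → P i := stepQ 13655 Q13655 (allL N13655 (tt N12619 F137753) (tt N15648 (iv F146876)) (tt N11677 F137754) (tt N15651 D31578) (tt N11675 (iv D29582)) (tt N11732 F137755) (tt N15601 (iv F146628)) (tt N15652 D31579) (tt N15653 D31580) (tt N15636 (iv F146820)))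
theorem Q13657 : ∀ i, i < 13657 → P i := stepQ 13656 Q13656 (allL N13656 (tt N12620 F137756) (tt N15649 (iv F146879)) (tt N11678 F137757) (tt N15541 (iv F146321)) (tt N15652 (iv F146890)) (tt N11676 F137758) (tt N15654 D31581) (tt N11675 (iv D29583)) (tt N15655 D31582) (tt N15637 (iv F146824)))
theorem Q13658 : ∀ i, i < 13658 → P i := stepQ 13657 Q13657 (allL N13657 (tt N12621 F137759) (tt N15650 (iv F146882)) (tt N11679 F137760) (tt N15542 (iv F146325)) (tt N15653 (iv F146894)) (tt N11694 F137761) (tt N15603 (iv F146635)) (tt N15655 (iv F146901)) (tt N11675 (iv D29584)) (tt N15656 D31583))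
theorem Q13659 : ∀ i, i < 13659 → P i := stepQ 13658 Q13658 (allL N13658 (tt N12622 F137762) (tt N13658 F137763) (tt N15652 (iv F146889)) (tt N11925 F137764) (tt N11678 F137765) (tt N11734 F137766) (tt N15657 D31584) (tt N11677 (iv D29585)) (tt N15658 D31585) (tt N15639 (iv F146833)))
theorem Q13660 : ∀ i, i < 13660 → P i := stepQ 13659 Q13659 (allL N13659 (tt N12623 F137767) (tt N13659 F137768) (tt N15653 (iv F146893)) (tt N11926 F137769) (tt N11679 F137770) (tt N13659 F137771) (tt N15605 (iv F146645)) (tt N15658 (iv F146914)) (tt N11677 (iv D29586)) (tt N15659 D31586))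
theorem Q13661 : ∀ i, i < 13661 → P i := stepQ 13660 Q13660 (allL N13660 (tt N12624 F137772) (tt N13660 F137773) (tt N15654 (iv F146897)) (tt N11680 F137774) (tt N15657 (iv F146908)) (tt N15629 (iv F146785)) (tt N11678 (iv D29587)) (tt N15606 (iv F146651)) (tt N15660 D31587) (tt N15641 (iv F146844)))
theorem Q13662 : ∀ i, i < 13662 → P i := stepQ 13661 Q13661 (allL N13661 (tt N12625 F137775) (tt N13661 F137776) (tt N15655 (iv F146899)) (tt N11681 F137777) (tt N15658 (iv F146912)) (tt N11696 F137778) (tt N15660 (iv F146925)) (tt N11679 F137779) (tt N11678 (iv D29588)) (tt N15661 D31588))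
theorem Q13663 : ∀ i, i < 13663 → P i := stepQ 13662 Q13662 (allL N13662 (tt N12626 F137780) (tt N13662 F137781) (tt N15656 (iv F146903)) (tt N11682 F137782) (tt N15659 (iv F146918)) (tt N11697 F137783) (tt N15608 (iv F146662)) (tt N15661 (iv F146930)) (tt N15643 (iv F146856)) (tt N11679 (iv D29589)))
theorem Q13664 : ∀ i, i < 13664 → P i := stepQ 13663 Q13663 (allL N13663 (tt N12627 F137784) (tt N13663 F137785) (tt N15548 (iv F146343)) (tt N15660 (iv F146924)) (tt N11930 F137786) (tt N15662 D31589) (tt N11681 F137787) (tt N15609 (iv F146668)) (tt N11680 (iv D29590)) (tt N15663 D31590))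
theorem Q13665 : ∀ i, i < 13665 → P i := stepQ 13664 Q13664 (allL N13664 (tt N12628 F137788) (tt N13664 F137789) (tt N15549 (iv F146347)) (tt N15661 (iv F146928)) (tt N11931 F137790) (tt N11699 F137791) (tt N15663 (iv F146937)) (tt N11682 F137792) (tt N15645 (iv F146866)) (tt N11681 (iv D29591)))
theorem Q13666 : ∀ i, i < 13666 → P i := stepQ 13665 Q13665 (allL N13665 (tt N12633 F137793) (tt N13665 F137794) (tt N15473 (iv F145947)) (tt N11687 F137795) (tt N15472 (iv F145940)) (tt N11695 F137796) (tt N11685 (iv D29592)) (tt N13665 F137797) (tt N15664 D31591) (tt N13665 F137798))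
theorem Q13667 : ∀ i, i < 13667 → P i := stepQ 13666 Q13666 (allL N13666 (tt N12634 F137799) (tt N13666 F137800) (tt N15474 (iv F145954)) (tt N11688 F137801) (tt N11945 F137802) (tt N15630 (iv F146790)) (tt N15664 (iv F146942)) (tt N11686 F137803) (tt N11685 (iv D29593)) (tt N11944 (iv F137804)))
theorem Q13668 : ∀ i, i < 13668 → P i := stepQ 13667 Q13667 (allL N13667 (tt N12635 F137805) (tt N13667 F137806) (tt N15553 (iv F146369)) (tt N15664 (iv F146940)) (tt N13667 F137807) (tt N15665 D31592) (tt N11688 F137808) (tt N13667 F137809) (tt N11687 (iv D29594)) (tt N15666 D31593))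
theorem Q13669 : ∀ i, i < 13669 → P i := stepQ 13668 Q13668 (allL N13668 (tt N12636 F137810) (tt N13668 F137811) (tt N15554 (iv F146375)) (tt N11944 F137812) (tt N13668 F137813) (tt N15632 (iv F146800)) (tt N15666 (iv F146953)) (tt N11689 F137814) (tt N13668 F137815) (tt N11688 (iv D29595)))
theorem Q13670 : ∀ i, i < 13670 → P i := stepQ 13669 Q13669 (allL N13669 (tt N11691 F137816) (tt N12637 F137817) (tt N13669 F137818) (tt N15555 (iv F146382)) (tt N13669 F137819) (tt N11690 (iv D29596)) (tt N13669 F137820) (tt N15667 D31594) (tt N15668 D31595) (tt N13669 F137821))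
theorem Q13671 : ∀ i, i < 13671 → P i := stepQ 13670 Q13670 (allL N13670 (tt N11692 F137822) (tt N12638 F137823) (tt N13670 F137824) (tt N15556 (iv F146389)) (tt N11736 F137825) (tt N15667 (iv F146960)) (tt N12257 F137826) (tt N11690 (iv D29597)) (tt N15647 (iv F146875)) (tt N13670 F137827))
theorem Q13672 : ∀ i, i < 13672 → P i := stepQ 13671 Q13671 (allL N13671 (tt N15667 (iv F146956)) (tt N11693 F137828) (tt N13671 F137829) (tt N15557 (iv F146395)) (tt N13671 F137830) (tt N11692 F137831) (tt N15572 (iv F146469)) (tt N11691 (iv D29598)) (tt N15669 D31596) (tt N13671 F137832))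
theorem Q13673 : ∀ i, i < 13673 → P i := stepQ 13672 Q13672 (allL N13672 (tt N15668 (iv F146963)) (tt N11694 F137833) (tt N13672 F137834) (tt N15558 (iv F146401)) (tt N13672 F137835) (tt N15650 (iv F146884)) (tt N13672 F137836) (tt N15669 (iv F146971)) (tt N11691 (iv D29599)) (tt N15670 D31597))
theorem Q13674 : ∀ i, i < 13674 → P i := stepQ 13673 Q13673 (allL N13673 (tt N12641 F137837) (tt N15572 (iv F146466)) (tt N11695 F137838) (tt N15561 (iv F146419)) (tt N13673 F137839) (tt N15473 (iv F145949)) (tt N11693 (iv D29600)) (tt N13673 F137840) (tt N15671 D31598) (tt N13673 F137841))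
theorem Q13675 : ∀ i, i < 13675 → P i := stepQ 13674 Q13674 (allL N13674 (tt N12642 F137842) (tt N15669 (iv F146968)) (tt N11696 F137843) (tt N15562 (iv F146424)) (tt N13674 F137844) (tt N15655 (iv F146900)) (tt N15671 (iv F146980)) (tt N11694 F137845) (tt N11693 (iv D29601)) (tt N15672 D31599))
theorem Q13676 : ∀ i, i < 13676 → P i := stepQ 13675 Q13675 (allL N13675 (tt N12643 F137846) (tt N15670 (iv F146972)) (tt N11697 F137847) (tt N15563 (iv F146428)) (tt N13675 F137848) (tt N15656 (iv F146904)) (tt N13675 F137849) (tt N15672 (iv F146985)) (tt N13675 F137850) (tt N11694 (iv D29602)))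
theorem Q13677 : ∀ i, i < 13677 → P i := stepQ 13676 Q13676 (allL N13676 (tt N12644 F137851) (tt N13676 F137852) (tt N15671 (iv F146978)) (tt N11698 F137853) (tt N13676 F137854) (tt N15673 D31600) (tt N11696 F137855) (tt N13676 F137856) (tt N11695 (iv D29603)) (tt N15674 D31601))
theorem Q13678 : ∀ i, i < 13678 → P i := stepQ 13677 Q13677 (allL N13677 (tt N12645 F137857) (tt N13677 F137858) (tt N15672 (iv F146983)) (tt N11699 F137859) (tt N13677 F137860) (tt N15661 (iv F146929)) (tt N15674 (iv F146995)) (tt N11697 F137861) (tt N13677 F137862) (tt N11696 (iv D29604)))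
theorem Q13679 : ∀ i, i < 13679 → P i := stepQ 13678 Q13678 (allL N13678 (tt N12646 F137863) (tt N13678 F137864) (tt N15570 (iv F146457)) (tt N15673 (iv F146989)) (tt N15675 D31602) (tt N11698 (iv D29605)) (tt N15662 (iv F146933)) (tt N13678 F137865) (tt N15665 (iv F146948)) (tt N15676 D31603))
theorem Q13680 : ∀ i, i < 13680 → P i := stepQ 13679 Q13679 (allL N13679 (tt N12647 F137866) (tt N13679 F137867) (tt N15571 (iv F146460)) (tt N15674 (iv F146993)) (tt N11701 F137868) (tt N15676 (iv F147004)) (tt N11699 F137869) (tt N13679 F137870) (tt N13679 F137871) (tt N11698 (iv D29606)))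
theorem Q13681 : ∀ i, i < 13681 → P i := stepQ 13680 Q13680 (allL N13680 (tt N12648 F137872) (tt N13680 F137873) (tt N15578 (iv F146497)) (tt N15666 (iv F146951)) (tt N11700 (iv D29607)) (tt N15675 (iv F147000)) (tt N11944 F137874) (tt N13680 F137875) (tt N13680 F137876) (tt N15664 F146944))
theorem Q13682 : ∀ i, i < 13682 → P i := stepQ 13681 Q13681 (allL N13681 (tt N12649 F137877) (tt N13681 F137878) (tt N15476 (iv F145966)) (tt N13681 F137879) (tt N15664 (iv F146941)) (tt N11701 F137880) (tt N11945 F137881) (tt N13681 F137882) (tt N15472 (iv F145943)) (tt N11700 (iv D29608)))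
theorem Q13683 : ∀ i, i < 13683 → P i := stepQ 13682 Q13682 (allL N13682 (tt N11702 (iv D29609)) (tt N12217 F137883) (tt N13682 F137884) (tt N12655 F137885) (tt N15611 (iv F146676)) (tt N13682 F137886) (tt N12236 (iv F137890)) (tt N11946 F137887) (tt N13682 F137888) (tt N12216 F137889))
theorem Q13684 : ∀ i, i < 13684 → P i := stepQ 13683 Q13683 (allL N13683 (tt N12236 F137891) (tt N11703 F137892) (tt N13683 F137893) (tt N12656 F137894) (tt N15612 (iv F146685)) (tt N12300 (iv F137897)) (tt N11702 (iv D29610)) (tt N15677 D31604) (tt N13683 F137895) (tt N12220 F137896))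
theorem Q13685 : ∀ i, i < 13685 → P i := stepQ 13684 Q13684 (allL N13684 (tt N12650 F137898) (tt N15677 (iv F147007)) (tt N11705 F137899) (tt N12658 F137900) (tt N15614 (iv F146695)) (tt N15299 (iv F144920)) (tt N11949 F137901) (tt N11703 (iv D29611)) (tt N13684 F137902) (tt N12277 F137903))
theorem Q13686 : ∀ i, i < 13686 → P i := stepQ 13685 Q13685 (allL N13685 (tt N12651 F137904) (tt N13685 F137905) (tt N15296 (iv F144896)) (tt N11716 F137906) (tt N11704 (iv D29612)) (tt N15615 (iv F146702)) (tt N13685 F137907) (tt N15678 D31605) (tt N12215 F137908) (tt N12278 F137909))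
theorem Q13687 : ∀ i, i < 13687 → P i := stepQ 13686 Q13686 (allL N13686 (tt N12652 F137910) (tt N13686 F137911) (tt N15299 (iv F144918)) (tt N11706 F137912) (tt N15678 (iv F147017)) (tt N11705 F137913) (tt N15679 D31606) (tt N11704 (iv D29613)) (tt N15241 (iv F144523)) (tt N12279 F137914))
theorem Q13688 : ∀ i, i < 13688 → P i := stepQ 13687 Q13687 (allL N13687 (tt N12653 F137915) (tt N13687 F137916) (tt N12662 F137917) (tt N15679 (iv F147022)) (tt N11718 F137918) (tt N11953 F137919) (tt N11706 (iv D29614)) (tt N13687 F137920) (tt N15680 D31607) (tt N12280 F137921))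
theorem Q13689 : ∀ i, i < 13689 → P i := stepQ 13688 Q13688 (allL N13688 (tt N12654 F137922) (tt N13688 F137923) (tt N12663 F137924) (tt N15241 (iv F144519)) (tt N11719 F137925) (tt N13688 F137926) (tt N15680 (iv F147030)) (tt N11707 F137927) (tt N11706 (iv D29615)) (tt N15239 (iv F144509)))
theorem Q13690 : ∀ i, i < 13690 → P i := stepQ 13689 Q13689 (allL N13689 (tt N11708 (iv D29616)) (tt N12655 F137928) (tt N13689 F137929) (tt N12217 F137930) (tt N15619 (iv F146727)) (tt N13689 F137931) (tt N12260 F137932) (tt N11720 F137933) (tt N13689 F137934) (tt N11714 F137935))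
theorem Q13691 : ∀ i, i < 13691 → P i := stepQ 13690 Q13690 (allL N13690 (tt N12658 F137936) (tt N15268 (iv F144709)) (tt N11711 F137937) (tt N12650 F137938) (tt N15621 (iv F146739)) (tt N15324 (iv F145059)) (tt N11723 F137939) (tt N11709 (iv D29617)) (tt N13690 F137940) (tt N11715 F137941))
theorem Q13692 : ∀ i, i < 13692 → P i := stepQ 13691 Q13691 (allL N13691 (tt N12659 F137942) (tt N13691 F137943) (tt N15322 (iv F145044)) (tt N12278 F137944) (tt N11710 (iv D29618)) (tt N15622 (iv F146746)) (tt N13691 F137945) (tt N15681 D31608) (tt N12213 F137946) (tt N11716 F137947))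
theorem Q13693 : ∀ i, i < 13693 → P i := stepQ 13692 Q13692 (allL N13692 (tt N12660 F137948) (tt N13692 F137949) (tt N15324 (iv F145057)) (tt N11712 F137950) (tt N15681 (iv F147035)) (tt N11711 F137951) (tt N15682 D31609) (tt N11710 (iv D29619)) (tt N15414 (iv F145583)) (tt N11717 F137952))
theorem Q13694 : ∀ i, i < 13694 → P i := stepQ 13693 Q13693 (allL N13693 (tt N12662 F137953) (tt N13693 F137954) (tt N12653 F137955) (tt N15682 (iv F147041)) (tt N12280 F137956) (tt N11727 F137957) (tt N11712 (iv D29620)) (tt N13693 F137958) (tt N15683 D31610) (tt N11718 F137959))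
theorem Q13695 : ∀ i, i < 13695 → P i := stepQ 13694 Q13694 (allL N13694 (tt N12663 F137960) (tt N13694 F137961) (tt N12654 F137962) (tt N15414 (iv F145578)) (tt N12281 F137963) (tt N13694 F137964) (tt N15683 (iv F147052)) (tt N11713 F137965) (tt N11712 (iv D29621)) (tt N15237 (iv F144492)))
theorem Q13696 : ∀ i, i < 13696 → P i := stepQ 13695 Q13695 (allL N13695 (tt N12667 F137966) (tt N13695 F137967) (tt N15320 (iv F145034)) (tt N15678 (iv F147016)) (tt N11717 F137968) (tt N15628 (iv F146780)) (tt N15684 D31611) (tt N11716 (iv D29622)) (tt N12082 F137969) (tt N15681 (iv F147037)))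
theorem Q13697 : ∀ i, i < 13697 → P i := stepQ 13696 Q13696 (allL N13696 (tt N12668 F137970) (tt N13696 F137971) (tt N15323 (iv F145050)) (tt N11718 F137972) (tt N15684 (iv F147058)) (tt N11735 F137973) (tt N11717 (iv D29623)) (tt N13696 F137974) (tt N15318 (iv F145023)) (tt N15682 (iv F147046)))
theorem Q13698 : ∀ i, i < 13698 → P i := stepQ 13697 Q13697 (allL N13697 (tt N12670 F137975) (tt N13697 F137976) (tt N15234 (iv F144460)) (tt N15318 (iv F145019)) (tt N15680 (iv F147029)) (tt N13697 F137977) (tt N11719 F137978) (tt N13697 F137979) (tt N11718 (iv D29624)) (tt N15242 (iv F144531)))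
theorem Q13699 : ∀ i, i < 13699 → P i := stepQ 13698 Q13698 (allL N13698 (tt N11721 F137980) (tt N12672 F137981) (tt N13698 F137982) (tt N12880 F137983) (tt N15633 (iv F146806)) (tt N15685 D31612) (tt N11720 (iv D29625)) (tt N15686 D31613) (tt N13698 F137984) (tt N11729 F137985))
theorem Q13700 : ∀ i, i < 13700 → P i := stepQ 13699 Q13699 (allL N13699 (tt N15685 (iv F147062)) (tt N11722 F137986) (tt N13699 F137987) (tt N12881 F137988) (tt N15687 D31614) (tt N11721 (iv D29626)) (tt N13699 F137989) (tt N15688 D31615) (tt N15689 D31616) (tt N11730 F137990))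
theorem Q13701 : ∀ i, i < 13701 → P i := stepQ 13700 Q13700 (allL N13700 (tt N15686 (iv F147068)) (tt N11723 F137991) (tt N13700 F137992) (tt N12882 F137993) (tt N15635 (iv F146814)) (tt N15688 (iv F147082)) (tt N15268 (iv F144713)) (tt N11721 (iv D29627)) (tt N13700 F137994) (tt N11731 F137995))
theorem Q13702 : ∀ i, i < 13702 → P i := stepQ 13701 Q13701 (allL N13701 (tt N12675 F137996) (tt N15687 (iv F147075)) (tt N11724 F137997) (tt N15690 D31617) (tt N11722 (iv D29628)) (tt N15636 (iv F146819)) (tt N13701 F137998) (tt N15691 D31618) (tt N15692 D31619) (tt N11732 F137999))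
theorem Q13703 : ∀ i, i < 13703 → P i := stepQ 13702 Q13702 (allL N13702 (tt N12676 F138000) (tt N15688 (iv F147079)) (tt N11725 F138001) (tt N12884 F138002) (tt N15691 (iv F147098)) (tt N11723 F138003) (tt N15693 D31620) (tt N11722 (iv D29629)) (tt N15694 D31621) (tt N11733 F138004))
theorem Q13704 : ∀ i, i < 13704 → P i := stepQ 13703 Q13703 (allL N13703 (tt N12677 F138005) (tt N15689 (iv F147084)) (tt N11726 F138006) (tt N12885 F138007) (tt N15692 (iv F147103)) (tt N13703 F138008) (tt N13703 F138009) (tt N15694 (iv F147116)) (tt N11722 (iv D29630)) (tt N13703 F138010))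
theorem Q13705 : ∀ i, i < 13705 → P i := stepQ 13704 Q13704 (allL N13704 (tt N12678 F138011) (tt N13704 F138012) (tt N15691 (iv F147097)) (tt N11962 F138013) (tt N11725 F138014) (tt N15639 (iv F146832)) (tt N15695 D31622) (tt N11724 (iv D29631)) (tt N15696 D31623) (tt N11734 F138015))
theorem Q13706 : ∀ i, i < 13706 → P i := stepQ 13705 Q13705 (allL N13705 (tt N12679 F138016) (tt N13705 F138017) (tt N15692 (iv F147101)) (tt N11963 F138018) (tt N11726 F138019) (tt N13075 (iv F138022)) (tt N13705 F138020) (tt N15696 (iv F147128)) (tt N11724 (iv D29632)) (tt N13705 F138021))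
theorem Q13707 : ∀ i, i < 13707 → P i := stepQ 13706 Q13706 (allL N13706 (tt N12680 F138023) (tt N13706 F138024) (tt N15693 (iv F147108)) (tt N11727 F138025) (tt N15695 (iv F147121)) (tt N15682 (iv F147043)) (tt N11725 (iv D29633)) (tt N13706 F138026) (tt N15697 D31624) (tt N11735 F138027))
theorem Q13708 : ∀ i, i < 13708 → P i := stepQ 13707 Q13707 (allL N13707 (tt N12681 F138028) (tt N13707 F138029) (tt N15694 (iv F147113)) (tt N11728 F138030) (tt N15696 (iv F147127)) (tt N13707 F138031) (tt N15697 (iv F147135)) (tt N11726 F138032) (tt N11725 (iv D29634)) (tt N13707 F138033))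
theorem Q13709 : ∀ i, i < 13709 → P i := stepQ 13708 Q13708 (allL N13708 (tt N12682 F138034) (tt N13708 F138035) (tt N12889 F138036) (tt N15697 (iv F147133)) (tt N11966 F138037) (tt N15698 D31625) (tt N11728 F138038) (tt N13708 F138039) (tt N11727 (iv D29635)) (tt N13708 F138040))
theorem Q13710 : ∀ i, i < 13710 → P i := stepQ 13709 Q13709 (allL N13709 (tt N11730 F138041) (tt N12683 F138042) (tt N13709 F138043) (tt N15277 (iv F144776)) (tt N15699 D31626) (tt N11729 (iv D29636)) (tt N13709 F138044) (tt N15700 D31627) (tt N13709 F138045) (tt N15685 (iv F147067)))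
theorem Q13711 : ∀ i, i < 13711 → P i := stepQ 13710 Q13710 (allL N13710 (tt N11731 F138046) (tt N12684 F138047) (tt N13710 F138048) (tt N12261 F138049) (tt N15647 (iv F146873)) (tt N15700 (iv F147156)) (tt N12259 F138050) (tt N11729 (iv D29637)) (tt N11736 F138051) (tt N15686 (iv F147074)))
theorem Q13712 : ∀ i, i < 13712 → P i := stepQ 13711 Q13711 (allL N13711 (tt N15699 (iv F147147)) (tt N11732 F138052) (tt N13711 F138053) (tt N15701 D31628) (tt N11730 (iv D29638)) (tt N15648 (iv F146878)) (tt N13711 F138054) (tt N15702 D31629) (tt N13711 F138055) (tt N15687 (iv F147078)))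
theorem Q13713 : ∀ i, i < 13713 → P i := stepQ 13712 Q13712 (allL N13712 (tt N15700 (iv F147152)) (tt N11733 F138056) (tt N13712 F138057) (tt N15269 (iv F144719)) (tt N15702 (iv F147164)) (tt N11731 F138058) (tt N15367 (iv F145287)) (tt N11730 (iv D29639)) (tt N13712 F138059) (tt N15688 (iv F147083)))
theorem Q13714 : ∀ i, i < 13714 → P i := stepQ 13713 Q13713 (allL N13713 (tt N12687 F138060) (tt N15701 (iv F147159)) (tt N11969 F138061) (tt N11732 (iv D29640)) (tt N15279 (iv F144789)) (tt N15651 (iv F146887)) (tt N13713 F138062) (tt N15703 D31630) (tt N13713 F138063) (tt N15690 (iv F147094)))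
theorem Q13715 : ∀ i, i < 13715 → P i := stepQ 13714 Q13714 (allL N13714 (tt N12688 F138064) (tt N15702 (iv F147162)) (tt N11734 F138065) (tt N15703 (iv F147168)) (tt N11733 F138066) (tt N15652 (iv F146891)) (tt N15704 D31631) (tt N11732 (iv D29641)) (tt N13714 F138067) (tt N15691 (iv F147099)))
theorem Q13716 : ∀ i, i < 13716 → P i := stepQ 13715 Q13715 (allL N13715 (tt N12689 F138068) (tt N15367 (iv F145284)) (tt N11735 F138069) (tt N15281 (iv F144801)) (tt N15704 (iv F147172)) (tt N15323 F145054) (tt N11733 (iv D29642)) (tt N13715 F138070) (tt N13715 F138071) (tt N15693 (iv F147111)))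
theorem Q13717 : ∀ i, i < 13717 → P i := stepQ 13716 Q13716 (allL N13716 (tt N12690 F138072) (tt N13716 F138073) (tt N15704 (iv F147171)) (tt N11972 F138074) (tt N11735 F138075) (tt N15705 D31632) (tt N11734 (iv D29643)) (tt N13716 F138076) (tt N13716 F138077) (tt N15695 (iv F147123)))
theorem Q13718 : ∀ i, i < 13718 → P i := stepQ 13717 Q13717 (allL N13717 (tt N11764 F138078) (tt N15706 D31633) (tt N11737 (iv D29644)) (tt N13717 F138079) (tt N12465 F138080) (tt N11746 F138081) (tt N15707 D31634) (tt N12221 F138082) (tt N12084 F138083) (tt N12497 F138084))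
theorem Q13719 : ∀ i, i < 13719 → P i := stepQ 13718 Q13718 (allL N13718 (tt N11765 F138085) (tt N12240 F138086) (tt N15707 (iv F147187)) (tt N11738 F138087) (tt N12466 F138088) (tt N15708 D31635) (tt N11737 (iv D29645)) (tt N15709 D31636) (tt N12085 F138089) (tt N12498 F138090))
theorem Q13720 : ∀ i, i < 13720 → P i := stepQ 13719 Q13719 (allL N13719 (tt N11766 F138091) (tt N12241 F138092) (tt N13719 F138093) (tt N15708 (iv F147194)) (tt N12730 F138094) (tt N11738 (iv D29646)) (tt N11748 F138095) (tt N15710 D31637) (tt N15711 D31638) (tt N12499 F138096))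
theorem Q13721 : ∀ i, i < 13721 → P i := stepQ 13720 Q13720 (allL N13720 (tt N11767 F138097) (tt N12242 F138098) (tt N13720 F138099) (tt N15709 (iv F147199)) (tt N11739 F138100) (tt N15710 (iv F147208)) (tt N12224 F138101) (tt N11738 (iv D29647)) (tt N12087 F138102) (tt N12500 F138103))
theorem Q13722 : ∀ i, i < 13722 → P i := stepQ 13721 Q13721 (allL N13721 (tt N11771 F138104) (tt N15712 D31639) (tt N11740 (iv D29648)) (tt N13721 F138105) (tt N12167 F138106) (tt N12221 F138107) (tt N15713 D31640) (tt N11746 F138108) (tt N11750 F138109) (tt N12164 F138110))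
theorem Q13723 : ∀ i, i < 13723 → P i := stepQ 13722 Q13722 (allL N13722 (tt N11772 F138111) (tt N12237 F138112) (tt N15713 (iv F147226)) (tt N11741 F138113) (tt N12691 F138114) (tt N15714 D31641) (tt N11740 (iv D29649)) (tt N15715 D31642) (tt N11751 F138115) (tt N12289 F138116))
theorem Q13724 : ∀ i, i < 13724 → P i := stepQ 13723 Q13723 (allL N13723 (tt N11773 F138117) (tt N12238 F138118) (tt N13723 F138119) (tt N15714 (iv F147233)) (tt N12303 F138120) (tt N11741 (iv D29650)) (tt N12223 F138121) (tt N15716 D31643) (tt N15717 D31644) (tt N12290 F138122))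
theorem Q13725 : ∀ i, i < 13725 → P i := stepQ 13724 Q13724 (allL N13724 (tt N11774 F138123) (tt N12239 F138124) (tt N13724 F138125) (tt N15715 (iv F147238)) (tt N11742 F138126) (tt N15716 (iv F147247)) (tt N11749 F138127) (tt N11741 (iv D29651)) (tt N11753 F138128) (tt N12291 F138129))
theorem Q13726 : ∀ i, i < 13726 → P i := stepQ 13725 Q13725 (allL N13725 (tt N11775 F138130) (tt N15718 D31645) (tt N11743 (iv D29652)) (tt N13725 F138131) (tt N12166 F138132) (tt N12497 F138133) (tt N15719 D31646) (tt N12164 F138134) (tt N11973 F138135) (tt N11746 F138136))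
theorem Q13727 : ∀ i, i < 13727 → P i := stepQ 13726 Q13726 (allL N13726 (tt N11776 F138137) (tt N12691 F138138) (tt N15719 (iv F147264)) (tt N11744 F138139) (tt N12237 F138140) (tt N15720 D31647) (tt N11743 (iv D29653)) (tt N15721 D31648) (tt N11974 F138141) (tt N11747 F138142))
theorem Q13728 : ∀ i, i < 13728 → P i := stepQ 13727 Q13727 (allL N13727 (tt N11777 F138143) (tt N12692 F138144) (tt N13727 F138145) (tt N15720 (iv F147271)) (tt N12325 F138146) (tt N11744 (iv D29654)) (tt N12499 F138147) (tt N15722 D31649) (tt N15723 D31650) (tt N11748 F138148))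
theorem Q13729 : ∀ i, i < 13729 → P i := stepQ 13728 Q13728 (allL N13728 (tt N11778 F138149) (tt N12693 F138150) (tt N13728 F138151) (tt N15721 (iv F147276)) (tt N11745 F138152) (tt N15722 (iv F147285)) (tt N12291 F138153) (tt N11744 (iv D29655)) (tt N11976 F138154) (tt N11749 F138155))
theorem Q13730 : ∀ i, i < 13730 → P i := stepQ 13729 Q13729 (allL N13729 (tt N15724 D31651) (tt N11746 (iv D29656)) (tt N12125 F138156) (tt N13729 F138157) (tt N15283 (iv F144816)) (tt N15706 (iv F147182)) (tt N15725 D31652) (tt N15712 (iv F147222)) (tt N11754 F138158) (tt N15718 (iv F147262)))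
theorem Q13731 : ∀ i, i < 13731 → P i := stepQ 13730 Q13730 (allL N13730 (tt N11780 F138159) (tt N15725 (iv F147301)) (tt N11747 F138160) (tt N13730 F138161) (tt N15284 (iv F144824)) (tt N15726 D31653) (tt N11746 (iv D29657)) (tt N15727 D31654) (tt N11755 F138162) (tt N15719 (iv F147268)))
theorem Q13732 : ∀ i, i < 13732 → P i := stepQ 13731 Q13731 (allL N13731 (tt N11781 F138163) (tt N12694 F138164) (tt N15726 (iv F147306)) (tt N11748 F138165) (tt N15728 D31655) (tt N11747 (iv D29658)) (tt N15708 (iv F147195)) (tt N15729 D31656) (tt N15730 D31657) (tt N15720 (iv F147273)))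
theorem Q13733 : ∀ i, i < 13733 → P i := stepQ 13732 Q13732 (allL N13732 (tt N11782 F138166) (tt N12695 F138167) (tt N15727 (iv F147309)) (tt N11749 F138168) (tt N15286 (iv F144835)) (tt N15729 (iv F147317)) (tt N15715 (iv F147240)) (tt N11747 (iv D29659)) (tt N11757 F138169) (tt N15721 (iv F147280)))
theorem Q13734 : ∀ i, i < 13734 → P i := stepQ 13733 Q13733 (allL N13733 (tt N11783 F138170) (tt N12696 F138171) (tt N13733 F138172) (tt N15729 (iv F147316)) (tt N15440 (iv F145753)) (tt N11749 F138173) (tt N15731 D31658) (tt N11748 (iv D29660)) (tt N15732 D31659) (tt N15722 (iv F147286)))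
theorem Q13735 : ∀ i, i < 13735 → P i := stepQ 13734 Q13734 (allL N13734 (tt N11784 F138174) (tt N11905 F138175) (tt N13734 F138176) (tt N15730 (iv F147320)) (tt N15441 (iv F145759)) (tt N11759 F138177) (tt N15711 (iv F147215)) (tt N15732 (iv F147330)) (tt N11748 (iv D29661)) (tt N12371 (iv F138178)))
theorem Q13736 : ∀ i, i < 13736 → P i := stepQ 13735 Q13735 (allL N13735 (tt N12128 F138179) (tt N11750 (iv D29662)) (tt N12124 F138180) (tt N13735 F138181) (tt N12209 F138182) (tt N12094 F138183) (tt N15733 D31660) (tt N11754 F138184) (tt N15712 (iv F147223)) (tt N11982 F138185))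
theorem Q13737 : ∀ i, i < 13737 → P i := stepQ 13736 Q13736 (allL N13736 (tt N11786 F138186) (tt N15733 (iv F147333)) (tt N11751 F138187) (tt N13736 F138188) (tt N12043 F138189) (tt N15734 D31661) (tt N11750 (iv D29663)) (tt N15735 D31662) (tt N15713 (iv F147229)) (tt N11983 F138190))
theorem Q13738 : ∀ i, i < 13738 → P i := stepQ 13737 Q13737 (allL N13737 (tt N11787 F138191) (tt N12173 F138192) (tt N15734 (iv F147341)) (tt N11752 F138193) (tt N15736 D31663) (tt N11751 (iv D29664)) (tt N12096 F138194) (tt N15737 D31664) (tt N15738 D31665) (tt N11984 F138195))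
theorem Q13739 : ∀ i, i < 13739 → P i := stepQ 13738 Q13738 (allL N13738 (tt N11788 F138196) (tt N12697 F138197) (tt N15735 (iv F147347)) (tt N11753 F138198) (tt N12901 F138199) (tt N15737 (iv F147362)) (tt N11757 F138200) (tt N11751 (iv D29665)) (tt N15715 (iv F147241)) (tt N11985 F138201))
theorem Q13740 : ∀ i, i < 13740 → P i := stepQ 13739 Q13739 (allL N13739 (tt N11789 F138202) (tt N11937 F138203) (tt N13739 F138204) (tt N15737 (iv F147361)) (tt N13739 F138205) (tt N11753 F138206) (tt N11935 F138207) (tt N11752 (iv D29666)) (tt N15739 D31666) (tt N11986 F138208))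
theorem Q13741 : ∀ i, i < 13741 → P i := stepQ 13740 Q13740 (allL N13740 (tt N11790 F138209) (tt N12200 F138210) (tt N13740 F138211) (tt N15738 (iv F147367)) (tt N13740 F138212) (tt N15717 (iv F147253)) (tt N12097 F138213) (tt N15739 (iv F147374)) (tt N11752 (iv D29667)) (tt N15740 D31667))
theorem Q13742 : ∀ i, i < 13742 → P i := stepQ 13741 Q13741 (allL N13741 (tt N11754 (iv D29668)) (tt N11791 F138214) (tt N12096 F138215) (tt N13741 F138216) (tt N12212 F138217) (tt N12095 F138218) (tt N15734 (iv F147344)) (tt N12128 F138219) (tt N15724 (iv F147299)) (tt N11988 F138220))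
theorem Q13743 : ∀ i, i < 13743 → P i := stepQ 13742 Q13742 (allL N13742 (tt N15734 (iv F147339)) (tt N11755 F138221) (tt N11787 F138222) (tt N13742 F138223) (tt N15289 (iv F144855)) (tt N11786 F138224) (tt N11754 (iv D29669)) (tt N15741 D31668) (tt N15725 (iv F147304)) (tt N11989 F138225))
theorem Q13744 : ∀ i, i < 13744 → P i := stepQ 13743 Q13743 (allL N13743 (tt N11793 F138226) (tt N11786 F138227) (tt N11756 F138228) (tt N13743 F138229) (tt N12902 (iv F138232)) (tt N11755 (iv D29670)) (tt N11785 F138230) (tt N15742 D31669) (tt N15743 D31670) (tt N11990 F138231))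
theorem Q13745 : ∀ i, i < 13745 → P i := stepQ 13744 Q13744 (allL N13744 (tt N11794 F138233) (tt N15741 (iv F147381)) (tt N11757 F138234) (tt N13744 F138235) (tt N15291 (iv F144868)) (tt N15742 (iv F147391)) (tt N15735 (iv F147350)) (tt N11755 (iv D29671)) (tt N15727 (iv F147311)) (tt N11991 F138236))
theorem Q13746 : ∀ i, i < 13746 → P i := stepQ 13745 Q13745 (allL N13745 (tt N11796 F138237) (tt N11849 F138238) (tt N15742 (iv F147388)) (tt N11758 F138239) (tt N12914 F138240) (tt N11757 F138241) (tt N11858 F138242) (tt N11756 (iv D29672)) (tt N15744 D31671) (tt N11992 F138243))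
theorem Q13747 : ∀ i, i < 13747 → P i := stepQ 13746 Q13746 (allL N13746 (tt N11797 F138244) (tt N11829 F138245) (tt N15743 (iv F147396)) (tt N11759 F138246) (tt N12769 F138247) (tt N15730 (iv F147321)) (tt N11828 F138248) (tt N15744 (iv F147406)) (tt N11756 (iv D29673)) (tt N12333 F138249))
theorem Q13748 : ∀ i, i < 13748 → P i := stepQ 13747 Q13747 (allL N13747 (tt N11799 F138250) (tt N11906 F138251) (tt N13747 F138252) (tt N15744 (iv F147403)) (tt N11760 F138253) (tt N15732 (iv F147329)) (tt N11921 F138254) (tt N11759 F138255) (tt N11758 (iv D29674)) (tt N12372 F138256))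
theorem Q13749 : ∀ i, i < 13749 → P i := stepQ 13748 Q13748 (allL N13748 (tt N12221 F138257) (tt N15745 D31672) (tt N11761 (iv D29675)) (tt N13748 F138258) (tt N12449 F138259) (tt N11771 F138260) (tt N15746 D31673) (tt N11764 F138261) (tt N12102 F138262) (tt N12301 F138263))
theorem Q13750 : ∀ i, i < 13750 → P i := stepQ 13749 Q13749 (allL N13749 (tt N12222 F138264) (tt N11811 F138265) (tt N15746 (iv F147417)) (tt N11762 F138266) (tt N12450 F138267) (tt N15747 D31674) (tt N11761 (iv D29676)) (tt N15748 D31675) (tt N12103 F138268) (tt N12302 F138269))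
theorem Q13751 : ∀ i, i < 13751 → P i := stepQ 13750 Q13750 (allL N13750 (tt N12223 F138270) (tt N11812 F138271) (tt N13750 F138272) (tt N15747 (iv F147424)) (tt N12290 F138273) (tt N11762 (iv D29677)) (tt N11773 F138274) (tt N15749 D31676) (tt N15750 D31677) (tt N12303 F138275))
theorem Q13752 : ∀ i, i < 13752 → P i := stepQ 13751 Q13751 (allL N13751 (tt N12224 F138276) (tt N11813 F138277) (tt N13751 F138278) (tt N15748 (iv F147429)) (tt N11763 F138279) (tt N15749 (iv F147438)) (tt N11767 F138280) (tt N11762 (iv D29678)) (tt N12105 F138281) (tt N12304 F138282))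
theorem Q13753 : ∀ i, i < 13753 → P i := stepQ 13752 Q13752 (allL N13752 (tt N15751 D31678) (tt N11764 (iv D29679)) (tt N11818 F138283) (tt N13752 F138284) (tt N15490 (iv F146059)) (tt N11779 F138285) (tt N15752 D31679) (tt N15745 (iv F147412)) (tt N12106 F138286) (tt N12983 F138287))
theorem Q13754 : ∀ i, i < 13754 → P i := stepQ 13753 Q13753 (allL N13753 (tt N15707 (iv F147186)) (tt N15752 (iv F147452)) (tt N11765 F138288) (tt N13753 F138289) (tt N15491 (iv F146067)) (tt N15753 D31680) (tt N11764 (iv D29680)) (tt N15754 D31681) (tt N12107 F138290) (tt N15479 (iv F145994)))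
theorem Q13755 : ∀ i, i < 13755 → P i := stepQ 13754 Q13754 (allL N13754 (tt N15708 (iv F147192)) (tt N11820 F138291) (tt N15753 (iv F147457)) (tt N11766 F138292) (tt N15755 D31682) (tt N11765 (iv D29681)) (tt N11781 F138293) (tt N15756 D31683) (tt N15757 D31684) (tt N15480 (iv F145999)))
theorem Q13756 : ∀ i, i < 13756 → P i := stepQ 13755 Q13755 (allL N13755 (tt N15709 (iv F147197)) (tt N11821 F138294) (tt N15754 (iv F147460)) (tt N11767 F138295) (tt N15493 (iv F146078)) (tt N15756 (iv F147467)) (tt N15748 (iv F147431)) (tt N11765 (iv D29682)) (tt N12109 F138296) (tt N15481 (iv F146006)))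
theorem Q13757 : ∀ i, i < 13757 → P i := stepQ 13756 Q13756 (allL N13756 (tt N15710 (iv F147204)) (tt N11822 F138297) (tt N13756 F138298) (tt N15756 (iv F147466)) (tt N15453 (iv F145843)) (tt N11767 F138299) (tt N15758 D31685) (tt N11766 (iv D29683)) (tt N15759 D31686) (tt N15482 (iv F146012)))
theorem Q13758 : ∀ i, i < 13758 → P i := stepQ 13757 Q13757 (allL N13757 (tt N15711 (iv F147210)) (tt N11823 F138300) (tt N13757 F138301) (tt N15757 (iv F147469)) (tt N15454 (iv F145849)) (tt N12111 F138302) (tt N11784 F138303) (tt N15759 (iv F147478)) (tt N11766 (iv D29684)) (tt N15760 D31687))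
theorem Q13759 : ∀ i, i < 13759 → P i := stepQ 13758 Q13758 (allL N13758 (tt N12301 F138304) (tt N15761 D31688) (tt N11768 (iv D29685)) (tt N13758 F138305) (tt N12469 F138306) (tt N12164 F138307) (tt N15762 D31689) (tt N12497 F138308) (tt N13758 F138309) (tt N12221 F138310))
theorem Q13760 : ∀ i, i < 13760 → P i := stepQ 13759 Q13759 (allL N13759 (tt N12302 F138311) (tt N11825 F138312) (tt N15762 (iv F147492)) (tt N11769 F138313) (tt N12470 F138314) (tt N15763 D31690) (tt N11768 (iv D29686)) (tt N15764 D31691) (tt N13759 F138315) (tt N12222 F138316))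
theorem Q13761 : ∀ i, i < 13761 → P i := stepQ 13760 Q13760 (allL N13760 (tt N12303 F138317) (tt N11826 F138318) (tt N13760 F138319) (tt N15763 (iv F147499)) (tt N11773 F138320) (tt N11769 (iv D29687)) (tt N12290 F138321) (tt N15765 D31692) (tt N15766 D31693) (tt N12223 F138322))
theorem Q13762 : ∀ i, i < 13762 → P i := stepQ 13761 Q13761 (allL N13761 (tt N12304 F138323) (tt N11827 F138324) (tt N13761 F138325) (tt N15764 (iv F147504)) (tt N11770 F138326) (tt N15765 (iv F147513)) (tt N12500 F138327) (tt N11769 (iv D29688)) (tt N13761 F138328) (tt N12224 F138329))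
theorem Q13763 : ∀ i, i < 13763 → P i := stepQ 13762 Q13762 (allL N13762 (tt N12130 (iv F138336)) (tt N11771 (iv D29689)) (tt N11828 F138330) (tt N13762 F138331) (tt N12709 F138332) (tt N15745 (iv F147411)) (tt N15743 (iv F147399)) (tt N11779 F138333) (tt N11785 F138334) (tt N12305 F138335))
theorem Q13764 : ∀ i, i < 13764 → P i := stepQ 13763 Q13763 (allL N13763 (tt N15713 (iv F147225)) (tt N15743 (iv F147395)) (tt N11772 F138337) (tt N13763 F138338) (tt N12710 F138339) (tt N15767 D31694) (tt N11771 (iv D29690)) (tt N15768 D31695) (tt N11786 F138340) (tt N12306 F138341))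
theorem Q13765 : ∀ i, i < 13765 → P i := stepQ 13764 Q13764 (allL N13764 (tt N15714 (iv F147231)) (tt N11830 F138342) (tt N15767 (iv F147521)) (tt N11773 F138343) (tt N15769 D31696) (tt N11772 (iv D29691)) (tt N15747 (iv F147425)) (tt N15770 D31697) (tt N15771 D31698) (tt N12307 F138344))
theorem Q13766 : ∀ i, i < 13766 → P i := stepQ 13765 Q13765 (allL N13765 (tt N15715 (iv F147236)) (tt N11831 F138345) (tt N15768 (iv F147524)) (tt N11774 F138346) (tt N12712 F138347) (tt N15770 (iv F147535)) (tt N11782 F138348) (tt N11772 (iv D29692)) (tt N11788 F138349) (tt N12308 F138350))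
theorem Q13767 : ∀ i, i < 13767 → P i := stepQ 13766 Q13766 (allL N13766 (tt N15716 (iv F147243)) (tt N11832 F138351) (tt N13766 F138352) (tt N15770 (iv F147534)) (tt N15765 (iv F147512)) (tt N11774 F138353) (tt N15772 D31699) (tt N11773 (iv D29693)) (tt N15773 D31700) (tt N12309 F138354))
theorem Q13768 : ∀ i, i < 13768 → P i := stepQ 13767 Q13767 (allL N13767 (tt N15717 (iv F147249)) (tt N11833 F138355) (tt N13767 F138356) (tt N15771 (iv F147538)) (tt N15766 (iv F147518)) (tt N11790 F138357) (tt N15750 (iv F147445)) (tt N15773 (iv F147547)) (tt N11773 (iv D29694)) (tt N15774 D31701))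
theorem Q13769 : ∀ i, i < 13769 → P i := stepQ 13768 Q13768 (allL N13768 (tt N15719 (iv F147263)) (tt N12793 F138358) (tt N11776 F138359) (tt N13768 F138360) (tt N12704 F138361) (tt N15775 D31702) (tt N11775 (iv D29695)) (tt N15776 D31703) (tt N11993 F138362) (tt N11780 F138363))
theorem Q13770 : ∀ i, i < 13770 → P i := stepQ 13769 Q13769 (allL N13769 (tt N15720 (iv F147269)) (tt N11835 F138364) (tt N15775 (iv F147553)) (tt N11777 F138365) (tt N15777 D31704) (tt N11776 (iv D29696)) (tt N15480 (iv F145998)) (tt N15778 D31705) (tt N15779 D31706) (tt N11781 F138366))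
theorem Q13771 : ∀ i, i < 13771 → P i := stepQ 13770 Q13770 (allL N13770 (tt N15721 (iv F147274)) (tt N11836 F138367) (tt N15776 (iv F147557)) (tt N11778 F138368) (tt N12706 F138369) (tt N15778 (iv F147568)) (tt N12308 F138370) (tt N11776 (iv D29697)) (tt N11995 F138371) (tt N11782 F138372))
theorem Q13772 : ∀ i, i < 13772 → P i := stepQ 13771 Q13771 (allL N13771 (tt N15722 (iv F147281)) (tt N11837 F138373) (tt N13771 F138374) (tt N15778 (iv F147567)) (tt N15329 (iv F145090)) (tt N11778 F138375) (tt N15780 D31707) (tt N11777 (iv D29698)) (tt N15781 D31708) (tt N11783 F138376))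
theorem Q13773 : ∀ i, i < 13773 → P i := stepQ 13772 Q13772 (allL N13772 (tt N15723 (iv F147287)) (tt N11838 F138377) (tt N13772 F138378) (tt N15779 (iv F147571)) (tt N15330 (iv F145096)) (tt N11997 F138379) (tt N15483 (iv F146018)) (tt N15781 (iv F147580)) (tt N11777 (iv D29699)) (tt N15782 D31709))
theorem Q13774 : ∀ i, i < 13774 → P i := stepQ 13773 Q13773 (allL N13773 (tt N11779 (iv D29700)) (tt N15724 (iv F147294)) (tt N11839 F138380) (tt N13773 F138381) (tt N12175 F138382) (tt N15751 (iv F147448)) (tt N15783 D31710) (tt N12130 F138383) (tt N11791 F138384) (tt N12172 F138385))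
theorem Q13775 : ∀ i, i < 13775 → P i := stepQ 13774 Q13774 (allL N13774 (tt N15783 (iv F147586)) (tt N11780 F138386) (tt N11840 F138387) (tt N13774 F138388) (tt N12795 F138389) (tt N15784 D31711) (tt N11779 (iv D29701)) (tt N15785 D31712) (tt N11792 F138390) (tt N12793 F138391))
theorem Q13776 : ∀ i, i < 13776 → P i := stepQ 13775 Q13775 (allL N13775 (tt N15726 (iv F147305)) (tt N15784 (iv F147592)) (tt N11781 F138392) (tt N13775 F138393) (tt N15786 D31713) (tt N11780 (iv D29702)) (tt N15753 (iv F147459)) (tt N15787 D31714) (tt N15788 D31715) (tt N15775 (iv F147555)))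
theorem Q13777 : ∀ i, i < 13777 → P i := stepQ 13776 Q13776 (allL N13776 (tt N15727 (iv F147308)) (tt N15785 (iv F147596)) (tt N11782 F138394) (tt N13776 F138395) (tt N15301 (iv F144931)) (tt N15787 (iv F147605)) (tt N15768 (iv F147527)) (tt N11780 (iv D29703)) (tt N11794 F138396) (tt N15776 (iv F147562)))
theorem Q13778 : ∀ i, i < 13778 → P i := stepQ 13777 Q13777 (allL N13777 (tt N15728 (iv F147312)) (tt N11843 F138397) (tt N15786 (iv F147602)) (tt N15457 (iv F145862)) (tt N11781 (iv D29704)) (tt N15302 (iv F144937)) (tt N15755 (iv F147464)) (tt N15789 D31716) (tt N15790 D31717) (tt N15777 (iv F147565)))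
theorem Q13779 : ∀ i, i < 13779 → P i := stepQ 13778 Q13778 (allL N13778 (tt N15729 (iv F147314)) (tt N11844 F138398) (tt N15787 (iv F147603)) (tt N11783 F138399) (tt N15789 (iv F147610)) (tt N11782 F138400) (tt N15791 D31718) (tt N11781 (iv D29705)) (tt N15792 D31719) (tt N15778 (iv F147569)))
theorem Q13780 : ∀ i, i < 13780 → P i := stepQ 13779 Q13779 (allL N13779 (tt N15730 (iv F147318)) (tt N11845 F138401) (tt N15788 (iv F147606)) (tt N11784 F138402) (tt N15790 (iv F147612)) (tt N11797 F138403) (tt N15757 (iv F147471)) (tt N15792 (iv F147618)) (tt N11781 (iv D29706)) (tt N15793 D31720))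
theorem Q13781 : ∀ i, i < 13781 → P i := stepQ 13780 Q13780 (allL N13780 (tt N15731 (iv F147323)) (tt N11846 F138404) (tt N13780 F138405) (tt N15791 (iv F147614)) (tt N15460 (iv F145872)) (tt N15772 (iv F147542)) (tt N11783 (iv D29707)) (tt N15758 (iv F147474)) (tt N15794 D31721) (tt N15780 (iv F147576)))
theorem Q13782 : ∀ i, i < 13782 → P i := stepQ 13781 Q13781 (allL N13781 (tt N15732 (iv F147326)) (tt N11847 F138406) (tt N13781 F138407) (tt N15792 (iv F147616)) (tt N15461 (iv F145876)) (tt N11799 F138408) (tt N15794 (iv F147625)) (tt N11784 F138409) (tt N11783 (iv D29708)) (tt N15795 D31722))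
theorem Q13783 : ∀ i, i < 13783 → P i := stepQ 13782 Q13782 (allL N13782 (tt N12371 F138410) (tt N11848 F138411) (tt N13782 F138412) (tt N15793 (iv F147621)) (tt N15462 (iv F145882)) (tt N11800 F138413) (tt N15760 (iv F147483)) (tt N15795 (iv F147630)) (tt N15782 (iv F147585)) (tt N11784 (iv D29709)))
theorem Q13784 : ∀ i, i < 13784 → P i := stepQ 13783 Q13783 (allL N13783 (tt N15735 (iv F147346)) (tt N15742 (iv F147387)) (tt N11788 F138414) (tt N13783 F138415) (tt N12903 F138416) (tt N15741 (iv F147384)) (tt N11794 F138417) (tt N11786 (iv D29710)) (tt N15768 (iv F147528)) (tt N12006 F138418))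
theorem Q13785 : ∀ i, i < 13785 → P i := stepQ 13784 Q13784 (allL N13784 (tt N15736 (iv F147352)) (tt N11850 F138419) (tt N15289 (iv F144853)) (tt N13784 F138420) (tt N11787 (iv D29711)) (tt N12904 F138421) (tt N12123 F138422) (tt N15796 D31723) (tt N15797 D31724) (tt N12007 F138423))
theorem Q13786 : ∀ i, i < 13786 → P i := stepQ 13785 Q13785 (allL N13785 (tt N15737 (iv F147359)) (tt N11851 F138424) (tt N15741 (iv F147382)) (tt N11789 F138425) (tt N15796 (iv F147633)) (tt N11788 F138426) (tt N15798 D31725) (tt N11787 (iv D29712)) (tt N15799 D31726) (tt N12008 F138427))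
theorem Q13787 : ∀ i, i < 13787 → P i := stepQ 13786 Q13786 (allL N13786 (tt N15738 (iv F147365)) (tt N11852 F138428) (tt N15725 (iv F147302)) (tt N11790 F138429) (tt N15797 (iv F147638)) (tt N15771 (iv F147539)) (tt N12125 F138430) (tt N15799 (iv F147648)) (tt N11787 (iv D29713)) (tt N15800 D31727))
theorem Q13788 : ∀ i, i < 13788 → P i := stepQ 13787 Q13787 (allL N13787 (tt N11935 F138431) (tt N11853 F138432) (tt N13787 F138433) (tt N15798 (iv F147642)) (tt N13787 F138434) (tt N11798 F138435) (tt N11789 (iv D29714)) (tt N11934 F138436) (tt N15801 D31728) (tt N12010 F138437))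
theorem Q13789 : ∀ i, i < 13789 → P i := stepQ 13788 Q13788 (allL N13788 (tt N15739 (iv F147369)) (tt N11854 F138438) (tt N13788 F138439) (tt N15799 (iv F147647)) (tt N13788 F138440) (tt N15773 (iv F147546)) (tt N15801 (iv F147657)) (tt N11790 F138441) (tt N11789 (iv D29715)) (tt N15802 D31729))
theorem Q13790 : ∀ i, i < 13790 → P i := stepQ 13789 Q13789 (allL N13789 (tt N15740 (iv F147375)) (tt N11855 F138442) (tt N13789 F138443) (tt N15800 (iv F147650)) (tt N13789 F138444) (tt N15774 (iv F147550)) (tt N12127 F138445) (tt N15802 (iv F147662)) (tt N12012 F138446) (tt N11790 (iv D29716)))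
theorem Q13791 : ∀ i, i < 13791 → P i := stepQ 13790 Q13790 (allL N13790 (tt N11792 F138447) (tt N15734 (iv F147340)) (tt N11856 F138448) (tt N13790 F138449) (tt N12053 F138450) (tt N15733 (iv F147337)) (tt N11791 (iv D29717)) (tt N15803 D31730) (tt N15783 (iv F147590)) (tt N12013 F138451))
theorem Q13792 : ∀ i, i < 13792 → P i := stepQ 13791 Q13791 (allL N13791 (tt N15733 (iv F147332)) (tt N11793 F138452) (tt N11857 F138453) (tt N13791 F138454) (tt N15804 D31731) (tt N11792 (iv D29718)) (tt N12128 F138455) (tt N15805 D31732) (tt N15806 D31733) (tt N12014 F138456))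
theorem Q13793 : ∀ i, i < 13793 → P i := stepQ 13792 Q13792 (allL N13792 (tt N15803 (iv F147664)) (tt N11794 F138457) (tt N11858 F138458) (tt N13792 F138459) (tt N12937 F138460) (tt N15805 (iv F147680)) (tt N15742 (iv F147392)) (tt N11792 (iv D29719)) (tt N15785 (iv F147600)) (tt N12015 F138461))
theorem Q13794 : ∀ i, i < 13794 → P i := stepQ 13793 Q13793 (allL N13793 (tt N12902 F138462) (tt N15804 (iv F147671)) (tt N11795 F138463) (tt N12214 (iv F138466)) (tt N11793 (iv D29720)) (tt N15308 (iv F144969)) (tt N12129 F138464) (tt N15807 D31734) (tt N15808 D31735) (tt N12016 F138465))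
theorem Q13795 : ∀ i, i < 13795 → P i := stepQ 13794 Q13794 (allL N13794 (tt N15742 (iv F147386)) (tt N15805 (iv F147677)) (tt N11796 F138467) (tt N13794 F138468) (tt N15807 (iv F147689)) (tt N11794 F138469) (tt N15803 (iv F147668)) (tt N11793 (iv D29721)) (tt N15809 D31736) (tt N12017 F138470))
theorem Q13796 : ∀ i, i < 13796 → P i := stepQ 13795 Q13795 (allL N13795 (tt N15743 (iv F147394)) (tt N15806 (iv F147682)) (tt N11797 F138471) (tt N13795 F138472) (tt N15808 (iv F147695)) (tt N15788 (iv F147608)) (tt N12130 F138473) (tt N15809 (iv F147700)) (tt N11793 (iv D29722)) (tt N15810 D31737))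
theorem Q13797 : ∀ i, i < 13797 → P i := stepQ 13796 Q13796 (allL N13796 (tt N12914 F138474) (tt N11862 F138475) (tt N15807 (iv F147687)) (tt N11801 F138476) (tt N11796 F138477) (tt N15311 (iv F144986)) (tt N12054 F138478) (tt N11795 (iv D29723)) (tt N15811 D31738) (tt N12019 F138479))
theorem Q13798 : ∀ i, i < 13798 → P i := stepQ 13797 Q13797 (allL N13797 (tt N12769 F138480) (tt N11863 F138481) (tt N15808 (iv F147693)) (tt N11802 F138482) (tt N11797 F138483) (tt N15812 D31739) (tt N12131 F138484) (tt N15811 (iv F147712)) (tt N11795 (iv D29724)) (tt N12177 F138485))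
theorem Q13799 : ∀ i, i < 13799 → P i := stepQ 13798 Q13798 (allL N13798 (tt N11858 F138486) (tt N11864 F138487) (tt N15803 (iv F147665)) (tt N11798 F138488) (tt N12054 F138489) (tt N15798 (iv F147643)) (tt N11796 (iv D29725)) (tt N11856 F138490) (tt N15813 D31740) (tt N12020 F138491))
theorem Q13800 : ∀ i, i < 13800 → P i := stepQ 13799 Q13799 (allL N13799 (tt N15744 (iv F147401)) (tt N11865 F138492) (tt N15809 (iv F147698)) (tt N11799 F138493) (tt N15811 (iv F147710)) (tt N15792 (iv F147617)) (tt N15813 (iv F147722)) (tt N11797 F138494) (tt N11796 (iv D29726)) (tt N15814 D31741))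
theorem Q13801 : ∀ i, i < 13801 → P i := stepQ 13800 Q13800 (allL N13800 (tt N12333 F138495) (tt N11866 F138496) (tt N15810 (iv F147702)) (tt N11800 F138497) (tt N12177 F138498) (tt N15793 (iv F147622)) (tt N12132 F138499) (tt N15814 (iv F147730)) (tt N12022 F138500) (tt N11797 (iv D29727)))
theorem Q13802 : ∀ i, i < 13802 → P i := stepQ 13801 Q13801 (allL N13801 (tt N11921 F138501) (tt N11867 F138502) (tt N13801 F138503) (tt N15813 (iv F147720)) (tt N11804 F138504) (tt N15815 D31742) (tt N11799 F138505) (tt N11872 F138506) (tt N11798 (iv D29728)) (tt N11870 F138507))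
theorem Q13803 : ∀ i, i < 13803 → P i := stepQ 13802 Q13802 (allL N13802 (tt N12372 F138508) (tt N11868 F138509) (tt N13802 F138510) (tt N15814 (iv F147727)) (tt N11805 F138511) (tt N15795 (iv F147629)) (tt N11870 F138512) (tt N11800 F138513) (tt N11869 F138514) (tt N11799 (iv D29729)))
theorem Q13804 : ∀ i, i < 13804 → P i := stepQ 13803 Q13803 (allL N13803 (tt N12800 F138515) (tt N11870 F138516) (tt N11943 F138517) (tt N15811 (iv F147709)) (tt N11803 F138518) (tt N15816 D31743) (tt N11868 F138519) (tt N11802 F138520) (tt N11801 (iv D29730)) (tt N11867 F138521))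
theorem Q13805 : ∀ i, i < 13805 → P i := stepQ 13804 Q13804 (allL N13804 (tt N12848 F138522) (tt N11871 F138523) (tt N12205 F138524) (tt N15812 (iv F147716)) (tt N15475 (iv F145961)) (tt N11802 (iv D29731)) (tt N15817 D31744) (tt N15816 (iv F147740)) (tt N15321 (iv F145041)) (tt N12178 F138525))
theorem Q13806 : ∀ i, i < 13806 → P i := stepQ 13805 Q13805 (allL N13805 (tt N15818 D31745) (tt N11806 (iv D29732)) (tt N15490 (iv F146057)) (tt N13805 F138526) (tt N11818 F138527) (tt N12982 F138528) (tt N15819 D31746) (tt N15436 (iv F145729)) (tt N12134 F138529) (tt N12981 F138530))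
theorem Q13807 : ∀ i, i < 13807 → P i := stepQ 13806 Q13806 (allL N13806 (tt N12733 F138531) (tt N15819 (iv F147754)) (tt N11807 F138532) (tt N13806 F138533) (tt N11819 F138534) (tt N15820 D31747) (tt N11806 (iv D29733)) (tt N15821 D31748) (tt N12135 F138535) (tt N15450 (iv F145827)))
theorem Q13808 : ∀ i, i < 13808 → P i := stepQ 13807 Q13807 (allL N13807 (tt N12734 F138536) (tt N15492 (iv F146071)) (tt N15820 (iv F147760)) (tt N11808 F138537) (tt N15822 D31749) (tt N11807 (iv D29734)) (tt N15327 (iv F145078)) (tt N15823 D31750) (tt N15824 D31751) (tt N15451 (iv F145832)))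
theorem Q13809 : ∀ i, i < 13809 → P i := stepQ 13808 Q13808 (allL N13808 (tt N12735 F138538) (tt N15493 (iv F146076)) (tt N15821 (iv F147763)) (tt N11809 F138539) (tt N11821 F138540) (tt N15823 (iv F147771)) (tt N15439 (iv F145747)) (tt N11807 (iv D29735)) (tt N12137 F138541) (tt N15452 (iv F145839)))
theorem Q13810 : ∀ i, i < 13810 → P i := stepQ 13809 Q13809 (allL N13809 (tt N12736 F138542) (tt N15494 (iv F146083)) (tt N13809 F138543) (tt N15823 (iv F147770)) (tt N15482 (iv F146010)) (tt N11809 F138544) (tt N15825 D31752) (tt N11808 (iv D29736)) (tt N15826 D31753) (tt N15453 (iv F145845)))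
theorem Q13811 : ∀ i, i < 13811 → P i := stepQ 13810 Q13810 (allL N13810 (tt N12737 F138545) (tt N15495 (iv F146089)) (tt N13810 F138546) (tt N15824 (iv F147773)) (tt N15483 (iv F146016)) (tt N12139 F138547) (tt N15330 (iv F145098)) (tt N15826 (iv F147780)) (tt N11808 (iv D29737)) (tt N15827 D31754))
theorem Q13812 : ∀ i, i < 13812 → P i := stepQ 13811 Q13811 (allL N13811 (tt N12120 F138548) (tt N11810 (iv D29738)) (tt N15745 (iv F147408)) (tt N11878 F138549) (tt N15436 (iv F145727)) (tt N11828 F138550) (tt N15828 D31755) (tt N11818 F138551) (tt N12093 F138552) (tt N12327 F138553))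
theorem Q13813 : ∀ i, i < 13813 → P i := stepQ 13812 Q13812 (allL N13812 (tt N12738 F138554) (tt N15828 (iv F147785)) (tt N11811 F138555) (tt N11879 F138556) (tt N15437 (iv F145735)) (tt N15829 D31756) (tt N11810 (iv D29739)) (tt N15830 D31757) (tt N12140 F138557) (tt N12328 F138558))
theorem Q13814 : ∀ i, i < 13814 → P i := stepQ 13813 Q13813 (allL N13813 (tt N12739 F138559) (tt N15747 (iv F147423)) (tt N15829 (iv F147790)) (tt N11812 F138560) (tt N15831 D31758) (tt N11811 (iv D29740)) (tt N11830 F138561) (tt N15832 D31759) (tt N15833 D31760) (tt N12329 F138562))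
theorem Q13815 : ∀ i, i < 13815 → P i := stepQ 13814 Q13814 (allL N13814 (tt N12740 F138563) (tt N15748 (iv F147428)) (tt N15830 (iv F147796)) (tt N11813 F138564) (tt N15439 (iv F145746)) (tt N15832 (iv F147806)) (tt N11821 F138565) (tt N11811 (iv D29741)) (tt N12142 F138566) (tt N12330 F138567))
theorem Q13816 : ∀ i, i < 13816 → P i := stepQ 13815 Q13815 (allL N13815 (tt N12741 F138568) (tt N15749 (iv F147435)) (tt N11882 F138569) (tt N15832 (iv F147805)) (tt N15287 (iv F144842)) (tt N11813 F138570) (tt N15834 D31761) (tt N11812 (iv D29742)) (tt N15835 D31762) (tt N12331 F138571))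
theorem Q13817 : ∀ i, i < 13817 → P i := stepQ 13816 Q13816 (allL N13816 (tt N12742 F138572) (tt N15750 (iv F147441)) (tt N11883 F138573) (tt N15833 (iv F147810)) (tt N15288 (iv F144848)) (tt N12144 F138574) (tt N11833 F138575) (tt N15835 (iv F147821)) (tt N11812 (iv D29743)) (tt N15613 (iv F146691)))
theorem Q13818 : ∀ i, i < 13818 → P i := stepQ 13817 Q13817 (allL N13817 (tt N12744 F138576) (tt N12984 F138577) (tt N11815 F138578) (tt N11884 F138579) (tt N15450 (iv F145825)) (tt N15836 D31763) (tt N11814 (iv D29744)) (tt N15837 D31764) (tt N13817 F138580) (tt N11819 F138581))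
theorem Q13819 : ∀ i, i < 13819 → P i := stepQ 13818 Q13818 (allL N13818 (tt N12745 F138582) (tt N15480 (iv F145996)) (tt N15836 (iv F147824)) (tt N11816 F138583) (tt N15838 D31765) (tt N11815 (iv D29745)) (tt N11835 F138584) (tt N15839 D31766) (tt N15840 D31767) (tt N11820 F138585))
theorem Q13820 : ∀ i, i < 13820 → P i := stepQ 13819 Q13819 (allL N13819 (tt N12746 F138586) (tt N15481 (iv F146001)) (tt N15837 (iv F147830)) (tt N11817 F138587) (tt N15452 (iv F145836)) (tt N15839 (iv F147840)) (tt N12330 F138588) (tt N11815 (iv D29746)) (tt N13819 F138589) (tt N11821 F138590))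
theorem Q13821 : ∀ i, i < 13821 → P i := stepQ 13820 Q13820 (allL N13820 (tt N12747 F138591) (tt N15482 (iv F146008)) (tt N11887 F138592) (tt N15839 (iv F147839)) (tt N15494 (iv F146085)) (tt N11817 F138593) (tt N15841 D31768) (tt N11816 (iv D29747)) (tt N15842 D31769) (tt N11822 F138594))
theorem Q13822 : ∀ i, i < 13822 → P i := stepQ 13821 Q13821 (allL N13821 (tt N12748 F138595) (tt N15483 (iv F146014)) (tt N11888 F138596) (tt N15840 (iv F147843)) (tt N15495 (iv F146091)) (tt N13821 F138597) (tt N11838 F138598) (tt N15842 (iv F147854)) (tt N11816 (iv D29748)) (tt N15843 D31770))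
theorem Q13823 : ∀ i, i < 13823 → P i := stepQ 13822 Q13822 (allL N13822 (tt N11818 (iv D29749)) (tt N12161 F138599) (tt N15751 (iv F147446)) (tt N11889 F138600) (tt N15818 (iv F147749)) (tt N11839 F138601) (tt N15844 D31771) (tt N12120 F138602) (tt N12119 F138603) (tt N12176 F138604))
theorem Q13824 : ∀ i, i < 13824 → P i := stepQ 13823 Q13823 (allL N13823 (tt N15844 (iv F147860)) (tt N11819 F138605) (tt N15752 (iv F147453)) (tt N11890 F138606) (tt N15819 (iv F147756)) (tt N15845 D31772) (tt N11818 (iv D29750)) (tt N15846 D31773) (tt N12145 F138607) (tt N12984 F138608))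
theorem Q13825 : ∀ i, i < 13825 → P i := stepQ 13824 Q13824 (allL N13824 (tt N12750 F138609) (tt N15845 (iv F147865)) (tt N11820 F138610) (tt N11891 F138611) (tt N15847 D31774) (tt N11819 (iv D29751)) (tt N11841 F138612) (tt N15848 D31775) (tt N15849 D31776) (tt N15836 (iv F147827)))
theorem Q13826 : ∀ i, i < 13826 → P i := stepQ 13825 Q13825 (allL N13825 (tt N12751 F138613) (tt N15846 (iv F147869)) (tt N11821 F138614) (tt N11892 F138615) (tt N15821 (iv F147765)) (tt N15848 (iv F147879)) (tt N15830 (iv F147798)) (tt N11819 (iv D29752)) (tt N12147 F138616) (tt N15837 (iv F147834)))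
theorem Q13827 : ∀ i, i < 13827 → P i := stepQ 13826 Q13826 (allL N13826 (tt N12752 F138617) (tt N15755 (iv F147463)) (tt N15847 (iv F147874)) (tt N15500 (iv F146114)) (tt N11820 (iv D29753)) (tt N15822 (iv F147768)) (tt N11843 F138618) (tt N15850 D31777) (tt N15851 D31778) (tt N15838 (iv F147837)))
theorem Q13828 : ∀ i, i < 13828 → P i := stepQ 13827 Q13827 (allL N13827 (tt N12753 F138619) (tt N15756 (iv F147465)) (tt N15848 (iv F147877)) (tt N11822 F138620) (tt N15850 (iv F147886)) (tt N11821 F138621) (tt N15852 D31779) (tt N11820 (iv D29754)) (tt N15853 D31780) (tt N15839 (iv F147841)))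
theorem Q13829 : ∀ i, i < 13829 → P i := stepQ 13828 Q13828 (allL N13828 (tt N12754 F138622) (tt N15757 (iv F147468)) (tt N15849 (iv F147881)) (tt N11823 F138623) (tt N15851 (iv F147888)) (tt N12150 F138624) (tt N11845 F138625) (tt N15853 (iv F147896)) (tt N11820 (iv D29755)) (tt N15854 D31781))
theorem Q13830 : ∀ i, i < 13830 → P i := stepQ 13829 Q13829 (allL N13829 (tt N12755 F138626) (tt N15758 (iv F147472)) (tt N11896 F138627) (tt N15852 (iv F147891)) (tt N15503 (iv F146125)) (tt N15834 (iv F147815)) (tt N11822 (iv D29756)) (tt N11846 F138628) (tt N15855 D31782) (tt N15841 (iv F147850)))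
theorem Q13831 : ∀ i, i < 13831 → P i := stepQ 13830 Q13830 (allL N13830 (tt N12756 F138629) (tt N15759 (iv F147475)) (tt N11897 F138630) (tt N15853 (iv F147894)) (tt N15504 (iv F146129)) (tt N12152 F138631) (tt N15855 (iv F147903)) (tt N11823 F138632) (tt N11822 (iv D29757)) (tt N15856 D31783))
theorem Q13832 : ∀ i, i < 13832 → P i := stepQ 13831 Q13831 (allL N13831 (tt N12757 F138633) (tt N15760 (iv F147480)) (tt N11898 F138634) (tt N15854 (iv F147898)) (tt N15505 (iv F146134)) (tt N12153 F138635) (tt N11848 F138636) (tt N15856 (iv F147908)) (tt N15843 (iv F147859)) (tt N11823 (iv D29758)))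
theorem Q13833 : ∀ i, i < 13833 → P i := stepQ 13832 Q13832 (allL N13832 (tt N15857 D31784) (tt N11824 (iv D29759)) (tt N15761 (iv F147484)) (tt N11899 F138637) (tt N12517 F138638) (tt N15283 (iv F144817)) (tt N15858 D31785) (tt N15506 (iv F146141)) (tt N13832 F138639) (tt N12243 F138640))
theorem Q13834 : ∀ i, i < 13834 → P i := stepQ 13833 Q13833 (allL N13833 (tt N12759 F138641) (tt N15858 (iv F147915)) (tt N11825 F138642) (tt N11900 F138643) (tt N12518 F138644) (tt N15859 D31786) (tt N11824 (iv D29760)) (tt N15860 D31787) (tt N13833 F138645) (tt N12244 F138646))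
theorem Q13835 : ∀ i, i < 13835 → P i := stepQ 13834 Q13834 (allL N13834 (tt N12760 F138647) (tt N15763 (iv F147498)) (tt N15859 (iv F147921)) (tt N11826 F138648) (tt N15861 D31788) (tt N11825 (iv D29761)) (tt N15285 (iv F144830)) (tt N15862 D31789) (tt N15863 D31790) (tt N12245 F138649))
theorem Q13836 : ∀ i, i < 13836 → P i := stepQ 13835 Q13835 (allL N13835 (tt N12761 F138650) (tt N15764 (iv F147503)) (tt N15860 (iv F147925)) (tt N11827 F138651) (tt N12520 F138652) (tt N15862 (iv F147936)) (tt N15509 (iv F146159)) (tt N11825 (iv D29762)) (tt N13835 F138653) (tt N12246 F138654))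
theorem Q13837 : ∀ i, i < 13837 → P i := stepQ 13836 Q13836 (allL N13836 (tt N12762 F138655) (tt N15765 (iv F147510)) (tt N11903 F138656) (tt N15862 (iv F147935)) (tt N11832 F138657) (tt N11827 F138658) (tt N15864 D31791) (tt N11826 (iv D29763)) (tt N15865 D31792) (tt N12247 F138659))
theorem Q13838 : ∀ i, i < 13838 → P i := stepQ 13837 Q13837 (allL N13837 (tt N12763 F138660) (tt N15766 (iv F147516)) (tt N11904 F138661) (tt N15863 (iv F147939)) (tt N11833 F138662) (tt N13837 F138663) (tt N15288 (iv F144850)) (tt N15865 (iv F147949)) (tt N11826 (iv D29764)) (tt N15866 D31793))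
theorem Q13839 : ∀ i, i < 13839 → P i := stepQ 13838 Q13838 (allL N13838 (tt N12720 F138664) (tt N15730 (iv F147319)) (tt N11830 F138665) (tt N11905 F138666) (tt N15867 D31794) (tt N11829 (iv D29765)) (tt N15829 (iv F147792)) (tt N15868 D31795) (tt N12694 F138667) (tt N12334 F138668))
theorem Q13840 : ∀ i, i < 13840 → P i := stepQ 13839 Q13839 (allL N13839 (tt N12727 F138669) (tt N15744 (iv F147402)) (tt N11831 F138670) (tt N11906 F138671) (tt N12771 F138672) (tt N15868 (iv F147963)) (tt N11842 F138673) (tt N11829 (iv D29766)) (tt N11849 F138674) (tt N12335 F138675))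
theorem Q13841 : ∀ i, i < 13841 → P i := stepQ 13840 Q13840 (allL N13840 (tt N12764 F138676) (tt N15769 (iv F147530)) (tt N15867 (iv F147956)) (tt N15861 (iv F147931)) (tt N11830 (iv D29767)) (tt N12772 F138677) (tt N15831 (iv F147802)) (tt N15869 D31796) (tt N15870 D31797) (tt N12336 F138678))
theorem Q13842 : ∀ i, i < 13842 → P i := stepQ 13841 Q13841 (allL N13841 (tt N12765 F138679) (tt N15770 (iv F147533)) (tt N15868 (iv F147961)) (tt N11832 F138680) (tt N15869 (iv F147967)) (tt N11831 F138681) (tt N15871 D31798) (tt N11830 (iv D29768)) (tt N15872 D31799) (tt N12337 F138682))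
theorem Q13843 : ∀ i, i < 13843 → P i := stepQ 13842 Q13842 (allL N13842 (tt N12716 F138683) (tt N15771 (iv F147537)) (tt N12694 F138684) (tt N11833 F138685) (tt N15870 (iv F147972)) (tt N11852 F138686) (tt N15833 (iv F147812)) (tt N15872 (iv F147981)) (tt N11830 (iv D29769)) (tt N15873 D31800))
theorem Q13844 : ∀ i, i < 13844 → P i := stepQ 13843 Q13843 (allL N13843 (tt N12766 F138687) (tt N15772 (iv F147540)) (tt N11909 F138688) (tt N15871 (iv F147974)) (tt N15864 (iv F147943)) (tt N11846 F138689) (tt N11832 (iv D29770)) (tt N15834 (iv F147816)) (tt N15874 D31801) (tt N12339 F138690))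
theorem Q13845 : ∀ i, i < 13845 → P i := stepQ 13844 Q13844 (allL N13844 (tt N12767 F138691) (tt N15773 (iv F147544)) (tt N11910 F138692) (tt N15872 (iv F147979)) (tt N15865 (iv F147947)) (tt N11854 F138693) (tt N15874 (iv F147989)) (tt N11833 F138694) (tt N11832 (iv D29771)) (tt N15875 D31802))
theorem Q13846 : ∀ i, i < 13846 → P i := stepQ 13845 Q13845 (allL N13845 (tt N12768 F138695) (tt N15774 (iv F147548)) (tt N11911 F138696) (tt N15873 (iv F147984)) (tt N15866 (iv F147952)) (tt N11855 F138697) (tt N15613 (iv F146690)) (tt N15875 (iv F147993)) (tt N12341 F138698) (tt N11833 (iv D29772)))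
theorem Q13847 : ∀ i, i < 13847 → P i := stepQ 13846 Q13846 (allL N13846 (tt N12770 F138699) (tt N12797 F138700) (tt N11835 F138701) (tt N11912 F138702) (tt N15876 D31803) (tt N11834 (iv D29773)) (tt N15836 (iv F147826)) (tt N15877 D31804) (tt N15878 D31805) (tt N11841 F138703))
theorem Q13848 : ∀ i, i < 13848 → P i := stepQ 13847 Q13847 (allL N13847 (tt N12771 F138704) (tt N12796 F138705) (tt N11836 F138706) (tt N11913 F138707) (tt N12727 F138708) (tt N15877 (iv F148004)) (tt N12335 F138709) (tt N11834 (iv D29774)) (tt N12024 F138710) (tt N11842 F138711))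
theorem Q13849 : ∀ i, i < 13849 → P i := stepQ 13848 Q13848 (allL N13848 (tt N12772 F138712) (tt N15777 (iv F147563)) (tt N15876 (iv F147997)) (tt N15531 (iv F146279)) (tt N11835 (iv D29775)) (tt N12764 F138713) (tt N15838 (iv F147836)) (tt N15879 D31806) (tt N15880 D31807) (tt N11843 F138714))
theorem Q13850 : ∀ i, i < 13850 → P i := stepQ 13849 Q13849 (allL N13849 (tt N12773 F138715) (tt N15778 (iv F147566)) (tt N15877 (iv F148002)) (tt N11837 F138716) (tt N15879 (iv F148012)) (tt N11836 F138717) (tt N15881 D31808) (tt N11835 (iv D29776)) (tt N15882 D31809) (tt N11844 F138718))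
theorem Q13851 : ∀ i, i < 13851 → P i := stepQ 13850 Q13850 (allL N13850 (tt N12774 F138719) (tt N15779 (iv F147570)) (tt N15878 (iv F148008)) (tt N11838 F138720) (tt N15880 (iv F148016)) (tt N12027 F138721) (tt N15840 (iv F147845)) (tt N15882 (iv F148024)) (tt N11835 (iv D29777)) (tt N15883 D31810))
theorem Q13852 : ∀ i, i < 13852 → P i := stepQ 13851 Q13851 (allL N13851 (tt N12775 F138722) (tt N15780 (iv F147573)) (tt N11917 F138723) (tt N15881 (iv F148018)) (tt N15534 (iv F146291)) (tt N12339 F138724) (tt N11837 (iv D29778)) (tt N15841 (iv F147849)) (tt N15884 D31811) (tt N11846 F138725))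
theorem Q13853 : ∀ i, i < 13853 → P i := stepQ 13852 Q13852 (allL N13852 (tt N12776 F138726) (tt N15781 (iv F147577)) (tt N11918 F138727) (tt N15882 (iv F148022)) (tt N15535 (iv F146295)) (tt N12029 F138728) (tt N15884 (iv F148031)) (tt N11838 F138729) (tt N11837 (iv D29779)) (tt N15885 D31812))
theorem Q13854 : ∀ i, i < 13854 → P i := stepQ 13853 Q13853 (allL N13853 (tt N12777 F138730) (tt N15782 (iv F147582)) (tt N11919 F138731) (tt N15883 (iv F148026)) (tt N15536 (iv F146300)) (tt N12030 F138732) (tt N15843 (iv F147858)) (tt N15885 (iv F148035)) (tt N11848 F138733) (tt N11838 (iv D29780)))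
theorem Q13855 : ∀ i, i < 13855 → P i := stepQ 13854 Q13854 (allL N13854 (tt N11840 F138734) (tt N12177 F138735) (tt N15783 (iv F147587)) (tt N11872 F138736) (tt N11866 F138737) (tt N15886 D31813) (tt N11839 (iv D29781)) (tt N15813 (iv F147723)) (tt N11856 F138738) (tt N11863 F138739))
theorem Q13856 : ∀ i, i < 13856 → P i := stepQ 13855 Q13855 (allL N13855 (tt N15886 (iv F148037)) (tt N11841 F138740) (tt N15784 (iv F147593)) (tt N11920 F138741) (tt N15887 D31814) (tt N11840 (iv D29782)) (tt N15845 (iv F147867)) (tt N15888 D31815) (tt N15889 D31816) (tt N12797 F138742))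
theorem Q13857 : ∀ i, i < 13857 → P i := stepQ 13856 Q13856 (allL N13856 (tt N15813 (iv F147718)) (tt N11842 F138743) (tt N15785 (iv F147597)) (tt N11921 F138744) (tt N12798 F138745) (tt N15888 (iv F148046)) (tt N15744 (iv F147405)) (tt N11840 (iv D29783)) (tt N11858 F138746) (tt N12796 F138747))
theorem Q13858 : ∀ i, i < 13858 → P i := stepQ 13857 Q13857 (allL N13857 (tt N12780 F138748) (tt N15887 (iv F148041)) (tt N11843 F138749) (tt N15890 D31817) (tt N11841 (iv D29784)) (tt N15339 (iv F145150)) (tt N15847 (iv F147875)) (tt N15891 D31818) (tt N15892 D31819) (tt N15876 (iv F147999)))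
theorem Q13859 : ∀ i, i < 13859 → P i := stepQ 13858 Q13858 (allL N13858 (tt N12781 F138750) (tt N15888 (iv F148044)) (tt N11844 F138751) (tt N11923 F138752) (tt N15891 (iv F148055)) (tt N11842 F138753) (tt N15893 D31820) (tt N11841 (iv D29785)) (tt N15894 D31821) (tt N15877 (iv F148005)))
theorem Q13860 : ∀ i, i < 13860 → P i := stepQ 13859 Q13859 (allL N13859 (tt N12782 F138754) (tt N15889 (iv F148048)) (tt N11845 F138755) (tt N11924 F138756) (tt N15892 (iv F148058)) (tt N11861 F138757) (tt N15849 (iv F147884)) (tt N15894 (iv F148066)) (tt N11841 (iv D29786)) (tt N15895 D31822))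
theorem Q13861 : ∀ i, i < 13861 → P i := stepQ 13860 Q13860 (allL N13860 (tt N12783 F138758) (tt N15789 (iv F147609)) (tt N15891 (iv F148054)) (tt N15543 (iv F146328)) (tt N11844 F138759) (tt N15342 (iv F145166)) (tt N15896 D31823) (tt N11843 (iv D29787)) (tt N15897 D31824) (tt N15879 (iv F148014)))
theorem Q13862 : ∀ i, i < 13862 → P i := stepQ 13861 Q13861 (allL N13861 (tt N12784 F138760) (tt N15790 (iv F147611)) (tt N15892 (iv F148057)) (tt N15544 (iv F146331)) (tt N11845 F138761) (tt N15898 D31825) (tt N15851 (iv F147889)) (tt N15897 (iv F148075)) (tt N11843 (iv D29788)) (tt N15899 D31826))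
theorem Q13863 : ∀ i, i < 13863 → P i := stepQ 13862 Q13862 (allL N13862 (tt N12785 F138762) (tt N15791 (iv F147613)) (tt N15893 (iv F148060)) (tt N11846 F138763) (tt N15896 (iv F148072)) (tt N15871 (iv F147975)) (tt N11844 (iv D29789)) (tt N15852 (iv F147892)) (tt N15900 D31827) (tt N15881 (iv F148020)))
theorem Q13864 : ∀ i, i < 13864 → P i := stepQ 13863 Q13863 (allL N13863 (tt N12786 F138764) (tt N15792 (iv F147615)) (tt N15894 (iv F148063)) (tt N11847 F138765) (tt N15897 (iv F148074)) (tt N11865 F138766) (tt N15900 (iv F148082)) (tt N11845 F138767) (tt N11844 (iv D29790)) (tt N15901 D31828))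
theorem Q13865 : ∀ i, i < 13865 → P i := stepQ 13864 Q13864 (allL N13864 (tt N12787 F138768) (tt N15793 (iv F147620)) (tt N15895 (iv F148068)) (tt N11848 F138769) (tt N15899 (iv F148079)) (tt N11866 F138770) (tt N15854 (iv F147900)) (tt N15901 (iv F148086)) (tt N15883 (iv F148028)) (tt N11845 (iv D29791)))
theorem Q13866 : ∀ i, i < 13866 → P i := stepQ 13865 Q13865 (allL N13865 (tt N12788 F138771) (tt N15794 (iv F147623)) (tt N11930 F138772) (tt N15900 (iv F148081)) (tt N15548 (iv F146344)) (tt N15902 D31829) (tt N11847 F138773) (tt N15855 (iv F147904)) (tt N11846 (iv D29792)) (tt N15903 D31830))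
theorem Q13867 : ∀ i, i < 13867 → P i := stepQ 13866 Q13866 (allL N13866 (tt N12789 F138774) (tt N15795 (iv F147627)) (tt N11931 F138775) (tt N15901 (iv F148084)) (tt N15549 (iv F146348)) (tt N11868 F138776) (tt N15903 (iv F148092)) (tt N11848 F138777) (tt N15885 (iv F148036)) (tt N11847 (iv D29793)))
theorem Q13868 : ∀ i, i < 13868 → P i := stepQ 13867 Q13867 (allL N13867 (tt N12312 F138778) (tt N15796 (iv F147631)) (tt N12293 F138779) (tt N13867 F138780) (tt N11851 F138781) (tt N12917 F138782) (tt N15904 D31831) (tt N11850 (iv D29794)) (tt N15905 D31832) (tt N12040 F138783))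
theorem Q13869 : ∀ i, i < 13869 → P i := stepQ 13868 Q13868 (allL N13868 (tt N12306 F138784) (tt N15797 (iv F147636)) (tt N12289 F138785) (tt N13868 F138786) (tt N11852 F138787) (tt N15906 D31833) (tt N12164 F138788) (tt N15905 (iv F148103)) (tt N11850 (iv D29795)) (tt N15713 (iv F147230)))
theorem Q13870 : ∀ i, i < 13870 → P i := stepQ 13869 Q13869 (allL N13869 (tt N12723 F138789) (tt N15798 (iv F147641)) (tt N12697 F138790) (tt N11853 F138791) (tt N15904 (iv F148096)) (tt N11864 F138792) (tt N11851 (iv D29796)) (tt N12165 F138793) (tt N15907 D31834) (tt N12041 F138794))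
theorem Q13871 : ∀ i, i < 13871 → P i := stepQ 13870 Q13870 (allL N13870 (tt N12717 F138795) (tt N15799 (iv F147646)) (tt N12695 F138796) (tt N11854 F138797) (tt N15905 (iv F148102)) (tt N15872 (iv F147980)) (tt N15907 (iv F148111)) (tt N11852 F138798) (tt N11851 (iv D29797)) (tt N15908 D31835))
theorem Q13872 : ∀ i, i < 13872 → P i := stepQ 13871 Q13871 (allL N13871 (tt N12710 F138799) (tt N15800 (iv F147649)) (tt N12691 F138800) (tt N11855 F138801) (tt N15713 (iv F147228)) (tt N15873 (iv F147985)) (tt N12167 F138802) (tt N15908 (iv F148116)) (tt N12043 F138803) (tt N11852 (iv D29798)))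
theorem Q13873 : ∀ i, i < 13873 → P i := stepQ 13872 Q13872 (allL N13872 (tt N12790 F138804) (tt N15801 (iv F147654)) (tt N11932 F138805) (tt N15907 (iv F148110)) (tt N13872 F138806) (tt N15909 D31836) (tt N11854 F138807) (tt N12168 F138808) (tt N11853 (iv D29799)) (tt N15910 D31837))
theorem Q13874 : ∀ i, i < 13874 → P i := stepQ 13873 Q13873 (allL N13873 (tt N12791 F138809) (tt N15802 (iv F147659)) (tt N11933 F138810) (tt N15908 (iv F148115)) (tt N13873 F138811) (tt N15875 (iv F147992)) (tt N15910 (iv F148125)) (tt N11855 F138812) (tt N12045 F138813) (tt N11854 (iv D29800)))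
theorem Q13875 : ∀ i, i < 13875 → P i := stepQ 13874 Q13874 (allL N13874 (tt N11857 F138814) (tt N12165 F138815) (tt N15733 (iv F147334)) (tt N11934 F138816) (tt N15911 D31838) (tt N11856 (iv D29801)) (tt N12124 F138817) (tt N15798 (iv F147644)) (tt N15912 D31839) (tt N12046 F138818))
theorem Q13876 : ∀ i, i < 13876 → P i := stepQ 13875 Q13875 (allL N13875 (tt N15911 (iv F148128)) (tt N11859 F138819) (tt N15804 (iv F147672)) (tt N13875 F138820) (tt N11857 (iv D29802)) (tt N12930 F138821) (tt N12169 F138822) (tt N15913 D31840) (tt N15914 D31841) (tt N12047 F138823))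
theorem Q13877 : ∀ i, i < 13877 → P i := stepQ 13876 Q13876 (allL N13876 (tt N15798 (iv F147640)) (tt N11860 F138824) (tt N15805 (iv F147678)) (tt N11935 F138825) (tt N15913 (iv F148141)) (tt N11858 F138826) (tt N15737 (iv F147363)) (tt N11857 (iv D29803)) (tt N15915 D31842) (tt N12048 F138827))
theorem Q13878 : ∀ i, i < 13878 → P i := stepQ 13877 Q13877 (allL N13877 (tt N15912 (iv F148135)) (tt N11861 F138828) (tt N15806 (iv F147683)) (tt N11936 F138829) (tt N15914 (iv F148146)) (tt N15889 (iv F148050)) (tt N12170 F138830) (tt N15915 (iv F148150)) (tt N11857 (iv D29804)) (tt N15916 D31843))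
theorem Q13879 : ∀ i, i < 13879 → P i := stepQ 13878 Q13878 (allL N13878 (tt N12792 F138831) (tt N15913 (iv F148139)) (tt N11862 F138832) (tt N13878 F138833) (tt N11860 F138834) (tt N15349 (iv F145196)) (tt N15917 D31844) (tt N11859 (iv D29805)) (tt N15918 D31845) (tt N12050 F138835))
theorem Q13880 : ∀ i, i < 13880 → P i := stepQ 13879 Q13879 (allL N13879 (tt N12793 F138836) (tt N15914 (iv F148144)) (tt N11863 F138837) (tt N13879 F138838) (tt N11861 F138839) (tt N15919 D31846) (tt N12172 F138840) (tt N15918 (iv F148165)) (tt N11859 (iv D29806)) (tt N15783 (iv F147591)))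
theorem Q13881 : ∀ i, i < 13881 → P i := stepQ 13880 Q13880 (allL N13880 (tt N12724 F138841) (tt N15737 (iv F147360)) (tt N11864 F138842) (tt N11937 F138843) (tt N15917 (iv F148158)) (tt N12697 F138844) (tt N11860 (iv D29807)) (tt N12173 F138845) (tt N15920 D31847) (tt N12051 F138846))
theorem Q13882 : ∀ i, i < 13882 → P i := stepQ 13881 Q13881 (allL N13881 (tt N12794 F138847) (tt N15915 (iv F148148)) (tt N11865 F138848) (tt N11938 F138849) (tt N15918 (iv F148164)) (tt N15894 (iv F148065)) (tt N15920 (iv F148172)) (tt N11861 F138850) (tt N11860 (iv D29808)) (tt N15921 D31848))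
theorem Q13883 : ∀ i, i < 13883 → P i := stepQ 13882 Q13882 (allL N13882 (tt N12795 F138851) (tt N15916 (iv F148151)) (tt N11866 F138852) (tt N11939 F138853) (tt N15783 (iv F147589)) (tt N15895 (iv F148070)) (tt N12175 F138854) (tt N15921 (iv F148177)) (tt N12053 F138855) (tt N11861 (iv D29809)))
theorem Q13884 : ∀ i, i < 13884 → P i := stepQ 13883 Q13883 (allL N13883 (tt N12343 F138856) (tt N12054 F138857) (tt N15917 (iv F148156)) (tt N11869 F138858) (tt N11864 F138859) (tt N15922 D31849) (tt N11862 (iv D29810)) (tt N12022 F138860) (tt N15814 (iv F147731)) (tt N12021 F138861))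
theorem Q13885 : ∀ i, i < 13885 → P i := stepQ 13884 Q13884 (allL N13884 (tt N12796 F138862) (tt N15811 (iv F147708)) (tt N15918 (iv F148162)) (tt N11870 F138863) (tt N11865 F138864) (tt N15923 D31850) (tt N15814 (iv F147729)) (tt N11863 F138865) (tt N11862 (iv D29811)) (tt N15813 (iv F147724)))
theorem Q13886 : ∀ i, i < 13886 → P i := stepQ 13885 Q13885 (allL N13885 (tt N12797 F138866) (tt N15812 (iv F147715)) (tt N15919 (iv F148167)) (tt N11871 F138867) (tt N15898 (iv F148077)) (tt N11863 (iv D29812)) (tt N15924 D31851) (tt N15923 (iv F148186)) (tt N15355 (iv F145229)) (tt N15886 (iv F148040)))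
theorem Q13887 : ∀ i, i < 13887 → P i := stepQ 13886 Q13886 (allL N13886 (tt N12779 F138868) (tt N15813 (iv F147719)) (tt N15920 (iv F148170)) (tt N11867 F138869) (tt N15814 (iv F147728)) (tt N15925 D31852) (tt N11865 F138870) (tt N12177 F138871) (tt N11864 (iv D29813)) (tt N15811 (iv F147713)))
theorem Q13888 : ∀ i, i < 13888 → P i := stepQ 13887 Q13887 (allL N13887 (tt N12798 F138872) (tt N15814 (iv F147726)) (tt N15921 (iv F148175)) (tt N11868 F138873) (tt N15813 (iv F147721)) (tt N15901 (iv F148085)) (tt N15811 (iv F147711)) (tt N11866 F138874) (tt N12054 F138875) (tt N11865 (iv D29814)))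
theorem Q13889 : ∀ i, i < 13889 → P i := stepQ 13888 Q13888 (allL N13888 (tt N12799 F138876) (tt N15815 (iv F147733)) (tt N11942 F138877) (tt N15925 (iv F148191)) (tt N15926 D31853) (tt N11867 (iv D29815)) (tt N15902 (iv F148089)) (tt N12178 F138878) (tt N15909 (iv F148121)) (tt N15816 (iv F147741)))
theorem Q13890 : ∀ i, i < 13890 → P i := stepQ 13889 Q13889 (allL N13889 (tt N12383 F138879) (tt N12039 F138880) (tt N13889 F138881) (tt N15922 (iv F148181)) (tt N13889 F138882) (tt N11869 (iv D29816)) (tt N15361 (iv F145259)) (tt N12005 F138883) (tt N15927 D31854) (tt N12004 F138884))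
theorem Q13891 : ∀ i, i < 13891 → P i := stepQ 13890 Q13890 (allL N13890 (tt N12801 F138885) (tt N15816 (iv F147738)) (tt N13890 F138886) (tt N15923 (iv F148185)) (tt N15574 (iv F146479)) (tt N11870 (iv D29817)) (tt N15928 D31855) (tt N11871 F138887) (tt N15363 (iv F145270)) (tt N15815 (iv F147736)))
theorem Q13892 : ∀ i, i < 13892 → P i := stepQ 13891 Q13891 (allL N13891 (tt N12802 F138888) (tt N15817 (iv F147743)) (tt N13891 F138889) (tt N15924 (iv F148188)) (tt N15576 (iv F146489)) (tt N12179 F138890) (tt N11871 (iv D29818)) (tt N15929 D31856) (tt N15365 (iv F145279)) (tt N15930 D31857))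
theorem Q13893 : ∀ i, i < 13893 → P i := stepQ 13892 Q13892 (allL N13892 (tt N11920 F138891) (tt N12178 F138892) (tt N13892 F138893) (tt N15886 (iv F148039)) (tt N15577 (iv F146494)) (tt N11872 F138894) (tt N15930 (iv F148212)) (tt N15815 (iv F147735)) (tt N15931 D31858) (tt N11871 (iv D29819)))
theorem Q13894 : ∀ i, i < 13894 → P i := stepQ 13893 Q13893 (allL N13893 (tt N12803 F138895) (tt N15575 (iv F146482)) (tt N11944 F138896) (tt N15932 D31859) (tt N11873 (iv D29820)) (tt N15926 (iv F148195)) (tt N15578 (iv F146498)) (tt N12180 F138897) (tt N13893 F138898) (tt N15474 F145957))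
theorem Q13895 : ∀ i, i < 13895 → P i := stepQ 13894 Q13894 (allL N13894 (tt N12199 F138899) (tt N11874 (iv D29821)) (tt N13894 F138900) (tt N15283 (iv F144815)) (tt N13894 F138901) (tt N11899 F138902) (tt N15427 (iv F145667)) (tt N12127 F138903) (tt N12210 F138904) (tt N12126 F138905))
theorem Q13896 : ∀ i, i < 13896 → P i := stepQ 13895 Q13895 (allL N13895 (tt N12805 F138906) (tt N15427 (iv F145664)) (tt N11875 F138907) (tt N15284 (iv F144823)) (tt N13895 F138908) (tt N15933 D31860) (tt N11874 (iv D29822)) (tt N15910 (iv F148126)) (tt N12211 F138909) (tt N12168 F138910))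
theorem Q13897 : ∀ i, i < 13897 → P i := stepQ 13896 Q13896 (allL N13896 (tt N12806 F138911) (tt N13896 F138912) (tt N15933 (iv F148223)) (tt N11876 F138913) (tt N15624 (iv F146758)) (tt N11875 (iv D29823)) (tt N11901 F138914) (tt N15934 D31861) (tt N15622 F146749) (tt N12198 F138915))
theorem Q13898 : ∀ i, i < 13898 → P i := stepQ 13897 Q13897 (allL N13897 (tt N12807 F138916) (tt N13897 F138917) (tt N15910 (iv F148123)) (tt N11877 F138918) (tt N13897 F138919) (tt N15934 (iv F148229)) (tt N11933 F138920) (tt N11875 (iv D29824)) (tt N12075 F138921) (tt N11932 F138922))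
theorem Q13899 : ∀ i, i < 13899 → P i := stepQ 13898 Q13898 (allL N13898 (tt N12808 F138923) (tt N13898 F138924) (tt N15287 (iv F144841)) (tt N15934 (iv F148228)) (tt N11882 F138925) (tt N11877 F138926) (tt N15935 D31862) (tt N11876 (iv D29825)) (tt N15936 D31863) (tt N12263 F138927))
theorem Q13900 : ∀ i, i < 13900 → P i := stepQ 13899 Q13899 (allL N13899 (tt N12809 F138928) (tt N13899 F138929) (tt N15288 (iv F144847)) (tt N15622 (iv F146745)) (tt N11883 F138930) (tt N12278 F138931) (tt N11904 F138932) (tt N15936 (iv F148241)) (tt N11876 (iv D29826)) (tt N15615 (iv F146705)))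
theorem Q13901 : ∀ i, i < 13901 → P i := stepQ 13900 Q13900 (allL N13900 (tt N12111 F138933) (tt N11879 F138934) (tt N13900 F138935) (tt N15828 (iv F147786)) (tt N13900 F138936) (tt N15711 (iv F147214)) (tt N11878 (iv D29827)) (tt N15937 D31864) (tt N12086 F138937) (tt N12362 F138938))
theorem Q13902 : ∀ i, i < 13902 → P i := stepQ 13901 Q13901 (allL N13901 (tt N12703 F138939) (tt N15711 (iv F147211)) (tt N11880 F138940) (tt N15829 (iv F147791)) (tt N15517 (iv F146209)) (tt N11879 (iv D29828)) (tt N11905 F138941) (tt N15938 D31865) (tt N12241 F138942) (tt N12363 F138943))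
theorem Q13903 : ∀ i, i < 13903 → P i := stepQ 13902 Q13902 (allL N13902 (tt N12810 F138944) (tt N15937 (iv F148243)) (tt N11881 F138945) (tt N15830 (iv F147797)) (tt N13902 F138946) (tt N15938 (iv F148251)) (tt N11892 F138947) (tt N11879 (iv D29829)) (tt N12181 F138948) (tt N12364 F138949))
theorem Q13904 : ∀ i, i < 13904 → P i := stepQ 13903 Q13903 (allL N13903 (tt N12811 F138950) (tt N13903 F138951) (tt N15938 (iv F148250)) (tt N11882 F138952) (tt N15626 (iv F146770)) (tt N11881 F138953) (tt N15939 D31866) (tt N11880 (iv D29830)) (tt N12264 F138954) (tt N12366 F138955))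
theorem Q13905 : ∀ i, i < 13905 → P i := stepQ 13904 Q13904 (allL N13904 (tt N12812 F138956) (tt N13904 F138957) (tt N15834 (iv F147814)) (tt N15939 (iv F148256)) (tt N15935 (iv F148233)) (tt N11896 F138958) (tt N11882 (iv D29831)) (tt N11909 F138959) (tt N15940 D31867) (tt N12368 F138960))
theorem Q13906 : ∀ i, i < 13906 → P i := stepQ 13905 Q13905 (allL N13905 (tt N12813 F138961) (tt N13905 F138962) (tt N15835 (iv F147819)) (tt N12264 F138963) (tt N15936 (iv F148239)) (tt N12182 F138964) (tt N15940 (iv F148264)) (tt N11883 F138965) (tt N11882 (iv D29832)) (tt N15616 (iv F146711)))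
theorem Q13907 : ∀ i, i < 13907 → P i := stepQ 13906 Q13906 (allL N13906 (tt N12815 F138966) (tt N12802 F138967) (tt N11885 F138968) (tt N15836 (iv F147825)) (tt N15941 D31868) (tt N11884 (iv D29833)) (tt N11912 F138969) (tt N15942 D31869) (tt N15943 D31870) (tt N11891 F138970))
theorem Q13908 : ∀ i, i < 13908 → P i := stepQ 13907 Q13907 (allL N13907 (tt N12816 F138971) (tt N12985 F138972) (tt N11886 F138973) (tt N15837 (iv F147831)) (tt N13907 F138974) (tt N15942 (iv F148276)) (tt N12364 F138975) (tt N11884 (iv D29834)) (tt N13907 F138976) (tt N11892 F138977))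
theorem Q13909 : ∀ i, i < 13909 → P i := stepQ 13908 Q13908 (allL N13908 (tt N12817 F138978) (tt N13908 F138979) (tt N15941 (iv F148269)) (tt N15592 (iv F146578)) (tt N11885 (iv D29835)) (tt N13908 F138980) (tt N11914 F138981) (tt N15944 D31871) (tt N15945 D31872) (tt N11893 F138982))
theorem Q13910 : ∀ i, i < 13910 → P i := stepQ 13909 Q13909 (allL N13909 (tt N12818 F138983) (tt N13909 F138984) (tt N15942 (iv F148275)) (tt N11887 F138985) (tt N15944 (iv F148285)) (tt N11886 F138986) (tt N15946 D31873) (tt N11885 (iv D29836)) (tt N15947 D31874) (tt N11894 F138987))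
theorem Q13911 : ∀ i, i < 13911 → P i := stepQ 13910 Q13910 (allL N13910 (tt N12819 F138988) (tt N13910 F138989) (tt N15943 (iv F148280)) (tt N11888 F138990) (tt N15945 (iv F148291)) (tt N13910 F138991) (tt N11916 F138992) (tt N15947 (iv F148305)) (tt N11885 (iv D29837)) (tt N15948 D31875))
theorem Q13912 : ∀ i, i < 13912 → P i := stepQ 13911 Q13911 (allL N13911 (tt N12820 F138993) (tt N13911 F138994) (tt N15841 (iv F147847)) (tt N15946 (iv F148297)) (tt N15595 (iv F146597)) (tt N12368 F138995) (tt N11887 (iv D29838)) (tt N11917 F138996) (tt N15949 D31876) (tt N11896 F138997))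
theorem Q13913 : ∀ i, i < 13913 → P i := stepQ 13912 Q13912 (allL N13912 (tt N12821 F138998) (tt N13912 F138999) (tt N15842 (iv F147852)) (tt N15947 (iv F148303)) (tt N15596 (iv F146603)) (tt N13912 F139000) (tt N15949 (iv F148315)) (tt N11888 F139001) (tt N11887 (iv D29839)) (tt N15950 D31877))
theorem Q13914 : ∀ i, i < 13914 → P i := stepQ 13913 Q13913 (allL N13913 (tt N12822 F139002) (tt N13913 F139003) (tt N15843 (iv F147856)) (tt N15948 (iv F148308)) (tt N15597 (iv F146609)) (tt N13913 F139004) (tt N11919 F139005) (tt N15950 (iv F148320)) (tt N11898 F139006) (tt N11888 (iv D29840)))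
theorem Q13915 : ∀ i, i < 13915 → P i := stepQ 13914 Q13914 (allL N13914 (tt N11890 F139007) (tt N12163 F139008) (tt N13914 F139009) (tt N15844 (iv F147862)) (tt N13914 F139010) (tt N15930 (iv F148211)) (tt N11889 (iv D29841)) (tt N15951 D31878) (tt N12121 F139011) (tt N12179 F139012))
theorem Q13916 : ∀ i, i < 13916 → P i := stepQ 13915 Q13915 (allL N13915 (tt N15930 (iv F148208)) (tt N11891 F139013) (tt N13915 F139014) (tt N15845 (iv F147866)) (tt N15952 D31879) (tt N11890 (iv D29842)) (tt N11920 F139015) (tt N15953 D31880) (tt N15954 D31881) (tt N12802 F139016))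
theorem Q13917 : ∀ i, i < 13917 → P i := stepQ 13916 Q13916 (allL N13916 (tt N15951 (iv F148322)) (tt N11892 F139017) (tt N13916 F139018) (tt N15846 (iv F147870)) (tt N13916 F139019) (tt N15953 (iv F148336)) (tt N15937 (iv F148246)) (tt N11890 (iv D29843)) (tt N12184 F139020) (tt N12985 F139021))
theorem Q13918 : ∀ i, i < 13918 → P i := stepQ 13917 Q13917 (allL N13917 (tt N12825 F139022) (tt N15952 (iv F148329)) (tt N11893 F139023) (tt N15955 D31882) (tt N11891 (iv D29844)) (tt N13917 F139024) (tt N11922 F139025) (tt N15956 D31883) (tt N15957 D31884) (tt N15941 (iv F148272)))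
theorem Q13919 : ∀ i, i < 13919 → P i := stepQ 13918 Q13918 (allL N13918 (tt N12826 F139026) (tt N15953 (iv F148334)) (tt N11894 F139027) (tt N15848 (iv F147878)) (tt N15956 (iv F148348)) (tt N11892 F139028) (tt N15958 D31885) (tt N11891 (iv D29845)) (tt N15959 D31886) (tt N15942 (iv F148277)))
theorem Q13920 : ∀ i, i < 13920 → P i := stepQ 13919 Q13919 (allL N13919 (tt N12827 F139029) (tt N15954 (iv F148339)) (tt N11895 F139030) (tt N15849 (iv F147882)) (tt N15957 (iv F148352)) (tt N12186 F139031) (tt N11924 F139032) (tt N15959 (iv F148360)) (tt N11891 (iv D29846)) (tt N15960 D31887))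
theorem Q13921 : ∀ i, i < 13921 → P i := stepQ 13920 Q13920 (allL N13920 (tt N12828 F139033) (tt N13920 F139034) (tt N15956 (iv F148347)) (tt N15604 (iv F146638)) (tt N11894 F139035) (tt N13920 F139036) (tt N15961 D31888) (tt N11893 (iv D29847)) (tt N15962 D31889) (tt N15944 (iv F148287)))
theorem Q13922 : ∀ i, i < 13922 → P i := stepQ 13921 Q13921 (allL N13921 (tt N12829 F139037) (tt N13921 F139038) (tt N15957 (iv F148351)) (tt N15605 (iv F146643)) (tt N11895 F139039) (tt N15963 D31890) (tt N11926 F139040) (tt N15962 (iv F148372)) (tt N11893 (iv D29848)) (tt N15964 D31891))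
theorem Q13923 : ∀ i, i < 13923 → P i := stepQ 13922 Q13922 (allL N13922 (tt N12830 F139041) (tt N13922 F139042) (tt N15958 (iv F148355)) (tt N11896 F139043) (tt N15961 (iv F148367)) (tt N15939 (iv F148257)) (tt N11894 (iv D29849)) (tt N11927 F139044) (tt N15965 D31892) (tt N15946 (iv F148300)))
theorem Q13924 : ∀ i, i < 13924 → P i := stepQ 13923 Q13923 (allL N13923 (tt N12831 F139045) (tt N13923 F139046) (tt N15959 (iv F148358)) (tt N11897 F139047) (tt N15962 (iv F148371)) (tt N12188 F139048) (tt N15965 (iv F148393)) (tt N11895 F139049) (tt N11894 (iv D29850)) (tt N15966 D31893))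
theorem Q13925 : ∀ i, i < 13925 → P i := stepQ 13924 Q13924 (allL N13924 (tt N12832 F139050) (tt N13924 F139051) (tt N15960 (iv F148362)) (tt N11898 F139052) (tt N15964 (iv F148385)) (tt N12189 F139053) (tt N11929 F139054) (tt N15966 (iv F148399)) (tt N15948 (iv F148312)) (tt N11895 (iv D29851)))
theorem Q13926 : ∀ i, i < 13926 → P i := stepQ 13925 Q13925 (allL N13925 (tt N12833 F139055) (tt N13925 F139056) (tt N15855 (iv F147902)) (tt N15965 (iv F148391)) (tt N15609 (iv F146666)) (tt N15967 D31894) (tt N11897 F139057) (tt N11930 F139058) (tt N11896 (iv D29852)) (tt N15968 D31895))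
theorem Q13927 : ∀ i, i < 13927 → P i := stepQ 13926 Q13926 (allL N13926 (tt N12834 F139059) (tt N13926 F139060) (tt N15856 (iv F147906)) (tt N15966 (iv F148397)) (tt N15610 (iv F146671)) (tt N12191 F139061) (tt N15968 (iv F148408)) (tt N11898 F139062) (tt N15950 (iv F148321)) (tt N11897 (iv D29853)))
theorem Q13928 : ∀ i, i < 13928 → P i := stepQ 13927 Q13927 (allL N13927 (tt N11899 (iv D29854)) (tt N12194 F139063) (tt N13927 F139064) (tt N15857 (iv F147910)) (tt N11946 F139065) (tt N12199 F139066) (tt N15969 D31896) (tt N15611 (iv F146678)) (tt N13927 F139067) (tt N12192 F139068))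
theorem Q13929 : ∀ i, i < 13929 → P i := stepQ 13928 Q13928 (allL N13928 (tt N15969 (iv F148410)) (tt N11900 F139069) (tt N13928 F139070) (tt N15858 (iv F147916)) (tt N11947 F139071) (tt N15970 D31897) (tt N11899 (iv D29855)) (tt N15971 D31898) (tt N13928 F139072) (tt N12265 F139073))
theorem Q13930 : ∀ i, i < 13930 → P i := stepQ 13929 Q13929 (allL N13929 (tt N12836 F139074) (tt N15970 (iv F148416)) (tt N11901 F139075) (tt N15859 (iv F147922)) (tt N15972 D31899) (tt N11900 (iv D29856)) (tt N15933 (iv F148224)) (tt N15973 D31900) (tt N15974 D31901) (tt N12266 F139076))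
theorem Q13931 : ∀ i, i < 13931 → P i := stepQ 13930 Q13930 (allL N13930 (tt N12837 F139077) (tt N15971 (iv F148419)) (tt N11902 F139078) (tt N15860 (iv F147926)) (tt N11949 F139079) (tt N15973 (iv F148431)) (tt N15614 (iv F146696)) (tt N11900 (iv D29857)) (tt N13930 F139080) (tt N12267 F139081))
theorem Q13932 : ∀ i, i < 13932 → P i := stepQ 13931 Q13931 (allL N13931 (tt N12838 F139082) (tt N13931 F139083) (tt N15972 (iv F148425)) (tt N11907 F139084) (tt N11901 (iv D29858)) (tt N11950 F139085) (tt N15624 (iv F146760)) (tt N15975 D31902) (tt N12997 (iv F139087)) (tt N12268 F139086))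
theorem Q13933 : ∀ i, i < 13933 → P i := stepQ 13932 Q13932 (allL N13932 (tt N12839 F139088) (tt N13932 F139089) (tt N15973 (iv F148430)) (tt N11903 F139090) (tt N15975 (iv F148440)) (tt N11902 F139091) (tt N15976 D31903) (tt N11901 (iv D29859)) (tt N15977 D31904) (tt N12269 F139092))
theorem Q13934 : ∀ i, i < 13934 → P i := stepQ 13933 Q13933 (allL N13933 (tt N12840 F139093) (tt N13933 F139094) (tt N15974 (iv F148434)) (tt N11904 F139095) (tt N12997 F139096) (tt N13933 F139097) (tt N15622 (iv F146747)) (tt N15977 (iv F148453)) (tt N11901 (iv D29860)) (tt N15583 (iv F146528)))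
theorem Q13935 : ∀ i, i < 13935 → P i := stepQ 13934 Q13934 (allL N13934 (tt N12841 F139098) (tt N13934 F139099) (tt N15864 (iv F147942)) (tt N15976 (iv F148446)) (tt N11909 F139100) (tt N15617 (iv F146715)) (tt N11903 (iv D29861)) (tt N15935 (iv F148235)) (tt N15978 D31905) (tt N12270 F139101))
theorem Q13936 : ∀ i, i < 13936 → P i := stepQ 13935 Q13935 (allL N13935 (tt N12842 F139102) (tt N13935 F139103) (tt N15865 (iv F147946)) (tt N15977 (iv F148450)) (tt N11910 F139104) (tt N13935 F139105) (tt N15978 (iv F148457)) (tt N11904 F139106) (tt N11903 (iv D29862)) (tt N15979 D31906))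
theorem Q13937 : ∀ i, i < 13937 → P i := stepQ 13936 Q13936 (allL N13936 (tt N12843 F139107) (tt N13936 F139108) (tt N15866 (iv F147951)) (tt N15583 (iv F146525)) (tt N11911 F139109) (tt N13936 F139110) (tt N15615 (iv F146703)) (tt N15979 (iv F148462)) (tt N12272 F139111) (tt N11904 (iv D29863)))
theorem Q13938 : ∀ i, i < 13938 → P i := stepQ 13937 Q13937 (allL N13937 (tt N12478 F139112) (tt N15441 (iv F145757)) (tt N11907 F139113) (tt N15980 D31907) (tt N11905 (iv D29864)) (tt N11955 F139114) (tt N15517 (iv F146211)) (tt N15981 D31908) (tt N12451 F139115) (tt N12373 F139116))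
theorem Q13939 : ∀ i, i < 13939 → P i := stepQ 13938 Q13938 (allL N13938 (tt N12722 F139117) (tt N15732 (iv F147327)) (tt N11908 F139118) (tt N15868 (iv F147962)) (tt N15981 (iv F148470)) (tt N11906 F139119) (tt N15982 D31909) (tt N11905 (iv D29865)) (tt N12696 F139120) (tt N12374 F139121))
theorem Q13940 : ∀ i, i < 13940 → P i := stepQ 13939 Q13939 (allL N13939 (tt N12844 F139122) (tt N13939 F139123) (tt N15981 (iv F148469)) (tt N15975 (iv F148439)) (tt N11908 F139124) (tt N11957 F139125) (tt N15983 D31910) (tt N11907 (iv D29866)) (tt N12999 F139126) (tt N12376 F139127))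
theorem Q13941 : ∀ i, i < 13941 → P i := stepQ 13940 Q13940 (allL N13940 (tt N12845 F139128) (tt N13940 F139129) (tt N15982 (iv F148475)) (tt N11909 F139130) (tt N15983 (iv F148481)) (tt N11927 F139131) (tt N11908 (iv D29867)) (tt N15939 (iv F148258)) (tt N13197 F139132) (tt N12378 F139133))
theorem Q13942 : ∀ i, i < 13942 → P i := stepQ 13941 Q13941 (allL N13941 (tt N12846 F139134) (tt N13941 F139135) (tt N15874 (iv F147988)) (tt N13197 F139136) (tt N15978 (iv F148456)) (tt N15984 D31911) (tt N11910 F139137) (tt N15940 (iv F148265)) (tt N11909 (iv D29868)) (tt N15985 D31912))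
theorem Q13943 : ∀ i, i < 13943 → P i := stepQ 13942 Q13942 (allL N13942 (tt N12847 F139138) (tt N13942 F139139) (tt N15875 (iv F147991)) (tt N13196 F139140) (tt N15979 (iv F148460)) (tt N11933 F139141) (tt N15985 (iv F148493)) (tt N11911 F139142) (tt N12382 F139143) (tt N11910 (iv D29869)))
theorem Q13944 : ∀ i, i < 13944 → P i := stepQ 13943 Q13943 (allL N13943 (tt N12849 F139144) (tt N12558 F139145) (tt N11914 F139146) (tt N15986 D31913) (tt N11912 (iv D29870)) (tt N11960 F139147) (tt N15941 (iv F148271)) (tt N15987 D31914) (tt N15988 D31915) (tt N11922 F139148))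
theorem Q13945 : ∀ i, i < 13945 → P i := stepQ 13944 Q13944 (allL N13944 (tt N12850 F139149) (tt N12801 F139150) (tt N11915 F139151) (tt N15877 (iv F148003)) (tt N15987 (iv F148502)) (tt N11913 F139152) (tt N15989 D31916) (tt N11912 (iv D29871)) (tt N15990 D31917) (tt N11923 F139153))
theorem Q13946 : ∀ i, i < 13946 → P i := stepQ 13945 Q13945 (allL N13945 (tt N12851 F139154) (tt N12356 F139155) (tt N11916 F139156) (tt N15878 (iv F148009)) (tt N15988 (iv F148508)) (tt N12056 F139157) (tt N15943 (iv F148282)) (tt N15990 (iv F148519)) (tt N11912 (iv D29872)) (tt N15991 D31918))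
theorem Q13947 : ∀ i, i < 13947 → P i := stepQ 13946 Q13946 (allL N13946 (tt N12852 F139158) (tt N13946 F139159) (tt N15987 (iv F148501)) (tt N15639 (iv F146830)) (tt N11915 F139160) (tt N11962 F139161) (tt N15992 D31919) (tt N11914 (iv D29873)) (tt N15993 D31920) (tt N11925 F139162))
theorem Q13948 : ∀ i, i < 13948 → P i := stepQ 13947 Q13947 (allL N13947 (tt N12853 F139163) (tt N13947 F139164) (tt N15988 (iv F148507)) (tt N15640 (iv F146836)) (tt N11916 F139165) (tt N13119 F139166) (tt N15945 (iv F148292)) (tt N15993 (iv F148533)) (tt N11914 (iv D29874)) (tt N15994 D31921))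
theorem Q13949 : ∀ i, i < 13949 → P i := stepQ 13948 Q13948 (allL N13948 (tt N12854 F139167) (tt N13948 F139168) (tt N15989 (iv F148512)) (tt N11917 F139169) (tt N15992 (iv F148527)) (tt N12378 F139170) (tt N11915 (iv D29875)) (tt N15946 (iv F148299)) (tt N15995 D31922) (tt N11927 F139171))
theorem Q13950 : ∀ i, i < 13950 → P i := stepQ 13949 Q13949 (allL N13949 (tt N12855 F139172) (tt N13949 F139173) (tt N15990 (iv F148517)) (tt N11918 F139174) (tt N15993 (iv F148531)) (tt N12060 F139175) (tt N15995 (iv F148544)) (tt N11916 F139176) (tt N11915 (iv D29876)) (tt N15996 D31923))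
theorem Q13951 : ∀ i, i < 13951 → P i := stepQ 13950 Q13950 (allL N13950 (tt N12856 F139177) (tt N13950 F139178) (tt N15991 (iv F148522)) (tt N11919 F139179) (tt N15994 (iv F148537)) (tt N12061 F139180) (tt N15948 (iv F148311)) (tt N15996 (iv F148549)) (tt N11929 F139181) (tt N11916 (iv D29877)))
theorem Q13952 : ∀ i, i < 13952 → P i := stepQ 13951 Q13951 (allL N13951 (tt N12857 F139182) (tt N13951 F139183) (tt N15884 (iv F148030)) (tt N15995 (iv F148543)) (tt N15644 (iv F146859)) (tt N15997 D31924) (tt N11918 F139184) (tt N15949 (iv F148316)) (tt N11917 (iv D29878)) (tt N15998 D31925))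
theorem Q13953 : ∀ i, i < 13953 → P i := stepQ 13952 Q13952 (allL N13952 (tt N12858 F139185) (tt N13952 F139186) (tt N15885 (iv F148033)) (tt N15996 (iv F148547)) (tt N15645 (iv F146863)) (tt N12063 F139187) (tt N15998 (iv F148557)) (tt N11919 F139188) (tt N11931 F139189) (tt N11918 (iv D29879)))
theorem Q13954 : ∀ i, i < 13954 → P i := stepQ 13953 Q13953 (allL N13953 (tt N15577 (iv F146491)) (tt N11922 F139190) (tt N13953 F139191) (tt N15999 D31926) (tt N11920 (iv D29880)) (tt N11967 F139192) (tt N15952 (iv F148332)) (tt N16000 D31927) (tt N16001 D31928) (tt N12558 F139193))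
theorem Q13955 : ∀ i, i < 13955 → P i := stepQ 13954 Q13954 (allL N13954 (tt N15815 (iv F147732)) (tt N11923 F139194) (tt N13954 F139195) (tt N15888 (iv F148045)) (tt N16000 (iv F148564)) (tt N11921 F139196) (tt N16002 D31929) (tt N11920 (iv D29881)) (tt N16003 D31930) (tt N12801 F139197))
theorem Q13956 : ∀ i, i < 13956 → P i := stepQ 13955 Q13955 (allL N13955 (tt N15931 (iv F148214)) (tt N11924 F139198) (tt N13955 F139199) (tt N15889 (iv F148049)) (tt N16001 (iv F148569)) (tt N11936 F139200) (tt N15954 (iv F148342)) (tt N16003 (iv F148577)) (tt N11920 (iv D29882)) (tt N16004 D31931))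
theorem Q13957 : ∀ i, i < 13957 → P i := stepQ 13956 Q13956 (allL N13956 (tt N12861 F139201) (tt N15999 (iv F148559)) (tt N15651 (iv F146886)) (tt N11922 (iv D29883)) (tt N15890 (iv F148052)) (tt N11969 F139202) (tt N15955 (iv F148345)) (tt N16005 D31932) (tt N16006 D31933) (tt N15986 (iv F148498)))
theorem Q13958 : ∀ i, i < 13958 → P i := stepQ 13957 Q13957 (allL N13957 (tt N12862 F139203) (tt N16000 (iv F148562)) (tt N11925 F139204) (tt N16005 (iv F148583)) (tt N11923 F139205) (tt N11970 F139206) (tt N16007 D31934) (tt N11922 (iv D29884)) (tt N16008 D31935) (tt N15987 (iv F148504)))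
theorem Q13959 : ∀ i, i < 13959 → P i := stepQ 13958 Q13958 (allL N13958 (tt N12863 F139207) (tt N16001 (iv F148567)) (tt N11926 F139208) (tt N16006 (iv F148586)) (tt N11924 F139209) (tt N13958 F139210) (tt N15957 (iv F148353)) (tt N16008 (iv F148595)) (tt N11922 (iv D29885)) (tt N16009 D31936))
theorem Q13960 : ∀ i, i < 13960 → P i := stepQ 13959 Q13959 (allL N13959 (tt N12864 F139211) (tt N16002 (iv F148571)) (tt N11927 F139212) (tt N15893 (iv F148061)) (tt N16007 (iv F148590)) (tt N15982 (iv F148476)) (tt N11923 (iv D29886)) (tt N15958 (iv F148356)) (tt N16010 D31937) (tt N15989 (iv F148514)))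
theorem Q13961 : ∀ i, i < 13961 → P i := stepQ 13960 Q13960 (allL N13960 (tt N12865 F139213) (tt N16003 (iv F148574)) (tt N11928 F139214) (tt N15894 (iv F148064)) (tt N16008 (iv F148593)) (tt N11938 F139215) (tt N16010 (iv F148602)) (tt N11924 F139216) (tt N11923 (iv D29887)) (tt N16011 D31938))
theorem Q13962 : ∀ i, i < 13962 → P i := stepQ 13961 Q13961 (allL N13961 (tt N12866 F139217) (tt N16004 (iv F148578)) (tt N11929 F139218) (tt N15895 (iv F148069)) (tt N16009 (iv F148598)) (tt N11939 F139219) (tt N15960 (iv F148364)) (tt N16011 (iv F148606)) (tt N15991 (iv F148524)) (tt N11924 (iv D29888)))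
theorem Q13963 : ∀ i, i < 13963 → P i := stepQ 13962 Q13962 (allL N13962 (tt N12867 F139220) (tt N13962 F139221) (tt N16007 (iv F148589)) (tt N15657 (iv F146907)) (tt N11927 F139222) (tt N16012 D31939) (tt N11925 (iv D29889)) (tt N15961 (iv F148368)) (tt N16013 D31940) (tt N15992 (iv F148528)))
theorem Q13964 : ∀ i, i < 13964 → P i := stepQ 13963 Q13963 (allL N13963 (tt N12868 F139223) (tt N13963 F139224) (tt N16008 (iv F148592)) (tt N15658 (iv F146911)) (tt N11928 F139225) (tt N13963 F139226) (tt N16013 (iv F148613)) (tt N11926 F139227) (tt N11925 (iv D29890)) (tt N16014 D31941))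
theorem Q13965 : ∀ i, i < 13965 → P i := stepQ 13964 Q13964 (allL N13964 (tt N12869 F139228) (tt N13964 F139229) (tt N16009 (iv F148597)) (tt N15659 (iv F146917)) (tt N11929 F139230) (tt N13964 F139231) (tt N15964 (iv F148387)) (tt N16014 (iv F148618)) (tt N15994 (iv F148540)) (tt N11926 (iv D29891)))
theorem Q13966 : ∀ i, i < 13966 → P i := stepQ 13965 Q13965 (allL N13965 (tt N12870 F139232) (tt N13965 F139233) (tt N16010 (iv F148601)) (tt N11930 F139234) (tt N16013 (iv F148612)) (tt N16015 D31942) (tt N11928 F139235) (tt N15965 (iv F148394)) (tt N11927 (iv D29892)) (tt N16016 D31943))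
theorem Q13967 : ∀ i, i < 13967 → P i := stepQ 13966 Q13966 (allL N13966 (tt N12871 F139236) (tt N13966 F139237) (tt N16011 (iv F148604)) (tt N11931 F139238) (tt N16014 (iv F148616)) (tt N11941 F139239) (tt N16016 (iv F148629)) (tt N11929 F139240) (tt N15996 (iv F148550)) (tt N11928 (iv D29893)))
theorem Q13968 : ∀ i, i < 13968 → P i := stepQ 13967 Q13967 (allL N13967 (tt N12872 F139241) (tt N13967 F139242) (tt N15902 (iv F148088)) (tt N16015 (iv F148621)) (tt N16017 D31944) (tt N11930 (iv D29894)) (tt N11942 F139243) (tt N15967 (iv F148404)) (tt N15984 (iv F148489)) (tt N16018 D31945))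
theorem Q13969 : ∀ i, i < 13969 → P i := stepQ 13968 Q13968 (allL N13968 (tt N12873 F139244) (tt N13968 F139245) (tt N15903 (iv F148091)) (tt N16016 (iv F148628)) (tt N15663 (iv F146936)) (tt N16018 (iv F148635)) (tt N11931 F139246) (tt N15968 (iv F148409)) (tt N15998 (iv F148558)) (tt N11930 (iv D29895)))
theorem Q13970 : ∀ i, i < 13970 → P i := stepQ 13969 Q13969 (allL N13969 (tt N12874 F139247) (tt N13969 F139248) (tt N15909 (iv F148119)) (tt N12263 F139249) (tt N16019 D31946) (tt N11932 (iv D29896)) (tt N15984 (iv F148487)) (tt N12198 F139250) (tt N11942 F139251) (tt N15934 (iv F148230)))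
theorem Q13971 : ∀ i, i < 13971 → P i := stepQ 13970 Q13970 (allL N13970 (tt N11936 F139252) (tt N12168 F139253) (tt N13970 F139254) (tt N15912 (iv F148137)) (tt N13970 F139255) (tt N15931 (iv F148217)) (tt N12126 F139256) (tt N15801 (iv F147658)) (tt N11934 (iv D29897)) (tt N15427 (iv F145668)))
theorem Q13972 : ∀ i, i < 13972 → P i := stepQ 13971 Q13971 (allL N13971 (tt N15801 (iv F147653)) (tt N11938 F139257) (tt N13971 F139258) (tt N15915 (iv F148149)) (tt N13971 F139259) (tt N16003 (iv F148576)) (tt N15739 (iv F147373)) (tt N11936 F139260) (tt N11935 (iv D29898)) (tt N16020 D31947))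
theorem Q13973 : ∀ i, i < 13973 → P i := stepQ 13972 Q13972 (allL N13972 (tt N15427 (iv F145663)) (tt N11939 F139261) (tt N13972 F139262) (tt N15916 (iv F148152)) (tt N13972 F139263) (tt N16004 (iv F148580)) (tt N12199 F139264) (tt N16020 (iv F148646)) (tt N12077 F139265) (tt N11936 (iv D29899)))
theorem Q13974 : ∀ i, i < 13974 → P i := stepQ 13973 Q13973 (allL N13973 (tt N12725 F139266) (tt N15739 (iv F147370)) (tt N11940 F139267) (tt N15920 (iv F148171)) (tt N13973 F139268) (tt N16021 D31948) (tt N11938 F139269) (tt N12200 F139270) (tt N11937 (iv D29900)) (tt N16022 D31949))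
theorem Q13975 : ∀ i, i < 13975 → P i := stepQ 13974 Q13974 (allL N13974 (tt N12875 F139271) (tt N16020 (iv F148643)) (tt N11941 F139272) (tt N15921 (iv F148176)) (tt N13974 F139273) (tt N16011 (iv F148605)) (tt N16022 (iv F148656)) (tt N11939 F139274) (tt N12079 F139275) (tt N11938 (iv D29901)))
theorem Q13976 : ∀ i, i < 13976 → P i := stepQ 13975 Q13975 (allL N13975 (tt N12876 F139276) (tt N13975 F139277) (tt N16021 (iv F148649)) (tt N11942 F139278) (tt N12369 (iv F139281)) (tt N11940 (iv D29902)) (tt N16015 (iv F148622)) (tt N12202 F139279) (tt N12263 F139280) (tt N16023 D31950))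
theorem Q13977 : ∀ i, i < 13977 → P i := stepQ 13976 Q13976 (allL N13976 (tt N12877 F139282) (tt N13976 F139283) (tt N16022 (iv F148654)) (tt N11943 F139284) (tt N13976 F139285) (tt N16023 (iv F148663)) (tt N11941 F139286) (tt N12203 F139287) (tt N12081 F139288) (tt N11940 (iv D29903)))
theorem Q13978 : ∀ i, i < 13978 → P i := stepQ 13977 Q13977 (allL N13977 (tt N12878 F139289) (tt N13977 F139290) (tt N15926 (iv F148194)) (tt N15632 (iv F146798)) (tt N11942 (iv D29904)) (tt N11944 F139291) (tt N16017 (iv F148632)) (tt N12204 F139292) (tt N16019 (iv F148642)) (tt N15630 F146792))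
theorem Q13979 : ∀ i, i < 13979 → P i := stepQ 13978 Q13978 (allL N13978 (tt N12879 F139293) (tt N13978 F139294) (tt N15816 (iv F147739)) (tt N16023 (iv F148661)) (tt N15630 (iv F146789)) (tt N11943 F139295) (tt N16018 (iv F148636)) (tt N12205 F139296) (tt N15628 (iv F146781)) (tt N11942 (iv D29905)))
theorem Q13980 : ∀ i, i < 13980 → P i := stepQ 13979 Q13979 (allL N13979 (tt N11947 F139297) (tt N12880 F139298) (tt N13979 F139299) (tt N12672 F139300) (tt N15969 (iv F148413)) (tt N16024 D31951) (tt N11946 (iv D29906)) (tt N16025 D31952) (tt N13979 F139301) (tt N12282 F139302))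
theorem Q13981 : ∀ i, i < 13981 → P i := stepQ 13980 Q13980 (allL N13980 (tt N16024 (iv F148665)) (tt N11948 F139303) (tt N13980 F139304) (tt N12673 F139305) (tt N16026 D31953) (tt N11947 (iv D29907)) (tt N13980 F139306) (tt N16027 D31954) (tt N16028 D31955) (tt N12283 F139307))
theorem Q13982 : ∀ i, i < 13982 → P i := stepQ 13981 Q13981 (allL N13981 (tt N16025 (iv F148671)) (tt N11949 F139308) (tt N13981 F139309) (tt N12674 F139310) (tt N15971 (iv F148421)) (tt N16027 (iv F148686)) (tt N15677 (iv F147011)) (tt N11947 (iv D29908)) (tt N13981 F139311) (tt N12284 F139312))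
theorem Q13983 : ∀ i, i < 13983 → P i := stepQ 13982 Q13982 (allL N13982 (tt N12883 F139313) (tt N16026 (iv F148678)) (tt N11950 F139314) (tt N16029 D31956) (tt N11948 (iv D29909)) (tt N15972 (iv F148426)) (tt N13982 F139315) (tt N16030 D31957) (tt N13008 (iv F139317)) (tt N12285 F139316))
theorem Q13984 : ∀ i, i < 13984 → P i := stepQ 13983 Q13983 (allL N13983 (tt N12884 F139318) (tt N16027 (iv F148683)) (tt N11951 F139319) (tt N12676 F139320) (tt N16030 (iv F148703)) (tt N11949 F139321) (tt N16031 D31958) (tt N11948 (iv D29910)) (tt N16032 D31959) (tt N12286 F139322))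
theorem Q13985 : ∀ i, i < 13985 → P i := stepQ 13984 Q13984 (allL N13984 (tt N12885 F139323) (tt N16028 (iv F148688)) (tt N11952 F139324) (tt N12677 F139325) (tt N13008 F139326) (tt N13984 F139327) (tt N13984 F139328) (tt N16032 (iv F148716)) (tt N11948 (iv D29911)) (tt N13984 F139329))
theorem Q13986 : ∀ i, i < 13986 → P i := stepQ 13985 Q13985 (allL N13985 (tt N12886 F139330) (tt N13985 F139331) (tt N16030 (iv F148702)) (tt N11957 F139332) (tt N11951 F139333) (tt N15975 (iv F148441)) (tt N16033 D31960) (tt N11950 (iv D29912)) (tt N13010 F139334) (tt N12287 F139335))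
theorem Q13987 : ∀ i, i < 13987 → P i := stepQ 13986 Q13986 (allL N13986 (tt N12887 F139336) (tt N13986 F139337) (tt N16031 (iv F148707)) (tt N11953 F139338) (tt N16033 (iv F148721)) (tt N15679 (iv F147023)) (tt N11951 (iv D29913)) (tt N13986 F139339) (tt N16034 D31961) (tt N12288 F139340))
theorem Q13988 : ∀ i, i < 13988 → P i := stepQ 13987 Q13987 (allL N13987 (tt N12888 F139341) (tt N13987 F139342) (tt N16032 (iv F148712)) (tt N11954 F139343) (tt N13010 F139344) (tt N13987 F139345) (tt N16034 (iv F148729)) (tt N11952 F139346) (tt N11951 (iv D29914)) (tt N13987 F139347))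
theorem Q13989 : ∀ i, i < 13989 → P i := stepQ 13988 Q13988 (allL N13988 (tt N12889 F139348) (tt N13988 F139349) (tt N12682 F139350) (tt N16034 (iv F148727)) (tt N11959 F139351) (tt N16035 D31962) (tt N11954 F139352) (tt N13988 F139353) (tt N11953 (iv D29915)) (tt N13988 F139354))
theorem Q13990 : ∀ i, i < 13990 → P i := stepQ 13989 Q13989 (allL N13989 (tt N12491 F139355) (tt N15445 (iv F145785)) (tt N16029 (iv F148696)) (tt N11955 (iv D29916)) (tt N12891 F139356) (tt N15980 (iv F148465)) (tt N13989 F139357) (tt N16036 D31963) (tt N12455 F139358) (tt N12396 F139359))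
theorem Q13991 : ∀ i, i < 13991 → P i := stepQ 13990 Q13990 (allL N13990 (tt N12493 F139360) (tt N15447 (iv F145799)) (tt N11957 F139361) (tt N16036 (iv F148740)) (tt N11956 F139362) (tt N15981 (iv F148471)) (tt N16037 D31964) (tt N11955 (iv D29917)) (tt N12457 F139363) (tt N12397 F139364))
theorem Q13992 : ∀ i, i < 13992 → P i := stepQ 13991 Q13991 (allL N13991 (tt N12496 F139365) (tt N15449 (iv F145814)) (tt N11958 F139366) (tt N12893 F139367) (tt N16037 (iv F148746)) (tt N11971 F139368) (tt N11956 (iv D29918)) (tt N13991 F139369) (tt N12460 F139370) (tt N12398 F139371))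
theorem Q13993 : ∀ i, i < 13993 → P i := stepQ 13992 Q13992 (allL N13992 (tt N12890 F139372) (tt N13992 F139373) (tt N16037 (iv F148745)) (tt N16033 (iv F148720)) (tt N11958 F139374) (tt N16038 D31965) (tt N11957 (iv D29919)) (tt N13992 F139375) (tt N13011 F139376) (tt N12399 F139377))
theorem Q13994 : ∀ i, i < 13994 → P i := stepQ 13993 Q13993 (allL N13993 (tt N12891 F139378) (tt N12550 F139379) (tt N15690 (iv F147091)) (tt N11960 (iv D29920)) (tt N12491 F139380) (tt N15986 (iv F148497)) (tt N13993 F139381) (tt N16039 D31966) (tt N12489 F139382) (tt N11969 F139383))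
theorem Q13995 : ∀ i, i < 13995 → P i := stepQ 13994 Q13994 (allL N13994 (tt N12892 F139384) (tt N12557 F139385) (tt N11962 F139386) (tt N16039 (iv F148757)) (tt N11961 F139387) (tt N15987 (iv F148503)) (tt N16040 D31967) (tt N11960 (iv D29921)) (tt N12494 F139388) (tt N11970 F139389))
theorem Q13996 : ∀ i, i < 13996 → P i := stepQ 13995 Q13995 (allL N13995 (tt N12893 F139390) (tt N12559 F139391) (tt N11964 F139392) (tt N12496 F139393) (tt N16040 (iv F148764)) (tt N12398 F139394) (tt N11961 (iv D29922)) (tt N13995 F139395) (tt N12495 F139396) (tt N11971 F139397))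
theorem Q13997 : ∀ i, i < 13997 → P i := stepQ 13996 Q13996 (allL N13996 (tt N12894 F139398) (tt N13996 F139399) (tt N16040 (iv F148763)) (tt N15695 (iv F147120)) (tt N11964 F139400) (tt N16041 D31968) (tt N11962 (iv D29923)) (tt N13996 F139401) (tt N16042 D31969) (tt N11972 F139402))
theorem Q13998 : ∀ i, i < 13998 → P i := stepQ 13997 Q13997 (allL N13997 (tt N12895 F139403) (tt N13997 F139404) (tt N12494 F139405) (tt N15696 (iv F147126)) (tt N11965 F139406) (tt N13150 (iv F139409)) (tt N16042 (iv F148777)) (tt N11963 F139407) (tt N11962 (iv D29924)) (tt N13997 F139408))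
theorem Q13999 : ∀ i, i < 13999 → P i := stepQ 13998 Q13998 (allL N13998 (tt N12896 F139410) (tt N13998 F139411) (tt N12495 F139412) (tt N11966 F139413) (tt N16042 (iv F148776)) (tt N13998 F139414) (tt N11965 F139415) (tt N13998 F139416) (tt N11964 (iv D29925)) (tt N13998 F139417))
theorem Q14000 : ∀ i, i < 14000 → P i := stepQ 13999 Q13999 (allL N13999 (tt N15567 (iv F146442)) (tt N11969 F139418) (tt N16043 D31970) (tt N11967 (iv D29926)) (tt N12553 F139419) (tt N15999 (iv F148560)) (tt N13999 F139420) (tt N16044 D31971) (tt N13999 F139421) (tt N12550 F139422))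
theorem Q14001 : ∀ i, i < 14001 → P i := stepQ 14000 Q14000 (allL N14000 (tt N15575 (iv F146481)) (tt N11970 F139423) (tt N14000 F139424) (tt N16044 (iv F148787)) (tt N11968 F139425) (tt N16000 (iv F148565)) (tt N16045 D31972) (tt N11967 (iv D29927)) (tt N14000 F139426) (tt N12557 F139427))
theorem Q14002 : ∀ i, i < 14002 → P i := stepQ 14001 Q14001 (allL N14001 (tt N15477 (iv F145972)) (tt N11971 F139428) (tt N14001 F139429) (tt N12561 F139430) (tt N16045 (iv F148793)) (tt N15449 F145819) (tt N11968 (iv D29928)) (tt N14001 F139431) (tt N14001 F139432) (tt N12559 F139433))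
theorem Q14003 : ∀ i, i < 14003 → P i := stepQ 14002 Q14002 (allL N14002 (tt N12898 F139434) (tt N16044 (iv F148786)) (tt N15703 (iv F147167)) (tt N11970 F139435) (tt N15396 (iv F145458)) (tt N16005 (iv F148584)) (tt N16046 D31973) (tt N11969 (iv D29929)) (tt N14002 F139436) (tt N16039 (iv F148760)))
theorem Q14004 : ∀ i, i < 14004 → P i := stepQ 14003 Q14003 (allL N14003 (tt N12899 F139437) (tt N16045 (iv F148791)) (tt N11972 F139438) (tt N16046 (iv F148798)) (tt N11971 F139439) (tt N16047 D31974) (tt N11970 (iv D29930)) (tt N14003 F139440) (tt N14003 F139441) (tt N16040 (iv F148767)))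
theorem Q14005 : ∀ i, i < 14005 → P i := stepQ 14004 Q14004 (allL N14004 (tt N12900 F139442) (tt N14004 F139443) (tt N16047 (iv F148802)) (tt N15705 (iv F147177)) (tt N16038 (iv F148752)) (tt N11972 (iv D29931)) (tt N16012 (iv F148609)) (tt N14004 F139444) (tt N16048 D31975) (tt N16041 (iv F148772)))
theorem Q14006 : ∀ i, i < 14006 → P i := stepQ 14005 Q14005 (allL N14005 (tt N12169 F139445) (tt N11973 (iv D29932)) (tt N12209 F139446) (tt N14005 F139447) (tt N12124 F139448) (tt N14005 F139449) (tt N15911 (iv F148133)) (tt N12123 F139450) (tt N15718 (iv F147261)) (tt N11977 F139451))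
theorem Q14007 : ∀ i, i < 14007 → P i := stepQ 14006 Q14006 (allL N14006 (tt N11993 F139452) (tt N15911 (iv F148129)) (tt N11974 F139453) (tt N14006 F139454) (tt N12165 F139455) (tt N16049 D31976) (tt N11973 (iv D29933)) (tt N15904 (iv F148097)) (tt N15719 (iv F147267)) (tt N11978 F139456))
theorem Q14008 : ∀ i, i < 14008 → P i := stepQ 14007 Q14007 (allL N14007 (tt N11994 F139457) (tt N12425 F139458) (tt N16049 (iv F148810)) (tt N11975 F139459) (tt N16050 D31977) (tt N11974 (iv D29934)) (tt N14007 F139460) (tt N16051 D31978) (tt N16052 D31979) (tt N11979 F139461))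
theorem Q14009 : ∀ i, i < 14009 → P i := stepQ 14008 Q14008 (allL N14008 (tt N11995 F139462) (tt N12901 F139463) (tt N15904 (iv F148094)) (tt N11976 F139464) (tt N12697 F139465) (tt N16051 (iv F148825)) (tt N12293 F139466) (tt N11974 (iv D29935)) (tt N15721 (iv F147279)) (tt N11980 F139467))
theorem Q14010 : ∀ i, i < 14010 → P i := stepQ 14009 Q14009 (allL N14009 (tt N11996 F139468) (tt N12441 F139469) (tt N14009 F139470) (tt N16051 (iv F148824)) (tt N14009 F139471) (tt N11976 F139472) (tt N16053 D31980) (tt N11975 (iv D29936)) (tt N16054 D31981) (tt N11981 F139473))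
theorem Q14011 : ∀ i, i < 14011 → P i := stepQ 14010 Q14010 (allL N14010 (tt N11997 F139474) (tt N12387 F139475) (tt N14010 F139476) (tt N16052 (iv F148829)) (tt N14010 F139477) (tt N15723 (iv F147291)) (tt N14010 F139478) (tt N16054 (iv F148843)) (tt N11975 (iv D29937)) (tt N12384 F139479))
theorem Q14012 : ∀ i, i < 14012 → P i := stepQ 14011 Q14011 (allL N14011 (tt N12047 F139480) (tt N11978 F139481) (tt N12009 F139482) (tt N14011 F139483) (tt N12046 F139484) (tt N12034 (iv F139486)) (tt N11977 (iv D29938)) (tt N16055 D31982) (tt N11989 F139485) (tt N15911 (iv F148134)))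
theorem Q14013 : ∀ i, i < 14013 → P i := stepQ 14012 Q14012 (allL N14012 (tt N11998 F139487) (tt N12034 F139488) (tt N11979 F139489) (tt N14012 F139490) (tt N12002 F139491) (tt N11978 (iv D29939)) (tt N14012 F139492) (tt N16056 D31983) (tt N12000 F139493) (tt N16049 (iv F148814)))
theorem Q14014 : ∀ i, i < 14014 → P i := stepQ 14013 Q14013 (allL N14013 (tt N11999 F139494) (tt N16055 (iv F148846)) (tt N11980 F139495) (tt N14013 F139496) (tt N12041 F139497) (tt N16056 (iv F148858)) (tt N12040 F139498) (tt N11978 (iv D29940)) (tt N11991 F139499) (tt N15904 (iv F148098)))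
theorem Q14015 : ∀ i, i < 14015 → P i := stepQ 14014 Q14014 (allL N14014 (tt N12000 F139500) (tt N12422 F139501) (tt N12002 F139502) (tt N14014 F139503) (tt N11979 (iv D29941)) (tt N12018 F139504) (tt N14014 F139505) (tt N16057 D31984) (tt N11998 F139506) (tt N16050 (iv F148821)))
theorem Q14016 : ∀ i, i < 14016 → P i := stepQ 14015 Q14015 (allL N14015 (tt N12001 F139507) (tt N12424 F139508) (tt N16056 (iv F148855)) (tt N11981 F139509) (tt N16057 (iv F148865)) (tt N11980 F139510) (tt N16058 D31985) (tt N11979 (iv D29942)) (tt N12420 F139511) (tt N16051 (iv F148826)))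
theorem Q14017 : ∀ i, i < 14017 → P i := stepQ 14016 Q14016 (allL N14016 (tt N12003 F139512) (tt N12440 F139513) (tt N14016 F139514) (tt N16058 (iv F148871)) (tt N14016 F139515) (tt N12402 F139516) (tt N11981 (iv D29943)) (tt N14016 F139517) (tt N12433 F139518) (tt N16053 (iv F148838)))
theorem Q14018 : ∀ i, i < 14018 → P i := stepQ 14017 Q14017 (allL N14017 (tt N12014 F139519) (tt N11983 F139520) (tt N12046 F139521) (tt N14017 F139522) (tt N12009 F139523) (tt N12013 F139524) (tt N11982 (iv D29944)) (tt N16059 D31986) (tt N12007 F139525) (tt N15733 (iv F147338)))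
theorem Q14019 : ∀ i, i < 14019 → P i := stepQ 14018 Q14018 (allL N14018 (tt N11989 F139526) (tt N12013 F139527) (tt N11984 F139528) (tt N14018 F139529) (tt N12049 F139530) (tt N11983 (iv D29945)) (tt N11988 F139531) (tt N16060 D31987) (tt N12047 F139532) (tt N15734 (iv F147345)))
theorem Q14020 : ∀ i, i < 14020 → P i := stepQ 14019 Q14019 (allL N14019 (tt N12006 F139533) (tt N16059 (iv F148876)) (tt N11985 F139534) (tt N14019 F139535) (tt N12042 F139536) (tt N16060 (iv F148888)) (tt N11991 F139537) (tt N11983 (iv D29946)) (tt N12040 F139538) (tt N15735 (iv F147351)))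
theorem Q14021 : ∀ i, i < 14021 → P i := stepQ 14020 Q14020 (allL N14020 (tt N12007 F139539) (tt N12018 F139540) (tt N12049 F139541) (tt N14020 F139542) (tt N11984 (iv D29947)) (tt N12422 F139543) (tt N12206 F139544) (tt N16061 D31988) (tt N12014 (iv F139545)) (tt N15736 (iv F147358)))
theorem Q14022 : ∀ i, i < 14022 → P i := stepQ 14021 Q14021 (allL N14021 (tt N12008 F139546) (tt N12051 F139547) (tt N16060 (iv F148885)) (tt N11986 F139548) (tt N16061 (iv F148895)) (tt N11985 F139549) (tt N12048 F139550) (tt N11984 (iv D29948)) (tt N16062 D31989) (tt N15737 (iv F147364)))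
theorem Q14023 : ∀ i, i < 14023 → P i := stepQ 14022 Q14022 (allL N14022 (tt N12009 F139551) (tt N12016 F139552) (tt N12047 F139553) (tt N11987 F139554) (tt N12014 F139555) (tt N12401 F139556) (tt N12207 F139557) (tt N16062 (iv F148906)) (tt N11984 (iv D29949)) (tt N15804 (iv F147675)))
theorem Q14024 : ∀ i, i < 14024 → P i := stepQ 14023 Q14023 (allL N14023 (tt N12011 F139558) (tt N12078 F139559) (tt N14023 F139560) (tt N16062 (iv F148902)) (tt N14023 F139561) (tt N12403 F139562) (tt N12076 F139563) (tt N11987 F139564) (tt N11986 (iv D29950)) (tt N16063 D31990))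
theorem Q14025 : ∀ i, i < 14025 → P i := stepQ 14024 Q14024 (allL N14024 (tt N12012 F139565) (tt N12214 F139566) (tt N14024 F139567) (tt N15804 F147676) (tt N14024 F139568) (tt N12404 F139569) (tt N12208 F139570) (tt N16063 (iv F148913)) (tt N15740 (iv F147380)) (tt N11987 (iv D29951)))
theorem Q14026 : ∀ i, i < 14026 → P i := stepQ 14025 Q14025 (allL N14025 (tt N16060 (iv F148883)) (tt N11991 F139571) (tt N12008 F139572) (tt N14025 F139573) (tt N15399 (iv F145477)) (tt N12006 F139574) (tt N16059 (iv F148881)) (tt N11989 (iv D29952)) (tt N16055 (iv F148852)) (tt N15741 (iv F147385)))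
theorem Q14027 : ∀ i, i < 14027 → P i := stepQ 14026 Q14026 (allL N14026 (tt N12017 F139575) (tt N12006 F139576) (tt N11992 F139577) (tt N14026 F139578) (tt N12909 F139579) (tt N11991 F139580) (tt N12015 F139581) (tt N11990 (iv D29953)) (tt N12410 F139582) (tt N15742 (iv F147393)))
theorem Q14028 : ∀ i, i < 14028 → P i := stepQ 14027 Q14027 (allL N14027 (tt N16049 (iv F148808)) (tt N12344 F139583) (tt N11994 F139584) (tt N14027 F139585) (tt N12342 F139586) (tt N11993 (iv D29954)) (tt N14027 F139587) (tt N16064 D31991) (tt N16065 D31992) (tt N11998 F139588))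
theorem Q14029 : ∀ i, i < 14029 → P i := stepQ 14028 Q14028 (allL N14028 (tt N15904 (iv F148093)) (tt N12792 F139589) (tt N11995 F139590) (tt N14028 F139591) (tt N12723 F139592) (tt N16064 (iv F148918)) (tt N12312 F139593) (tt N11993 (iv D29955)) (tt N15776 (iv F147561)) (tt N11999 F139594))
theorem Q14030 : ∀ i, i < 14030 → P i := stepQ 14029 Q14029 (allL N14029 (tt N16050 (iv F148815)) (tt N12025 F139595) (tt N12342 F139596) (tt N14029 F139597) (tt N11994 (iv D29956)) (tt N12311 F139598) (tt N14029 F139599) (tt N16066 D31993) (tt N16067 D31994) (tt N12000 F139600))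
theorem Q14031 : ∀ i, i < 14031 → P i := stepQ 14030 Q14030 (allL N14030 (tt N16051 (iv F148822)) (tt N12026 F139601) (tt N16064 (iv F148915)) (tt N11996 F139602) (tt N16066 (iv F148928)) (tt N11995 F139603) (tt N16068 D31995) (tt N11994 (iv D29957)) (tt N16069 D31996) (tt N12001 F139604))
theorem Q14032 : ∀ i, i < 14032 → P i := stepQ 14031 Q14031 (allL N14031 (tt N16052 (iv F148827)) (tt N12027 F139605) (tt N16065 (iv F148921)) (tt N11997 F139606) (tt N16067 (iv F148934)) (tt N15779 (iv F147572)) (tt N14031 F139607) (tt N16069 (iv F148943)) (tt N11994 (iv D29958)) (tt N16070 D31997))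
theorem Q14033 : ∀ i, i < 14033 → P i := stepQ 14032 Q14032 (allL N14032 (tt N16053 (iv F148832)) (tt N12028 F139608) (tt N14032 F139609) (tt N16068 (iv F148937)) (tt N14032 F139610) (tt N12315 F139611) (tt N11996 (iv D29959)) (tt N14032 F139612) (tt N16071 D31998) (tt N12003 F139613))
theorem Q14034 : ∀ i, i < 14034 → P i := stepQ 14033 Q14033 (allL N14033 (tt N16054 (iv F148839)) (tt N12029 F139614) (tt N14033 F139615) (tt N16069 (iv F148942)) (tt N14033 F139616) (tt N15781 (iv F147579)) (tt N16071 (iv F148952)) (tt N11997 F139617) (tt N11996 (iv D29960)) (tt N15927 (iv F148202)))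
theorem Q14035 : ∀ i, i < 14035 → P i := stepQ 14034 Q14034 (allL N14034 (tt N12384 F139618) (tt N12030 F139619) (tt N14034 F139620) (tt N16070 (iv F148946)) (tt N14034 F139621) (tt N15782 (iv F147584)) (tt N14034 F139622) (tt N15927 (iv F148201)) (tt N12005 F139623) (tt N11997 (iv D29961)))
theorem Q14036 : ∀ i, i < 14036 → P i := stepQ 14035 Q14035 (allL N14035 (tt N16056 (iv F148853)) (tt N12421 F139624) (tt N12001 F139625) (tt N14035 F139626) (tt N12420 F139627) (tt N11999 F139628) (tt N16072 D31999) (tt N11998 (iv D29962)) (tt N16057 (iv F148867)) (tt N16064 (iv F148919)))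
theorem Q14037 : ∀ i, i < 14037 → P i := stepQ 14036 Q14036 (allL N14036 (tt N16057 (iv F148861)) (tt N12033 F139629) (tt N12420 F139630) (tt N14036 F139631) (tt N12001 F139632) (tt N12410 F139633) (tt N16073 D32000) (tt N12000 (iv D29963)) (tt N16056 (iv F148859)) (tt N16066 (iv F148930)))
theorem Q14038 : ∀ i, i < 14038 → P i := stepQ 14037 Q14037 (allL N14037 (tt N16058 (iv F148868)) (tt N12035 F139634) (tt N16072 (iv F148956)) (tt N12003 F139635) (tt N16073 (iv F148964)) (tt N12411 F139636) (tt N12001 (iv D29964)) (tt N14037 F139637) (tt N15420 F145624) (tt N16068 (iv F148940)))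
theorem Q14039 : ∀ i, i < 14039 → P i := stepQ 14038 Q14038 (allL N14038 (tt N12420 F139638) (tt N12036 F139639) (tt N16057 (iv F148863)) (tt N12004 F139640) (tt N16056 (iv F148857)) (tt N12021 F139641) (tt N15420 (iv F145622)) (tt N12002 F139642) (tt N12001 (iv D29965)) (tt N15922 (iv F148183)))
theorem Q14040 : ∀ i, i < 14040 → P i := stepQ 14039 Q14039 (allL N14039 (tt N12342 F139643) (tt N12037 F139644) (tt N16050 (iv F148817)) (tt N12005 F139645) (tt N16049 (iv F148812)) (tt N12022 F139646) (tt N14039 F139647) (tt N15922 (iv F148182)) (tt N16070 (iv F148948)) (tt N12002 (iv D29966)))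
theorem Q14041 : ∀ i, i < 14041 → P i := stepQ 14040 Q14040 (allL N14040 (tt N16061 (iv F148891)) (tt N12040 F139648) (tt N15399 (iv F145475)) (tt N14040 F139649) (tt N12008 F139650) (tt N12910 F139651) (tt N16055 (iv F148851)) (tt N12007 (iv D29967)) (tt N16059 (iv F148882)) (tt N15796 (iv F147635)))
theorem Q14042 : ∀ i, i < 14042 → P i := stepQ 14041 Q14041 (allL N14041 (tt N12048 F139652) (tt N12041 F139653) (tt N16059 (iv F148877)) (tt N12010 F139654) (tt N16055 (iv F148849)) (tt N12020 F139655) (tt N12008 (iv D29968)) (tt N12046 F139656) (tt N15399 (iv F145480)) (tt N15798 (iv F147645)))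
theorem Q14043 : ∀ i, i < 14043 → P i := stepQ 14042 Q14042 (allL N14042 (tt N16062 (iv F148899)) (tt N12042 F139657) (tt N16055 (iv F148847)) (tt N12011 F139658) (tt N16059 (iv F148879)) (tt N12412 F139659) (tt N15399 (iv F145479)) (tt N12009 F139660) (tt N12008 (iv D29969)) (tt N16074 D32001))
theorem Q14044 : ∀ i, i < 14044 → P i := stepQ 14043 Q14043 (allL N14043 (tt N15804 (iv F147670)) (tt N12043 F139661) (tt N15911 (iv F148130)) (tt N12012 F139662) (tt N15733 (iv F147336)) (tt N12413 F139663) (tt N12209 F139664) (tt N16074 (iv F148971)) (tt N15800 (iv F147652)) (tt N12009 (iv D29970)))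
theorem Q14045 : ∀ i, i < 14045 → P i := stepQ 14044 Q14044 (allL N14044 (tt N16063 (iv F148907)) (tt N12045 F139665) (tt N14044 F139666) (tt N16074 (iv F148969)) (tt N14044 F139667) (tt N12415 F139668) (tt N15426 (iv F145661)) (tt N12012 F139669) (tt N15802 (iv F147663)) (tt N12011 (iv D29971)))
theorem Q14046 : ∀ i, i < 14046 → P i := stepQ 14045 Q14045 (allL N14045 (tt N12015 F139670) (tt N16060 (iv F148884)) (tt N12020 F139671) (tt N14045 F139672) (tt N12052 F139673) (tt N16059 (iv F148880)) (tt N12017 F139674) (tt N12013 (iv D29972)) (tt N12050 F139675) (tt N15803 (iv F147669)))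
theorem Q14047 : ∀ i, i < 14047 → P i := stepQ 14046 Q14046 (allL N14046 (tt N16059 (iv F148875)) (tt N12017 F139676) (tt N12048 F139677) (tt N14046 F139678) (tt N16062 (iv F148903)) (tt N12015 F139679) (tt N16060 (iv F148889)) (tt N12014 (iv D29973)) (tt N16061 (iv F148898)) (tt N15805 (iv F147681)))
theorem Q14048 : ∀ i, i < 14048 → P i := stepQ 14047 Q14047 (allL N14047 (tt N12909 F139680) (tt N16062 (iv F148900)) (tt N12019 F139681) (tt N12078 F139682) (tt N12017 F139683) (tt N15402 (iv F145501)) (tt N12052 F139684) (tt N12016 (iv D29974)) (tt N12051 F139685) (tt N15807 (iv F147691)))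
theorem Q14049 : ∀ i, i < 14049 → P i := stepQ 14048 Q14048 (allL N14048 (tt N12410 F139686) (tt N16061 (iv F148892)) (tt N12021 F139687) (tt N14048 F139688) (tt N12051 F139689) (tt N16057 (iv F148866)) (tt N12050 F139690) (tt N12018 F139691) (tt N12017 (iv D29975)) (tt N15917 (iv F148160)))
theorem Q14050 : ∀ i, i < 14050 → P i := stepQ 14049 Q14049 (allL N14049 (tt N12311 F139692) (tt N15736 (iv F147353)) (tt N12022 F139693) (tt N14049 F139694) (tt N12173 F139695) (tt N16050 (iv F148819)) (tt N12171 F139696) (tt N15917 (iv F148159)) (tt N15810 (iv F147706)) (tt N12018 (iv D29976)))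
theorem Q14051 : ∀ i, i < 14051 → P i := stepQ 14050 Q14050 (allL N14050 (tt N12915 F139697) (tt N12347 F139698) (tt N12026 F139699) (tt N12055 F139700) (tt N12313 F139701) (tt N12024 F139702) (tt N16075 D32002) (tt N12023 (iv D29977)) (tt N16076 D32003) (tt N12031 F139703))
theorem Q14052 : ∀ i, i < 14052 → P i := stepQ 14051 Q14051 (allL N14051 (tt N12916 F139704) (tt N12348 F139705) (tt N12027 F139706) (tt N12056 F139707) (tt N12314 F139708) (tt N15878 (iv F148010)) (tt N14051 F139709) (tt N16076 (iv F148985)) (tt N12023 (iv D29978)) (tt N16077 D32004))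
theorem Q14053 : ∀ i, i < 14053 → P i := stepQ 14052 Q14052 (allL N14052 (tt N12917 F139710) (tt N16066 (iv F148925)) (tt N12313 F139711) (tt N14052 F139712) (tt N12026 F139713) (tt N12312 F139714) (tt N16078 D32005) (tt N12025 (iv D29979)) (tt N16079 D32006) (tt N12033 F139715))
theorem Q14054 : ∀ i, i < 14054 → P i := stepQ 14053 Q14053 (allL N14053 (tt N12918 F139716) (tt N16067 (iv F148931)) (tt N12314 F139717) (tt N14053 F139718) (tt N12027 F139719) (tt N16080 D32007) (tt N14053 F139720) (tt N16079 (iv F149003)) (tt N12025 (iv D29980)) (tt N16081 D32008))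
theorem Q14055 : ∀ i, i < 14055 → P i := stepQ 14054 Q14054 (allL N14054 (tt N12919 F139721) (tt N16068 (iv F148936)) (tt N16075 (iv F148974)) (tt N12028 F139722) (tt N16078 (iv F148996)) (tt N12349 F139723) (tt N12026 (iv D29981)) (tt N14054 F139724) (tt N16082 D32009) (tt N12035 F139725))
theorem Q14056 : ∀ i, i < 14056 → P i := stepQ 14055 Q14055 (allL N14055 (tt N12920 F139726) (tt N16069 (iv F148941)) (tt N16076 (iv F148982)) (tt N12029 F139727) (tt N16079 (iv F149002)) (tt N15882 (iv F148023)) (tt N16082 (iv F149016)) (tt N12027 F139728) (tt N12026 (iv D29982)) (tt N16083 D32010))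
theorem Q14057 : ∀ i, i < 14057 → P i := stepQ 14056 Q14056 (allL N14056 (tt N12921 F139729) (tt N16070 (iv F148945)) (tt N16077 (iv F148988)) (tt N12030 F139730) (tt N16081 (iv F149011)) (tt N15883 (iv F148027)) (tt N14056 F139731) (tt N16083 (iv F149020)) (tt N12037 F139732) (tt N12027 (iv D29983)))
theorem Q14058 : ∀ i, i < 14058 → P i := stepQ 14057 Q14057 (allL N14057 (tt N12922 F139733) (tt N16071 (iv F148949)) (tt N12062 F139734) (tt N16082 (iv F149015)) (tt N14057 F139735) (tt N16084 D32011) (tt N12029 F139736) (tt N14057 F139737) (tt N12028 (iv D29984)) (tt N16085 D32012))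
theorem Q14059 : ∀ i, i < 14059 → P i := stepQ 14058 Q14058 (allL N14058 (tt N12923 F139738) (tt N15927 (iv F148198)) (tt N12063 F139739) (tt N16083 (iv F149019)) (tt N14058 F139740) (tt N15885 (iv F148034)) (tt N16085 (iv F149029)) (tt N12030 F139741) (tt N12039 F139742) (tt N12029 (iv D29985)))
theorem Q14060 : ∀ i, i < 14060 → P i := stepQ 14059 Q14059 (allL N14059 (tt N12925 F139743) (tt N12426 F139744) (tt N12035 F139745) (tt N12064 F139746) (tt N12411 F139747) (tt N12423 F139748) (tt N12031 (iv D29986)) (tt N14059 F139749) (tt N16086 D32013) (tt N16075 (iv F148979)))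
theorem Q14061 : ∀ i, i < 14061 → P i := stepQ 14060 Q14060 (allL N14060 (tt N12926 F139750) (tt N12427 F139751) (tt N12036 F139752) (tt N12065 F139753) (tt N12412 F139754) (tt N12052 F139755) (tt N16086 (iv F149037)) (tt N12032 F139756) (tt N12031 (iv D29987)) (tt N16087 D32014))
theorem Q14062 : ∀ i, i < 14062 → P i := stepQ 14061 Q14061 (allL N14061 (tt N12927 F139757) (tt N12428 F139758) (tt N12037 F139759) (tt N12066 F139760) (tt N12413 F139761) (tt N12053 F139762) (tt N14061 F139763) (tt N16087 (iv F149045)) (tt N16077 (iv F148992)) (tt N12032 (iv D29988)))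
theorem Q14063 : ∀ i, i < 14063 → P i := stepQ 14062 Q14062 (allL N14062 (tt N12928 F139764) (tt N16073 (iv F148961)) (tt N12411 F139765) (tt N14062 F139766) (tt N12035 F139767) (tt N16072 (iv F148959)) (tt N12033 (iv D29989)) (tt N14062 F139768) (tt N16088 D32015) (tt N16078 (iv F148998)))
theorem Q14064 : ∀ i, i < 14064 → P i := stepQ 14063 Q14063 (allL N14063 (tt N12929 F139769) (tt N16056 (iv F148854)) (tt N12412 F139770) (tt N14063 F139771) (tt N12036 F139772) (tt N16055 (iv F148850)) (tt N16088 (iv F149051)) (tt N12034 F139773) (tt N12033 (iv D29990)) (tt N16089 D32016))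
theorem Q14065 : ∀ i, i < 14065 → P i := stepQ 14064 Q14064 (allL N14064 (tt N12930 F139774) (tt N16049 (iv F148809)) (tt N12413 F139775) (tt N14064 F139776) (tt N12037 F139777) (tt N15911 (iv F148132)) (tt N14064 F139778) (tt N16089 (iv F149058)) (tt N16081 (iv F149013)) (tt N12034 (iv D29991)))
theorem Q14066 : ∀ i, i < 14066 → P i := stepQ 14065 Q14065 (allL N14065 (tt N12931 F139779) (tt N15420 (iv F145619)) (tt N16086 (iv F149034)) (tt N12038 F139780) (tt N16088 (iv F149050)) (tt N15410 (iv F145554)) (tt N12036 F139781) (tt N14065 F139782) (tt N12035 (iv D29992)) (tt N16090 D32017))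
theorem Q14067 : ∀ i, i < 14067 → P i := stepQ 14066 Q14066 (allL N14066 (tt N12932 F139783) (tt N15922 (iv F148180)) (tt N16087 (iv F149041)) (tt N12039 F139784) (tt N16089 (iv F149057)) (tt N12054 F139785) (tt N16090 (iv F149061)) (tt N12037 F139786) (tt N16083 (iv F149021)) (tt N12036 (iv D29993)))
theorem Q14068 : ∀ i, i < 14068 → P i := stepQ 14067 Q14067 (allL N14067 (tt N12934 F139787) (tt N15361 (iv F145256)) (tt N12073 F139788) (tt N16090 (iv F149060)) (tt N14067 F139789) (tt N15319 (iv F145029)) (tt N12039 F139790) (tt N14067 F139791) (tt N16085 (iv F149031)) (tt N12038 (iv D29994)))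
theorem Q14069 : ∀ i, i < 14069 → P i := stepQ 14068 Q14068 (allL N14068 (tt N12903 F139792) (tt N16074 (iv F148968)) (tt N12901 F139793) (tt N12045 F139794) (tt N15735 (iv F147349)) (tt N12430 F139795) (tt N15291 (iv F144869)) (tt N12043 F139796) (tt N15908 (iv F148117)) (tt N12042 (iv D29995)))
theorem Q14070 : ∀ i, i < 14070 → P i := stepQ 14069 Q14069 (allL N14069 (tt N12936 F139797) (tt N15426 (iv F145657)) (tt N12075 F139798) (tt N15291 (iv F144867)) (tt N14069 F139799) (tt N15415 (iv F145588)) (tt N12045 F139800) (tt N12211 F139801) (tt N15910 (iv F148127)) (tt N12044 (iv D29996)))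
theorem Q14071 : ∀ i, i < 14071 → P i := stepQ 14070 Q14070 (allL N14070 (tt N16055 (iv F148845)) (tt N12050 F139802) (tt N16062 (iv F148901)) (tt N14070 F139803) (tt N12048 F139804) (tt N12929 F139805) (tt N16061 (iv F148897)) (tt N12047 (iv D29997)) (tt N16060 (iv F148890)) (tt N15913 (iv F148143)))
theorem Q14072 : ∀ i, i < 14072 → P i := stepQ 14071 Q14071 (allL N14071 (tt N15399 (iv F145473)) (tt N12052 F139806) (tt N16061 (iv F148893)) (tt N12076 F139807) (tt N16060 (iv F148887)) (tt N12427 F139808) (tt N16062 (iv F148905)) (tt N12049 F139809) (tt N12048 (iv D29998)) (tt N16091 D32018))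
theorem Q14073 : ∀ i, i < 14073 → P i := stepQ 14072 Q14072 (allL N14072 (tt N15289 (iv F144851)) (tt N12053 F139810) (tt N15736 (iv F147354)) (tt N12077 F139811) (tt N15734 (iv F147343)) (tt N12428 F139812) (tt N12212 F139813) (tt N16091 (iv F149066)) (tt N15916 (iv F148154)) (tt N12049 (iv D29999)))
theorem Q14074 : ∀ i, i < 14074 → P i := stepQ 14073 Q14073 (allL N14073 (tt N12937 F139814) (tt N16091 (iv F149063)) (tt N12054 F139815) (tt N12079 F139816) (tt N15803 (iv F147667)) (tt N16087 (iv F149044)) (tt N15807 (iv F147690)) (tt N12053 F139817) (tt N15921 (iv F148178)) (tt N12052 (iv D30000)))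
theorem Q14075 : ∀ i, i < 14075 → P i := stepQ 14074 Q14074 (allL N14074 (tt N12939 F139818) (tt N12354 F139819) (tt N12059 F139820) (tt N16075 (iv F148975)) (tt N12318 F139821) (tt N12385 F139822) (tt N12055 (iv D30001)) (tt N14074 F139823) (tt N16092 D32019) (tt N12064 F139824))
theorem Q14076 : ∀ i, i < 14076 → P i := stepQ 14075 Q14075 (allL N14075 (tt N12940 F139825) (tt N12355 F139826) (tt N12060 F139827) (tt N16076 (iv F148983)) (tt N12319 F139828) (tt N15990 (iv F148518)) (tt N16092 (iv F149071)) (tt N12056 F139829) (tt N12055 (iv D30002)) (tt N16093 D32020))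
theorem Q14077 : ∀ i, i < 14077 → P i := stepQ 14076 Q14076 (allL N14076 (tt N12941 F139830) (tt N12357 F139831) (tt N12061 F139832) (tt N16077 (iv F148989)) (tt N12320 F139833) (tt N15991 (iv F148523)) (tt N14076 F139834) (tt N16093 (iv F149077)) (tt N12066 F139835) (tt N12056 (iv D30003)))
theorem Q14078 : ∀ i, i < 14078 → P i := stepQ 14077 Q14077 (allL N14077 (tt N12942 F139836) (tt N14077 F139837) (tt N12318 F139838) (tt N14077 F139839) (tt N12059 F139840) (tt N14077 F139841) (tt N12057 (iv D30004)) (tt N14077 F139842) (tt N16094 D32021) (tt N12067 F139843))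
theorem Q14079 : ∀ i, i < 14079 → P i := stepQ 14078 Q14078 (allL N14078 (tt N12943 F139844) (tt N14078 F139845) (tt N12319 F139846) (tt N14078 F139847) (tt N12060 F139848) (tt N13178 F139849) (tt N16094 (iv F149084)) (tt N12058 F139850) (tt N12057 (iv D30005)) (tt N16095 D32022))
theorem Q14080 : ∀ i, i < 14080 → P i := stepQ 14079 Q14079 (allL N14079 (tt N12944 F139851) (tt N14079 F139852) (tt N12320 F139853) (tt N14079 F139854) (tt N12061 F139855) (tt N13171 F139856) (tt N14079 F139857) (tt N16095 (iv F149093)) (tt N12069 F139858) (tt N12058 (iv D30006)))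
theorem Q14081 : ∀ i, i < 14081 → P i := stepQ 14080 Q14080 (allL N14080 (tt N12945 F139859) (tt N14080 F139860) (tt N16092 (iv F149069)) (tt N12062 F139861) (tt N16094 (iv F149083)) (tt N16096 D32023) (tt N12060 F139862) (tt N14080 F139863) (tt N12059 (iv D30007)) (tt N16097 D32024))
theorem Q14082 : ∀ i, i < 14082 → P i := stepQ 14081 Q14081 (allL N14081 (tt N12946 F139864) (tt N14081 F139865) (tt N16093 (iv F149075)) (tt N12063 F139866) (tt N16095 (iv F149091)) (tt N15996 (iv F148548)) (tt N16097 (iv F149103)) (tt N12061 F139867) (tt N12071 F139868) (tt N12060 (iv D30008)))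
theorem Q14083 : ∀ i, i < 14083 → P i := stepQ 14082 Q14082 (allL N14082 (tt N12947 F139869) (tt N14082 F139870) (tt N16084 (iv F149023)) (tt N16096 (iv F149097)) (tt N16098 D32025) (tt N12062 (iv D30009)) (tt N15997 (iv F148553)) (tt N14082 F139871) (tt N12390 F139872) (tt N16099 D32026))
theorem Q14084 : ∀ i, i < 14084 → P i := stepQ 14083 Q14083 (allL N14083 (tt N12948 F139873) (tt N14083 F139874) (tt N16085 (iv F149027)) (tt N16097 (iv F149102)) (tt N14083 F139875) (tt N16099 (iv F149113)) (tt N12063 F139876) (tt N14083 F139877) (tt N12073 F139878) (tt N12062 (iv D30010)))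
theorem Q14085 : ∀ i, i < 14085 → P i := stepQ 14084 Q14084 (allL N14084 (tt N12950 F139879) (tt N12434 F139880) (tt N12070 F139881) (tt N16086 (iv F149035)) (tt N12416 F139882) (tt N15403 (iv F145507)) (tt N12065 F139883) (tt N14084 F139884) (tt N12064 (iv D30011)) (tt N16100 D32027))
theorem Q14086 : ∀ i, i < 14086 → P i := stepQ 14085 Q14085 (allL N14085 (tt N12951 F139885) (tt N12435 F139886) (tt N12071 F139887) (tt N16087 (iv F149042)) (tt N12417 F139888) (tt N12079 F139889) (tt N16100 (iv F149119)) (tt N12066 F139890) (tt N16093 (iv F149078)) (tt N12065 (iv D30012)))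
theorem Q14087 : ∀ i, i < 14087 → P i := stepQ 14086 Q14086 (allL N14086 (tt N12952 F139891) (tt N14086 F139892) (tt N12416 F139893) (tt N14086 F139894) (tt N12070 F139895) (tt N16101 D32028) (tt N12068 F139896) (tt N14086 F139897) (tt N12067 (iv D30013)) (tt N16102 D32029))
theorem Q14088 : ∀ i, i < 14088 → P i := stepQ 14087 Q14087 (allL N14087 (tt N12953 F139898) (tt N14087 F139899) (tt N12417 F139900) (tt N14087 F139901) (tt N12071 F139902) (tt N14087 F139903) (tt N16102 (iv F149133)) (tt N12069 F139904) (tt N16095 (iv F149094)) (tt N12068 (iv D30014)))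
theorem Q14089 : ∀ i, i < 14089 → P i := stepQ 14088 Q14088 (allL N14088 (tt N12954 F139905) (tt N14088 F139906) (tt N15403 (iv F145505)) (tt N12072 F139907) (tt N15240 (iv F144513)) (tt N12070 (iv D30015)) (tt N12080 F139908) (tt N14088 F139909) (tt N12442 F139910) (tt N16103 D32030))
theorem Q14090 : ∀ i, i < 14090 → P i := stepQ 14089 Q14089 (allL N14089 (tt N12955 F139911) (tt N14089 F139912) (tt N16100 (iv F149117)) (tt N12073 F139913) (tt N16102 (iv F149132)) (tt N16103 (iv F149138)) (tt N12071 F139914) (tt N14089 F139915) (tt N16097 (iv F149105)) (tt N12070 (iv D30016)))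
theorem Q14091 : ∀ i, i < 14091 → P i := stepQ 14090 Q14090 (allL N14090 (tt N12957 F139916) (tt N14090 F139917) (tt N15319 (iv F145027)) (tt N16103 (iv F149137)) (tt N15318 (iv F145020)) (tt N12073 F139918) (tt N12082 F139919) (tt N14090 F139920) (tt N15684 (iv F147060)) (tt N12072 (iv D30017)))
theorem Q14092 : ∀ i, i < 14092 → P i := stepQ 14091 Q14091 (allL N14091 (tt N12959 F139921) (tt N14091 F139922) (tt N15415 (iv F145586)) (tt N13257 F139923) (tt N15414 (iv F145579)) (tt N12075 F139924) (tt N12445 F139925) (tt N12213 F139926) (tt N15681 (iv F147036)) (tt N12074 (iv D30018)))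
theorem Q14093 : ∀ i, i < 14093 → P i := stepQ 14092 Q14092 (allL N14092 (tt N15426 (iv F145656)) (tt N12079 F139927) (tt N14092 F139928) (tt N16091 (iv F149064)) (tt N14092 F139929) (tt N12435 F139930) (tt N16063 (iv F148912)) (tt N12077 F139931) (tt N16020 (iv F148647)) (tt N12076 (iv D30019)))
theorem Q14094 : ∀ i, i < 14094 → P i := stepQ 14093 Q14093 (allL N14093 (tt N12912 F139932) (tt N16063 (iv F148908)) (tt N12081 F139933) (tt N15807 (iv F147688)) (tt N14093 F139934) (tt N15404 (iv F145514)) (tt N12079 F139935) (tt N12214 F139936) (tt N16022 (iv F148658)) (tt N12078 (iv D30020)))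
theorem Q14095 : ∀ i, i < 14095 → P i := stepQ 14094 Q14094 (allL N14094 (tt N12960 F139937) (tt N14094 F139938) (tt N15404 (iv F145512)) (tt N12082 F139939) (tt N15241 (iv F144520)) (tt N12081 F139940) (tt N16103 (iv F149139)) (tt N12215 F139941) (tt N15678 (iv F147018)) (tt N12080 (iv D30021)))
theorem Q14096 : ∀ i, i < 14096 → P i := stepQ 14095 Q14095 (allL N14095 (tt N16104 D32031) (tt N12084 (iv D30022)) (tt N12112 F139942) (tt N14095 F139943) (tt N12479 F139944) (tt N12091 F139945) (tt N16105 D32032) (tt N12225 F139946) (tt N15706 (iv F147184)) (tt N14095 F139947))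
theorem Q14097 : ∀ i, i < 14097 → P i := stepQ 14096 Q14096 (allL N14096 (tt N12107 F139948) (tt N16105 (iv F149150)) (tt N12085 F139949) (tt N14096 F139950) (tt N12480 F139951) (tt N16106 D32033) (tt N12084 (iv D30023)) (tt N16107 D32034) (tt N15707 (iv F147190)) (tt N14096 F139952))
theorem Q14098 : ∀ i, i < 14098 → P i := stepQ 14097 Q14097 (allL N14097 (tt N12108 F139953) (tt N12140 F139954) (tt N16106 (iv F149158)) (tt N12086 F139955) (tt N15442 (iv F145767)) (tt N12085 (iv D30024)) (tt N12093 F139956) (tt N16108 D32035) (tt N15828 (iv F147787)) (tt N14097 F139957))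
theorem Q14099 : ∀ i, i < 14099 → P i := stepQ 14098 Q14098 (allL N14098 (tt N12109 F139958) (tt N12249 F139959) (tt N16107 (iv F149164)) (tt N12087 F139960) (tt N12482 F139961) (tt N16108 (iv F149172)) (tt N12228 F139962) (tt N12085 (iv D30025)) (tt N15709 (iv F147202)) (tt N14098 F139963))
theorem Q14100 : ∀ i, i < 14100 → P i := stepQ 14099 Q14099 (allL N14099 (tt N12110 F139964) (tt N12181 F139965) (tt N14099 F139966) (tt N16108 (iv F149171)) (tt N14099 F139967) (tt N12087 F139968) (tt N12184 F139969) (tt N12086 (iv D30026)) (tt N15937 (iv F148247)) (tt N14099 F139970))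
theorem Q14101 : ∀ i, i < 14101 → P i := stepQ 14100 Q14100 (allL N14100 (tt N12116 F139971) (tt N12088 (iv D30027)) (tt N12113 F139972) (tt N14100 F139973) (tt N14100 F139974) (tt N12225 F139975) (tt N12115 (iv F139979)) (tt N12091 F139976) (tt N12094 F139977) (tt N14100 F139978))
theorem Q14102 : ∀ i, i < 14102 → P i := stepQ 14101 Q14101 (allL N14101 (tt N12091 F139980) (tt N12115 F139981) (tt N12089 F139982) (tt N14101 F139983) (tt N14101 F139984) (tt N16104 (iv F149145)) (tt N12088 (iv D30028)) (tt N12116 F139985) (tt N12095 F139986) (tt N14101 F139987))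
theorem Q14103 : ∀ i, i < 14103 → P i := stepQ 14102 Q14102 (allL N14102 (tt N12112 F139988) (tt N12156 F139989) (tt N16104 (iv F149142)) (tt N12090 F139990) (tt N12533 (iv F139994)) (tt N12089 (iv D30029)) (tt N12227 F139991) (tt N12155 F139992) (tt N16109 D32036) (tt N14102 F139993))
theorem Q14104 : ∀ i, i < 14104 → P i := stepQ 14103 Q14103 (allL N14103 (tt N12114 F139995) (tt N12193 F139996) (tt N14103 F139997) (tt N16109 (iv F149177)) (tt N12216 F139998) (tt N12097 F139999) (tt N12230 F140000) (tt N12192 F140001) (tt N12090 (iv D30030)) (tt N15611 (iv F146680)))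
theorem Q14105 : ∀ i, i < 14105 → P i := stepQ 14104 Q14104 (allL N14104 (tt N12117 F140002) (tt N12102 F140003) (tt N12093 F140004) (tt N14104 F140005) (tt N12453 (iv F140008)) (tt N12092 (iv D30031)) (tt N16106 (iv F149160)) (tt N12106 F140006) (tt N15745 (iv F147413)) (tt N14104 F140007))
theorem Q14106 : ∀ i, i < 14106 → P i := stepQ 14105 Q14105 (allL N14105 (tt N12123 F140009) (tt N12171 F140010) (tt N12212 F140011) (tt N14105 F140012) (tt N12096 (iv D30032)) (tt N14105 F140013) (tt N15736 (iv F147357)) (tt N12169 F140014) (tt N16110 D32037) (tt N12206 F140015))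
theorem Q14107 : ∀ i, i < 14107 → P i := stepQ 14106 Q14106 (allL N14106 (tt N12125 F140016) (tt N12174 F140017) (tt N15724 (iv F147295)) (tt N12097 F140018) (tt N16110 (iv F149186)) (tt N16109 (iv F149179)) (tt N15738 (iv F147368)) (tt N12170 F140019) (tt N12096 (iv D30033)) (tt N16111 D32038))
theorem Q14108 : ∀ i, i < 14108 → P i := stepQ 14107 Q14107 (allL N14107 (tt N12127 F140020) (tt N12201 F140021) (tt N14107 F140022) (tt N16111 (iv F149192)) (tt N14107 F140023) (tt N15611 (iv F146677)) (tt N15740 (iv F147379)) (tt N12199 F140024) (tt N12208 F140025) (tt N12097 (iv D30034)))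
theorem Q14109 : ∀ i, i < 14109 → P i := stepQ 14108 Q14108 (allL N14108 (tt N16112 D32039) (tt N12098 (iv D30035)) (tt N12134 F140026) (tt N13000 F140027) (tt N12106 F140028) (tt N14108 F140029) (tt N16113 D32040) (tt N12453 F140030) (tt N15490 (iv F146062)) (tt N14108 F140031))
theorem Q14110 : ∀ i, i < 14110 → P i := stepQ 14109 Q14109 (allL N14109 (tt N12480 F140032) (tt N16113 (iv F149203)) (tt N12099 F140033) (tt N13001 F140034) (tt N12107 F140035) (tt N16114 D32041) (tt N12098 (iv D30036)) (tt N16115 D32042) (tt N15491 (iv F146068)) (tt N14109 F140036))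
theorem Q14111 : ∀ i, i < 14111 → P i := stepQ 14110 Q14110 (allL N14110 (tt N12481 F140037) (tt N12136 F140038) (tt N16114 (iv F149209)) (tt N12100 F140039) (tt N16116 D32043) (tt N12099 (iv D30037)) (tt N14110 F140040) (tt N16117 D32044) (tt N16118 D32045) (tt N14110 F140041))
theorem Q14112 : ∀ i, i < 14112 → P i := stepQ 14111 Q14111 (allL N14111 (tt N12482 F140042) (tt N12137 F140043) (tt N16115 (iv F149214)) (tt N12101 F140044) (tt N12109 F140045) (tt N16117 (iv F149228)) (tt N12456 F140046) (tt N12099 (iv D30038)) (tt N15493 (iv F146080)) (tt N14111 F140047))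
theorem Q14113 : ∀ i, i < 14113 → P i := stepQ 14112 Q14112 (allL N14112 (tt N12483 F140048) (tt N12138 F140049) (tt N13004 F140050) (tt N16117 (iv F149227)) (tt N14112 F140051) (tt N12101 F140052) (tt N16119 D32046) (tt N12100 (iv D30039)) (tt N16120 D32047) (tt N14112 F140053))
theorem Q14114 : ∀ i, i < 14114 → P i := stepQ 14113 Q14113 (allL N14113 (tt N12484 F140054) (tt N12139 F140055) (tt N13005 F140056) (tt N16118 (iv F149232)) (tt N14113 F140057) (tt N15495 (iv F146092)) (tt N14113 F140058) (tt N16120 (iv F149245)) (tt N12100 (iv D30040)) (tt N16121 D32048))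
theorem Q14115 : ∀ i, i < 14115 → P i := stepQ 14114 Q14114 (allL N14114 (tt N12226 F140059) (tt N16106 (iv F149157)) (tt N12103 F140060) (tt N14114 F140061) (tt N12454 F140062) (tt N16105 (iv F149154)) (tt N12102 (iv D30041)) (tt N16122 D32049) (tt N15746 (iv F147420)) (tt N14114 F140063))
theorem Q14116 : ∀ i, i < 14116 → P i := stepQ 14115 Q14115 (allL N14115 (tt N12227 F140064) (tt N12141 F140065) (tt N16105 (iv F149151)) (tt N12104 F140066) (tt N12534 (iv F140069)) (tt N12103 (iv D30042)) (tt N12112 F140067) (tt N16123 D32050) (tt N16124 D32051) (tt N14115 F140068))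
theorem Q14117 : ∀ i, i < 14117 → P i := stepQ 14116 Q14116 (allL N14116 (tt N12228 F140070) (tt N12142 F140071) (tt N16122 (iv F149253)) (tt N12105 F140072) (tt N12456 F140073) (tt N16123 (iv F149262)) (tt N12109 F140074) (tt N12103 (iv D30043)) (tt N15748 (iv F147432)) (tt N14116 F140075))
theorem Q14118 : ∀ i, i < 14118 → P i := stepQ 14117 Q14117 (allL N14117 (tt N12229 F140076) (tt N12143 F140077) (tt N14117 F140078) (tt N16123 (iv F149260)) (tt N12219 F140079) (tt N12105 F140080) (tt N12273 F140081) (tt N12104 (iv D30044)) (tt N16125 D32052) (tt N14117 F140082))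
theorem Q14119 : ∀ i, i < 14119 → P i := stepQ 14118 Q14118 (allL N14118 (tt N12230 F140083) (tt N12144 F140084) (tt N14118 F140085) (tt N16124 (iv F149267)) (tt N12220 F140086) (tt N15750 (iv F147444)) (tt N12114 F140087) (tt N16125 (iv F149275)) (tt N12104 (iv D30045)) (tt N15612 (iv F146687)))
theorem Q14120 : ∀ i, i < 14120 → P i := stepQ 14119 Q14119 (allL N14119 (tt N12106 (iv D30046)) (tt N16104 (iv F149141)) (tt N12119 F140088) (tt N14119 F140089) (tt N16112 (iv F149199)) (tt N12115 F140090) (tt N16126 D32053) (tt N12117 F140091) (tt N15751 (iv F147450)) (tt N14119 F140092))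
theorem Q14121 : ∀ i, i < 14121 → P i := stepQ 14120 Q14120 (allL N14120 (tt N16126 (iv F149276)) (tt N12107 F140093) (tt N12145 F140094) (tt N14120 F140095) (tt N16113 (iv F149206)) (tt N16127 D32054) (tt N12106 (iv D30047)) (tt N16128 D32055) (tt N15752 (iv F147455)) (tt N14120 F140096))
theorem Q14122 : ∀ i, i < 14122 → P i := stepQ 14121 Q14121 (allL N14121 (tt N16106 (iv F149156)) (tt N16127 (iv F149283)) (tt N12108 F140097) (tt N14121 F140098) (tt N16129 D32056) (tt N12107 (iv D30048)) (tt N12117 F140099) (tt N16130 D32057) (tt N16131 D32058) (tt N14121 F140100))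
theorem Q14123 : ∀ i, i < 14123 → P i := stepQ 14122 Q14122 (allL N14122 (tt N16107 (iv F149163)) (tt N16128 (iv F149289)) (tt N12109 F140101) (tt N14122 F140102) (tt N16115 (iv F149216)) (tt N16130 (iv F149301)) (tt N16122 (iv F149256)) (tt N12107 (iv D30049)) (tt N15754 (iv F147462)) (tt N14122 F140103))
theorem Q14124 : ∀ i, i < 14124 → P i := stepQ 14123 Q14123 (allL N14123 (tt N15442 (iv F145763)) (tt N12148 F140104) (tt N16129 (iv F149295)) (tt N14123 F140105) (tt N12108 (iv D30050)) (tt N16116 (iv F149222)) (tt N12118 F140106) (tt N16132 D32059) (tt N16133 D32060) (tt N14123 F140107))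
theorem Q14125 : ∀ i, i < 14125 → P i := stepQ 14124 Q14124 (allL N14124 (tt N16108 (iv F149169)) (tt N12149 F140108) (tt N16130 (iv F149299)) (tt N12110 F140109) (tt N16132 (iv F149308)) (tt N12109 F140110) (tt N16134 D32061) (tt N12108 (iv D30051)) (tt N16135 D32062) (tt N14124 F140111))
theorem Q14126 : ∀ i, i < 14126 → P i := stepQ 14125 Q14125 (allL N14125 (tt N15828 (iv F147784)) (tt N12150 F140112) (tt N16131 (iv F149303)) (tt N12111 F140113) (tt N16133 (iv F149312)) (tt N15757 (iv F147470)) (tt N12120 F140114) (tt N16135 (iv F149322)) (tt N12108 (iv D30052)) (tt N16136 D32063))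
theorem Q14127 : ∀ i, i < 14127 → P i := stepQ 14126 Q14126 (allL N14126 (tt N12184 F140115) (tt N12151 F140116) (tt N14126 F140117) (tt N16134 (iv F149316)) (tt N14126 F140118) (tt N12273 F140119) (tt N12110 (iv D30053)) (tt N12121 F140120) (tt N15951 (iv F148327)) (tt N14126 F140121))
theorem Q14128 : ∀ i, i < 14128 → P i := stepQ 14127 Q14127 (allL N14127 (tt N15937 (iv F148242)) (tt N12152 F140122) (tt N14127 F140123) (tt N16135 (iv F149321)) (tt N14127 F140124) (tt N15759 (iv F147477)) (tt N15951 (iv F148326)) (tt N12111 F140125) (tt N12110 (iv D30054)) (tt N16137 D32064))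
theorem Q14129 : ∀ i, i < 14129 → P i := stepQ 14128 Q14128 (allL N14128 (tt N12362 F140126) (tt N12153 F140127) (tt N14128 F140128) (tt N16136 (iv F149325)) (tt N14128 F140129) (tt N15760 (iv F147482)) (tt N12122 F140130) (tt N16137 (iv F149333)) (tt N14128 F140131) (tt N12111 (iv D30055)))
theorem Q14130 : ∀ i, i < 14130 → P i := stepQ 14129 Q14129 (allL N14129 (tt N16109 (iv F149175)) (tt N12154 F140132) (tt N15706 (iv F147179)) (tt N12114 F140133) (tt N12511 F140134) (tt N12125 F140135) (tt N16124 (iv F149269)) (tt N12243 F140136) (tt N12112 (iv D30056)) (tt N15506 (iv F146143)))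
theorem Q14131 : ∀ i, i < 14131 → P i := stepQ 14130 Q14130 (allL N14130 (tt N12225 F140137) (tt N12117 F140138) (tt N12155 F140139) (tt N14130 F140140) (tt N12485 (iv F140142)) (tt N12116 (iv D30057)) (tt N16127 (iv F149286)) (tt N16104 (iv F149146)) (tt N16138 D32065) (tt N14130 F140141))
theorem Q14132 : ∀ i, i < 14132 → P i := stepQ 14131 Q14131 (allL N14131 (tt N12453 F140143) (tt N12485 F140144) (tt N12118 F140145) (tt N13006 (iv F140148)) (tt N12117 (iv D30058)) (tt N14131 F140146) (tt N16129 (iv F149296)) (tt N16112 (iv F149201)) (tt N16139 D32066) (tt N14131 F140147))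
theorem Q14133 : ∀ i, i < 14133 → P i := stepQ 14132 Q14132 (allL N14132 (tt N15745 F147415) (tt N16138 (iv F149336)) (tt N12120 F140149) (tt N14132 F140150) (tt N16139 (iv F149345)) (tt N12130 F140151) (tt N16131 (iv F149305)) (tt N15751 (iv F147449)) (tt N12117 (iv D30059)) (tt N16140 D32067))
theorem Q14134 : ∀ i, i < 14134 → P i := stepQ 14133 Q14133 (allL N14133 (tt N12134 F140152) (tt N12158 F140153) (tt N16112 (iv F149197)) (tt N14133 F140154) (tt N12119 F140155) (tt N14133 F140156) (tt N16141 D32068) (tt N12118 (iv D30060)) (tt N15818 (iv F147752)) (tt N14133 F140157))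
theorem Q14135 : ∀ i, i < 14135 → P i := stepQ 14134 Q14134 (allL N14134 (tt N15436 (iv F145724)) (tt N12159 F140158) (tt N16139 (iv F149343)) (tt N14134 F140159) (tt N12120 F140160) (tt N16142 D32069) (tt N16133 (iv F149313)) (tt N15818 (iv F147751)) (tt N12118 (iv D30061)) (tt N16143 D32070))
theorem Q14136 : ∀ i, i < 14136 → P i := stepQ 14135 Q14135 (allL N14135 (tt N12145 F140161) (tt N12160 F140162) (tt N16126 (iv F149278)) (tt N12121 F140163) (tt N16141 (iv F149355)) (tt N12250 F140164) (tt N12119 (iv D30062)) (tt N16134 (iv F149318)) (tt N15844 (iv F147863)) (tt N14135 F140165))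
theorem Q14137 : ∀ i, i < 14137 → P i := stepQ 14136 Q14136 (allL N14136 (tt N12327 F140166) (tt N12162 F140167) (tt N16140 (iv F149347)) (tt N12122 F140168) (tt N16143 (iv F149368)) (tt N12132 F140169) (tt N16136 (iv F149326)) (tt N12176 F140170) (tt N14136 F140171) (tt N12120 (iv D30063)))
theorem Q14138 : ∀ i, i < 14138 → P i := stepQ 14137 Q14137 (allL N14137 (tt N16110 (iv F149182)) (tt N12164 F140172) (tt N15283 (iv F144814)) (tt N14137 F140173) (tt N12125 F140174) (tt N15761 (iv F147487)) (tt N15797 (iv F147639)) (tt N15718 (iv F147260)) (tt N12123 (iv D30064)) (tt N15712 (iv F147224)))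
theorem Q14139 : ∀ i, i < 14139 → P i := stepQ 14138 Q14138 (allL N14138 (tt N12170 F140175) (tt N12166 F140176) (tt N15712 (iv F147218)) (tt N12126 F140177) (tt N15718 (iv F147258)) (tt N12243 F140178) (tt N15912 (iv F148138)) (tt N12125 F140179) (tt N12124 (iv D30065)) (tt N15283 (iv F144820)))
theorem Q14140 : ∀ i, i < 14140 → P i := stepQ 14139 Q14139 (allL N14139 (tt N16111 (iv F149189)) (tt N12167 F140180) (tt N15718 (iv F147256)) (tt N12127 F140181) (tt N15712 (iv F147220)) (tt N15506 (iv F146140)) (tt N15800 (iv F147651)) (tt N15283 (iv F144818)) (tt N12209 F140182) (tt N12125 (iv D30066)))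
theorem Q14141 : ∀ i, i < 14141 → P i := stepQ 14140 Q14140 (allL N14140 (tt N12209 F140183) (tt N12129 F140184) (tt N12169 F140185) (tt N12208 (iv F140189)) (tt N12128 (iv D30067)) (tt N14140 F140186) (tt N15804 (iv F147674)) (tt N12212 F140187) (tt N16111 (iv F149195)) (tt N12207 F140188))
theorem Q14142 : ∀ i, i < 14142 → P i := stepQ 14141 Q14141 (allL N14141 (tt N15712 (iv F147217)) (tt N12130 F140190) (tt N12170 F140191) (tt N14141 F140192) (tt N16111 (iv F149193)) (tt N16138 (iv F149340)) (tt N15806 (iv F147685)) (tt N15724 (iv F147298)) (tt N12128 (iv D30068)) (tt N16110 (iv F149188)))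
theorem Q14143 : ∀ i, i < 14143 → P i := stepQ 14142 Q14142 (allL N14142 (tt N12709 F140193) (tt N16111 (iv F149190)) (tt N12131 F140194) (tt N12201 F140195) (tt N12130 F140196) (tt N16144 D32071) (tt N15808 (iv F147696)) (tt N12175 F140197) (tt N12129 (iv D30069)) (tt N12174 F140198))
theorem Q14144 : ∀ i, i < 14144 → P i := stepQ 14143 Q14143 (allL N14143 (tt N12305 F140199) (tt N16110 (iv F149183)) (tt N12132 F140200) (tt N14143 F140201) (tt N12174 F140202) (tt N16140 (iv F149349)) (tt N15810 (iv F147705)) (tt N12172 F140203) (tt N12171 F140204) (tt N12130 (iv D30070)))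
theorem Q14145 : ∀ i, i < 14145 → P i := stepQ 14144 Q14144 (allL N14144 (tt N12743 F140205) (tt N12176 F140206) (tt N16144 (iv F149373)) (tt N12133 F140207) (tt N16142 (iv F149361)) (tt N12131 (iv D30071)) (tt N16145 D32072) (tt N12162 F140208) (tt N14144 F140209) (tt N12161 F140210))
theorem Q14146 : ∀ i, i < 14146 → P i := stepQ 14145 Q14145 (allL N14145 (tt N12814 F140211) (tt N12179 F140212) (tt N12197 F140213) (tt N16145 (iv F149382)) (tt N14145 F140214) (tt N15817 (iv F147745)) (tt N12133 (iv D30072)) (tt N16146 D32073) (tt N14145 F140215) (tt N12163 F140216))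
theorem Q14147 : ∀ i, i < 14147 → P i := stepQ 14146 Q14146 (allL N14146 (tt N16141 (iv F149352)) (tt N12135 F140217) (tt N16113 (iv F149204)) (tt N14146 F140218) (tt N12145 F140219) (tt N16147 D32074) (tt N12134 (iv D30073)) (tt N16148 D32075) (tt N15819 (iv F147757)) (tt N14146 F140220))
theorem Q14148 : ∀ i, i < 14148 → P i := stepQ 14147 Q14147 (allL N14147 (tt N12964 F140221) (tt N16147 (iv F149393)) (tt N12136 F140222) (tt N14147 F140223) (tt N15555 (iv F146383)) (tt N12135 (iv D30074)) (tt N14147 F140224) (tt N16149 D32076) (tt N16150 D32077) (tt N14147 F140225))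
theorem Q14149 : ∀ i, i < 14149 → P i := stepQ 14148 Q14148 (allL N14148 (tt N12965 F140226) (tt N16148 (iv F149398)) (tt N12137 F140227) (tt N14148 F140228) (tt N12147 F140229) (tt N16149 (iv F149405)) (tt N15443 (iv F145775)) (tt N12135 (iv D30075)) (tt N15821 (iv F147766)) (tt N14148 F140230))
theorem Q14150 : ∀ i, i < 14150 → P i := stepQ 14149 Q14149 (allL N14149 (tt N12966 F140231) (tt N16116 (iv F149220)) (tt N15555 (iv F146381)) (tt N14149 F140232) (tt N12136 (iv D30076)) (tt N12148 F140233) (tt N14149 F140234) (tt N16151 D32078) (tt N16152 D32079) (tt N14149 F140235))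
theorem Q14151 : ∀ i, i < 14151 → P i := stepQ 14150 Q14150 (allL N14150 (tt N12967 F140236) (tt N16117 (iv F149226)) (tt N16149 (iv F149403)) (tt N12138 F140237) (tt N16151 (iv F149413)) (tt N12137 F140238) (tt N16153 D32080) (tt N12136 (iv D30077)) (tt N16154 D32081) (tt N14150 F140239))
theorem Q14152 : ∀ i, i < 14152 → P i := stepQ 14151 Q14151 (allL N14151 (tt N12968 F140240) (tt N16118 (iv F149231)) (tt N16150 (iv F149408)) (tt N12139 F140241) (tt N16152 (iv F149418)) (tt N15824 (iv F147774)) (tt N14151 F140242) (tt N16154 (iv F149426)) (tt N12136 (iv D30078)) (tt N16155 D32082))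
theorem Q14153 : ∀ i, i < 14153 → P i := stepQ 14152 Q14152 (allL N14152 (tt N12969 F140243) (tt N16119 (iv F149235)) (tt N14152 F140244) (tt N16153 (iv F149421)) (tt N14152 F140245) (tt N15446 (iv F145795)) (tt N12138 (iv D30079)) (tt N14152 F140246) (tt N16156 D32083) (tt N14152 F140247))
theorem Q14154 : ∀ i, i < 14154 → P i := stepQ 14153 Q14153 (allL N14153 (tt N12970 F140248) (tt N16120 (iv F149242)) (tt N14153 F140249) (tt N16154 (iv F149425)) (tt N14153 F140250) (tt N15826 (iv F147779)) (tt N16156 (iv F149434)) (tt N12139 F140251) (tt N12138 (iv D30080)) (tt N16157 D32084))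
theorem Q14155 : ∀ i, i < 14155 → P i := stepQ 14154 Q14154 (allL N14154 (tt N12971 F140252) (tt N16121 (iv F149247)) (tt N14154 F140253) (tt N16155 (iv F149428)) (tt N14154 F140254) (tt N15827 (iv F147783)) (tt N14154 F140255) (tt N16157 (iv F149439)) (tt N14154 F140256) (tt N12139 (iv D30081)))
theorem Q14156 : ∀ i, i < 14156 → P i := stepQ 14155 Q14155 (allL N14155 (tt N12962 F140257) (tt N16108 (iv F149170)) (tt N12142 F140258) (tt N12181 F140259) (tt N15443 (iv F145773)) (tt N12249 F140260) (tt N12147 F140261) (tt N12140 (iv D30082)) (tt N15830 (iv F147799)) (tt N14155 F140262))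
theorem Q14157 : ∀ i, i < 14157 → P i := stepQ 14156 Q14156 (allL N14156 (tt N12961 F140263) (tt N16123 (iv F149259)) (tt N12249 F140264) (tt N12143 F140265) (tt N12536 F140266) (tt N12142 F140267) (tt N12251 F140268) (tt N12141 (iv D30083)) (tt N16158 D32085) (tt N14156 F140269))
theorem Q14158 : ∀ i, i < 14158 → P i := stepQ 14157 Q14157 (allL N14157 (tt N12699 F140270) (tt N16124 (iv F149266)) (tt N12240 F140271) (tt N12144 F140272) (tt N12512 F140273) (tt N15833 (iv F147811)) (tt N12154 F140274) (tt N16158 (iv F149446)) (tt N12141 (iv D30084)) (tt N15507 (iv F146149)))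
theorem Q14159 : ∀ i, i < 14159 → P i := stepQ 14158 Q14158 (allL N14158 (tt N12972 F140275) (tt N16125 (iv F149271)) (tt N12182 F140276) (tt N16158 (iv F149443)) (tt N12277 F140277) (tt N15835 (iv F147820)) (tt N12267 F140278) (tt N12144 F140279) (tt N12143 (iv D30085)) (tt N15614 (iv F146698)))
theorem Q14160 : ∀ i, i < 14160 → P i := stepQ 14159 Q14159 (allL N14159 (tt N12250 F140280) (tt N12146 F140281) (tt N16127 (iv F149284)) (tt N12183 F140282) (tt N12543 (iv F140285)) (tt N12145 (iv D30086)) (tt N12155 F140283) (tt N16159 D32086) (tt N16160 D32087) (tt N14159 F140284))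
theorem Q14161 : ∀ i, i < 14161 → P i := stepQ 14160 Q14160 (allL N14160 (tt N16134 (iv F149314)) (tt N12147 F140286) (tt N16128 (iv F149290)) (tt N12184 F140287) (tt N16148 (iv F149400)) (tt N16159 (iv F149451)) (tt N16108 (iv F149173)) (tt N12145 (iv D30087)) (tt N15846 (iv F147871)) (tt N14160 F140288))
theorem Q14162 : ∀ i, i < 14162 → P i := stepQ 14161 Q14161 (allL N14161 (tt N12974 F140289) (tt N16159 (iv F149448)) (tt N12149 F140290) (tt N12185 F140291) (tt N15556 (iv F146390)) (tt N12147 F140292) (tt N12253 F140293) (tt N12146 (iv D30088)) (tt N16161 D32088) (tt N14161 F140294))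
theorem Q14163 : ∀ i, i < 14163 → P i := stepQ 14162 Q14162 (allL N14162 (tt N12975 F140295) (tt N16160 (iv F149455)) (tt N12150 F140296) (tt N12186 F140297) (tt N15537 (iv F146307)) (tt N15849 (iv F147883)) (tt N12157 F140298) (tt N16161 (iv F149463)) (tt N12146 (iv D30089)) (tt N16162 D32089))
theorem Q14164 : ∀ i, i < 14164 → P i := stepQ 14163 Q14163 (allL N14163 (tt N12976 F140299) (tt N16132 (iv F149306)) (tt N15556 (iv F146388)) (tt N14163 F140300) (tt N12149 F140301) (tt N16151 (iv F149414)) (tt N16163 D32090) (tt N12148 (iv D30090)) (tt N16164 D32091) (tt N14163 F140302))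
theorem Q14165 : ∀ i, i < 14165 → P i := stepQ 14164 Q14164 (allL N14164 (tt N12977 F140303) (tt N16133 (iv F149310)) (tt N15537 (iv F146305)) (tt N14164 F140304) (tt N12150 F140305) (tt N16165 D32092) (tt N12159 F140306) (tt N16164 (iv F149479)) (tt N12148 (iv D30091)) (tt N16166 D32093))
theorem Q14166 : ∀ i, i < 14166 → P i := stepQ 14165 Q14165 (allL N14165 (tt N12973 F140307) (tt N16134 (iv F149315)) (tt N12253 F140308) (tt N12151 F140309) (tt N16163 (iv F149472)) (tt N12251 F140310) (tt N12149 (iv D30092)) (tt N12160 F140311) (tt N16167 D32094) (tt N14165 F140312))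
theorem Q14167 : ∀ i, i < 14167 → P i := stepQ 14166 Q14166 (allL N14166 (tt N12978 F140313) (tt N16135 (iv F149320)) (tt N16161 (iv F149460)) (tt N12152 F140314) (tt N16164 (iv F149478)) (tt N15853 (iv F147895)) (tt N16167 (iv F149490)) (tt N12150 F140315) (tt N12149 (iv D30093)) (tt N16168 D32095))
theorem Q14168 : ∀ i, i < 14168 → P i := stepQ 14167 Q14167 (allL N14167 (tt N12979 F140316) (tt N16136 (iv F149324)) (tt N16162 (iv F149465)) (tt N12153 F140317) (tt N16166 (iv F149484)) (tt N15854 (iv F147899)) (tt N12162 F140318) (tt N16168 (iv F149494)) (tt N14167 F140319) (tt N12150 (iv D30094)))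
theorem Q14169 : ∀ i, i < 14169 → P i := stepQ 14168 Q14168 (allL N14168 (tt N12824 F140320) (tt N15951 (iv F148323)) (tt N12190 F140321) (tt N16167 (iv F149489)) (tt N14168 F140322) (tt N16169 D32096) (tt N12152 F140323) (tt N12163 F140324) (tt N12151 (iv D30095)) (tt N16146 (iv F149391)))
theorem Q14170 : ∀ i, i < 14170 → P i := stepQ 14169 Q14169 (allL N14169 (tt N12980 F140325) (tt N16137 (iv F149329)) (tt N12191 F140326) (tt N16168 (iv F149493)) (tt N14169 F140327) (tt N15856 (iv F147907)) (tt N16146 (iv F149389)) (tt N12153 F140328) (tt N14169 F140329) (tt N12152 (iv D30096)))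
theorem Q14171 : ∀ i, i < 14171 → P i := stepQ 14170 Q14170 (allL N14170 (tt N12243 F140330) (tt N12157 F140331) (tt N16138 (iv F149337)) (tt N12192 F140332) (tt N12523 F140333) (tt N12170 F140334) (tt N16160 (iv F149458)) (tt N16109 (iv F149181)) (tt N12155 (iv D30097)) (tt N15857 (iv F147914)))
theorem Q14172 : ∀ i, i < 14172 → P i := stepQ 14171 Q14171 (allL N14171 (tt N12698 F140335) (tt N16109 (iv F149176)) (tt N12161 F140336) (tt N12193 F140337) (tt N15518 (iv F146216)) (tt N12174 F140338) (tt N12254 F140339) (tt N12157 F140340) (tt N12156 (iv D30098)) (tt N16144 (iv F149377)))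
theorem Q14173 : ∀ i, i < 14173 → P i := stepQ 14172 Q14172 (allL N14172 (tt N12758 F140341) (tt N15857 (iv F147909)) (tt N12162 F140342) (tt N12194 F140343) (tt N15527 (iv F146259)) (tt N12175 F140344) (tt N16162 (iv F149467)) (tt N16144 (iv F149375)) (tt N14172 F140345) (tt N12157 (iv D30099)))
theorem Q14174 : ∀ i, i < 14174 → P i := stepQ 14173 Q14173 (allL N14173 (tt N12963 F140346) (tt N16141 (iv F149353)) (tt N12252 F140347) (tt N14173 F140348) (tt N12160 F140349) (tt N12546 (iv F140351)) (tt N12158 (iv D30100)) (tt N16163 (iv F149473)) (tt N16170 D32097) (tt N14173 F140350))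
theorem Q14175 : ∀ i, i < 14175 → P i := stepQ 14174 Q14174 (allL N14174 (tt N12732 F140352) (tt N15818 (iv F147747)) (tt N15518 (iv F146214)) (tt N14174 F140353) (tt N12161 F140354) (tt N16143 (iv F149369)) (tt N16170 (iv F149504)) (tt N12159 F140355) (tt N12158 (iv D30101)) (tt N16142 F149364))
theorem Q14176 : ∀ i, i < 14176 → P i := stepQ 14175 Q14175 (allL N14175 (tt N12981 F140356) (tt N16142 (iv F149359)) (tt N15496 (iv F146095)) (tt N14175 F140357) (tt N12176 F140358) (tt N12159 (iv D30102)) (tt N16171 D32098) (tt N16143 (iv F149370)) (tt N14175 F140359) (tt N15818 (iv F147753)))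
theorem Q14177 : ∀ i, i < 14177 → P i := stepQ 14176 Q14176 (allL N14176 (tt N12982 F140360) (tt N16143 (iv F149366)) (tt N15527 (iv F146257)) (tt N14176 F140361) (tt N12162 F140362) (tt N15818 (iv F147750)) (tt N16166 (iv F149485)) (tt N16142 (iv F149362)) (tt N14176 F140363) (tt N12159 (iv D30103)))
theorem Q14178 : ∀ i, i < 14178 → P i := stepQ 14177 Q14177 (allL N14177 (tt N12749 F140364) (tt N15844 (iv F147861)) (tt N12254 F140365) (tt N12163 F140366) (tt N16170 (iv F149503)) (tt N16172 D32099) (tt N12161 F140367) (tt N16167 (iv F149491)) (tt N12160 (iv D30104)) (tt N16145 (iv F149384)))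
theorem Q14179 : ∀ i, i < 14179 → P i := stepQ 14178 Q14178 (allL N14178 (tt N12823 F140368) (tt N15930 (iv F148209)) (tt N12196 F140369) (tt N16172 (iv F149511)) (tt N16173 D32100) (tt N12163 (iv D30105)) (tt N12178 F140370) (tt N16169 (iv F149498)) (tt N12266 F140371) (tt N15817 (iv F147746)))
theorem Q14180 : ∀ i, i < 14180 → P i := stepQ 14179 Q14179 (allL N14179 (tt N12704 F140372) (tt N15912 (iv F148136)) (tt N12237 F140373) (tt N12168 F140374) (tt N15719 (iv F147266)) (tt N16174 D32101) (tt N12166 F140375) (tt N15907 (iv F148112)) (tt N12165 (iv D30106)) (tt N15284 (iv F144826)))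
theorem Q14181 : ∀ i, i < 14181 → P i := stepQ 14180 Q14180 (allL N14180 (tt N12860 F140376) (tt N15931 (iv F148215)) (tt N12198 F140377) (tt N16174 (iv F149521)) (tt N16175 D32102) (tt N12168 (iv D30107)) (tt N12266 F140378) (tt N15909 (iv F148120)) (tt N12178 F140379) (tt N15933 (iv F148225)))
theorem Q14182 : ∀ i, i < 14182 → P i := stepQ 14181 Q14181 (allL N14181 (tt N15718 (iv F147255)) (tt N12172 F140380) (tt N16111 (iv F149191)) (tt N14181 F140381) (tt N12170 F140382) (tt N16176 D32103) (tt N15914 (iv F148147)) (tt N16110 (iv F149187)) (tt N12169 (iv D30108)) (tt N15724 (iv F147300)))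
theorem Q14183 : ∀ i, i < 14183 → P i := stepQ 14182 Q14182 (allL N14182 (tt N15283 (iv F144813)) (tt N12175 F140383) (tt N16110 (iv F149184)) (tt N12199 F140384) (tt N15724 (iv F147297)) (tt N15857 (iv F147912)) (tt N15916 (iv F148153)) (tt N16111 (iv F149194)) (tt N12212 F140385) (tt N12170 (iv D30109)))
theorem Q14184 : ∀ i, i < 14184 → P i := stepQ 14183 Q14183 (allL N14183 (tt N12983 F140386) (tt N16176 (iv F149530)) (tt N12176 F140387) (tt N14183 F140388) (tt N15496 (iv F146097)) (tt N12172 (iv D30110)) (tt N16177 D32104) (tt N16140 (iv F149350)) (tt N14183 F140389) (tt N15751 (iv F147451)))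
theorem Q14185 : ∀ i, i < 14185 → P i := stepQ 14184 Q14184 (allL N14184 (tt N12715 F140390) (tt N15738 (iv F147366)) (tt N12177 F140391) (tt N12200 F140392) (tt N15810 (iv F147704)) (tt N16178 D32105) (tt N12174 F140393) (tt N15920 (iv F148173)) (tt N12173 (iv D30111)) (tt N15808 (iv F147697)))
theorem Q14186 : ∀ i, i < 14186 → P i := stepQ 14185 Q14185 (allL N14185 (tt N12984 F140394) (tt N16145 (iv F149380)) (tt N16177 (iv F149535)) (tt N12179 F140395) (tt N16171 (iv F149507)) (tt N15924 (iv F148189)) (tt N12176 (iv D30112)) (tt N16179 D32106) (tt N14185 F140396) (tt N15844 (iv F147864)))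
theorem Q14187 : ∀ i, i < 14187 → P i := stepQ 14186 Q14186 (allL N14186 (tt N12778 F140397) (tt N15886 (iv F148038)) (tt N16178 (iv F149539)) (tt N12178 F140398) (tt N16180 D32107) (tt N12177 (iv D30113)) (tt N16172 (iv F149512)) (tt N15925 (iv F148192)) (tt N16174 (iv F149523)) (tt N15812 (iv F147717)))
theorem Q14188 : ∀ i, i < 14188 → P i := stepQ 14187 Q14187 (allL N14187 (tt N12859 F140399) (tt N15577 (iv F146492)) (tt N12204 F140400) (tt N16181 D32108) (tt N12178 (iv D30114)) (tt N12180 F140401) (tt N16173 (iv F149517)) (tt N15926 (iv F148196)) (tt N16175 (iv F149528)) (tt N15475 (iv F145963)))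
theorem Q14189 : ∀ i, i < 14189 → P i := stepQ 14188 Q14188 (allL N14188 (tt N12985 F140402) (tt N16146 (iv F149386)) (tt N14188 F140403) (tt N16179 (iv F149544)) (tt N14188 F140404) (tt N15929 (iv F148207)) (tt N16137 (iv F149332)) (tt N12179 (iv D30115)) (tt N14188 F140405) (tt N15951 (iv F148328)))
theorem Q14190 : ∀ i, i < 14190 → P i := stepQ 14189 Q14189 (allL N14189 (tt N12897 F140406) (tt N15567 (iv F146443)) (tt N15552 (iv F146363)) (tt N12180 (iv D30116)) (tt N15469 (iv F145922)) (tt N16181 (iv F149548)) (tt N14189 F140407) (tt N15932 (iv F148220)) (tt N14189 F140408) (tt N15466 F145910))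
theorem Q14191 : ∀ i, i < 14191 → P i := stepQ 14190 Q14190 (allL N14190 (tt N12273 F140409) (tt N12185 F140410) (tt N14190 F140411) (tt N16159 (iv F149449)) (tt N12234 F140412) (tt N12184 F140413) (tt N12229 F140414) (tt N12183 (iv D30117)) (tt N16182 D32109) (tt N14190 F140415))
theorem Q14192 : ∀ i, i < 14192 → P i := stepQ 14191 Q14191 (allL N14191 (tt N12265 F140416) (tt N12186 F140417) (tt N14191 F140418) (tt N16160 (iv F149456)) (tt N12282 F140419) (tt N15954 (iv F148341)) (tt N12192 F140420) (tt N16182 (iv F149554)) (tt N12183 (iv D30118)) (tt N15969 (iv F148415)))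
theorem Q14193 : ∀ i, i < 14193 → P i := stepQ 14192 Q14192 (allL N14192 (tt N12986 F140421) (tt N16182 (iv F149550)) (tt N12188 F140422) (tt N16161 (iv F149461)) (tt N12261 F140423) (tt N15959 (iv F148359)) (tt N12255 F140424) (tt N12186 F140425) (tt N12185 (iv D30119)) (tt N16183 D32110))
theorem Q14194 : ∀ i, i < 14194 → P i := stepQ 14193 Q14193 (allL N14193 (tt N12835 F140426) (tt N15969 (iv F148411)) (tt N12189 F140427) (tt N16162 (iv F149466)) (tt N12880 F140428) (tt N15960 (iv F148363)) (tt N12194 F140429) (tt N16183 (iv F149559)) (tt N14193 F140430) (tt N12186 (iv D30120)))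
theorem Q14195 : ∀ i, i < 14195 → P i := stepQ 14194 Q14194 (allL N14194 (tt N12987 F140431) (tt N14194 F140432) (tt N15277 (iv F144775)) (tt N14194 F140433) (tt N15963 (iv F148377)) (tt N12187 (iv D30121)) (tt N14194 F140434) (tt N12275 F140435) (tt N14194 F140436) (tt N13252 F140437))
theorem Q14196 : ∀ i, i < 14196 → P i := stepQ 14195 Q14195 (allL N14195 (tt N12988 F140438) (tt N14195 F140439) (tt N16183 (iv F149556)) (tt N12191 F140440) (tt N12276 F140441) (tt N15966 (iv F148398)) (tt N12274 F140442) (tt N12189 F140443) (tt N14195 F140444) (tt N12188 (iv D30122)))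
theorem Q14197 : ∀ i, i < 14197 → P i := stepQ 14196 Q14196 (allL N14196 (tt N12989 F140445) (tt N14196 F140446) (tt N16169 (iv F149497)) (tt N12271 F140447) (tt N16184 D32111) (tt N12190 (iv D30123)) (tt N15967 (iv F148403)) (tt N12196 F140448) (tt N12269 F140449) (tt N16185 D32112))
theorem Q14198 : ∀ i, i < 14198 → P i := stepQ 14197 Q14197 (allL N14197 (tt N12990 F140450) (tt N14197 F140451) (tt N16146 (iv F149387)) (tt N12274 F140452) (tt N14197 F140453) (tt N16185 (iv F149570)) (tt N12191 F140454) (tt N12197 F140455) (tt N14197 F140456) (tt N12190 (iv D30124)))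
theorem Q14199 : ∀ i, i < 14199 → P i := stepQ 14198 Q14198 (allL N14198 (tt N12584 F140457) (tt N15611 (iv F146674)) (tt N12195 F140458) (tt N16144 (iv F149374)) (tt N12217 F140459) (tt N12201 F140460) (tt N12256 F140461) (tt N12194 F140462) (tt N14198 F140463) (tt N12193 (iv D30125)))
theorem Q14200 : ∀ i, i < 14200 → P i := stepQ 14199 Q14199 (allL N14199 (tt N12991 F140464) (tt N14199 F140465) (tt N16173 (iv F149515)) (tt N12377 F140466) (tt N12196 (iv D30126)) (tt N14199 F140467) (tt N12204 F140468) (tt N16184 (iv F149565)) (tt N12268 F140469) (tt N15585 (iv F146541)))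
theorem Q14201 : ∀ i, i < 14201 → P i := stepQ 14200 Q14200 (allL N14200 (tt N12992 F140470) (tt N14200 F140471) (tt N15817 (iv F147744)) (tt N12272 F140472) (tt N15585 (iv F146538)) (tt N12197 F140473) (tt N12205 F140474) (tt N16185 (iv F149571)) (tt N15583 F146529) (tt N12196 (iv D30127)))
theorem Q14202 : ∀ i, i < 14202 → P i := stepQ 14201 Q14201 (allL N14201 (tt N12993 F140475) (tt N14201 F140476) (tt N16175 (iv F149525)) (tt N12365 F140477) (tt N12198 (iv D30128)) (tt N14201 F140478) (tt N12268 F140479) (tt N16019 (iv F148641)) (tt N12204 F140480) (tt N15624 (iv F146761)))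
theorem Q14203 : ∀ i, i < 14203 → P i := stepQ 14202 Q14202 (allL N14202 (tt N12708 F140481) (tt N15717 (iv F147250)) (tt N12202 F140482) (tt N16178 (iv F149540)) (tt N12332 (iv F140485)) (tt N12200 (iv D30129)) (tt N12248 F140483) (tt N16021 (iv F148650)) (tt N12238 F140484) (tt N16186 D32113))
theorem Q14204 : ∀ i, i < 14204 → P i := stepQ 14203 Q14203 (allL N14203 (tt N12726 F140486) (tt N15740 (iv F147376)) (tt N12203 F140487) (tt N15808 (iv F147694)) (tt N14203 F140488) (tt N16186 (iv F149575)) (tt N12201 F140489) (tt N16022 (iv F148657)) (tt N12214 F140490) (tt N12200 (iv D30130)))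
theorem Q14205 : ∀ i, i < 14205 → P i := stepQ 14204 Q14204 (allL N14204 (tt N12994 F140491) (tt N14204 F140492) (tt N16186 (iv F149573)) (tt N12205 F140493) (tt N12370 F140494) (tt N12203 F140495) (tt N12272 F140496) (tt N16023 (iv F148664)) (tt N15615 (iv F146704)) (tt N12202 (iv D30131)))
theorem Q14206 : ∀ i, i < 14206 → P i := stepQ 14205 Q14205 (allL N14205 (tt N12235 F140497) (tt N12277 F140498) (tt N14205 F140499) (tt N12664 F140500) (tt N16125 (iv F149273)) (tt N12299 F140501) (tt N12284 F140502) (tt N12220 F140503) (tt N12219 (iv D30132)) (tt N15677 (iv F147013)))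
theorem Q14207 : ∀ i, i < 14207 → P i := stepQ 14206 Q14206 (allL N14206 (tt N16138 (iv F149335)) (tt N12221 (iv D30133)) (tt N12243 F140504) (tt N14206 F140505) (tt N12473 F140506) (tt N15712 (iv F147221)) (tt N16187 D32114) (tt N15706 (iv F147183)) (tt N12225 F140507) (tt N15761 (iv F147490)))
theorem Q14208 : ∀ i, i < 14208 → P i := stepQ 14207 Q14207 (allL N14207 (tt N15746 (iv F147416)) (tt N16187 (iv F149577)) (tt N12222 F140508) (tt N14207 F140509) (tt N12474 F140510) (tt N16188 D32115) (tt N12221 (iv D30134)) (tt N16189 D32116) (tt N12226 F140511) (tt N15762 (iv F147496)))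
theorem Q14209 : ∀ i, i < 14209 → P i := stepQ 14208 Q14208 (allL N14208 (tt N15747 (iv F147422)) (tt N12245 F140512) (tt N16188 (iv F149582)) (tt N12223 F140513) (tt N16190 D32117) (tt N12222 (iv D30135)) (tt N15714 (iv F147234)) (tt N16191 D32118) (tt N16192 D32119) (tt N15763 (iv F147501)))
theorem Q14210 : ∀ i, i < 14210 → P i := stepQ 14209 Q14209 (allL N14209 (tt N15748 (iv F147427)) (tt N12246 F140514) (tt N16189 (iv F149584)) (tt N12224 F140515) (tt N12476 F140516) (tt N16191 (iv F149593)) (tt N15709 (iv F147201)) (tt N12222 (iv D30136)) (tt N12228 F140517) (tt N15764 (iv F147508)))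
theorem Q14211 : ∀ i, i < 14211 → P i := stepQ 14210 Q14210 (allL N14210 (tt N15749 (iv F147434)) (tt N12247 F140518) (tt N14210 F140519) (tt N16191 (iv F149592)) (tt N12309 F140520) (tt N12224 F140521) (tt N16193 D32120) (tt N12223 (iv D30137)) (tt N16194 D32121) (tt N15765 (iv F147514)))
theorem Q14212 : ∀ i, i < 14212 → P i := stepQ 14211 Q14211 (allL N14211 (tt N15750 (iv F147440)) (tt N12248 F140522) (tt N14211 F140523) (tt N16192 (iv F149595)) (tt N12310 F140524) (tt N12230 F140525) (tt N15717 (iv F147254)) (tt N16194 (iv F149604)) (tt N12223 (iv D30138)) (tt N16195 D32122))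
theorem Q14213 : ∀ i, i < 14213 → P i := stepQ 14212 Q14212 (allL N14212 (tt N16127 (iv F149282)) (tt N12226 F140526) (tt N12250 F140527) (tt N14212 F140528) (tt N12486 F140529) (tt N16126 (iv F149280)) (tt N12225 (iv D30139)) (tt N16196 D32123) (tt N16187 (iv F149581)) (tt N14212 F140530))
theorem Q14214 : ∀ i, i < 14214 → P i := stepQ 14213 Q14213 (allL N14213 (tt N16105 (iv F149149)) (tt N16126 (iv F149277)) (tt N12227 F140531) (tt N14213 F140532) (tt N16197 D32124) (tt N12226 (iv D30140)) (tt N16104 F149148) (tt N16198 D32125) (tt N16199 D32126) (tt N14213 F140533))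
theorem Q14215 : ∀ i, i < 14215 → P i := stepQ 14214 Q14214 (allL N14214 (tt N16122 (iv F149252)) (tt N16196 (iv F149609)) (tt N12228 F140534) (tt N14214 F140535) (tt N12488 F140536) (tt N16198 (iv F149622)) (tt N16107 (iv F149167)) (tt N12226 (iv D30141)) (tt N16189 (iv F149587)) (tt N14214 F140537))
theorem Q14216 : ∀ i, i < 14216 → P i := stepQ 14215 Q14215 (allL N14215 (tt N12534 F140538) (tt N12252 F140539) (tt N16197 (iv F149615)) (tt N12231 F140540) (tt N12227 (iv D30142)) (tt N12489 F140541) (tt N12533 F140542) (tt N16200 D32127) (tt N16201 D32128) (tt N14215 F140543))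
theorem Q14217 : ∀ i, i < 14217 → P i := stepQ 14216 Q14216 (allL N14216 (tt N16123 (iv F149258)) (tt N12253 F140544) (tt N16198 (iv F149620)) (tt N12229 F140545) (tt N16200 (iv F149629)) (tt N12228 F140546) (tt N16159 (iv F149452)) (tt N12227 (iv D30143)) (tt N16202 D32129) (tt N14216 F140547))
theorem Q14218 : ∀ i, i < 14218 → P i := stepQ 14217 Q14217 (allL N14217 (tt N16124 (iv F149265)) (tt N12254 F140548) (tt N16199 (iv F149624)) (tt N12230 F140549) (tt N16201 (iv F149636)) (tt N16192 (iv F149596)) (tt N16109 (iv F149180)) (tt N16202 (iv F149640)) (tt N12227 (iv D30144)) (tt N16203 D32130))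
theorem Q14219 : ∀ i, i < 14219 → P i := stepQ 14218 Q14218 (allL N14218 (tt N16125 (iv F149270)) (tt N12255 F140550) (tt N14218 F140551) (tt N16202 (iv F149639)) (tt N12235 F140552) (tt N16194 (iv F149603)) (tt N16182 (iv F149553)) (tt N12230 F140553) (tt N12229 (iv D30145)) (tt N16204 D32131))
theorem Q14220 : ∀ i, i < 14220 → P i := stepQ 14219 Q14219 (allL N14219 (tt N15612 (iv F146682)) (tt N12256 F140554) (tt N14219 F140555) (tt N16203 (iv F149642)) (tt N12236 F140556) (tt N16195 (iv F149608)) (tt N15611 F146681) (tt N16204 (iv F149647)) (tt N14219 F140557) (tt N12230 (iv D30146)))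
theorem Q14221 : ∀ i, i < 14221 → P i := stepQ 14220 Q14220 (allL N14220 (tt N12629 F140558) (tt N12257 F140559) (tt N13150 F140560) (tt N16200 (iv F149628)) (tt N12232 F140561) (tt N12494 F140562) (tt N12638 F140563) (tt N12231 (iv D30147)) (tt N16205 D32132) (tt N14220 F140564))
theorem Q14222 : ∀ i, i < 14222 → P i := stepQ 14221 Q14221 (allL N14221 (tt N12597 F140565) (tt N12258 F140566) (tt N13119 F140567) (tt N16201 (iv F149635)) (tt N12233 F140568) (tt N15988 (iv F148509)) (tt N12596 F140569) (tt N16205 (iv F149654)) (tt N12231 (iv D30148)) (tt N16206 D32133))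
theorem Q14223 : ∀ i, i < 14223 → P i := stepQ 14222 Q14222 (allL N14222 (tt N12664 F140570) (tt N12259 F140571) (tt N13178 F140572) (tt N12235 F140573) (tt N16205 (iv F149652)) (tt N12319 F140574) (tt N12684 F140575) (tt N12233 F140576) (tt N12232 (iv D30149)) (tt N16207 D32134))
theorem Q14224 : ∀ i, i < 14224 → P i := stepQ 14223 Q14223 (allL N14223 (tt N12656 F140577) (tt N12260 F140578) (tt N13171 F140579) (tt N12236 F140580) (tt N16206 (iv F149658)) (tt N12320 F140581) (tt N12655 F140582) (tt N16207 (iv F149667)) (tt N14223 F140583) (tt N12233 (iv D30150)))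
theorem Q14225 : ∀ i, i < 14225 → P i := stepQ 14224 Q14224 (allL N14224 (tt N12284 F140584) (tt N12261 F140585) (tt N14224 F140586) (tt N12684 F140587) (tt N16182 (iv F149552)) (tt N16208 D32135) (tt N12235 F140588) (tt N12282 F140589) (tt N12234 (iv D30151)) (tt N16025 (iv F148677)))
theorem Q14226 : ∀ i, i < 14226 → P i := stepQ 14225 Q14225 (allL N14225 (tt N15677 (iv F147006)) (tt N12262 F140590) (tt N14225 F140591) (tt N16207 (iv F149664)) (tt N16204 (iv F149646)) (tt N12322 F140592) (tt N16025 (iv F148675)) (tt N12236 F140593) (tt N14225 F140594) (tt N12235 (iv D30152)))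
theorem Q14227 : ∀ i, i < 14227 → P i := stepQ 14226 Q14226 (allL N14226 (tt N12705 F140595) (tt N15714 (iv F147232)) (tt N16174 (iv F149520)) (tt N12238 F140596) (tt N16209 D32136) (tt N12237 (iv D30153)) (tt N12245 F140597) (tt N16210 D32137) (tt N16178 (iv F149542)) (tt N15285 (iv F144831)))
theorem Q14228 : ∀ i, i < 14228 → P i := stepQ 14227 Q14227 (allL N14227 (tt N12706 F140598) (tt N15715 (iv F147237)) (tt N15907 (iv F148109)) (tt N12239 F140599) (tt N15721 (iv F147277)) (tt N16210 (iv F149681)) (tt N12695 F140600) (tt N12237 (iv D30154)) (tt N12697 F140601) (tt N15286 (iv F144838)))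
theorem Q14229 : ∀ i, i < 14229 → P i := stepQ 14228 Q14228 (allL N14228 (tt N12707 F140602) (tt N15716 (iv F147244)) (tt N12263 F140603) (tt N16210 (iv F149680)) (tt N12331 F140604) (tt N12239 F140605) (tt N16211 D32138) (tt N12238 (iv D30155)) (tt N16021 (iv F148651)) (tt N15287 (iv F144844)))
theorem Q14230 : ∀ i, i < 14230 → P i := stepQ 14229 Q14229 (allL N14229 (tt N12700 F140606) (tt N15708 (iv F147193)) (tt N15833 (iv F147809)) (tt N12241 F140607) (tt N16212 D32139) (tt N12240 (iv D30156)) (tt N12694 F140608) (tt N16213 D32140) (tt N15829 (iv F147793)) (tt N15508 (iv F146154)))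
theorem Q14231 : ∀ i, i < 14231 → P i := stepQ 14230 Q14230 (allL N14230 (tt N12701 F140609) (tt N15709 (iv F147198)) (tt N16158 (iv F149442)) (tt N12242 F140610) (tt N12514 F140611) (tt N16213 (iv F149692)) (tt N12246 F140612) (tt N12240 (iv D30157)) (tt N12249 F140613) (tt N15509 (iv F146161)))
theorem Q14232 : ∀ i, i < 14232 → P i := stepQ 14231 Q14231 (allL N14231 (tt N12702 F140614) (tt N15710 (iv F147205)) (tt N12264 F140615) (tt N16213 (iv F149691)) (tt N15516 (iv F146203)) (tt N12242 F140616) (tt N16214 D32141) (tt N12241 (iv D30158)) (tt N15938 (iv F148252)) (tt N15510 (iv F146167)))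
theorem Q14233 : ∀ i, i < 14233 → P i := stepQ 14232 Q14232 (allL N14232 (tt N16160 (iv F149454)) (tt N12244 F140617) (tt N16187 (iv F149578)) (tt N12265 F140618) (tt N12524 F140619) (tt N16215 D32142) (tt N12243 (iv D30159)) (tt N16216 D32143) (tt N12250 F140620) (tt N15858 (iv F147919)))
theorem Q14234 : ∀ i, i < 14234 → P i := stepQ 14233 Q14233 (allL N14233 (tt N15252 (iv F144606)) (tt N16215 (iv F149697)) (tt N12245 F140621) (tt N12266 F140622) (tt N16217 D32144) (tt N12244 (iv D30160)) (tt N16174 (iv F149522)) (tt N16218 D32145) (tt N16172 (iv F149513)) (tt N15859 (iv F147923)))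
theorem Q14235 : ∀ i, i < 14235 → P i := stepQ 14234 Q14234 (allL N14234 (tt N15253 (iv F144613)) (tt N16216 (iv F149699)) (tt N12246 F140623) (tt N12267 F140624) (tt N12526 F140625) (tt N16218 (iv F149707)) (tt N16158 (iv F149445)) (tt N12244 (iv D30161)) (tt N12251 F140626) (tt N15860 (iv F147929)))
theorem Q14236 : ∀ i, i < 14236 → P i := stepQ 14235 Q14235 (allL N14235 (tt N15254 (iv F144621)) (tt N16190 (iv F149588)) (tt N16217 (iv F149703)) (tt N12336 F140627) (tt N12245 (iv D30162)) (tt N12527 F140628) (tt N16209 (iv F149678)) (tt N16219 D32146) (tt N16220 D32147) (tt N15861 (iv F147933)))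
theorem Q14237 : ∀ i, i < 14237 → P i := stepQ 14236 Q14236 (allL N14236 (tt N15255 (iv F144627)) (tt N16191 (iv F149591)) (tt N16218 (iv F149705)) (tt N12247 F140629) (tt N16219 (iv F149709)) (tt N12246 F140630) (tt N16221 D32148) (tt N12245 (iv D30163)) (tt N16222 D32149) (tt N15862 (iv F147937)))
theorem Q14238 : ∀ i, i < 14238 → P i := stepQ 14237 Q14237 (allL N14237 (tt N15256 (iv F144632)) (tt N16192 (iv F149594)) (tt N16172 (iv F149510)) (tt N12248 F140631) (tt N16220 (iv F149712)) (tt N12254 F140632) (tt N16178 (iv F149541)) (tt N16222 (iv F149716)) (tt N12245 (iv D30164)) (tt N16223 D32150))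
theorem Q14239 : ∀ i, i < 14239 → P i := stepQ 14238 Q14238 (allL N14238 (tt N15257 (iv F144638)) (tt N16193 (iv F149597)) (tt N12270 F140633) (tt N16221 (iv F149713)) (tt N12339 F140634) (tt N16214 (iv F149695)) (tt N12247 (iv D30165)) (tt N16211 (iv F149686)) (tt N16224 D32151) (tt N15864 (iv F147944)))
theorem Q14240 : ∀ i, i < 14240 → P i := stepQ 14239 Q14239 (allL N14239 (tt N15258 (iv F144645)) (tt N16194 (iv F149600)) (tt N12271 F140635) (tt N16222 (iv F149714)) (tt N12340 F140636) (tt N12255 F140637) (tt N16224 (iv F149721)) (tt N12248 F140638) (tt N12247 (iv D30166)) (tt N16225 D32152))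
theorem Q14241 : ∀ i, i < 14241 → P i := stepQ 14240 Q14240 (allL N14240 (tt N15259 (iv F144651)) (tt N16195 (iv F149605)) (tt N12272 F140639) (tt N16223 (iv F149717)) (tt N12341 F140640) (tt N12256 F140641) (tt N16186 (iv F149576)) (tt N16225 (iv F149725)) (tt N15866 (iv F147954)) (tt N12248 (iv D30167)))
theorem Q14242 : ∀ i, i < 14242 → P i := stepQ 14241 Q14241 (allL N14241 (tt N16159 (iv F149447)) (tt N12251 F140642) (tt N16196 (iv F149610)) (tt N12273 F140643) (tt N12545 F140644) (tt N16134 (iv F149317)) (tt N16123 (iv F149263)) (tt N12250 (iv D30168)) (tt N16216 (iv F149702)) (tt N14241 F140645))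
theorem Q14243 : ∀ i, i < 14243 → P i := stepQ 14242 Q14242 (allL N14242 (tt N15260 (iv F144658)) (tt N16200 (iv F149627)) (tt N16163 (iv F149470)) (tt N12257 F140646) (tt N12253 F140647) (tt N12549 F140648) (tt N15556 (iv F146391)) (tt N12252 (iv D30169)) (tt N16226 D32153) (tt N14242 F140649))
theorem Q14244 : ∀ i, i < 14244 → P i := stepQ 14243 Q14243 (allL N14243 (tt N15261 (iv F144666)) (tt N16201 (iv F149634)) (tt N16170 (iv F149501)) (tt N12258 F140650) (tt N12254 F140651) (tt N16227 D32154) (tt N15518 (iv F146217)) (tt N16226 (iv F149728)) (tt N12252 (iv D30170)) (tt N16228 D32155))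
theorem Q14245 : ∀ i, i < 14245 → P i := stepQ 14244 Q14244 (allL N14244 (tt N15262 (iv F144672)) (tt N16202 (iv F149638)) (tt N16167 (iv F149488)) (tt N12255 F140652) (tt N16226 (iv F149727)) (tt N16222 (iv F149715)) (tt N16161 (iv F149462)) (tt N12254 F140653) (tt N12253 (iv D30171)) (tt N16229 D32156))
theorem Q14246 : ∀ i, i < 14246 → P i := stepQ 14245 Q14245 (allL N14245 (tt N15263 (iv F144678)) (tt N16203 (iv F149641)) (tt N16145 (iv F149381)) (tt N12256 F140654) (tt N16228 (iv F149732)) (tt N16223 (iv F149718)) (tt N16144 F149378) (tt N16229 (iv F149735)) (tt N14245 F140655) (tt N12254 (iv D30172)))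
theorem Q14247 : ∀ i, i < 14247 → P i := stepQ 14246 Q14246 (allL N14246 (tt N15264 (iv F144684)) (tt N16204 (iv F149644)) (tt N12274 F140656) (tt N16229 (iv F149734)) (tt N12262 F140657) (tt N16225 (iv F149724)) (tt N16183 (iv F149558)) (tt N12256 F140658) (tt N14246 F140659) (tt N12255 (iv D30173)))
theorem Q14248 : ∀ i, i < 14248 → P i := stepQ 14247 Q14247 (allL N14247 (tt N15265 (iv F144691)) (tt N16205 (iv F149650)) (tt N14247 F140660) (tt N16226 (iv F149726)) (tt N12259 F140661) (tt N16230 D32157) (tt N15647 (iv F146874)) (tt N12258 F140662) (tt N12257 (iv D30174)) (tt N16231 D32158))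
theorem Q14249 : ∀ i, i < 14249 → P i := stepQ 14248 Q14248 (allL N14248 (tt N15266 (iv F144697)) (tt N15988 (iv F148506)) (tt N14248 F140663) (tt N16227 (iv F149729)) (tt N12356 F140664) (tt N12258 (iv D30175)) (tt N16232 D32159) (tt N16230 (iv F149739)) (tt N12558 F140665) (tt N16233 D32160))
theorem Q14250 : ∀ i, i < 14250 → P i := stepQ 14249 Q14249 (allL N14249 (tt N15267 (iv F144702)) (tt N16206 (iv F149656)) (tt N14249 F140666) (tt N16228 (iv F149731)) (tt N12260 F140667) (tt N16233 (iv F149750)) (tt N15619 (iv F146729)) (tt N16231 (iv F149743)) (tt N14249 F140668) (tt N12258 (iv D30176)))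
theorem Q14251 : ∀ i, i < 14251 → P i := stepQ 14250 Q14250 (allL N14250 (tt N15268 (iv F144708)) (tt N16207 (iv F149662)) (tt N14250 F140669) (tt N12262 F140670) (tt N16231 (iv F149742)) (tt N12359 F140671) (tt N15686 (iv F147072)) (tt N12260 F140672) (tt N14250 F140673) (tt N12259 (iv D30177)))
theorem Q14252 : ∀ i, i < 14252 → P i := stepQ 14251 Q14251 (allL N14251 (tt N15269 (iv F144716)) (tt N16208 (iv F149670)) (tt N12275 F140674) (tt N15700 (iv F147155)) (tt N16234 D32161) (tt N12261 (iv D30178)) (tt N12360 F140675) (tt N15277 (iv F144778)) (tt N14251 F140676) (tt N16235 D32162))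
theorem Q14253 : ∀ i, i < 14253 → P i := stepQ 14252 Q14252 (allL N14252 (tt N12882 F140677) (tt N16025 (iv F148672)) (tt N12276 F140678) (tt N15686 (iv F147071)) (tt N16183 (iv F149557)) (tt N16235 (iv F149756)) (tt N12262 F140679) (tt N12880 F140680) (tt N14252 F140681) (tt N12261 (iv D30179)))
theorem Q14254 : ∀ i, i < 14254 → P i := stepQ 14253 Q14253 (allL N14253 (tt N13199 F140682) (tt N14253 F140683) (tt N16211 (iv F149683)) (tt N15984 (iv F148486)) (tt N12368 F140684) (tt N13197 F140685) (tt N12263 (iv D30180)) (tt N12270 F140686) (tt N16015 (iv F148624)) (tt N15935 (iv F148236)))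
theorem Q14255 : ∀ i, i < 14255 → P i := stepQ 14254 Q14254 (allL N14254 (tt N13198 F140687) (tt N14254 F140688) (tt N16214 (iv F149694)) (tt N15940 (iv F148263)) (tt N15625 (iv F146764)) (tt N12270 F140689) (tt N12264 (iv D30181)) (tt N13197 F140690) (tt N15939 (iv F148259)) (tt N15617 (iv F146717)))
theorem Q14256 : ∀ i, i < 14256 → P i := stepQ 14255 Q14255 (allL N14255 (tt N15954 (iv F148338)) (tt N12266 F140691) (tt N14255 F140692) (tt N16215 (iv F149698)) (tt N16236 D32163) (tt N12265 (iv D30182)) (tt N15931 (iv F148218)) (tt N16237 D32164) (tt N15930 F148213) (tt N15970 (iv F148418)))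
theorem Q14257 : ∀ i, i < 14257 → P i := stepQ 14256 Q14256 (allL N14256 (tt N16182 (iv F149549)) (tt N12267 F140693) (tt N14256 F140694) (tt N16216 (iv F149700)) (tt N12284 F140695) (tt N16237 (iv F149764)) (tt N16125 (iv F149274)) (tt N12265 (iv D30183)) (tt N12273 F140696) (tt N15971 (iv F148423)))
theorem Q14258 : ∀ i, i < 14258 → P i := stepQ 14257 Q14257 (allL N14257 (tt N15270 (iv F144724)) (tt N16236 (iv F149759)) (tt N12268 F140697) (tt N16238 D32165) (tt N12266 (iv D30184)) (tt N12285 F140698) (tt N16175 (iv F149527)) (tt N16239 D32166) (tt N16173 (iv F149518)) (tt N15972 (iv F148427)))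
theorem Q14259 : ∀ i, i < 14259 → P i := stepQ 14258 Q14258 (allL N14258 (tt N15271 (iv F144731)) (tt N16237 (iv F149762)) (tt N12269 F140699) (tt N16218 (iv F149706)) (tt N16239 (iv F149768)) (tt N12267 F140700) (tt N16240 D32167) (tt N12266 (iv D30185)) (tt N16169 (iv F149499)) (tt N15973 (iv F148432)))
theorem Q14260 : ∀ i, i < 14260 → P i := stepQ 14259 Q14259 (allL N14259 (tt N15272 (iv F144737)) (tt N14259 F140701) (tt N16239 (iv F149767)) (tt N12376 F140702) (tt N12269 F140703) (tt N12287 F140704) (tt N16241 D32168) (tt N12268 (iv D30186)) (tt N16184 (iv F149566)) (tt N15975 (iv F148443)))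
theorem Q14261 : ∀ i, i < 14261 → P i := stepQ 14260 Q14260 (allL N14260 (tt N15273 (iv F144744)) (tt N14260 F140705) (tt N16240 (iv F149770)) (tt N12270 F140706) (tt N16241 (iv F149773)) (tt N15940 F148266) (tt N12269 (iv D30187)) (tt N15984 (iv F148488)) (tt N15967 (iv F148405)) (tt N15976 (iv F148447)))
theorem Q14262 : ∀ i, i < 14262 → P i := stepQ 14261 Q14261 (allL N14261 (tt N15274 (iv F144751)) (tt N14261 F140707) (tt N16224 (iv F149719)) (tt N15967 (iv F148402)) (tt N12381 F140708) (tt N15965 (iv F148392)) (tt N12271 F140709) (tt N16015 (iv F148623)) (tt N12270 (iv D30188)) (tt N16242 D32169))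
theorem Q14263 : ∀ i, i < 14263 → P i := stepQ 14262 Q14262 (allL N14262 (tt N15275 (iv F144758)) (tt N14262 F140710) (tt N16225 (iv F149722)) (tt N16185 (iv F149569)) (tt N12382 F140711) (tt N12274 F140712) (tt N16242 (iv F149776)) (tt N12272 F140713) (tt N15979 (iv F148463)) (tt N12271 (iv D30189)))
theorem Q14264 : ∀ i, i < 14264 → P i := stepQ 14263 Q14263 (allL N14263 (tt N15276 (iv F144765)) (tt N14263 F140714) (tt N16234 (iv F149751)) (tt N16243 D32170) (tt N12275 (iv D30190)) (tt N15962 F148373) (tt N12392 F140715) (tt N15963 (iv F148379)) (tt N14263 F140716) (tt N16244 D32171))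
theorem Q14265 : ∀ i, i < 14265 → P i := stepQ 14264 Q14264 (allL N14264 (tt N13253 F140717) (tt N14264 F140718) (tt N16235 (iv F149755)) (tt N14264 F140719) (tt N16244 (iv F149787)) (tt N12276 F140720) (tt N12393 F140721) (tt N13252 F140722) (tt N16245 D32172) (tt N12275 (iv D30191)))
theorem Q14266 : ∀ i, i < 14266 → P i := stepQ 14265 Q14265 (allL N14265 (tt N13259 F140723) (tt N14265 F140724) (tt N15295 (iv F144891)) (tt N15681 (iv F147034)) (tt N12279 F140725) (tt N15936 (iv F148240)) (tt N16246 D32173) (tt N12278 (iv D30192)) (tt N13257 F140726) (tt N15678 (iv F147019)))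
theorem Q14267 : ∀ i, i < 14267 → P i := stepQ 14266 Q14266 (allL N14266 (tt N15235 (iv F144467)) (tt N14266 F140727) (tt N15298 (iv F144911)) (tt N12280 F140728) (tt N16246 (iv F149802)) (tt N12288 F140729) (tt N12279 (iv D30193)) (tt N14266 F140730) (tt N15233 (iv F144456)) (tt N15679 (iv F147025)))
theorem Q14268 : ∀ i, i < 14268 → P i := stepQ 14267 Q14267 (allL N14267 (tt N15234 (iv F144458)) (tt N14267 F140731) (tt N12670 F140732) (tt N15233 (iv F144452)) (tt N15683 (iv F147051)) (tt N14267 F140733) (tt N12281 F140734) (tt N14267 F140735) (tt N12280 (iv D30194)) (tt N15238 (iv F144501)))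
theorem Q14269 : ∀ i, i < 14269 → P i := stepQ 14268 Q14268 (allL N14268 (tt N12283 F140736) (tt N15277 (iv F144774)) (tt N14268 F140737) (tt N12683 F140738) (tt N16247 D32174) (tt N12282 (iv D30195)) (tt N14268 F140739) (tt N16208 (iv F149674)) (tt N14268 F140740) (tt N16024 (iv F148670)))
theorem Q14270 : ∀ i, i < 14270 → P i := stepQ 14269 Q14269 (allL N14269 (tt N16247 (iv F149805)) (tt N12285 F140741) (tt N14269 F140742) (tt N16248 D32175) (tt N12283 (iv D30196)) (tt N16236 (iv F149761)) (tt N14269 F140743) (tt N16249 D32176) (tt N14269 F140744) (tt N16026 (iv F148681)))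
theorem Q14271 : ∀ i, i < 14271 → P i := stepQ 14270 Q14270 (allL N14270 (tt N16208 (iv F149669)) (tt N12286 F140745) (tt N14270 F140746) (tt N12686 F140747) (tt N16249 (iv F149815)) (tt N12284 F140748) (tt N16250 D32177) (tt N12283 (iv D30197)) (tt N14270 F140749) (tt N16027 (iv F148687)))
theorem Q14272 : ∀ i, i < 14272 → P i := stepQ 14271 Q14271 (allL N14271 (tt N15279 (iv F144787)) (tt N16248 (iv F149809)) (tt N12396 F140750) (tt N12285 (iv D30198)) (tt N12687 F140751) (tt N16238 (iv F149766)) (tt N14271 F140752) (tt N16251 D32178) (tt N14271 F140753) (tt N16029 (iv F148700)))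
theorem Q14273 : ∀ i, i < 14273 → P i := stepQ 14272 Q14272 (allL N14272 (tt N15280 (iv F144793)) (tt N16249 (iv F149813)) (tt N12287 F140754) (tt N16251 (iv F149825)) (tt N12286 F140755) (tt N16239 (iv F149769)) (tt N16252 D32179) (tt N12285 (iv D30199)) (tt N14272 F140756) (tt N16030 (iv F148705)))
theorem Q14274 : ∀ i, i < 14274 → P i := stepQ 14273 Q14273 (allL N14273 (tt N15281 (iv F144798)) (tt N16250 (iv F149818)) (tt N12288 F140757) (tt N12689 F140758) (tt N16252 (iv F149829)) (tt N15298 F144915) (tt N12286 (iv D30200)) (tt N14273 F140759) (tt N14273 F140760) (tt N16031 (iv F148710)))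
theorem Q14275 : ∀ i, i < 14275 → P i := stepQ 14274 Q14274 (allL N14274 (tt N15282 (iv F144806)) (tt N14274 F140761) (tt N16252 (iv F149828)) (tt N12399 F140762) (tt N12288 F140763) (tt N16253 D32180) (tt N12287 (iv D30201)) (tt N14274 F140764) (tt N14274 F140765) (tt N16033 (iv F148724)))
theorem Q14276 : ∀ i, i < 14276 → P i := stepQ 14275 Q14275 (allL N14275 (tt N12307 F140766) (tt N15285 (iv F144828)) (tt N15906 (iv F148105)) (tt N12290 F140767) (tt N16254 D32181) (tt N12289 (iv D30202)) (tt N15763 (iv F147500)) (tt N16255 D32182) (tt N16256 D32183) (tt N15714 (iv F147235)))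
theorem Q14277 : ∀ i, i < 14277 → P i := stepQ 14276 Q14276 (allL N14276 (tt N12308 F140768) (tt N15286 (iv F144833)) (tt N15905 (iv F148100)) (tt N12291 F140769) (tt N12695 F140770) (tt N16255 (iv F149839)) (tt N15721 (iv F147278)) (tt N12289 (iv D30203)) (tt N12293 F140771) (tt N15715 (iv F147242)))
theorem Q14278 : ∀ i, i < 14278 → P i := stepQ 14277 Q14277 (allL N14277 (tt N12309 F140772) (tt N15287 (iv F144840)) (tt N14277 F140773) (tt N16255 (iv F149838)) (tt N15749 (iv F147437)) (tt N12291 F140774) (tt N16257 D32184) (tt N12290 (iv D30204)) (tt N16258 D32185) (tt N15716 (iv F147248)))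
theorem Q14279 : ∀ i, i < 14279 → P i := stepQ 14278 Q14278 (allL N14278 (tt N12310 F140775) (tt N15288 (iv F144846)) (tt N14278 F140776) (tt N16256 (iv F149842)) (tt N15750 (iv F147443)) (tt N12295 F140777) (tt N15766 (iv F147520)) (tt N16258 (iv F149849)) (tt N12290 (iv D30205)) (tt N16259 D32186))
theorem Q14280 : ∀ i, i < 14280 → P i := stepQ 14279 Q14279 (allL N14279 (tt N12313 F140778) (tt N15292 (iv F144872)) (tt N12917 F140779) (tt N12294 F140780) (tt N12915 F140781) (tt N12293 F140782) (tt N16260 D32187) (tt N12292 (iv D30206)) (tt N16261 D32188) (tt N12400 F140783))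
theorem Q14281 : ∀ i, i < 14281 → P i := stepQ 14280 Q14280 (allL N14280 (tt N12314 F140784) (tt N15293 (iv F144878)) (tt N12918 F140785) (tt N12295 F140786) (tt N12916 F140787) (tt N16256 (iv F149843)) (tt N14280 F140788) (tt N16261 (iv F149863)) (tt N12292 (iv D30207)) (tt N16262 D32189))
theorem Q14282 : ∀ i, i < 14282 → P i := stepQ 14281 Q14281 (allL N14281 (tt N12315 F140789) (tt N15294 (iv F144883)) (tt N14281 F140790) (tt N16260 (iv F149855)) (tt N12298 F140791) (tt N16053 (iv F148836)) (tt N12294 (iv D30208)) (tt N14281 F140792) (tt N16263 D32190) (tt N12402 F140793))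
theorem Q14283 : ∀ i, i < 14283 → P i := stepQ 14282 Q14282 (allL N14282 (tt N12316 F140794) (tt N15295 (iv F144890)) (tt N14282 F140795) (tt N16261 (iv F149861)) (tt N12299 F140796) (tt N16258 (iv F149848)) (tt N16263 (iv F149873)) (tt N12295 F140797) (tt N12294 (iv D30209)) (tt N16264 D32191))
theorem Q14284 : ∀ i, i < 14284 → P i := stepQ 14283 Q14283 (allL N14283 (tt N12317 F140798) (tt N15296 (iv F144895)) (tt N14283 F140799) (tt N16262 (iv F149866)) (tt N12300 F140800) (tt N16259 (iv F149852)) (tt N14283 F140801) (tt N16264 (iv F149878)) (tt N12404 F140802) (tt N12295 (iv D30210)))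
theorem Q14285 : ∀ i, i < 14285 → P i := stepQ 14284 Q14284 (allL N14284 (tt N12318 F140803) (tt N15297 (iv F144901)) (tt N12942 F140804) (tt N12298 F140805) (tt N12939 F140806) (tt N14284 F140807) (tt N12296 (iv D30211)) (tt N14284 F140808) (tt N16265 D32192) (tt N12405 F140809))
theorem Q14286 : ∀ i, i < 14286 → P i := stepQ 14285 Q14285 (allL N14285 (tt N12319 F140810) (tt N12666 F140811) (tt N12943 F140812) (tt N12299 F140813) (tt N12940 F140814) (tt N12664 F140815) (tt N16265 (iv F149885)) (tt N12297 F140816) (tt N12296 (iv D30212)) (tt N16266 D32193))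
theorem Q14287 : ∀ i, i < 14287 → P i := stepQ 14286 Q14286 (allL N14286 (tt N12320 F140817) (tt N12657 F140818) (tt N12944 F140819) (tt N12300 F140820) (tt N12941 F140821) (tt N12656 F140822) (tt N14286 F140823) (tt N16266 (iv F149894)) (tt N12407 F140824) (tt N12297 (iv D30213)))
theorem Q14288 : ∀ i, i < 14288 → P i := stepQ 14287 Q14287 (allL N14287 (tt N12321 F140825) (tt N15298 (iv F144910)) (tt N14287 F140826) (tt N16265 (iv F149883)) (tt N16263 (iv F149872)) (tt N16250 (iv F149821)) (tt N12299 F140827) (tt N14287 F140828) (tt N12298 (iv D30214)) (tt N16267 D32194))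
theorem Q14289 : ∀ i, i < 14289 → P i := stepQ 14288 Q14288 (allL N14288 (tt N12322 F140829) (tt N15299 (iv F144917)) (tt N14288 F140830) (tt N16266 (iv F149891)) (tt N16264 (iv F149877)) (tt N15677 (iv F147010)) (tt N16267 (iv F149898)) (tt N12300 F140831) (tt N12409 F140832) (tt N12299 (iv D30215)))
theorem Q14290 : ∀ i, i < 14290 → P i := stepQ 14289 Q14289 (allL N14289 (tt N16140 (iv F149346)) (tt N12301 (iv D30216)) (tt N12327 F140833) (tt N14289 F140834) (tt N15484 (iv F146021)) (tt N12305 F140835) (tt N16268 D32195) (tt N12983 F140836) (tt N14289 F140837) (tt N15745 (iv F147414)))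
theorem Q14291 : ∀ i, i < 14291 → P i := stepQ 14290 Q14290 (allL N14290 (tt N15762 (iv F147491)) (tt N16268 (iv F149901)) (tt N12302 F140838) (tt N14290 F140839) (tt N15485 (iv F146029)) (tt N16269 D32196) (tt N12301 (iv D30217)) (tt N16270 D32197) (tt N14290 F140840) (tt N15746 (iv F147421)))
theorem Q14292 : ∀ i, i < 14292 → P i := stepQ 14291 Q14291 (allL N14291 (tt N15763 (iv F147497)) (tt N12329 F140841) (tt N16269 (iv F149905)) (tt N12303 F140842) (tt N16271 D32198) (tt N12302 (iv D30218)) (tt N12307 F140843) (tt N16272 D32199) (tt N16273 D32200) (tt N15747 (iv F147426)))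
theorem Q14293 : ∀ i, i < 14293 → P i := stepQ 14292 Q14292 (allL N14292 (tt N15764 (iv F147502)) (tt N12330 F140844) (tt N16270 (iv F149908)) (tt N12304 F140845) (tt N15487 (iv F146040)) (tt N16272 (iv F149915)) (tt N15481 (iv F146004)) (tt N12302 (iv D30219)) (tt N14292 F140846) (tt N15748 (iv F147433)))
theorem Q14294 : ∀ i, i < 14294 → P i := stepQ 14293 Q14293 (allL N14293 (tt N15765 (iv F147509)) (tt N12331 F140847) (tt N14293 F140848) (tt N16272 (iv F149914)) (tt N15716 (iv F147246)) (tt N12304 F140849) (tt N16274 D32201) (tt N12303 (iv D30220)) (tt N16275 D32202) (tt N15749 (iv F147439)))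
theorem Q14295 : ∀ i, i < 14295 → P i := stepQ 14294 Q14294 (allL N14294 (tt N15766 (iv F147515)) (tt N12332 F140850) (tt N14294 F140851) (tt N16273 (iv F149917)) (tt N15717 (iv F147252)) (tt N14294 F140852) (tt N12310 F140853) (tt N16275 (iv F149926)) (tt N12303 (iv D30221)) (tt N16276 D32203))
theorem Q14296 : ∀ i, i < 14296 → P i := stepQ 14295 Q14295 (allL N14295 (tt N15810 (iv F147701)) (tt N12306 F140854) (tt N12333 F140855) (tt N14295 F140856) (tt N12715 F140857) (tt N16277 D32204) (tt N12305 (iv D30222)) (tt N16278 D32205) (tt N12311 F140858) (tt N15743 (iv F147400)))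
theorem Q14297 : ∀ i, i < 14297 → P i := stepQ 14296 Q14296 (allL N14296 (tt N15906 (iv F148104)) (tt N16277 (iv F149931)) (tt N12307 F140859) (tt N14296 F140860) (tt N16279 D32206) (tt N12306 (iv D30223)) (tt N16269 (iv F149907)) (tt N16280 D32207) (tt N16080 (iv F149007)) (tt N15767 (iv F147523)))
theorem Q14298 : ∀ i, i < 14298 → P i := stepQ 14297 Q14297 (allL N14297 (tt N15905 (iv F148099)) (tt N16278 (iv F149934)) (tt N12308 F140861) (tt N14297 F140862) (tt N12717 F140863) (tt N16280 (iv F149944)) (tt N15776 (iv F147560)) (tt N12306 (iv D30224)) (tt N12312 F140864) (tt N15768 (iv F147529)))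
theorem Q14299 : ∀ i, i < 14299 → P i := stepQ 14298 Q14298 (allL N14298 (tt N16254 (iv F149835)) (tt N12336 F140865) (tt N16279 (iv F149940)) (tt N16190 (iv F149589)) (tt N12307 (iv D30225)) (tt N12718 F140866) (tt N16271 (iv F149912)) (tt N16281 D32208) (tt N16282 D32209) (tt N15769 (iv F147532)))
theorem Q14300 : ∀ i, i < 14300 → P i := stepQ 14299 Q14299 (allL N14299 (tt N16255 (iv F149837)) (tt N12337 F140867) (tt N16280 (iv F149942)) (tt N12309 F140868) (tt N16281 (iv F149946)) (tt N12308 F140869) (tt N16283 D32210) (tt N12307 (iv D30226)) (tt N16284 D32211) (tt N15770 (iv F147536)))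
theorem Q14301 : ∀ i, i < 14301 → P i := stepQ 14300 Q14300 (allL N14300 (tt N16256 (iv F149840)) (tt N12338 F140870) (tt N16080 (iv F149005)) (tt N12310 F140871) (tt N16282 (iv F149949)) (tt N12314 F140872) (tt N16273 (iv F149919)) (tt N16284 (iv F149955)) (tt N12307 (iv D30227)) (tt N16285 D32212))
theorem Q14302 : ∀ i, i < 14302 → P i := stepQ 14301 Q14301 (allL N14301 (tt N16257 (iv F149844)) (tt N12339 F140873) (tt N14301 F140874) (tt N16283 (iv F149951)) (tt N16193 (iv F149599)) (tt N15780 (iv F147575)) (tt N12309 (iv D30228)) (tt N16274 (iv F149922)) (tt N16286 D32213) (tt N15772 (iv F147543)))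
theorem Q14303 : ∀ i, i < 14303 → P i := stepQ 14302 Q14302 (allL N14302 (tt N16258 (iv F149846)) (tt N12340 F140875) (tt N14302 F140876) (tt N16284 (iv F149953)) (tt N16194 (iv F149602)) (tt N12316 F140877) (tt N16286 (iv F149961)) (tt N12310 F140878) (tt N12309 (iv D30229)) (tt N16287 D32214))
theorem Q14304 : ∀ i, i < 14304 → P i := stepQ 14303 Q14303 (allL N14303 (tt N16259 (iv F149850)) (tt N12341 F140879) (tt N14303 F140880) (tt N16285 (iv F149957)) (tt N16195 (iv F149607)) (tt N12317 F140881) (tt N16276 (iv F149930)) (tt N16287 (iv F149965)) (tt N15774 (iv F147551)) (tt N12310 (iv D30230)))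
theorem Q14305 : ∀ i, i < 14305 → P i := stepQ 14304 Q14304 (allL N14304 (tt N15917 (iv F148155)) (tt N12312 F140882) (tt N12343 F140883) (tt N14304 F140884) (tt N12724 F140885) (tt N16066 (iv F148929)) (tt N12792 F140886) (tt N12311 (iv D30231)) (tt N16278 (iv F149939)) (tt N12410 F140887))
theorem Q14306 : ∀ i, i < 14306 → P i := stepQ 14305 Q14305 (allL N14305 (tt N16260 (iv F149853)) (tt N12349 F140888) (tt N16078 (iv F148994)) (tt N12315 F140889) (tt N16075 (iv F148976)) (tt N16068 (iv F148938)) (tt N12313 (iv D30232)) (tt N14305 F140890) (tt N16288 D32215) (tt N12411 F140891))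
theorem Q14307 : ∀ i, i < 14307 → P i := stepQ 14306 Q14306 (allL N14306 (tt N16261 (iv F149859)) (tt N12350 F140892) (tt N16079 (iv F149000)) (tt N12316 F140893) (tt N16076 (iv F148984)) (tt N16284 (iv F149954)) (tt N16288 (iv F149968)) (tt N12314 F140894) (tt N12313 (iv D30233)) (tt N16289 D32216))
theorem Q14308 : ∀ i, i < 14308 → P i := stepQ 14307 Q14307 (allL N14307 (tt N16262 (iv F149864)) (tt N12351 F140895) (tt N16081 (iv F149009)) (tt N12317 F140896) (tt N16077 (iv F148990)) (tt N16285 (iv F149958)) (tt N14307 F140897) (tt N16289 (iv F149972)) (tt N12413 F140898) (tt N12314 (iv D30234)))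
theorem Q14309 : ∀ i, i < 14309 → P i := stepQ 14308 Q14308 (allL N14308 (tt N16263 (iv F149870)) (tt N12352 F140899) (tt N14308 F140900) (tt N16288 (iv F149967)) (tt N12321 F140901) (tt N16290 D32217) (tt N12316 F140902) (tt N14308 F140903) (tt N12315 (iv D30235)) (tt N16291 D32218))
theorem Q14310 : ∀ i, i < 14310 → P i := stepQ 14309 Q14309 (allL N14309 (tt N16264 (iv F149875)) (tt N12353 F140904) (tt N14309 F140905) (tt N16289 (iv F149971)) (tt N12322 F140906) (tt N16287 (iv F149964)) (tt N16291 (iv F149980)) (tt N12317 F140907) (tt N12415 F140908) (tt N12316 (iv D30236)))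
theorem Q14311 : ∀ i, i < 14311 → P i := stepQ 14310 Q14310 (allL N14310 (tt N16265 (iv F149880)) (tt N12358 F140909) (tt N16094 (iv F149081)) (tt N12321 F140910) (tt N16092 (iv F149070)) (tt N16292 D32219) (tt N12319 F140911) (tt N14310 F140912) (tt N12318 (iv D30237)) (tt N16293 D32220))
theorem Q14312 : ∀ i, i < 14312 → P i := stepQ 14311 Q14311 (allL N14311 (tt N16266 (iv F149888)) (tt N12359 F140913) (tt N16095 (iv F149089)) (tt N12322 F140914) (tt N16093 (iv F149076)) (tt N16207 (iv F149665)) (tt N16293 (iv F149992)) (tt N12320 F140915) (tt N12417 F140916) (tt N12319 (iv D30238)))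
theorem Q14313 : ∀ i, i < 14313 → P i := stepQ 14312 Q14312 (allL N14312 (tt N16250 (iv F149817)) (tt N12360 F140917) (tt N14312 F140918) (tt N16292 (iv F149986)) (tt N16294 D32221) (tt N12321 (iv D30239)) (tt N16208 (iv F149673)) (tt N14312 F140919) (tt N14312 F140920) (tt N16295 D32222))
theorem Q14314 : ∀ i, i < 14314 → P i := stepQ 14313 Q14313 (allL N14313 (tt N16267 (iv F149896)) (tt N12361 F140921) (tt N14313 F140922) (tt N16293 (iv F149991)) (tt N16291 (iv F149979)) (tt N16295 (iv F150001)) (tt N12322 F140923) (tt N14313 F140924) (tt N12419 F140925) (tt N12321 (iv D30240)))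
theorem Q14315 : ∀ i, i < 14315 → P i := stepQ 14314 Q14314 (allL N14314 (tt N16143 (iv F149365)) (tt N12323 (iv D30241)) (tt N15484 (iv F146019)) (tt N14314 F140926) (tt N12327 F140927) (tt N12732 F140928) (tt N16296 D32223) (tt N12981 F140929) (tt N14314 F140930) (tt N15436 (iv F145731)))
theorem Q14316 : ∀ i, i < 14316 → P i := stepQ 14315 Q14315 (allL N14315 (tt N15326 (iv F145068)) (tt N16296 (iv F150003)) (tt N12324 F140931) (tt N14315 F140932) (tt N12328 F140933) (tt N16297 D32224) (tt N12323 (iv D30242)) (tt N16298 D32225) (tt N14315 F140934) (tt N15437 (iv F145737)))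
theorem Q14317 : ∀ i, i < 14317 → P i := stepQ 14316 Q14316 (allL N14316 (tt N15327 (iv F145075)) (tt N15486 (iv F146033)) (tt N16297 (iv F150007)) (tt N12325 F140935) (tt N16299 D32226) (tt N12324 (iv D30243)) (tt N12734 F140936) (tt N16300 D32227) (tt N16301 D32228) (tt N15438 (iv F145742)))
theorem Q14318 : ∀ i, i < 14318 → P i := stepQ 14317 Q14317 (allL N14317 (tt N15328 (iv F145080)) (tt N15487 (iv F146038)) (tt N16298 (iv F150010)) (tt N12326 F140937) (tt N12330 F140938) (tt N16300 (iv F150017)) (tt N15452 (iv F145837)) (tt N12324 (iv D30244)) (tt N14317 F140939) (tt N15439 (iv F145749)))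
theorem Q14319 : ∀ i, i < 14319 → P i := stepQ 14318 Q14318 (allL N14318 (tt N15329 (iv F145087)) (tt N15488 (iv F146045)) (tt N14318 F140940) (tt N16300 (iv F150016)) (tt N15722 (iv F147284)) (tt N12326 F140941) (tt N16302 D32229) (tt N12325 (iv D30245)) (tt N16303 D32230) (tt N15440 (iv F145755)))
theorem Q14320 : ∀ i, i < 14320 → P i := stepQ 14319 Q14319 (allL N14319 (tt N15330 (iv F145093)) (tt N15489 (iv F146051)) (tt N14319 F140942) (tt N16301 (iv F150018)) (tt N15723 (iv F147290)) (tt N14319 F140943) (tt N12737 F140944) (tt N16303 (iv F150025)) (tt N12325 (iv D30246)) (tt N16304 D32231))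
theorem Q14321 : ∀ i, i < 14321 → P i := stepQ 14320 Q14320 (allL N14320 (tt N16136 (iv F149323)) (tt N12328 F140945) (tt N16268 (iv F149902)) (tt N12362 F140946) (tt N16296 (iv F150005)) (tt N16305 D32232) (tt N12327 (iv D30247)) (tt N16306 D32233) (tt N14320 F140947) (tt N15828 (iv F147788)))
theorem Q14322 : ∀ i, i < 14322 → P i := stepQ 14321 Q14321 (allL N14321 (tt N15331 (iv F145099)) (tt N16305 (iv F150032)) (tt N12329 F140948) (tt N12363 F140949) (tt N16307 D32234) (tt N12328 (iv D30248)) (tt N12334 F140950) (tt N16308 D32235) (tt N16309 D32236) (tt N15829 (iv F147794)))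
theorem Q14323 : ∀ i, i < 14323 → P i := stepQ 14322 Q14322 (allL N14322 (tt N15332 (iv F145105)) (tt N16306 (iv F150035)) (tt N12330 F140951) (tt N12364 F140952) (tt N16298 (iv F150012)) (tt N16308 (iv F150043)) (tt N15837 (iv F147832)) (tt N12328 (iv D30249)) (tt N14322 F140953) (tt N15830 (iv F147800)))
theorem Q14324 : ∀ i, i < 14324 → P i := stepQ 14323 Q14323 (allL N14323 (tt N15333 (iv F145112)) (tt N16271 (iv F149911)) (tt N16307 (iv F150039)) (tt N16209 (iv F149677)) (tt N12329 (iv D30250)) (tt N16299 (iv F150014)) (tt N12336 F140954) (tt N16310 D32237) (tt N16311 D32238) (tt N15831 (iv F147803)))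
theorem Q14325 : ∀ i, i < 14325 → P i := stepQ 14324 Q14324 (allL N14324 (tt N15334 (iv F145117)) (tt N16272 (iv F149913)) (tt N16308 (iv F150041)) (tt N12331 F140955) (tt N16310 (iv F150048)) (tt N12330 F140956) (tt N16312 D32239) (tt N12329 (iv D30251)) (tt N16313 D32240) (tt N15832 (iv F147807)))
theorem Q14326 : ∀ i, i < 14326 → P i := stepQ 14325 Q14325 (allL N14325 (tt N15335 (iv F145122)) (tt N16273 (iv F149916)) (tt N16309 (iv F150044)) (tt N12332 F140957) (tt N16311 (iv F150049)) (tt N14325 F140958) (tt N12338 F140959) (tt N16313 (iv F150055)) (tt N12329 (iv D30252)) (tt N16314 D32241))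
theorem Q14327 : ∀ i, i < 14327 → P i := stepQ 14326 Q14326 (allL N14326 (tt N15336 (iv F145127)) (tt N16274 (iv F149920)) (tt N12368 F140960) (tt N16312 (iv F150051)) (tt N16211 (iv F149684)) (tt N15841 (iv F147848)) (tt N12331 (iv D30253)) (tt N12339 F140961) (tt N16315 D32242) (tt N15834 (iv F147817)))
theorem Q14328 : ∀ i, i < 14328 → P i := stepQ 14327 Q14327 (allL N14327 (tt N15337 (iv F145134)) (tt N16275 (iv F149923)) (tt N12369 F140962) (tt N16313 (iv F150053)) (tt N16021 F148652) (tt N14327 F140963) (tt N16315 (iv F150060)) (tt N12332 F140964) (tt N12331 (iv D30254)) (tt N16316 D32243))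
theorem Q14329 : ∀ i, i < 14329 → P i := stepQ 14328 Q14328 (allL N14328 (tt N15338 (iv F145140)) (tt N16276 (iv F149927)) (tt N12370 F140965) (tt N16314 (iv F150056)) (tt N16186 (iv F149574)) (tt N14328 F140966) (tt N12341 F140967) (tt N16316 (iv F150064)) (tt N15613 F146692) (tt N12332 (iv D30255)))
theorem Q14330 : ∀ i, i < 14330 → P i := stepQ 14329 Q14329 (allL N14329 (tt N15793 (iv F147619)) (tt N12334 F140968) (tt N16277 (iv F149932)) (tt N12371 F140969) (tt N16317 D32244) (tt N12333 (iv D30256)) (tt N16305 (iv F150034)) (tt N16318 D32245) (tt N16319 D32246) (tt N15730 F147322))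
theorem Q14331 : ∀ i, i < 14331 → P i := stepQ 14330 Q14330 (allL N14330 (tt N15814 (iv F147725)) (tt N12335 F140970) (tt N16278 (iv F149935)) (tt N12372 F140971) (tt N12779 F140972) (tt N16318 (iv F150069)) (tt N12796 F140973) (tt N12333 (iv D30257)) (tt N12343 F140974) (tt N15744 (iv F147407)))
theorem Q14332 : ∀ i, i < 14332 → P i := stepQ 14331 Q14331 (allL N14331 (tt N15339 (iv F145147)) (tt N16317 (iv F150065)) (tt N12336 F140975) (tt N16320 D32247) (tt N12334 (iv D30258)) (tt N12780 F140976) (tt N16307 (iv F150040)) (tt N16321 D32248) (tt N16322 D32249) (tt N15867 (iv F147959)))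
theorem Q14333 : ∀ i, i < 14333 → P i := stepQ 14332 Q14332 (allL N14332 (tt N15340 (iv F145152)) (tt N16318 (iv F150067)) (tt N12337 F140977) (tt N12374 F140978) (tt N16321 (iv F150076)) (tt N12335 F140979) (tt N16323 D32250) (tt N12334 (iv D30259)) (tt N16324 D32251) (tt N15868 (iv F147965)))
theorem Q14334 : ∀ i, i < 14334 → P i := stepQ 14333 Q14333 (allL N14333 (tt N15341 (iv F145158)) (tt N16319 (iv F150070)) (tt N12338 F140980) (tt N12375 F140981) (tt N16322 (iv F150079)) (tt N12346 F140982) (tt N16309 (iv F150047)) (tt N16324 (iv F150085)) (tt N12334 (iv D30260)) (tt N16325 D32252))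
theorem Q14335 : ∀ i, i < 14335 → P i := stepQ 14334 Q14334 (allL N14334 (tt N15342 (iv F145164)) (tt N16281 (iv F149945)) (tt N16321 (iv F150075)) (tt N16219 (iv F149708)) (tt N12337 F140983) (tt N12783 F140984) (tt N16326 D32253) (tt N12336 (iv D30261)) (tt N16327 D32254) (tt N15869 (iv F147969)))
theorem Q14336 : ∀ i, i < 14336 → P i := stepQ 14335 Q14335 (allL N14335 (tt N15343 (iv F145168)) (tt N16282 (iv F149948)) (tt N16322 (iv F150078)) (tt N16220 (iv F149711)) (tt N12338 F140985) (tt N16328 D32255) (tt N16311 (iv F150050)) (tt N16327 (iv F150093)) (tt N12336 (iv D30262)) (tt N16329 D32256))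
theorem Q14337 : ∀ i, i < 14337 → P i := stepQ 14336 Q14336 (allL N14336 (tt N15344 (iv F145170)) (tt N16283 (iv F149950)) (tt N16323 (iv F150080)) (tt N12339 F140986) (tt N16326 (iv F150091)) (tt N15881 (iv F148019)) (tt N12337 (iv D30263)) (tt N16312 (iv F150052)) (tt N16330 D32257) (tt N15871 (iv F147976)))
theorem Q14338 : ∀ i, i < 14338 → P i := stepQ 14337 Q14337 (allL N14337 (tt N15345 (iv F145174)) (tt N16284 (iv F149952)) (tt N16324 (iv F150082)) (tt N12340 F140987) (tt N16327 (iv F150092)) (tt N12350 F140988) (tt N16330 (iv F150098)) (tt N12338 F140989) (tt N12337 (iv D30264)) (tt N16331 D32258))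
theorem Q14339 : ∀ i, i < 14339 → P i := stepQ 14338 Q14338 (allL N14338 (tt N15346 (iv F145178)) (tt N16285 (iv F149956)) (tt N16325 (iv F150087)) (tt N12341 F140990) (tt N16329 (iv F150096)) (tt N12351 F140991) (tt N16314 (iv F150058)) (tt N16331 (iv F150101)) (tt N15873 (iv F147986)) (tt N12338 (iv D30265)))
theorem Q14340 : ∀ i, i < 14340 → P i := stepQ 14339 Q14339 (allL N14339 (tt N15347 (iv F145183)) (tt N16286 (iv F149959)) (tt N12381 F140992) (tt N16330 (iv F150097)) (tt N16224 (iv F149720)) (tt N16332 D32259) (tt N12340 F140993) (tt N16315 (iv F150061)) (tt N12339 (iv D30266)) (tt N16333 D32260))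
theorem Q14341 : ∀ i, i < 14341 → P i := stepQ 14340 Q14340 (allL N14340 (tt N15348 (iv F145186)) (tt N16287 (iv F149962)) (tt N12382 F140994) (tt N16331 (iv F150099)) (tt N16225 (iv F149723)) (tt N12353 F140995) (tt N16333 (iv F150105)) (tt N12341 F140996) (tt N15875 (iv F147994)) (tt N12340 (iv D30267)))
theorem Q14342 : ∀ i, i < 14342 → P i := stepQ 14341 Q14341 (allL N14341 (tt N15922 (iv F148179)) (tt N12345 F140997) (tt N16066 (iv F148926)) (tt N12383 F140998) (tt N16064 (iv F148917)) (tt N12343 F140999) (tt N16334 D32261) (tt N12342 (iv D30268)) (tt N16335 D32262) (tt N12420 F141000))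
theorem Q14343 : ∀ i, i < 14343 → P i := stepQ 14342 Q14342 (allL N14342 (tt N16070 (iv F148944)) (tt N12346 F141001) (tt N16067 (iv F148932)) (tt N12384 F141002) (tt N16065 (iv F148923)) (tt N16319 (iv F150072)) (tt N14342 F141003) (tt N16335 (iv F150113)) (tt N12342 (iv D30269)) (tt N16052 (iv F148831)))
theorem Q14344 : ∀ i, i < 14344 → P i := stepQ 14343 Q14343 (allL N14343 (tt N15349 (iv F145191)) (tt N16064 (iv F148914)) (tt N12347 F141004) (tt N14343 F141005) (tt N12345 F141006) (tt N12792 F141007) (tt N16336 D32263) (tt N12344 (iv D30270)) (tt N16337 D32264) (tt N12421 F141008))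
theorem Q14345 : ∀ i, i < 14345 → P i := stepQ 14344 Q14344 (allL N14344 (tt N15350 (iv F145198)) (tt N16065 (iv F148920)) (tt N12348 F141009) (tt N14344 F141010) (tt N12346 F141011) (tt N16338 D32265) (tt N14344 F141012) (tt N16337 (iv F150122)) (tt N12344 (iv D30271)) (tt N16339 D32266))
theorem Q14346 : ∀ i, i < 14346 → P i := stepQ 14345 Q14345 (allL N14345 (tt N15351 (iv F145205)) (tt N16334 (iv F150106)) (tt N12349 F141013) (tt N12385 F141014) (tt N16336 (iv F150116)) (tt N16075 (iv F148977)) (tt N12345 (iv D30272)) (tt N14345 F141015) (tt N16340 D32267) (tt N12423 F141016))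
theorem Q14347 : ∀ i, i < 14347 → P i := stepQ 14346 Q14346 (allL N14346 (tt N15352 (iv F145212)) (tt N16335 (iv F150111)) (tt N12350 F141017) (tt N12386 F141018) (tt N16337 (iv F150121)) (tt N16324 (iv F150084)) (tt N16340 (iv F150134)) (tt N12346 F141019) (tt N12345 (iv D30273)) (tt N16341 D32268))
theorem Q14348 : ∀ i, i < 14348 → P i := stepQ 14347 Q14347 (allL N14347 (tt N12906 F141020) (tt N16052 (iv F148828)) (tt N12351 F141021) (tt N12387 F141022) (tt N16339 (iv F150129)) (tt N16325 (iv F150089)) (tt N14347 F141023) (tt N16341 (iv F150139)) (tt N12425 F141024) (tt N12346 (iv D30274)))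
theorem Q14349 : ∀ i, i < 14349 → P i := stepQ 14348 Q14348 (allL N14348 (tt N15353 (iv F145218)) (tt N16075 (iv F148973)) (tt N16336 (iv F150114)) (tt N12354 F141025) (tt N12349 F141026) (tt N16334 (iv F150108)) (tt N12347 (iv D30275)) (tt N14348 F141027) (tt N16342 D32269) (tt N12426 F141028))
theorem Q14350 : ∀ i, i < 14350 → P i := stepQ 14349 Q14349 (allL N14349 (tt N15354 (iv F145223)) (tt N16076 (iv F148981)) (tt N16337 (iv F150119)) (tt N12355 F141029) (tt N12350 F141030) (tt N16343 D32270) (tt N16342 (iv F150143)) (tt N12348 F141031) (tt N12347 (iv D30276)) (tt N16344 D32271))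
theorem Q14351 : ∀ i, i < 14351 → P i := stepQ 14350 Q14350 (allL N14350 (tt N15355 (iv F145227)) (tt N15878 (iv F148007)) (tt N16338 (iv F150123)) (tt N12356 F141032) (tt N16328 (iv F150094)) (tt N12348 (iv D30277)) (tt N16345 D32272) (tt N16343 (iv F150146)) (tt N12797 F141033) (tt N16346 D32273))
theorem Q14352 : ∀ i, i < 14352 → P i := stepQ 14351 Q14351 (allL N14351 (tt N15356 (iv F145230)) (tt N16077 (iv F148987)) (tt N16339 (iv F150127)) (tt N12357 F141034) (tt N12351 F141035) (tt N16346 (iv F150156)) (tt N14351 F141036) (tt N16344 (iv F150150)) (tt N12428 F141037) (tt N12348 (iv D30278)))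
theorem Q14353 : ∀ i, i < 14353 → P i := stepQ 14352 Q14352 (allL N14352 (tt N15357 (iv F145236)) (tt N16288 (iv F149966)) (tt N16340 (iv F150132)) (tt N12352 F141038) (tt N16342 (iv F150142)) (tt N16347 D32274) (tt N12350 F141039) (tt N14352 F141040) (tt N12349 (iv D30279)) (tt N16348 D32275))
theorem Q14354 : ∀ i, i < 14354 → P i := stepQ 14353 Q14353 (allL N14353 (tt N15358 (iv F145240)) (tt N16289 (iv F149970)) (tt N16341 (iv F150137)) (tt N12353 F141041) (tt N16344 (iv F150149)) (tt N16331 (iv F150100)) (tt N16348 (iv F150160)) (tt N12351 F141042) (tt N12430 F141043) (tt N12350 (iv D30280)))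
theorem Q14355 : ∀ i, i < 14355 → P i := stepQ 14354 Q14354 (allL N14354 (tt N15359 (iv F145245)) (tt N16290 (iv F149974)) (tt N12390 F141044) (tt N16347 (iv F150157)) (tt N16349 D32276) (tt N12352 (iv D30281)) (tt N16332 (iv F150103)) (tt N14354 F141045) (tt N16084 (iv F149025)) (tt N16350 D32277))
theorem Q14356 : ∀ i, i < 14356 → P i := stepQ 14355 Q14355 (allL N14355 (tt N15360 (iv F145249)) (tt N16291 (iv F149977)) (tt N12391 F141046) (tt N16348 (iv F150159)) (tt N12361 F141047) (tt N16350 (iv F150167)) (tt N12353 F141048) (tt N14355 F141049) (tt N12432 F141050) (tt N12352 (iv D30282)))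
theorem Q14357 : ∀ i, i < 14357 → P i := stepQ 14356 Q14356 (allL N14356 (tt N15361 (iv F145255)) (tt N12385 F141051) (tt N14356 F141052) (tt N16334 (iv F150107)) (tt N14356 F141053) (tt N12354 (iv D30283)) (tt N12383 F141054) (tt N14356 F141055) (tt N16351 D32278) (tt N12433 F141056))
theorem Q14358 : ∀ i, i < 14358 → P i := stepQ 14357 Q14357 (allL N14357 (tt N15362 (iv F145262)) (tt N16092 (iv F149068)) (tt N14357 F141057) (tt N16342 (iv F150141)) (tt N12358 F141058) (tt N16352 D32279) (tt N12355 F141059) (tt N14357 F141060) (tt N12354 (iv D30284)) (tt N16353 D32280))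
theorem Q14359 : ∀ i, i < 14359 → P i := stepQ 14358 Q14358 (allL N14358 (tt N15363 (iv F145267)) (tt N15990 (iv F148516)) (tt N14358 F141061) (tt N16343 (iv F150145)) (tt N16230 (iv F149738)) (tt N12355 (iv D30285)) (tt N16354 D32281) (tt N12356 F141062) (tt N12801 F141063) (tt N16355 D32282))
theorem Q14360 : ∀ i, i < 14360 → P i := stepQ 14359 Q14359 (allL N14359 (tt N15364 (iv F145271)) (tt N16093 (iv F149074)) (tt N14359 F141064) (tt N16344 (iv F150148)) (tt N12359 F141065) (tt N16355 (iv F150184)) (tt N16353 (iv F150178)) (tt N12357 F141066) (tt N12435 F141067) (tt N12355 (iv D30286)))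
theorem Q14361 : ∀ i, i < 14361 → P i := stepQ 14360 Q14360 (allL N14360 (tt N15365 (iv F145276)) (tt N15943 (iv F148279)) (tt N14360 F141068) (tt N16345 (iv F150152)) (tt N16232 (iv F149746)) (tt N14360 F141069) (tt N12356 (iv D30287)) (tt N16356 D32283) (tt N12802 F141070) (tt N16357 D32284))
theorem Q14362 : ∀ i, i < 14362 → P i := stepQ 14361 Q14361 (allL N14361 (tt N15366 (iv F145280)) (tt N15991 (iv F148521)) (tt N14361 F141071) (tt N16346 (iv F150155)) (tt N16233 (iv F149749)) (tt N12357 F141072) (tt N16357 (iv F150191)) (tt N16355 (iv F150185)) (tt N16004 (iv F148581)) (tt N12356 (iv D30288)))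
theorem Q14363 : ∀ i, i < 14363 → P i := stepQ 14362 Q14362 (allL N14362 (tt N15367 (iv F145283)) (tt N16292 (iv F149984)) (tt N14362 F141073) (tt N12360 F141074) (tt N16358 D32285) (tt N12358 (iv D30289)) (tt N15700 F147158) (tt N14362 F141075) (tt N14362 F141076) (tt N16359 D32286))
theorem Q14364 : ∀ i, i < 14364 → P i := stepQ 14363 Q14363 (allL N14363 (tt N15368 (iv F145290)) (tt N16293 (iv F149990)) (tt N14363 F141077) (tt N12361 F141078) (tt N16353 (iv F150177)) (tt N16359 (iv F150197)) (tt N12359 F141079) (tt N14363 F141080) (tt N12437 F141081) (tt N12358 (iv D30290)))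
theorem Q14365 : ∀ i, i < 14365 → P i := stepQ 14364 Q14364 (allL N14364 (tt N15369 (iv F145296)) (tt N16294 (iv F149995)) (tt N12392 F141082) (tt N16360 D32287) (tt N12360 (iv D30291)) (tt N16349 (iv F150164)) (tt N16234 (iv F149752)) (tt N14364 F141083) (tt N14364 F141084) (tt N16361 D32288))
theorem Q14366 : ∀ i, i < 14366 → P i := stepQ 14365 Q14365 (allL N14365 (tt N15370 (iv F145300)) (tt N16295 (iv F149999)) (tt N12393 F141085) (tt N16359 (iv F150196)) (tt N16361 (iv F150202)) (tt N12361 F141086) (tt N16235 (iv F149757)) (tt N14365 F141087) (tt N16362 D32289) (tt N12360 (iv D30292)))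
theorem Q14367 : ∀ i, i < 14367 → P i := stepQ 14366 Q14366 (allL N14366 (tt N15760 (iv F147479)) (tt N12363 F141088) (tt N14366 F141089) (tt N16305 (iv F150033)) (tt N16363 D32290) (tt N12362 (iv D30293)) (tt N12371 F141090) (tt N16364 D32291) (tt N16365 D32292) (tt N15711 F147216))
theorem Q14368 : ∀ i, i < 14368 → P i := stepQ 14367 Q14367 (allL N14367 (tt N16137 (iv F149328)) (tt N12364 F141091) (tt N14367 F141092) (tt N16306 (iv F150036)) (tt N14367 F141093) (tt N16364 (iv F150216)) (tt N12985 F141094) (tt N12362 (iv D30294)) (tt N14367 F141095) (tt N15937 (iv F148248)))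
theorem Q14369 : ∀ i, i < 14369 → P i := stepQ 14368 Q14368 (allL N14368 (tt N15371 (iv F145306)) (tt N16363 (iv F150208)) (tt N12365 F141096) (tt N16366 D32293) (tt N12363 (iv D30295)) (tt N14368 F141097) (tt N12373 F141098) (tt N16367 D32294) (tt N15526 (iv F146255)) (tt N15517 F146212))
theorem Q14370 : ∀ i, i < 14370 → P i := stepQ 14369 Q14369 (allL N14369 (tt N15372 (iv F145313)) (tt N16364 (iv F150214)) (tt N12366 F141099) (tt N16308 (iv F150042)) (tt N16367 (iv F150226)) (tt N12364 F141100) (tt N16368 D32295) (tt N12363 (iv D30296)) (tt N16369 D32296) (tt N15938 (iv F148253)))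
theorem Q14371 : ∀ i, i < 14371 → P i := stepQ 14370 Q14370 (allL N14370 (tt N15373 (iv F145318)) (tt N16365 (iv F150217)) (tt N12367 F141101) (tt N16309 (iv F150045)) (tt N15526 (iv F146252)) (tt N14370 F141102) (tt N12375 F141103) (tt N16369 (iv F150232)) (tt N12363 (iv D30297)) (tt N15511 (iv F146174)))
theorem Q14372 : ∀ i, i < 14372 → P i := stepQ 14371 Q14371 (allL N14371 (tt N15374 (iv F145325)) (tt N14371 F141104) (tt N16367 (iv F150225)) (tt N16019 (iv F148639)) (tt N12366 F141105) (tt N14371 F141106) (tt N16370 D32297) (tt N12365 (iv D30298)) (tt N15632 (iv F146802)) (tt N15626 F146773))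
theorem Q14373 : ∀ i, i < 14373 → P i := stepQ 14372 Q14372 (allL N14372 (tt N15375 (iv F145332)) (tt N14372 F141107) (tt N16368 (iv F150228)) (tt N12368 F141108) (tt N16370 (iv F150234)) (tt N15946 (iv F148298)) (tt N12366 (iv D30299)) (tt N12378 F141109) (tt N16371 D32298) (tt N15939 (iv F148260)))
theorem Q14374 : ∀ i, i < 14374 → P i := stepQ 14373 Q14373 (allL N14373 (tt N15376 (iv F145338)) (tt N14373 F141110) (tt N16369 (iv F150230)) (tt N12369 F141111) (tt N15632 (iv F146799)) (tt N14373 F141112) (tt N16371 (iv F150238)) (tt N12367 F141113) (tt N12366 (iv D30300)) (tt N15618 (iv F146724)))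
theorem Q14375 : ∀ i, i < 14375 → P i := stepQ 14374 Q14374 (allL N14374 (tt N15377 (iv F145345)) (tt N14374 F141114) (tt N16315 (iv F150059)) (tt N16371 (iv F150237)) (tt N16015 F148625) (tt N16372 D32299) (tt N12369 F141115) (tt N12381 F141116) (tt N12368 (iv D30301)) (tt N16373 D32300))
theorem Q14376 : ∀ i, i < 14376 → P i := stepQ 14375 Q14375 (allL N14375 (tt N15378 (iv F145350)) (tt N14375 F141117) (tt N16316 (iv F150062)) (tt N15618 (iv F146720)) (tt N16023 (iv F148662)) (tt N14375 F141118) (tt N16373 (iv F150244)) (tt N12370 F141119) (tt N15616 (iv F146710)) (tt N12369 (iv D30302)))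
theorem Q14377 : ∀ i, i < 14377 → P i := stepQ 14376 Q14376 (allL N14376 (tt N15462 (iv F145879)) (tt N12373 F141120) (tt N14376 F141121) (tt N16374 D32301) (tt N12371 (iv D30303)) (tt N12394 F141122) (tt N16363 (iv F150211)) (tt N16375 D32302) (tt N16304 (iv F150031)) (tt N15441 F145762))
theorem Q14378 : ∀ i, i < 14378 → P i := stepQ 14377 Q14377 (allL N14377 (tt N15795 (iv F147626)) (tt N12374 F141123) (tt N14377 F141124) (tt N16318 (iv F150068)) (tt N16375 (iv F150250)) (tt N12372 F141125) (tt N16376 D32303) (tt N12371 (iv D30304)) (tt N16377 D32304) (tt N15732 F147331))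
theorem Q14379 : ∀ i, i < 14379 → P i := stepQ 14378 Q14378 (allL N14378 (tt N15782 (iv F147581)) (tt N12375 F141126) (tt N14378 F141127) (tt N16319 (iv F150071)) (tt N16304 (iv F150028)) (tt N12384 F141128) (tt N16365 (iv F150221)) (tt N16377 (iv F150258)) (tt N12371 (iv D30305)) (tt N15723 (iv F147293)))
theorem Q14380 : ∀ i, i < 14380 → P i := stepQ 14379 Q14379 (allL N14379 (tt N15379 (iv F145357)) (tt N16374 (iv F150246)) (tt N16238 (iv F149765)) (tt N12373 (iv D30306)) (tt N16320 (iv F150073)) (tt N12396 F141129) (tt N16366 (iv F150224)) (tt N16378 D32305) (tt N16379 D32306) (tt N15980 (iv F148467)))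
theorem Q14381 : ∀ i, i < 14381 → P i := stepQ 14380 Q14380 (allL N14380 (tt N15380 (iv F145361)) (tt N16375 (iv F150248)) (tt N12376 F141130) (tt N16378 (iv F150259)) (tt N12374 F141131) (tt N12397 F141132) (tt N16380 D32307) (tt N12373 (iv D30307)) (tt N16381 D32308) (tt N15981 (iv F148473)))
theorem Q14382 : ∀ i, i < 14382 → P i := stepQ 14381 Q14381 (allL N14381 (tt N15381 (iv F145367)) (tt N16304 (iv F150026)) (tt N12377 F141133) (tt N16379 (iv F150261)) (tt N12375 F141134) (tt N14381 F141135) (tt N15526 (iv F146254)) (tt N16381 (iv F150268)) (tt N12373 (iv D30308)) (tt N15489 (iv F146056)))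
theorem Q14383 : ∀ i, i < 14383 → P i := stepQ 14382 Q14382 (allL N14382 (tt N15382 (iv F145374)) (tt N16376 (iv F150252)) (tt N12378 F141136) (tt N16323 (iv F150081)) (tt N16380 (iv F150264)) (tt N15989 (iv F148513)) (tt N12374 (iv D30309)) (tt N16368 (iv F150229)) (tt N16382 D32309) (tt N15982 (iv F148478)))
theorem Q14384 : ∀ i, i < 14384 → P i := stepQ 14383 Q14383 (allL N14383 (tt N15383 (iv F145379)) (tt N16377 (iv F150255)) (tt N12379 F141137) (tt N16324 (iv F150083)) (tt N16381 (iv F150266)) (tt N12386 F141138) (tt N16382 (iv F150270)) (tt N12375 F141139) (tt N12374 (iv D30310)) (tt N16383 D32310))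
theorem Q14385 : ∀ i, i < 14385 → P i := stepQ 14384 Q14384 (allL N14384 (tt N12714 F141140) (tt N15723 (iv F147288)) (tt N12380 F141141) (tt N16325 (iv F150088)) (tt N15489 (iv F146053)) (tt N12387 F141142) (tt N15511 (iv F146173)) (tt N16383 (iv F150274)) (tt N12692 F141143) (tt N12375 (iv D30311)))
theorem Q14386 : ∀ i, i < 14386 → P i := stepQ 14385 Q14385 (allL N14385 (tt N15384 (iv F145385)) (tt N14385 F141144) (tt N16380 (iv F150263)) (tt N16241 (iv F149772)) (tt N12378 F141145) (tt N16384 D32311) (tt N12376 (iv D30312)) (tt N16370 (iv F150235)) (tt N16385 D32312) (tt N15983 (iv F148483)))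
theorem Q14387 : ∀ i, i < 14387 → P i := stepQ 14386 Q14386 (allL N14386 (tt N15385 (iv F145389)) (tt N14386 F141146) (tt N16381 (iv F150265)) (tt N16184 (iv F149563)) (tt N12379 F141147) (tt N14386 F141148) (tt N16385 (iv F150280)) (tt N12377 F141149) (tt N12376 (iv D30313)) (tt N15587 (iv F146553)))
theorem Q14388 : ∀ i, i < 14388 → P i := stepQ 14387 Q14387 (allL N14387 (tt N15386 (iv F145396)) (tt N14387 F141150) (tt N16382 (iv F150269)) (tt N12381 F141151) (tt N16385 (iv F150279)) (tt N16386 D32313) (tt N12379 F141152) (tt N16371 (iv F150239)) (tt N12378 (iv D30314)) (tt N16387 D32314))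
theorem Q14389 : ∀ i, i < 14389 → P i := stepQ 14388 Q14388 (allL N14388 (tt N13201 F141153) (tt N14388 F141154) (tt N16383 (iv F150272)) (tt N12382 F141155) (tt N15587 (iv F146550)) (tt N12389 F141156) (tt N16387 (iv F150287)) (tt N12380 F141157) (tt N13196 F141158) (tt N12379 (iv D30315)))
theorem Q14390 : ∀ i, i < 14390 → P i := stepQ 14389 Q14389 (allL N14389 (tt N15387 (iv F145401)) (tt N14389 F141159) (tt N16332 (iv F150102)) (tt N16386 (iv F150282)) (tt N16388 D32315) (tt N12381 (iv D30316)) (tt N12390 F141160) (tt N16372 (iv F150242)) (tt N15997 (iv F148554)) (tt N16389 D32316))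
theorem Q14391 : ∀ i, i < 14391 → P i := stepQ 14390 Q14390 (allL N14390 (tt N15388 (iv F145405)) (tt N14390 F141161) (tt N16333 (iv F150104)) (tt N16387 (iv F150286)) (tt N16242 (iv F149775)) (tt N16389 (iv F150292)) (tt N12382 F141162) (tt N16373 (iv F150245)) (tt N15985 (iv F148494)) (tt N12381 (iv D30317)))
theorem Q14392 : ∀ i, i < 14392 → P i := stepQ 14391 Q14391 (allL N14391 (tt N15927 (iv F148197)) (tt N12386 F141163) (tt N14391 F141164) (tt N16335 (iv F150112)) (tt N14391 F141165) (tt N16377 (iv F150257)) (tt N16351 (iv F150172)) (tt N12384 F141166) (tt N12383 (iv D30318)) (tt N16054 (iv F148844)))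
theorem Q14393 : ∀ i, i < 14393 → P i := stepQ 14392 Q14392 (allL N14392 (tt N15389 (iv F145410)) (tt N16351 (iv F150169)) (tt N12388 F141167) (tt N16340 (iv F150133)) (tt N14392 F141168) (tt N16390 D32317) (tt N12386 F141169) (tt N14392 F141170) (tt N12385 (iv D30319)) (tt N16391 D32318))
theorem Q14394 : ∀ i, i < 14394 → P i := stepQ 14393 Q14393 (allL N14393 (tt N12908 F141171) (tt N16054 (iv F148840)) (tt N12389 F141172) (tt N16341 (iv F150138)) (tt N14393 F141173) (tt N16383 (iv F150273)) (tt N16391 (iv F150299)) (tt N12387 F141174) (tt N12441 F141175) (tt N12386 (iv D30320)))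
theorem Q14395 : ∀ i, i < 14395 → P i := stepQ 14394 Q14394 (allL N14394 (tt N15390 (iv F145417)) (tt N14394 F141176) (tt N16390 (iv F150294)) (tt N12390 F141177) (tt N16392 D32319) (tt N12388 (iv D30321)) (tt N16386 (iv F150283)) (tt N14394 F141178) (tt N16096 (iv F149099)) (tt N16393 D32320))
theorem Q14396 : ∀ i, i < 14396 → P i := stepQ 14395 Q14395 (allL N14395 (tt N13260 F141179) (tt N14395 F141180) (tt N16391 (iv F150297)) (tt N12391 F141181) (tt N14395 F141182) (tt N16393 (iv F150308)) (tt N12389 F141183) (tt N14395 F141184) (tt N12443 F141185) (tt N12388 (iv D30322)))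
theorem Q14397 : ∀ i, i < 14397 → P i := stepQ 14396 Q14396 (allL N14396 (tt N15391 (iv F145423)) (tt N14396 F141186) (tt N16349 (iv F150163)) (tt N16394 D32321) (tt N12390 (iv D30323)) (tt N12392 F141187) (tt N16388 (iv F150290)) (tt N14396 F141188) (tt N16098 (iv F149110)) (tt N16395 D32322))
theorem Q14398 : ∀ i, i < 14398 → P i := stepQ 14397 Q14397 (allL N14397 (tt N15392 (iv F145428)) (tt N14397 F141189) (tt N16350 (iv F150166)) (tt N16393 (iv F150307)) (tt N16395 (iv F150314)) (tt N12391 F141190) (tt N16389 (iv F150293)) (tt N14397 F141191) (tt N16396 D32323) (tt N12390 (iv D30324)))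
theorem Q14399 : ∀ i, i < 14399 → P i := stepQ 14398 Q14398 (allL N14398 (tt N15393 (iv F145433)) (tt N14398 F141192) (tt N16397 D32324) (tt N12392 (iv D30325)) (tt N14398 F141193) (tt N16394 (iv F150311)) (tt N16243 (iv F149780)) (tt N14398 F141194) (tt N14398 F141195) (tt N16398 D32325))
theorem Q14400 : ∀ i, i < 14400 → P i := stepQ 14399 Q14399 (allL N14399 (tt N15394 (iv F145440)) (tt N14399 F141196) (tt N16361 (iv F150201)) (tt N16398 (iv F150325)) (tt N12393 F141197) (tt N16395 (iv F150315)) (tt N16244 (iv F149788)) (tt N14399 F141198) (tt N16399 D32326) (tt N12392 (iv D30326)))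
theorem Q14401 : ∀ i, i < 14401 → P i := stepQ 14400 Q14400 (allL N14400 (tt N15395 (iv F145447)) (tt N14400 F141199) (tt N16362 (iv F150204)) (tt N14400 F141200) (tt N16399 (iv F150333)) (tt N12448 F141201) (tt N16245 (iv F149796)) (tt N14400 F141202) (tt N12393 (iv D30327)) (tt N14400 F141203))
theorem Q14402 : ∀ i, i < 14402 → P i := stepQ 14401 Q14401 (allL N14401 (tt N15469 (iv F145919)) (tt N12396 F141204) (tt N16400 D32327) (tt N12394 (iv D30328)) (tt N12897 F141205) (tt N16374 (iv F150247)) (tt N14401 F141206) (tt N16401 D32328) (tt N14401 F141207) (tt N15445 F145790))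
theorem Q14403 : ∀ i, i < 14403 → P i := stepQ 14402 Q14402 (allL N14402 (tt N15471 (iv F145930)) (tt N12397 F141208) (tt N14402 F141209) (tt N16401 (iv F150343)) (tt N12395 F141210) (tt N16375 (iv F150251)) (tt N16402 D32329) (tt N12394 (iv D30329)) (tt N14402 F141211) (tt N15447 F145803))
theorem Q14404 : ∀ i, i < 14404 → P i := stepQ 14403 Q14403 (allL N14403 (tt N15478 (iv F145980)) (tt N12398 F141212) (tt N14403 F141213) (tt N12560 F141214) (tt N16402 (iv F150348)) (tt N12559 F141215) (tt N12395 (iv D30330)) (tt N14403 F141216) (tt N14403 F141217) (tt N15449 F145820))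
theorem Q14405 : ∀ i, i < 14405 → P i := stepQ 14404 Q14404 (allL N14404 (tt N15396 (iv F145455)) (tt N16401 (iv F150342)) (tt N16251 (iv F149824)) (tt N12397 F141218) (tt N12898 F141219) (tt N16378 (iv F150260)) (tt N16403 D32330) (tt N12396 (iv D30331)) (tt N14404 F141220) (tt N16036 (iv F148743)))
theorem Q14406 : ∀ i, i < 14406 → P i := stepQ 14405 Q14405 (allL N14405 (tt N15397 (iv F145461)) (tt N16402 (iv F150346)) (tt N12399 F141221) (tt N16403 (iv F150351)) (tt N12398 F141222) (tt N16404 D32331) (tt N12397 (iv D30332)) (tt N14405 F141223) (tt N14405 F141224) (tt N16037 (iv F148749)))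
theorem Q14407 : ∀ i, i < 14407 → P i := stepQ 14406 Q14406 (allL N14406 (tt N15398 (iv F145468)) (tt N14406 F141225) (tt N16404 (iv F150355)) (tt N16253 (iv F149833)) (tt N16041 (iv F148770)) (tt N12399 (iv D30333)) (tt N16384 (iv F150277)) (tt N14406 F141226) (tt N16405 D32332) (tt N16038 (iv F148754)))
theorem Q14408 : ∀ i, i < 14408 → P i := stepQ 14407 Q14407 (allL N14407 (tt N12411 F141227) (tt N15401 (iv F145490)) (tt N12928 F141228) (tt N12402 F141229) (tt N12925 F141230) (tt N16058 (iv F148872)) (tt N12400 (iv D30334)) (tt N14407 F141231) (tt N16406 D32333) (tt N16260 (iv F149858)))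
theorem Q14409 : ∀ i, i < 14409 → P i := stepQ 14408 Q14408 (allL N14408 (tt N12412 F141232) (tt N15402 (iv F145497)) (tt N12929 F141233) (tt N12403 F141234) (tt N12926 F141235) (tt N16062 (iv F148904)) (tt N16406 (iv F150365)) (tt N12401 F141236) (tt N12400 (iv D30335)) (tt N16407 D32334))
theorem Q14410 : ∀ i, i < 14410 → P i := stepQ 14409 Q14409 (allL N14409 (tt N12413 F141237) (tt N15308 (iv F144966)) (tt N12930 F141238) (tt N12404 F141239) (tt N12927 F141240) (tt N15804 (iv F147673)) (tt N14409 F141241) (tt N16407 (iv F150371)) (tt N16262 (iv F149869)) (tt N12401 (iv D30336)))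
theorem Q14411 : ∀ i, i < 14411 → P i := stepQ 14410 Q14410 (allL N14410 (tt N12414 F141242) (tt N15403 (iv F145504)) (tt N14410 F141243) (tt N16406 (iv F150362)) (tt N12408 F141244) (tt N12434 F141245) (tt N12403 F141246) (tt N14410 F141247) (tt N12402 (iv D30337)) (tt N16408 D32335))
theorem Q14412 : ∀ i, i < 14412 → P i := stepQ 14411 Q14411 (allL N14411 (tt N12415 F141248) (tt N15404 (iv F145511)) (tt N14411 F141249) (tt N16407 (iv F150369)) (tt N12409 F141250) (tt N16063 (iv F148911)) (tt N16408 (iv F150376)) (tt N12404 F141251) (tt N16264 (iv F149879)) (tt N12403 (iv D30338)))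
theorem Q14413 : ∀ i, i < 14413 → P i := stepQ 14412 Q14412 (allL N14412 (tt N12416 F141252) (tt N15405 (iv F145517)) (tt N12952 F141253) (tt N12408 F141254) (tt N12950 F141255) (tt N15417 (iv F145602)) (tt N12406 F141256) (tt N14412 F141257) (tt N12405 (iv D30339)) (tt N16409 D32336))
theorem Q14414 : ∀ i, i < 14414 → P i := stepQ 14413 Q14413 (allL N14413 (tt N12417 F141258) (tt N15406 (iv F145525)) (tt N12953 F141259) (tt N12409 F141260) (tt N12951 F141261) (tt N14413 F141262) (tt N16409 (iv F150382)) (tt N12407 F141263) (tt N16266 (iv F149895)) (tt N12406 (iv D30340)))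
theorem Q14415 : ∀ i, i < 14415 → P i := stepQ 14414 Q14414 (allL N14414 (tt N12418 F141264) (tt N15407 (iv F145533)) (tt N14414 F141265) (tt N15417 (iv F145601)) (tt N12436 F141266) (tt N12408 (iv D30341)) (tt N14414 F141267) (tt N14414 F141268) (tt N14414 F141269) (tt N16410 D32337))
theorem Q14416 : ∀ i, i < 14416 → P i := stepQ 14415 Q14415 (allL N14415 (tt N12419 F141270) (tt N15408 (iv F145540)) (tt N14415 F141271) (tt N16409 (iv F150380)) (tt N16408 (iv F150374)) (tt N16410 (iv F150387)) (tt N12409 F141272) (tt N14415 F141273) (tt N16267 (iv F149900)) (tt N12408 (iv D30342)))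
theorem Q14417 : ∀ i, i < 14417 → P i := stepQ 14416 Q14416 (allL N14416 (tt N16406 (iv F150360)) (tt N12429 F141274) (tt N16088 (iv F149048)) (tt N12414 F141275) (tt N16086 (iv F149036)) (tt N15421 (iv F145630)) (tt N12412 F141276) (tt N14416 F141277) (tt N12411 (iv D30343)) (tt N16411 D32338))
theorem Q14418 : ∀ i, i < 14418 → P i := stepQ 14417 Q14417 (allL N14417 (tt N16407 (iv F150367)) (tt N12430 F141278) (tt N16089 (iv F149055)) (tt N12415 F141279) (tt N16087 (iv F149043)) (tt N16074 (iv F148970)) (tt N16411 (iv F150392)) (tt N12413 F141280) (tt N16289 (iv F149973)) (tt N12412 (iv D30344)))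
theorem Q14419 : ∀ i, i < 14419 → P i := stepQ 14418 Q14418 (allL N14418 (tt N16408 (iv F150372)) (tt N12432 F141281) (tt N14418 F141282) (tt N16411 (iv F150391)) (tt N12419 F141283) (tt N15425 (iv F145653)) (tt N12415 F141284) (tt N14418 F141285) (tt N16291 (iv F149982)) (tt N12414 (iv D30345)))
theorem Q14420 : ∀ i, i < 14420 → P i := stepQ 14419 Q14419 (allL N14419 (tt N15417 (iv F145598)) (tt N12436 F141286) (tt N16101 (iv F149123)) (tt N12418 F141287) (tt N15407 (iv F145535)) (tt N12416 (iv D30346)) (tt N14419 F141288) (tt N14419 F141289) (tt N14419 F141290) (tt N16412 D32339))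
theorem Q14421 : ∀ i, i < 14421 → P i := stepQ 14420 Q14420 (allL N14420 (tt N16409 (iv F150378)) (tt N12437 F141291) (tt N16102 (iv F149130)) (tt N12419 F141292) (tt N16100 (iv F149118)) (tt N16412 (iv F150396)) (tt N12417 F141293) (tt N14420 F141294) (tt N16293 (iv F149994)) (tt N12416 (iv D30347)))
theorem Q14422 : ∀ i, i < 14422 → P i := stepQ 14421 Q14421 (allL N14421 (tt N16410 (iv F150384)) (tt N12439 F141295) (tt N14421 F141296) (tt N16412 (iv F150395)) (tt N15428 (iv F145673)) (tt N12419 F141297) (tt N14421 F141298) (tt N14421 F141299) (tt N16413 D32340) (tt N12418 (iv D30348)))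
theorem Q14423 : ∀ i, i < 14423 → P i := stepQ 14422 Q14422 (allL N14422 (tt N15420 (iv F145618)) (tt N12423 F141300) (tt N16073 (iv F148962)) (tt N12433 F141301) (tt N16072 (iv F148958)) (tt N12426 F141302) (tt N12420 (iv D30349)) (tt N14422 F141303) (tt N16058 (iv F148874)) (tt N16334 (iv F150110)))
theorem Q14424 : ∀ i, i < 14424 → P i := stepQ 14423 Q14423 (allL N14423 (tt N15419 (iv F145611)) (tt N16072 (iv F148955)) (tt N12426 F141304) (tt N14423 F141305) (tt N12423 F141306) (tt N16073 (iv F148965)) (tt N12421 (iv D30350)) (tt N14423 F141307) (tt N16414 D32341) (tt N16336 (iv F150118)))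
theorem Q14425 : ∀ i, i < 14425 → P i := stepQ 14424 Q14424 (allL N14424 (tt N12910 F141308) (tt N16057 (iv F148862)) (tt N12427 F141309) (tt N14424 F141310) (tt N12424 F141311) (tt N16061 (iv F148896)) (tt N16414 (iv F150409)) (tt N12422 F141312) (tt N12421 (iv D30351)) (tt N16415 D32342))
theorem Q14426 : ∀ i, i < 14426 → P i := stepQ 14425 Q14425 (allL N14425 (tt N12904 F141313) (tt N16050 (iv F148816)) (tt N12428 F141314) (tt N14425 F141315) (tt N12425 F141316) (tt N15736 (iv F147356)) (tt N14425 F141317) (tt N16415 (iv F150415)) (tt N16339 (iv F150131)) (tt N12422 (iv D30352)))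
theorem Q14427 : ∀ i, i < 14427 → P i := stepQ 14426 Q14426 (allL N14426 (tt N12911 F141318) (tt N16058 (iv F148869)) (tt N12429 F141319) (tt N12440 F141320) (tt N16414 (iv F150407)) (tt N15401 (iv F145494)) (tt N12424 F141321) (tt N14426 F141322) (tt N12423 (iv D30353)) (tt N16416 D32343))
theorem Q14428 : ∀ i, i < 14428 → P i := stepQ 14427 Q14427 (allL N14427 (tt N12905 F141323) (tt N16051 (iv F148823)) (tt N12430 F141324) (tt N12441 F141325) (tt N16415 (iv F150414)) (tt N12901 F141326) (tt N16416 (iv F150419)) (tt N12425 F141327) (tt N16341 (iv F150140)) (tt N12424 (iv D30354)))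
theorem Q14429 : ∀ i, i < 14429 → P i := stepQ 14428 Q14428 (allL N14428 (tt N15421 (iv F145625)) (tt N16086 (iv F149033)) (tt N16414 (iv F150405)) (tt N12434 F141328) (tt N12429 F141329) (tt N16406 (iv F150364)) (tt N12427 F141330) (tt N14428 F141331) (tt N12426 (iv D30355)) (tt N16417 D32344))
theorem Q14430 : ∀ i, i < 14430 → P i := stepQ 14429 Q14429 (allL N14429 (tt N15422 (iv F145633)) (tt N16087 (iv F149040)) (tt N16415 (iv F150412)) (tt N12435 F141332) (tt N12430 F141333) (tt N16091 (iv F149065)) (tt N16417 (iv F150423)) (tt N12428 F141334) (tt N16344 (iv F150151)) (tt N12427 (iv D30356)))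
theorem Q14431 : ∀ i, i < 14431 → P i := stepQ 14430 Q14430 (allL N14430 (tt N15409 (iv F145543)) (tt N15421 (iv F145626)) (tt N15401 (iv F145491)) (tt N12431 F141335) (tt N15411 (iv F145560)) (tt N12429 (iv D30357)) (tt N15400 F145488) (tt N14430 F141336) (tt N15410 (iv F145556)) (tt N16418 D32345))
theorem Q14432 : ∀ i, i < 14432 → P i := stepQ 14431 Q14431 (allL N14431 (tt N15423 (iv F145638)) (tt N16411 (iv F150390)) (tt N16416 (iv F150417)) (tt N12432 F141337) (tt N16417 (iv F150422)) (tt N16418 (iv F150426)) (tt N12430 F141338) (tt N14431 F141339) (tt N16348 (iv F150162)) (tt N12429 (iv D30358)))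
theorem Q14433 : ∀ i, i < 14433 → P i := stepQ 14432 Q14432 (allL N14432 (tt N15424 (iv F145643)) (tt N15425 (iv F145650)) (tt N12445 F141340) (tt N16418 (iv F150425)) (tt N15416 (iv F145594)) (tt N12432 F141341) (tt N15415 (iv F145589)) (tt N14432 F141342) (tt N16419 D32346) (tt N12431 (iv D30359)))
theorem Q14434 : ∀ i, i < 14434 → P i := stepQ 14433 Q14433 (allL N14433 (tt N15425 (iv F145649)) (tt N16100 (iv F149116)) (tt N14433 F141343) (tt N16417 (iv F150421)) (tt N12437 F141344) (tt N16408 (iv F150375)) (tt N12435 F141345) (tt N14433 F141346) (tt N16353 (iv F150180)) (tt N12434 (iv D30360)))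
theorem Q14435 : ∀ i, i < 14435 → P i := stepQ 14434 Q14434 (allL N14434 (tt N15428 (iv F145669)) (tt N16412 (iv F150394)) (tt N14434 F141347) (tt N12439 F141348) (tt N16410 (iv F150386)) (tt N12437 F141349) (tt N14434 F141350) (tt N14434 F141351) (tt N16420 D32347) (tt N12436 (iv D30361)))
theorem Q14436 : ∀ i, i < 14436 → P i := stepQ 14435 Q14435 (allL N14435 (tt N15429 (iv F145677)) (tt N15428 (iv F145670)) (tt N12447 F141352) (tt N15418 (iv F145607)) (tt N12439 F141353) (tt N15416 (iv F145595)) (tt N14435 F141354) (tt N14435 F141355) (tt N16421 D32348) (tt N12438 (iv D30362)))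
theorem Q14437 : ∀ i, i < 14437 → P i := stepQ 14436 Q14436 (allL N14436 (tt N15430 (iv F145682)) (tt N16413 (iv F150399)) (tt N12448 F141356) (tt N16420 (iv F150431)) (tt N16421 (iv F150436)) (tt N16362 (iv F150205)) (tt N14436 F141357) (tt N14436 F141358) (tt N12439 (iv D30363)) (tt N14436 F141359))
theorem Q14438 : ∀ i, i < 14438 → P i := stepQ 14437 Q14437 (allL N14437 (tt N12907 F141360) (tt N16053 (iv F148833)) (tt N12443 F141361) (tt N16416 (iv F150418)) (tt N14437 F141362) (tt N15294 (iv F144886)) (tt N12441 F141363) (tt N14437 F141364) (tt N16391 (iv F150301)) (tt N12440 (iv D30364)))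
theorem Q14439 : ∀ i, i < 14439 → P i := stepQ 14438 Q14438 (allL N14438 (tt N13258 F141365) (tt N14438 F141366) (tt N15294 (iv F144884)) (tt N12445 F141367) (tt N15233 (iv F144453)) (tt N12443 F141368) (tt N13257 F141369) (tt N14438 F141370) (tt N16246 (iv F149804)) (tt N12442 (iv D30365)))
theorem Q14440 : ∀ i, i < 14440 → P i := stepQ 14439 Q14439 (allL N14439 (tt N15243 (iv F144532)) (tt N14439 F141371) (tt N15244 (iv F144541)) (tt N12444 (iv D30366)) (tt N15238 (iv F144498)) (tt N12446 F141372) (tt N15237 F144493) (tt N14439 F141373) (tt N15242 (iv F144530)) (tt N15683 (iv F147054)))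
theorem Q14441 : ∀ i, i < 14441 → P i := stepQ 14440 Q14440 (allL N14440 (tt N15431 (iv F145687)) (tt N14440 F141374) (tt N15416 (iv F145592)) (tt N15683 (iv F147050)) (tt N12445 F141375) (tt N12447 F141376) (tt N15414 (iv F145581)) (tt N14440 F141377) (tt N15682 (iv F147045)) (tt N12444 (iv D30367)))
theorem Q14442 : ∀ i, i < 14442 → P i := stepQ 14441 Q14441 (allL N14441 (tt N15432 (iv F145695)) (tt N14441 F141378) (tt N16419 (iv F150428)) (tt N16246 (iv F149801)) (tt N15682 (iv F147042)) (tt N16396 (iv F150318)) (tt N15681 F147038) (tt N14441 F141379) (tt N12445 (iv D30368)) (tt N15684 (iv F147061)))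
theorem Q14443 : ∀ i, i < 14443 → P i := stepQ 14442 Q14442 (allL N14442 (tt N15433 (iv F145702)) (tt N15248 (iv F144572)) (tt N12446 (iv D30369)) (tt N15245 (iv F144550)) (tt N14442 F141380) (tt N15244 F144547) (tt N14442 F141381) (tt N14442 F141382) (tt N14442 F141383) (tt N16422 D32349))
theorem Q14444 : ∀ i, i < 14444 → P i := stepQ 14443 Q14443 (allL N14443 (tt N15434 (iv F145708)) (tt N14443 F141384) (tt N16422 (iv F150441)) (tt N12447 F141385) (tt N14443 F141386) (tt N15683 F147055) (tt N14443 F141387) (tt N14443 F141388) (tt N15698 (iv F147145)) (tt N12446 (iv D30370)))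
theorem Q14445 : ∀ i, i < 14445 → P i := stepQ 14444 Q14444 (allL N14444 (tt N15435 (iv F145716)) (tt N14444 F141389) (tt N16421 (iv F150435)) (tt N15698 (iv F147141)) (tt N12448 F141390) (tt N15697 (iv F147134)) (tt N14444 F141391) (tt N14444 F141392) (tt N12447 (iv D30371)) (tt N14444 F141393))
theorem Q14446 : ∀ i, i < 14446 → P i := stepQ 14445 Q14445 (allL N14445 (tt N16139 (iv F149341)) (tt N12449 (iv D30372)) (tt N15436 (iv F145725)) (tt N12995 F141394) (tt N15745 (iv F147410)) (tt N15512 (iv F146178)) (tt N16423 D32350) (tt N15490 (iv F146061)) (tt N12453 F141395) (tt N15484 (iv F146025)))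
theorem Q14447 : ∀ i, i < 14447 → P i := stepQ 14446 Q14446 (allL N14446 (tt N12474 F141396) (tt N16423 (iv F150447)) (tt N12450 F141397) (tt N12996 F141398) (tt N15746 (iv F147419)) (tt N16424 D32351) (tt N12449 (iv D30373)) (tt N16425 D32352) (tt N12454 F141399) (tt N15485 (iv F146031)))
theorem Q14448 : ∀ i, i < 14448 → P i := stepQ 14447 Q14447 (allL N14447 (tt N12475 F141400) (tt N15438 (iv F145739)) (tt N16424 (iv F150451)) (tt N12451 F141401) (tt N16426 D32353) (tt N12450 (iv D30374)) (tt N15514 (iv F146191)) (tt N16427 D32354) (tt N15980 (iv F148466)) (tt N15486 (iv F146036)))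
theorem Q14449 : ∀ i, i < 14449 → P i := stepQ 14448 Q14448 (allL N14448 (tt N12476 F141402) (tt N15439 (iv F145744)) (tt N16425 (iv F150454)) (tt N12452 F141403) (tt N15748 (iv F147430)) (tt N16427 (iv F150461)) (tt N15493 (iv F146079)) (tt N12450 (iv D30375)) (tt N12456 F141404) (tt N15487 (iv F146043)))
theorem Q14450 : ∀ i, i < 14450 → P i := stepQ 14449 Q14449 (allL N14449 (tt N12477 F141405) (tt N15440 (iv F145751)) (tt N12999 F141406) (tt N16427 (iv F150460)) (tt N12696 F141407) (tt N12452 F141408) (tt N16428 D32355) (tt N12451 (iv D30376)) (tt N15981 (iv F148472)) (tt N15488 (iv F146049)))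
theorem Q14451 : ∀ i, i < 14451 → P i := stepQ 14450 Q14450 (allL N14450 (tt N16129 (iv F149293)) (tt N12454 F141409) (tt N15442 (iv F145765)) (tt N13007 F141410) (tt N16106 F149162) (tt N16429 D32356) (tt N12453 (iv D30377)) (tt N16430 D32357) (tt N16423 (iv F150449)) (tt N14450 F141411))
theorem Q14452 : ∀ i, i < 14452 → P i := stepQ 14451 Q14451 (allL N14451 (tt N12487 F141412) (tt N16429 (iv F150465)) (tt N12455 F141413) (tt N13008 F141414) (tt N16431 D32358) (tt N12454 (iv D30378)) (tt N14451 F141415) (tt N16432 D32359) (tt N16029 (iv F148699)) (tt N14451 F141416))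
theorem Q14453 : ∀ i, i < 14453 → P i := stepQ 14452 Q14452 (allL N14452 (tt N12488 F141417) (tt N16430 (iv F150471)) (tt N12456 F141418) (tt N13009 F141419) (tt N16122 (iv F149255)) (tt N16432 (iv F150485)) (tt N16115 (iv F149217)) (tt N12454 (iv D30379)) (tt N16425 (iv F150456)) (tt N14452 F141420))
theorem Q14454 : ∀ i, i < 14454 → P i := stepQ 14453 Q14453 (allL N14453 (tt N12489 F141421) (tt N12535 F141422) (tt N16431 (iv F150476)) (tt N12458 F141423) (tt N12455 (iv D30380)) (tt N12534 F141424) (tt N14453 F141425) (tt N16433 D32360) (tt N12891 F141426) (tt N14453 F141427))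
theorem Q14455 : ∀ i, i < 14455 → P i := stepQ 14454 Q14454 (allL N14454 (tt N12490 F141428) (tt N15444 (iv F145778)) (tt N16432 (iv F150483)) (tt N12457 F141429) (tt N16433 (iv F150490)) (tt N12456 F141430) (tt N16434 D32361) (tt N12455 (iv D30381)) (tt N16036 (iv F148742)) (tt N14454 F141431))
theorem Q14456 : ∀ i, i < 14456 → P i := stepQ 14455 Q14455 (allL N14455 (tt N12492 F141432) (tt N15446 (iv F145792)) (tt N13011 F141433) (tt N16434 (iv F150495)) (tt N12460 F141434) (tt N16119 (iv F149238)) (tt N12457 (iv D30382)) (tt N14455 F141435) (tt N16037 (iv F148748)) (tt N14455 F141436))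
theorem Q14457 : ∀ i, i < 14457 → P i := stepQ 14456 Q14456 (allL N14456 (tt N12494 F141437) (tt N12630 F141438) (tt N12895 F141439) (tt N16433 (iv F150489)) (tt N12459 F141440) (tt N12629 F141441) (tt N16435 D32362) (tt N12458 (iv D30383)) (tt N12892 F141442) (tt N14456 F141443))
theorem Q14458 : ∀ i, i < 14458 → P i := stepQ 14457 Q14457 (allL N14457 (tt N12495 F141444) (tt N15448 (iv F145805)) (tt N12896 F141445) (tt N12460 F141446) (tt N16435 (iv F150501)) (tt N14457 F141447) (tt N12459 (iv D30384)) (tt N14457 F141448) (tt N12893 F141449) (tt N14457 F141450))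
theorem Q14459 : ∀ i, i < 14459 → P i := stepQ 14458 Q14458 (allL N14458 (tt N16436 D32363) (tt N12461 (iv D30385)) (tt N12501 F141451) (tt N12590 F141452) (tt N15506 (iv F146139)) (tt N12473 F141453) (tt N16437 D32364) (tt N12517 F141454) (tt N14458 F141455) (tt N12511 F141456))
theorem Q14460 : ∀ i, i < 14460 → P i := stepQ 14459 Q14459 (allL N14459 (tt N15513 (iv F146182)) (tt N16437 (iv F150512)) (tt N12462 F141457) (tt N12591 F141458) (tt N15507 (iv F146147)) (tt N16438 D32365) (tt N12461 (iv D30386)) (tt N16439 D32366) (tt N14459 F141459) (tt N12512 F141460))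
theorem Q14461 : ∀ i, i < 14461 → P i := stepQ 14460 Q14460 (allL N14460 (tt N15514 (iv F146188)) (tt N12503 F141461) (tt N16438 (iv F150517)) (tt N12463 F141462) (tt N16440 D32367) (tt N12462 (iv D30387)) (tt N12475 F141463) (tt N16441 D32368) (tt N16442 D32369) (tt N12513 F141464))
theorem Q14462 : ∀ i, i < 14462 → P i := stepQ 14461 Q14461 (allL N14461 (tt N15515 (iv F146193)) (tt N12504 F141465) (tt N16439 (iv F150521)) (tt N12464 F141466) (tt N15509 (iv F146158)) (tt N16441 (iv F150532)) (tt N12520 F141467) (tt N12462 (iv D30388)) (tt N14461 F141468) (tt N12514 F141469))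
theorem Q14463 : ∀ i, i < 14463 → P i := stepQ 14462 Q14462 (allL N14462 (tt N15516 (iv F146200)) (tt N12505 F141470) (tt N12594 F141471) (tt N16441 (iv F150531)) (tt N12702 F141472) (tt N12464 F141473) (tt N16443 D32370) (tt N12463 (iv D30389)) (tt N16444 D32371) (tt N12515 F141474))
theorem Q14464 : ∀ i, i < 14464 → P i := stepQ 14463 Q14463 (allL N14463 (tt N15517 (iv F146206)) (tt N12506 F141475) (tt N12595 F141476) (tt N16442 (iv F150535)) (tt N12703 F141477) (tt N14463 F141478) (tt N12478 F141479) (tt N16444 (iv F150548)) (tt N12463 (iv D30390)) (tt N15371 (iv F145311)))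
theorem Q14465 : ∀ i, i < 14465 → P i := stepQ 14464 Q14464 (allL N14464 (tt N16445 D32372) (tt N12465 (iv D30391)) (tt N12511 F141480) (tt N12568 F141481) (tt N15706 (iv F147181)) (tt N12517 F141482) (tt N16446 D32373) (tt N12473 F141483) (tt N12479 F141484) (tt N12501 F141485))
theorem Q14466 : ∀ i, i < 14466 → P i := stepQ 14465 Q14465 (allL N14465 (tt N15491 (iv F146064)) (tt N16446 (iv F150555)) (tt N12466 F141486) (tt N12569 F141487) (tt N15707 (iv F147189)) (tt N16447 D32374) (tt N12465 (iv D30392)) (tt N16448 D32375) (tt N12480 F141488) (tt N12502 F141489))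
theorem Q14467 : ∀ i, i < 14467 → P i := stepQ 14466 Q14466 (allL N14466 (tt N15492 (iv F146070)) (tt N12513 F141490) (tt N16447 (iv F150560)) (tt N12467 F141491) (tt N16449 D32376) (tt N12466 (iv D30393)) (tt N12519 F141492) (tt N16450 D32377) (tt N16451 D32378) (tt N12503 F141493))
theorem Q14468 : ∀ i, i < 14468 → P i := stepQ 14467 Q14467 (allL N14467 (tt N15493 (iv F146075)) (tt N12514 F141494) (tt N16448 (iv F150564)) (tt N12468 F141495) (tt N15709 (iv F147200)) (tt N16450 (iv F150575)) (tt N12476 F141496) (tt N12466 (iv D30394)) (tt N12482 F141497) (tt N12504 F141498))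
theorem Q14469 : ∀ i, i < 14469 → P i := stepQ 14468 Q14468 (allL N14468 (tt N15494 (iv F146082)) (tt N12515 F141499) (tt N12572 F141500) (tt N16450 (iv F150574)) (tt N12747 F141501) (tt N12468 F141502) (tt N16452 D32379) (tt N12467 (iv D30395)) (tt N16453 D32380) (tt N12505 F141503))
theorem Q14470 : ∀ i, i < 14470 → P i := stepQ 14469 Q14469 (allL N14469 (tt N15495 (iv F146088)) (tt N12516 F141504) (tt N12573 F141505) (tt N16451 (iv F150578)) (tt N12748 F141506) (tt N12484 F141507) (tt N12522 F141508) (tt N16453 (iv F150591)) (tt N12467 (iv D30396)) (tt N16454 D32381))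
theorem Q14471 : ∀ i, i < 14471 → P i := stepQ 14470 Q14470 (allL N14470 (tt N16455 D32382) (tt N12469 (iv D30397)) (tt N12517 F141509) (tt N12562 F141510) (tt N15761 (iv F147486)) (tt N12511 F141511) (tt N16456 D32383) (tt N12501 F141512) (tt N14470 F141513) (tt N12473 F141514))
theorem Q14472 : ∀ i, i < 14472 → P i := stepQ 14471 Q14471 (allL N14471 (tt N15485 (iv F146026)) (tt N16456 (iv F150604)) (tt N12470 F141515) (tt N12563 F141516) (tt N15762 (iv F147494)) (tt N16457 D32384) (tt N12469 (iv D30398)) (tt N16458 D32385) (tt N14471 F141517) (tt N12474 F141518))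
theorem Q14473 : ∀ i, i < 14473 → P i := stepQ 14472 Q14472 (allL N14472 (tt N15486 (iv F146032)) (tt N12519 F141519) (tt N16457 (iv F150609)) (tt N12471 F141520) (tt N16459 D32386) (tt N12470 (iv D30399)) (tt N12513 F141521) (tt N16460 D32387) (tt N16461 D32388) (tt N12475 F141522))
theorem Q14474 : ∀ i, i < 14474 → P i := stepQ 14473 Q14473 (allL N14473 (tt N15487 (iv F146037)) (tt N12520 F141523) (tt N16458 (iv F150613)) (tt N12472 F141524) (tt N15764 (iv F147505)) (tt N16460 (iv F150624)) (tt N12504 F141525) (tt N12470 (iv D30400)) (tt N14473 F141526) (tt N12476 F141527))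
theorem Q14475 : ∀ i, i < 14475 → P i := stepQ 14474 Q14474 (allL N14474 (tt N15488 (iv F146044)) (tt N12521 F141528) (tt N12566 F141529) (tt N16460 (iv F150623)) (tt N12713 F141530) (tt N12472 F141531) (tt N16462 D32389) (tt N12471 (iv D30401)) (tt N16463 D32390) (tt N12477 F141532))
theorem Q14476 : ∀ i, i < 14476 → P i := stepQ 14475 Q14475 (allL N14475 (tt N15489 (iv F146050)) (tt N12522 F141533) (tt N12567 F141534) (tt N16461 (iv F150627)) (tt N12714 F141535) (tt N14475 F141536) (tt N12516 F141537) (tt N16463 (iv F150640)) (tt N12471 (iv D30402)) (tt N15381 (iv F145373)))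
theorem Q14477 : ∀ i, i < 14477 → P i := stepQ 14476 Q14476 (allL N14476 (tt N12473 (iv D30403)) (tt N16139 (iv F149342)) (tt N12523 F141538) (tt N13012 F141539) (tt N16138 (iv F149339)) (tt N16436 (iv F150508)) (tt N16464 D32391) (tt N16445 (iv F150552)) (tt N12485 F141540) (tt N16455 (iv F150603)))
theorem Q14478 : ∀ i, i < 14478 → P i := stepQ 14477 Q14477 (allL N14477 (tt N16464 (iv F150641)) (tt N12474 F141541) (tt N12524 F141542) (tt N13013 F141543) (tt N16187 (iv F149580)) (tt N16465 D32392) (tt N12473 (iv D30404)) (tt N16466 D32393) (tt N12486 F141544) (tt N16456 (iv F150608)))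
theorem Q14479 : ∀ i, i < 14479 → P i := stepQ 14478 Q14478 (allL N14478 (tt N16424 (iv F150450)) (tt N16465 (iv F150645)) (tt N12475 F141545) (tt N13014 F141546) (tt N16467 D32394) (tt N12474 (iv D30405)) (tt N16438 (iv F150519)) (tt N16468 D32395) (tt N16469 D32396) (tt N16457 (iv F150612)))
theorem Q14480 : ∀ i, i < 14480 → P i := stepQ 14479 Q14479 (allL N14479 (tt N16425 (iv F150453)) (tt N16466 (iv F150648)) (tt N12476 F141547) (tt N13015 F141548) (tt N16189 (iv F149586)) (tt N16468 (iv F150655)) (tt N16448 (iv F150566)) (tt N12474 (iv D30406)) (tt N12488 F141549) (tt N16458 (iv F150617)))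
theorem Q14481 : ∀ i, i < 14481 → P i := stepQ 14480 Q14480 (allL N14480 (tt N16426 (iv F150457)) (tt N12527 F141550) (tt N16467 (iv F150652)) (tt N12718 F141551) (tt N12475 (iv D30407)) (tt N16190 (iv F149590)) (tt N16440 (iv F150528)) (tt N16470 D32397) (tt N16471 D32398) (tt N16459 (iv F150621)))
theorem Q14482 : ∀ i, i < 14482 → P i := stepQ 14481 Q14481 (allL N14481 (tt N16427 (iv F150459)) (tt N12528 F141552) (tt N16468 (iv F150653)) (tt N12477 F141553) (tt N16470 (iv F150661)) (tt N12476 F141554) (tt N16472 D32399) (tt N12475 (iv D30408)) (tt N16473 D32400) (tt N16460 (iv F150625)))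
theorem Q14483 : ∀ i, i < 14483 → P i := stepQ 14482 Q14482 (allL N14482 (tt N15980 (iv F148464)) (tt N12529 F141555) (tt N16469 (iv F150656)) (tt N12478 F141556) (tt N16471 (iv F150664)) (tt N12491 F141557) (tt N16442 (iv F150537)) (tt N16473 (iv F150670)) (tt N12475 (iv D30409)) (tt N15379 (iv F145360)))
theorem Q14484 : ∀ i, i < 14484 → P i := stepQ 14483 Q14483 (allL N14483 (tt N16428 (iv F150462)) (tt N12530 F141558) (tt N13017 F141559) (tt N16472 (iv F150666)) (tt N12721 F141560) (tt N16452 (iv F150584)) (tt N12477 (iv D30410)) (tt N16443 (iv F150542)) (tt N16474 D32401) (tt N16462 (iv F150635)))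
theorem Q14485 : ∀ i, i < 14485 → P i := stepQ 14484 Q14484 (allL N14484 (tt N15981 (iv F148468)) (tt N12531 F141561) (tt N12844 F141562) (tt N16473 (iv F150668)) (tt N12722 F141563) (tt N12493 F141564) (tt N16474 (iv F150674)) (tt N12478 F141565) (tt N12477 (iv D30411)) (tt N15380 (iv F145366)))
theorem Q14486 : ∀ i, i < 14486 → P i := stepQ 14485 Q14485 (allL N14485 (tt N12479 (iv D30412)) (tt N16112 (iv F149196)) (tt N12533 F141566) (tt N13018 F141567) (tt N16104 (iv F149144)) (tt N14485 F141568) (tt N16197 (iv F149617)) (tt N12485 F141569) (tt N16445 (iv F150553)) (tt N14485 F141570))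
theorem Q14487 : ∀ i, i < 14487 → P i := stepQ 14486 Q14486 (allL N14486 (tt N16197 (iv F149614)) (tt N12480 F141571) (tt N12534 F141572) (tt N13019 F141573) (tt N16105 (iv F149153)) (tt N16431 (iv F150478)) (tt N12479 (iv D30413)) (tt N16475 D32402) (tt N16446 (iv F150558)) (tt N14486 F141574))
theorem Q14488 : ∀ i, i < 14488 → P i := stepQ 14487 Q14487 (allL N14487 (tt N16114 (iv F149208)) (tt N16431 (iv F150475)) (tt N12481 F141575) (tt N13020 F141576) (tt N16429 (iv F150468)) (tt N12480 (iv D30414)) (tt N14487 F141577) (tt N16476 D32403) (tt N16477 D32404) (tt N14487 F141578))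
theorem Q14489 : ∀ i, i < 14489 → P i := stepQ 14488 Q14488 (allL N14488 (tt N16115 (iv F149213)) (tt N16475 (iv F150675)) (tt N12482 F141579) (tt N13021 F141580) (tt N16107 (iv F149166)) (tt N16476 (iv F150682)) (tt N12488 F141581) (tt N12480 (iv D30415)) (tt N16448 (iv F150567)) (tt N14488 F141582))
theorem Q14490 : ∀ i, i < 14490 → P i := stepQ 14489 Q14489 (allL N14489 (tt N16116 (iv F149219)) (tt N12537 F141583) (tt N16429 (iv F150466)) (tt N14489 F141584) (tt N12481 (iv D30416)) (tt N15442 F145769) (tt N14489 F141585) (tt N16478 D32405) (tt N16479 D32406) (tt N14489 F141586))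
theorem Q14491 : ∀ i, i < 14491 → P i := stepQ 14490 Q14490 (allL N14490 (tt N16117 (iv F149225)) (tt N12538 F141587) (tt N16476 (iv F150680)) (tt N12483 F141588) (tt N16478 (iv F150691)) (tt N12482 F141589) (tt N16480 D32407) (tt N12481 (iv D30417)) (tt N16481 D32408) (tt N14490 F141590))
theorem Q14492 : ∀ i, i < 14492 → P i := stepQ 14491 Q14491 (allL N14491 (tt N16118 (iv F149230)) (tt N12539 F141591) (tt N16477 (iv F150685)) (tt N12484 F141592) (tt N16479 (iv F150695)) (tt N16451 (iv F150579)) (tt N14491 F141593) (tt N16481 (iv F150704)) (tt N12481 (iv D30418)) (tt N16482 D32409))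
theorem Q14493 : ∀ i, i < 14493 → P i := stepQ 14492 Q14492 (allL N14492 (tt N16119 (iv F149234)) (tt N12540 F141594) (tt N13025 F141595) (tt N16480 (iv F150698)) (tt N14492 F141596) (tt N12492 F141597) (tt N12483 (iv D30419)) (tt N14492 F141598) (tt N16483 D32410) (tt N14492 F141599))
theorem Q14494 : ∀ i, i < 14494 → P i := stepQ 14493 Q14493 (allL N14493 (tt N16120 (iv F149241)) (tt N12541 F141600) (tt N13026 F141601) (tt N16481 (iv F150703)) (tt N14493 F141602) (tt N16453 (iv F150590)) (tt N16483 (iv F150713)) (tt N12484 F141603) (tt N12483 (iv D30420)) (tt N16484 D32411))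
theorem Q14495 : ∀ i, i < 14495 → P i := stepQ 14494 Q14494 (allL N14494 (tt N16121 (iv F149246)) (tt N12542 F141604) (tt N13027 F141605) (tt N16482 (iv F150707)) (tt N14494 F141606) (tt N16454 (iv F150595)) (tt N14494 F141607) (tt N16484 (iv F150718)) (tt N14494 F141608) (tt N12484 (iv D30421)))
theorem Q14496 : ∀ i, i < 14496 → P i := stepQ 14495 Q14495 (allL N14495 (tt N12486 F141609) (tt N16129 (iv F149294)) (tt N12543 F141610) (tt N13028 F141611) (tt N16127 F149288) (tt N16485 D32412) (tt N12485 (iv D30422)) (tt N16486 D32413) (tt N16464 (iv F150644)) (tt N14495 F141612))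
theorem Q14497 : ∀ i, i < 14497 → P i := stepQ 14496 Q14496 (allL N14496 (tt N16485 (iv F150720)) (tt N12487 F141613) (tt N12544 F141614) (tt N13029 F141615) (tt N16487 D32414) (tt N12486 (iv D30423)) (tt N14496 F141616) (tt N16488 D32415) (tt N16489 D32416) (tt N14496 F141617))
theorem Q14498 : ∀ i, i < 14498 → P i := stepQ 14497 Q14497 (allL N14497 (tt N16486 (iv F150725)) (tt N12488 F141618) (tt N12545 F141619) (tt N13030 F141620) (tt N16196 (iv F149612)) (tt N16488 (iv F150736)) (tt N16475 (iv F150678)) (tt N12486 (iv D30424)) (tt N16466 (iv F150651)) (tt N14497 F141621))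
theorem Q14499 : ∀ i, i < 14499 → P i := stepQ 14498 Q14498 (allL N14498 (tt N16431 (iv F150474)) (tt N16487 (iv F150729)) (tt N12489 F141622) (tt N15692 (iv F147102)) (tt N12487 (iv D30425)) (tt N16197 (iv F149616)) (tt N14498 F141623) (tt N16490 D32417) (tt N15690 F147095) (tt N14498 F141624))
theorem Q14500 : ∀ i, i < 14500 → P i := stepQ 14499 Q14499 (allL N14499 (tt N16432 (iv F150482)) (tt N16488 (iv F150733)) (tt N12490 F141625) (tt N13031 F141626) (tt N16490 (iv F150743)) (tt N12488 F141627) (tt N16491 D32418) (tt N12487 (iv D30426)) (tt N16492 D32419) (tt N14499 F141628))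
theorem Q14501 : ∀ i, i < 14501 → P i := stepQ 14500 Q14500 (allL N14500 (tt N16029 (iv F148695)) (tt N16489 (iv F150738)) (tt N12491 F141629) (tt N12883 F141630) (tt N15690 (iv F147092)) (tt N16469 (iv F150658)) (tt N14500 F141631) (tt N16492 (iv F150751)) (tt N12487 (iv D30427)) (tt N15279 (iv F144792)))
theorem Q14502 : ∀ i, i < 14502 → P i := stepQ 14501 Q14501 (allL N14501 (tt N16433 (iv F150487)) (tt N12549 F141632) (tt N16490 (iv F150742)) (tt N12494 F141633) (tt N12490 F141634) (tt N16200 (iv F149630)) (tt N16493 D32420) (tt N12489 (iv D30428)) (tt N16039 (iv F148759)) (tt N14501 F141635))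
theorem Q14503 : ∀ i, i < 14503 → P i := stepQ 14502 Q14502 (allL N14502 (tt N16434 (iv F150494)) (tt N12551 F141636) (tt N16491 (iv F150745)) (tt N12492 F141637) (tt N16493 (iv F150754)) (tt N16480 (iv F150699)) (tt N12490 (iv D30429)) (tt N14502 F141638) (tt N16494 D32421) (tt N14502 F141639))
theorem Q14504 : ∀ i, i < 14504 → P i := stepQ 14503 Q14503 (allL N14503 (tt N16036 (iv F148739)) (tt N12552 F141640) (tt N16492 (iv F150749)) (tt N12493 F141641) (tt N16039 (iv F148758)) (tt N16473 (iv F150669)) (tt N16494 (iv F150759)) (tt N12491 F141642) (tt N12490 (iv D30430)) (tt N15396 (iv F145460)))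
theorem Q14505 : ∀ i, i < 14505 → P i := stepQ 14504 Q14504 (allL N14504 (tt N16037 (iv F148744)) (tt N12554 F141643) (tt N12890 F141644) (tt N16494 (iv F150758)) (tt N12496 F141645) (tt N16495 D32422) (tt N12493 F141646) (tt N14504 F141647) (tt N12492 (iv D30431)) (tt N15397 (iv F145467)))
theorem Q14506 : ∀ i, i < 14506 → P i := stepQ 14505 Q14505 (allL N14505 (tt N16435 (iv F150498)) (tt N12556 F141648) (tt N16042 (iv F148775)) (tt N16493 (iv F150753)) (tt N12495 F141649) (tt N16496 D32423) (tt N12494 (iv D30432)) (tt N14505 F141650) (tt N16040 (iv F148766)) (tt N14505 F141651))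
theorem Q14507 : ∀ i, i < 14507 → P i := stepQ 14506 Q14506 (allL N14506 (tt N16176 (iv F149529)) (tt N12497 (iv D30433)) (tt N15506 (iv F146137)) (tt N14506 F141652) (tt N12501 F141653) (tt N15718 (iv F147259)) (tt N16497 D32424) (tt N15761 (iv F147488)) (tt N14506 F141654) (tt N15706 (iv F147185)))
theorem Q14508 : ∀ i, i < 14508 → P i := stepQ 14507 Q14507 (allL N14507 (tt N15479 (iv F145988)) (tt N16497 (iv F150772)) (tt N12498 F141655) (tt N14507 F141656) (tt N12502 F141657) (tt N16498 D32425) (tt N12497 (iv D30434)) (tt N16499 D32426) (tt N14507 F141658) (tt N15707 (iv F147191)))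
theorem Q14509 : ∀ i, i < 14509 → P i := stepQ 14508 Q14508 (allL N14508 (tt N15480 (iv F145995)) (tt N15508 (iv F146151)) (tt N16498 (iv F150776)) (tt N12499 F141659) (tt N16500 D32427) (tt N12498 (iv D30435)) (tt N15720 (iv F147272)) (tt N16501 D32428) (tt N16502 D32429) (tt N15708 (iv F147196)))
theorem Q14510 : ∀ i, i < 14510 → P i := stepQ 14509 Q14509 (allL N14509 (tt N15481 (iv F146000)) (tt N15509 (iv F146156)) (tt N16499 (iv F150778)) (tt N12500 F141660) (tt N12504 F141661) (tt N16501 (iv F150785)) (tt N15764 (iv F147506)) (tt N12498 (iv D30436)) (tt N14509 F141662) (tt N15709 (iv F147203)))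
theorem Q14511 : ∀ i, i < 14511 → P i := stepQ 14510 Q14510 (allL N14510 (tt N15482 (iv F146007)) (tt N15510 (iv F146163)) (tt N14510 F141663) (tt N16501 (iv F150784)) (tt N12736 F141664) (tt N12500 F141665) (tt N16503 D32430) (tt N12499 (iv D30437)) (tt N16504 D32431) (tt N15710 (iv F147209)))
theorem Q14512 : ∀ i, i < 14512 → P i := stepQ 14511 Q14511 (allL N14511 (tt N15483 (iv F146013)) (tt N15511 (iv F146169)) (tt N14511 F141666) (tt N16502 (iv F150786)) (tt N12737 F141667) (tt N14511 F141668) (tt N15723 (iv F147292)) (tt N16504 (iv F150793)) (tt N12499 (iv D30438)) (tt N16365 (iv F150222)))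
theorem Q14513 : ∀ i, i < 14513 → P i := stepQ 14512 Q14512 (allL N14512 (tt N12501 (iv D30439)) (tt N15496 (iv F146094)) (tt N16436 (iv F150506)) (tt N12574 F141669) (tt N16176 (iv F149532)) (tt N12523 F141670) (tt N16505 D32432) (tt N16455 (iv F150601)) (tt N14512 F141671) (tt N16445 (iv F150554)))
theorem Q14514 : ∀ i, i < 14514 → P i := stepQ 14513 Q14513 (allL N14513 (tt N16505 (iv F150794)) (tt N12502 F141672) (tt N16437 (iv F150513)) (tt N12575 F141673) (tt N16497 (iv F150774)) (tt N16506 D32433) (tt N12501 (iv D30440)) (tt N16507 D32434) (tt N14513 F141674) (tt N16446 (iv F150559)))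
theorem Q14515 : ∀ i, i < 14515 → P i := stepQ 14514 Q14514 (allL N14514 (tt N15498 (iv F146105)) (tt N16506 (iv F150797)) (tt N12503 F141675) (tt N12576 F141676) (tt N16508 D32435) (tt N12502 (iv D30441)) (tt N12525 F141677) (tt N16509 D32436) (tt N16510 D32437) (tt N16447 (iv F150563)))
theorem Q14516 : ∀ i, i < 14516 → P i := stepQ 14515 Q14515 (allL N14515 (tt N15499 (iv F146109)) (tt N16507 (iv F150800)) (tt N12504 F141678) (tt N12577 F141679) (tt N16499 (iv F150780)) (tt N16509 (iv F150807)) (tt N16458 (iv F150615)) (tt N12502 (iv D30442)) (tt N14515 F141680) (tt N16448 (iv F150568)))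
theorem Q14517 : ∀ i, i < 14517 → P i := stepQ 14516 Q14516 (allL N14516 (tt N15500 (iv F146113)) (tt N16440 (iv F150526)) (tt N16508 (iv F150803)) (tt N12752 F141681) (tt N12503 (iv D30443)) (tt N16500 (iv F150783)) (tt N12527 F141682) (tt N16511 D32438) (tt N16512 D32439) (tt N16449 (iv F150572)))
theorem Q14518 : ∀ i, i < 14518 → P i := stepQ 14517 Q14517 (allL N14517 (tt N15501 (iv F146116)) (tt N16441 (iv F150530)) (tt N16509 (iv F150805)) (tt N12505 F141683) (tt N16511 (iv F150813)) (tt N12504 F141684) (tt N16513 D32440) (tt N12503 (iv D30444)) (tt N16514 D32441) (tt N16450 (iv F150576)))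
theorem Q14519 : ∀ i, i < 14519 → P i := stepQ 14518 Q14518 (allL N14518 (tt N15502 (iv F146119)) (tt N16442 (iv F150534)) (tt N16510 (iv F150808)) (tt N12506 F141685) (tt N16512 (iv F150815)) (tt N14518 F141686) (tt N12529 F141687) (tt N16514 (iv F150821)) (tt N12503 (iv D30445)) (tt N16515 D32442))
theorem Q14520 : ∀ i, i < 14520 → P i := stepQ 14519 Q14519 (allL N14519 (tt N15503 (iv F146123)) (tt N16443 (iv F150538)) (tt N12581 F141688) (tt N16513 (iv F150817)) (tt N12755 F141689) (tt N16462 (iv F150633)) (tt N12505 (iv D30446)) (tt N12530 F141690) (tt N16516 D32443) (tt N16452 (iv F150586)))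
theorem Q14521 : ∀ i, i < 14521 → P i := stepQ 14520 Q14520 (allL N14520 (tt N15504 (iv F146127)) (tt N16444 (iv F150544)) (tt N12582 F141691) (tt N16514 (iv F150819)) (tt N12756 F141692) (tt N14520 F141693) (tt N16516 (iv F150827)) (tt N12506 F141694) (tt N12505 (iv D30447)) (tt N16517 D32444))
theorem Q14522 : ∀ i, i < 14522 → P i := stepQ 14521 Q14521 (allL N14521 (tt N15505 (iv F146132)) (tt N15371 (iv F145307)) (tt N12583 F141695) (tt N16515 (iv F150822)) (tt N12757 F141696) (tt N14521 F141697) (tt N12532 F141698) (tt N16517 (iv F150832)) (tt N16454 (iv F150597)) (tt N12506 (iv D30448)))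
theorem Q14523 : ∀ i, i < 14523 → P i := stepQ 14522 Q14522 (allL N14522 (tt N16144 (iv F149372)) (tt N12507 (iv D30449)) (tt N12743 F141699) (tt N12584 F141700) (tt N15512 (iv F146177)) (tt N12709 F141701) (tt N15263 (iv F144682)) (tt N12758 F141702) (tt N14522 F141703) (tt N12698 F141704))
theorem Q14524 : ∀ i, i < 14524 → P i := stepQ 14523 Q14523 (allL N14523 (tt N15507 (iv F146144)) (tt N15263 (iv F144679)) (tt N12508 F141705) (tt N12585 F141706) (tt N15513 (iv F146185)) (tt N16518 D32445) (tt N12507 (iv D30450)) (tt N16519 D32446) (tt N14523 F141707) (tt N12699 F141708))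
theorem Q14525 : ∀ i, i < 14525 → P i := stepQ 14524 Q14524 (allL N14524 (tt N15508 (iv F146150)) (tt N12745 F141709) (tt N16518 (iv F150833)) (tt N12509 F141710) (tt N16520 D32447) (tt N12508 (iv D30451)) (tt N12711 F141711) (tt N16521 D32448) (tt N16522 D32449) (tt N12700 F141712))
theorem Q14526 : ∀ i, i < 14526 → P i := stepQ 14525 Q14525 (allL N14525 (tt N15509 (iv F146155)) (tt N12746 F141713) (tt N16519 (iv F150837)) (tt N12510 F141714) (tt N15515 (iv F146196)) (tt N16521 (iv F150848)) (tt N12761 F141715) (tt N12508 (iv D30452)) (tt N14525 F141716) (tt N12701 F141717))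
theorem Q14527 : ∀ i, i < 14527 → P i := stepQ 14526 Q14526 (allL N14526 (tt N15510 (iv F146162)) (tt N12747 F141718) (tt N12588 F141719) (tt N16521 (iv F150847)) (tt N12515 F141720) (tt N12510 F141721) (tt N16523 D32450) (tt N12509 (iv D30453)) (tt N16524 D32451) (tt N12702 F141722))
theorem Q14528 : ∀ i, i < 14528 → P i := stepQ 14527 Q14527 (allL N14527 (tt N15511 (iv F146168)) (tt N12748 F141723) (tt N12589 F141724) (tt N16522 (iv F150851)) (tt N12516 F141725) (tt N14527 F141726) (tt N12714 F141727) (tt N16524 (iv F150864)) (tt N12509 (iv D30454)) (tt N15373 (iv F145324)))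
theorem Q14529 : ∀ i, i < 14529 → P i := stepQ 14528 Q14528 (allL N14528 (tt N12511 (iv D30455)) (tt N15518 (iv F146213)) (tt N16445 (iv F150549)) (tt N12596 F141728) (tt N16109 (iv F149178)) (tt N16455 (iv F150600)) (tt N16201 (iv F149637)) (tt N12523 F141729) (tt N12533 F141730) (tt N16436 (iv F150511)))
theorem Q14530 : ∀ i, i < 14530 → P i := stepQ 14529 Q14529 (allL N14529 (tt N16201 (iv F149633)) (tt N12512 F141731) (tt N16446 (iv F150556)) (tt N12597 F141732) (tt N16124 (iv F149268)) (tt N16525 D32452) (tt N12511 (iv D30456)) (tt N16526 D32453) (tt N12534 F141733) (tt N16437 (iv F150516)))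
theorem Q14531 : ∀ i, i < 14531 → P i := stepQ 14530 Q14530 (allL N14530 (tt N15519 (iv F146220)) (tt N16525 (iv F150865)) (tt N12513 F141734) (tt N12598 F141735) (tt N16527 D32454) (tt N12512 (iv D30457)) (tt N16457 (iv F150611)) (tt N16528 D32455) (tt N16529 D32456) (tt N16438 (iv F150520)))
theorem Q14532 : ∀ i, i < 14532 → P i := stepQ 14531 Q14531 (allL N14531 (tt N15520 (iv F146223)) (tt N16526 (iv F150868)) (tt N12514 F141736) (tt N12599 F141737) (tt N16158 (iv F149444)) (tt N16528 (iv F150875)) (tt N12526 F141738) (tt N12512 (iv D30458)) (tt N12536 F141739) (tt N16439 (iv F150525)))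
theorem Q14533 : ∀ i, i < 14533 → P i := stepQ 14532 Q14532 (allL N14532 (tt N15521 (iv F146229)) (tt N16449 (iv F150569)) (tt N16527 (iv F150872)) (tt N16520 (iv F150843)) (tt N12513 (iv D30459)) (tt N16212 (iv F149688)) (tt N16459 (iv F150620)) (tt N16530 D32457) (tt N16531 D32458) (tt N16440 (iv F150529)))
theorem Q14534 : ∀ i, i < 14534 → P i := stepQ 14533 Q14533 (allL N14533 (tt N15522 (iv F146232)) (tt N16450 (iv F150573)) (tt N16528 (iv F150873)) (tt N12515 F141740) (tt N16530 (iv F150881)) (tt N12514 F141741) (tt N16532 D32459) (tt N12513 (iv D30460)) (tt N16533 D32460) (tt N16441 (iv F150533)))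
theorem Q14535 : ∀ i, i < 14535 → P i := stepQ 14534 Q14534 (allL N14534 (tt N15523 (iv F146236)) (tt N16451 (iv F150577)) (tt N16529 (iv F150877)) (tt N12516 F141742) (tt N16531 (iv F150882)) (tt N12539 F141743) (tt N16461 (iv F150629)) (tt N16533 (iv F150887)) (tt N12513 (iv D30461)) (tt N16534 D32461))
theorem Q14536 : ∀ i, i < 14536 → P i := stepQ 14535 Q14535 (allL N14535 (tt N15524 (iv F146240)) (tt N16452 (iv F150581)) (tt N12603 F141744) (tt N16532 (iv F150883)) (tt N16523 (iv F150856)) (tt N12530 F141745) (tt N12515 (iv D30462)) (tt N16462 (iv F150634)) (tt N16535 D32462) (tt N16443 (iv F150543)))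
theorem Q14537 : ∀ i, i < 14537 → P i := stepQ 14536 Q14536 (allL N14536 (tt N15525 (iv F146244)) (tt N16453 (iv F150587)) (tt N12604 F141746) (tt N16533 (iv F150885)) (tt N16524 (iv F150862)) (tt N12541 F141747) (tt N16535 (iv F150892)) (tt N12516 F141748) (tt N12515 (iv D30463)) (tt N16536 D32463))
theorem Q14538 : ∀ i, i < 14538 → P i := stepQ 14537 Q14537 (allL N14537 (tt N15526 (iv F146249)) (tt N16454 (iv F150592)) (tt N12605 F141749) (tt N16534 (iv F150889)) (tt N15373 (iv F145321)) (tt N12542 F141750) (tt N15381 (iv F145372)) (tt N16536 (iv F150895)) (tt N15371 F145312) (tt N12516 (iv D30464)))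
theorem Q14539 : ∀ i, i < 14539 → P i := stepQ 14538 Q14538 (allL N14538 (tt N12517 (iv D30465)) (tt N15527 (iv F146256)) (tt N16455 (iv F150598)) (tt N12606 F141751) (tt N15857 (iv F147911)) (tt N16445 (iv F150551)) (tt N16537 D32464) (tt N16436 (iv F150509)) (tt N14538 F141752) (tt N12523 F141753))
theorem Q14540 : ∀ i, i < 14540 → P i := stepQ 14539 Q14539 (allL N14539 (tt N16537 (iv F150896)) (tt N12518 F141754) (tt N16456 (iv F150605)) (tt N12607 F141755) (tt N15858 (iv F147917)) (tt N16538 D32465) (tt N12517 (iv D30466)) (tt N16539 D32466) (tt N14539 F141756) (tt N12524 F141757))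
theorem Q14541 : ∀ i, i < 14541 → P i := stepQ 14540 Q14540 (allL N14540 (tt N15529 (iv F146268)) (tt N16538 (iv F150900)) (tt N12519 F141758) (tt N12608 F141759) (tt N16540 D32467) (tt N12518 (iv D30467)) (tt N16447 (iv F150562)) (tt N16541 D32468) (tt N16542 D32469) (tt N12525 F141760))
theorem Q14542 : ∀ i, i < 14542 → P i := stepQ 14541 Q14541 (allL N14541 (tt N15530 (iv F146272)) (tt N16539 (iv F150903)) (tt N12520 F141761) (tt N12609 F141762) (tt N15860 (iv F147927)) (tt N16541 (iv F150911)) (tt N16439 (iv F150523)) (tt N12518 (iv D30468)) (tt N14541 F141763) (tt N12526 F141764))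
theorem Q14543 : ∀ i, i < 14543 → P i := stepQ 14542 Q14542 (allL N14542 (tt N15531 (iv F146278)) (tt N16459 (iv F150618)) (tt N16540 (iv F150907)) (tt N12772 F141765) (tt N12519 (iv D30469)) (tt N15861 (iv F147932)) (tt N16449 (iv F150571)) (tt N16543 D32470) (tt N16544 D32471) (tt N12527 F141766))
theorem Q14544 : ∀ i, i < 14544 → P i := stepQ 14543 Q14543 (allL N14543 (tt N15532 (iv F146282)) (tt N16460 (iv F150622)) (tt N16541 (iv F150909)) (tt N12521 F141767) (tt N16543 (iv F150917)) (tt N12520 F141768) (tt N16545 D32472) (tt N12519 (iv D30470)) (tt N16546 D32473) (tt N12528 F141769))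
theorem Q14545 : ∀ i, i < 14545 → P i := stepQ 14544 Q14544 (allL N14544 (tt N15533 (iv F146286)) (tt N16461 (iv F150626)) (tt N16542 (iv F150913)) (tt N12522 F141770) (tt N16544 (iv F150920)) (tt N14544 F141771) (tt N16451 (iv F150580)) (tt N16546 (iv F150925)) (tt N12519 (iv D30471)) (tt N16547 D32474))
theorem Q14546 : ∀ i, i < 14546 → P i := stepQ 14545 Q14545 (allL N14545 (tt N15534 (iv F146289)) (tt N16462 (iv F150630)) (tt N12613 F141772) (tt N16545 (iv F150921)) (tt N12775 F141773) (tt N16443 (iv F150541)) (tt N12521 (iv D30472)) (tt N16452 (iv F150585)) (tt N16548 D32475) (tt N12530 F141774))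
theorem Q14547 : ∀ i, i < 14547 → P i := stepQ 14546 Q14546 (allL N14546 (tt N15535 (iv F146293)) (tt N16463 (iv F150636)) (tt N12614 F141775) (tt N16546 (iv F150923)) (tt N12776 F141776) (tt N14546 F141777) (tt N16548 (iv F150931)) (tt N12522 F141778) (tt N12521 (iv D30473)) (tt N16549 D32476))
theorem Q14548 : ∀ i, i < 14548 → P i := stepQ 14547 Q14547 (allL N14547 (tt N15536 (iv F146298)) (tt N15381 (iv F145368)) (tt N12615 F141779) (tt N16547 (iv F150926)) (tt N12777 F141780) (tt N14547 F141781) (tt N16454 (iv F150596)) (tt N16549 (iv F150935)) (tt N12532 F141782) (tt N12522 (iv D30474)))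
theorem Q14549 : ∀ i, i < 14549 → P i := stepQ 14548 Q14548 (allL N14548 (tt N12524 F141783) (tt N15537 (iv F146304)) (tt N16464 (iv F150642)) (tt N12616 F141784) (tt N16160 (iv F149457)) (tt N16550 D32477) (tt N12523 (iv D30475)) (tt N16551 D32478) (tt N12543 F141785) (tt N16537 (iv F150899)))
theorem Q14550 : ∀ i, i < 14550 → P i := stepQ 14549 Q14549 (allL N14549 (tt N16550 (iv F150937)) (tt N12525 F141786) (tt N16465 (iv F150646)) (tt N12617 F141787) (tt N16552 D32479) (tt N12524 (iv D30476)) (tt N16506 (iv F150799)) (tt N16553 D32480) (tt N16554 D32481) (tt N16538 (iv F150902)))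
theorem Q14551 : ∀ i, i < 14551 → P i := stepQ 14550 Q14550 (allL N14550 (tt N16551 (iv F150939)) (tt N12526 F141788) (tt N16466 (iv F150649)) (tt N12618 F141789) (tt N16216 (iv F149701)) (tt N16553 (iv F150945)) (tt N16526 (iv F150870)) (tt N12524 (iv D30477)) (tt N12545 F141790) (tt N16539 (iv F150906)))
theorem Q14552 : ∀ i, i < 14552 → P i := stepQ 14551 Q14551 (allL N14551 (tt N15540 (iv F146317)) (tt N16552 (iv F150942)) (tt N12527 F141791) (tt N16555 D32482) (tt N12525 (iv D30478)) (tt N16217 (iv F149704)) (tt N16508 (iv F150804)) (tt N16556 D32483) (tt N16557 D32484) (tt N16540 (iv F150908)))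
theorem Q14553 : ∀ i, i < 14553 → P i := stepQ 14552 Q14552 (allL N14552 (tt N15541 (iv F146319)) (tt N16553 (iv F150943)) (tt N12528 F141792) (tt N12620 F141793) (tt N16556 (iv F150952)) (tt N12526 F141794) (tt N16558 D32485) (tt N12525 (iv D30479)) (tt N16559 D32486) (tt N16541 (iv F150912)))
theorem Q14554 : ∀ i, i < 14554 → P i := stepQ 14553 Q14553 (allL N14553 (tt N15542 (iv F146323)) (tt N16554 (iv F150946)) (tt N12529 F141795) (tt N12621 F141796) (tt N16557 (iv F150954)) (tt N12548 F141797) (tt N16510 (iv F150811)) (tt N16559 (iv F150960)) (tt N12525 (iv D30480)) (tt N16560 D32487))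
theorem Q14555 : ∀ i, i < 14555 → P i := stepQ 14554 Q14554 (allL N14554 (tt N15543 (iv F146327)) (tt N16470 (iv F150659)) (tt N16556 (iv F150951)) (tt N12783 F141798) (tt N12528 F141799) (tt N16219 (iv F149710)) (tt N16561 D32488) (tt N12527 (iv D30481)) (tt N16562 D32489) (tt N16543 (iv F150918)))
theorem Q14556 : ∀ i, i < 14556 → P i := stepQ 14555 Q14555 (allL N14555 (tt N15544 (iv F146330)) (tt N16471 (iv F150662)) (tt N16557 (iv F150953)) (tt N12784 F141800) (tt N12529 F141801) (tt N16563 D32490) (tt N16512 (iv F150816)) (tt N16562 (iv F150968)) (tt N12527 (iv D30482)) (tt N16564 D32491))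
theorem Q14557 : ∀ i, i < 14557 → P i := stepQ 14556 Q14556 (allL N14556 (tt N15545 (iv F146333)) (tt N16472 (iv F150665)) (tt N16558 (iv F150955)) (tt N12530 F141802) (tt N16561 (iv F150965)) (tt N16532 (iv F150884)) (tt N12528 (iv D30483)) (tt N16513 (iv F150818)) (tt N16565 D32492) (tt N16545 (iv F150922)))
theorem Q14558 : ∀ i, i < 14558 → P i := stepQ 14557 Q14557 (allL N14557 (tt N15546 (iv F146335)) (tt N16473 (iv F150667)) (tt N16559 (iv F150957)) (tt N12531 F141803) (tt N16562 (iv F150967)) (tt N12552 F141804) (tt N16565 (iv F150974)) (tt N12529 F141805) (tt N12528 (iv D30484)) (tt N16566 D32493))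
theorem Q14559 : ∀ i, i < 14559 → P i := stepQ 14558 Q14558 (allL N14558 (tt N15547 (iv F146339)) (tt N15379 (iv F145358)) (tt N16560 (iv F150961)) (tt N12532 F141806) (tt N16564 (iv F150972)) (tt N12553 F141807) (tt N16515 (iv F150824)) (tt N16566 (iv F150977)) (tt N16547 (iv F150928)) (tt N12529 (iv D30485)))
theorem Q14560 : ∀ i, i < 14560 → P i := stepQ 14559 Q14559 (allL N14559 (tt N15548 (iv F146342)) (tt N16474 (iv F150671)) (tt N12627 F141808) (tt N16565 (iv F150973)) (tt N12788 F141809) (tt N16567 D32494) (tt N12531 F141810) (tt N16516 (iv F150828)) (tt N12530 (iv D30486)) (tt N16568 D32495))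
theorem Q14561 : ∀ i, i < 14561 → P i := stepQ 14560 Q14560 (allL N14560 (tt N15549 (iv F146346)) (tt N15380 (iv F145362)) (tt N12628 F141811) (tt N16566 (iv F150975)) (tt N12789 F141812) (tt N12555 F141813) (tt N16568 (iv F150982)) (tt N12532 F141814) (tt N16549 (iv F150936)) (tt N12531 (iv D30487)))
theorem Q14562 : ∀ i, i < 14562 → P i := stepQ 14561 Q14561 (allL N14561 (tt N16200 (iv F149626)) (tt N12536 F141815) (tt N16475 (iv F150676)) (tt N12629 F141816) (tt N16123 (iv F149261)) (tt N16433 (iv F150491)) (tt N12545 F141817) (tt N12534 (iv D30488)) (tt N16526 (iv F150871)) (tt N14561 F141818))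
theorem Q14563 : ∀ i, i < 14563 → P i := stepQ 14562 Q14562 (allL N14562 (tt N15465 (iv F145897)) (tt N16433 (iv F150488)) (tt N12538 F141819) (tt N12630 F141820) (tt N15444 (iv F145781)) (tt N12536 F141821) (tt N16569 D32496) (tt N12535 (iv D30489)) (tt N16570 D32497) (tt N14562 F141822))
theorem Q14564 : ∀ i, i < 14564 → P i := stepQ 14563 Q14563 (allL N14563 (tt N15466 (iv F145904)) (tt N12891 F141823) (tt N12539 F141824) (tt N12631 F141825) (tt N15445 (iv F145788)) (tt N16529 (iv F150879)) (tt N14563 F141826) (tt N16570 (iv F150991)) (tt N12535 (iv D30490)) (tt N12897 (iv F141827)))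
theorem Q14565 : ∀ i, i < 14565 → P i := stepQ 14564 Q14564 (allL N14564 (tt N15463 (iv F145884)) (tt N16478 (iv F150689)) (tt N15444 (iv F145779)) (tt N14564 F141828) (tt N12538 F141829) (tt N15443 (iv F145774)) (tt N16571 D32498) (tt N12537 (iv D30491)) (tt N16572 D32499) (tt N14564 F141830))
theorem Q14566 : ∀ i, i < 14566 → P i := stepQ 14565 Q14565 (allL N14565 (tt N15464 (iv F145891)) (tt N16479 (iv F150693)) (tt N15445 (iv F145786)) (tt N14565 F141831) (tt N12539 F141832) (tt N16573 D32500) (tt N14565 F141833) (tt N16572 (iv F150999)) (tt N12537 (iv D30492)) (tt N16400 (iv F150341)))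
theorem Q14567 : ∀ i, i < 14567 → P i := stepQ 14566 Q14566 (allL N14566 (tt N15550 (iv F146351)) (tt N16480 (iv F150697)) (tt N16569 (iv F150983)) (tt N12540 F141834) (tt N16571 (iv F150994)) (tt N12551 F141835) (tt N12538 (iv D30493)) (tt N14566 F141836) (tt N16574 D32501) (tt N14566 F141837))
theorem Q14568 : ∀ i, i < 14568 → P i := stepQ 14567 Q14567 (allL N14567 (tt N15551 (iv F146357)) (tt N16481 (iv F150702)) (tt N16570 (iv F150989)) (tt N12541 F141838) (tt N16572 (iv F150998)) (tt N16533 (iv F150886)) (tt N16574 (iv F151002)) (tt N12539 F141839) (tt N12538 (iv D30494)) (tt N16575 D32502))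
theorem Q14569 : ∀ i, i < 14569 → P i := stepQ 14568 Q14568 (allL N14568 (tt N15552 (iv F146361)) (tt N16482 (iv F150705)) (tt N12897 F141840) (tt N12542 F141841) (tt N16400 (iv F150338)) (tt N16534 (iv F150890)) (tt N14568 F141842) (tt N16575 (iv F151006)) (tt N14568 F141843) (tt N12539 (iv D30495)))
theorem Q14570 : ∀ i, i < 14570 → P i := stepQ 14569 Q14569 (allL N14569 (tt N15553 (iv F146367)) (tt N16483 (iv F150710)) (tt N12635 F141844) (tt N16574 (iv F151001)) (tt N14569 F141845) (tt N16576 D32503) (tt N12541 F141846) (tt N14569 F141847) (tt N12540 (iv D30496)) (tt N16577 D32504))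
theorem Q14571 : ∀ i, i < 14571 → P i := stepQ 14570 Q14570 (allL N14570 (tt N15554 (iv F146373)) (tt N16484 (iv F150715)) (tt N12636 F141848) (tt N16575 (iv F151005)) (tt N14570 F141849) (tt N16536 (iv F150894)) (tt N16577 (iv F151013)) (tt N12542 F141850) (tt N14570 F141851) (tt N12541 (iv D30497)))
theorem Q14572 : ∀ i, i < 14572 → P i := stepQ 14571 Q14571 (allL N14571 (tt N12544 F141852) (tt N15555 (iv F146380)) (tt N16485 (iv F150721)) (tt N12637 F141853) (tt N16147 (iv F149395)) (tt N12543 (iv D30498)) (tt N14571 F141854) (tt N16578 D32505) (tt N16579 D32506) (tt N14571 F141855))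
theorem Q14573 : ∀ i, i < 14573 → P i := stepQ 14572 Q14572 (allL N14572 (tt N12545 F141856) (tt N15556 (iv F146387)) (tt N16486 (iv F150726)) (tt N12638 F141857) (tt N16159 (iv F149450)) (tt N16578 (iv F151018)) (tt N16200 (iv F149631)) (tt N12543 (iv D30499)) (tt N16551 (iv F150941)) (tt N14572 F141858))
theorem Q14574 : ∀ i, i < 14574 → P i := stepQ 14573 Q14573 (allL N14573 (tt N16147 (iv F149392)) (tt N12546 F141859) (tt N16487 (iv F150730)) (tt N14573 F141860) (tt N12544 (iv D30500)) (tt N16141 F149357) (tt N14573 F141861) (tt N16580 D32507) (tt N16581 D32508) (tt N14573 F141862))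
theorem Q14575 : ∀ i, i < 14575 → P i := stepQ 14574 Q14574 (allL N14574 (tt N16578 (iv F151016)) (tt N12547 F141863) (tt N16488 (iv F150734)) (tt N12639 F141864) (tt N16580 (iv F151025)) (tt N12545 F141865) (tt N16582 D32509) (tt N12544 (iv D30501)) (tt N16583 D32510) (tt N14574 F141866))
theorem Q14576 : ∀ i, i < 14576 → P i := stepQ 14575 Q14575 (allL N14575 (tt N16579 (iv F151020)) (tt N12548 F141867) (tt N16489 (iv F150739)) (tt N12640 F141868) (tt N16581 (iv F151029)) (tt N16554 (iv F150948)) (tt N14575 F141869) (tt N16583 (iv F151037)) (tt N12544 (iv D30502)) (tt N16584 D32511))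
theorem Q14577 : ∀ i, i < 14577 → P i := stepQ 14576 Q14576 (allL N14576 (tt N15559 (iv F146404)) (tt N16580 (iv F151023)) (tt N12549 F141870) (tt N14576 F141871) (tt N12547 F141872) (tt N16163 F149475) (tt N16585 D32512) (tt N12546 (iv D30503)) (tt N16586 D32513) (tt N14576 F141873))
theorem Q14578 : ∀ i, i < 14578 → P i := stepQ 14577 Q14577 (allL N14577 (tt N15560 (iv F146411)) (tt N16581 (iv F151027)) (tt N12550 F141874) (tt N14577 F141875) (tt N12548 F141876) (tt N16587 D32514) (tt N14577 F141877) (tt N16586 (iv F151050)) (tt N12546 (iv D30504)) (tt N16043 (iv F148785)))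
theorem Q14579 : ∀ i, i < 14579 → P i := stepQ 14578 Q14578 (allL N14578 (tt N15561 (iv F146417)) (tt N16582 (iv F151031)) (tt N12551 F141878) (tt N12641 F141879) (tt N16585 (iv F151044)) (tt N16569 (iv F150985)) (tt N12547 (iv D30505)) (tt N14578 F141880) (tt N16588 D32515) (tt N14578 F141881))
theorem Q14580 : ∀ i, i < 14580 → P i := stepQ 14579 Q14579 (allL N14579 (tt N15562 (iv F146422)) (tt N16583 (iv F151035)) (tt N12552 F141882) (tt N12642 F141883) (tt N16586 (iv F151049)) (tt N16559 (iv F150959)) (tt N16588 (iv F151055)) (tt N12548 F141884) (tt N12547 (iv D30506)) (tt N16589 D32516))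
theorem Q14581 : ∀ i, i < 14581 → P i := stepQ 14580 Q14580 (allL N14580 (tt N15563 (iv F146426)) (tt N16584 (iv F151038)) (tt N12553 F141885) (tt N12643 F141886) (tt N16043 (iv F148782)) (tt N16560 (iv F150963)) (tt N14580 F141887) (tt N16589 (iv F151059)) (tt N14580 F141888) (tt N12548 (iv D30507)))
theorem Q14582 : ∀ i, i < 14582 → P i := stepQ 14581 Q14581 (allL N14581 (tt N15564 (iv F146431)) (tt N16493 (iv F150752)) (tt N16585 (iv F151042)) (tt N12556 F141889) (tt N12551 F141890) (tt N16590 D32517) (tt N12549 (iv D30508)) (tt N14581 F141891) (tt N16591 D32518) (tt N14581 F141892))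
theorem Q14583 : ∀ i, i < 14583 → P i := stepQ 14582 Q14582 (allL N14582 (tt N15565 (iv F146436)) (tt N16039 (iv F148756)) (tt N16586 (iv F151047)) (tt N12557 F141893) (tt N12552 F141894) (tt N16592 D32519) (tt N16591 (iv F151066)) (tt N12550 F141895) (tt N12549 (iv D30509)) (tt N16044 (iv F148790)))
theorem Q14584 : ∀ i, i < 14584 → P i := stepQ 14583 Q14583 (allL N14583 (tt N15566 (iv F146440)) (tt N15986 (iv F148496)) (tt N16587 (iv F151051)) (tt N12558 F141896) (tt N16563 (iv F150970)) (tt N12550 (iv D30510)) (tt N16593 D32520) (tt N16592 (iv F151069)) (tt N16227 (iv F149730)) (tt N15999 (iv F148561)))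
theorem Q14585 : ∀ i, i < 14585 → P i := stepQ 14584 Q14584 (allL N14584 (tt N15568 (iv F146448)) (tt N16494 (iv F150757)) (tt N16588 (iv F151053)) (tt N12554 F141897) (tt N16591 (iv F151065)) (tt N16594 D32521) (tt N12552 F141898) (tt N14584 F141899) (tt N12551 (iv D30511)) (tt N16595 D32522))
theorem Q14586 : ∀ i, i < 14586 → P i := stepQ 14585 Q14585 (allL N14585 (tt N15569 (iv F146452)) (tt N15396 (iv F145456)) (tt N16589 (iv F151057)) (tt N12555 F141900) (tt N16044 (iv F148788)) (tt N16566 (iv F150976)) (tt N16595 (iv F151075)) (tt N12553 F141901) (tt N14585 F141902) (tt N12552 (iv D30512)))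
theorem Q14587 : ∀ i, i < 14587 → P i := stepQ 14586 Q14586 (allL N14586 (tt N15570 (iv F146456)) (tt N16495 (iv F150761)) (tt N12646 F141903) (tt N16594 (iv F151072)) (tt N16596 D32523) (tt N12554 (iv D30513)) (tt N16567 (iv F150979)) (tt N14586 F141904) (tt N16576 (iv F151010)) (tt N16597 D32524))
theorem Q14588 : ∀ i, i < 14588 → P i := stepQ 14587 Q14587 (allL N14587 (tt N15571 (iv F146459)) (tt N15397 (iv F145462)) (tt N12647 F141905) (tt N16595 (iv F151074)) (tt N12561 F141906) (tt N16597 (iv F151083)) (tt N12555 F141907) (tt N14587 F141908) (tt N14587 F141909) (tt N12554 (iv D30514)))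
theorem Q14589 : ∀ i, i < 14589 → P i := stepQ 14588 Q14588 (allL N14588 (tt N15572 (iv F146465)) (tt N16496 (iv F150766)) (tt N14588 F141910) (tt N16590 (iv F151061)) (tt N14588 F141911) (tt N12556 (iv D30515)) (tt N15667 F146962) (tt N14588 F141912) (tt N16598 D32525) (tt N14588 F141913))
theorem Q14590 : ∀ i, i < 14590 → P i := stepQ 14589 Q14589 (allL N14589 (tt N15573 (iv F146472)) (tt N16040 (iv F148762)) (tt N14589 F141914) (tt N16591 (iv F151064)) (tt N12559 F141915) (tt N16599 D32526) (tt N12557 F141916) (tt N14589 F141917) (tt N12556 (iv D30516)) (tt N16045 (iv F148796)))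
theorem Q14591 : ∀ i, i < 14591 → P i := stepQ 14590 Q14590 (allL N14590 (tt N15574 (iv F146477)) (tt N15987 (iv F148500)) (tt N14590 F141918) (tt N16592 (iv F151068)) (tt N12801 F141919) (tt N12557 (iv D30517)) (tt N16600 D32527) (tt N12558 F141920) (tt N16230 (iv F149740)) (tt N16000 (iv F148566)))
theorem Q14592 : ∀ i, i < 14592 → P i := stepQ 14591 Q14591 (allL N14591 (tt N15576 (iv F146487)) (tt N15941 (iv F148268)) (tt N14591 F141921) (tt N16593 (iv F151070)) (tt N12802 F141922) (tt N14591 F141923) (tt N12558 (iv D30518)) (tt N16601 D32528) (tt N16232 (iv F149747)) (tt N15952 (iv F148333)))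
theorem Q14593 : ∀ i, i < 14593 → P i := stepQ 14592 Q14592 (allL N14592 (tt N15578 (iv F146496)) (tt N12899 F141924) (tt N12648 F141925) (tt N16602 D32529) (tt N12560 (iv D30519)) (tt N16596 (iv F151080)) (tt N12803 F141926) (tt N14592 F141927) (tt N14592 F141928) (tt N16603 D32530))
theorem Q14594 : ∀ i, i < 14594 → P i := stepQ 14593 Q14593 (allL N14593 (tt N15476 (iv F145964)) (tt N12893 F141929) (tt N12649 F141930) (tt N15449 (iv F145816)) (tt N16603 (iv F151101)) (tt N12561 F141931) (tt N12804 F141932) (tt N14593 F141933) (tt N15448 (iv F145811)) (tt N12560 (iv D30520)))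
theorem Q14595 : ∀ i, i < 14595 → P i := stepQ 14594 Q14594 (allL N14594 (tt N12562 (iv D30521)) (tt N15579 (iv F146501)) (tt N13053 F141934) (tt N16455 (iv F150599)) (tt N14594 F141935) (tt N12596 F141936) (tt N16604 D32531) (tt N12574 F141937) (tt N14594 F141938) (tt N13012 F141939))
theorem Q14596 : ∀ i, i < 14596 → P i := stepQ 14595 Q14595 (allL N14595 (tt N16604 (iv F151105)) (tt N12563 F141940) (tt N13054 F141941) (tt N16456 (iv F150606)) (tt N14595 F141942) (tt N16605 D32532) (tt N12562 (iv D30522)) (tt N16606 D32533) (tt N14595 F141943) (tt N13013 F141944))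
theorem Q14597 : ∀ i, i < 14597 → P i := stepQ 14596 Q14596 (allL N14596 (tt N15581 (iv F146513)) (tt N16605 (iv F151110)) (tt N12564 F141945) (tt N16457 (iv F150610)) (tt N16607 D32534) (tt N12563 (iv D30523)) (tt N12598 F141946) (tt N16608 D32535) (tt N16609 D32536) (tt N13014 F141947))
theorem Q14598 : ∀ i, i < 14598 → P i := stepQ 14597 Q14597 (allL N14597 (tt N15582 (iv F146517)) (tt N16606 (iv F151116)) (tt N12565 F141948) (tt N16458 (iv F150614)) (tt N14597 F141949) (tt N16608 (iv F151129)) (tt N12577 F141950) (tt N12563 (iv D30524)) (tt N14597 F141951) (tt N13015 F141952))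
theorem Q14599 : ∀ i, i < 14599 → P i := stepQ 14598 Q14598 (allL N14598 (tt N15583 (iv F146523)) (tt N13057 F141953) (tt N16607 (iv F151123)) (tt N12843 F141954) (tt N12564 (iv D30525)) (tt N14598 F141955) (tt N12600 F141956) (tt N16610 D32537) (tt N12992 (iv F141958)) (tt N12840 F141957))
theorem Q14600 : ∀ i, i < 14600 → P i := stepQ 14599 Q14599 (allL N14599 (tt N15584 (iv F146530)) (tt N13058 F141959) (tt N16608 (iv F151128)) (tt N12566 F141960) (tt N16610 (iv F151139)) (tt N12565 F141961) (tt N16611 D32538) (tt N12564 (iv D30526)) (tt N16612 D32539) (tt N13016 F141962))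
theorem Q14601 : ∀ i, i < 14601 → P i := stepQ 14600 Q14600 (allL N14600 (tt N15585 (iv F146535)) (tt N13059 F141963) (tt N16609 (iv F151132)) (tt N12567 F141964) (tt N12992 F141965) (tt N14600 F141966) (tt N12602 F141967) (tt N16612 (iv F151152)) (tt N12564 (iv D30527)) (tt N12991 F141968))
theorem Q14602 : ∀ i, i < 14602 → P i := stepQ 14601 Q14601 (allL N14601 (tt N15586 (iv F146542)) (tt N13060 F141969) (tt N16462 (iv F150631)) (tt N16611 (iv F151144)) (tt N13200 F141970) (tt N12581 F141971) (tt N12566 (iv D30528)) (tt N12603 F141972) (tt N16613 D32540) (tt N13017 F141973))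
theorem Q14603 : ∀ i, i < 14603 → P i := stepQ 14602 Q14602 (allL N14602 (tt N15587 (iv F146548)) (tt N13061 F141974) (tt N16463 (iv F150637)) (tt N16612 (iv F151149)) (tt N13201 F141975) (tt N14602 F141976) (tt N16613 (iv F151156)) (tt N12567 F141977) (tt N12566 (iv D30529)) (tt N15385 (iv F145395)))
theorem Q14604 : ∀ i, i < 14604 → P i := stepQ 14603 Q14603 (allL N14603 (tt N12568 (iv D30530)) (tt N15588 (iv F146554)) (tt N13043 F141978) (tt N16445 (iv F150550)) (tt N14603 F141979) (tt N12606 F141980) (tt N16614 D32541) (tt N13012 F141981) (tt N13018 F141982) (tt N12574 F141983))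
theorem Q14605 : ∀ i, i < 14605 → P i := stepQ 14604 Q14604 (allL N14604 (tt N16614 (iv F151158)) (tt N12569 F141984) (tt N13044 F141985) (tt N16446 (iv F150557)) (tt N14604 F141986) (tt N16615 D32542) (tt N12568 (iv D30531)) (tt N16616 D32543) (tt N13019 F141987) (tt N12575 F141988))
theorem Q14606 : ∀ i, i < 14606 → P i := stepQ 14605 Q14605 (allL N14605 (tt N15590 (iv F146566)) (tt N16615 (iv F151163)) (tt N12570 F141989) (tt N16447 (iv F150561)) (tt N16617 D32544) (tt N12569 (iv D30532)) (tt N12608 F141990) (tt N16618 D32545) (tt N16619 D32546) (tt N12576 F141991))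
theorem Q14607 : ∀ i, i < 14607 → P i := stepQ 14606 Q14606 (allL N14606 (tt N15591 (iv F146570)) (tt N16616 (iv F151169)) (tt N12571 F141992) (tt N16448 (iv F150565)) (tt N14606 F141993) (tt N16618 (iv F151182)) (tt N13015 F141994) (tt N12569 (iv D30533)) (tt N13021 F141995) (tt N12577 F141996))
theorem Q14608 : ∀ i, i < 14608 → P i := stepQ 14607 Q14607 (allL N14607 (tt N15592 (iv F146576)) (tt N13047 F141997) (tt N16617 (iv F151176)) (tt N12817 F141998) (tt N12570 (iv D30534)) (tt N14607 F141999) (tt N12610 F142000) (tt N16620 D32547) (tt N13128 (iv F142002)) (tt N12578 F142001))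
theorem Q14609 : ∀ i, i < 14609 → P i := stepQ 14608 Q14608 (allL N14608 (tt N15593 (iv F146583)) (tt N13048 F142003) (tt N16618 (iv F151181)) (tt N12572 F142004) (tt N16620 (iv F151192)) (tt N12571 F142005) (tt N16621 D32548) (tt N12570 (iv D30535)) (tt N16622 D32549) (tt N12579 F142006))
theorem Q14610 : ∀ i, i < 14610 → P i := stepQ 14609 Q14609 (allL N14609 (tt N15594 (iv F146588)) (tt N13049 F142007) (tt N16619 (iv F151185)) (tt N12573 F142008) (tt N13128 F142009) (tt N13024 F142010) (tt N12612 F142011) (tt N16622 (iv F151205)) (tt N12570 (iv D30536)) (tt N13138 (iv F142012)))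
theorem Q14611 : ∀ i, i < 14611 → P i := stepQ 14610 Q14610 (allL N14610 (tt N15595 (iv F146595)) (tt N13050 F142013) (tt N16452 (iv F150582)) (tt N16621 (iv F151197)) (tt N12820 F142014) (tt N13017 F142015) (tt N12572 (iv D30537)) (tt N12613 F142016) (tt N16623 D32550) (tt N12581 F142017))
theorem Q14612 : ∀ i, i < 14612 → P i := stepQ 14611 Q14611 (allL N14611 (tt N15596 (iv F146601)) (tt N13051 F142018) (tt N16453 (iv F150588)) (tt N16622 (iv F151202)) (tt N12821 F142019) (tt N13026 F142020) (tt N16623 (iv F151209)) (tt N12573 F142021) (tt N12572 (iv D30538)) (tt N16624 D32551))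
theorem Q14613 : ∀ i, i < 14613 → P i := stepQ 14612 Q14612 (allL N14612 (tt N15597 (iv F146606)) (tt N13052 F142022) (tt N16454 (iv F150593)) (tt N13138 F142023) (tt N12822 F142024) (tt N13027 F142025) (tt N12615 F142026) (tt N16624 (iv F151215)) (tt N12583 F142027) (tt N12573 (iv D30539)))
theorem Q14614 : ∀ i, i < 14614 → P i := stepQ 14613 Q14613 (allL N14613 (tt N12575 F142028) (tt N15598 (iv F146614)) (tt N13098 F142029) (tt N16505 (iv F150795)) (tt N14613 F142030) (tt N16625 D32552) (tt N12574 (iv D30540)) (tt N16626 D32553) (tt N14613 F142031) (tt N16614 (iv F151162)))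
theorem Q14615 : ∀ i, i < 14615 → P i := stepQ 14614 Q14614 (allL N14614 (tt N16625 (iv F151217)) (tt N12576 F142032) (tt N13099 F142033) (tt N16506 (iv F150798)) (tt N16627 D32554) (tt N12575 (iv D30541)) (tt N12617 F142034) (tt N16628 D32555) (tt N16629 D32556) (tt N16615 (iv F151167)))
theorem Q14616 : ∀ i, i < 14616 → P i := stepQ 14615 Q14615 (allL N14615 (tt N16626 (iv F151220)) (tt N12577 F142035) (tt N13100 F142036) (tt N16507 (iv F150801)) (tt N14615 F142037) (tt N16628 (iv F151232)) (tt N16606 (iv F151119)) (tt N12575 (iv D30542)) (tt N14615 F142038) (tt N16616 (iv F151174)))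
theorem Q14617 : ∀ i, i < 14617 → P i := stepQ 14616 Q14616 (allL N14616 (tt N15601 (iv F146625)) (tt N16627 (iv F151224)) (tt N12578 F142039) (tt N16630 D32557) (tt N12576 (iv D30543)) (tt N14616 F142040) (tt N12619 F142041) (tt N16631 D32558) (tt N16632 D32559) (tt N16617 (iv F151179)))
theorem Q14618 : ∀ i, i < 14618 → P i := stepQ 14617 Q14617 (allL N14617 (tt N15602 (iv F146629)) (tt N16628 (iv F151230)) (tt N12579 F142042) (tt N16509 (iv F150806)) (tt N16631 (iv F151243)) (tt N12577 F142043) (tt N16633 D32560) (tt N12576 (iv D30544)) (tt N16634 D32561) (tt N16618 (iv F151183)))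
theorem Q14619 : ∀ i, i < 14619 → P i := stepQ 14618 Q14618 (allL N14618 (tt N15603 (iv F146632)) (tt N16629 (iv F151233)) (tt N12580 F142044) (tt N16510 (iv F150809)) (tt N16632 (iv F151247)) (tt N14618 F142045) (tt N12621 F142046) (tt N16634 (iv F151255)) (tt N12576 (iv D30545)) (tt N16635 D32562))
theorem Q14620 : ∀ i, i < 14620 → P i := stepQ 14619 Q14619 (allL N14619 (tt N15604 (iv F146636)) (tt N13104 F142047) (tt N16631 (iv F151242)) (tt N12828 F142048) (tt N12579 F142049) (tt N14619 F142050) (tt N16636 D32563) (tt N12578 (iv D30546)) (tt N16637 D32564) (tt N16620 (iv F151195)))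
theorem Q14621 : ∀ i, i < 14621 → P i := stepQ 14620 Q14620 (allL N14620 (tt N15605 (iv F146641)) (tt N13105 F142051) (tt N16632 (iv F151246)) (tt N12829 F142052) (tt N12580 F142053) (tt N13160 (iv F142056)) (tt N12623 F142054) (tt N16637 (iv F151269)) (tt N12578 (iv D30547)) (tt N13140 F142055))
theorem Q14622 : ∀ i, i < 14622 → P i := stepQ 14621 Q14621 (allL N14621 (tt N15606 (iv F146648)) (tt N13106 F142057) (tt N16633 (iv F151251)) (tt N12581 F142058) (tt N16636 (iv F151264)) (tt N16611 (iv F151145)) (tt N12579 (iv D30548)) (tt N12624 F142059) (tt N16638 D32565) (tt N16621 (iv F151200)))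
theorem Q14623 : ∀ i, i < 14623 → P i := stepQ 14622 Q14622 (allL N14622 (tt N15607 (iv F146652)) (tt N13107 F142060) (tt N16634 (iv F151253)) (tt N12582 F142061) (tt N16637 (iv F151268)) (tt N14622 F142062) (tt N16638 (iv F151274)) (tt N12580 F142063) (tt N12579 (iv D30549)) (tt N16639 D32566))
theorem Q14624 : ∀ i, i < 14624 → P i := stepQ 14623 Q14623 (allL N14623 (tt N15608 (iv F146657)) (tt N13108 F142064) (tt N16635 (iv F151257)) (tt N12583 F142065) (tt N13140 F142066) (tt N14623 F142067) (tt N12626 F142068) (tt N16639 (iv F151280)) (tt N13138 F142069) (tt N12580 (iv D30550)))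
theorem Q14625 : ∀ i, i < 14625 → P i := stepQ 14624 Q14624 (allL N14624 (tt N15609 (iv F146664)) (tt N13109 F142070) (tt N16516 (iv F150825)) (tt N16638 (iv F151273)) (tt N12833 F142071) (tt N16640 D32567) (tt N12582 F142072) (tt N12627 F142073) (tt N12581 (iv D30551)) (tt N16641 D32568))
theorem Q14626 : ∀ i, i < 14626 → P i := stepQ 14625 Q14625 (allL N14625 (tt N15610 (iv F146669)) (tt N13110 F142074) (tt N16517 (iv F150829)) (tt N16639 (iv F151277)) (tt N12834 F142075) (tt N14625 F142076) (tt N16641 (iv F151287)) (tt N12583 F142077) (tt N16624 (iv F151216)) (tt N12582 (iv D30552)))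
theorem Q14627 : ∀ i, i < 14627 → P i := stepQ 14626 Q14626 (allL N14626 (tt N15613 (iv F146688)) (tt N15259 (iv F144652)) (tt N12586 F142078) (tt N16518 (iv F150834)) (tt N15307 (iv F144961)) (tt N12585 (iv D30553)) (tt N12768 F142079) (tt N16642 D32569) (tt N15338 (iv F145146)) (tt N12742 F142080))
theorem Q14628 : ∀ i, i < 14628 → P i := stepQ 14627 Q14627 (allL N14627 (tt N15614 (iv F146693)) (tt N15264 (iv F144685)) (tt N12587 F142081) (tt N16519 (iv F150838)) (tt N12650 F142082) (tt N16642 (iv F151290)) (tt N12837 F142083) (tt N12585 (iv D30554)) (tt N14627 F142084) (tt N12972 F142085))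
theorem Q14629 : ∀ i, i < 14629 → P i := stepQ 14628 Q14628 (allL N14628 (tt N15615 (iv F146699)) (tt N13113 F142086) (tt N15307 (iv F144960)) (tt N12600 F142087) (tt N12586 (iv D30555)) (tt N12651 F142088) (tt N12843 F142089) (tt N16643 D32570) (tt N12994 F142090) (tt N12809 F142091))
theorem Q14630 : ∀ i, i < 14630 → P i := stepQ 14629 Q14629 (allL N14629 (tt N15616 (iv F146706)) (tt N13114 F142092) (tt N16642 (iv F151289)) (tt N12588 F142093) (tt N16643 (iv F151294)) (tt N12587 F142094) (tt N16644 D32571) (tt N12586 (iv D30556)) (tt N15378 (iv F145356)) (tt N12813 F142095))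
theorem Q14631 : ∀ i, i < 14631 → P i := stepQ 14630 Q14630 (allL N14630 (tt N15617 (iv F146712)) (tt N13116 F142096) (tt N16523 (iv F150855)) (tt N16644 (iv F151299)) (tt N12603 F142097) (tt N12841 F142098) (tt N12588 (iv D30557)) (tt N13200 F142099) (tt N16645 D32572) (tt N13198 F142100))
theorem Q14632 : ∀ i, i < 14632 → P i := stepQ 14631 Q14631 (allL N14631 (tt N15618 (iv F146718)) (tt N13117 F142101) (tt N16524 (iv F150861)) (tt N15378 (iv F145352)) (tt N12604 F142102) (tt N14631 F142103) (tt N16645 (iv F151305)) (tt N12589 F142104) (tt N12588 (iv D30558)) (tt N15376 (iv F145344)))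
theorem Q14633 : ∀ i, i < 14633 → P i := stepQ 14632 Q14632 (allL N14632 (tt N12590 (iv D30559)) (tt N15619 (iv F146725)) (tt N13033 F142105) (tt N16436 (iv F150507)) (tt N12655 F142106) (tt N13012 F142107) (tt N16206 (iv F149659)) (tt N12606 F142108) (tt N14632 F142109) (tt N12596 F142110))
theorem Q14634 : ∀ i, i < 14634 → P i := stepQ 14633 Q14633 (allL N14633 (tt N16206 (iv F149655)) (tt N12591 F142111) (tt N13034 F142112) (tt N16437 (iv F150514)) (tt N12656 F142113) (tt N16646 D32573) (tt N12590 (iv D30560)) (tt N16647 D32574) (tt N14633 F142114) (tt N12597 F142115))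
theorem Q14635 : ∀ i, i < 14635 → P i := stepQ 14634 Q14634 (allL N14634 (tt N15620 (iv F146733)) (tt N16646 (iv F151307)) (tt N12592 F142116) (tt N16438 (iv F150518)) (tt N16648 D32575) (tt N12591 (iv D30561)) (tt N13014 F142117) (tt N16649 D32576) (tt N16650 D32577) (tt N12598 F142118))
theorem Q14636 : ∀ i, i < 14636 → P i := stepQ 14635 Q14635 (allL N14635 (tt N15621 (iv F146737)) (tt N16647 (iv F151313)) (tt N12593 F142119) (tt N16439 (iv F150522)) (tt N12658 F142120) (tt N16649 (iv F151326)) (tt N12609 F142121) (tt N12591 (iv D30562)) (tt N14635 F142122) (tt N12599 F142123))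
theorem Q14637 : ∀ i, i < 14637 → P i := stepQ 14636 Q14636 (allL N14636 (tt N15622 (iv F146743)) (tt N13037 F142124) (tt N16648 (iv F151320)) (tt N12809 F142125) (tt N12592 (iv D30563)) (tt N12659 F142126) (tt N12840 F142127) (tt N16651 D32578) (tt N12806 (iv F142129)) (tt N12600 F142128))
theorem Q14638 : ∀ i, i < 14638 → P i := stepQ 14637 Q14637 (allL N14637 (tt N15623 (iv F146750)) (tt N13038 F142130) (tt N16649 (iv F151325)) (tt N12594 F142131) (tt N16651 (iv F151336)) (tt N12593 F142132) (tt N16652 D32579) (tt N12592 (iv D30564)) (tt N16653 D32580) (tt N12601 F142133))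
theorem Q14639 : ∀ i, i < 14639 → P i := stepQ 14638 Q14638 (allL N14638 (tt N15624 (iv F146755)) (tt N13039 F142134) (tt N16650 (iv F151329)) (tt N12595 F142135) (tt N12806 F142136) (tt N14638 F142137) (tt N12838 F142138) (tt N16653 (iv F151349)) (tt N12592 (iv D30565)) (tt N12993 F142139))
theorem Q14640 : ∀ i, i < 14640 → P i := stepQ 14639 Q14639 (allL N14639 (tt N15625 (iv F146762)) (tt N13040 F142140) (tt N16443 (iv F150539)) (tt N16652 (iv F151341)) (tt N13198 F142141) (tt N12613 F142142) (tt N12594 (iv D30566)) (tt N13017 F142143) (tt N16654 D32581) (tt N12603 F142144))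
theorem Q14641 : ∀ i, i < 14641 → P i := stepQ 14640 Q14640 (allL N14640 (tt N15626 (iv F146768)) (tt N13041 F142145) (tt N16444 (iv F150545)) (tt N16653 (iv F151346)) (tt N12811 F142146) (tt N14640 F142147) (tt N16654 (iv F151353)) (tt N12595 F142148) (tt N12594 (iv D30567)) (tt N15374 (iv F145331)))
theorem Q14642 : ∀ i, i < 14642 → P i := stepQ 14641 Q14641 (allL N14641 (tt N15988 (iv F148505)) (tt N12598 F142149) (tt N12853 F142150) (tt N16525 (iv F150866)) (tt N12851 F142151) (tt N12597 (iv D30568)) (tt N16605 (iv F151112)) (tt N16655 D32582) (tt N12849 F142152) (tt N16646 (iv F151311)))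
theorem Q14643 : ∀ i, i < 14643 → P i := stepQ 14642 Q14642 (allL N14642 (tt N16205 (iv F149649)) (tt N12599 F142153) (tt N13120 F142154) (tt N16526 (iv F150869)) (tt N12664 F142155) (tt N16655 (iv F151358)) (tt N12618 F142156) (tt N12597 (iv D30569)) (tt N12629 F142157) (tt N16647 (iv F151318)))
theorem Q14644 : ∀ i, i < 14644 → P i := stepQ 14643 Q14643 (allL N14643 (tt N15321 (iv F145037)) (tt N12851 F142158) (tt N12600 F142159) (tt N16656 D32583) (tt N12598 (iv D30570)) (tt N12665 F142160) (tt N16607 (iv F151125)) (tt N16657 D32584) (tt N12848 (iv F142161)) (tt N16648 (iv F151323)))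
theorem Q14645 : ∀ i, i < 14645 → P i := stepQ 14644 Q14644 (allL N14644 (tt N15627 (iv F146774)) (tt N16655 (iv F151355)) (tt N12601 F142162) (tt N16528 (iv F150874)) (tt N16657 (iv F151365)) (tt N12599 F142163) (tt N16658 D32585) (tt N12598 (iv D30571)) (tt N16659 D32586) (tt N16649 (iv F151327)))
theorem Q14646 : ∀ i, i < 14646 → P i := stepQ 14645 Q14645 (allL N14645 (tt N15475 (iv F145958)) (tt N12849 F142164) (tt N12602 F142165) (tt N16529 (iv F150878)) (tt N12848 F142166) (tt N12631 F142167) (tt N16609 (iv F151135)) (tt N16659 (iv F151374)) (tt N12598 (iv D30572)) (tt N12859 (iv F142168)))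
theorem Q14647 : ∀ i, i < 14647 → P i := stepQ 14646 Q14646 (allL N14646 (tt N15628 (iv F146777)) (tt N13122 F142169) (tt N16657 (iv F151364)) (tt N16643 (iv F151293)) (tt N12601 F142170) (tt N12667 F142171) (tt N16660 D32587) (tt N12600 (iv D30573)) (tt N12879 F142172) (tt N16651 (iv F151339)))
theorem Q14648 : ∀ i, i < 14648 → P i := stepQ 14647 Q14647 (allL N14647 (tt N15629 (iv F146782)) (tt N13123 F142173) (tt N16658 (iv F151368)) (tt N12603 F142174) (tt N16660 (iv F151377)) (tt N12624 F142175) (tt N12601 (iv D30574)) (tt N16611 (iv F151146)) (tt N16661 D32588) (tt N16652 (iv F151344)))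
theorem Q14649 : ∀ i, i < 14649 → P i := stepQ 14648 Q14648 (allL N14648 (tt N15630 (iv F146786)) (tt N13124 F142176) (tt N16659 (iv F151371)) (tt N12604 F142177) (tt N12879 F142178) (tt N12634 F142179) (tt N16661 (iv F151382)) (tt N12602 F142180) (tt N12601 (iv D30575)) (tt N12878 (iv F142181)))
theorem Q14650 : ∀ i, i < 14650 → P i := stepQ 14649 Q14649 (allL N14649 (tt N15631 (iv F146793)) (tt N13125 F142182) (tt N16535 (iv F150891)) (tt N16661 (iv F151380)) (tt N16645 (iv F151304)) (tt N16662 D32589) (tt N12604 F142183) (tt N16613 (iv F151157)) (tt N12603 (iv D30576)) (tt N16663 D32590))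
theorem Q14651 : ∀ i, i < 14651 → P i := stepQ 14650 Q14650 (allL N14650 (tt N15632 (iv F146796)) (tt N13126 F142184) (tt N16536 (iv F150893)) (tt N12878 F142185) (tt N15376 (iv F145341)) (tt N12636 F142186) (tt N16663 (iv F151389)) (tt N12605 F142187) (tt N15374 (iv F145330)) (tt N12604 (iv D30577)))
theorem Q14652 : ∀ i, i < 14652 → P i := stepQ 14651 Q14651 (allL N14651 (tt N12607 F142188) (tt N15633 (iv F146804)) (tt N13127 F142189) (tt N16537 (iv F150897)) (tt N12672 F142190) (tt N16664 D32591) (tt N12606 (iv D30578)) (tt N16665 D32592) (tt N14651 F142191) (tt N12616 F142192))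
theorem Q14653 : ∀ i, i < 14653 → P i := stepQ 14652 Q14652 (allL N14652 (tt N16664 (iv F151390)) (tt N12608 F142193) (tt N13128 F142194) (tt N16538 (iv F150901)) (tt N16619 (iv F151186)) (tt N12607 (iv D30579)) (tt N16615 (iv F151165)) (tt N16666 D32593) (tt N16617 F151180) (tt N12617 F142195))
theorem Q14654 : ∀ i, i < 14654 → P i := stepQ 14653 Q14653 (allL N14653 (tt N16665 (iv F151393)) (tt N12609 F142196) (tt N13129 F142197) (tt N16539 (iv F150904)) (tt N12674 F142198) (tt N16666 (iv F151400)) (tt N16647 (iv F151316)) (tt N12607 (iv D30580)) (tt N14653 F142199) (tt N12618 F142200))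
theorem Q14655 : ∀ i, i < 14655 → P i := stepQ 14654 Q14654 (allL N14654 (tt N15636 (iv F146817)) (tt N16619 (iv F151184)) (tt N12610 F142201) (tt N16667 D32594) (tt N12608 (iv D30581)) (tt N12675 F142202) (tt N16617 (iv F151178)) (tt N16668 D32595) (tt N16615 (iv F151166)) (tt N12619 F142203))
theorem Q14656 : ∀ i, i < 14656 → P i := stepQ 14655 Q14655 (allL N14655 (tt N15637 (iv F146821)) (tt N16666 (iv F151398)) (tt N12611 F142204) (tt N16541 (iv F150910)) (tt N16668 (iv F151406)) (tt N12609 F142205) (tt N16669 D32596) (tt N12608 (iv D30582)) (tt N16670 D32597) (tt N12620 F142206))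
theorem Q14657 : ∀ i, i < 14657 → P i := stepQ 14656 Q14656 (allL N14656 (tt N15638 (iv F146825)) (tt N16617 (iv F151175)) (tt N12612 F142207) (tt N16542 (iv F150914)) (tt N16615 F151168) (tt N14656 F142208) (tt N16619 (iv F151188)) (tt N16670 (iv F151413)) (tt N12608 (iv D30583)) (tt N16627 (iv F151228)))
theorem Q14658 : ∀ i, i < 14658 → P i := stepQ 14657 Q14657 (allL N14657 (tt N15639 (iv F146828)) (tt N13131 F142209) (tt N16668 (iv F151405)) (tt N12852 F142210) (tt N12611 F142211) (tt N12678 F142212) (tt N16671 D32598) (tt N12610 (iv D30584)) (tt N16672 D32599) (tt N12622 F142213))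
theorem Q14659 : ∀ i, i < 14659 → P i := stepQ 14658 Q14658 (allL N14658 (tt N15640 (iv F146834)) (tt N13045 F142214) (tt N16615 (iv F151164)) (tt N12853 F142215) (tt N12612 F142216) (tt N13044 F142217) (tt N13128 F142218) (tt N16672 (iv F151422)) (tt N12610 (iv D30585)) (tt N13099 (iv F142219)))
theorem Q14660 : ∀ i, i < 14660 → P i := stepQ 14659 Q14659 (allL N14659 (tt N15641 (iv F146841)) (tt N13132 F142220) (tt N16669 (iv F151409)) (tt N12613 F142221) (tt N16671 (iv F151416)) (tt N16652 (iv F151342)) (tt N12611 (iv D30586)) (tt N16621 (iv F151199)) (tt N16673 D32600) (tt N12624 F142222))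
theorem Q14661 : ∀ i, i < 14661 → P i := stepQ 14660 Q14660 (allL N14660 (tt N15642 (iv F146845)) (tt N13133 F142223) (tt N16670 (iv F151411)) (tt N12614 F142224) (tt N16672 (iv F151420)) (tt N14660 F142225) (tt N16673 (iv F151426)) (tt N12612 F142226) (tt N12611 (iv D30587)) (tt N16674 D32601))
theorem Q14662 : ∀ i, i < 14662 → P i := stepQ 14661 Q14661 (allL N14661 (tt N15643 (iv F146850)) (tt N13101 F142227) (tt N16627 (iv F151225)) (tt N12615 F142228) (tt N13099 F142229) (tt N14661 F142230) (tt N13138 F142231) (tt N16674 (iv F151431)) (tt N12626 F142232) (tt N12612 (iv D30588)))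
theorem Q14663 : ∀ i, i < 14663 → P i := stepQ 14662 Q14662 (allL N14662 (tt N15644 (iv F146857)) (tt N13134 F142233) (tt N16548 (iv F150929)) (tt N16673 (iv F151425)) (tt N12857 F142234) (tt N16675 D32602) (tt N12614 F142235) (tt N16623 (iv F151210)) (tt N12613 (iv D30589)) (tt N16676 D32603))
theorem Q14664 : ∀ i, i < 14664 → P i := stepQ 14663 Q14663 (allL N14663 (tt N15645 (iv F146861)) (tt N13135 F142236) (tt N16549 (iv F150932)) (tt N16674 (iv F151428)) (tt N12858 F142237) (tt N14663 F142238) (tt N16676 (iv F151437)) (tt N12615 F142239) (tt N12628 F142240) (tt N12614 (iv D30590)))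
theorem Q14665 : ∀ i, i < 14665 → P i := stepQ 14664 Q14664 (allL N14664 (tt N12617 F142241) (tt N15646 (iv F146868)) (tt N13136 F142242) (tt N16550 (iv F150938)) (tt N16677 D32604) (tt N12616 (iv D30591)) (tt N16625 (iv F151219)) (tt N16678 D32605) (tt N16679 D32606) (tt N16664 (iv F151392)))
theorem Q14666 : ∀ i, i < 14666 → P i := stepQ 14665 Q14665 (allL N14665 (tt N12618 F142243) (tt N15647 (iv F146871)) (tt N13137 F142244) (tt N16551 (iv F150940)) (tt N12684 F142245) (tt N16678 (iv F151444)) (tt N16205 (iv F149653)) (tt N12616 (iv D30592)) (tt N12638 F142246) (tt N16665 (iv F151397)))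
theorem Q14667 : ∀ i, i < 14667 → P i := stepQ 14666 Q14666 (allL N14666 (tt N16677 (iv F151439)) (tt N12619 F142247) (tt N13138 F142248) (tt N16680 D32607) (tt N12617 (iv D30593)) (tt N12685 F142249) (tt N16627 (iv F151227)) (tt N16681 D32608) (tt N16635 (iv F151261)) (tt N16619 F151189))
theorem Q14668 : ∀ i, i < 14668 → P i := stepQ 14667 Q14667 (allL N14667 (tt N16678 (iv F151442)) (tt N12620 F142250) (tt N13139 F142251) (tt N16553 (iv F150944)) (tt N16681 (iv F151452)) (tt N12618 F142252) (tt N16682 D32609) (tt N12617 (iv D30594)) (tt N16683 D32610) (tt N16666 (iv F151401)))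
theorem Q14669 : ∀ i, i < 14669 → P i := stepQ 14668 Q14668 (allL N14668 (tt N16679 (iv F151445)) (tt N12621 F142253) (tt N13140 F142254) (tt N16554 (iv F150947)) (tt N16635 (iv F151258)) (tt N12640 F142255) (tt N16629 (iv F151237)) (tt N16683 (iv F151459)) (tt N12617 (iv D30595)) (tt N16632 (iv F151249)))
theorem Q14670 : ∀ i, i < 14670 → P i := stepQ 14669 Q14669 (allL N14669 (tt N15651 (iv F146885)) (tt N16680 (iv F151448)) (tt N12861 F142256) (tt N12619 (iv D30596)) (tt N16555 (iv F150950)) (tt N12687 F142257) (tt N16630 (iv F151241)) (tt N16684 D32611) (tt N16685 D32612) (tt N16667 (iv F151404)))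
theorem Q14671 : ∀ i, i < 14671 → P i := stepQ 14670 Q14670 (allL N14670 (tt N15652 (iv F146888)) (tt N16681 (iv F151450)) (tt N12622 F142258) (tt N16684 (iv F151461)) (tt N12620 F142259) (tt N12688 F142260) (tt N16686 D32613) (tt N12619 (iv D30597)) (tt N16687 D32614) (tt N16668 (iv F151408)))
theorem Q14672 : ∀ i, i < 14672 → P i := stepQ 14671 Q14671 (allL N14671 (tt N15653 (iv F146892)) (tt N16635 (iv F151256)) (tt N12623 F142261) (tt N16685 (iv F151464)) (tt N12621 F142262) (tt N14671 F142263) (tt N16632 (iv F151248)) (tt N16687 (iv F151471)) (tt N12619 (iv D30598)) (tt N16629 (iv F151238)))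
theorem Q14673 : ∀ i, i < 14673 → P i := stepQ 14672 Q14672 (allL N14672 (tt N15654 (iv F146896)) (tt N16682 (iv F151454)) (tt N12624 F142264) (tt N16558 (iv F150956)) (tt N16686 (iv F151467)) (tt N16658 (iv F151369)) (tt N12620 (iv D30599)) (tt N16633 (iv F151252)) (tt N16688 D32615) (tt N16669 (iv F151410)))
theorem Q14674 : ∀ i, i < 14674 → P i := stepQ 14673 Q14673 (allL N14673 (tt N15655 (iv F146898)) (tt N16683 (iv F151456)) (tt N12625 F142265) (tt N16559 (iv F150958)) (tt N16687 (iv F151469)) (tt N12642 F142266) (tt N16688 (iv F151473)) (tt N12621 F142267) (tt N12620 (iv D30600)) (tt N16689 D32616))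
theorem Q14675 : ∀ i, i < 14675 → P i := stepQ 14674 Q14674 (allL N14674 (tt N15656 (iv F146902)) (tt N16632 (iv F151245)) (tt N12626 F142268) (tt N16560 (iv F150962)) (tt N16629 (iv F151235)) (tt N12643 F142269) (tt N16635 (iv F151260)) (tt N16689 (iv F151476)) (tt N16627 F151229) (tt N12621 (iv D30601)))
theorem Q14676 : ∀ i, i < 14676 → P i := stepQ 14675 Q14675 (allL N14675 (tt N15657 (iv F146905)) (tt N13144 F142270) (tt N16686 (iv F151466)) (tt N12867 F142271) (tt N12624 F142272) (tt N16690 D32617) (tt N12622 (iv D30602)) (tt N16636 (iv F151265)) (tt N16691 D32618) (tt N16671 (iv F151417)))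
theorem Q14677 : ∀ i, i < 14677 → P i := stepQ 14676 Q14676 (allL N14676 (tt N15658 (iv F146909)) (tt N13145 F142273) (tt N16687 (iv F151468)) (tt N12868 F142274) (tt N12625 F142275) (tt N14676 F142276) (tt N16691 (iv F151483)) (tt N12623 F142277) (tt N12622 (iv D30603)) (tt N16692 D32619))
theorem Q14678 : ∀ i, i < 14678 → P i := stepQ 14677 Q14677 (allL N14677 (tt N15659 (iv F146915)) (tt N13103 F142278) (tt N16629 (iv F151234)) (tt N12869 F142279) (tt N12626 F142280) (tt N14677 F142281) (tt N13140 F142282) (tt N16692 (iv F151488)) (tt N13099 F142283) (tt N12623 (iv D30604)))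
theorem Q14679 : ∀ i, i < 14679 → P i := stepQ 14678 Q14678 (allL N14678 (tt N15660 (iv F146922)) (tt N13146 F142284) (tt N16688 (iv F151472)) (tt N12627 F142285) (tt N16691 (iv F151482)) (tt N16693 D32620) (tt N12625 F142286) (tt N16638 (iv F151275)) (tt N12624 (iv D30605)) (tt N16694 D32621))
theorem Q14680 : ∀ i, i < 14680 → P i := stepQ 14679 Q14679 (allL N14679 (tt N15661 (iv F146926)) (tt N13147 F142287) (tt N16689 (iv F151474)) (tt N12628 F142288) (tt N16692 (iv F151486)) (tt N12645 F142289) (tt N16694 (iv F151495)) (tt N12626 F142290) (tt N16674 (iv F151432)) (tt N12625 (iv D30606)))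
theorem Q14681 : ∀ i, i < 14681 → P i := stepQ 14680 Q14680 (allL N14680 (tt N15662 (iv F146931)) (tt N13148 F142291) (tt N16567 (iv F150978)) (tt N16693 (iv F151491)) (tt N16695 D32622) (tt N12627 (iv D30607)) (tt N12646 F142292) (tt N16640 (iv F151284)) (tt N16662 (iv F151386)) (tt N16696 D32623))
theorem Q14682 : ∀ i, i < 14682 → P i := stepQ 14681 Q14681 (allL N14681 (tt N15663 (iv F146934)) (tt N13149 F142293) (tt N16568 (iv F150980)) (tt N16694 (iv F151494)) (tt N12873 F142294) (tt N16696 (iv F151500)) (tt N12628 F142295) (tt N16641 (iv F151288)) (tt N16676 (iv F151438)) (tt N12627 (iv D30608)))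
theorem Q14683 : ∀ i, i < 14683 → P i := stepQ 14682 Q14682 (allL N14682 (tt N15473 (iv F145945)) (tt N16435 (iv F150499)) (tt N12633 F142296) (tt N16569 (iv F150984)) (tt N15448 (iv F145808)) (tt N12641 F142297) (tt N12630 (iv D30609)) (tt N14682 F142298) (tt N16603 F151104) (tt N14682 F142299))
theorem Q14684 : ∀ i, i < 14684 → P i := stepQ 14683 Q14683 (allL N14683 (tt N15474 (iv F145952)) (tt N12892 F142300) (tt N12634 F142301) (tt N16570 (iv F150990)) (tt N12804 F142302) (tt N16659 (iv F151373)) (tt N16603 (iv F151102)) (tt N12631 F142303) (tt N12630 (iv D30610)) (tt N12803 (iv F142304)))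
theorem Q14685 : ∀ i, i < 14685 → P i := stepQ 14684 Q14684 (allL N14684 (tt N15472 (iv F145936)) (tt N13152 F142305) (tt N15448 (iv F145806)) (tt N14684 F142306) (tt N12633 F142307) (tt N14684 F142308) (tt N12632 (iv D30611)) (tt N14684 F142309) (tt N12649 F142310) (tt N14684 F142311))
theorem Q14686 : ∀ i, i < 14686 → P i := stepQ 14685 Q14685 (allL N14685 (tt N15664 (iv F146938)) (tt N13153 F142312) (tt N16603 (iv F151100)) (tt N12635 F142313) (tt N12649 F142314) (tt N16697 D32624) (tt N12634 F142315) (tt N14685 F142316) (tt N12633 (iv D30612)) (tt N12648 (iv F142317)))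
theorem Q14687 : ∀ i, i < 14687 → P i := stepQ 14686 Q14686 (allL N14686 (tt N15665 (iv F146945)) (tt N13154 F142318) (tt N16576 (iv F151008)) (tt N16697 (iv F151503)) (tt N16698 D32625) (tt N12635 (iv D30613)) (tt N16662 (iv F151385)) (tt N14686 F142319) (tt N12646 F142320) (tt N16699 D32626))
theorem Q14688 : ∀ i, i < 14688 → P i := stepQ 14687 Q14687 (allL N14687 (tt N15666 (iv F146949)) (tt N13155 F142321) (tt N16577 (iv F151011)) (tt N12648 F142322) (tt N14687 F142323) (tt N16699 (iv F151514)) (tt N12636 F142324) (tt N14687 F142325) (tt N14687 F142326) (tt N12635 (iv D30614)))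
theorem Q14689 : ∀ i, i < 14689 → P i := stepQ 14688 Q14688 (allL N14688 (tt N12639 F142327) (tt N15667 (iv F146957)) (tt N13156 F142328) (tt N16578 (iv F151017)) (tt N14688 F142329) (tt N12638 F142330) (tt N16496 (iv F150769)) (tt N12637 (iv D30615)) (tt N16700 D32627) (tt N14688 F142331))
theorem Q14690 : ∀ i, i < 14690 → P i := stepQ 14689 Q14689 (allL N14689 (tt N12640 F142332) (tt N15668 (iv F146964)) (tt N13157 F142333) (tt N16579 (iv F151021)) (tt N14689 F142334) (tt N16679 (iv F151447)) (tt N14689 F142335) (tt N16700 (iv F151519)) (tt N12637 (iv D30616)) (tt N16701 D32628))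
theorem Q14691 : ∀ i, i < 14691 → P i := stepQ 14690 Q14690 (allL N14690 (tt N16496 (iv F150765)) (tt N12641 F142336) (tt N13158 F142337) (tt N16582 (iv F151032)) (tt N14690 F142338) (tt N16435 (iv F150502)) (tt N12639 (iv D30617)) (tt N14690 F142339) (tt N16702 D32629) (tt N14690 F142340))
theorem Q14692 : ∀ i, i < 14692 → P i := stepQ 14691 Q14691 (allL N14691 (tt N16700 (iv F151516)) (tt N12642 F142341) (tt N13159 F142342) (tt N16583 (iv F151036)) (tt N14691 F142343) (tt N16683 (iv F151458)) (tt N16702 (iv F151528)) (tt N12640 F142344) (tt N12639 (iv D30618)) (tt N16703 D32630))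
theorem Q14693 : ∀ i, i < 14693 → P i := stepQ 14692 Q14692 (allL N14692 (tt N16701 (iv F151520)) (tt N12643 F142345) (tt N13160 F142346) (tt N16584 (iv F151039)) (tt N14692 F142347) (tt N16632 F151250) (tt N14692 F142348) (tt N16703 (iv F151533)) (tt N14692 F142349) (tt N12640 (iv D30619)))
theorem Q14694 : ∀ i, i < 14694 → P i := stepQ 14693 Q14693 (allL N14693 (tt N15671 (iv F146977)) (tt N16702 (iv F151525)) (tt N12644 F142350) (tt N16588 (iv F151054)) (tt N14693 F142351) (tt N16704 D32631) (tt N12642 F142352) (tt N14693 F142353) (tt N12641 (iv D30620)) (tt N16705 D32632))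
theorem Q14695 : ∀ i, i < 14695 → P i := stepQ 14694 Q14694 (allL N14694 (tt N15672 (iv F146982)) (tt N16703 (iv F151530)) (tt N12645 F142354) (tt N16589 (iv F151058)) (tt N14694 F142355) (tt N16689 (iv F151475)) (tt N16705 (iv F151539)) (tt N12643 F142356) (tt N14694 F142357) (tt N12642 (iv D30621)))
theorem Q14696 : ∀ i, i < 14696 → P i := stepQ 14695 Q14695 (allL N14695 (tt N15673 (iv F146987)) (tt N13163 F142358) (tt N16704 (iv F151535)) (tt N12646 F142359) (tt N16706 D32633) (tt N12644 (iv D30622)) (tt N16693 (iv F151492)) (tt N14695 F142360) (tt N16697 (iv F151506)) (tt N16707 D32634))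
theorem Q14697 : ∀ i, i < 14697 → P i := stepQ 14696 Q14696 (allL N14696 (tt N15674 (iv F146991)) (tt N13164 F142361) (tt N16705 (iv F151537)) (tt N12647 F142362) (tt N14696 F142363) (tt N16707 (iv F151548)) (tt N12645 F142364) (tt N14696 F142365) (tt N14696 F142366) (tt N12644 (iv D30623)))
theorem Q14698 : ∀ i, i < 14698 → P i := stepQ 14697 Q14697 (allL N14697 (tt N15675 (iv F146998)) (tt N13165 F142367) (tt N16596 (iv F151079)) (tt N16699 (iv F151513)) (tt N12646 (iv D30624)) (tt N12648 F142368) (tt N16695 (iv F151498)) (tt N14697 F142369) (tt N16698 (iv F151511)) (tt N16697 (iv F151507)))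
theorem Q14699 : ∀ i, i < 14699 → P i := stepQ 14698 Q14698 (allL N14698 (tt N15676 (iv F147002)) (tt N13166 F142370) (tt N16597 (iv F151082)) (tt N16707 (iv F151547)) (tt N16697 (iv F151504)) (tt N12647 F142371) (tt N16696 (iv F151501)) (tt N14698 F142372) (tt N16706 (iv F151545)) (tt N12646 (iv D30625)))
theorem Q14700 : ∀ i, i < 14700 → P i := stepQ 14699 Q14699 (allL N14699 (tt N15678 (iv F147014)) (tt N13168 F142373) (tt N15317 (iv F145012)) (tt N12667 F142374) (tt N12652 F142375) (tt N16643 (iv F151295)) (tt N16708 D32635) (tt N12651 (iv D30626)) (tt N12960 F142376) (tt N13259 F142377))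
theorem Q14701 : ∀ i, i < 14701 → P i := stepQ 14700 Q14700 (allL N14700 (tt N15679 (iv F147020)) (tt N13169 F142378) (tt N15325 (iv F145063)) (tt N12653 F142379) (tt N16708 (iv F151552)) (tt N12887 F142380) (tt N12652 (iv D30627)) (tt N14700 F142381) (tt N15246 (iv F144561)) (tt N15235 F144475))
theorem Q14702 : ∀ i, i < 14702 → P i := stepQ 14701 Q14701 (allL N14701 (tt N15680 (iv F147026)) (tt N13170 F142382) (tt N15683 (iv F147049)) (tt N15246 (iv F144557)) (tt N12670 F142383) (tt N16422 (iv F150443)) (tt N12654 F142384) (tt N14701 F142385) (tt N12653 (iv D30628)) (tt N15244 (iv F144546)))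
theorem Q14703 : ∀ i, i < 14703 → P i := stepQ 14702 Q14702 (allL N14702 (tt N16207 (iv F149661)) (tt N12658 F142386) (tt N13172 F142387) (tt N15677 (iv F147009)) (tt N16647 (iv F151315)) (tt N16266 (iv F149893)) (tt N12674 F142388) (tt N12656 (iv D30629)) (tt N14702 F142389) (tt N12664 F142390))
theorem Q14704 : ∀ i, i < 14704 → P i := stepQ 14703 Q14703 (allL N14703 (tt N15322 (iv F145042)) (tt N12941 F142391) (tt N12659 F142392) (tt N15310 (iv F144979)) (tt N12657 (iv D30630)) (tt N16648 (iv F151321)) (tt N14703 F142393) (tt N16709 D32636) (tt N12949 F142394) (tt N12665 F142395))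
theorem Q14705 : ∀ i, i < 14705 → P i := stepQ 14704 Q14704 (allL N14704 (tt N15324 (iv F145055)) (tt N16266 (iv F149889)) (tt N12660 F142396) (tt N15299 (iv F144919)) (tt N16709 (iv F151558)) (tt N12658 F142397) (tt N16710 D32637) (tt N12657 (iv D30631)) (tt N15406 (iv F145531)) (tt N12666 F142398))
theorem Q14706 : ∀ i, i < 14706 → P i := stepQ 14705 Q14705 (allL N14705 (tt N15681 (iv F147032)) (tt N13174 F142399) (tt N16709 (iv F151557)) (tt N13259 F142400) (tt N12660 F142401) (tt N16651 (iv F151337)) (tt N15432 (iv F145699)) (tt N12659 (iv D30632)) (tt N12959 F142402) (tt N12667 F142403))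
theorem Q14707 : ∀ i, i < 14707 → P i := stepQ 14706 Q14706 (allL N14706 (tt N15682 (iv F147039)) (tt N13175 F142404) (tt N16710 (iv F151561)) (tt N12662 F142405) (tt N15432 (iv F145698)) (tt N12680 F142406) (tt N12660 (iv D30633)) (tt N14706 F142407) (tt N15431 (iv F145694)) (tt N12668 F142408))
theorem Q14708 : ∀ i, i < 14708 → P i := stepQ 14707 Q14707 (allL N14707 (tt N15414 (iv F145575)) (tt N13176 F142409) (tt N15406 (iv F145526)) (tt N12663 F142410) (tt N12959 F142411) (tt N14707 F142412) (tt N15431 (iv F145692)) (tt N12661 F142413) (tt N12660 (iv D30634)) (tt N12958 F142414))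
theorem Q14709 : ∀ i, i < 14709 → P i := stepQ 14708 Q14708 (allL N14708 (tt N15683 (iv F147047)) (tt N13177 F142415) (tt N15680 (iv F147028)) (tt N15431 (iv F145689)) (tt N15234 (iv F144462)) (tt N15434 (iv F145712)) (tt N12663 F142416) (tt N14708 F142417) (tt N12662 (iv D30635)) (tt N15243 (iv F144538)))
theorem Q14710 : ∀ i, i < 14710 → P i := stepQ 14709 Q14709 (allL N14709 (tt N15312 (iv F144988)) (tt N12916 F142418) (tt N15315 (iv F145002)) (tt N12665 (iv D30636)) (tt N15293 (iv F144880)) (tt N16656 (iv F151361)) (tt N14709 F142419) (tt N16711 D32638) (tt N12913 F142420) (tt N15310 (iv F144981)))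
theorem Q14711 : ∀ i, i < 14711 → P i := stepQ 14710 Q14710 (allL N14710 (tt N15320 (iv F145032)) (tt N12940 F142421) (tt N12667 F142422) (tt N16711 (iv F151566)) (tt N12666 F142423) (tt N16657 (iv F151366)) (tt N16712 D32639) (tt N12665 (iv D30637)) (tt N12938 F142424) (tt N16709 (iv F151560)))
theorem Q14712 : ∀ i, i < 14712 → P i := stepQ 14711 Q14711 (allL N14711 (tt N15323 (iv F145048)) (tt N16265 (iv F149881)) (tt N12668 F142425) (tt N15298 (iv F144912)) (tt N16712 (iv F151570)) (tt N12689 F142426) (tt N12666 (iv D30638)) (tt N14711 F142427) (tt N15297 (iv F144907)) (tt N16710 (iv F151564)))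
theorem Q14713 : ∀ i, i < 14713 → P i := stepQ 14712 Q14712 (allL N14712 (tt N15684 (iv F147056)) (tt N13180 F142428) (tt N16712 (iv F151569)) (tt N16708 (iv F151551)) (tt N12668 F142429) (tt N16713 D32640) (tt N12667 (iv D30639)) (tt N14712 F142430) (tt N12957 F142431) (tt N15432 (iv F145701)))
theorem Q14714 : ∀ i, i < 14714 → P i := stepQ 14713 Q14713 (allL N14713 (tt N15318 (iv F145016)) (tt N13181 F142432) (tt N15297 (iv F144902)) (tt N12670 F142433) (tt N12957 F142434) (tt N14713 F142435) (tt N12669 F142436) (tt N14713 F142437) (tt N12668 (iv D30640)) (tt N12956 (iv F142438)))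
theorem Q14715 : ∀ i, i < 14715 → P i := stepQ 14714 Q14714 (allL N14714 (tt N15242 (iv F144524)) (tt N13182 F142439) (tt N15238 (iv F144496)) (tt N12956 F142440) (tt N15244 (iv F144543)) (tt N14714 F142441) (tt N12671 F142442) (tt N14714 F142443) (tt N15243 (iv F144537)) (tt N12670 (iv D30641)))
theorem Q14716 : ∀ i, i < 14716 → P i := stepQ 14715 Q14715 (allL N14715 (tt N12673 F142444) (tt N15685 (iv F147063)) (tt N13183 F142445) (tt N16024 (iv F148668)) (tt N16714 D32641) (tt N12672 (iv D30642)) (tt N14715 F142446) (tt N16715 D32642) (tt N16716 D32643) (tt N12683 F142447))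
theorem Q14717 : ∀ i, i < 14717 → P i := stepQ 14716 Q14716 (allL N14716 (tt N12674 F142448) (tt N15686 (iv F147069)) (tt N13184 F142449) (tt N16025 (iv F148674)) (tt N16665 (iv F151395)) (tt N16715 (iv F151584)) (tt N16207 (iv F149666)) (tt N12672 (iv D30643)) (tt N14716 F142450) (tt N12684 F142451))
theorem Q14718 : ∀ i, i < 14718 → P i := stepQ 14717 Q14717 (allL N14717 (tt N16714 (iv F151577)) (tt N12675 F142452) (tt N13024 F142453) (tt N16477 (iv F150686)) (tt N12673 (iv D30644)) (tt N16619 (iv F151187)) (tt N14717 F142454) (tt N16717 D32644) (tt N13020 (iv F142456)) (tt N12685 F142455))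
theorem Q14719 : ∀ i, i < 14719 → P i := stepQ 14718 Q14718 (allL N14718 (tt N16715 (iv F151582)) (tt N12676 F142457) (tt N13185 F142458) (tt N16027 (iv F148685)) (tt N16717 (iv F151594)) (tt N12674 F142459) (tt N16718 D32645) (tt N12673 (iv D30645)) (tt N16719 D32646) (tt N12686 F142460))
theorem Q14720 : ∀ i, i < 14720 → P i := stepQ 14719 Q14719 (allL N14719 (tt N16716 (iv F151586)) (tt N12677 F142461) (tt N13022 F142462) (tt N16028 (iv F148690)) (tt N13020 F142463) (tt N14719 F142464) (tt N14719 F142465) (tt N16719 (iv F151605)) (tt N12673 (iv D30646)) (tt N14719 F142466))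
theorem Q14721 : ∀ i, i < 14721 → P i := stepQ 14720 Q14720 (allL N14720 (tt N15690 (iv F147090)) (tt N16477 (iv F150684)) (tt N12891 F142467) (tt N12675 (iv D30647)) (tt N16029 (iv F148697)) (tt N16667 (iv F151403)) (tt N14720 F142468) (tt N16720 D32647) (tt N16431 (iv F150480)) (tt N12687 F142469))
theorem Q14722 : ∀ i, i < 14722 → P i := stepQ 14721 Q14721 (allL N14721 (tt N15691 (iv F147096)) (tt N16717 (iv F151592)) (tt N12678 F142470) (tt N16720 (iv F151608)) (tt N12676 F142471) (tt N16668 (iv F151407)) (tt N16721 D32648) (tt N12675 (iv D30648)) (tt N16722 D32649) (tt N12688 F142472))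
theorem Q14723 : ∀ i, i < 14723 → P i := stepQ 14722 Q14722 (allL N14722 (tt N15692 (iv F147100)) (tt N13020 F142473) (tt N12679 F142474) (tt N16431 (iv F150477)) (tt N12677 F142475) (tt N13019 (iv F142478)) (tt N14722 F142476) (tt N16722 (iv F151617)) (tt N12675 (iv D30649)) (tt N14722 F142477))
theorem Q14724 : ∀ i, i < 14724 → P i := stepQ 14723 Q14723 (allL N14723 (tt N15693 (iv F147107)) (tt N16718 (iv F151597)) (tt N12680 F142479) (tt N16031 (iv F148708)) (tt N16721 (iv F151611)) (tt N16710 (iv F151562)) (tt N12676 (iv D30650)) (tt N14723 F142480) (tt N16723 D32650) (tt N12689 F142481))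
theorem Q14725 : ∀ i, i < 14725 → P i := stepQ 14724 Q14724 (allL N14724 (tt N15694 (iv F147112)) (tt N16719 (iv F151601)) (tt N12681 F142482) (tt N16032 (iv F148713)) (tt N16722 (iv F151616)) (tt N14724 F142483) (tt N16723 (iv F151621)) (tt N12677 F142484) (tt N12676 (iv D30651)) (tt N14724 F142485))
theorem Q14726 : ∀ i, i < 14726 → P i := stepQ 14725 Q14725 (allL N14725 (tt N15695 (iv F147118)) (tt N13187 F142486) (tt N16721 (iv F151610)) (tt N12894 F142487) (tt N12680 F142488) (tt N16724 D32651) (tt N12678 (iv D30652)) (tt N14725 F142489) (tt N16725 D32652) (tt N12690 F142490))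
theorem Q14727 : ∀ i, i < 14727 → P i := stepQ 14726 Q14726 (allL N14726 (tt N15696 (iv F147124)) (tt N13077 F142491) (tt N16722 (iv F151615)) (tt N12895 F142492) (tt N12681 F142493) (tt N13076 (iv F142496)) (tt N16725 (iv F151631)) (tt N12679 F142494) (tt N12678 (iv D30653)) (tt N14726 F142495))
theorem Q14728 : ∀ i, i < 14728 → P i := stepQ 14727 Q14727 (allL N14727 (tt N15697 (iv F147131)) (tt N13188 F142497) (tt N16723 (iv F151620)) (tt N12682 F142498) (tt N16725 (iv F151630)) (tt N15435 (iv F145720)) (tt N12681 F142499) (tt N14727 F142500) (tt N12680 (iv D30654)) (tt N14727 F142501))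
theorem Q14729 : ∀ i, i < 14729 → P i := stepQ 14728 Q14728 (allL N14728 (tt N15698 (iv F147138)) (tt N13189 F142502) (tt N16035 (iv F148734)) (tt N15435 (iv F145718)) (tt N14728 F142503) (tt N12682 (iv D30655)) (tt N14728 F142504) (tt N14728 F142505) (tt N15434 F145715) (tt N14728 F142506))
theorem Q14730 : ∀ i, i < 14730 → P i := stepQ 14729 Q14729 (allL N14729 (tt N12685 F142507) (tt N15699 (iv F147148)) (tt N13190 F142508) (tt N16726 D32653) (tt N12683 (iv D30656)) (tt N16677 (iv F151441)) (tt N14729 F142509) (tt N16727 D32654) (tt N14729 F142510) (tt N16714 (iv F151580)))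
theorem Q14731 : ∀ i, i < 14731 → P i := stepQ 14730 Q14730 (allL N14730 (tt N12686 F142511) (tt N15700 (iv F147153)) (tt N13191 F142512) (tt N16208 (iv F149672)) (tt N16727 (iv F151640)) (tt N12684 F142513) (tt N16292 (iv F149987)) (tt N12683 (iv D30657)) (tt N14730 F142514) (tt N16715 (iv F151585)))
theorem Q14732 : ∀ i, i < 14732 → P i := stepQ 14731 Q14731 (allL N14731 (tt N16726 (iv F151635)) (tt N12687 F142515) (tt N16482 (iv F150706)) (tt N12685 (iv D30658)) (tt N16248 (iv F149810)) (tt N16680 (iv F151449)) (tt N14731 F142516) (tt N16728 D32655) (tt N14731 F142517) (tt N16477 F150688))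
theorem Q14733 : ∀ i, i < 14733 → P i := stepQ 14732 Q14732 (allL N14732 (tt N16727 (iv F151638)) (tt N12688 F142518) (tt N13192 F142519) (tt N16728 (iv F151643)) (tt N12686 F142520) (tt N16681 (iv F151453)) (tt N16729 D32656) (tt N12685 (iv D30659)) (tt N14732 F142521) (tt N16717 (iv F151596)))
theorem Q14734 : ∀ i, i < 14734 → P i := stepQ 14733 Q14733 (allL N14733 (tt N16292 (iv F149983)) (tt N12689 F142522) (tt N13193 F142523) (tt N16250 (iv F149820)) (tt N16729 (iv F151647)) (tt N16265 F149887) (tt N12686 (iv D30660)) (tt N14733 F142524) (tt N14733 F142525) (tt N16718 (iv F151600)))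
theorem Q14735 : ∀ i, i < 14735 → P i := stepQ 14734 Q14734 (allL N14734 (tt N15703 (iv F147166)) (tt N16728 (iv F151642)) (tt N12898 F142526) (tt N12688 F142527) (tt N16251 (iv F149826)) (tt N16684 (iv F151462)) (tt N16730 D32657) (tt N12687 (iv D30661)) (tt N14734 F142528) (tt N16720 (iv F151609)))
theorem Q14736 : ∀ i, i < 14736 → P i := stepQ 14735 Q14735 (allL N14735 (tt N15704 (iv F147170)) (tt N16729 (iv F151645)) (tt N12690 F142529) (tt N16730 (iv F151651)) (tt N12689 F142530) (tt N16731 D32658) (tt N12688 (iv D30662)) (tt N14735 F142531) (tt N14735 F142532) (tt N16721 (iv F151613)))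
theorem Q14737 : ∀ i, i < 14737 → P i := stepQ 14736 Q14736 (allL N14736 (tt N15705 (iv F147175)) (tt N13195 F142533) (tt N16731 (iv F151654)) (tt N12900 F142534) (tt N16713 (iv F151574)) (tt N12690 (iv D30663)) (tt N16690 (iv F151479)) (tt N14736 F142535) (tt N16732 D32659) (tt N16724 (iv F151627)))
theorem Q14738 : ∀ i, i < 14738 → P i := stepQ 14737 Q14737 (allL N14737 (tt N12711 F142536) (tt N15720 (iv F147270)) (tt N15873 (iv F147983)) (tt N12692 F142537) (tt N16733 D32660) (tt N12691 (iv D30664)) (tt N15508 (iv F146153)) (tt N16734 D32661) (tt N16325 (iv F150090)) (tt N12694 F142538))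
theorem Q14739 : ∀ i, i < 14739 → P i := stepQ 14738 Q14738 (allL N14738 (tt N12712 F142539) (tt N15721 (iv F147275)) (tt N15908 (iv F148114)) (tt N12693 F142540) (tt N15715 (iv F147239)) (tt N16734 (iv F151666)) (tt N15286 (iv F144836)) (tt N12691 (iv D30665)) (tt N12901 F142541) (tt N12695 F142542))
theorem Q14740 : ∀ i, i < 14740 → P i := stepQ 14739 Q14739 (allL N14739 (tt N12713 F142543) (tt N15722 (iv F147282)) (tt N13196 F142544) (tt N16734 (iv F151665)) (tt N15488 (iv F146047)) (tt N12693 F142545) (tt N16735 D32662) (tt N12692 (iv D30666)) (tt N16383 (iv F150275)) (tt N12696 F142546))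
theorem Q14741 : ∀ i, i < 14741 → P i := stepQ 14740 Q14740 (allL N14740 (tt N12718 F142547) (tt N15728 (iv F147313)) (tt N15870 (iv F147971)) (tt N16426 (iv F150458)) (tt N12694 (iv D30667)) (tt N16254 (iv F149836)) (tt N16212 (iv F149689)) (tt N16736 D32663) (tt N15867 (iv F147958)) (tt N16733 (iv F151663)))
theorem Q14742 : ∀ i, i < 14742 → P i := stepQ 14741 Q14741 (allL N14741 (tt N12719 F142548) (tt N15729 (iv F147315)) (tt N15872 (iv F147978)) (tt N12696 F142549) (tt N16736 (iv F151672)) (tt N12695 F142550) (tt N16737 D32664) (tt N12694 (iv D30668)) (tt N15868 (iv F147964)) (tt N16734 (iv F151667)))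
theorem Q14743 : ∀ i, i < 14743 → P i := stepQ 14742 Q14742 (allL N14742 (tt N12721 F142551) (tt N15731 (iv F147324)) (tt N13197 F142552) (tt N16737 (iv F151674)) (tt N16428 (iv F150464)) (tt N16211 (iv F149685)) (tt N12696 (iv D30669)) (tt N16214 (iv F149696)) (tt N15982 (iv F148477)) (tt N16735 (iv F151670)))
theorem Q14744 : ∀ i, i < 14744 → P i := stepQ 14743 Q14743 (allL N14743 (tt N15833 (iv F147808)) (tt N15256 (iv F144633)) (tt N12700 F142553) (tt N12742 F142554) (tt N16738 D32665) (tt N12699 (iv D30670)) (tt N12716 F142555) (tt N16739 D32666) (tt N12739 F142556) (tt N16518 (iv F150836)))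
theorem Q14745 : ∀ i, i < 14745 → P i := stepQ 14744 Q14744 (allL N14744 (tt N16158 (iv F149441)) (tt N15262 (iv F144673)) (tt N12701 F142557) (tt N12972 F142558) (tt N15520 (iv F146226)) (tt N16739 (iv F151680)) (tt N15253 (iv F144618)) (tt N12699 (iv D30671)) (tt N12961 F142559) (tt N16519 (iv F150841)))
theorem Q14746 : ∀ i, i < 14746 → P i := stepQ 14745 Q14745 (allL N14745 (tt N16212 (iv F149687)) (tt N12752 F142560) (tt N16738 (iv F151675)) (tt N16440 (iv F150527)) (tt N12700 (iv D30672)) (tt N15521 (iv F146231)) (tt N12718 F142561) (tt N16740 D32667) (tt N16741 D32668) (tt N16520 (iv F150845)))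
theorem Q14747 : ∀ i, i < 14747 → P i := stepQ 14746 Q14746 (allL N14746 (tt N16213 (iv F149690)) (tt N12753 F142562) (tt N16739 (iv F151678)) (tt N12702 F142563) (tt N16740 (iv F151683)) (tt N12701 F142564) (tt N16742 D32669) (tt N12700 (iv D30673)) (tt N16743 D32670) (tt N16521 (iv F150849)))
theorem Q14748 : ∀ i, i < 14748 → P i := stepQ 14747 Q14747 (allL N14747 (tt N15829 (iv F147789)) (tt N12754 F142565) (tt N12739 F142566) (tt N12703 F142567) (tt N16741 (iv F151686)) (tt N12738 F142568) (tt N12720 F142569) (tt N16743 (iv F151695)) (tt N12700 (iv D30674)) (tt N15331 (iv F145104)))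
theorem Q14749 : ∀ i, i < 14749 → P i := stepQ 14748 Q14748 (allL N14748 (tt N16214 (iv F149693)) (tt N12755 F142570) (tt N13198 F142571) (tt N16742 (iv F151689)) (tt N16443 (iv F150540)) (tt N15257 (iv F144642)) (tt N12702 (iv D30675)) (tt N12721 F142572) (tt N16744 D32671) (tt N16523 (iv F150859)))
theorem Q14750 : ∀ i, i < 14750 → P i := stepQ 14749 Q14749 (allL N14749 (tt N15938 (iv F148249)) (tt N12756 F142573) (tt N12811 F142574) (tt N16743 (iv F151693)) (tt N16444 (iv F150546)) (tt N12810 F142575) (tt N16744 (iv F151698)) (tt N12703 F142576) (tt N12702 (iv D30676)) (tt N15372 (iv F145317)))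
theorem Q14751 : ∀ i, i < 14751 → P i := stepQ 14750 Q14750 (allL N14750 (tt N16174 (iv F149519)) (tt N12782 F142577) (tt N12705 F142578) (tt N12860 F142579) (tt N16745 D32672) (tt N12704 (iv D30677)) (tt N15252 (iv F144610)) (tt N16746 D32673) (tt N12778 F142580) (tt N15300 (iv F144927)))
theorem Q14752 : ∀ i, i < 14752 → P i := stepQ 14751 Q14751 (allL N14751 (tt N15907 (iv F148108)) (tt N12794 F142581) (tt N12706 F142582) (tt N12790 F142583) (tt N15776 (iv F147559)) (tt N16746 (iv F151707)) (tt N12717 F142584) (tt N12704 (iv D30678)) (tt N12723 F142585) (tt N15301 (iv F144934)))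
theorem Q14753 : ∀ i, i < 14753 → P i := stepQ 14752 Q14752 (allL N14752 (tt N16209 (iv F149676)) (tt N12764 F142586) (tt N16745 (iv F151702)) (tt N15333 (iv F145114)) (tt N12705 (iv D30679)) (tt N15777 (iv F147564)) (tt N15254 (iv F144625)) (tt N16747 D32674) (tt N16748 D32675) (tt N15302 (iv F144939)))
theorem Q14754 : ∀ i, i < 14754 → P i := stepQ 14753 Q14753 (allL N14753 (tt N16210 (iv F149679)) (tt N12765 F142587) (tt N16746 (iv F151705)) (tt N12707 F142588) (tt N16747 (iv F151710)) (tt N12706 F142589) (tt N16749 D32676) (tt N12705 (iv D30680)) (tt N16750 D32677) (tt N15303 (iv F144943)))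
theorem Q14755 : ∀ i, i < 14755 → P i := stepQ 14754 Q14754 (allL N14754 (tt N16178 (iv F149538)) (tt N12716 F142590) (tt N12778 F142591) (tt N12708 F142592) (tt N16748 (iv F151713)) (tt N12715 F142593) (tt N15256 (iv F144637)) (tt N16750 (iv F151721)) (tt N12705 (iv D30681)) (tt N16751 D32678))
theorem Q14756 : ∀ i, i < 14756 → P i := stepQ 14755 Q14755 (allL N14755 (tt N16211 (iv F149682)) (tt N12766 F142594) (tt N13199 F142595) (tt N16749 (iv F151715)) (tt N15336 (iv F145130)) (tt N12721 F142596) (tt N12707 (iv D30682)) (tt N15257 (iv F144643)) (tt N16752 D32679) (tt N15305 (iv F144953)))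
theorem Q14757 : ∀ i, i < 14757 → P i := stepQ 14756 Q14756 (allL N14756 (tt N16021 (iv F148648)) (tt N12767 F142597) (tt N12876 F142598) (tt N16750 (iv F151719)) (tt N15337 (iv F145137)) (tt N12725 F142599) (tt N16752 (iv F151729)) (tt N12708 F142600) (tt N12707 (iv D30683)) (tt N16753 D32680))
theorem Q14758 : ∀ i, i < 14758 → P i := stepQ 14757 Q14757 (allL N14757 (tt N16186 (iv F149572)) (tt N12768 F142601) (tt N12994 F142602) (tt N16751 (iv F151724)) (tt N15338 (iv F145143)) (tt N12726 F142603) (tt N15259 (iv F144656)) (tt N16753 (iv F151733)) (tt N15307 (iv F144964)) (tt N12708 (iv D30684)))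
theorem Q14759 : ∀ i, i < 14759 → P i := stepQ 14758 Q14758 (allL N14758 (tt N15808 (iv F147692)) (tt N12710 F142604) (tt N12769 F142605) (tt N12726 F142606) (tt N15743 (iv F147398)) (tt N16751 (iv F151725)) (tt N12709 (iv D30685)) (tt N16754 D32681) (tt N12902 F142607) (tt N12715 F142608))
theorem Q14760 : ∀ i, i < 14760 → P i := stepQ 14759 Q14759 (allL N14759 (tt N15873 (iv F147982)) (tt N16751 (iv F151722)) (tt N12711 F142609) (tt N12768 F142610) (tt N16755 D32682) (tt N12710 (iv D30686)) (tt N16518 (iv F150835)) (tt N16756 D32683) (tt N15346 (iv F145182)) (tt N12716 F142611))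
theorem Q14761 : ∀ i, i < 14761 → P i := stepQ 14760 Q14760 (allL N14760 (tt N15908 (iv F148113)) (tt N16754 (iv F151734)) (tt N12712 F142612) (tt N12791 F142613) (tt N15768 (iv F147526)) (tt N16756 (iv F151744)) (tt N15301 (iv F144932)) (tt N12710 (iv D30687)) (tt N12903 F142614) (tt N12717 F142615))
theorem Q14762 : ∀ i, i < 14762 → P i := stepQ 14761 Q14761 (allL N14761 (tt N16733 (iv F151662)) (tt N12772 F142616) (tt N16755 (iv F151740)) (tt N16459 (iv F150619)) (tt N12711 (iv D30688)) (tt N15769 (iv F147531)) (tt N16520 (iv F150844)) (tt N16757 D32684) (tt N16758 D32685) (tt N12718 F142617))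
theorem Q14763 : ∀ i, i < 14763 → P i := stepQ 14762 Q14762 (allL N14762 (tt N16734 (iv F151664)) (tt N12773 F142618) (tt N16756 (iv F151742)) (tt N12713 F142619) (tt N16757 (iv F151747)) (tt N12712 F142620) (tt N16759 D32686) (tt N12711 (iv D30689)) (tt N16760 D32687) (tt N12719 F142621))
theorem Q14764 : ∀ i, i < 14764 → P i := stepQ 14763 Q14763 (allL N14763 (tt N16325 (iv F150086)) (tt N12774 F142622) (tt N15346 (iv F145179)) (tt N12714 F142623) (tt N16758 (iv F151750)) (tt N12906 F142624) (tt N16522 (iv F150853)) (tt N16760 (iv F151757)) (tt N12711 (iv D30690)) (tt N15341 (iv F145163)))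
theorem Q14765 : ∀ i, i < 14765 → P i := stepQ 14764 Q14764 (allL N14764 (tt N16735 (iv F151668)) (tt N12775 F142625) (tt N13200 F142626) (tt N16759 (iv F151752)) (tt N16462 (iv F150632)) (tt N15305 (iv F144951)) (tt N12713 (iv D30691)) (tt N16523 (iv F150858)) (tt N16761 D32688) (tt N12721 F142627))
theorem Q14766 : ∀ i, i < 14766 → P i := stepQ 14765 Q14765 (allL N14765 (tt N16383 (iv F150271)) (tt N12776 F142628) (tt N13201 F142629) (tt N16760 (iv F151755)) (tt N16463 (iv F150638)) (tt N12908 F142630) (tt N16761 (iv F151760)) (tt N12714 F142631) (tt N12713 (iv D30692)) (tt N15383 (iv F145384)))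
theorem Q14767 : ∀ i, i < 14767 → P i := stepQ 14766 Q14766 (allL N14766 (tt N15920 (iv F148169)) (tt N12717 F142632) (tt N12779 F142633) (tt N12725 F142634) (tt N16278 (iv F149937)) (tt N16750 (iv F151720)) (tt N12794 F142635) (tt N12715 (iv D30693)) (tt N12724 F142636) (tt N16754 (iv F151739)))
theorem Q14768 : ∀ i, i < 14768 → P i := stepQ 14767 Q14767 (allL N14767 (tt N15870 (iv F147970)) (tt N16748 (iv F151711)) (tt N12718 F142637) (tt N16762 D32689) (tt N12716 (iv D30694)) (tt N16279 (iv F149941)) (tt N16738 (iv F151676)) (tt N16763 D32690) (tt N12764 F142638) (tt N16755 (iv F151741)))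
theorem Q14769 : ∀ i, i < 14769 → P i := stepQ 14768 Q14768 (allL N14768 (tt N15872 (iv F147977)) (tt N16750 (iv F151717)) (tt N12719 F142639) (tt N12767 F142640) (tt N16763 (iv F151764)) (tt N12717 F142641) (tt N16764 D32691) (tt N12716 (iv D30695)) (tt N12765 F142642) (tt N16756 (iv F151745)))
theorem Q14770 : ∀ i, i < 14770 → P i := stepQ 14769 Q14769 (allL N14769 (tt N16736 (iv F151671)) (tt N12783 F142643) (tt N16763 (iv F151763)) (tt N16470 (iv F150660)) (tt N12719 F142644) (tt N16281 (iv F149947)) (tt N16765 D32692) (tt N12718 (iv D30696)) (tt N16766 D32693) (tt N16757 (iv F151748)))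
theorem Q14771 : ∀ i, i < 14771 → P i := stepQ 14770 Q14770 (allL N14770 (tt N15867 (iv F147955)) (tt N12784 F142645) (tt N12764 F142646) (tt N16471 (iv F150663)) (tt N12720 F142647) (tt N15876 (iv F147998)) (tt N16741 (iv F151687)) (tt N16766 (iv F151774)) (tt N12718 (iv D30697)) (tt N15339 (iv F145151)))
theorem Q14772 : ∀ i, i < 14772 → P i := stepQ 14771 Q14771 (allL N14771 (tt N16737 (iv F151673)) (tt N12785 F142648) (tt N16764 (iv F151766)) (tt N12721 F142649) (tt N16765 (iv F151770)) (tt N16749 (iv F151716)) (tt N12719 (iv D30698)) (tt N16742 (iv F151690)) (tt N16767 D32694) (tt N16759 (iv F151753)))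
theorem Q14773 : ∀ i, i < 14773 → P i := stepQ 14772 Q14772 (allL N14772 (tt N15868 (iv F147960)) (tt N12786 F142650) (tt N12765 F142651) (tt N12722 F142652) (tt N16766 (iv F151773)) (tt N12727 F142653) (tt N16767 (iv F151778)) (tt N12720 F142654) (tt N12719 (iv D30699)) (tt N15340 (iv F145157)))
theorem Q14774 : ∀ i, i < 14774 → P i := stepQ 14773 Q14773 (allL N14773 (tt N15982 (iv F148474)) (tt N12788 F142655) (tt N12845 F142656) (tt N16767 (iv F151777)) (tt N16474 (iv F150673)) (tt N12864 (iv F142658)) (tt N12722 F142657) (tt N16744 (iv F151699)) (tt N12721 (iv D30700)) (tt N15382 (iv F145378)))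
theorem Q14775 : ∀ i, i < 14775 → P i := stepQ 14774 Q14774 (allL N14774 (tt N16022 (iv F148653)) (tt N12791 F142659) (tt N12877 F142660) (tt N16754 (iv F151736)) (tt N14774 F142661) (tt N16753 (iv F151732)) (tt N12875 F142662) (tt N12726 F142663) (tt N12912 F142664) (tt N12725 (iv D30701)))
theorem Q14776 : ∀ i, i < 14776 → P i := stepQ 14775 Q14775 (allL N14775 (tt N16142 (iv F149358)) (tt N12728 (iv D30702)) (tt N15512 (iv F146175)) (tt N14775 F142665) (tt N12743 F142666) (tt N15436 (iv F145728)) (tt N16768 D32695) (tt N12982 F142667) (tt N14775 F142668) (tt N12732 F142669))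
theorem Q14777 : ∀ i, i < 14777 → P i := stepQ 14776 Q14776 (allL N14776 (tt N15450 (iv F145821)) (tt N16768 (iv F151780)) (tt N12729 F142670) (tt N14776 F142671) (tt N12744 F142672) (tt N16769 D32696) (tt N12728 (iv D30703)) (tt N16770 D32697) (tt N14776 F142673) (tt N12733 F142674))
theorem Q14778 : ∀ i, i < 14778 → P i := stepQ 14777 Q14777 (allL N14777 (tt N15451 (iv F145828)) (tt N15514 (iv F146189)) (tt N16769 (iv F151785)) (tt N12730 F142675) (tt N16771 D32698) (tt N12729 (iv D30704)) (tt N15438 (iv F145741)) (tt N16772 D32699) (tt N16773 D32700) (tt N12734 F142676))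
theorem Q14779 : ∀ i, i < 14779 → P i := stepQ 14778 Q14778 (allL N14778 (tt N15452 (iv F145833)) (tt N15515 (iv F146194)) (tt N16770 (iv F151788)) (tt N12731 F142677) (tt N12746 F142678) (tt N16772 (iv F151796)) (tt N15328 (iv F145084)) (tt N12729 (iv D30705)) (tt N14778 F142679) (tt N12735 F142680))
theorem Q14780 : ∀ i, i < 14780 → P i := stepQ 14779 Q14779 (allL N14779 (tt N15453 (iv F145840)) (tt N15516 (iv F146201)) (tt N14779 F142681) (tt N16772 (iv F151795)) (tt N15710 (iv F147207)) (tt N12731 F142682) (tt N16774 D32701) (tt N12730 (iv D30706)) (tt N16775 D32702) (tt N12736 F142683))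
theorem Q14781 : ∀ i, i < 14781 → P i := stepQ 14780 Q14780 (allL N14780 (tt N15454 (iv F145846)) (tt N15517 (iv F146207)) (tt N14780 F142684) (tt N16773 (iv F151798)) (tt N15711 (iv F147213)) (tt N14780 F142685) (tt N15441 (iv F145761)) (tt N16775 (iv F151804)) (tt N12730 (iv D30707)) (tt N16363 (iv F150212)))
theorem Q14782 : ∀ i, i < 14782 → P i := stepQ 14781 Q14781 (allL N14781 (tt N16170 (iv F149500)) (tt N12733 F142686) (tt N15261 (iv F144668)) (tt N14781 F142687) (tt N12749 F142688) (tt N16776 D32703) (tt N12732 (iv D30708)) (tt N16777 D32704) (tt N12963 F142689) (tt N16768 (iv F151784)))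
theorem Q14783 : ∀ i, i < 14783 → P i := stepQ 14782 Q14782 (allL N14782 (tt N15820 (iv F147759)) (tt N16776 (iv F151805)) (tt N12734 F142690) (tt N14782 F142691) (tt N16778 D32705) (tt N12733 (iv D30709)) (tt N16297 (iv F150009)) (tt N16779 D32706) (tt N16780 D32707) (tt N16769 (iv F151787)))
theorem Q14784 : ∀ i, i < 14784 → P i := stepQ 14783 Q14783 (allL N14783 (tt N15821 (iv F147762)) (tt N16777 (iv F151807)) (tt N12735 F142692) (tt N14783 F142693) (tt N12751 F142694) (tt N16779 (iv F151816)) (tt N15456 (iv F145859)) (tt N12733 (iv D30710)) (tt N12965 F142695) (tt N16770 (iv F151792)))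
theorem Q14785 : ∀ i, i < 14785 → P i := stepQ 14784 Q14784 (allL N14784 (tt N15822 (iv F147767)) (tt N15521 (iv F146230)) (tt N16778 (iv F151812)) (tt N16500 (iv F150782)) (tt N12734 (iv D30711)) (tt N12752 F142696) (tt N16299 (iv F150015)) (tt N16781 D32708) (tt N16782 D32709) (tt N16771 (iv F151794)))
theorem Q14786 : ∀ i, i < 14786 → P i := stepQ 14785 Q14785 (allL N14785 (tt N15823 (iv F147769)) (tt N15522 (iv F146233)) (tt N16779 (iv F151814)) (tt N12736 F142697) (tt N16781 (iv F151820)) (tt N12735 F142698) (tt N16783 D32710) (tt N12734 (iv D30712)) (tt N16784 D32711) (tt N16772 (iv F151797)))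
theorem Q14787 : ∀ i, i < 14787 → P i := stepQ 14786 Q14786 (allL N14786 (tt N15824 (iv F147772)) (tt N15523 (iv F146237)) (tt N16780 (iv F151817)) (tt N12737 F142699) (tt N16782 (iv F151822)) (tt N12968 F142700) (tt N16301 (iv F150020)) (tt N16784 (iv F151826)) (tt N12734 (iv D30713)) (tt N16785 D32712))
theorem Q14788 : ∀ i, i < 14788 → P i := stepQ 14787 Q14787 (allL N14787 (tt N15825 (iv F147775)) (tt N15524 (iv F146241)) (tt N14787 F142701) (tt N16783 (iv F151823)) (tt N16503 (iv F150789)) (tt N15460 (iv F145873)) (tt N12736 (iv D30714)) (tt N16302 (iv F150022)) (tt N16786 D32713) (tt N16774 (iv F151801)))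
theorem Q14789 : ∀ i, i < 14789 → P i := stepQ 14788 Q14788 (allL N14788 (tt N15826 (iv F147777)) (tt N15525 (iv F146245)) (tt N14788 F142702) (tt N16784 (iv F151824)) (tt N16504 (iv F150791)) (tt N12970 F142703) (tt N16786 (iv F151830)) (tt N12737 F142704) (tt N12736 (iv D30715)) (tt N16787 D32714))
theorem Q14790 : ∀ i, i < 14790 → P i := stepQ 14789 Q14789 (allL N14789 (tt N15827 (iv F147781)) (tt N15526 (iv F146250)) (tt N14789 F142705) (tt N16785 (iv F151827)) (tt N16365 (iv F150219)) (tt N12971 F142706) (tt N16304 (iv F150030)) (tt N16787 (iv F151833)) (tt N16363 F150213) (tt N12737 (iv D30716)))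
theorem Q14791 : ∀ i, i < 14791 → P i := stepQ 14790 Q14790 (allL N14790 (tt N15830 (iv F147795)) (tt N12978 F142707) (tt N12740 F142708) (tt N12810 F142709) (tt N15456 (iv F145858)) (tt N16743 (iv F151694)) (tt N12751 F142710) (tt N12738 (iv D30717)) (tt N12962 F142711) (tt N15332 (iv F145111)))
theorem Q14792 : ∀ i, i < 14792 → P i := stepQ 14791 Q14791 (allL N14791 (tt N15831 (iv F147801)) (tt N15254 (iv F144622)) (tt N16741 (iv F151685)) (tt N15302 (iv F144936)) (tt N12739 (iv D30718)) (tt N15457 (iv F145863)) (tt N12764 F142712) (tt N16788 D32715) (tt N16738 (iv F151677)) (tt N15333 (iv F145116)))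
theorem Q14793 : ∀ i, i < 14793 → P i := stepQ 14792 Q14792 (allL N14792 (tt N15832 (iv F147804)) (tt N15255 (iv F144628)) (tt N16743 (iv F151692)) (tt N12741 F142713) (tt N16788 (iv F151834)) (tt N12740 F142714) (tt N16789 D32716) (tt N12739 (iv D30719)) (tt N16739 (iv F151681)) (tt N15334 (iv F145121)))
theorem Q14794 : ∀ i, i < 14794 → P i := stepQ 14793 Q14793 (allL N14793 (tt N15834 (iv F147813)) (tt N15257 (iv F144639)) (tt N12812 F142715) (tt N16789 (iv F151835)) (tt N15305 (iv F144950)) (tt N12755 F142716) (tt N12741 (iv D30720)) (tt N12766 F142717) (tt N16790 D32717) (tt N15336 (iv F145133)))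
theorem Q14795 : ∀ i, i < 14795 → P i := stepQ 14794 Q14794 (allL N14794 (tt N15835 (iv F147818)) (tt N15258 (iv F144646)) (tt N12813 F142718) (tt N16739 (iv F151679)) (tt N15306 (iv F144956)) (tt N12972 F142719) (tt N16790 (iv F151839)) (tt N12742 F142720) (tt N12741 (iv D30721)) (tt N16642 (iv F151291)))
theorem Q14796 : ∀ i, i < 14796 → P i := stepQ 14795 Q14795 (allL N14795 (tt N16145 (iv F149379)) (tt N12744 F142721) (tt N15263 (iv F144680)) (tt N12814 F142722) (tt N16768 (iv F151782)) (tt N16791 D32718) (tt N12743 (iv D30722)) (tt N16792 D32719) (tt N14795 F142723) (tt N12749 F142724))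
theorem Q14797 : ∀ i, i < 14797 → P i := stepQ 14796 Q14796 (allL N14796 (tt N15836 (iv F147822)) (tt N16791 (iv F151841)) (tt N12745 F142725) (tt N12815 F142726) (tt N16793 D32720) (tt N12744 (iv D30723)) (tt N12770 F142727) (tt N16794 D32721) (tt N16795 D32722) (tt N12750 F142728))
theorem Q14798 : ∀ i, i < 14798 → P i := stepQ 14797 Q14797 (allL N14797 (tt N15837 (iv F147828)) (tt N16792 (iv F151845)) (tt N12746 F142729) (tt N12816 F142730) (tt N16770 (iv F151790)) (tt N16794 (iv F151855)) (tt N15332 (iv F145109)) (tt N12744 (iv D30724)) (tt N14797 F142731) (tt N12751 F142732))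
theorem Q14799 : ∀ i, i < 14799 → P i := stepQ 14798 Q14798 (allL N14798 (tt N15838 (iv F147835)) (tt N16520 (iv F150842)) (tt N16793 (iv F151850)) (tt N16449 (iv F150570)) (tt N12745 (iv D30725)) (tt N16771 (iv F151793)) (tt N12772 F142733) (tt N16796 D32723) (tt N16797 D32724) (tt N12752 F142734))
theorem Q14800 : ∀ i, i < 14800 → P i := stepQ 14799 Q14799 (allL N14799 (tt N15839 (iv F147838)) (tt N16521 (iv F150846)) (tt N16794 (iv F151853)) (tt N12747 F142735) (tt N16796 (iv F151861)) (tt N12746 F142736) (tt N16798 D32725) (tt N12745 (iv D30726)) (tt N16799 D32726) (tt N12753 F142737))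
theorem Q14801 : ∀ i, i < 14801 → P i := stepQ 14800 Q14800 (allL N14800 (tt N15840 (iv F147842)) (tt N16522 (iv F150850)) (tt N16795 (iv F151857)) (tt N12748 F142738) (tt N16797 (iv F151863)) (tt N14800 F142739) (tt N12774 F142740) (tt N16799 (iv F151870)) (tt N12745 (iv D30727)) (tt N16800 D32727))
theorem Q14802 : ∀ i, i < 14802 → P i := stepQ 14801 Q14801 (allL N14801 (tt N15841 (iv F147846)) (tt N16523 (iv F150854)) (tt N12820 F142741) (tt N16798 (iv F151865)) (tt N16452 (iv F150583)) (tt N15336 (iv F145131)) (tt N12747 (iv D30728)) (tt N12775 F142742) (tt N16801 D32728) (tt N12755 F142743))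
theorem Q14803 : ∀ i, i < 14803 → P i := stepQ 14802 Q14802 (allL N14802 (tt N15842 (iv F147851)) (tt N16524 (iv F150860)) (tt N12821 F142744) (tt N16799 (iv F151868)) (tt N16453 (iv F150589)) (tt N14802 F142745) (tt N16801 (iv F151876)) (tt N12748 F142746) (tt N12747 (iv D30729)) (tt N16802 D32729))
theorem Q14804 : ∀ i, i < 14804 → P i := stepQ 14803 Q14803 (allL N14803 (tt N15843 (iv F147855)) (tt N15373 (iv F145319)) (tt N12822 F142747) (tt N16800 (iv F151871)) (tt N16454 (iv F150594)) (tt N14803 F142748) (tt N12777 F142749) (tt N16802 (iv F151880)) (tt N12757 F142750) (tt N12748 (iv D30730)))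
theorem Q14805 : ∀ i, i < 14805 → P i := stepQ 14804 Q14804 (allL N14804 (tt N16172 (iv F149509)) (tt N12750 F142751) (tt N15256 (iv F144634)) (tt N12823 F142752) (tt N16803 D32730) (tt N12749 (iv D30731)) (tt N12778 F142753) (tt N16804 D32731) (tt N15252 (iv F144611)) (tt N16791 (iv F151844)))
theorem Q14806 : ∀ i, i < 14806 → P i := stepQ 14805 Q14805 (allL N14805 (tt N16167 (iv F149487)) (tt N12751 F142754) (tt N15262 (iv F144674)) (tt N12824 F142755) (tt N16777 (iv F151809)) (tt N16804 (iv F151886)) (tt N12978 F142756) (tt N12749 (iv D30732)) (tt N12973 F142757) (tt N16792 (iv F151849)))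
theorem Q14807 : ∀ i, i < 14807 → P i := stepQ 14806 Q14806 (allL N14806 (tt N15847 (iv F147873)) (tt N16803 (iv F151882)) (tt N12752 F142758) (tt N16805 D32732) (tt N12750 (iv D30733)) (tt N16778 (iv F151813)) (tt N12780 F142759) (tt N16806 D32733) (tt N16807 D32734) (tt N16793 (iv F151852)))
theorem Q14808 : ∀ i, i < 14808 → P i := stepQ 14807 Q14807 (allL N14807 (tt N15848 (iv F147876)) (tt N16804 (iv F151884)) (tt N12753 F142760) (tt N12826 F142761) (tt N16806 (iv F151890)) (tt N12751 F142762) (tt N16808 D32735) (tt N12750 (iv D30734)) (tt N16809 D32736) (tt N16794 (iv F151856)))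
theorem Q14809 : ∀ i, i < 14809 → P i := stepQ 14808 Q14808 (allL N14808 (tt N15849 (iv F147880)) (tt N15252 (iv F144607)) (tt N12754 F142763) (tt N12827 F142764) (tt N16807 (iv F151892)) (tt N12975 F142765) (tt N12782 F142766) (tt N16809 (iv F151900)) (tt N12750 (iv D30735)) (tt N16810 D32737))
theorem Q14810 : ∀ i, i < 14810 → P i := stepQ 14809 Q14809 (allL N14809 (tt N15850 (iv F147885)) (tt N16740 (iv F151682)) (tt N16806 (iv F151889)) (tt N16511 (iv F150812)) (tt N12753 F142767) (tt N16781 (iv F151821)) (tt N16811 D32738) (tt N12752 (iv D30736)) (tt N16812 D32739) (tt N16796 (iv F151862)))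
theorem Q14811 : ∀ i, i < 14811 → P i := stepQ 14810 Q14810 (allL N14810 (tt N15851 (iv F147887)) (tt N16741 (iv F151684)) (tt N16807 (iv F151891)) (tt N16512 (iv F150814)) (tt N12754 F142768) (tt N16813 D32740) (tt N12784 F142769) (tt N16812 (iv F151909)) (tt N12752 (iv D30737)) (tt N16814 D32741))
theorem Q14812 : ∀ i, i < 14812 → P i := stepQ 14811 Q14811 (allL N14811 (tt N15852 (iv F147890)) (tt N16742 (iv F151688)) (tt N16808 (iv F151894)) (tt N12755 F142770) (tt N16811 (iv F151906)) (tt N16789 (iv F151836)) (tt N12753 (iv D30738)) (tt N12785 F142771) (tt N16815 D32742) (tt N16798 (iv F151867)))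
theorem Q14813 : ∀ i, i < 14813 → P i := stepQ 14812 Q14812 (allL N14812 (tt N15853 (iv F147893)) (tt N16743 (iv F151691)) (tt N16809 (iv F151897)) (tt N12756 F142772) (tt N16812 (iv F151908)) (tt N12978 F142773) (tt N16815 (iv F151914)) (tt N12754 F142774) (tt N12753 (iv D30739)) (tt N16816 D32743))
theorem Q14814 : ∀ i, i < 14814 → P i := stepQ 14813 Q14813 (allL N14813 (tt N15854 (iv F147897)) (tt N15331 (iv F145100)) (tt N16810 (iv F151902)) (tt N12757 F142775) (tt N16814 (iv F151911)) (tt N12979 F142776) (tt N12787 F142777) (tt N16816 (iv F151918)) (tt N16800 (iv F151874)) (tt N12754 (iv D30740)))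
theorem Q14815 : ∀ i, i < 14815 → P i := stepQ 14814 Q14814 (allL N14814 (tt N15855 (iv F147901)) (tt N16744 (iv F151696)) (tt N12833 F142778) (tt N16815 (iv F151913)) (tt N16516 (iv F150826)) (tt N16817 D32744) (tt N12756 F142779) (tt N12788 F142780) (tt N12755 (iv D30741)) (tt N16818 D32745))
theorem Q14816 : ∀ i, i < 14816 → P i := stepQ 14815 Q14815 (allL N14815 (tt N15856 (iv F147905)) (tt N15372 (iv F145314)) (tt N12834 F142781) (tt N16816 (iv F151916)) (tt N16517 (iv F150830)) (tt N12980 F142782) (tt N16818 (iv F151924)) (tt N12757 F142783) (tt N16802 (iv F151881)) (tt N12756 (iv D30742)))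
theorem Q14817 : ∀ i, i < 14817 → P i := stepQ 14816 Q14816 (allL N14816 (tt N16162 (iv F149464)) (tt N12759 F142784) (tt N12979 F142785) (tt N12835 F142786) (tt N15528 (iv F146265)) (tt N16810 (iv F151904)) (tt N12758 (iv D30743)) (tt N16819 D32746) (tt N14816 F142787) (tt N12975 F142788))
theorem Q14818 : ∀ i, i < 14818 → P i := stepQ 14817 Q14817 (allL N14817 (tt N15859 (iv F147920)) (tt N16810 (iv F151901)) (tt N12760 F142789) (tt N12836 F142790) (tt N16820 D32747) (tt N12759 (iv D30744)) (tt N15300 (iv F144926)) (tt N16821 D32748) (tt N16822 D32749) (tt N15252 (iv F144612)))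
theorem Q14819 : ∀ i, i < 14819 → P i := stepQ 14818 Q14818 (allL N14818 (tt N15860 (iv F147924)) (tt N16819 (iv F151926)) (tt N12761 F142791) (tt N12837 F142792) (tt N15530 (iv F146275)) (tt N16821 (iv F151934)) (tt N16519 (iv F150839)) (tt N12759 (iv D30745)) (tt N14818 F142793) (tt N15253 (iv F144620)))
theorem Q14820 : ∀ i, i < 14820 → P i := stepQ 14819 Q14819 (allL N14819 (tt N15861 (iv F147930)) (tt N15333 (iv F145113)) (tt N16820 (iv F151931)) (tt N12764 F142794) (tt N12760 (iv D30746)) (tt N15531 (iv F146280)) (tt N15302 (iv F144938)) (tt N16823 D32750) (tt N16762 (iv F151762)) (tt N15254 (iv F144626)))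
theorem Q14821 : ∀ i, i < 14821 → P i := stepQ 14820 Q14820 (allL N14820 (tt N15862 (iv F147934)) (tt N15334 (iv F145118)) (tt N16821 (iv F151932)) (tt N12762 F142795) (tt N16823 (iv F151939)) (tt N12761 F142796) (tt N16824 D32751) (tt N12760 (iv D30747)) (tt N16825 D32752) (tt N15255 (iv F144631)))
theorem Q14822 : ∀ i, i < 14822 → P i := stepQ 14821 Q14821 (allL N14821 (tt N15863 (iv F147938)) (tt N15335 (iv F145123)) (tt N16822 (iv F151935)) (tt N12763 F142797) (tt N16762 (iv F151761)) (tt N14821 F142798) (tt N15304 (iv F144947)) (tt N16825 (iv F151943)) (tt N12760 (iv D30748)) (tt N16826 D32753))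
theorem Q14823 : ∀ i, i < 14823 → P i := stepQ 14822 Q14822 (allL N14822 (tt N15864 (iv F147941)) (tt N15336 (iv F145128)) (tt N12841 F142799) (tt N16824 (iv F151940)) (tt N12766 F142800) (tt N16523 (iv F150857)) (tt N12762 (iv D30749)) (tt N15305 (iv F144952)) (tt N16827 D32754) (tt N15257 (iv F144644)))
theorem Q14824 : ∀ i, i < 14824 → P i := stepQ 14823 Q14823 (allL N14823 (tt N15865 (iv F147945)) (tt N15337 (iv F145135)) (tt N12842 F142801) (tt N16825 (iv F151941)) (tt N12767 F142802) (tt N14823 F142803) (tt N16827 (iv F151948)) (tt N12763 F142804) (tt N12762 (iv D30750)) (tt N16828 D32755))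
theorem Q14825 : ∀ i, i < 14825 → P i := stepQ 14824 Q14824 (allL N14824 (tt N15866 (iv F147950)) (tt N15338 (iv F145141)) (tt N12843 F142805) (tt N16826 (iv F151944)) (tt N12768 F142806) (tt N14824 F142807) (tt N15307 (iv F144963)) (tt N16828 (iv F151952)) (tt N15259 (iv F144657)) (tt N12763 (iv D30751)))
theorem Q14826 : ∀ i, i < 14826 → P i := stepQ 14825 Q14825 (allL N14825 (tt N15869 (iv F147966)) (tt N16747 (iv F151709)) (tt N16766 (iv F151772)) (tt N16823 (iv F151938)) (tt N12765 F142808) (tt N15879 (iv F148013)) (tt N16829 D32756) (tt N12764 (iv D30752)) (tt N16763 (iv F151765)) (tt N15342 (iv F145167)))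
theorem Q14827 : ∀ i, i < 14827 → P i := stepQ 14826 Q14826 (allL N14826 (tt N15871 (iv F147973)) (tt N16749 (iv F151714)) (tt N16767 (iv F151776)) (tt N12766 F142809) (tt N16829 (iv F151953)) (tt N12785 F142810) (tt N12765 (iv D30753)) (tt N16789 (iv F151837)) (tt N16764 (iv F151768)) (tt N15344 (iv F145173)))
theorem Q14828 : ∀ i, i < 14828 → P i := stepQ 14827 Q14827 (allL N14827 (tt N15874 (iv F147987)) (tt N16752 (iv F151726)) (tt N12846 F142811) (tt N16764 (iv F151767)) (tt N16827 (iv F151947)) (tt N16830 D32757) (tt N12767 F142812) (tt N16790 (iv F151840)) (tt N12766 (iv D30754)) (tt N16831 D32758))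
theorem Q14829 : ∀ i, i < 14829 → P i := stepQ 14828 Q14828 (allL N14828 (tt N15875 (iv F147990)) (tt N16753 (iv F151730)) (tt N12847 F142813) (tt N16756 (iv F151743)) (tt N16828 (iv F151950)) (tt N12791 F142814) (tt N16831 (iv F151959)) (tt N12768 F142815) (tt N15348 (iv F145190)) (tt N12767 (iv D30755)))
theorem Q14830 : ∀ i, i < 14830 → P i := stepQ 14829 Q14829 (allL N14829 (tt N15812 (iv F147714)) (tt N12770 F142816) (tt N16751 (iv F151723)) (tt N12848 F142817) (tt N16832 D32759) (tt N12769 (iv D30756)) (tt N16791 (iv F151843)) (tt N16833 D32760) (tt N16656 (iv F151362)) (tt N12778 F142818))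
theorem Q14831 : ∀ i, i < 14831 → P i := stepQ 14830 Q14830 (allL N14830 (tt N15811 (iv F147707)) (tt N12771 F142819) (tt N16754 (iv F151735)) (tt N12800 F142820) (tt N15744 (iv F147404)) (tt N16833 (iv F151964)) (tt N12798 F142821) (tt N12769 (iv D30757)) (tt N12914 F142822) (tt N12779 F142823))
theorem Q14832 : ∀ i, i < 14832 → P i := stepQ 14831 Q14831 (allL N14831 (tt N15876 (iv F147995)) (tt N16832 (iv F151960)) (tt N12772 F142824) (tt N16834 D32761) (tt N12770 (iv D30758)) (tt N15867 (iv F147957)) (tt N16793 (iv F151851)) (tt N16835 D32762) (tt N16836 D32763) (tt N12780 F142825))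
theorem Q14833 : ∀ i, i < 14833 → P i := stepQ 14832 Q14832 (allL N14832 (tt N15877 (iv F148000)) (tt N16833 (iv F151962)) (tt N12773 F142826) (tt N12850 F142827) (tt N16835 (iv F151969)) (tt N12771 F142828) (tt N16837 D32764) (tt N12770 (iv D30759)) (tt N16838 D32765) (tt N12781 F142829))
theorem Q14834 : ∀ i, i < 14834 → P i := stepQ 14833 Q14833 (allL N14833 (tt N15878 (iv F148006)) (tt N16656 (iv F151360)) (tt N12774 F142830) (tt N12851 F142831) (tt N16836 (iv F151972)) (tt N12916 F142832) (tt N16795 (iv F151860)) (tt N16838 (iv F151979)) (tt N12770 (iv D30760)) (tt N16839 D32766))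
theorem Q14835 : ∀ i, i < 14835 → P i := stepQ 14834 Q14834 (allL N14834 (tt N15879 (iv F148011)) (tt N16757 (iv F151746)) (tt N16835 (iv F151968)) (tt N16543 (iv F150916)) (tt N12773 F142833) (tt N15869 (iv F147968)) (tt N16840 D32767) (tt N12772 (iv D30761)) (tt N16841 D32768) (tt N12783 F142834))
theorem Q14836 : ∀ i, i < 14836 → P i := stepQ 14835 Q14835 (allL N14835 (tt N15880 (iv F148015)) (tt N16758 (iv F151749)) (tt N16836 (iv F151971)) (tt N16544 (iv F150919)) (tt N12774 F142835) (tt N16842 D32769) (tt N16797 (iv F151864)) (tt N16841 (iv F151987)) (tt N12772 (iv D30762)) (tt N16843 D32770))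
theorem Q14837 : ∀ i, i < 14837 → P i := stepQ 14836 Q14836 (allL N14836 (tt N15881 (iv F148017)) (tt N16759 (iv F151751)) (tt N16837 (iv F151973)) (tt N12775 F142836) (tt N16840 (iv F151984)) (tt N15344 (iv F145172)) (tt N12773 (iv D30763)) (tt N16798 (iv F151866)) (tt N16844 D32771) (tt N12785 F142837))
theorem Q14838 : ∀ i, i < 14838 → P i := stepQ 14837 Q14837 (allL N14837 (tt N15882 (iv F148021)) (tt N16760 (iv F151754)) (tt N16838 (iv F151976)) (tt N12776 F142838) (tt N16841 (iv F151986)) (tt N12920 F142839) (tt N16844 (iv F151992)) (tt N12774 F142840) (tt N12773 (iv D30764)) (tt N16845 D32772))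
theorem Q14839 : ∀ i, i < 14839 → P i := stepQ 14838 Q14838 (allL N14838 (tt N15883 (iv F148025)) (tt N15341 (iv F145159)) (tt N16839 (iv F151980)) (tt N12777 F142841) (tt N16843 (iv F151989)) (tt N12921 F142842) (tt N16800 (iv F151873)) (tt N16845 (iv F151995)) (tt N12787 F142843) (tt N12774 (iv D30765)))
theorem Q14840 : ∀ i, i < 14840 → P i := stepQ 14839 Q14839 (allL N14839 (tt N15884 (iv F148029)) (tt N16761 (iv F151758)) (tt N12857 F142844) (tt N16844 (iv F151991)) (tt N16548 (iv F150930)) (tt N16846 D32773) (tt N12776 F142845) (tt N16801 (iv F151877)) (tt N12775 (iv D30766)) (tt N16847 D32774))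
theorem Q14841 : ∀ i, i < 14841 → P i := stepQ 14840 Q14840 (allL N14840 (tt N15885 (iv F148032)) (tt N15383 (iv F145380)) (tt N12858 F142846) (tt N16845 (iv F151993)) (tt N16549 (iv F150933)) (tt N12923 F142847) (tt N16847 (iv F152000)) (tt N12777 F142848) (tt N12789 F142849) (tt N12776 (iv D30767)))
theorem Q14842 : ∀ i, i < 14842 → P i := stepQ 14841 Q14841 (allL N14841 (tt N16180 (iv F149546)) (tt N12780 F142850) (tt N16748 (iv F151712)) (tt N16848 D32775) (tt N12778 (iv D30768)) (tt N16317 (iv F150066)) (tt N16803 (iv F151883)) (tt N16849 D32776) (tt N16745 (iv F151703)) (tt N16832 (iv F151961)))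
theorem Q14843 : ∀ i, i < 14843 → P i := stepQ 14842 Q14842 (allL N14842 (tt N15925 (iv F148190)) (tt N12781 F142851) (tt N16750 (iv F151718)) (tt N12799 F142852) (tt N16849 (iv F152005)) (tt N12779 F142853) (tt N16850 D32777) (tt N12778 (iv D30769)) (tt N16746 (iv F151708)) (tt N16833 (iv F151965)))
theorem Q14844 : ∀ i, i < 14844 → P i := stepQ 14843 Q14843 (allL N14843 (tt N15890 (iv F148051)) (tt N16848 (iv F152002)) (tt N16555 (iv F150949)) (tt N12780 (iv D30770)) (tt N12861 F142854) (tt N16320 (iv F150074)) (tt N16805 (iv F151888)) (tt N16851 D32778) (tt N16852 D32779) (tt N16834 (iv F151967)))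
theorem Q14845 : ∀ i, i < 14845 → P i := stepQ 14844 Q14844 (allL N14844 (tt N15891 (iv F148053)) (tt N16849 (iv F152004)) (tt N12783 F142855) (tt N16851 (iv F152009)) (tt N12781 F142856) (tt N16321 (iv F150077)) (tt N16853 D32780) (tt N12780 (iv D30771)) (tt N16854 D32781) (tt N16835 (iv F151970)))
theorem Q14846 : ∀ i, i < 14846 → P i := stepQ 14845 Q14845 (allL N14845 (tt N15892 (iv F148056)) (tt N16745 (iv F151701)) (tt N12784 F142857) (tt N16852 (iv F152011)) (tt N12782 F142858) (tt N16855 D32782) (tt N16807 (iv F151893)) (tt N16854 (iv F152017)) (tt N12780 (iv D30772)) (tt N16856 D32783))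
theorem Q14847 : ∀ i, i < 14847 → P i := stepQ 14846 Q14846 (allL N14846 (tt N15893 (iv F148059)) (tt N16850 (iv F152006)) (tt N12785 F142859) (tt N12864 F142860) (tt N16853 (iv F152014)) (tt N16767 F151779) (tt N12781 (iv D30773)) (tt N16808 (iv F151896)) (tt N16857 D32784) (tt N16837 (iv F151975)))
theorem Q14848 : ∀ i, i < 14848 → P i := stepQ 14847 Q14847 (allL N14847 (tt N15894 (iv F148062)) (tt N16746 (iv F151704)) (tt N12786 F142861) (tt N12865 F142862) (tt N16854 (iv F152016)) (tt N12794 F142863) (tt N16857 (iv F152024)) (tt N12782 F142864) (tt N12781 (iv D30774)) (tt N16858 D32785))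
theorem Q14849 : ∀ i, i < 14849 → P i := stepQ 14848 Q14848 (allL N14848 (tt N15895 (iv F148067)) (tt N15300 (iv F144923)) (tt N12787 F142865) (tt N12866 F142866) (tt N16856 (iv F152021)) (tt N12795 F142867) (tt N16810 (iv F151905)) (tt N16858 (iv F152028)) (tt N16839 (iv F151983)) (tt N12782 (iv D30775)))
theorem Q14850 : ∀ i, i < 14850 → P i := stepQ 14849 Q14849 (allL N14849 (tt N15896 (iv F148071)) (tt N16765 (iv F151769)) (tt N16853 (iv F152013)) (tt N16561 (iv F150964)) (tt N12785 F142868) (tt N16859 D32786) (tt N12783 (iv D30776)) (tt N16811 (iv F151907)) (tt N16860 D32787) (tt N16840 (iv F151985)))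
theorem Q14851 : ∀ i, i < 14851 → P i := stepQ 14850 Q14850 (allL N14850 (tt N15897 (iv F148073)) (tt N16766 (iv F151771)) (tt N16854 (iv F152015)) (tt N16562 (iv F150966)) (tt N12786 F142869) (tt N16861 D32788) (tt N16860 (iv F152030)) (tt N12784 F142870) (tt N12783 (iv D30777)) (tt N16862 D32789))
theorem Q14852 : ∀ i, i < 14852 → P i := stepQ 14851 Q14851 (allL N14851 (tt N15898 (iv F148076)) (tt N15876 (iv F147996)) (tt N16855 (iv F152018)) (tt N16563 (iv F150969)) (tt N12797 F142871) (tt N12784 (iv D30778)) (tt N16863 D32790) (tt N16861 (iv F152032)) (tt N16328 (iv F150095)) (tt N15887 (iv F148043)))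
theorem Q14853 : ∀ i, i < 14853 → P i := stepQ 14852 Q14852 (allL N14852 (tt N15899 (iv F148078)) (tt N15339 (iv F145148)) (tt N16856 (iv F152020)) (tt N16564 (iv F150971)) (tt N12787 F142872) (tt N15887 (iv F148042)) (tt N16814 (iv F151912)) (tt N16862 (iv F152034)) (tt N16843 (iv F151990)) (tt N12784 (iv D30779)))
theorem Q14854 : ∀ i, i < 14854 → P i := stepQ 14853 Q14853 (allL N14853 (tt N15900 (iv F148080)) (tt N16767 (iv F151775)) (tt N16857 (iv F152022)) (tt N12788 F142873) (tt N16860 (iv F152029)) (tt N16850 (iv F152008)) (tt N12786 F142874) (tt N16815 (iv F151915)) (tt N12785 (iv D30780)) (tt N16864 D32791))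
theorem Q14855 : ∀ i, i < 14855 → P i := stepQ 14854 Q14854 (allL N14854 (tt N15901 (iv F148083)) (tt N15340 (iv F145153)) (tt N16858 (iv F152025)) (tt N12789 F142875) (tt N16862 (iv F152033)) (tt N12798 F142876) (tt N16864 (iv F152037)) (tt N12787 F142877) (tt N16845 (iv F151996)) (tt N12786 (iv D30781)))
theorem Q14856 : ∀ i, i < 14856 → P i := stepQ 14855 Q14855 (allL N14855 (tt N15902 (iv F148087)) (tt N12864 F142878) (tt N12872 F142879) (tt N16850 (iv F152007)) (tt N16865 D32792) (tt N12788 (iv D30782)) (tt N12799 F142880) (tt N16817 (iv F151922)) (tt N16830 (iv F151957)) (tt N16866 D32793))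
theorem Q14857 : ∀ i, i < 14857 → P i := stepQ 14856 Q14856 (allL N14856 (tt N15903 (iv F148090)) (tt N15382 (iv F145375)) (tt N12873 F142881) (tt N16864 (iv F152036)) (tt N16568 (iv F150981)) (tt N16866 (iv F152043)) (tt N12789 F142882) (tt N16818 (iv F151925)) (tt N16847 (iv F152001)) (tt N12788 (iv D30783)))
theorem Q14858 : ∀ i, i < 14858 → P i := stepQ 14857 Q14857 (allL N14857 (tt N15909 (iv F148118)) (tt N12865 F142883) (tt N12874 F142884) (tt N16746 (iv F151706)) (tt N16867 D32794) (tt N12790 (iv D30784)) (tt N16830 (iv F151956)) (tt N12860 F142885) (tt N12799 F142886) (tt N16868 D32795))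
theorem Q14859 : ∀ i, i < 14859 → P i := stepQ 14858 Q14858 (allL N14858 (tt N15910 (iv F148122)) (tt N12875 F142887) (tt N12807 F142888) (tt N15301 (iv F144930)) (tt N14858 F142889) (tt N16868 (iv F152052)) (tt N12791 F142890) (tt N12805 F142891) (tt N12936 F142892) (tt N12790 (iv D30785)))
theorem Q14860 : ∀ i, i < 14860 → P i := stepQ 14859 Q14859 (allL N14859 (tt N15918 (iv F148161)) (tt N15776 (iv F147556)) (tt N12796 F142893) (tt N14859 F142894) (tt N12794 F142895) (tt N16869 D32796) (tt N16278 (iv F149938)) (tt N12793 F142896) (tt N12792 (iv D30786)) (tt N15785 (iv F147601)))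
theorem Q14861 : ∀ i, i < 14861 → P i := stepQ 14860 Q14860 (allL N14860 (tt N15919 (iv F148166)) (tt N15775 (iv F147552)) (tt N12797 F142897) (tt N14860 F142898) (tt N16855 (iv F152019)) (tt N12793 (iv D30787)) (tt N16870 D32797) (tt N16869 (iv F152056)) (tt N16338 (iv F150125)) (tt N15784 (iv F147595)))
theorem Q14862 : ∀ i, i < 14862 → P i := stepQ 14861 Q14861 (allL N14861 (tt N15921 (iv F148174)) (tt N15301 (iv F144928)) (tt N12798 F142899) (tt N12875 F142900) (tt N15785 (iv F147599)) (tt N16858 (iv F152027)) (tt N16754 (iv F151737)) (tt N12795 F142901) (tt N12937 F142902) (tt N12794 (iv D30788)))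
theorem Q14863 : ∀ i, i < 14863 → P i := stepQ 14862 Q14862 (allL N14862 (tt N15923 (iv F148184)) (tt N15877 (iv F148001)) (tt N16869 (iv F152054)) (tt N12801 F142903) (tt N16861 (iv F152031)) (tt N12796 (iv D30789)) (tt N16871 D32798) (tt N12797 F142904) (tt N16343 (iv F150147)) (tt N15888 (iv F148047)))
theorem Q14864 : ∀ i, i < 14864 → P i := stepQ 14863 Q14863 (allL N14863 (tt N15924 (iv F148187)) (tt N15836 (iv F147823)) (tt N16870 (iv F152057)) (tt N12802 F142905) (tt N16863 (iv F152035)) (tt N12984 F142906) (tt N12797 (iv D30790)) (tt N16872 D32799) (tt N16345 (iv F150154)) (tt N15845 (iv F147868)))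
theorem Q14865 : ∀ i, i < 14865 → P i := stepQ 14864 Q14864 (allL N14864 (tt N15926 (iv F148193)) (tt N12862 F142907) (tt N12878 F142908) (tt N16873 D32800) (tt N12799 (iv D30791)) (tt N12803 F142909) (tt N16865 (iv F152040)) (tt N12859 F142910) (tt N16867 (iv F152049)) (tt N16659 F151375))
theorem Q14866 : ∀ i, i < 14866 → P i := stepQ 14865 Q14865 (allL N14865 (tt N15816 (iv F147737)) (tt N12850 F142911) (tt N12879 F142912) (tt N16833 (iv F151963)) (tt N16659 (iv F151372)) (tt N12800 F142913) (tt N16866 (iv F152044)) (tt N12848 F142914) (tt N16657 (iv F151367)) (tt N12799 (iv D30792)))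
theorem Q14867 : ∀ i, i < 14867 → P i := stepQ 14866 Q14866 (allL N14866 (tt N15928 (iv F148203)) (tt N15989 (iv F148511)) (tt N14866 F142915) (tt N16871 (iv F152060)) (tt N16600 (iv F151091)) (tt N16376 (iv F150254)) (tt N12801 (iv D30793)) (tt N16874 D32801) (tt N16354 (iv F150182)) (tt N16002 (iv F148573)))
theorem Q14868 : ∀ i, i < 14868 → P i := stepQ 14867 Q14867 (allL N14867 (tt N15929 (iv F148205)) (tt N15942 (iv F148274)) (tt N14867 F142916) (tt N16872 (iv F152061)) (tt N16601 (iv F151093)) (tt N12985 F142917) (tt N16874 (iv F152067)) (tt N12802 (iv D30794)) (tt N16356 (iv F150188)) (tt N15953 (iv F148337)))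
theorem Q14869 : ∀ i, i < 14869 → P i := stepQ 14868 Q14868 (allL N14868 (tt N15932 (iv F148219)) (tt N12898 F142918) (tt N16575 (iv F151004)) (tt N12803 (iv D30795)) (tt N16401 (iv F150344)) (tt N16873 (iv F152064)) (tt N16602 (iv F151096)) (tt N12897 F142919) (tt N14868 F142920) (tt N16570 F150992))
theorem Q14870 : ∀ i, i < 14870 → P i := stepQ 14869 Q14869 (allL N14869 (tt N15933 (iv F148222)) (tt N12866 F142921) (tt N12806 F142922) (tt N15300 (iv F144925)) (tt N16650 (iv F151330)) (tt N12805 (iv D30796)) (tt N12836 F142923) (tt N16868 (iv F152053)) (tt N16648 F151324) (tt N12860 F142924))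
theorem Q14871 : ∀ i, i < 14871 → P i := stepQ 14870 Q14870 (allL N14870 (tt N15934 (iv F148226)) (tt N13211 F142925) (tt N16868 (iv F152051)) (tt N12808 F142926) (tt N16653 (iv F151347)) (tt N12807 F142927) (tt N16875 D32802) (tt N12806 (iv D30797)) (tt N16651 (iv F151338)) (tt N12874 F142928))
theorem Q14872 : ∀ i, i < 14872 → P i := stepQ 14871 Q14871 (allL N14871 (tt N15935 (iv F148231)) (tt N13212 F142929) (tt N15305 (iv F144949)) (tt N16875 (iv F152069)) (tt N12812 F142930) (tt N13200 F142931) (tt N12808 (iv D30798)) (tt N12841 F142932) (tt N16876 D32803) (tt N13199 F142933))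
theorem Q14873 : ∀ i, i < 14873 → P i := stepQ 14872 Q14872 (allL N14872 (tt N15936 (iv F148237)) (tt N13205 F142934) (tt N15306 (iv F144955)) (tt N16651 (iv F151335)) (tt N12813 F142935) (tt N13259 F142936) (tt N16876 (iv F152075)) (tt N12809 F142937) (tt N12808 (iv D30799)) (tt N16643 (iv F151297)))
theorem Q14874 : ∀ i, i < 14874 → P i := stepQ 14873 Q14873 (allL N14873 (tt N15939 (iv F148254)) (tt N13207 F142938) (tt N16744 (iv F151697)) (tt N12812 F142939) (tt N16654 (iv F151352)) (tt N12830 F142940) (tt N12811 (iv D30800)) (tt N12845 F142941) (tt N13198 F142942) (tt N15375 (iv F145337)))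
theorem Q14875 : ∀ i, i < 14875 → P i := stepQ 14874 Q14874 (allL N14874 (tt N15940 (iv F148261)) (tt N13206 F142943) (tt N16790 (iv F151838)) (tt N13198 F142944) (tt N16876 (iv F152074)) (tt N15273 (iv F144747)) (tt N12813 F142945) (tt N12846 F142946) (tt N12812 (iv D30801)) (tt N16644 (iv F151302)))
theorem Q14876 : ∀ i, i < 14876 → P i := stepQ 14875 Q14875 (allL N14875 (tt N15817 (iv F147742)) (tt N12815 F142947) (tt N12992 F142948) (tt N16791 (iv F151842)) (tt N16609 (iv F151133)) (tt N12814 (iv D30802)) (tt N12848 F142949) (tt N16877 D32804) (tt N16607 F151127) (tt N12823 F142950))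
theorem Q14877 : ∀ i, i < 14877 → P i := stepQ 14876 Q14876 (allL N14876 (tt N16146 (iv F149385)) (tt N12816 F142951) (tt N12990 F142952) (tt N16792 (iv F151846)) (tt N14876 F142953) (tt N16877 (iv F152079)) (tt N12980 F142954) (tt N12814 (iv D30803)) (tt N14876 F142955) (tt N12824 F142956))
theorem Q14878 : ∀ i, i < 14878 → P i := stepQ 14877 Q14877 (allL N14877 (tt N15941 (iv F148267)) (tt N16609 (iv F151131)) (tt N12817 F142957) (tt N16878 D32805) (tt N12815 (iv D30804)) (tt N14877 F142958) (tt N12849 F142959) (tt N16879 D32806) (tt N16605 F151115) (tt N12825 F142960))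
theorem Q14879 : ∀ i, i < 14879 → P i := stepQ 14878 Q14878 (allL N14878 (tt N15942 (iv F148273)) (tt N16877 (iv F152077)) (tt N12818 F142961) (tt N16794 (iv F151854)) (tt N16879 (iv F152085)) (tt N12816 F142962) (tt N16880 D32807) (tt N12815 (iv D30805)) (tt N16881 D32808) (tt N12826 F142963))
theorem Q14880 : ∀ i, i < 14880 → P i := stepQ 14879 Q14879 (allL N14879 (tt N15943 (iv F148278)) (tt N16607 (iv F151122)) (tt N12819 F142964) (tt N16795 (iv F151858)) (tt N16605 F151114) (tt N14879 F142965) (tt N12851 F142966) (tt N16881 (iv F152093)) (tt N12815 (iv D30806)) (tt N16882 D32809))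
theorem Q14881 : ∀ i, i < 14881 → P i := stepQ 14880 Q14880 (allL N14880 (tt N15944 (iv F148283)) (tt N13225 F142967) (tt N16879 (iv F152084)) (tt N16620 (iv F151191)) (tt N12818 F142968) (tt N14880 F142969) (tt N16883 D32810) (tt N12817 (iv D30807)) (tt N16884 D32811) (tt N12828 F142970))
theorem Q14882 : ∀ i, i < 14882 → P i := stepQ 14881 Q14881 (allL N14881 (tt N15945 (iv F148288)) (tt N13055 F142971) (tt N16605 (iv F151111)) (tt N13128 F142972) (tt N12819 F142973) (tt N13054 (iv F142975)) (tt N12853 F142974) (tt N16884 (iv F152107)) (tt N12817 (iv D30808)) (tt N13064 F142976))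
theorem Q14883 : ∀ i, i < 14883 → P i := stepQ 14882 Q14882 (allL N14882 (tt N15946 (iv F148295)) (tt N13226 F142977) (tt N16880 (iv F152088)) (tt N12820 F142978) (tt N16883 (iv F152101)) (tt N15375 (iv F145335)) (tt N12818 (iv D30809)) (tt N12854 F142979) (tt N16885 D32812) (tt N12830 F142980))
theorem Q14884 : ∀ i, i < 14884 → P i := stepQ 14883 Q14883 (allL N14883 (tt N15947 (iv F148301)) (tt N13227 F142981) (tt N16881 (iv F152091)) (tt N12821 F142982) (tt N16884 (iv F152106)) (tt N14883 F142983) (tt N16885 (iv F152112)) (tt N12819 F142984) (tt N12818 (iv D30810)) (tt N16886 D32813))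
theorem Q14885 : ∀ i, i < 14885 → P i := stepQ 14884 Q14884 (allL N14884 (tt N15948 (iv F148306)) (tt N13066 F142985) (tt N16882 (iv F152095)) (tt N12822 F142986) (tt N13064 F142987) (tt N14884 F142988) (tt N12856 F142989) (tt N16886 (iv F152118)) (tt N12832 F142990) (tt N12819 (iv D30811)))
theorem Q14886 : ∀ i, i < 14886 → P i := stepQ 14885 Q14885 (allL N14885 (tt N15949 (iv F148313)) (tt N13228 F142991) (tt N16801 (iv F151875)) (tt N16885 (iv F152111)) (tt N16623 (iv F151208)) (tt N16887 D32814) (tt N12821 F142992) (tt N12857 F142993) (tt N12820 (iv D30812)) (tt N16888 D32815))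
theorem Q14887 : ∀ i, i < 14887 → P i := stepQ 14886 Q14886 (allL N14886 (tt N15950 (iv F148317)) (tt N13229 F142994) (tt N16802 (iv F151878)) (tt N16886 (iv F152115)) (tt N16624 (iv F151213)) (tt N14886 F142995) (tt N16888 (iv F152124)) (tt N12822 F142996) (tt N12834 F142997) (tt N12821 (iv D30813)))
theorem Q14888 : ∀ i, i < 14888 → P i := stepQ 14887 Q14887 (allL N14887 (tt N16173 (iv F149514)) (tt N12825 F142998) (tt N12991 F142999) (tt N16889 D32816) (tt N12823 (iv D30814)) (tt N14887 F143000) (tt N12859 F143001) (tt N16890 D32817) (tt N15270 (iv F144729)) (tt N16609 (iv F151136)))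
theorem Q14889 : ∀ i, i < 14889 → P i := stepQ 14888 Q14888 (allL N14888 (tt N16169 (iv F149496)) (tt N12826 F143002) (tt N12989 F143003) (tt N16804 (iv F151885)) (tt N16890 (iv F152132)) (tt N12824 F143004) (tt N16817 (iv F151921)) (tt N12823 (iv D30815)) (tt N15271 (iv F144735)) (tt N16877 (iv F152080)))
theorem Q14890 : ∀ i, i < 14890 → P i := stepQ 14889 Q14889 (allL N14889 (tt N15955 (iv F148343)) (tt N16889 (iv F152127)) (tt N16630 (iv F151239)) (tt N12825 (iv D30816)) (tt N16805 (iv F151887)) (tt N14889 F143005) (tt N12861 F143006) (tt N16891 D32818) (tt N16892 D32819) (tt N16878 (iv F152083)))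
theorem Q14891 : ∀ i, i < 14891 → P i := stepQ 14890 Q14890 (allL N14890 (tt N15956 (iv F148346)) (tt N16890 (iv F152130)) (tt N12828 F143007) (tt N16891 (iv F152134)) (tt N12826 F143008) (tt N14890 F143009) (tt N16893 D32820) (tt N12825 (iv D30817)) (tt N16894 D32821) (tt N16879 (iv F152087)))
theorem Q14892 : ∀ i, i < 14892 → P i := stepQ 14891 Q14891 (allL N14891 (tt N15957 (iv F148350)) (tt N15270 (iv F144725)) (tt N12829 F143010) (tt N16892 (iv F152136)) (tt N12827 F143011) (tt N15278 (iv F144783)) (tt N12863 F143012) (tt N16894 (iv F152143)) (tt N12825 (iv D30818)) (tt N16895 D32822))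
theorem Q14893 : ∀ i, i < 14893 → P i := stepQ 14892 Q14892 (allL N14892 (tt N15958 (iv F148354)) (tt N16817 (iv F151919)) (tt N12830 F143013) (tt N16808 (iv F151895)) (tt N16893 (iv F152139)) (tt N16744 F151700) (tt N12826 (iv D30819)) (tt N12864 F143014) (tt N16896 D32823) (tt N16880 (iv F152090)))
theorem Q14894 : ∀ i, i < 14894 → P i := stepQ 14893 Q14893 (allL N14893 (tt N15959 (iv F148357)) (tt N15271 (iv F144732)) (tt N12831 F143015) (tt N16809 (iv F151898)) (tt N16894 (iv F152142)) (tt N12986 F143016) (tt N16896 (iv F152151)) (tt N12827 F143017) (tt N12826 (iv D30820)) (tt N16897 D32824))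
theorem Q14895 : ∀ i, i < 14895 → P i := stepQ 14894 Q14894 (allL N14894 (tt N15960 (iv F148361)) (tt N12836 F143018) (tt N12832 F143019) (tt N16810 (iv F151903)) (tt N16895 (iv F152146)) (tt N12835 F143020) (tt N12866 F143021) (tt N16897 (iv F152156)) (tt N16882 (iv F152099)) (tt N12827 (iv D30821)))
theorem Q14896 : ∀ i, i < 14896 → P i := stepQ 14895 Q14895 (allL N14895 (tt N15961 (iv F148365)) (tt N13232 F143022) (tt N16893 (iv F152138)) (tt N16636 (iv F151263)) (tt N12830 F143023) (tt N16898 D32825) (tt N12828 (iv D30822)) (tt N12867 F143024) (tt N16899 D32826) (tt N16883 (iv F152103)))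
theorem Q14897 : ∀ i, i < 14897 → P i := stepQ 14896 Q14896 (allL N14896 (tt N15962 (iv F148369)) (tt N13233 F143025) (tt N16894 (iv F152141)) (tt N16637 (iv F151267)) (tt N12831 F143026) (tt N15276 (iv F144767)) (tt N16899 (iv F152162)) (tt N12829 F143027) (tt N12828 (iv D30823)) (tt N16900 D32827))
theorem Q14898 : ∀ i, i < 14898 → P i := stepQ 14897 Q14897 (allL N14897 (tt N15963 (iv F148374)) (tt N13091 F143028) (tt N15278 (iv F144782)) (tt N13160 F143029) (tt N12987 F143030) (tt N12829 (iv D30824)) (tt N14897 F143031) (tt N15276 (iv F144769)) (tt N14897 F143032) (tt N13087 (iv F143033)))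
theorem Q14899 : ∀ i, i < 14899 → P i := stepQ 14898 Q14898 (allL N14898 (tt N15964 (iv F148382)) (tt N13068 F143034) (tt N16895 (iv F152145)) (tt N13140 F143035) (tt N12832 F143036) (tt N13087 F143037) (tt N12869 F143038) (tt N16900 (iv F152168)) (tt N13064 F143039) (tt N12829 (iv D30825)))
theorem Q14900 : ∀ i, i < 14900 → P i := stepQ 14899 Q14899 (allL N14899 (tt N15965 (iv F148389)) (tt N13234 F143040) (tt N16896 (iv F152150)) (tt N12833 F143041) (tt N16899 (iv F152161)) (tt N15274 (iv F144755)) (tt N12831 F143042) (tt N12870 F143043) (tt N12830 (iv D30826)) (tt N16901 D32828))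
theorem Q14901 : ∀ i, i < 14901 → P i := stepQ 14900 Q14900 (allL N14900 (tt N15966 (iv F148395)) (tt N13235 F143044) (tt N16897 (iv F152154)) (tt N12834 F143045) (tt N16900 (iv F152166)) (tt N12988 F143046) (tt N16901 (iv F152172)) (tt N12832 F143047) (tt N16886 (iv F152119)) (tt N12831 (iv D30827)))
theorem Q14902 : ∀ i, i < 14902 → P i := stepQ 14901 Q14901 (allL N14901 (tt N15967 (iv F148400)) (tt N13231 F143048) (tt N16817 (iv F151920)) (tt N15274 (iv F144753)) (tt N16902 D32829) (tt N12833 (iv D30828)) (tt N12989 F143049) (tt N12872 F143050) (tt N15273 (iv F144749)) (tt N16903 D32830))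
theorem Q14903 : ∀ i, i < 14903 → P i := stepQ 14902 Q14902 (allL N14902 (tt N15968 (iv F148406)) (tt N13236 F143051) (tt N16818 (iv F151923)) (tt N16901 (iv F152171)) (tt N16641 (iv F151286)) (tt N16903 (iv F152178)) (tt N12834 F143052) (tt N12873 F143053) (tt N16888 (iv F152126)) (tt N12833 (iv D30829)))
theorem Q14904 : ∀ i, i < 14904 → P i := stepQ 14903 Q14903 (allL N14903 (tt N16183 (iv F149555)) (tt N12837 F143054) (tt N12988 F143055) (tt N16819 (iv F151928)) (tt N12882 F143056) (tt N16897 (iv F152155)) (tt N15264 (iv F144688)) (tt N12835 (iv D30830)) (tt N14903 F143057) (tt N12986 F143058))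
theorem Q14905 : ∀ i, i < 14905 → P i := stepQ 14904 Q14904 (allL N14904 (tt N15972 (iv F148424)) (tt N16895 (iv F152144)) (tt N12838 F143059) (tt N16469 (iv F150657)) (tt N12836 (iv D30831)) (tt N12883 F143060) (tt N16650 (iv F151332)) (tt N16904 D32831) (tt N13014 (iv F143061)) (tt N15270 (iv F144730)))
theorem Q14906 : ∀ i, i < 14906 → P i := stepQ 14905 Q14905 (allL N14905 (tt N15973 (iv F148429)) (tt N16897 (iv F152153)) (tt N12839 F143062) (tt N16821 (iv F151933)) (tt N16904 (iv F152182)) (tt N12837 F143063) (tt N16905 D32832) (tt N12836 (iv D30832)) (tt N16906 D32833) (tt N15271 (iv F144736)))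
theorem Q14907 : ∀ i, i < 14907 → P i := stepQ 14906 Q14906 (allL N14906 (tt N15974 (iv F148433)) (tt N16882 (iv F152094)) (tt N12840 F143064) (tt N16822 (iv F151936)) (tt N13014 F143065) (tt N14906 F143066) (tt N16648 (iv F151322)) (tt N16906 (iv F152189)) (tt N12836 (iv D30833)) (tt N16607 (iv F151126)))
theorem Q14908 : ∀ i, i < 14908 → P i := stepQ 14907 Q14907 (allL N14907 (tt N15975 (iv F148437)) (tt N13071 F143067) (tt N16904 (iv F152181)) (tt N12844 F143068) (tt N12839 F143069) (tt N12886 F143070) (tt N16907 D32834) (tt N12838 (iv D30834)) (tt N13016 F143071) (tt N15272 (iv F144743)))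
theorem Q14909 : ∀ i, i < 14909 → P i := stepQ 14908 Q14908 (allL N14908 (tt N15976 (iv F148444)) (tt N13237 F143072) (tt N16905 (iv F152185)) (tt N12841 F143073) (tt N16907 (iv F152192)) (tt N16644 (iv F151300)) (tt N12839 (iv D30835)) (tt N16875 (iv F152071)) (tt N16908 D32835) (tt N15273 (iv F144750)))
theorem Q14910 : ∀ i, i < 14910 → P i := stepQ 14909 Q14909 (allL N14909 (tt N15977 (iv F148448)) (tt N13069 F143074) (tt N16906 (iv F152186)) (tt N12842 F143075) (tt N13016 F143076) (tt N14909 F143077) (tt N16908 (iv F152197)) (tt N12840 F143078) (tt N12839 (iv D30836)) (tt N16610 (iv F151142)))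
theorem Q14911 : ∀ i, i < 14911 → P i := stepQ 14910 Q14910 (allL N14910 (tt N15978 (iv F148454)) (tt N13222 F143079) (tt N16827 (iv F151946)) (tt N16908 (iv F152195)) (tt N12846 F143080) (tt N16909 D32836) (tt N12842 F143081) (tt N16876 (iv F152076)) (tt N12841 (iv D30837)) (tt N16910 D32837))
theorem Q14912 : ∀ i, i < 14912 → P i := stepQ 14911 Q14911 (allL N14911 (tt N15979 (iv F148458)) (tt N13217 F143082) (tt N16828 (iv F151949)) (tt N16610 (iv F151138)) (tt N12847 F143083) (tt N14911 F143084) (tt N16910 (iv F152202)) (tt N12843 F143085) (tt N15275 (iv F144764)) (tt N12842 (iv D30838)))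
theorem Q14913 : ∀ i, i < 14913 → P i := stepQ 14912 Q14912 (allL N14912 (tt N15983 (iv F148479)) (tt N13073 F143086) (tt N16474 (iv F150672)) (tt N16907 (iv F152191)) (tt N12845 F143087) (tt N16911 D32838) (tt N12844 (iv D30839)) (tt N16654 (iv F151354)) (tt N13017 F143088) (tt N15384 (iv F145388)))
theorem Q14914 : ∀ i, i < 14914 → P i := stepQ 14913 Q14913 (allL N14913 (tt N15984 (iv F148484)) (tt N13214 F143089) (tt N16830 (iv F151955)) (tt N13199 F143090) (tt N16912 D32839) (tt N12846 (iv D30840)) (tt N12874 F143091) (tt N15273 (iv F144748)) (tt N12872 F143092) (tt N16875 (iv F152072)))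
theorem Q14915 : ∀ i, i < 14915 → P i := stepQ 14914 Q14914 (allL N14914 (tt N15985 (iv F148490)) (tt N13218 F143093) (tt N16831 (iv F151958)) (tt N13200 F143094) (tt N16910 (iv F152201)) (tt N16875 (iv F152070)) (tt N12847 F143095) (tt N16644 (iv F151301)) (tt N15388 (iv F145409)) (tt N12846 (iv D30841)))
theorem Q14916 : ∀ i, i < 14916 → P i := stepQ 14915 Q14915 (allL N14915 (tt N15986 (iv F148495)) (tt N16529 (iv F150876)) (tt N16667 (iv F151402)) (tt N12849 (iv D30842)) (tt N16834 (iv F151966)) (tt N12891 F143096) (tt N16878 (iv F152082)) (tt N16913 D32840) (tt N16525 (iv F150867)) (tt N12861 F143097))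
theorem Q14917 : ∀ i, i < 14917 → P i := stepQ 14916 Q14916 (allL N14916 (tt N15987 (iv F148499)) (tt N16659 (iv F151370)) (tt N12852 F143098) (tt N16913 (iv F152209)) (tt N12850 F143099) (tt N12892 F143100) (tt N16914 D32841) (tt N12849 (iv D30843)) (tt N16655 (iv F151359)) (tt N12862 F143101))
theorem Q14918 : ∀ i, i < 14918 → P i := stepQ 14917 Q14917 (allL N14917 (tt N15989 (iv F148510)) (tt N16866 (iv F152041)) (tt N12854 F143102) (tt N16837 (iv F151974)) (tt N16914 (iv F152213)) (tt N15382 (iv F145377)) (tt N12850 (iv D30844)) (tt N16880 (iv F152089)) (tt N16915 D32842) (tt N12864 F143103))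
theorem Q14919 : ∀ i, i < 14919 → P i := stepQ 14918 Q14918 (allL N14918 (tt N15990 (iv F148515)) (tt N16657 (iv F151363)) (tt N12855 F143104) (tt N16838 (iv F151977)) (tt N16655 (iv F151357)) (tt N12940 F143105) (tt N16915 (iv F152216)) (tt N12851 F143106) (tt N12850 (iv D30845)) (tt N16916 D32843))
theorem Q14920 : ∀ i, i < 14920 → P i := stepQ 14919 Q14919 (allL N14919 (tt N15991 (iv F148520)) (tt N16648 (iv F151319)) (tt N12856 F143107) (tt N16839 (iv F151981)) (tt N16646 (iv F151309)) (tt N12941 F143108) (tt N16882 (iv F152098)) (tt N16916 (iv F152219)) (tt N12866 F143109) (tt N12851 (iv D30846)))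
theorem Q14921 : ∀ i, i < 14921 → P i := stepQ 14920 Q14920 (allL N14920 (tt N15992 (iv F148525)) (tt N13240 F143110) (tt N16914 (iv F152212)) (tt N16671 (iv F151415)) (tt N12854 F143111) (tt N16917 D32844) (tt N12852 (iv D30847)) (tt N16883 (iv F152102)) (tt N16918 D32845) (tt N12867 F143112))
theorem Q14922 : ∀ i, i < 14922 → P i := stepQ 14921 Q14921 (allL N14921 (tt N15993 (iv F148529)) (tt N13121 F143113) (tt N16655 (iv F151356)) (tt N16672 (iv F151419)) (tt N12855 F143114) (tt N13120 F143115) (tt N16918 (iv F152226)) (tt N12853 F143116) (tt N12852 (iv D30848)) (tt N16919 D32846))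
theorem Q14923 : ∀ i, i < 14923 → P i := stepQ 14922 Q14922 (allL N14922 (tt N15994 (iv F148534)) (tt N13035 F143117) (tt N16646 (iv F151308)) (tt N13099 F143118) (tt N12856 F143119) (tt N13034 F143120) (tt N13064 F143121) (tt N16919 (iv F152232)) (tt N12869 F143122) (tt N12853 (iv D30849)))
theorem Q14924 : ∀ i, i < 14924 → P i := stepQ 14923 Q14923 (allL N14923 (tt N15995 (iv F148541)) (tt N13241 F143123) (tt N16915 (iv F152215)) (tt N12857 F143124) (tt N16918 (iv F152225)) (tt N16920 D32847) (tt N12855 F143125) (tt N16885 (iv F152113)) (tt N12854 (iv D30850)) (tt N16921 D32848))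
theorem Q14925 : ∀ i, i < 14925 → P i := stepQ 14924 Q14924 (allL N14924 (tt N15996 (iv F148545)) (tt N13242 F143126) (tt N16916 (iv F152217)) (tt N12858 F143127) (tt N16919 (iv F152230)) (tt N12946 F143128) (tt N16921 (iv F152239)) (tt N12856 F143129) (tt N12871 F143130) (tt N12855 (iv D30851)))
theorem Q14926 : ∀ i, i < 14926 → P i := stepQ 14925 Q14925 (allL N14925 (tt N15997 (iv F148551)) (tt N13243 F143131) (tt N16846 (iv F151997)) (tt N16920 (iv F152235)) (tt N16922 D32849) (tt N12857 (iv D30852)) (tt N12947 F143132) (tt N16887 (iv F152122)) (tt N15387 (iv F145404)) (tt N16923 D32850))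
theorem Q14927 : ∀ i, i < 14927 → P i := stepQ 14926 Q14926 (allL N14926 (tt N15998 (iv F148555)) (tt N13244 F143133) (tt N16847 (iv F151999)) (tt N16921 (iv F152238)) (tt N16676 (iv F151436)) (tt N16923 (iv F152244)) (tt N12858 F143134) (tt N16888 (iv F152125)) (tt N12873 F143135) (tt N12857 (iv D30853)))
theorem Q14928 : ∀ i, i < 14928 → P i := stepQ 14927 Q14927 (allL N14927 (tt N16181 (iv F149547)) (tt N12861 F143136) (tt N16534 (iv F150888)) (tt N12859 (iv D30854)) (tt N16848 (iv F152003)) (tt N12897 F143137) (tt N16889 (iv F152129)) (tt N16873 (iv F152065)) (tt N16924 D32851) (tt N16529 F150880))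
theorem Q14929 : ∀ i, i < 14929 → P i := stepQ 14928 Q14928 (allL N14928 (tt N16175 (iv F149524)) (tt N12863 F143138) (tt N12993 F143139) (tt N16924 (iv F152247)) (tt N12860 F143140) (tt N14928 F143141) (tt N15270 (iv F144728)) (tt N16867 (iv F152048)) (tt N12859 (iv D30855)) (tt N16650 (iv F151333)))
theorem Q14930 : ∀ i, i < 14930 → P i := stepQ 14929 Q14929 (allL N14929 (tt N16005 (iv F148582)) (tt N16873 (iv F152063)) (tt N16684 (iv F151460)) (tt N12862 F143142) (tt N16851 (iv F152010)) (tt N12898 F143143) (tt N16925 D32852) (tt N12861 (iv D30856)) (tt N16926 D32853) (tt N16913 (iv F152211)))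
theorem Q14931 : ∀ i, i < 14931 → P i := stepQ 14930 Q14930 (allL N14930 (tt N16006 (iv F148585)) (tt N16924 (iv F152246)) (tt N16685 (iv F151463)) (tt N12863 F143144) (tt N16852 (iv F152012)) (tt N14930 F143145) (tt N16892 (iv F152137)) (tt N16926 (iv F152252)) (tt N12861 (iv D30857)) (tt N16927 D32854))
theorem Q14932 : ∀ i, i < 14932 → P i := stepQ 14931 Q14931 (allL N14931 (tt N16007 (iv F148588)) (tt N16865 (iv F152038)) (tt N12867 F143146) (tt N16925 (iv F152249)) (tt N12864 F143147) (tt N16928 D32855) (tt N12862 (iv D30858)) (tt N16893 (iv F152140)) (tt N16929 D32856) (tt N16914 (iv F152214)))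
theorem Q14933 : ∀ i, i < 14933 → P i := stepQ 14932 Q14932 (allL N14932 (tt N16008 (iv F148591)) (tt N16867 (iv F152045)) (tt N12868 F143148) (tt N16926 (iv F152250)) (tt N12865 F143149) (tt N14932 F143150) (tt N16929 (iv F152259)) (tt N12863 F143151) (tt N12862 (iv D30859)) (tt N16930 D32857))
theorem Q14934 : ∀ i, i < 14934 → P i := stepQ 14933 Q14933 (allL N14933 (tt N16009 (iv F148596)) (tt N16650 (iv F151328)) (tt N12869 F143152) (tt N16927 (iv F152253)) (tt N12866 F143153) (tt N14933 F143154) (tt N16895 (iv F152148)) (tt N16930 (iv F152263)) (tt N16646 F151312) (tt N12863 (iv D30860)))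
theorem Q14935 : ∀ i, i < 14935 → P i := stepQ 14934 Q14934 (allL N14934 (tt N16010 (iv F148600)) (tt N16830 (iv F151954)) (tt N12870 F143155) (tt N16857 (iv F152023)) (tt N16929 (iv F152258)) (tt N16752 (iv F151728)) (tt N12865 F143156) (tt N16896 (iv F152152)) (tt N12864 (iv D30861)) (tt N16931 D32858))
theorem Q14936 : ∀ i, i < 14936 → P i := stepQ 14935 Q14935 (allL N14935 (tt N16011 (iv F148603)) (tt N16868 (iv F152050)) (tt N12871 F143157) (tt N16858 (iv F152026)) (tt N16930 (iv F152261)) (tt N12875 F143158) (tt N16931 (iv F152265)) (tt N12866 F143159) (tt N16916 (iv F152220)) (tt N12865 (iv D30862)))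
theorem Q14937 : ∀ i, i < 14937 → P i := stepQ 14936 Q14936 (allL N14936 (tt N16012 (iv F148607)) (tt N13246 F143160) (tt N16928 (iv F152255)) (tt N16690 (iv F151478)) (tt N16911 (iv F152204)) (tt N12867 (iv D30863)) (tt N12900 F143161) (tt N16898 (iv F152159)) (tt N16932 D32859) (tt N16917 (iv F152223)))
theorem Q14938 : ∀ i, i < 14938 → P i := stepQ 14937 Q14937 (allL N14937 (tt N16013 (iv F148610)) (tt N13247 F143162) (tt N16929 (iv F152257)) (tt N16691 (iv F151481)) (tt N12870 F143163) (tt N16933 D32860) (tt N12868 F143164) (tt N16899 (iv F152163)) (tt N12867 (iv D30864)) (tt N16934 D32861))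
theorem Q14939 : ∀ i, i < 14939 → P i := stepQ 14938 Q14938 (allL N14938 (tt N16014 (iv F148614)) (tt N13248 F143165) (tt N16930 (iv F152260)) (tt N16692 (iv F151485)) (tt N12871 F143166) (tt N14938 F143167) (tt N16934 (iv F152272)) (tt N12869 F143168) (tt N16919 (iv F152233)) (tt N12868 (iv D30865)))
theorem Q14940 : ∀ i, i < 14940 → P i := stepQ 14939 Q14939 (allL N14939 (tt N16015 (iv F148619)) (tt N13215 F143169) (tt N16752 (iv F151727)) (tt N12872 F143170) (tt N15377 (iv F145347)) (tt N12870 (iv D30866)) (tt N12876 F143171) (tt N15274 (iv F144757)) (tt N13199 F143172) (tt N16935 D32862))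
theorem Q14941 : ∀ i, i < 14941 → P i := stepQ 14940 Q14940 (allL N14940 (tt N16016 (iv F148626)) (tt N13249 F143173) (tt N16931 (iv F152264)) (tt N12873 F143174) (tt N16934 (iv F152271)) (tt N16935 (iv F152275)) (tt N12871 F143175) (tt N16901 (iv F152173)) (tt N16921 (iv F152240)) (tt N12870 (iv D30867)))
theorem Q14942 : ∀ i, i < 14942 → P i := stepQ 14941 Q14941 (allL N14941 (tt N16017 (iv F148630)) (tt N13245 F143176) (tt N16865 (iv F152039)) (tt N16663 (iv F151388)) (tt N12872 (iv D30868)) (tt N16695 (iv F151497)) (tt N12878 F143177) (tt N16902 (iv F152176)) (tt N16912 (iv F152208)) (tt N16661 F151383))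
theorem Q14943 : ∀ i, i < 14943 → P i := stepQ 14942 Q14942 (allL N14942 (tt N16018 (iv F148633)) (tt N13239 F143178) (tt N16866 (iv F152042)) (tt N16935 (iv F152274)) (tt N16661 (iv F151381)) (tt N12873 F143179) (tt N12879 F143180) (tt N16903 (iv F152180)) (tt N16660 (iv F151378)) (tt N12872 (iv D30869)))
theorem Q14944 : ∀ i, i < 14944 → P i := stepQ 14943 Q14943 (allL N14943 (tt N16019 (iv F148637)) (tt N13213 F143181) (tt N16867 (iv F152046)) (tt N15374 (iv F145327)) (tt N12874 (iv D30870)) (tt N14943 F143182) (tt N16912 (iv F152207)) (tt N12993 F143183) (tt N12878 F143184) (tt N16653 (iv F151350)))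
theorem Q14945 : ∀ i, i < 14945 → P i := stepQ 14944 Q14944 (allL N14944 (tt N16023 (iv F148659)) (tt N13216 F143185) (tt N16753 (iv F151731)) (tt N12879 F143186) (tt N15378 (iv F145353)) (tt N12877 F143187) (tt N16935 (iv F152276)) (tt N12994 F143188) (tt N16643 (iv F151296)) (tt N12876 (iv D30871)))
theorem Q14946 : ∀ i, i < 14946 → P i := stepQ 14945 Q14945 (allL N14945 (tt N12881 F143189) (tt N16024 (iv F148666)) (tt N13252 F143190) (tt N15685 (iv F147065)) (tt N16936 D32863) (tt N12880 (iv D30872)) (tt N14945 F143191) (tt N16235 (iv F149758)) (tt N16937 D32864) (tt N15277 (iv F144780)))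
theorem Q14947 : ∀ i, i < 14947 → P i := stepQ 14946 Q14946 (allL N14946 (tt N16936 (iv F152277)) (tt N12883 F143192) (tt N13087 F143193) (tt N16489 (iv F150740)) (tt N12881 (iv D30873)) (tt N16895 (iv F152147)) (tt N14946 F143194) (tt N16938 D32865) (tt N13029 (iv F143195)) (tt N15278 (iv F144786)))
theorem Q14948 : ∀ i, i < 14948 → P i := stepQ 14947 Q14947 (allL N14947 (tt N16235 (iv F149754)) (tt N12884 F143196) (tt N13253 F143197) (tt N15688 (iv F147081)) (tt N16938 (iv F152289)) (tt N12882 F143198) (tt N15370 (iv F145304)) (tt N12881 (iv D30874)) (tt N16939 D32866) (tt N15269 (iv F144723)))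
theorem Q14949 : ∀ i, i < 14949 → P i := stepQ 14948 Q14948 (allL N14948 (tt N16937 (iv F152281)) (tt N12885 F143199) (tt N13085 F143200) (tt N15689 (iv F147086)) (tt N13029 F143201) (tt N14948 F143202) (tt N14948 F143203) (tt N16939 (iv F152295)) (tt N12881 (iv D30875)) (tt N14948 F143204))
theorem Q14950 : ∀ i, i < 14950 → P i := stepQ 14949 Q14949 (allL N14949 (tt N16030 (iv F148701)) (tt N16938 (iv F152287)) (tt N12886 F143205) (tt N16492 (iv F150750)) (tt N12884 F143206) (tt N16904 (iv F152183)) (tt N16940 D32867) (tt N12883 (iv D30876)) (tt N13031 F143207) (tt N15280 (iv F144797)))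
theorem Q14951 : ∀ i, i < 14951 → P i := stepQ 14950 Q14950 (allL N14950 (tt N16031 (iv F148706)) (tt N15370 (iv F145301)) (tt N12887 F143208) (tt N15693 (iv F147109)) (tt N16940 (iv F152298)) (tt N15325 (iv F145064)) (tt N12884 (iv D30877)) (tt N14950 F143209) (tt N16941 D32868) (tt N15281 (iv F144805)))
theorem Q14952 : ∀ i, i < 14952 → P i := stepQ 14951 Q14951 (allL N14951 (tt N16032 (iv F148711)) (tt N16939 (iv F152291)) (tt N12888 F143210) (tt N15694 (iv F147114)) (tt N13031 F143211) (tt N14951 F143212) (tt N16941 (iv F152303)) (tt N12885 F143213) (tt N12884 (iv D30878)) (tt N14951 F143214))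
theorem Q14953 : ∀ i, i < 14953 → P i := stepQ 14952 Q14952 (allL N14952 (tt N16033 (iv F148718)) (tt N13093 F143215) (tt N16940 (iv F152297)) (tt N12890 F143216) (tt N12887 F143217) (tt N16942 D32869) (tt N12886 (iv D30879)) (tt N14952 F143218) (tt N13032 F143219) (tt N15282 (iv F144812)))
theorem Q14954 : ∀ i, i < 14954 → P i := stepQ 14953 Q14953 (allL N14953 (tt N16034 (iv F148725)) (tt N13092 F143220) (tt N16941 (iv F152301)) (tt N12889 F143221) (tt N13032 F143222) (tt N16943 D32870) (tt N12888 F143223) (tt N14953 F143224) (tt N12887 (iv D30880)) (tt N14953 F143225))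
theorem Q14955 : ∀ i, i < 14955 → P i := stepQ 14954 Q14954 (allL N14954 (tt N16035 (iv F148732)) (tt N13097 F143226) (tt N15698 (iv F147140)) (tt N16943 (iv F152310)) (tt N14954 F143227) (tt N12889 (iv D30881)) (tt N14954 F143228) (tt N14954 F143229) (tt N16422 F150446) (tt N14954 F143230))
theorem Q14956 : ∀ i, i < 14956 → P i := stepQ 14955 Q14955 (allL N14955 (tt N16038 (iv F148750)) (tt N13095 F143231) (tt N16495 (iv F150762)) (tt N16942 (iv F152307)) (tt N12900 F143232) (tt N12890 (iv D30882)) (tt N16911 (iv F152205)) (tt N14955 F143233) (tt N16944 D32871) (tt N15398 (iv F145472)))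
theorem Q14957 : ∀ i, i < 14957 → P i := stepQ 14956 Q14956 (allL N14956 (tt N16039 (iv F148755)) (tt N16570 (iv F150988)) (tt N16720 (iv F151607)) (tt N12892 F143234) (tt N16036 (iv F148741)) (tt N16913 (iv F152210)) (tt N16945 D32872) (tt N12891 (iv D30883)) (tt N16433 (iv F150492)) (tt N12898 F143235))
theorem Q14958 : ∀ i, i < 14958 → P i := stepQ 14957 Q14957 (allL N14957 (tt N16040 (iv F148761)) (tt N16603 (iv F151099)) (tt N12894 F143236) (tt N16945 (iv F152318)) (tt N12893 F143237) (tt N16946 D32873) (tt N12892 (iv D30884)) (tt N14957 F143238) (tt N16435 (iv F150504)) (tt N12899 F143239))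
theorem Q14959 : ∀ i, i < 14959 → P i := stepQ 14958 Q14958 (allL N14958 (tt N16041 (iv F148768)) (tt N13255 F143240) (tt N16946 (iv F152321)) (tt N16724 (iv F151625)) (tt N15398 (iv F145470)) (tt N12894 (iv D30885)) (tt N16917 (iv F152222)) (tt N14958 F143241) (tt N16947 D32874) (tt N12900 F143242))
theorem Q14960 : ∀ i, i < 14960 → P i := stepQ 14959 Q14959 (allL N14959 (tt N16042 (iv F148773)) (tt N13151 F143243) (tt N16435 (iv F150500)) (tt N16725 (iv F151629)) (tt N12896 F143244) (tt N13158 (iv F143248)) (tt N12895 F143245) (tt N14959 F143246) (tt N12894 (iv D30886)) (tt N14959 F143247))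
theorem Q14961 : ∀ i, i < 14961 → P i := stepQ 14960 Q14960 (allL N14960 (tt N16046 (iv F148797)) (tt N16602 (iv F151095)) (tt N16730 (iv F151650)) (tt N12899 F143249) (tt N16403 (iv F150352)) (tt N16948 D32875) (tt N12898 (iv D30887)) (tt N14960 F143250) (tt N14960 F143251) (tt N16945 (iv F152320)))
theorem Q14962 : ∀ i, i < 14962 → P i := stepQ 14961 Q14961 (allL N14961 (tt N16047 (iv F148801)) (tt N16596 (iv F151078)) (tt N12900 F143252) (tt N16948 (iv F152327)) (tt N16495 (iv F150763)) (tt N12899 (iv D30888)) (tt N16928 (iv F152256)) (tt N14961 F143253) (tt N16949 D32876) (tt N16946 (iv F152323)))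
theorem Q14963 : ∀ i, i < 14963 → P i := stepQ 14962 Q14962 (allL N14962 (tt N16048 (iv F148804)) (tt N13256 F143254) (tt N16949 (iv F152329)) (tt N16732 (iv F151657)) (tt N16944 (iv F152315)) (tt N14962 F143255) (tt N16932 (iv F152267)) (tt N14962 F143256) (tt N12900 (iv D30889)) (tt N16950 D32877))
theorem Q14964 : ∀ i, i < 14964 → P i := stepQ 14963 Q14963 (allL N14963 (tt N15807 (iv F147686)) (tt N12903 F143257) (tt N12914 F143258) (tt N12912 F143259) (tt N15742 (iv F147390)) (tt N15412 (iv F145567)) (tt N12937 F143260) (tt N12902 (iv D30890)) (tt N16754 (iv F151738)) (tt N12909 F143261))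
theorem Q14965 : ∀ i, i < 14965 → P i := stepQ 14964 Q14964 (allL N14964 (tt N16415 (iv F150411)) (tt N12917 F143262) (tt N15422 (iv F145634)) (tt N14964 F143263) (tt N12905 F143264) (tt N15796 (iv F147634)) (tt N16951 D32878) (tt N12904 (iv D30891)) (tt N16952 D32879) (tt N12910 F143265))
theorem Q14966 : ∀ i, i < 14966 → P i := stepQ 14965 Q14965 (allL N14965 (tt N16339 (iv F150126)) (tt N12918 F143266) (tt N15356 (iv F145231)) (tt N14965 F143267) (tt N12906 F143268) (tt N16953 D32880) (tt N14965 F143269) (tt N16952 (iv F152344)) (tt N12904 (iv D30892)) (tt N15350 (iv F145204)))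
theorem Q14967 : ∀ i, i < 14967 → P i := stepQ 14966 Q14966 (allL N14966 (tt N16416 (iv F150416)) (tt N12919 F143270) (tt N15423 (iv F145639)) (tt N12907 F143271) (tt N16951 (iv F152338)) (tt N15313 (iv F144995)) (tt N12905 (iv D30893)) (tt N14966 F143272) (tt N16954 D32881) (tt N12911 F143273))
theorem Q14968 : ∀ i, i < 14968 → P i := stepQ 14967 Q14967 (allL N14967 (tt N16341 (iv F150136)) (tt N12920 F143274) (tt N15358 (iv F145241)) (tt N12908 F143275) (tt N16952 (iv F152343)) (tt N16760 (iv F151756)) (tt N16954 (iv F152349)) (tt N12906 F143276) (tt N12905 (iv D30894)) (tt N15352 (iv F145217)))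
theorem Q14969 : ∀ i, i < 14969 → P i := stepQ 14968 Q14968 (allL N14968 (tt N16391 (iv F150296)) (tt N12922 F143277) (tt N13260 F143278) (tt N16954 (iv F152348)) (tt N14968 F143279) (tt N16955 D32882) (tt N12908 F143280) (tt N14968 F143281) (tt N12907 (iv D30895)) (tt N15389 (iv F145416)))
theorem Q14970 : ∀ i, i < 14970 → P i := stepQ 14969 Q14969 (allL N14969 (tt N16414 (iv F150404)) (tt N12928 F143282) (tt N15421 (iv F145627)) (tt N14969 F143283) (tt N12911 F143284) (tt N16088 F149053) (tt N12910 (iv D30896)) (tt N14969 F143285) (tt N15419 (iv F145617)) (tt N16951 (iv F152340)))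
theorem Q14971 : ∀ i, i < 14971 → P i := stepQ 14970 Q14970 (allL N14970 (tt N15311 (iv F144982)) (tt N12915 F143286) (tt N15412 (iv F145565)) (tt N12938 F143287) (tt N15292 (iv F144874)) (tt N12914 F143288) (tt N16956 D32883) (tt N12913 (iv D30897)) (tt N16711 (iv F151567)) (tt N12924 F143289))
theorem Q14972 : ∀ i, i < 14972 → P i := stepQ 14971 Q14971 (allL N14971 (tt N16075 (iv F148972)) (tt N16956 (iv F152354)) (tt N12919 F143290) (tt N12939 F143291) (tt N16260 (iv F149856)) (tt N15351 (iv F145209)) (tt N12915 (iv D30898)) (tt N14971 F143292) (tt N16957 D32884) (tt N12925 F143293))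
theorem Q14973 : ∀ i, i < 14973 → P i := stepQ 14972 Q14972 (allL N14972 (tt N16076 (iv F148980)) (tt N16711 (iv F151565)) (tt N12920 F143294) (tt N12940 F143295) (tt N16261 (iv F149862)) (tt N16838 (iv F151978)) (tt N16957 (iv F152361)) (tt N12916 F143296) (tt N12915 (iv D30899)) (tt N16958 D32885))
theorem Q14974 : ∀ i, i < 14974 → P i := stepQ 14973 Q14973 (allL N14973 (tt N16077 (iv F148986)) (tt N15310 (iv F144977)) (tt N12921 F143297) (tt N12941 F143298) (tt N16262 (iv F149867)) (tt N16839 (iv F151982)) (tt N14973 F143299) (tt N16958 (iv F152365)) (tt N12927 F143300) (tt N12916 (iv D30900)))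
theorem Q14975 : ∀ i, i < 14975 → P i := stepQ 14974 Q14974 (allL N14974 (tt N16078 (iv F148993)) (tt N16951 (iv F152336)) (tt N16260 (iv F149854)) (tt N14974 F143301) (tt N12919 F143302) (tt N16959 D32886) (tt N12917 (iv D30901)) (tt N14974 F143303) (tt N16960 D32887) (tt N12928 F143304))
theorem Q14976 : ∀ i, i < 14976 → P i := stepQ 14975 Q14975 (allL N14975 (tt N16079 (iv F148999)) (tt N16952 (iv F152341)) (tt N16261 (iv F149860)) (tt N14975 F143305) (tt N12920 F143306) (tt N16961 D32888) (tt N16960 (iv F152372)) (tt N12918 F143307) (tt N12917 (iv D30902)) (tt N16962 D32889))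
theorem Q14977 : ∀ i, i < 14977 → P i := stepQ 14976 Q14976 (allL N14976 (tt N16080 (iv F149004)) (tt N16953 (iv F152345)) (tt N16256 (iv F149841)) (tt N14976 F143308) (tt N16842 (iv F151988)) (tt N12918 (iv D30903)) (tt N16963 D32890) (tt N16961 (iv F152375)) (tt N15906 (iv F148107)) (tt N16964 D32891))
theorem Q14978 : ∀ i, i < 14978 → P i := stepQ 14977 Q14977 (allL N14977 (tt N16081 (iv F149008)) (tt N15350 (iv F145199)) (tt N16262 (iv F149865)) (tt N14977 F143309) (tt N12921 F143310) (tt N16964 (iv F152383)) (tt N14977 F143311) (tt N16962 (iv F152378)) (tt N12930 F143312) (tt N12918 (iv D30904)))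
theorem Q14979 : ∀ i, i < 14979 → P i := stepQ 14978 Q14978 (allL N14978 (tt N16082 (iv F149014)) (tt N16954 (iv F152347)) (tt N16957 (iv F152359)) (tt N12922 F143313) (tt N16960 (iv F152371)) (tt N16965 D32892) (tt N12920 F143314) (tt N14978 F143315) (tt N12919 (iv D30905)) (tt N16966 D32893))
theorem Q14980 : ∀ i, i < 14980 → P i := stepQ 14979 Q14979 (allL N14979 (tt N16083 (iv F149018)) (tt N15352 (iv F145213)) (tt N16958 (iv F152363)) (tt N12923 F143316) (tt N16962 (iv F152377)) (tt N16845 (iv F151994)) (tt N16966 (iv F152387)) (tt N12921 F143317) (tt N12932 F143318) (tt N12920 (iv D30906)))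
theorem Q14981 : ∀ i, i < 14981 → P i := stepQ 14980 Q14980 (allL N14980 (tt N16084 (iv F149022)) (tt N16955 (iv F152351)) (tt N12947 F143319) (tt N16965 (iv F152384)) (tt N16967 D32894) (tt N12922 (iv D30907)) (tt N16846 (iv F151998)) (tt N14980 F143320) (tt N15359 (iv F145248)) (tt N16968 D32895))
theorem Q14982 : ∀ i, i < 14982 → P i := stepQ 14981 Q14981 (allL N14981 (tt N16085 (iv F149026)) (tt N15389 (iv F145411)) (tt N12948 F143321) (tt N16966 (iv F152386)) (tt N14981 F143322) (tt N16968 (iv F152394)) (tt N12923 F143323) (tt N14981 F143324) (tt N12934 F143325) (tt N12922 (iv D30908)))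
theorem Q14983 : ∀ i, i < 14983 → P i := stepQ 14982 Q14982 (allL N14982 (tt N15410 (iv F145550)) (tt N12925 F143326) (tt N15411 (iv F145558)) (tt N12933 F143327) (tt N15401 (iv F145493)) (tt N12931 F143328) (tt N12924 (iv D30909)) (tt N14982 F143329) (tt N15409 (iv F145549)) (tt N16956 (iv F152358)))
theorem Q14984 : ∀ i, i < 14984 → P i := stepQ 14983 Q14983 (allL N14983 (tt N16086 (iv F149032)) (tt N15409 (iv F145544)) (tt N12931 F143330) (tt N12950 F143331) (tt N16406 (iv F150363)) (tt N15411 (iv F145561)) (tt N12926 F143332) (tt N14983 F143333) (tt N12925 (iv D30910)) (tt N16969 D32896))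
theorem Q14985 : ∀ i, i < 14985 → P i := stepQ 14984 Q14984 (allL N14984 (tt N16087 (iv F149039)) (tt N15309 (iv F144972)) (tt N12932 F143334) (tt N12951 F143335) (tt N16407 (iv F150370)) (tt N12937 F143336) (tt N16969 (iv F152398)) (tt N12927 F143337) (tt N16958 (iv F152366)) (tt N12926 (iv D30911)))
theorem Q14986 : ∀ i, i < 14986 → P i := stepQ 14985 Q14985 (allL N14985 (tt N16072 (iv F148954)) (tt N16088 (iv F149047)) (tt N16058 (iv F148870)) (tt N14985 F143338) (tt N15420 (iv F145621)) (tt N12928 (iv D30912)) (tt N16056 F148860) (tt N14985 F143339) (tt N16073 (iv F148967)) (tt N16959 (iv F152369)))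
theorem Q14987 : ∀ i, i < 14987 → P i := stepQ 14986 Q14986 (allL N14986 (tt N16088 (iv F149046)) (tt N15419 (iv F145612)) (tt N16406 (iv F150361)) (tt N14986 F143340) (tt N12931 F143341) (tt N16414 (iv F150408)) (tt N12929 F143342) (tt N14986 F143343) (tt N12928 (iv D30913)) (tt N16970 D32897))
theorem Q14988 : ∀ i, i < 14988 → P i := stepQ 14987 Q14987 (allL N14987 (tt N16089 (iv F149054)) (tt N15349 (iv F145192)) (tt N16407 (iv F150368)) (tt N14987 F143344) (tt N12932 F143345) (tt N15913 (iv F148142)) (tt N16970 (iv F152402)) (tt N12930 F143346) (tt N16962 (iv F152379)) (tt N12929 (iv D30914)))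
theorem Q14989 : ∀ i, i < 14989 → P i := stepQ 14988 Q14988 (allL N14988 (tt N16090 (iv F149059)) (tt N15351 (iv F145206)) (tt N16969 (iv F152396)) (tt N12934 F143347) (tt N16970 (iv F152401)) (tt N16956 (iv F152356)) (tt N12932 F143348) (tt N14988 F143349) (tt N16966 (iv F152389)) (tt N12931 (iv D30915)))
theorem Q14990 : ∀ i, i < 14990 → P i := stepQ 14989 Q14989 (allL N14989 (tt N15319 (iv F145025)) (tt N12939 F143350) (tt N12957 F143351) (tt N16956 (iv F152355)) (tt N15297 (iv F144904)) (tt N12934 F143352) (tt N12938 F143353) (tt N14989 F143354) (tt N16712 (iv F151572)) (tt N12933 (iv D30916)))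
theorem Q14991 : ∀ i, i < 14991 → P i := stepQ 14990 Q14990 (allL N14990 (tt N15415 (iv F145584)) (tt N12951 F143355) (tt N12959 F143356) (tt N15309 (iv F144974)) (tt N15406 (iv F145528)) (tt N12936 F143357) (tt N15424 (iv F145647)) (tt N12949 F143358) (tt N16709 (iv F151559)) (tt N12935 (iv D30917)))
theorem Q14992 : ∀ i, i < 14992 → P i := stepQ 14991 Q14991 (allL N14991 (tt N16092 (iv F149067)) (tt N16712 (iv F151568)) (tt N12945 F143359) (tt N16957 (iv F152360)) (tt N16265 (iv F149884)) (tt N16971 D32898) (tt N12940 F143360) (tt N14991 F143361) (tt N12939 (iv D30918)) (tt N16972 D32899))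
theorem Q14993 : ∀ i, i < 14993 → P i := stepQ 14992 Q14992 (allL N14992 (tt N16093 (iv F149073)) (tt N16709 (iv F151556)) (tt N12946 F143362) (tt N16958 (iv F152364)) (tt N16266 (iv F149892)) (tt N16916 (iv F152218)) (tt N16972 (iv F152407)) (tt N12941 F143363) (tt N12951 F143364) (tt N12940 (iv D30919)))
theorem Q14994 : ∀ i, i < 14994 → P i := stepQ 14993 Q14993 (allL N14993 (tt N16094 (iv F149079)) (tt N13179 F143365) (tt N16265 (iv F149882)) (tt N14993 F143366) (tt N12945 F143367) (tt N13193 (iv F143370)) (tt N12943 F143368) (tt N14993 F143369) (tt N12942 (iv D30920)) (tt N16973 D32900))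
theorem Q14995 : ∀ i, i < 14995 → P i := stepQ 14994 Q14994 (allL N14994 (tt N16095 (iv F149087)) (tt N13173 F143371) (tt N16266 (iv F149890)) (tt N14994 F143372) (tt N12946 F143373) (tt N13172 F143374) (tt N16973 (iv F152414)) (tt N12944 F143375) (tt N12953 F143376) (tt N12943 (iv D30921)))
theorem Q14996 : ∀ i, i < 14996 → P i := stepQ 14995 Q14995 (allL N14995 (tt N16096 (iv F149095)) (tt N13269 F143377) (tt N16971 (iv F152404)) (tt N12947 F143378) (tt N16974 D32901) (tt N12945 (iv D30922)) (tt N16920 (iv F152236)) (tt N14995 F143379) (tt N15390 (iv F145421)) (tt N16975 D32902))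
theorem Q14997 : ∀ i, i < 14997 → P i := stepQ 14996 Q14996 (allL N14996 (tt N16097 (iv F149100)) (tt N13270 F143380) (tt N16972 (iv F152406)) (tt N12948 F143381) (tt N16973 (iv F152412)) (tt N16975 (iv F152422)) (tt N12946 F143382) (tt N14996 F143383) (tt N12955 F143384) (tt N12945 (iv D30923)))
theorem Q14998 : ∀ i, i < 14998 → P i := stepQ 14997 Q14997 (allL N14997 (tt N16098 (iv F149106)) (tt N13271 F143385) (tt N16967 (iv F152390)) (tt N16950 (iv F152333)) (tt N12947 (iv D30924)) (tt N14997 F143386) (tt N16922 (iv F152242)) (tt N14997 F143387) (tt N15391 (iv F145427)) (tt N16732 F151661))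
theorem Q14999 : ∀ i, i < 14999 → P i := stepQ 14998 Q14998 (allL N14998 (tt N16099 (iv F149111)) (tt N13272 F143388) (tt N16968 (iv F152393)) (tt N16975 (iv F152421)) (tt N16732 (iv F151658)) (tt N12948 F143389) (tt N16923 (iv F152245)) (tt N14998 F143390) (tt N16713 (iv F151576)) (tt N12947 (iv D30925)))
theorem Q15000 : ∀ i, i < 15000 → P i := stepQ 14999 Q14999 (allL N14999 (tt N16100 (iv F149115)) (tt N15424 (iv F145644)) (tt N12955 F143391) (tt N16969 (iv F152397)) (tt N16409 (iv F150381)) (tt N15413 (iv F145572)) (tt N12951 F143392) (tt N14999 F143393) (tt N16972 (iv F152409)) (tt N12950 (iv D30926)))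
theorem Q15001 : ∀ i, i < 15001 → P i := stepQ 15000 Q15000 (allL N15000 (tt N16101 (iv F149121)) (tt N13273 F143394) (tt N15417 (iv F145600)) (tt N15000 F143395) (tt N15245 (iv F144551)) (tt N12952 (iv D30927)) (tt N15000 F143396) (tt N15000 F143397) (tt N15000 F143398) (tt N16976 D32903))
theorem Q15002 : ∀ i, i < 15002 → P i := stepQ 15001 Q15001 (allL N15001 (tt N16102 (iv F149128)) (tt N13274 F143399) (tt N16409 (iv F150379)) (tt N15001 F143400) (tt N12955 F143401) (tt N16976 (iv F152426)) (tt N12953 F143402) (tt N15001 F143403) (tt N16973 (iv F152416)) (tt N12952 (iv D30928)))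
theorem Q15003 : ∀ i, i < 15003 → P i := stepQ 15002 Q15002 (allL N15002 (tt N16103 (iv F149135)) (tt N13264 F143404) (tt N15413 (iv F145570)) (tt N12957 F143405) (tt N15246 (iv F144558)) (tt N12955 F143406) (tt N12960 F143407) (tt N15002 F143408) (tt N16708 (iv F151554)) (tt N12954 (iv D30929)))
theorem Q15004 : ∀ i, i < 15004 → P i := stepQ 15003 Q15003 (allL N15003 (tt N16163 (iv F149469)) (tt N12965 F143409) (tt N15260 (iv F144660)) (tt N15003 F143410) (tt N12973 F143411) (tt N15559 (iv F146409)) (tt N12976 F143412) (tt N12963 (iv D30930)) (tt N16777 (iv F151811)) (tt N15003 F143413))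
theorem Q15005 : ∀ i, i < 15005 → P i := stepQ 15004 Q15004 (allL N15004 (tt N16149 (iv F149402)) (tt N15559 (iv F146405)) (tt N12967 F143414) (tt N15004 F143415) (tt N15557 (iv F146396)) (tt N12965 F143416) (tt N16977 D32904) (tt N12964 (iv D30931)) (tt N16978 D32905) (tt N15004 F143417))
theorem Q15006 : ∀ i, i < 15006 → P i := stepQ 15005 Q15005 (allL N15005 (tt N16150 (iv F149407)) (tt N15560 (iv F146412)) (tt N12968 F143418) (tt N15005 F143419) (tt N15558 (iv F146402)) (tt N16780 (iv F151819)) (tt N15005 F143420) (tt N16978 (iv F152435)) (tt N12964 (iv D30932)) (tt N16979 D32906))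
theorem Q15007 : ∀ i, i < 15007 → P i := stepQ 15006 Q15006 (allL N15006 (tt N16151 (iv F149411)) (tt N15463 (iv F145885)) (tt N15557 (iv F146394)) (tt N15006 F143421) (tt N12967 F143422) (tt N12976 F143423) (tt N16980 D32907) (tt N12966 (iv D30933)) (tt N16981 D32908) (tt N15006 F143424))
theorem Q15008 : ∀ i, i < 15008 → P i := stepQ 15007 Q15007 (allL N15007 (tt N16152 (iv F149416)) (tt N15464 (iv F145892)) (tt N15558 (iv F146400)) (tt N15007 F143425) (tt N12968 F143426) (tt N16982 D32909) (tt N15007 F143427) (tt N16981 (iv F152446)) (tt N12966 (iv D30934)) (tt N16983 D32910))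
theorem Q15009 : ∀ i, i < 15009 → P i := stepQ 15008 Q15008 (allL N15008 (tt N16153 (iv F149420)) (tt N15550 (iv F146352)) (tt N16977 (iv F152429)) (tt N12969 F143428) (tt N16980 (iv F152441)) (tt N15467 (iv F145913)) (tt N12967 (iv D30935)) (tt N15008 F143429) (tt N16984 D32911) (tt N15008 F143430))
theorem Q15010 : ∀ i, i < 15010 → P i := stepQ 15009 Q15009 (allL N15009 (tt N16154 (iv F149424)) (tt N15551 (iv F146358)) (tt N16978 (iv F152433)) (tt N12970 F143431) (tt N16981 (iv F152445)) (tt N16784 (iv F151825)) (tt N16984 (iv F152454)) (tt N12968 F143432) (tt N12967 (iv D30936)) (tt N16985 D32912))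
theorem Q15011 : ∀ i, i < 15011 → P i := stepQ 15010 Q15010 (allL N15010 (tt N16155 (iv F149427)) (tt N15552 (iv F146362)) (tt N16979 (iv F152436)) (tt N12971 F143433) (tt N16983 (iv F152450)) (tt N16785 (iv F151828)) (tt N15010 F143434) (tt N16985 (iv F152457)) (tt N15010 F143435) (tt N12968 (iv D30937)))
theorem Q15012 : ∀ i, i < 15012 → P i := stepQ 15011 Q15011 (allL N15011 (tt N16156 (iv F149431)) (tt N15553 (iv F146368)) (tt N15011 F143436) (tt N16984 (iv F152453)) (tt N15011 F143437) (tt N16986 D32913) (tt N12970 F143438) (tt N15011 F143439) (tt N12969 (iv D30938)) (tt N16987 D32914))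
theorem Q15013 : ∀ i, i < 15013 → P i := stepQ 15012 Q15012 (allL N15012 (tt N16157 (iv F149436)) (tt N15554 (iv F146374)) (tt N15012 F143440) (tt N16985 (iv F152456)) (tt N15012 F143441) (tt N16787 (iv F151832)) (tt N16987 (iv F152463)) (tt N12971 F143442) (tt N15012 F143443) (tt N12970 (iv D30939)))
theorem Q15014 : ∀ i, i < 15014 → P i := stepQ 15013 Q15013 (allL N15013 (tt N16161 (iv F149459)) (tt N15253 (iv F144614)) (tt N12978 F143444) (tt N12986 F143445) (tt N15539 (iv F146315)) (tt N16809 (iv F151899)) (tt N15262 (iv F144676)) (tt N12975 F143446) (tt N12974 (iv D30940)) (tt N16819 (iv F151930)))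
theorem Q15015 : ∀ i, i < 15015 → P i := stepQ 15014 Q15014 (allL N15014 (tt N16164 (iv F149476)) (tt N15456 (iv F145855)) (tt N15539 (iv F146313)) (tt N15014 F143447) (tt N12978 F143448) (tt N16988 D32915) (tt N16777 (iv F151810)) (tt N12977 F143449) (tt N12976 (iv D30941)) (tt N16989 D32916))
theorem Q15016 : ∀ i, i < 15016 → P i := stepQ 15015 Q15015 (allL N15015 (tt N16165 (iv F149480)) (tt N15455 (iv F145852)) (tt N15538 (iv F146310)) (tt N15015 F143450) (tt N16813 (iv F151910)) (tt N12977 (iv D30942)) (tt N16990 D32917) (tt N16988 (iv F152467)) (tt N16982 (iv F152448)) (tt N16991 D32918))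
theorem Q15017 : ∀ i, i < 15017 → P i := stepQ 15016 Q15016 (allL N15016 (tt N16166 (iv F149482)) (tt N15326 (iv F145069)) (tt N15528 (iv F146263)) (tt N15016 F143451) (tt N12979 F143452) (tt N16991 (iv F152475)) (tt N12982 F143453) (tt N16989 (iv F152470)) (tt N15016 F143454) (tt N12977 (iv D30943)))
theorem Q15018 : ∀ i, i < 15018 → P i := stepQ 15017 Q15017 (allL N15017 (tt N16168 (iv F149492)) (tt N15332 (iv F145106)) (tt N16819 (iv F151927)) (tt N12980 F143455) (tt N16989 (iv F152469)) (tt N16816 (iv F151917)) (tt N16792 (iv F151847)) (tt N12979 F143456) (tt N15017 F143457) (tt N12978 (iv D30944)))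
theorem Q15019 : ∀ i, i < 15019 → P i := stepQ 15018 Q15018 (allL N15018 (tt N16171 (iv F149505)) (tt N15450 (iv F145822)) (tt N15497 (iv F146101)) (tt N15018 F143458) (tt N12984 F143459) (tt N16990 (iv F152473)) (tt N12981 (iv D30945)) (tt N16992 D32919) (tt N15018 F143460) (tt N15819 (iv F147758)))
theorem Q15020 : ∀ i, i < 15020 → P i := stepQ 15019 Q15019 (allL N15019 (tt N16177 (iv F149534)) (tt N15479 (iv F145989)) (tt N12984 F143461) (tt N15019 F143462) (tt N15497 (iv F146103)) (tt N16870 (iv F152059)) (tt N12983 (iv D30946)) (tt N16993 D32920) (tt N15019 F143463) (tt N15752 (iv F147456)))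
theorem Q15021 : ∀ i, i < 15021 → P i := stepQ 15020 Q15020 (allL N15020 (tt N16179 (iv F149543)) (tt N15837 (iv F147829)) (tt N16993 (iv F152479)) (tt N12985 F143464) (tt N16992 (iv F152477)) (tt N16872 (iv F152062)) (tt N16306 (iv F150037)) (tt N12984 (iv D30947)) (tt N15020 F143465) (tt N15846 (iv F147872)))
theorem Q15022 : ∀ i, i < 15022 → P i := stepQ 15021 Q15021 (allL N15021 (tt N16184 (iv F149561)) (tt N13230 F143466) (tt N16890 (iv F152131)) (tt N15385 (iv F145391)) (tt N12989 (iv D30948)) (tt N15021 F143467) (tt N16902 (iv F152175)) (tt N12991 F143468) (tt N15272 (iv F144742)) (tt N16612 (iv F151153)))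
theorem Q15023 : ∀ i, i < 15023 → P i := stepQ 15022 Q15022 (allL N15022 (tt N16185 (iv F149567)) (tt N13224 F143469) (tt N16877 (iv F152078)) (tt N15275 (iv F144760)) (tt N16612 (iv F151150)) (tt N12990 F143470) (tt N16903 (iv F152179)) (tt N12992 F143471) (tt N16610 (iv F151141)) (tt N12989 (iv D30949)))
theorem Q15024 : ∀ i, i < 15024 → P i := stepQ 15023 Q15023 (allL N15023 (tt N12995 (iv D30950)) (tt N13012 F143472) (tt N15023 F143473) (tt N16139 (iv F149344)) (tt N15023 F143474) (tt N15619 (iv F146728)) (tt N16994 D32921) (tt N15588 (iv F146558)) (tt N13006 F143475) (tt N15579 (iv F146507)))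
theorem Q15025 : ∀ i, i < 15025 → P i := stepQ 15024 Q15024 (allL N15024 (tt N16994 (iv F152482)) (tt N12996 F143476) (tt N15024 F143477) (tt N16423 (iv F150448)) (tt N15024 F143478) (tt N16995 D32922) (tt N12995 (iv D30951)) (tt N16996 D32923) (tt N13007 F143479) (tt N15580 (iv F146512)))
theorem Q15026 : ∀ i, i < 15026 → P i := stepQ 15025 Q15025 (allL N15025 (tt N13014 F143480) (tt N16995 (iv F152487)) (tt N12997 F143481) (tt N16424 (iv F150452)) (tt N15974 (iv F148435)) (tt N12996 (iv D30952)) (tt N15620 (iv F146735)) (tt N16997 D32924) (tt N15972 F148428) (tt N15581 (iv F146516)))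
theorem Q15027 : ∀ i, i < 15027 → P i := stepQ 15026 Q15026 (allL N15026 (tt N13015 F143482) (tt N16996 (iv F152489)) (tt N12998 F143483) (tt N16425 (iv F150455)) (tt N15026 F143484) (tt N16997 (iv F152495)) (tt N15591 (iv F146573)) (tt N12996 (iv D30953)) (tt N13009 F143485) (tt N15582 (iv F146522)))
theorem Q15028 : ∀ i, i < 15028 → P i := stepQ 15027 Q15027 (allL N15027 (tt N13016 F143486) (tt N15027 F143487) (tt N16997 (iv F152494)) (tt N12999 F143488) (tt N15977 (iv F148451)) (tt N12998 F143489) (tt N16998 D32925) (tt N12997 (iv D30954)) (tt N15975 (iv F148442)) (tt N15584 (iv F146534)))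
theorem Q15029 : ∀ i, i < 15029 → P i := stepQ 15028 Q15028 (allL N15028 (tt N13017 F143490) (tt N15028 F143491) (tt N16428 (iv F150463)) (tt N16998 (iv F152498)) (tt N13197 F143492) (tt N15595 (iv F146598)) (tt N12999 (iv D30955)) (tt N15625 (iv F146766)) (tt N15983 (iv F148482)) (tt N15586 (iv F146547)))
theorem Q15030 : ∀ i, i < 15030 → P i := stepQ 15029 Q15029 (allL N15029 (tt N13000 (iv D30956)) (tt N13018 F143493) (tt N15029 F143494) (tt N16112 (iv F149198)) (tt N15029 F143495) (tt N15029 F143496) (tt N16999 D32926) (tt N13006 F143497) (tt N15588 (iv F146559)) (tt N15029 F143498))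
theorem Q15031 : ∀ i, i < 15031 → P i := stepQ 15030 Q15030 (allL N15030 (tt N16999 (iv F152499)) (tt N13001 F143499) (tt N15030 F143500) (tt N16113 (iv F149205)) (tt N15030 F143501) (tt N17000 D32927) (tt N13000 (iv D30957)) (tt N17001 D32928) (tt N15589 (iv F146564)) (tt N15030 F143502))
theorem Q15032 : ∀ i, i < 15032 → P i := stepQ 15031 Q15031 (allL N15031 (tt N13020 F143503) (tt N17000 (iv F152504)) (tt N13002 F143504) (tt N16114 (iv F149210)) (tt N16716 (iv F151588)) (tt N13001 (iv D30958)) (tt N15031 F143505) (tt N17002 D32929) (tt N16714 F151581) (tt N15031 F143506))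
theorem Q15033 : ∀ i, i < 15033 → P i := stepQ 15032 Q15032 (allL N15032 (tt N13021 F143507) (tt N17001 (iv F152508)) (tt N13003 F143508) (tt N16115 (iv F149215)) (tt N15032 F143509) (tt N17002 (iv F152515)) (tt N13009 F143510) (tt N13001 (iv D30959)) (tt N15591 (iv F146574)) (tt N15032 F143511))
theorem Q15034 : ∀ i, i < 15034 → P i := stepQ 15033 Q15033 (allL N15033 (tt N13022 F143512) (tt N15033 F143513) (tt N16716 (iv F151587)) (tt N15033 F143514) (tt N13002 (iv D30960)) (tt N15033 F143515) (tt N15033 F143516) (tt N17003 D32930) (tt N13183 (iv F143518)) (tt N15033 F143517))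
theorem Q15035 : ∀ i, i < 15035 → P i := stepQ 15034 Q15034 (allL N15034 (tt N13023 F143519) (tt N15034 F143520) (tt N17002 (iv F152514)) (tt N13004 F143521) (tt N17003 (iv F152520)) (tt N13003 F143522) (tt N17004 D32931) (tt N13002 (iv D30961)) (tt N17005 D32932) (tt N15034 F143523))
theorem Q15036 : ∀ i, i < 15036 → P i := stepQ 15035 Q15035 (allL N15035 (tt N13024 F143524) (tt N15035 F143525) (tt N16714 (iv F151578)) (tt N13005 F143526) (tt N13183 F143527) (tt N15594 (iv F146592)) (tt N15035 F143528) (tt N17005 (iv F152534)) (tt N13002 (iv D30962)) (tt N13190 (iv F143529)))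
theorem Q15037 : ∀ i, i < 15037 → P i := stepQ 15036 Q15036 (allL N15036 (tt N13025 F143530) (tt N15036 F143531) (tt N16119 (iv F149236)) (tt N17004 (iv F152526)) (tt N15036 F143532) (tt N13011 F143533) (tt N13004 (iv D30963)) (tt N15036 F143534) (tt N17006 D32933) (tt N15036 F143535))
theorem Q15038 : ∀ i, i < 15038 → P i := stepQ 15037 Q15037 (allL N15037 (tt N13026 F143536) (tt N15037 F143537) (tt N16120 (iv F149243)) (tt N17005 (iv F152532)) (tt N15037 F143538) (tt N15596 (iv F146604)) (tt N17006 (iv F152539)) (tt N13005 F143539) (tt N13004 (iv D30964)) (tt N17007 D32934))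
theorem Q15039 : ∀ i, i < 15039 → P i := stepQ 15038 Q15038 (allL N15038 (tt N13027 F143540) (tt N15038 F143541) (tt N16121 (iv F149248)) (tt N13190 F143542) (tt N15038 F143543) (tt N15597 (iv F146610)) (tt N15038 F143544) (tt N17007 (iv F152545)) (tt N15038 F143545) (tt N13005 (iv D30965)))
theorem Q15040 : ∀ i, i < 15040 → P i := stepQ 15039 Q15039 (allL N15039 (tt N13007 F143546) (tt N13028 F143547) (tt N15039 F143548) (tt N16129 F149298) (tt N15039 F143549) (tt N17008 D32935) (tt N13006 (iv D30966)) (tt N17009 D32936) (tt N16994 (iv F152486)) (tt N15039 F143550))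
theorem Q15041 : ∀ i, i < 15041 → P i := stepQ 15040 Q15040 (allL N15040 (tt N17008 (iv F152547)) (tt N13008 F143551) (tt N15040 F143552) (tt N16429 (iv F150467)) (tt N16028 (iv F148691)) (tt N13007 (iv D30967)) (tt N15040 F143553) (tt N17010 D32937) (tt N16026 F148682) (tt N15040 F143554))
theorem Q15042 : ∀ i, i < 15042 → P i := stepQ 15041 Q15041 (allL N15041 (tt N17009 (iv F152552)) (tt N13009 F143555) (tt N15041 F143556) (tt N16430 (iv F150472)) (tt N15041 F143557) (tt N17010 (iv F152559)) (tt N17001 (iv F152511)) (tt N13007 (iv D30968)) (tt N16996 (iv F152492)) (tt N15041 F143558))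
theorem Q15043 : ∀ i, i < 15043 → P i := stepQ 15042 Q15042 (allL N15042 (tt N13031 F143559) (tt N17010 (iv F152557)) (tt N13010 F143560) (tt N16432 (iv F150484)) (tt N16032 (iv F148714)) (tt N13009 F143561) (tt N17011 D32938) (tt N13008 (iv D30969)) (tt N16030 (iv F148704)) (tt N15042 F143562))
theorem Q15044 : ∀ i, i < 15044 → P i := stepQ 15043 Q15043 (allL N15043 (tt N13032 F143563) (tt N15043 F143564) (tt N17011 (iv F152562)) (tt N13011 F143565) (tt N16034 (iv F148728)) (tt N17004 (iv F152527)) (tt N13010 (iv D30970)) (tt N15043 F143566) (tt N16033 (iv F148723)) (tt N15043 F143567))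
theorem Q15045 : ∀ i, i < 15045 → P i := stepQ 15044 Q15044 (allL N15044 (tt N13013 F143568) (tt N16994 (iv F152483)) (tt N13063 F143569) (tt N16464 (iv F150643)) (tt N15044 F143570) (tt N17012 D32939) (tt N13012 (iv D30971)) (tt N17013 D32940) (tt N13028 F143571) (tt N16604 (iv F151109)))
theorem Q15046 : ∀ i, i < 15046 → P i := stepQ 15045 Q15045 (allL N15045 (tt N17012 (iv F152565)) (tt N13014 F143572) (tt N13064 F143573) (tt N16465 (iv F150647)) (tt N16882 (iv F152096)) (tt N13013 (iv D30972)) (tt N16646 (iv F151310)) (tt N17014 D32941) (tt N16895 (iv F152149)) (tt N16605 (iv F151113)))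
theorem Q15047 : ∀ i, i < 15047 → P i := stepQ 15046 Q15046 (allL N15046 (tt N17013 (iv F152567)) (tt N13015 F143574) (tt N13065 F143575) (tt N16466 (iv F150650)) (tt N15046 F143576) (tt N17014 (iv F152573)) (tt N16616 (iv F151172)) (tt N13013 (iv D30973)) (tt N13030 F143577) (tt N16606 (iv F151121)))
theorem Q15048 : ∀ i, i < 15048 → P i := stepQ 15047 Q15047 (allL N15047 (tt N16997 (iv F152493)) (tt N17014 (iv F152571)) (tt N13016 F143578) (tt N16468 (iv F150654)) (tt N16906 (iv F152187)) (tt N13015 F143579) (tt N17015 D32942) (tt N13014 (iv D30974)) (tt N16904 (iv F152184)) (tt N16608 (iv F151130)))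
theorem Q15049 : ∀ i, i < 15049 → P i := stepQ 15048 Q15048 (allL N15048 (tt N16998 (iv F152496)) (tt N13070 F143580) (tt N17015 (iv F152574)) (tt N13017 F143581) (tt N16908 (iv F152196)) (tt N16621 (iv F151198)) (tt N13016 (iv D30975)) (tt N16652 (iv F151343)) (tt N16907 (iv F152193)) (tt N16611 (iv F151147)))
theorem Q15050 : ∀ i, i < 15050 → P i := stepQ 15049 Q15049 (allL N15049 (tt N13019 F143582) (tt N16999 (iv F152500)) (tt N13075 F143583) (tt N16197 F149619) (tt N15049 F143584) (tt N15692 F147106) (tt N13018 (iv D30976)) (tt N17016 D32943) (tt N16614 (iv F151161)) (tt N15049 F143585))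
theorem Q15051 : ∀ i, i < 15051 → P i := stepQ 15050 Q15050 (allL N15050 (tt N17016 (iv F152575)) (tt N13021 F143586) (tt N13076 F143587) (tt N16475 (iv F150677)) (tt N15050 F143588) (tt N16722 F151619) (tt N13030 F143589) (tt N13019 (iv D30977)) (tt N16616 (iv F151173)) (tt N15050 F143590))
theorem Q15052 : ∀ i, i < 15052 → P i := stepQ 15051 Q15051 (allL N15051 (tt N17002 (iv F152513)) (tt N16722 (iv F151614)) (tt N13023 F143591) (tt N16476 (iv F150681)) (tt N16719 (iv F151603)) (tt N13021 F143592) (tt N17017 D32944) (tt N13020 (iv D30978)) (tt N16717 (iv F151595)) (tt N15051 F143593))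
theorem Q15053 : ∀ i, i < 15053 → P i := stepQ 15052 Q15052 (allL N15052 (tt N17003 (iv F152517)) (tt N13078 F143594) (tt N16719 (iv F151602)) (tt N15052 F143595) (tt N13023 F143596) (tt N15052 F143597) (tt N17018 D32945) (tt N13022 (iv D30979)) (tt N13185 F143598) (tt N15052 F143599))
theorem Q15054 : ∀ i, i < 15054 → P i := stepQ 15053 Q15053 (allL N15053 (tt N17004 (iv F152524)) (tt N13079 F143600) (tt N17017 (iv F152580)) (tt N13025 F143601) (tt N17018 (iv F152586)) (tt N13032 F143602) (tt N13023 (iv D30980)) (tt N15053 F143603) (tt N17019 D32946) (tt N15053 F143604))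
theorem Q15055 : ∀ i, i < 15055 → P i := stepQ 15054 Q15054 (allL N15054 (tt N17005 (iv F152530)) (tt N13080 F143605) (tt N16717 (iv F151593)) (tt N13026 F143606) (tt N13185 F143607) (tt N16622 (iv F151204)) (tt N17019 (iv F152593)) (tt N13024 F143608) (tt N13023 (iv D30981)) (tt N13192 (iv F143609)))
theorem Q15056 : ∀ i, i < 15056 → P i := stepQ 15055 Q15055 (allL N15055 (tt N17006 (iv F152536)) (tt N13081 F143610) (tt N16483 (iv F150711)) (tt N17019 (iv F152591)) (tt N15055 F143611) (tt N16944 (iv F152316)) (tt N13026 F143612) (tt N15055 F143613) (tt N13025 (iv D30982)) (tt N17020 D32947))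
theorem Q15057 : ∀ i, i < 15057 → P i := stepQ 15056 Q15056 (allL N15056 (tt N17007 (iv F152541)) (tt N13082 F143614) (tt N16484 (iv F150716)) (tt N13192 F143615) (tt N15056 F143616) (tt N16624 (iv F151214)) (tt N17020 (iv F152599)) (tt N13027 F143617) (tt N15056 F143618) (tt N13026 (iv D30983)))
theorem Q15058 : ∀ i, i < 15058 → P i := stepQ 15057 Q15057 (allL N15057 (tt N13029 F143619) (tt N17008 (iv F152548)) (tt N13083 F143620) (tt N16485 (iv F150722)) (tt N16937 (iv F152283)) (tt N13028 (iv D30984)) (tt N15057 F143621) (tt N17021 D32948) (tt N16936 F152280) (tt N15057 F143622))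
theorem Q15059 : ∀ i, i < 15059 → P i := stepQ 15058 Q15058 (allL N15058 (tt N13030 F143623) (tt N17009 (iv F152553)) (tt N13084 F143624) (tt N16486 (iv F150727)) (tt N15058 F143625) (tt N17021 (iv F152604)) (tt N17016 (iv F152578)) (tt N13028 (iv D30985)) (tt N17013 (iv F152570)) (tt N15058 F143626))
theorem Q15060 : ∀ i, i < 15060 → P i := stepQ 15059 Q15059 (allL N15059 (tt N17021 (iv F152602)) (tt N13031 F143627) (tt N13086 F143628) (tt N16488 (iv F150735)) (tt N16939 (iv F152293)) (tt N13030 F143629) (tt N17022 D32949) (tt N13029 (iv D30986)) (tt N16938 (iv F152290)) (tt N15059 F143630))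
theorem Q15061 : ∀ i, i < 15061 → P i := stepQ 15060 Q15060 (allL N15060 (tt N17011 (iv F152561)) (tt N17022 (iv F152606)) (tt N13032 F143631) (tt N16491 (iv F150746)) (tt N16941 (iv F152302)) (tt N17017 (iv F152581)) (tt N13031 (iv D30987)) (tt N15060 F143632) (tt N16940 (iv F152300)) (tt N15060 F143633))
theorem Q15062 : ∀ i, i < 15062 → P i := stepQ 15061 Q15061 (allL N15061 (tt N13034 F143634) (tt N15061 F143635) (tt N16206 (iv F149657)) (tt N13098 F143636) (tt N13171 F143637) (tt N15994 (iv F148538)) (tt N13033 (iv D30988)) (tt N17023 D32950) (tt N15061 F143638) (tt N13119 F143639))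
theorem Q15063 : ∀ i, i < 15063 → P i := stepQ 15062 Q15062 (allL N15062 (tt N17023 (iv F152610)) (tt N13036 F143640) (tt N16647 (iv F151314)) (tt N13100 F143641) (tt N13172 F143642) (tt N16919 (iv F152231)) (tt N13129 F143643) (tt N13034 (iv D30989)) (tt N15062 F143644) (tt N13120 F143645))
theorem Q15064 : ∀ i, i < 15064 → P i := stepQ 15063 Q15063 (allL N15063 (tt N15063 F143646) (tt N16919 (iv F152228)) (tt N13038 F143647) (tt N13102 F143648) (tt N13242 F143649) (tt N13036 F143650) (tt N17024 D32951) (tt N13035 (iv D30990)) (tt N13248 F143651) (tt N13121 F143652))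
theorem Q15065 : ∀ i, i < 15065 → P i := stepQ 15064 Q15064 (allL N15064 (tt N15064 F143653) (tt N16651 (iv F151334)) (tt N13242 F143654) (tt N13205 F143655) (tt N13038 F143656) (tt N13174 F143657) (tt N17025 D32952) (tt N13037 (iv D30991)) (tt N13211 F143658) (tt N13122 F143659))
theorem Q15066 : ∀ i, i < 15066 → P i := stepQ 15065 Q15065 (allL N15065 (tt N15065 F143660) (tt N16652 (iv F151340)) (tt N17024 (iv F152618)) (tt N13040 F143661) (tt N17025 (iv F152628)) (tt N13132 F143662) (tt N13038 (iv D30992)) (tt N13070 F143663) (tt N17026 D32953) (tt N13123 F143664))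
theorem Q15067 : ∀ i, i < 15067 → P i := stepQ 15066 Q15066 (allL N15066 (tt N15066 F143665) (tt N16653 (iv F151345)) (tt N13248 F143666) (tt N13041 F143667) (tt N13211 F143668) (tt N15066 F143669) (tt N17026 (iv F152636)) (tt N13039 F143670) (tt N13038 (iv D30993)) (tt N13213 F143671))
theorem Q15068 : ∀ i, i < 15068 → P i := stepQ 15067 Q15067 (allL N15067 (tt N15067 F143672) (tt N16654 (iv F151351)) (tt N13109 F143673) (tt N17026 (iv F152634)) (tt N13207 F143674) (tt N17027 D32954) (tt N13041 F143675) (tt N13073 F143676) (tt N13040 (iv D30994)) (tt N17028 D32955))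
theorem Q15069 : ∀ i, i < 15069 → P i := stepQ 15068 Q15068 (allL N15068 (tt N15068 F143677) (tt N15374 (iv F145326)) (tt N13110 F143678) (tt N13213 F143679) (tt N13208 F143680) (tt N15068 F143681) (tt N17028 (iv F152649)) (tt N13042 F143682) (tt N13126 F143683) (tt N13041 (iv D30995)))
theorem Q15070 : ∀ i, i < 15070 → P i := stepQ 15069 Q15069 (allL N15069 (tt N13044 F143684) (tt N15069 F143685) (tt N16614 (iv F151159)) (tt N13119 F143686) (tt N15069 F143687) (tt N15640 (iv F146838)) (tt N13043 (iv D30996)) (tt N17029 D32956) (tt N13075 F143688) (tt N13098 F143689))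
theorem Q15071 : ∀ i, i < 15071 → P i := stepQ 15070 Q15070 (allL N15070 (tt N17029 (iv F152652)) (tt N13046 F143690) (tt N16616 (iv F151170)) (tt N13120 F143691) (tt N15070 F143692) (tt N16672 (iv F151421)) (tt N13065 F143693) (tt N13044 (iv D30997)) (tt N13076 F143694) (tt N13100 F143695))
theorem Q15072 : ∀ i, i < 15072 → P i := stepQ 15071 Q15071 (allL N15071 (tt N15071 F143696) (tt N16672 (iv F151418)) (tt N13048 F143697) (tt N13121 F143698) (tt N13133 F143699) (tt N13046 F143700) (tt N17030 D32957) (tt N13045 (iv D30998)) (tt N13131 F143701) (tt N13102 F143702))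
theorem Q15073 : ∀ i, i < 15073 → P i := stepQ 15072 Q15072 (allL N15072 (tt N15072 F143703) (tt N16620 (iv F151190)) (tt N13133 F143704) (tt N13225 F143705) (tt N13048 F143706) (tt N15072 F143707) (tt N17031 D32958) (tt N13047 (iv D30999)) (tt N13130 F143708) (tt N13104 F143709))
theorem Q15074 : ∀ i, i < 15074 → P i := stepQ 15073 Q15073 (allL N15073 (tt N15073 F143710) (tt N16621 (iv F151196)) (tt N17030 (iv F152660)) (tt N13050 F143711) (tt N17031 (iv F152670)) (tt N13070 F143712) (tt N13048 (iv D31000)) (tt N13132 F143713) (tt N17032 D32959) (tt N13106 F143714))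
theorem Q15075 : ∀ i, i < 15075 → P i := stepQ 15074 Q15074 (allL N15074 (tt N15074 F143715) (tt N16622 (iv F151201)) (tt N13131 F143716) (tt N13051 F143717) (tt N13130 F143718) (tt N13080 F143719) (tt N17032 (iv F152678)) (tt N13049 F143720) (tt N13048 (iv D31001)) (tt N13141 (iv F143721)))
theorem Q15076 : ∀ i, i < 15076 → P i := stepQ 15075 Q15075 (allL N15075 (tt N15075 F143722) (tt N16623 (iv F151207)) (tt N13125 F143723) (tt N17032 (iv F152676)) (tt N13228 F143724) (tt N17033 D32960) (tt N13051 F143725) (tt N13134 F143726) (tt N13050 (iv D31002)) (tt N17034 D32961))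
theorem Q15077 : ∀ i, i < 15077 → P i := stepQ 15076 Q15076 (allL N15076 (tt N15076 F143727) (tt N16624 (iv F151211)) (tt N13126 F143728) (tt N13141 F143729) (tt N13229 F143730) (tt N13082 F143731) (tt N17034 (iv F152691)) (tt N13052 F143732) (tt N13110 F143733) (tt N13051 (iv D31003)))
theorem Q15078 : ∀ i, i < 15078 → P i := stepQ 15077 Q15077 (allL N15077 (tt N13054 F143734) (tt N15077 F143735) (tt N16604 (iv F151106)) (tt N13127 F143736) (tt N15077 F143737) (tt N15945 F148293) (tt N13053 (iv D31004)) (tt N17035 D32962) (tt N15077 F143738) (tt N13063 F143739))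
theorem Q15079 : ∀ i, i < 15079 → P i := stepQ 15078 Q15078 (allL N15078 (tt N17035 (iv F152694)) (tt N13056 F143740) (tt N16606 (iv F151117)) (tt N13129 F143741) (tt N15078 F143742) (tt N16884 F152108) (tt N13100 F143743) (tt N13054 (iv D31005)) (tt N15078 F143744) (tt N13065 F143745))
theorem Q15080 : ∀ i, i < 15080 → P i := stepQ 15079 Q15079 (allL N15079 (tt N15079 F143746) (tt N16884 (iv F152104)) (tt N13058 F143747) (tt N13130 F143748) (tt N13227 F143749) (tt N13056 F143750) (tt N17036 D32963) (tt N13055 (iv D31006)) (tt N13225 F143751) (tt N13067 F143752))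
theorem Q15081 : ∀ i, i < 15081 → P i := stepQ 15080 Q15080 (allL N15080 (tt N15080 F143753) (tt N16610 (iv F151137)) (tt N13227 F143754) (tt N13217 F143755) (tt N13058 F143756) (tt N15080 F143757) (tt N17037 D32964) (tt N13057 (iv D31007)) (tt N13224 F143758) (tt N13069 F143759))
theorem Q15082 : ∀ i, i < 15082 → P i := stepQ 15081 Q15081 (allL N15081 (tt N15081 F143760) (tt N16611 (iv F151143)) (tt N17036 (iv F152702)) (tt N13060 F143761) (tt N17037 (iv F152712)) (tt N13106 F143762) (tt N13058 (iv D31008)) (tt N13123 F143763) (tt N17038 D32965) (tt N13070 F143764))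
theorem Q15083 : ∀ i, i < 15083 → P i := stepQ 15082 Q15082 (allL N15082 (tt N15082 F143765) (tt N16612 (iv F151148)) (tt N13225 F143766) (tt N13061 F143767) (tt N13224 F143768) (tt N15082 F143769) (tt N17038 (iv F152720)) (tt N13059 F143770) (tt N13058 (iv D31009)) (tt N13230 (iv F143771)))
theorem Q15084 : ∀ i, i < 15084 → P i := stepQ 15083 Q15083 (allL N15083 (tt N15083 F143772) (tt N16613 (iv F151154)) (tt N13134 F143773) (tt N17038 (iv F152718)) (tt N13220 F143774) (tt N17039 D32966) (tt N13061 F143775) (tt N13125 F143776) (tt N13060 (iv D31010)) (tt N17040 D32967))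
theorem Q15085 : ∀ i, i < 15085 → P i := stepQ 15084 Q15084 (allL N15084 (tt N15084 F143777) (tt N15385 (iv F145390)) (tt N13135 F143778) (tt N13230 F143779) (tt N13221 F143780) (tt N15084 F143781) (tt N17040 (iv F152732)) (tt N13062 F143782) (tt N13074 F143783) (tt N13061 (iv D31011)))
theorem Q15086 : ∀ i, i < 15086 → P i := stepQ 15085 Q15085 (allL N15085 (tt N13064 F143784) (tt N15085 F143785) (tt N17012 (iv F152566)) (tt N13136 F143786) (tt N15948 (iv F148309)) (tt N13063 (iv D31012)) (tt N15994 (iv F148539)) (tt N17041 D32968) (tt N15964 (iv F148388)) (tt N15945 (iv F148294)))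
theorem Q15087 : ∀ i, i < 15087 → P i := stepQ 15086 Q15086 (allL N15086 (tt N13065 F143787) (tt N15086 F143788) (tt N17013 (iv F152568)) (tt N13137 F143789) (tt N15086 F143790) (tt N17041 (iv F152738)) (tt N17029 (iv F152656)) (tt N13063 (iv D31013)) (tt N13084 F143791) (tt N17035 (iv F152700)))
theorem Q15088 : ∀ i, i < 15088 → P i := stepQ 15087 Q15087 (allL N15087 (tt N17041 (iv F152735)) (tt N13067 F143792) (tt N17014 (iv F152572)) (tt N13139 F143793) (tt N16886 (iv F152116)) (tt N13065 F143794) (tt N17042 D32969) (tt N13064 (iv D31014)) (tt N16900 (iv F152169)) (tt N16884 F152109))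
theorem Q15089 : ∀ i, i < 15089 → P i := stepQ 15088 Q15088 (allL N15088 (tt N15088 F143795) (tt N16886 (iv F152114)) (tt N13069 F143796) (tt N13229 F143797) (tt N13067 F143798) (tt N15088 F143799) (tt N17043 D32970) (tt N13066 (iv D31015)) (tt N13235 F143800) (tt N13227 F143801))
theorem Q15090 : ∀ i, i < 15090 → P i := stepQ 15089 Q15089 (allL N15089 (tt N15089 F143802) (tt N17042 (iv F152739)) (tt N13070 F143803) (tt N13142 F143804) (tt N17043 (iv F152744)) (tt N17030 (iv F152663)) (tt N13067 (iv D31016)) (tt N17024 (iv F152622)) (tt N17044 D32971) (tt N17036 (iv F152708)))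
theorem Q15091 : ∀ i, i < 15091 → P i := stepQ 15090 Q15090 (allL N15090 (tt N15090 F143805) (tt N16900 (iv F152164)) (tt N13071 F143806) (tt N13143 F143807) (tt N13235 F143808) (tt N13090 F143809) (tt N17044 (iv F152752)) (tt N13068 F143810) (tt N13067 (iv D31017)) (tt N13233 F143811))
theorem Q15092 : ∀ i, i < 15092 → P i := stepQ 15091 Q15091 (allL N15091 (tt N15091 F143812) (tt N16908 (iv F152194)) (tt N17043 (iv F152742)) (tt N13222 F143813) (tt N13070 F143814) (tt N17045 D32972) (tt N13069 (iv D31018)) (tt N17025 (iv F152629)) (tt N13237 F143815) (tt N17037 (iv F152715)))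
theorem Q15093 : ∀ i, i < 15093 → P i := stepQ 15092 Q15092 (allL N15092 (tt N15092 F143816) (tt N16907 (iv F152190)) (tt N17044 (iv F152749)) (tt N13073 F143817) (tt N13237 F143818) (tt N17046 D32973) (tt N13071 F143819) (tt N17026 (iv F152637)) (tt N13070 (iv D31019)) (tt N17047 D32974))
theorem Q15094 : ∀ i, i < 15094 → P i := stepQ 15093 Q15093 (allL N15093 (tt N15093 F143820) (tt N15272 (iv F144738)) (tt N13233 F143821) (tt N13074 F143822) (tt N13202 F143823) (tt N13094 F143824) (tt N17047 (iv F152765)) (tt N13072 F143825) (tt N13230 F143826) (tt N13071 (iv D31020)))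
theorem Q15095 : ∀ i, i < 15095 → P i := stepQ 15094 Q15094 (allL N15094 (tt N15094 F143827) (tt N16911 (iv F152203)) (tt N13148 F143828) (tt N17046 (iv F152759)) (tt N13246 F143829) (tt N13073 (iv D31021)) (tt N13095 F143830) (tt N17027 (iv F152643)) (tt N17033 (iv F152685)) (tt N17048 D32975))
theorem Q15096 : ∀ i, i < 15096 → P i := stepQ 15095 Q15095 (allL N15095 (tt N15095 F143831) (tt N15384 (iv F145386)) (tt N13149 F143832) (tt N17047 (iv F152763)) (tt N13223 F143833) (tt N17048 (iv F152771)) (tt N13074 F143834) (tt N17028 (iv F152650)) (tt N17040 (iv F152734)) (tt N13073 (iv D31022)))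
theorem Q15097 : ∀ i, i < 15097 → P i := stepQ 15096 Q15096 (allL N15096 (tt N13076 F143835) (tt N15096 F143836) (tt N17016 (iv F152576)) (tt N13150 F143837) (tt N15096 F143838) (tt N15696 F147130) (tt N13084 F143839) (tt N13075 (iv D31023)) (tt N17029 (iv F152657)) (tt N15096 F143840))
theorem Q15098 : ∀ i, i < 15098 → P i := stepQ 15097 Q15097 (allL N15097 (tt N15097 F143841) (tt N16725 (iv F151628)) (tt N13079 F143842) (tt N13151 F143843) (tt N13188 F143844) (tt N13089 F143845) (tt N13077 (iv D31024)) (tt N15097 F143846) (tt N13187 F143847) (tt N15097 F143848))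
theorem Q15099 : ∀ i, i < 15099 → P i := stepQ 15098 Q15098 (allL N15098 (tt N15098 F143849) (tt N17018 (iv F152584)) (tt N13188 F143850) (tt N15098 F143851) (tt N13079 F143852) (tt N17049 D32976) (tt N13078 (iv D31025)) (tt N15098 F143853) (tt N13186 F143854) (tt N15098 F143855))
theorem Q15100 : ∀ i, i < 15100 → P i := stepQ 15099 Q15099 (allL N15099 (tt N15099 F143856) (tt N17019 (iv F152590)) (tt N13187 F143857) (tt N13081 F143858) (tt N13186 F143859) (tt N17050 D32977) (tt N13080 F143860) (tt N15099 F143861) (tt N13079 (iv D31026)) (tt N13194 (iv F143862)))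
theorem Q15101 : ∀ i, i < 15101 → P i := stepQ 15100 Q15100 (allL N15100 (tt N15100 F143863) (tt N16944 (iv F152314)) (tt N13154 F143864) (tt N17050 (iv F152783)) (tt N13256 (iv F143867)) (tt N13081 (iv D31027)) (tt N17033 (iv F152683)) (tt N15100 F143865) (tt N13095 F143866) (tt N17051 D32978))
theorem Q15102 : ∀ i, i < 15102 → P i := stepQ 15101 Q15101 (allL N15101 (tt N15101 F143868) (tt N17020 (iv F152596)) (tt N13155 F143869) (tt N13194 F143870) (tt N15101 F143871) (tt N17051 (iv F152792)) (tt N13082 F143872) (tt N15101 F143873) (tt N15101 F143874) (tt N13081 (iv D31028)))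
theorem Q15103 : ∀ i, i < 15103 → P i := stepQ 15102 Q15102 (allL N15102 (tt N13085 F143875) (tt N15102 F143876) (tt N16937 (iv F152282)) (tt N15102 F143877) (tt N13083 (iv D31029)) (tt N15102 F143878) (tt N15102 F143879) (tt N16245 (iv F149797)) (tt N13252 (iv F143881)) (tt N15102 F143880))
theorem Q15104 : ∀ i, i < 15104 → P i := stepQ 15103 Q15103 (allL N15103 (tt N13086 F143882) (tt N15103 F143883) (tt N17021 (iv F152603)) (tt N13156 F143884) (tt N16245 (iv F149794)) (tt N13084 F143885) (tt N16399 (iv F150334)) (tt N13083 (iv D31030)) (tt N16244 F149790) (tt N15103 F143886))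
theorem Q15105 : ∀ i, i < 15105 → P i := stepQ 15104 Q15104 (allL N15104 (tt N13087 F143887) (tt N15104 F143888) (tt N16936 (iv F152278)) (tt N13157 F143889) (tt N13252 F143890) (tt N15964 (iv F148386)) (tt N15104 F143891) (tt N16244 (iv F149789)) (tt N13083 (iv D31031)) (tt N15963 F148381))
theorem Q15106 : ∀ i, i < 15106 → P i := stepQ 15105 Q15105 (allL N15105 (tt N16245 (iv F149791)) (tt N13088 F143892) (tt N16939 (iv F152292)) (tt N15105 F143893) (tt N13086 F143894) (tt N15105 F143895) (tt N15395 (iv F145452)) (tt N13085 (iv D31032)) (tt N13253 F143896) (tt N15105 F143897))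
theorem Q15107 : ∀ i, i < 15107 → P i := stepQ 15106 Q15106 (allL N15106 (tt N16399 (iv F150330)) (tt N13089 F143898) (tt N17022 (iv F152607)) (tt N13158 F143899) (tt N15395 (iv F145450)) (tt N16725 F151634) (tt N13086 (iv D31033)) (tt N15106 F143900) (tt N15394 F145446) (tt N15106 F143901))
theorem Q15108 : ∀ i, i < 15108 → P i := stepQ 15107 Q15107 (allL N15107 (tt N16244 (iv F149784)) (tt N13090 F143902) (tt N16938 (iv F152288)) (tt N13159 F143903) (tt N13253 F143904) (tt N16900 (iv F152167)) (tt N15394 (iv F145444)) (tt N13087 F143905) (tt N13086 (iv D31034)) (tt N15276 (iv F144771)))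
theorem Q15109 : ∀ i, i < 15109 → P i := stepQ 15108 Q15108 (allL N15108 (tt N15108 F143906) (tt N15395 (iv F145448)) (tt N13092 F143907) (tt N15108 F143908) (tt N13089 F143909) (tt N15251 (iv F144602)) (tt N13088 (iv D31035)) (tt N15108 F143910) (tt N13254 F143911) (tt N15108 F143912))
theorem Q15110 : ∀ i, i < 15110 → P i := stepQ 15109 Q15109 (allL N15109 (tt N15109 F143913) (tt N15394 (iv F145441)) (tt N13093 F143914) (tt N13161 F143915) (tt N13254 F143916) (tt N17052 D32979) (tt N13090 F143917) (tt N15109 F143918) (tt N13089 (iv D31036)) (tt N15236 (iv F144483)))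
theorem Q15111 : ∀ i, i < 15111 → P i := stepQ 15110 Q15110 (allL N15110 (tt N15110 F143919) (tt N15276 (iv F144766)) (tt N13094 F143920) (tt N13162 F143921) (tt N13250 F143922) (tt N13233 F143923) (tt N15236 (iv F144480)) (tt N13091 F143924) (tt N15110 F143925) (tt N13090 (iv D31037)))
theorem Q15112 : ∀ i, i < 15112 → P i := stepQ 15111 Q15111 (allL N15111 (tt N15111 F143926) (tt N16943 (iv F152309)) (tt N15251 (iv F144599)) (tt N13097 F143927) (tt N17049 (iv F152776)) (tt N13092 (iv D31038)) (tt N15111 F143928) (tt N15111 F143929) (tt N15249 F144587) (tt N15111 F143930))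
theorem Q15113 : ∀ i, i < 15113 → P i := stepQ 15112 Q15112 (allL N15112 (tt N15112 F143931) (tt N16942 (iv F152306)) (tt N17052 (iv F152795)) (tt N13095 F143932) (tt N17053 D32980) (tt N13093 (iv D31039)) (tt N17046 (iv F152760)) (tt N15112 F143933) (tt N17050 (iv F152786)) (tt N17054 D32981))
theorem Q15114 : ∀ i, i < 15114 → P i := stepQ 15113 Q15113 (allL N15113 (tt N15113 F143934) (tt N15282 (iv F144807)) (tt N15236 (iv F144478)) (tt N13096 F143935) (tt N13251 F143936) (tt N17054 (iv F152812)) (tt N13094 F143937) (tt N15113 F143938) (tt N15113 F143939) (tt N13093 (iv D31040)))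
theorem Q15115 : ∀ i, i < 15115 → P i := stepQ 15114 Q15114 (allL N15114 (tt N15114 F143940) (tt N15398 (iv F145469)) (tt N13166 F143941) (tt N17054 (iv F152810)) (tt N13255 F143942) (tt N13096 F143943) (tt N17048 (iv F152772)) (tt N15114 F143944) (tt N17055 D32982) (tt N13095 (iv D31041)))
theorem Q15116 : ∀ i, i < 15116 → P i := stepQ 15115 Q15115 (allL N15115 (tt N15115 F143945) (tt N16422 (iv F150440)) (tt N15115 F143946) (tt N15249 (iv F144582)) (tt N15115 F143947) (tt N13170 F143948) (tt N15115 F143949) (tt N15115 F143950) (tt N13097 (iv D31042)) (tt N15248 (iv F144579)))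
theorem Q15117 : ∀ i, i < 15117 → P i := stepQ 15116 Q15116 (allL N15116 (tt N13099 F143951) (tt N15116 F143952) (tt N16625 (iv F151218)) (tt N15994 (iv F148536)) (tt N15643 (iv F146853)) (tt N13098 (iv D31043)) (tt N13136 F143953) (tt N17056 D32983) (tt N15659 (iv F146921)) (tt N15640 F146840))
theorem Q15118 : ∀ i, i < 15118 → P i := stepQ 15117 Q15117 (allL N15117 (tt N13100 F143954) (tt N15117 F143955) (tt N16626 (iv F151221)) (tt N17023 (iv F152612)) (tt N15117 F143956) (tt N17056 (iv F152823)) (tt N17035 (iv F152698)) (tt N13098 (iv D31044)) (tt N15117 F143957) (tt N17029 (iv F152658)))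
theorem Q15119 : ∀ i, i < 15119 → P i := stepQ 15118 Q15118 (allL N15118 (tt N17056 (iv F152821)) (tt N13102 F143958) (tt N16628 (iv F151231)) (tt N16919 (iv F152229)) (tt N16674 (iv F151429)) (tt N13100 F143959) (tt N17057 D32984) (tt N13099 (iv D31045)) (tt N16692 (iv F151489)) (tt N16672 F151423))
theorem Q15120 : ∀ i, i < 15120 → P i := stepQ 15119 Q15119 (allL N15119 (tt N15119 F143960) (tt N16674 (iv F151427)) (tt N13104 F143961) (tt N13135 F143962) (tt N13102 F143963) (tt N15119 F143964) (tt N17058 D32985) (tt N13101 (iv D31046)) (tt N13147 F143965) (tt N13133 F143966))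
theorem Q15121 : ∀ i, i < 15121 → P i := stepQ 15120 Q15120 (allL N15120 (tt N15120 F143967) (tt N17057 (iv F152824)) (tt N13106 F143968) (tt N17024 (iv F152619)) (tt N17058 (iv F152829)) (tt N17036 (iv F152705)) (tt N13102 (iv D31047)) (tt N13142 F143969) (tt N17059 D32986) (tt N17030 (iv F152666)))
theorem Q15122 : ∀ i, i < 15122 → P i := stepQ 15121 Q15121 (allL N15121 (tt N15121 F143970) (tt N16692 (iv F151484)) (tt N13107 F143971) (tt N13248 F143972) (tt N13147 F143973) (tt N15121 F143974) (tt N17059 (iv F152837)) (tt N13103 F143975) (tt N13102 (iv D31048)) (tt N13145 F143976))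
theorem Q15123 : ∀ i, i < 15123 → P i := stepQ 15122 Q15122 (allL N15122 (tt N15122 F143977) (tt N16636 (iv F151262)) (tt N17058 (iv F152827)) (tt N13232 F143978) (tt N13106 F143979) (tt N17060 D32987) (tt N13104 (iv D31049)) (tt N13144 F143980) (tt N17061 D32988) (tt N17031 (iv F152673)))
theorem Q15124 : ∀ i, i < 15124 → P i := stepQ 15123 Q15123 (allL N15123 (tt N15123 F143981) (tt N16637 (iv F151266)) (tt N13147 F143982) (tt N13233 F143983) (tt N13107 F143984) (tt N13162 (iv F143987)) (tt N17061 (iv F152848)) (tt N13105 F143985) (tt N13104 (iv D31050)) (tt N13143 F143986))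
theorem Q15125 : ∀ i, i < 15125 → P i := stepQ 15124 Q15124 (allL N15124 (tt N15124 F143988) (tt N16638 (iv F151272)) (tt N17059 (iv F152834)) (tt N13109 F143989) (tt N17061 (iv F152847)) (tt N17062 D32989) (tt N13107 F143990) (tt N13146 F143991) (tt N13106 (iv D31051)) (tt N17063 D32990))
theorem Q15126 : ∀ i, i < 15126 → P i := stepQ 15125 Q15125 (allL N15125 (tt N15125 F143992) (tt N16639 (iv F151276)) (tt N13145 F143993) (tt N13110 F143994) (tt N13143 F143995) (tt N15125 F143996) (tt N17063 (iv F152859)) (tt N13108 F143997) (tt N13141 F143998) (tt N13107 (iv D31052)))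
theorem Q15127 : ∀ i, i < 15127 → P i := stepQ 15126 Q15126 (allL N15126 (tt N15126 F143999) (tt N16640 (iv F151282)) (tt N17027 (iv F152640)) (tt N17062 (iv F152852)) (tt N17064 D32991) (tt N13109 (iv D31053)) (tt N15126 F144000) (tt N13148 F144001) (tt N17039 (iv F152727)) (tt N17065 D32992))
theorem Q15128 : ∀ i, i < 15128 → P i := stepQ 15127 Q15127 (allL N15127 (tt N15127 F144002) (tt N16641 (iv F151285)) (tt N17028 (iv F152646)) (tt N17063 (iv F152857)) (tt N13236 F144003) (tt N17065 (iv F152868)) (tt N13110 F144004) (tt N13149 F144005) (tt N17034 (iv F152693)) (tt N13109 (iv D31054)))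
theorem Q15129 : ∀ i, i < 15129 → P i := stepQ 15128 Q15128 (allL N15128 (tt N15128 F144006) (tt N15275 (iv F144759)) (tt N13114 F144007) (tt N13224 F144008) (tt N13219 F144009) (tt N13112 F144010) (tt N17066 D32993) (tt N13111 (iv D31055)) (tt N13217 F144011) (tt N13204 F144012))
theorem Q15130 : ∀ i, i < 15130 → P i := stepQ 15129 Q15129 (allL N15129 (tt N15129 F144013) (tt N16643 (iv F151292)) (tt N13219 F144014) (tt N13122 F144015) (tt N13114 F144016) (tt N13168 F144017) (tt N17067 D32994) (tt N13113 (iv D31056)) (tt N13216 F144018) (tt N13205 F144019))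
theorem Q15131 : ∀ i, i < 15131 → P i := stepQ 15130 Q15130 (allL N15130 (tt N15130 F144020) (tt N16644 (iv F151298)) (tt N17066 (iv F152872)) (tt N13116 F144021) (tt N17067 (iv F152882)) (tt N13237 F144022) (tt N13114 (iv D31057)) (tt N13218 F144023) (tt N17068 D32995) (tt N13206 F144024))
theorem Q15132 : ∀ i, i < 15132 → P i := stepQ 15131 Q15131 (allL N15131 (tt N15131 F144025) (tt N15378 (iv F145351)) (tt N13217 F144026) (tt N13117 F144027) (tt N13216 F144028) (tt N15131 F144029) (tt N17068 (iv F152890)) (tt N13115 F144030) (tt N13114 (iv D31058)) (tt N13210 F144031))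
theorem Q15133 : ∀ i, i < 15133 → P i := stepQ 15132 Q15132 (allL N15132 (tt N15132 F144032) (tt N16645 (iv F151303)) (tt N13228 F144033) (tt N17068 (iv F152888)) (tt N13125 F144034) (tt N17069 D32996) (tt N13117 F144035) (tt N13220 F144036) (tt N13116 (iv D31059)) (tt N17070 D32997))
theorem Q15134 : ∀ i, i < 15134 → P i := stepQ 15133 Q15133 (allL N15133 (tt N15133 F144037) (tt N15376 (iv F145339)) (tt N13229 F144038) (tt N13210 F144039) (tt N13126 F144040) (tt N15133 F144041) (tt N17070 (iv F152902)) (tt N13118 F144042) (tt N13208 F144043) (tt N13117 (iv D31060)))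
theorem Q15135 : ∀ i, i < 15135 → P i := stepQ 15134 Q15134 (allL N15134 (tt N13120 F144044) (tt N15134 F144045) (tt N16205 (iv F149651)) (tt N17029 (iv F152654)) (tt N13178 F144046) (tt N15993 (iv F148532)) (tt N13137 F144047) (tt N13119 (iv D31061)) (tt N13150 F144048) (tt N17023 (iv F152616)))
theorem Q15136 : ∀ i, i < 15136 → P i := stepQ 15135 Q15135 (allL N15135 (tt N15135 F144049) (tt N16918 (iv F152224)) (tt N13123 F144050) (tt N17030 (iv F152661)) (tt N13241 F144051) (tt N13142 F144052) (tt N13121 (iv D31062)) (tt N17036 (iv F152706)) (tt N13240 F144053) (tt N17024 (iv F152624)))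
theorem Q15137 : ∀ i, i < 15137 → P i := stepQ 15136 Q15136 (allL N15136 (tt N15136 F144054) (tt N16660 (iv F151376)) (tt N13241 F144055) (tt N17067 (iv F152881)) (tt N13123 F144056) (tt N17071 D32998) (tt N13122 (iv D31063)) (tt N17037 (iv F152713)) (tt N13239 F144057) (tt N17025 (iv F152631)))
theorem Q15138 : ∀ i, i < 15138 → P i := stepQ 15137 Q15137 (allL N15137 (tt N15137 F144058) (tt N16661 (iv F151379)) (tt N13240 F144059) (tt N13125 F144060) (tt N13239 F144061) (tt N17072 D32999) (tt N13124 F144062) (tt N17038 (iv F152721)) (tt N13123 (iv D31064)) (tt N13245 (iv F144063)))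
theorem Q15139 : ∀ i, i < 15139 → P i := stepQ 15138 Q15138 (allL N15138 (tt N15138 F144064) (tt N16662 (iv F151384)) (tt N17033 (iv F152682)) (tt N17072 (iv F152912)) (tt N17073 D33000) (tt N13125 (iv D31065)) (tt N13154 F144065) (tt N17039 (iv F152726)) (tt N13148 F144066) (tt N17074 D33001))
theorem Q15140 : ∀ i, i < 15140 → P i := stepQ 15139 Q15139 (allL N15139 (tt N15139 F144067) (tt N16663 (iv F151387)) (tt N17034 (iv F152688)) (tt N13245 F144068) (tt N17070 (iv F152901)) (tt N17074 (iv F152923)) (tt N13126 F144069) (tt N17040 (iv F152733)) (tt N17028 (iv F152651)) (tt N13125 (iv D31066)))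
theorem Q15141 : ∀ i, i < 15141 → P i := stepQ 15140 Q15140 (allL N15140 (tt N13128 F144070) (tt N15140 F144071) (tt N16664 (iv F151391)) (tt N15945 (iv F148290)) (tt N15594 (iv F146591)) (tt N13127 (iv D31067)) (tt N15640 (iv F146839)) (tt N17075 D33002) (tt N15592 F146582) (tt N13136 F144072))
theorem Q15142 : ∀ i, i < 15142 → P i := stepQ 15141 Q15141 (allL N15141 (tt N13129 F144073) (tt N15141 F144074) (tt N16665 (iv F151394)) (tt N17035 (iv F152696)) (tt N13184 F144075) (tt N17075 (iv F152927)) (tt N17023 (iv F152614)) (tt N13127 (iv D31068)) (tt N15141 F144076) (tt N13137 F144077))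
theorem Q15143 : ∀ i, i < 15143 → P i := stepQ 15142 Q15142 (allL N15142 (tt N17075 (iv F152925)) (tt N13130 F144078) (tt N16666 (iv F151399)) (tt N16884 (iv F152105)) (tt N16622 (iv F151203)) (tt N13129 F144079) (tt N17076 D33003) (tt N13128 (iv D31069)) (tt N16620 (iv F151194)) (tt N13139 F144080))
theorem Q15144 : ∀ i, i < 15144 → P i := stepQ 15143 Q15143 (allL N15143 (tt N15143 F144081) (tt N17076 (iv F152929)) (tt N13132 F144082) (tt N17036 (iv F152703)) (tt N17032 (iv F152677)) (tt N17024 (iv F152621)) (tt N13130 (iv D31070)) (tt N17030 (iv F152664)) (tt N17031 (iv F152672)) (tt N13142 F144083))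
theorem Q15145 : ∀ i, i < 15145 → P i := stepQ 15144 Q15144 (allL N15144 (tt N15144 F144084) (tt N16671 (iv F151414)) (tt N17032 (iv F152675)) (tt N13240 F144085) (tt N13132 F144086) (tt N17077 D33004) (tt N13131 (iv D31071)) (tt N17031 (iv F152671)) (tt N17030 (iv F152665)) (tt N13144 F144087))
theorem Q15146 : ∀ i, i < 15146 → P i := stepQ 15145 Q15145 (allL N15145 (tt N15145 F144088) (tt N16673 (iv F151424)) (tt N17031 (iv F152668)) (tt N13134 F144089) (tt N17030 (iv F152662)) (tt N17078 D33005) (tt N13133 F144090) (tt N17032 (iv F152679)) (tt N13132 (iv D31072)) (tt N17058 (iv F152832)))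
theorem Q15147 : ∀ i, i < 15147 → P i := stepQ 15146 Q15146 (allL N15146 (tt N15146 F144091) (tt N16675 (iv F151433)) (tt N17039 (iv F152724)) (tt N17078 (iv F152936)) (tt N17079 D33006) (tt N13134 (iv D31073)) (tt N15146 F144092) (tt N17033 (iv F152684)) (tt N17027 (iv F152644)) (tt N17080 D33007))
theorem Q15148 : ∀ i, i < 15148 → P i := stepQ 15147 Q15147 (allL N15147 (tt N15147 F144093) (tt N16676 (iv F151435)) (tt N17040 (iv F152729)) (tt N17058 (iv F152828)) (tt N13244 F144094) (tt N17080 (iv F152944)) (tt N13135 F144095) (tt N17034 (iv F152692)) (tt N13149 F144096) (tt N13134 (iv D31074)))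
theorem Q15149 : ∀ i, i < 15149 → P i := stepQ 15148 Q15148 (allL N15148 (tt N13138 F144097) (tt N15148 F144098) (tt N16677 (iv F151440)) (tt N15597 (iv F146608)) (tt N13136 (iv D31075)) (tt N13190 F144099) (tt N15643 (iv F146855)) (tt N17081 D33008) (tt N15608 (iv F146663)) (tt N15594 F146594))
theorem Q15150 : ∀ i, i < 15150 → P i := stepQ 15149 Q15149 (allL N15149 (tt N13139 F144100) (tt N15149 F144101) (tt N16678 (iv F151443)) (tt N17041 (iv F152737)) (tt N17081 (iv F152948)) (tt N13137 F144102) (tt N17082 D33009) (tt N13136 (iv D31076)) (tt N17083 D33010) (tt N17075 (iv F152928)))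
theorem Q15151 : ∀ i, i < 15151 → P i := stepQ 15150 Q15150 (allL N15150 (tt N13140 F144103) (tt N15150 F144104) (tt N16679 (iv F151446)) (tt N15964 (iv F148384)) (tt N15608 (iv F146660)) (tt N13157 F144105) (tt N15659 (iv F146920)) (tt N17083 (iv F152955)) (tt N13136 (iv D31077)) (tt N15605 (iv F146646)))
theorem Q15152 : ∀ i, i < 15152 → P i := stepQ 15151 Q15151 (allL N15151 (tt N17081 (iv F152946)) (tt N13141 F144106) (tt N16681 (iv F151451)) (tt N16624 (iv F151212)) (tt N13139 F144107) (tt N13192 F144108) (tt N17084 D33011) (tt N13138 (iv D31078)) (tt N16639 (iv F151281)) (tt N16622 F151206))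
theorem Q15153 : ∀ i, i < 15153 → P i := stepQ 15152 Q15152 (allL N15152 (tt N17082 (iv F152950)) (tt N13142 F144109) (tt N16682 (iv F151455)) (tt N17042 (iv F152740)) (tt N17084 (iv F152957)) (tt N16918 F152227) (tt N13139 (iv D31079)) (tt N17057 (iv F152825)) (tt N17085 D33012) (tt N17076 (iv F152930)))
theorem Q15154 : ∀ i, i < 15154 → P i := stepQ 15153 Q15153 (allL N15153 (tt N17083 (iv F152952)) (tt N13143 F144110) (tt N16683 (iv F151457)) (tt N16900 (iv F152165)) (tt N16639 (iv F151278)) (tt N13159 F144111) (tt N17085 (iv F152959)) (tt N13140 F144112) (tt N13139 (iv D31080)) (tt N16637 (iv F151270)))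
theorem Q15155 : ∀ i, i < 15155 → P i := stepQ 15154 Q15154 (allL N15154 (tt N15154 F144113) (tt N17084 (iv F152956)) (tt N13144 F144114) (tt N17034 (iv F152689)) (tt N13142 F144115) (tt N17086 D33013) (tt N13141 (iv D31081)) (tt N17058 (iv F152830)) (tt N17063 (iv F152861)) (tt N17032 F152680))
theorem Q15156 : ∀ i, i < 15156 → P i := stepQ 15155 Q15155 (allL N15155 (tt N15155 F144116) (tt N17085 (iv F152958)) (tt N13146 F144117) (tt N17044 (iv F152750)) (tt N17063 (iv F152858)) (tt N17087 D33014) (tt N13143 F144118) (tt N17059 (iv F152838)) (tt N13142 (iv D31082)) (tt N17061 (iv F152850)))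
theorem Q15157 : ∀ i, i < 15157 → P i := stepQ 15156 Q15156 (allL N15156 (tt N15156 F144119) (tt N16690 (iv F151477)) (tt N17086 (iv F152961)) (tt N13246 F144120) (tt N17071 (iv F152907)) (tt N13144 (iv D31083)) (tt N13195 F144121) (tt N17060 (iv F152843)) (tt N17088 D33015) (tt N17077 (iv F152934)))
theorem Q15158 : ∀ i, i < 15158 → P i := stepQ 15157 Q15157 (allL N15157 (tt N15157 F144122) (tt N16691 (iv F151480)) (tt N17063 (iv F152856)) (tt N13247 F144123) (tt N13146 F144124) (tt N17089 D33016) (tt N13145 F144125) (tt N17061 (iv F152849)) (tt N13144 (iv D31084)) (tt N17059 (iv F152839)))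
theorem Q15159 : ∀ i, i < 15159 → P i := stepQ 15158 Q15158 (allL N15158 (tt N15158 F144126) (tt N16693 (iv F151490)) (tt N17087 (iv F152965)) (tt N13148 F144127) (tt N17090 D33017) (tt N13146 (iv D31085)) (tt N13163 F144128) (tt N17062 (iv F152854)) (tt N17072 (iv F152915)) (tt N17091 D33018))
theorem Q15160 : ∀ i, i < 15160 → P i := stepQ 15159 Q15159 (allL N15159 (tt N15159 F144129) (tt N16694 (iv F151493)) (tt N17061 (iv F152845)) (tt N13149 F144130) (tt N17059 (iv F152836)) (tt N17091 (iv F152981)) (tt N13147 F144131) (tt N17063 (iv F152860)) (tt N17058 (iv F152831)) (tt N13146 (iv D31086)))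
theorem Q15161 : ∀ i, i < 15161 → P i := stepQ 15160 Q15160 (allL N15160 (tt N15160 F144132) (tt N16695 (iv F151496)) (tt N13246 F144133) (tt N17074 (iv F152922)) (tt N13148 (iv D31087)) (tt N13245 F144134) (tt N13165 F144135) (tt N17064 (iv F152866)) (tt N17073 (iv F152920)) (tt N17072 (iv F152916)))
theorem Q15162 : ∀ i, i < 15162 → P i := stepQ 15161 Q15161 (allL N15161 (tt N15161 F144136) (tt N16696 (iv F151499)) (tt N17048 (iv F152769)) (tt N17091 (iv F152980)) (tt N17072 (iv F152913)) (tt N13149 F144137) (tt N13166 F144138) (tt N17065 (iv F152870)) (tt N17090 (iv F152978)) (tt N13148 (iv D31088)))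
theorem Q15163 : ∀ i, i < 15163 → P i := stepQ 15162 Q15162 (allL N15162 (tt N15162 F144139) (tt N16697 (iv F151502)) (tt N13255 F144140) (tt N13154 F144141) (tt N13166 F144142) (tt N13153 (iv D31089)) (tt N17072 (iv F152914)) (tt N15162 F144143) (tt N13163 F144144) (tt N13165 F144145))
theorem Q15164 : ∀ i, i < 15164 → P i := stepQ 15163 Q15163 (allL N15163 (tt N15163 F144146) (tt N16698 (iv F151508)) (tt N13256 F144147) (tt N17092 D33019) (tt N13154 (iv D31090)) (tt N15163 F144148) (tt N17073 (iv F152919)) (tt N15163 F144149) (tt N13165 F144150) (tt N17093 D33020))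
theorem Q15165 : ∀ i, i < 15165 → P i := stepQ 15164 Q15164 (allL N15164 (tt N15164 F144151) (tt N16699 (iv F151512)) (tt N17051 (iv F152789)) (tt N13165 F144152) (tt N17093 (iv F152992)) (tt N13155 F144153) (tt N17074 (iv F152924)) (tt N15164 F144154) (tt N17092 (iv F152987)) (tt N13154 (iv D31091)))
theorem Q15166 : ∀ i, i < 15166 → P i := stepQ 15165 Q15165 (allL N15165 (tt N13158 F144155) (tt N15165 F144156) (tt N16496 (iv F150767)) (tt N16399 (iv F150332)) (tt N15165 F144157) (tt N16042 F148780) (tt N13156 (iv D31092)) (tt N15165 F144158) (tt N16398 F150329) (tt N15165 F144159))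
theorem Q15167 : ∀ i, i < 15167 → P i := stepQ 15166 Q15166 (allL N15166 (tt N13159 F144160) (tt N15166 F144161) (tt N16700 (iv F151517)) (tt N16244 (iv F149786)) (tt N15166 F144162) (tt N17083 (iv F152954)) (tt N16398 (iv F150327)) (tt N13157 F144163) (tt N13156 (iv D31093)) (tt N16243 F149783))
theorem Q15168 : ∀ i, i < 15168 → P i := stepQ 15167 Q15167 (allL N15167 (tt N13160 F144164) (tt N15167 F144165) (tt N16701 (iv F151521)) (tt N15963 (iv F148376)) (tt N15167 F144166) (tt N15605 F146647) (tt N15167 F144167) (tt N16243 (iv F149781)) (tt N15167 F144168) (tt N13157 (iv D31094)))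
theorem Q15169 : ∀ i, i < 15169 → P i := stepQ 15168 Q15168 (allL N15168 (tt N16398 (iv F150323)) (tt N13161 F144169) (tt N16702 (iv F151526)) (tt N15394 (iv F145442)) (tt N15168 F144170) (tt N16947 (iv F152325)) (tt N13159 F144171) (tt N15168 F144172) (tt N13158 (iv D31095)) (tt N15393 F145439))
theorem Q15170 : ∀ i, i < 15170 → P i := stepQ 15169 Q15169 (allL N15169 (tt N16243 (iv F149777)) (tt N13162 F144173) (tt N16703 (iv F151531)) (tt N15276 F144772) (tt N15169 F144174) (tt N16637 F151271) (tt N15393 (iv F145436)) (tt N13160 F144175) (tt N15169 F144176) (tt N13159 (iv D31096)))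
theorem Q15171 : ∀ i, i < 15171 → P i := stepQ 15170 Q15170 (allL N15170 (tt N15170 F144177) (tt N16947 (iv F152324)) (tt N13163 F144178) (tt N17052 (iv F152796)) (tt N17055 (iv F152818)) (tt N13161 (iv D31097)) (tt N17087 (iv F152966)) (tt N15170 F144179) (tt N13255 F144180) (tt N17094 D33021))
theorem Q15172 : ∀ i, i < 15172 → P i := stepQ 15171 Q15171 (allL N15171 (tt N15171 F144181) (tt N15393 (iv F145434)) (tt N13164 F144182) (tt N15236 F144484) (tt N15171 F144183) (tt N17094 (iv F152999)) (tt N13162 F144184) (tt N15171 F144185) (tt N15171 F144186) (tt N13161 (iv D31098)))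
theorem Q15173 : ∀ i, i < 15173 → P i := stepQ 15172 Q15172 (allL N15172 (tt N15172 F144187) (tt N16706 (iv F151542)) (tt N17055 (iv F152816)) (tt N17093 (iv F152991)) (tt N13163 (iv D31099)) (tt N15172 F144188) (tt N17090 (iv F152977)) (tt N15172 F144189) (tt N13166 F144190) (tt N17092 F152988))
theorem Q15174 : ∀ i, i < 15174 → P i := stepQ 15173 Q15173 (allL N15173 (tt N15173 F144191) (tt N16707 (iv F151546)) (tt N17094 (iv F152997)) (tt N13166 F144192) (tt N17092 (iv F152984)) (tt N13164 F144193) (tt N17091 (iv F152982)) (tt N15173 F144194) (tt N17093 (iv F152995)) (tt N13163 (iv D31100)))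
theorem Q15175 : ∀ i, i < 15175 → P i := stepQ 15174 Q15174 (allL N15174 (tt N15174 F144195) (tt N16708 (iv F151550)) (tt N13265 F144196) (tt N13180 F144197) (tt N13169 F144198) (tt N17053 (iv F152804)) (tt N13168 (iv D31101)) (tt N15174 F144199) (tt N13264 F144200) (tt N13262 F144201))
theorem Q15176 : ∀ i, i < 15176 → P i := stepQ 15175 Q15175 (allL N15175 (tt N13172 F144202) (tt N15175 F144203) (tt N16207 (iv F149663)) (tt N15175 F144204) (tt N17023 (iv F152613)) (tt N16095 (iv F149092)) (tt N13184 F144205) (tt N13171 (iv D31102)) (tt N15175 F144206) (tt N13178 F144207))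
theorem Q15177 : ∀ i, i < 15177 → P i := stepQ 15176 Q15176 (allL N15176 (tt N15176 F144208) (tt N16973 (iv F152410)) (tt N13175 F144209) (tt N15176 F144210) (tt N13270 F144211) (tt N13186 F144212) (tt N13173 (iv D31103)) (tt N15176 F144213) (tt N13274 F144214) (tt N13179 F144215))
theorem Q15178 : ∀ i, i < 15178 → P i := stepQ 15177 Q15177 (allL N15177 (tt N15177 F144216) (tt N15432 (iv F145696)) (tt N13270 F144217) (tt N13262 F144218) (tt N13175 F144219) (tt N17095 D33022) (tt N13174 (iv D31104)) (tt N15177 F144220) (tt N13261 F144221) (tt N13180 F144222))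
theorem Q15179 : ∀ i, i < 15179 → P i := stepQ 15178 Q15178 (allL N15178 (tt N15178 F144223) (tt N15431 (iv F145688)) (tt N13274 F144224) (tt N13177 F144225) (tt N13261 F144226) (tt N15250 (iv F144593)) (tt N13176 F144227) (tt N15178 F144228) (tt N13175 (iv D31105)) (tt N13263 F144229))
theorem Q15180 : ∀ i, i < 15180 → P i := stepQ 15179 Q15179 (allL N15179 (tt N15179 F144230) (tt N15434 (iv F145709)) (tt N15179 F144231) (tt N15250 (iv F144591)) (tt N15179 F144232) (tt N13177 (iv D31106)) (tt N15179 F144233) (tt N15179 F144234) (tt N13189 F144235) (tt N15247 (iv F144570)))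
theorem Q15181 : ∀ i, i < 15181 → P i := stepQ 15180 Q15180 (allL N15180 (tt N15180 F144236) (tt N16713 (iv F151573)) (tt N13269 F144237) (tt N17053 (iv F152803)) (tt N13195 F144238) (tt N13180 (iv D31107)) (tt N17071 (iv F152908)) (tt N15180 F144239) (tt N13272 F144240) (tt N17095 (iv F153008)))
theorem Q15182 : ∀ i, i < 15182 → P i := stepQ 15181 Q15181 (allL N15181 (tt N13185 F144241) (tt N15181 F144242) (tt N16715 (iv F151583)) (tt N15181 F144243) (tt N17005 (iv F152533)) (tt N13184 F144244) (tt N17096 D33023) (tt N13183 (iv D31108)) (tt N17003 (iv F152522)) (tt N13191 F144245))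
theorem Q15183 : ∀ i, i < 15183 → P i := stepQ 15182 Q15182 (allL N15182 (tt N17096 (iv F153009)) (tt N13186 F144246) (tt N16718 (iv F151598)) (tt N15182 F144247) (tt N17019 (iv F152592)) (tt N16973 (iv F152413)) (tt N13185 (iv D31109)) (tt N15182 F144248) (tt N17018 (iv F152588)) (tt N13193 F144249))
theorem Q15184 : ∀ i, i < 15184 → P i := stepQ 15183 Q15183 (allL N15183 (tt N15183 F144250) (tt N16724 (iv F151624)) (tt N17050 (iv F152782)) (tt N13255 F144251) (tt N17095 (iv F153005)) (tt N13187 (iv D31110)) (tt N17077 (iv F152933)) (tt N15183 F144252) (tt N17052 (iv F152799)) (tt N13195 F144253))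
theorem Q15185 : ∀ i, i < 15185 → P i := stepQ 15184 Q15184 (allL N15184 (tt N15184 F144254) (tt N15435 (iv F145717)) (tt N17049 (iv F152774)) (tt N13189 F144255) (tt N15251 (iv F144601)) (tt N13188 (iv D31111)) (tt N15184 F144256) (tt N15184 F144257) (tt N15250 F144596) (tt N15184 F144258))
theorem Q15186 : ∀ i, i < 15186 → P i := stepQ 15185 Q15185 (allL N15185 (tt N13192 F144259) (tt N15185 F144260) (tt N16727 (iv F151639)) (tt N17007 (iv F152543)) (tt N13191 F144261) (tt N17081 (iv F152949)) (tt N17097 D33024) (tt N13190 (iv D31112)) (tt N15185 F144262) (tt N17005 F152535))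
theorem Q15187 : ∀ i, i < 15187 → P i := stepQ 15186 Q15186 (allL N15186 (tt N13193 F144263) (tt N15186 F144264) (tt N16292 (iv F149985)) (tt N15186 F144265) (tt N17097 (iv F153016)) (tt N16094 F149086) (tt N13191 (iv D31113)) (tt N15186 F144266) (tt N15186 F144267) (tt N17096 (iv F153013)))
theorem Q15188 : ∀ i, i < 15188 → P i := stepQ 15187 Q15187 (allL N15187 (tt N17097 (iv F153014)) (tt N13194 F144268) (tt N16729 (iv F151646)) (tt N17020 (iv F152597)) (tt N13193 F144269) (tt N16974 (iv F152418)) (tt N13192 (iv D31114)) (tt N15187 F144270) (tt N15187 F144271) (tt N17019 F152595))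
theorem Q15189 : ∀ i, i < 15189 → P i := stepQ 15188 Q15188 (allL N15188 (tt N15188 F144272) (tt N16974 (iv F152417)) (tt N13195 F144273) (tt N17051 (iv F152790)) (tt N13269 F144274) (tt N13194 (iv D31115)) (tt N17086 (iv F152963)) (tt N15188 F144275) (tt N17098 D33025) (tt N17050 (iv F152787)))
theorem Q15190 : ∀ i, i < 15190 → P i := stepQ 15189 Q15189 (allL N15189 (tt N15189 F144276) (tt N16732 (iv F151656)) (tt N17098 (iv F153020)) (tt N13256 F144277) (tt N13272 F144278) (tt N15189 F144279) (tt N17088 (iv F152971)) (tt N15189 F144280) (tt N13195 (iv D31116)) (tt N13271 (iv F144281)))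
theorem Q15191 : ∀ i, i < 15191 → P i := stepQ 15190 Q15190 (allL N15190 (tt N13200 F144282) (tt N15190 F144283) (tt N16735 (iv F151669)) (tt N15985 (iv F148492)) (tt N15586 (iv F146544)) (tt N15935 (iv F148234)) (tt N13196 (iv D31117)) (tt N15617 (iv F146716)) (tt N16387 (iv F150288)) (tt N13197 F144284))
theorem Q15192 : ∀ i, i < 15192 → P i := stepQ 15191 Q15191 (allL N15191 (tt N16387 (iv F150284)) (tt N13220 F144285) (tt N16761 (iv F151759)) (tt N15388 (iv F145407)) (tt N16613 (iv F151155)) (tt N17099 D33026) (tt N13201 F144286) (tt N16645 (iv F151306)) (tt N13200 (iv D31118)) (tt N15386 (iv F145400)))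
theorem Q15193 : ∀ i, i < 15193 → P i := stepQ 15192 Q15192 (allL N15192 (tt N15192 F144287) (tt N15273 (iv F144745)) (tt N13234 F144288) (tt N13203 F144289) (tt N17047 (iv F152764)) (tt N13206 F144290) (tt N13202 (iv D31119)) (tt N13214 F144291) (tt N13231 F144292) (tt N13237 F144293))
theorem Q15194 : ∀ i, i < 15194 → P i := stepQ 15193 Q15193 (allL N15193 (tt N15193 F144294) (tt N15274 (iv F144752)) (tt N13206 F144295) (tt N13231 F144296) (tt N13238 F144297) (tt N13234 F144298) (tt N13204 F144299) (tt N13215 F144300) (tt N13203 (iv D31120)) (tt N17066 (iv F152878)))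
theorem Q15195 : ∀ i, i < 15195 → P i := stepQ 15194 Q15194 (allL N15194 (tt N15194 F144301) (tt N16876 (iv F152073)) (tt N13238 F144302) (tt N17025 (iv F152627)) (tt N13206 F144303) (tt N17100 D33027) (tt N13205 (iv D31121)) (tt N13222 F144304) (tt N13212 F144305) (tt N17067 (iv F152885)))
theorem Q15196 : ∀ i, i < 15196 → P i := stepQ 15195 Q15195 (allL N15195 (tt N15195 F144306) (tt N15375 (iv F145333)) (tt N13236 F144307) (tt N13209 F144308) (tt N17028 (iv F152648)) (tt N13226 F144309) (tt N13208 F144310) (tt N13223 F144311) (tt N17070 (iv F152904)) (tt N13207 (iv D31122)))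
theorem Q15197 : ∀ i, i < 15197 → P i := stepQ 15196 Q15196 (allL N15196 (tt N15196 F144312) (tt N15377 (iv F145346)) (tt N13222 F144313) (tt N17070 (iv F152900)) (tt N13215 F144314) (tt N17101 D33028) (tt N13210 F144315) (tt N13238 F144316) (tt N13209 (iv D31123)) (tt N17068 (iv F152892)))
theorem Q15198 : ∀ i, i < 15198 → P i := stepQ 15197 Q15197 (allL N15197 (tt N15197 F144317) (tt N16875 (iv F152068)) (tt N13249 F144318) (tt N13212 F144319) (tt N17026 (iv F152635)) (tt N13218 F144320) (tt N13211 (iv D31124)) (tt N13237 F144321) (tt N17025 (iv F152630)) (tt N13214 F144322))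
theorem Q15199 : ∀ i, i < 15199 → P i := stepQ 15198 Q15198 (allL N15198 (tt N15198 F144323) (tt N16912 (iv F152206)) (tt N13247 F144324) (tt N17028 (iv F152647)) (tt N13214 F144325) (tt N17102 D33029) (tt N13213 (iv D31125)) (tt N17047 (iv F152766)) (tt N13245 F144326) (tt N17026 (iv F152638)))
theorem Q15200 : ∀ i, i < 15200 → P i := stepQ 15199 Q15199 (allL N15199 (tt N15199 F144327) (tt N16935 (iv F152273)) (tt N13218 F144328) (tt N13239 F144329) (tt N17068 (iv F152889)) (tt N13249 F144330) (tt N13216 F144331) (tt N17066 (iv F152876)) (tt N17067 (iv F152884)) (tt N13215 (iv D31126)))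
theorem Q15201 : ∀ i, i < 15201 → P i := stepQ 15200 Q15200 (allL N15200 (tt N15200 F144332) (tt N16910 (iv F152200)) (tt N17068 (iv F152887)) (tt N17037 (iv F152711)) (tt N13218 F144333) (tt N17103 D33030) (tt N13217 (iv D31127)) (tt N17067 (iv F152883)) (tt N17066 (iv F152877)) (tt N13222 F144334))
theorem Q15202 : ∀ i, i < 15202 → P i := stepQ 15201 Q15201 (allL N15201 (tt N15201 F144335) (tt N15388 (iv F145406)) (tt N17067 (iv F152880)) (tt N13220 F144336) (tt N17066 (iv F152874)) (tt N17104 D33031) (tt N13219 F144337) (tt N17068 (iv F152891)) (tt N13218 (iv D31128)) (tt N13238 F144338))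
theorem Q15203 : ∀ i, i < 15203 → P i := stepQ 15202 Q15202 (allL N15202 (tt N15202 F144339) (tt N17099 (iv F153025)) (tt N13243 F144340) (tt N17104 (iv F153046)) (tt N17105 D33032) (tt N13220 (iv D31129)) (tt N13266 F144341) (tt N17069 (iv F152896)) (tt N17100 (iv F153031)) (tt N17106 D33033))
theorem Q15204 : ∀ i, i < 15204 → P i := stepQ 15203 Q15203 (allL N15203 (tt N15203 F144342) (tt N15386 (iv F145397)) (tt N13244 F144343) (tt N13238 F144344) (tt N17040 (iv F152731)) (tt N17106 (iv F153055)) (tt N13221 F144345) (tt N17070 (iv F152903)) (tt N13223 F144346) (tt N13220 (iv D31130)))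
theorem Q15205 : ∀ i, i < 15205 → P i := stepQ 15204 Q15204 (allL N15204 (tt N15204 F144347) (tt N16909 (iv F152198)) (tt N17101 (iv F153033)) (tt N17045 (iv F152756)) (tt N17102 (iv F153040)) (tt N13222 (iv D31131)) (tt N15204 F144348) (tt N17100 (iv F153030)) (tt N17069 (iv F152897)) (tt N17103 (iv F153044)))
theorem Q15206 : ∀ i, i < 15206 → P i := stepQ 15205 Q15205 (allL N15205 (tt N15205 F144349) (tt N16903 (iv F152177)) (tt N13226 F144350) (tt N17066 (iv F152873)) (tt N17038 (iv F152719)) (tt N13236 F144351) (tt N13224 (iv D31132)) (tt N13239 F144352) (tt N17037 (iv F152714)) (tt N13231 F144353))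
theorem Q15207 : ∀ i, i < 15207 → P i := stepQ 15206 Q15206 (allL N15206 (tt N15206 F144354) (tt N16883 (iv F152100)) (tt N17038 (iv F152717)) (tt N17031 (iv F152669)) (tt N13226 F144355) (tt N17107 D33034) (tt N13225 (iv D31133)) (tt N13240 F144356) (tt N17036 (iv F152707)) (tt N13232 F144357))
theorem Q15208 : ∀ i, i < 15208 → P i := stepQ 15207 Q15207 (allL N15207 (tt N15207 F144358) (tt N16885 (iv F152110)) (tt N17037 (iv F152710)) (tt N13228 F144359) (tt N17036 (iv F152704)) (tt N17108 D33035) (tt N13227 F144360) (tt N13241 F144361) (tt N13226 (iv D31134)) (tt N17043 (iv F152747)))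
theorem Q15209 : ∀ i, i < 15209 → P i := stepQ 15208 Q15208 (allL N15208 (tt N15208 F144362) (tt N16887 (iv F152120)) (tt N17069 (iv F152894)) (tt N17108 (iv F153063)) (tt N17109 D33036) (tt N13228 (iv D31135)) (tt N15208 F144363) (tt N13243 F144364) (tt N17101 (iv F153037)) (tt N17110 D33037))
theorem Q15210 : ∀ i, i < 15210 → P i := stepQ 15209 Q15209 (allL N15209 (tt N15209 F144365) (tt N16888 (iv F152123)) (tt N17070 (iv F152899)) (tt N17043 (iv F152743)) (tt N17034 (iv F152690)) (tt N17110 (iv F153072)) (tt N13229 F144366) (tt N13244 F144367) (tt N13236 F144368) (tt N13228 (iv D31136)))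
theorem Q15211 : ∀ i, i < 15211 → P i := stepQ 15210 Q15210 (allL N15210 (tt N15210 F144369) (tt N16902 (iv F152174)) (tt N13232 F144370) (tt N17040 (iv F152730)) (tt N13231 F144371) (tt N17064 (iv F152864)) (tt N13230 (iv D31137)) (tt N13245 F144372) (tt N17047 (iv F152767)) (tt N17038 F152722))
theorem Q15212 : ∀ i, i < 15212 → P i := stepQ 15211 Q15211 (allL N15211 (tt N15211 F144373) (tt N16898 (iv F152157)) (tt N17064 (iv F152863)) (tt N17060 (iv F152841)) (tt N17027 (iv F152641)) (tt N13232 (iv D31138)) (tt N15211 F144374) (tt N13246 F144375) (tt N17079 (iv F152942)) (tt N17107 (iv F153061)))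
theorem Q15213 : ∀ i, i < 15213 → P i := stepQ 15212 Q15212 (allL N15212 (tt N15212 F144376) (tt N16899 (iv F152160)) (tt N17047 (iv F152762)) (tt N17061 (iv F152846)) (tt N13234 F144377) (tt N17111 D33038) (tt N13233 F144378) (tt N13247 F144379) (tt N13232 (iv D31139)) (tt N17044 (iv F152754)))
theorem Q15214 : ∀ i, i < 15214 → P i := stepQ 15213 Q15213 (allL N15213 (tt N15213 F144380) (tt N16901 (iv F152170)) (tt N13237 F144381) (tt N13236 F144382) (tt N17044 (iv F152751)) (tt N17066 (iv F152875)) (tt N13235 F144383) (tt N13249 F144384) (tt N17043 (iv F152746)) (tt N13234 (iv D31140)))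
theorem Q15215 : ∀ i, i < 15215 → P i := stepQ 15214 Q15214 (allL N15214 (tt N15214 F144385) (tt N15387 (iv F145402)) (tt N17100 (iv F153028)) (tt N17106 (iv F153054)) (tt N17111 (iv F153076)) (tt N13238 (iv D31141)) (tt N13268 F144386) (tt N17101 (iv F153036)) (tt N13243 F144387) (tt N17104 (iv F153048)))
theorem Q15216 : ∀ i, i < 15216 → P i := stepQ 15215 Q15215 (allL N15215 (tt N15215 F144388) (tt N16917 (iv F152221)) (tt N17072 (iv F152911)) (tt N17077 (iv F152932)) (tt N17048 (iv F152770)) (tt N13240 (iv D31142)) (tt N13255 F144389) (tt N17107 (iv F153060)) (tt N17087 (iv F152967)) (tt N13246 F144390))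
theorem Q15217 : ∀ i, i < 15217 → P i := stepQ 15216 Q15216 (allL N15216 (tt N15216 F144391) (tt N16920 (iv F152234)) (tt N17071 (iv F152906)) (tt N13243 F144392) (tt N17086 (iv F152962)) (tt N13241 (iv D31143)) (tt N13269 F144393) (tt N17108 (iv F153065)) (tt N17106 F153057) (tt N17112 D33039))
theorem Q15218 : ∀ i, i < 15218 → P i := stepQ 15217 Q15217 (allL N15217 (tt N15217 F144394) (tt N16921 (iv F152237)) (tt N17025 (iv F152626)) (tt N13244 F144395) (tt N17024 (iv F152620)) (tt N17112 (iv F153082)) (tt N13242 F144396) (tt N17043 (iv F152745)) (tt N13249 F144397) (tt N13241 (iv D31144)))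
theorem Q15219 : ∀ i, i < 15219 → P i := stepQ 15218 Q15218 (allL N15218 (tt N15218 F144398) (tt N16922 (iv F152241)) (tt N17105 (iv F153050)) (tt N17113 D33040) (tt N13243 (iv D31145)) (tt N17079 (iv F152939)) (tt N13271 F144399) (tt N17109 (iv F153069)) (tt N17111 (iv F153079)) (tt N17088 F152972))
theorem Q15220 : ∀ i, i < 15220 → P i := stepQ 15219 Q15219 (allL N15219 (tt N15219 F144400) (tt N16923 (iv F152243)) (tt N17106 (iv F153053)) (tt N17112 (iv F153081)) (tt N17088 (iv F152970)) (tt N13244 F144401) (tt N13272 F144402) (tt N17110 (iv F153074)) (tt N17071 (iv F152909)) (tt N13243 (iv D31146)))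
theorem Q15221 : ∀ i, i < 15221 → P i := stepQ 15220 Q15220 (allL N15220 (tt N15220 F144403) (tt N16932 (iv F152266)) (tt N17073 (iv F152918)) (tt N17088 (iv F152969)) (tt N17033 F152686) (tt N17109 (iv F153067)) (tt N13256 F144404) (tt N17079 (iv F152941)) (tt N13246 (iv D31147)) (tt N17113 (iv F153086)))
theorem Q15222 : ∀ i, i < 15222 → P i := stepQ 15221 Q15221 (allL N15221 (tt N15221 F144405) (tt N16933 (iv F152268)) (tt N17102 (iv F153039)) (tt N17089 (iv F152974)) (tt N17101 (iv F153034)) (tt N13247 (iv D31148)) (tt N15221 F144406) (tt N17111 (iv F153078)) (tt N17109 (iv F153070)) (tt N17114 D33041))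
theorem Q15223 : ∀ i, i < 15223 → P i := stepQ 15222 Q15222 (allL N15222 (tt N15222 F144407) (tt N16934 (iv F152270)) (tt N17026 (iv F152633)) (tt N17059 (iv F152835)) (tt N13249 F144408) (tt N17114 (iv F153088)) (tt N13248 F144409) (tt N17044 (iv F152753)) (tt N17024 (iv F152623)) (tt N13247 (iv D31149)))
theorem Q15224 : ∀ i, i < 15224 → P i := stepQ 15223 Q15223 (allL N15223 (tt N15223 F144410) (tt N16950 (iv F152332)) (tt N17093 (iv F152990)) (tt N13271 F144411) (tt N17051 (iv F152791)) (tt N15223 F144412) (tt N17113 (iv F153085)) (tt N15223 F144413) (tt N17094 (iv F153001)) (tt N13256 (iv D31150)))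
theorem Q15225 : ∀ i, i < 15225 → P i := stepQ 15224 Q15224 (allL N15224 (tt N16246 (iv F149799)) (tt N13262 F144414) (tt N15316 (iv F145007)) (tt N15432 (iv F145697)) (tt N15235 (iv F144471)) (tt N17115 D33042) (tt N13259 F144415) (tt N15224 F144416) (tt N13258 (iv D31151)) (tt N16708 (iv F151555)))
theorem Q15226 : ∀ i, i < 15226 → P i := stepQ 15225 Q15225 (allL N15225 (tt N16393 (iv F150305)) (tt N13266 F144417) (tt N16955 (iv F152352)) (tt N15392 (iv F145430)) (tt N17116 D33043) (tt N13260 (iv D31152)) (tt N17099 (iv F153026)) (tt N15225 F144418) (tt N17115 (iv F153092)) (tt N15390 (iv F145422)))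
theorem Q15227 : ∀ i, i < 15227 → P i := stepQ 15226 Q15226 (allL N15226 (tt N15226 F144419) (tt N17115 (iv F153090)) (tt N13268 F144420) (tt N17095 (iv F153004)) (tt N17054 (iv F152811)) (tt N13262 (iv D31153)) (tt N17100 (iv F153029)) (tt N15226 F144421) (tt N13266 F144422) (tt N17053 F152807))
theorem Q15228 : ∀ i, i < 15228 → P i := stepQ 15227 Q15227 (allL N15227 (tt N15227 F144423) (tt N15392 (iv F145429)) (tt N17053 (iv F152802)) (tt N13266 F144424) (tt N17052 (iv F152797)) (tt N13265 (iv D31154)) (tt N17104 (iv F153047)) (tt N15227 F144425) (tt N17095 (iv F153007)) (tt N13268 F144426))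
theorem Q15229 : ∀ i, i < 15229 → P i := stepQ 15228 Q15228 (allL N15228 (tt N15228 F144427) (tt N17116 (iv F153093)) (tt N13271 F144428) (tt N17055 (iv F152817)) (tt N13266 (iv D31155)) (tt N15228 F144429) (tt N17105 (iv F153051)) (tt N15228 F144430) (tt N17054 F152814) (tt N17098 (iv F153024)))
theorem Q15230 : ∀ i, i < 15230 → P i := stepQ 15229 Q15229 (allL N15229 (tt N15229 F144431) (tt N15390 (iv F145418)) (tt N13272 F144432) (tt N13268 F144433) (tt N17098 (iv F153021)) (tt N13267 F144434) (tt N17106 (iv F153056)) (tt N15229 F144435) (tt N13269 (iv F144436)) (tt N13266 (iv D31156)))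
theorem Q15231 : ∀ i, i < 15231 → P i := stepQ 15230 Q15230 (allL N15230 (tt N15230 F144437) (tt N15391 (iv F145424)) (tt N17054 (iv F152809)) (tt N17094 (iv F152998)) (tt N13268 (iv D31157)) (tt N15236 (iv F144479)) (tt N17111 (iv F153077)) (tt N15230 F144438) (tt N13271 F144439) (tt N17052 (iv F152800)))
theorem Q15232 : ∀ i, i < 15232 → P i := stepQ 15231 Q15231 (allL N15231 (tt N15231 F144440) (tt N16975 (iv F152420)) (tt N17095 (iv F153003)) (tt N13272 F144441) (tt N17050 (iv F152784)) (tt N13270 F144442) (tt N17112 (iv F153083)) (tt N15231 F144443) (tt N17053 (iv F152806)) (tt N13269 (iv D31158)))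
theorem Q15233 : ∀ i, i < 15233 → P i := stepQ 15232 Q15232 (allL N15232 (tt N15232 F144444) (tt N16976 (iv F152424)) (tt N15250 (iv F144590)) (tt N15232 F144445) (tt N15249 (iv F144583)) (tt N13274 F144446) (tt N15232 F144447) (tt N15232 F144448) (tt N17049 (iv F152779)) (tt N13273 (iv D31159)))
theorem Q15234 : ∀ i, i < 15234 → P i := stepQ 15233 Q15233 (allL N15233 (tt N13277 F144449) (tt N15233 F144450) (tt N13346 F144451) (tt N14267 F144452) (tt N14438 F144453) (tt N15233 F144454) (tt N13275 (iv D31160)) (tt N15233 F144455) (tt N14266 F144456) (tt N13286 F144457))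
theorem Q15235 : ∀ i, i < 15235 → P i := stepQ 15234 Q15234 (allL N15234 (tt N14267 F144458) (tt N13279 F144459) (tt N13697 F144460) (tt N13277 F144461) (tt N14708 F144462) (tt N15234 F144463) (tt N13276 (iv D31161)) (tt N15234 F144464) (tt N13328 F144465) (tt N13291 F144466))
theorem Q15236 : ∀ i, i < 15236 → P i := stepQ 15235 Q15235 (allL N15235 (tt N14266 F144467) (tt N13280 F144468) (tt N13368 F144469) (tt N13328 F144470) (tt N15224 F144471) (tt N13334 (iv F144474)) (tt N13278 F144472) (tt N15235 F144473) (tt N13277 (iv D31162)) (tt N14700 (iv F144475)))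
theorem Q15237 : ∀ i, i < 15237 → P i := stepQ 15236 Q15236 (allL N15236 (tt N15236 F144476) (tt N13427 F144477) (tt N15113 F144478) (tt N15171 (iv F144484)) (tt N13281 (iv D31163)) (tt N15230 F144479) (tt N15110 F144480) (tt N15236 F144481) (tt N15236 F144482) (tt N15109 F144483))
theorem Q15238 : ∀ i, i < 15238 → P i := stepQ 15237 Q15237 (allL N15237 (tt N13290 F144485) (tt N15237 F144486) (tt N13292 F144487) (tt N13454 F144488) (tt N13284 F144489) (tt N15237 F144490) (tt N14439 (iv F144493)) (tt N13283 (iv D31164)) (tt N13289 F144491) (tt N13694 F144492))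
theorem Q15239 : ∀ i, i < 15239 → P i := stepQ 15238 Q15238 (allL N15238 (tt N13291 F144494) (tt N15238 F144495) (tt N14714 F144496) (tt N13286 F144497) (tt N14439 F144498) (tt N15238 F144499) (tt N13284 (iv D31165)) (tt N15238 F144500) (tt N17117 D33044) (tt N14267 F144501))
theorem Q15240 : ∀ i, i < 15240 → P i := stepQ 15239 Q15239 (allL N15239 (tt N13292 F144502) (tt N15239 F144503) (tt N13290 F144504) (tt N13287 F144505) (tt N13289 F144506) (tt N15239 F144507) (tt N17117 (iv F153101)) (tt N13285 F144508) (tt N13284 (iv D31166)) (tt N13688 F144509))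
theorem Q15241 : ∀ i, i < 15241 → P i := stepQ 15240 Q15240 (allL N15240 (tt N13293 F144510) (tt N15240 F144511) (tt N13444 F144512) (tt N17117 (iv F153099)) (tt N14088 F144513) (tt N17118 D33045) (tt N13287 F144514) (tt N15240 F144515) (tt N13286 (iv D31167)) (tt N17119 D33046))
theorem Q15242 : ∀ i, i < 15242 → P i := stepQ 15241 Q15241 (allL N15241 (tt N13294 F144516) (tt N15241 F144517) (tt N13445 F144518) (tt N13688 F144519) (tt N14094 F144520) (tt N15241 F144521) (tt N17119 (iv F153118)) (tt N13288 F144522) (tt N13686 F144523) (tt N13287 (iv D31168)))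
theorem Q15243 : ∀ i, i < 15243 → P i := stepQ 15242 Q15242 (allL N15242 (tt N14714 F144524) (tt N15242 F144525) (tt N13291 F144526) (tt N13453 F144527) (tt N17117 (iv F153100)) (tt N15242 F144528) (tt N13289 (iv D31169)) (tt N15242 F144529) (tt N14439 F144530) (tt N13697 F144531))
theorem Q15244 : ∀ i, i < 15244 → P i := stepQ 15243 Q15243 (allL N15243 (tt N14439 F144532) (tt N13295 F144533) (tt N17117 (iv F153098)) (tt N13481 F144534) (tt N13291 F144535) (tt N13483 (iv F144539)) (tt N13290 (iv D31170)) (tt N15243 F144536) (tt N14714 F144537) (tt N14708 F144538))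
theorem Q15245 : ∀ i, i < 15245 → P i := stepQ 15244 Q15244 (allL N15244 (tt N17117 (iv F153096)) (tt N13296 F144540) (tt N14439 F144541) (tt N13293 F144542) (tt N14714 F144543) (tt N14442 (iv F144547)) (tt N13292 F144544) (tt N15244 F144545) (tt N13291 (iv D31171)) (tt N14701 F144546))
theorem Q15246 : ∀ i, i < 15246 → P i := stepQ 15245 Q15245 (allL N15245 (tt N17118 (iv F153105)) (tt N13297 F144548) (tt N13461 F144549) (tt N14442 F144550) (tt N15000 F144551) (tt N13293 (iv D31172)) (tt N15245 F144552) (tt N15245 F144553) (tt N15245 F144554) (tt N17120 D33047))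
theorem Q15247 : ∀ i, i < 15247 → P i := stepQ 15246 Q15246 (allL N15246 (tt N17119 (iv F153113)) (tt N13298 F144555) (tt N13462 F144556) (tt N14701 F144557) (tt N15002 F144558) (tt N17120 (iv F153125)) (tt N13294 F144559) (tt N15246 F144560) (tt N14700 F144561) (tt N13293 (iv D31173)))
theorem Q15248 : ∀ i, i < 15248 → P i := stepQ 15247 Q15247 (allL N15247 (tt N15247 F144562) (tt N13483 F144563) (tt N15247 F144564) (tt N13299 F144565) (tt N15247 F144566) (tt N13295 (iv D31174)) (tt N15247 F144567) (tt N15247 F144568) (tt N15247 F144569) (tt N15179 F144570))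
theorem Q15249 : ∀ i, i < 15249 → P i := stepQ 15248 Q15248 (allL N15248 (tt N15248 F144571) (tt N14442 F144572) (tt N15248 F144573) (tt N13297 F144574) (tt N15248 F144575) (tt N13296 (iv D31175)) (tt N15248 F144576) (tt N15248 F144577) (tt N15248 F144578) (tt N15115 F144579))
theorem Q15250 : ∀ i, i < 15250 → P i := stepQ 15249 Q15249 (allL N15249 (tt N15249 F144580) (tt N17120 (iv F153121)) (tt N13300 F144581) (tt N15115 F144582) (tt N15232 F144583) (tt N13298 F144584) (tt N15249 F144585) (tt N15249 F144586) (tt N15111 (iv F144587)) (tt N13297 (iv D31176)))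
theorem Q15251 : ∀ i, i < 15251 → P i := stepQ 15250 Q15250 (allL N15250 (tt N15250 F144588) (tt N13484 F144589) (tt N15232 F144590) (tt N15179 F144591) (tt N13300 F144592) (tt N15178 F144593) (tt N15250 F144594) (tt N15250 F144595) (tt N15184 (iv F144596)) (tt N13299 (iv D31177)))
theorem Q15252 : ∀ i, i < 15252 → P i := stepQ 15251 Q15251 (allL N15251 (tt N15251 F144597) (tt N13485 F144598) (tt N15111 F144599) (tt N15251 F144600) (tt N15184 F144601) (tt N15108 F144602) (tt N15251 F144603) (tt N15251 F144604) (tt N13300 (iv D31178)) (tt N15251 F144605))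
theorem Q15253 : ∀ i, i < 15253 → P i := stepQ 15252 Q15252 (allL N15252 (tt N14233 F144606) (tt N14808 F144607) (tt N13303 F144608) (tt N13319 F144609) (tt N17121 D33048) (tt N13302 (iv D31179)) (tt N14750 F144610) (tt N17122 D33049) (tt N14804 F144611) (tt N14817 F144612))
theorem Q15254 : ∀ i, i < 15254 → P i := stepQ 15253 Q15253 (allL N15253 (tt N14234 F144613) (tt N15013 F144614) (tt N13304 F144615) (tt N13320 F144616) (tt N13564 F144617) (tt N17122 (iv F153140)) (tt N14744 F144618) (tt N13302 (iv D31180)) (tt N13307 F144619) (tt N14818 F144620))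
theorem Q15255 : ∀ i, i < 15255 → P i := stepQ 15254 Q15254 (allL N15254 (tt N14235 F144621) (tt N14791 F144622) (tt N17121 (iv F153131)) (tt N13381 F144623) (tt N13303 (iv D31181)) (tt N13565 F144624) (tt N14752 F144625) (tt N17123 D33050) (tt N17124 D33051) (tt N14819 F144626))
theorem Q15256 : ∀ i, i < 15256 → P i := stepQ 15255 Q15255 (allL N15255 (tt N14236 F144627) (tt N14792 F144628) (tt N17122 (iv F153138)) (tt N13305 F144629) (tt N17123 (iv F153146)) (tt N13304 F144630) (tt N17125 D33052) (tt N13303 (iv D31182)) (tt N17126 D33053) (tt N14820 F144631))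
theorem Q15257 : ∀ i, i < 15257 → P i := stepQ 15256 Q15256 (allL N15256 (tt N14237 F144632) (tt N14743 F144633) (tt N14804 F144634) (tt N13306 F144635) (tt N17124 (iv F153153)) (tt N13310 F144636) (tt N14754 F144637) (tt N17126 (iv F153166)) (tt N13303 (iv D31183)) (tt N17127 D33054))
theorem Q15258 : ∀ i, i < 15258 → P i := stepQ 15257 Q15257 (allL N15257 (tt N14238 F144638) (tt N14793 F144639) (tt N13323 F144640) (tt N17125 (iv F153157)) (tt N13384 F144641) (tt N14748 F144642) (tt N13305 (iv D31184)) (tt N14755 F144643) (tt N17128 D33055) (tt N14822 F144644))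
theorem Q15259 : ∀ i, i < 15259 → P i := stepQ 15258 Q15258 (allL N15258 (tt N14239 F144645) (tt N14794 F144646) (tt N13324 F144647) (tt N17126 (iv F153164)) (tt N13385 F144648) (tt N13311 F144649) (tt N17128 (iv F153179)) (tt N13306 F144650) (tt N13305 (iv D31185)) (tt N17129 D33056))
theorem Q15260 : ∀ i, i < 15260 → P i := stepQ 15259 Q15259 (allL N15259 (tt N14240 F144651) (tt N14626 F144652) (tt N13325 F144653) (tt N17127 (iv F153170)) (tt N13386 F144654) (tt N13312 F144655) (tt N14757 F144656) (tt N17129 (iv F153186)) (tt N14824 F144657) (tt N13306 (iv D31186)))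
theorem Q15261 : ∀ i, i < 15261 → P i := stepQ 15260 Q15260 (allL N15260 (tt N14242 F144658) (tt N13572 F144659) (tt N15003 F144660) (tt N13313 F144661) (tt N13309 F144662) (tt N13584 F144663) (tt N13580 F144664) (tt N13308 (iv D31187)) (tt N17130 D33057) (tt N15260 F144665))
theorem Q15262 : ∀ i, i < 15262 → P i := stepQ 15261 Q15261 (allL N15261 (tt N14243 F144666) (tt N13550 F144667) (tt N14781 F144668) (tt N13314 F144669) (tt N13310 F144670) (tt N17131 D33058) (tt N13549 F144671) (tt N17130 (iv F153194)) (tt N13308 (iv D31188)) (tt N17132 D33059))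
theorem Q15263 : ∀ i, i < 15263 → P i := stepQ 15262 Q15262 (allL N15262 (tt N14244 F144672) (tt N14744 F144673) (tt N14805 F144674) (tt N13311 F144675) (tt N17130 (iv F153192)) (tt N17126 (iv F153165)) (tt N15013 F144676) (tt N13310 F144677) (tt N13309 (iv D31189)) (tt N17133 D33060))
theorem Q15264 : ∀ i, i < 15264 → P i := stepQ 15263 Q15263 (allL N15263 (tt N14245 F144678) (tt N14523 F144679) (tt N14795 F144680) (tt N13312 F144681) (tt N17132 (iv F153204)) (tt N17127 (iv F153171)) (tt N14522 F144682) (tt N17133 (iv F153212)) (tt N15263 F144683) (tt N13310 (iv D31190)))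
theorem Q15265 : ∀ i, i < 15265 → P i := stepQ 15264 Q15264 (allL N15264 (tt N14246 F144684) (tt N14627 F144685) (tt N13326 F144686) (tt N17133 (iv F153210)) (tt N13318 F144687) (tt N17129 (iv F153185)) (tt N14903 F144688) (tt N13312 F144689) (tt N15264 F144690) (tt N13311 (iv D31191)))
theorem Q15266 : ∀ i, i < 15266 → P i := stepQ 15265 Q15265 (allL N15265 (tt N14247 F144691) (tt N13635 F144692) (tt N15265 F144693) (tt N17130 (iv F153191)) (tt N13315 F144694) (tt N17134 D33061) (tt N13654 F144695) (tt N13314 F144696) (tt N13313 (iv D31192)) (tt N17135 D33062))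
theorem Q15267 : ∀ i, i < 15267 → P i := stepQ 15266 Q15266 (allL N15266 (tt N14248 F144697) (tt N13634 F144698) (tt N15266 F144699) (tt N17131 (iv F153198)) (tt N13399 F144700) (tt N13314 (iv D31193)) (tt N17136 D33063) (tt N17134 (iv F153218)) (tt N13593 F144701) (tt N17137 D33064))
theorem Q15268 : ∀ i, i < 15268 → P i := stepQ 15267 Q15267 (allL N15267 (tt N14249 F144702) (tt N13628 F144703) (tt N15267 F144704) (tt N17132 (iv F153203)) (tt N13316 F144705) (tt N17137 (iv F153238)) (tt N13627 F144706) (tt N17135 (iv F153225)) (tt N15267 F144707) (tt N13314 (iv D31194)))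
theorem Q15269 : ∀ i, i < 15269 → P i := stepQ 15268 Q15268 (allL N15268 (tt N14250 F144708) (tt N13690 F144709) (tt N15268 F144710) (tt N13318 F144711) (tt N17135 (iv F153223)) (tt N13402 F144712) (tt N13700 F144713) (tt N13316 F144714) (tt N15268 F144715) (tt N13315 (iv D31195)))
theorem Q15270 : ∀ i, i < 15270 → P i := stepQ 15269 Q15269 (allL N15269 (tt N14251 F144716) (tt N13332 F144717) (tt N13327 F144718) (tt N13712 F144719) (tt N17138 D33065) (tt N13317 (iv D31196)) (tt N13403 F144720) (tt N13330 F144721) (tt N15269 F144722) (tt N14947 F144723))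
theorem Q15271 : ∀ i, i < 15271 → P i := stepQ 15270 Q15270 (allL N15270 (tt N14257 F144724) (tt N14891 F144725) (tt N13321 F144726) (tt N17139 D33066) (tt N13319 (iv D31197)) (tt N13331 F144727) (tt N14928 F144728) (tt N17140 D33067) (tt N14887 F144729) (tt N14904 F144730))
theorem Q15272 : ∀ i, i < 15272 → P i := stepQ 15271 Q15271 (allL N15271 (tt N14258 F144731) (tt N14893 F144732) (tt N13322 F144733) (tt N17122 (iv F153139)) (tt N17140 (iv F153258)) (tt N13320 F144734) (tt N17141 D33068) (tt N13319 (iv D31198)) (tt N14888 F144735) (tt N14905 F144736))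
theorem Q15273 : ∀ i, i < 15273 → P i := stepQ 15272 Q15272 (allL N15272 (tt N14259 F144737) (tt N15093 F144738) (tt N17140 (iv F153257)) (tt N13416 F144739) (tt N13322 F144740) (tt N13333 F144741) (tt N17142 D33069) (tt N13321 (iv D31199)) (tt N15021 F144742) (tt N14907 F144743))
theorem Q15274 : ∀ i, i < 15274 → P i := stepQ 15273 Q15273 (allL N15273 (tt N14260 F144744) (tt N15192 F144745) (tt N17141 (iv F153264)) (tt N13323 F144746) (tt N17142 (iv F153272)) (tt N14874 F144747) (tt N13322 (iv D31200)) (tt N14913 F144748) (tt N14901 F144749) (tt N14908 F144750))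
theorem Q15275 : ∀ i, i < 15275 → P i := stepQ 15274 Q15274 (allL N15274 (tt N14261 F144751) (tt N15193 F144752) (tt N17128 (iv F153176)) (tt N14901 F144753) (tt N13420 F144754) (tt N14899 F144755) (tt N13324 F144756) (tt N14939 F144757) (tt N13323 (iv D31201)) (tt N17143 D33070))
theorem Q15276 : ∀ i, i < 15276 → P i := stepQ 15275 Q15275 (allL N15275 (tt N14262 F144758) (tt N15128 F144759) (tt N17129 (iv F153183)) (tt N15022 F144760) (tt N13421 F144761) (tt N13326 F144762) (tt N17143 (iv F153281)) (tt N13325 F144763) (tt N14911 F144764) (tt N13324 (iv D31202)))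
theorem Q15277 : ∀ i, i < 15277 → P i := stepQ 15276 Q15276 (allL N15276 (tt N14263 F144765) (tt N15110 F144766) (tt N17138 (iv F153242)) (tt N15169 (iv F144772)) (tt N13327 (iv D31203)) (tt N14896 F144767) (tt N13427 F144768) (tt N14897 F144769) (tt N15276 F144770) (tt N15107 F144771))
theorem Q15278 : ∀ i, i < 15278 → P i := stepQ 15277 Q15277 (allL N15277 (tt N13330 F144773) (tt N14268 F144774) (tt N14194 F144775) (tt N13709 F144776) (tt N17144 D33071) (tt N13329 (iv D31204)) (tt N15277 F144777) (tt N14251 F144778) (tt N15277 F144779) (tt N14945 F144780))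
theorem Q15279 : ∀ i, i < 15279 → P i := stepQ 15278 Q15278 (allL N15278 (tt N17144 (iv F153284)) (tt N13331 F144781) (tt N14897 F144782) (tt N17145 D33072) (tt N13330 (iv D31205)) (tt N14891 F144783) (tt N15278 F144784) (tt N17138 (iv F153245)) (tt N15278 F144785) (tt N14946 F144786))
theorem Q15280 : ∀ i, i < 15280 → P i := stepQ 15279 Q15279 (allL N15279 (tt N14271 F144787) (tt N17145 (iv F153292)) (tt N13429 F144788) (tt N13331 (iv D31206)) (tt N13713 F144789) (tt N17139 (iv F153251)) (tt N15279 F144790) (tt N17146 D33073) (tt N15279 F144791) (tt N14500 F144792))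
theorem Q15281 : ∀ i, i < 15281 → P i := stepQ 15280 Q15280 (allL N15280 (tt N14272 F144793) (tt N17138 (iv F153241)) (tt N13333 F144794) (tt N17146 (iv F153301)) (tt N13332 F144795) (tt N17140 (iv F153259)) (tt N17147 D33074) (tt N13331 (iv D31207)) (tt N15280 F144796) (tt N14949 F144797))
theorem Q15282 : ∀ i, i < 15282 → P i := stepQ 15281 Q15281 (allL N15281 (tt N14273 F144798) (tt N13403 F144799) (tt N13334 F144800) (tt N13715 F144801) (tt N17147 (iv F153308)) (tt N13368 F144802) (tt N13332 (iv D31208)) (tt N15281 F144803) (tt N15281 F144804) (tt N14950 F144805))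
theorem Q15283 : ∀ i, i < 15283 → P i := stepQ 15282 Q15282 (allL N15282 (tt N14274 F144806) (tt N15113 F144807) (tt N17147 (iv F153307)) (tt N13432 F144808) (tt N13334 F144809) (tt N17148 D33075) (tt N13333 (iv D31209)) (tt N15282 F144810) (tt N15282 F144811) (tt N14952 F144812))
theorem Q15284 : ∀ i, i < 15284 → P i := stepQ 15283 Q15283 (allL N15283 (tt N14182 F144813) (tt N13335 (iv D31210)) (tt N14137 F144814) (tt N13894 F144815) (tt N13729 F144816) (tt N13832 F144817) (tt N17149 D33076) (tt N14139 F144818) (tt N13339 F144819) (tt N14138 F144820))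
theorem Q15285 : ∀ i, i < 15285 → P i := stepQ 15284 Q15284 (allL N15284 (tt N13349 F144821) (tt N17149 (iv F153320)) (tt N13336 F144822) (tt N13895 F144823) (tt N13730 F144824) (tt N17150 D33077) (tt N13335 (iv D31211)) (tt N17151 D33078) (tt N13340 F144825) (tt N14179 F144826))
theorem Q15286 : ∀ i, i < 15286 → P i := stepQ 15285 Q15285 (allL N15285 (tt N13350 F144827) (tt N14275 F144828) (tt N17150 (iv F153327)) (tt N13337 F144829) (tt N17152 D33079) (tt N13336 (iv D31212)) (tt N13834 F144830) (tt N17153 D33080) (tt N17154 D33081) (tt N14226 F144831))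
theorem Q15287 : ∀ i, i < 15287 → P i := stepQ 15286 Q15286 (allL N15286 (tt N13351 F144832) (tt N14276 F144833) (tt N17151 (iv F153332)) (tt N13338 F144834) (tt N13732 F144835) (tt N17153 (iv F153347)) (tt N14738 F144836) (tt N13336 (iv D31213)) (tt N13342 F144837) (tt N14227 F144838))
theorem Q15288 : ∀ i, i < 15288 → P i := stepQ 15287 Q15287 (allL N15287 (tt N13352 F144839) (tt N14277 F144840) (tt N13898 F144841) (tt N17153 (iv F153346)) (tt N13815 F144842) (tt N13338 F144843) (tt N17155 D33082) (tt N13337 (iv D31214)) (tt N17156 D33083) (tt N14228 F144844))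
theorem Q15289 : ∀ i, i < 15289 → P i := stepQ 15288 Q15288 (allL N15288 (tt N13353 F144845) (tt N14278 F144846) (tt N13899 F144847) (tt N17154 (iv F153351)) (tt N13816 F144848) (tt N13344 F144849) (tt N13837 F144850) (tt N17156 (iv F153366)) (tt N13337 (iv D31215)) (tt N17157 D33084))
theorem Q15290 : ∀ i, i < 15290 → P i := stepQ 15289 Q15289 (allL N15289 (tt N14072 F144851) (tt N13340 F144852) (tt N13784 F144853) (tt N13476 F144854) (tt N13742 F144855) (tt N13467 (iv F144857)) (tt N13339 (iv D31216)) (tt N17158 D33085) (tt N17149 (iv F153324)) (tt N13433 F144856))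
theorem Q15291 : ∀ i, i < 15291 → P i := stepQ 15290 Q15290 (allL N15290 (tt N13354 F144858) (tt N13467 F144859) (tt N13341 F144860) (tt N13458 F144861) (tt N13450 F144862) (tt N13340 (iv D31217)) (tt N15290 F144863) (tt N17159 D33086) (tt N17160 D33087) (tt N13434 F144864))
theorem Q15292 : ∀ i, i < 15292 → P i := stepQ 15291 Q15291 (allL N15291 (tt N13355 F144865) (tt N17158 (iv F153375)) (tt N13342 F144866) (tt N14069 F144867) (tt N13744 F144868) (tt N17159 (iv F153387)) (tt N14068 F144869) (tt N13340 (iv D31218)) (tt N17151 (iv F153336)) (tt N13435 F144870))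
theorem Q15293 : ∀ i, i < 15293 → P i := stepQ 15292 Q15292 (allL N15292 (tt N13357 F144871) (tt N14279 F144872) (tt N17159 (iv F153384)) (tt N13343 F144873) (tt N14970 F144874) (tt N13342 F144875) (tt N17161 D33088) (tt N13341 (iv D31219)) (tt N17162 D33089) (tt N13436 F144876))
theorem Q15294 : ∀ i, i < 15294 → P i := stepQ 15293 Q15293 (allL N15293 (tt N13358 F144877) (tt N14280 F144878) (tt N17160 (iv F153392)) (tt N13344 F144879) (tt N14709 F144880) (tt N17154 (iv F153352)) (tt N15293 F144881) (tt N17162 (iv F153409)) (tt N13341 (iv D31220)) (tt N17163 D33090))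
theorem Q15295 : ∀ i, i < 15295 → P i := stepQ 15294 Q15294 (allL N15294 (tt N13359 F144882) (tt N14281 F144883) (tt N14438 F144884) (tt N17161 (iv F153400)) (tt N13346 F144885) (tt N14437 F144886) (tt N13343 (iv D31221)) (tt N15294 F144887) (tt N17164 D33091) (tt N13438 F144888))
theorem Q15296 : ∀ i, i < 15296 → P i := stepQ 15295 Q15295 (allL N15295 (tt N13360 F144889) (tt N14282 F144890) (tt N14265 F144891) (tt N17162 (iv F153407)) (tt N13347 F144892) (tt N17156 (iv F153365)) (tt N17164 (iv F153421)) (tt N13344 F144893) (tt N13343 (iv D31222)) (tt N17165 D33092))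
theorem Q15297 : ∀ i, i < 15297 → P i := stepQ 15296 Q15296 (allL N15296 (tt N13361 F144894) (tt N14283 F144895) (tt N13685 F144896) (tt N17163 (iv F153413)) (tt N13348 F144897) (tt N17157 (iv F153371)) (tt N15296 F144898) (tt N17165 (iv F153427)) (tt N13440 F144899) (tt N13344 (iv D31223)))
theorem Q15298 : ∀ i, i < 15298 → P i := stepQ 15297 Q15297 (allL N15297 (tt N13365 F144900) (tt N14284 F144901) (tt N14713 F144902) (tt N13346 F144903) (tt N14989 F144904) (tt N15297 F144905) (tt N13345 (iv D31224)) (tt N15297 F144906) (tt N14711 F144907) (tt N13441 F144908))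
theorem Q15299 : ∀ i, i < 15299 → P i := stepQ 15298 Q15298 (allL N15298 (tt N13368 F144909) (tt N14287 F144910) (tt N14266 F144911) (tt N14711 F144912) (tt N17164 (iv F153420)) (tt N14273 (iv F144915)) (tt N13347 F144913) (tt N15298 F144914) (tt N13346 (iv D31225)) (tt N17166 D33093))
theorem Q15300 : ∀ i, i < 15300 → P i := stepQ 15299 Q15299 (allL N15299 (tt N13369 F144916) (tt N14288 F144917) (tt N13686 F144918) (tt N14704 F144919) (tt N17165 (iv F153426)) (tt N13684 F144920) (tt N17166 (iv F153434)) (tt N13348 F144921) (tt N13445 F144922) (tt N13347 (iv D31226)))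
theorem Q15301 : ∀ i, i < 15301 → P i := stepQ 15300 Q15300 (allL N15300 (tt N17150 (iv F153326)) (tt N14848 F144923) (tt N13350 F144924) (tt N14869 F144925) (tt N17167 D33094) (tt N13349 (iv D31227)) (tt N14817 F144926) (tt N17168 D33095) (tt N17169 D33096) (tt N14750 F144927))
theorem Q15302 : ∀ i, i < 15302 → P i := stepQ 15301 Q15301 (allL N15301 (tt N17151 (iv F153331)) (tt N14861 F144928) (tt N13351 F144929) (tt N14858 F144930) (tt N13776 F144931) (tt N17168 (iv F153445)) (tt N14760 F144932) (tt N13349 (iv D31228)) (tt N13355 F144933) (tt N14751 F144934))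
theorem Q15303 : ∀ i, i < 15303 → P i := stepQ 15302 Q15302 (allL N15302 (tt N17152 (iv F153338)) (tt N13381 F144935) (tt N17167 (iv F153438)) (tt N14791 F144936) (tt N13350 (iv D31229)) (tt N13777 F144937) (tt N14819 F144938) (tt N17170 D33097) (tt N17171 D33098) (tt N14752 F144939))
theorem Q15304 : ∀ i, i < 15304 → P i := stepQ 15303 Q15303 (allL N15303 (tt N17153 (iv F153344)) (tt N13382 F144940) (tt N17168 (iv F153443)) (tt N13352 F144941) (tt N17170 (iv F153455)) (tt N13351 F144942) (tt N17172 D33099) (tt N13350 (iv D31230)) (tt N17173 D33100) (tt N14753 F144943))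
theorem Q15305 : ∀ i, i < 15305 → P i := stepQ 15304 Q15304 (allL N15304 (tt N17154 (iv F153349)) (tt N13383 F144944) (tt N17169 (iv F153448)) (tt N13353 F144945) (tt N17171 (iv F153460)) (tt N13358 F144946) (tt N14821 F144947) (tt N17173 (iv F153470)) (tt N13350 (iv D31231)) (tt N17174 D33101))
theorem Q15306 : ∀ i, i < 15306 → P i := stepQ 15305 Q15305 (allL N15305 (tt N17155 (iv F153354)) (tt N13384 F144948) (tt N14871 F144949) (tt N17172 (iv F153463)) (tt N14793 F144950) (tt N14764 F144951) (tt N13352 (iv D31232)) (tt N14822 F144952) (tt N17175 D33102) (tt N14755 F144953))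
theorem Q15307 : ∀ i, i < 15307 → P i := stepQ 15306 Q15306 (allL N15306 (tt N17156 (iv F153361)) (tt N13385 F144954) (tt N14872 F144955) (tt N17173 (iv F153468)) (tt N14794 F144956) (tt N13360 F144957) (tt N17175 (iv F153480)) (tt N13353 F144958) (tt N13352 (iv D31233)) (tt N17176 D33103))
theorem Q15308 : ∀ i, i < 15308 → P i := stepQ 15307 Q15307 (allL N15307 (tt N17157 (iv F153367)) (tt N13386 F144959) (tt N14628 F144960) (tt N17174 (iv F153473)) (tt N14626 F144961) (tt N13361 F144962) (tt N14824 F144963) (tt N17176 (iv F153486)) (tt N14757 F144964) (tt N13353 (iv D31234)))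
theorem Q15309 : ∀ i, i < 15309 → P i := stepQ 15308 Q15308 (allL N15308 (tt N13450 F144965) (tt N14409 F144966) (tt N13356 F144967) (tt N13440 F144968) (tt N13354 (iv D31235)) (tt N13793 F144969) (tt N15308 F144970) (tt N17177 D33104) (tt N17163 (iv F153416)) (tt N13437 F144971))
theorem Q15310 : ∀ i, i < 15310 → P i := stepQ 15309 Q15309 (allL N15309 (tt N17159 (iv F153382)) (tt N14984 F144972) (tt N13357 F144973) (tt N14990 F144974) (tt N17177 (iv F153492)) (tt N13355 F144975) (tt N17178 D33105) (tt N13354 (iv D31236)) (tt N17179 D33106) (tt N13446 F144976))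
theorem Q15311 : ∀ i, i < 15311 → P i := stepQ 15310 Q15310 (allL N15310 (tt N17160 (iv F153390)) (tt N14973 F144977) (tt N13358 F144978) (tt N14703 F144979) (tt N17163 (iv F153414)) (tt N17169 (iv F153450)) (tt N15310 F144980) (tt N17179 (iv F153505)) (tt N13354 (iv D31237)) (tt N14709 F144981))
theorem Q15312 : ∀ i, i < 15312 → P i := stepQ 15311 Q15311 (allL N15311 (tt N14970 F144982) (tt N13390 F144983) (tt N17177 (iv F153490)) (tt N13363 F144984) (tt N13357 F144985) (tt N13796 F144986) (tt N17180 D33107) (tt N13356 (iv D31238)) (tt N17181 D33108) (tt N13447 F144987))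
theorem Q15313 : ∀ i, i < 15313 → P i := stepQ 15312 Q15312 (allL N15312 (tt N14709 F144988) (tt N13391 F144989) (tt N17163 (iv F153412)) (tt N13364 F144990) (tt N13358 F144991) (tt N17182 D33109) (tt N15312 F144992) (tt N17181 (iv F153518)) (tt N13356 (iv D31239)) (tt N17160 (iv F153396)))
theorem Q15314 : ∀ i, i < 15314 → P i := stepQ 15313 Q15313 (allL N15313 (tt N17161 (iv F153397)) (tt N13392 F144993) (tt N17178 (iv F153497)) (tt N13359 F144994) (tt N17180 (iv F153510)) (tt N14966 F144995) (tt N13357 (iv D31240)) (tt N15313 F144996) (tt N17183 D33110) (tt N13448 F144997))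
theorem Q15315 : ∀ i, i < 15315 → P i := stepQ 15314 Q15314 (allL N15314 (tt N17162 (iv F153405)) (tt N13393 F144998) (tt N17179 (iv F153503)) (tt N13360 F144999) (tt N17181 (iv F153517)) (tt N17173 (iv F153469)) (tt N17183 (iv F153525)) (tt N13358 F145000) (tt N13357 (iv D31241)) (tt N17184 D33111))
theorem Q15316 : ∀ i, i < 15316 → P i := stepQ 15315 Q15315 (allL N15315 (tt N17163 (iv F153410)) (tt N13394 F145001) (tt N14709 F145002) (tt N13361 F145003) (tt N17160 (iv F153394)) (tt N17174 (iv F153474)) (tt N15315 F145004) (tt N17184 (iv F153530)) (tt N13450 F145005) (tt N13358 (iv D31242)))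
theorem Q15317 : ∀ i, i < 15317 → P i := stepQ 15316 Q15316 (allL N15316 (tt N17164 (iv F153417)) (tt N13395 F145006) (tt N15224 F145007) (tt N17183 (iv F153524)) (tt N13368 F145008) (tt N17185 D33112) (tt N13360 F145009) (tt N15316 F145010) (tt N13359 (iv D31243)) (tt N17186 D33113))
theorem Q15318 : ∀ i, i < 15318 → P i := stepQ 15317 Q15317 (allL N15317 (tt N17165 (iv F153423)) (tt N13396 F145011) (tt N14699 F145012) (tt N17184 (iv F153529)) (tt N13369 F145013) (tt N17176 (iv F153485)) (tt N17186 (iv F153539)) (tt N13361 F145014) (tt N13452 F145015) (tt N13360 (iv D31244)))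
theorem Q15319 : ∀ i, i < 15319 → P i := stepQ 15318 Q15318 (allL N15318 (tt N14713 F145016) (tt N15318 F145017) (tt N13365 F145018) (tt N13697 F145019) (tt N14090 F145020) (tt N15318 F145021) (tt N13362 (iv D31245)) (tt N15318 F145022) (tt N13696 F145023) (tt N13453 F145024))
theorem Q15320 : ∀ i, i < 15320 → P i := stepQ 15319 Q15319 (allL N15319 (tt N14989 F145025) (tt N13397 F145026) (tt N14090 F145027) (tt N17180 (iv F153509)) (tt N13365 F145028) (tt N14067 F145029) (tt N13363 (iv D31246)) (tt N15319 F145030) (tt N17187 D33114) (tt N13456 F145031))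
theorem Q15321 : ∀ i, i < 15321 → P i := stepQ 15320 Q15320 (allL N15320 (tt N14710 F145032) (tt N13398 F145033) (tt N13695 F145034) (tt N17181 (iv F153516)) (tt N13366 F145035) (tt N17188 D33115) (tt N17187 (iv F153546)) (tt N13364 F145036) (tt N13363 (iv D31247)) (tt N17189 D33116))
theorem Q15322 : ∀ i, i < 15322 → P i := stepQ 15321 Q15321 (allL N15321 (tt N14643 F145037) (tt N13399 F145038) (tt N13636 F145039) (tt N17182 (iv F153521)) (tt N13634 F145040) (tt N13364 (iv D31248)) (tt N17190 D33117) (tt N17188 (iv F153553)) (tt N13804 F145041) (tt N17191 D33118))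
theorem Q15323 : ∀ i, i < 15323 → P i := stepQ 15322 Q15322 (allL N15322 (tt N14703 F145042) (tt N13400 F145043) (tt N13691 F145044) (tt N17160 (iv F153393)) (tt N13367 F145045) (tt N17191 (iv F153573)) (tt N15322 F145046) (tt N17189 (iv F153560)) (tt N13458 F145047) (tt N13364 (iv D31249)))
theorem Q15324 : ∀ i, i < 15324 → P i := stepQ 15323 Q15323 (allL N15323 (tt N14711 F145048) (tt N13401 F145049) (tt N13696 F145050) (tt N13368 F145051) (tt N17187 (iv F153545)) (tt N13715 (iv F145054)) (tt N13366 F145052) (tt N15323 F145053) (tt N13365 (iv D31250)) (tt N17192 D33119))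
theorem Q15325 : ∀ i, i < 15325 → P i := stepQ 15324 Q15324 (allL N15324 (tt N14704 F145055) (tt N13402 F145056) (tt N13692 F145057) (tt N13369 F145058) (tt N17189 (iv F153558)) (tt N13690 F145059) (tt N17192 (iv F153582)) (tt N13367 F145060) (tt N13460 F145061) (tt N13366 (iv D31251)))
theorem Q15326 : ∀ i, i < 15326 → P i := stepQ 15325 Q15325 (allL N15325 (tt N17166 (iv F153429)) (tt N13404 F145062) (tt N14700 F145063) (tt N17192 (iv F153579)) (tt N17186 (iv F153538)) (tt N14950 F145064) (tt N13369 F145065) (tt N15325 F145066) (tt N13462 F145067) (tt N13368 (iv D31252)))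
theorem Q15327 : ∀ i, i < 15327 → P i := stepQ 15326 Q15326 (allL N15326 (tt N14315 F145068) (tt N15016 F145069) (tt N13371 F145070) (tt N15326 F145071) (tt N13374 F145072) (tt N17193 D33120) (tt N13370 (iv D31253)) (tt N17194 D33121) (tt N15326 F145073) (tt N13503 F145074))
theorem Q15328 : ∀ i, i < 15328 → P i := stepQ 15327 Q15327 (allL N15327 (tt N14316 F145075) (tt N13557 F145076) (tt N17193 (iv F153587)) (tt N13372 F145077) (tt N17195 D33122) (tt N13371 (iv D31254)) (tt N13807 F145078) (tt N17196 D33123) (tt N17197 D33124) (tt N13504 F145079))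
theorem Q15329 : ∀ i, i < 15329 → P i := stepQ 15328 Q15328 (allL N15328 (tt N14317 F145080) (tt N13558 F145081) (tt N17194 (iv F153593)) (tt N13373 F145082) (tt N13376 F145083) (tt N17196 (iv F153608)) (tt N14778 F145084) (tt N13371 (iv D31255)) (tt N15328 F145085) (tt N13505 F145086))
theorem Q15330 : ∀ i, i < 15330 → P i := stepQ 15329 Q15329 (allL N15329 (tt N14318 F145087) (tt N13559 F145088) (tt N15329 F145089) (tt N17196 (iv F153607)) (tt N13771 F145090) (tt N13373 F145091) (tt N17198 D33125) (tt N13372 (iv D31256)) (tt N17199 D33126) (tt N13506 F145092))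
theorem Q15331 : ∀ i, i < 15331 → P i := stepQ 15330 Q15330 (allL N15330 (tt N14319 F145093) (tt N13560 F145094) (tt N15330 F145095) (tt N17197 (iv F153612)) (tt N13772 F145096) (tt N15330 F145097) (tt N13810 F145098) (tt N17199 (iv F153627)) (tt N13372 (iv D31257)) (tt N17200 D33127))
theorem Q15332 : ∀ i, i < 15332 → P i := stepQ 15331 Q15331 (allL N15331 (tt N14321 F145099) (tt N14813 F145100) (tt N13375 F145101) (tt N13405 F145102) (tt N17201 D33128) (tt N13374 (iv D31258)) (tt N13379 F145103) (tt N17202 D33129) (tt N17203 D33130) (tt N14747 F145104))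
theorem Q15333 : ∀ i, i < 15333 → P i := stepQ 15332 Q15332 (allL N15332 (tt N14322 F145105) (tt N15017 F145106) (tt N13376 F145107) (tt N13406 F145108) (tt N17194 (iv F153595)) (tt N17202 (iv F153644)) (tt N14797 F145109) (tt N13374 (iv D31259)) (tt N15332 F145110) (tt N14790 F145111))
theorem Q15334 : ∀ i, i < 15334 → P i := stepQ 15333 Q15333 (allL N15333 (tt N14323 F145112) (tt N14819 F145113) (tt N17201 (iv F153637)) (tt N14752 F145114) (tt N13375 (iv D31260)) (tt N17195 (iv F153602)) (tt N13381 F145115) (tt N17204 D33131) (tt N17205 D33132) (tt N14791 F145116))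
theorem Q15335 : ∀ i, i < 15335 → P i := stepQ 15334 Q15334 (allL N15334 (tt N14324 F145117) (tt N14820 F145118) (tt N17202 (iv F153642)) (tt N13377 F145119) (tt N17204 (iv F153656)) (tt N13376 F145120) (tt N17206 D33133) (tt N13375 (iv D31261)) (tt N17207 D33134) (tt N14792 F145121))
theorem Q15336 : ∀ i, i < 15336 → P i := stepQ 15335 Q15335 (allL N15335 (tt N14325 F145122) (tt N14821 F145123) (tt N17203 (iv F153648)) (tt N13378 F145124) (tt N17205 (iv F153661)) (tt N15335 F145125) (tt N13383 F145126) (tt N17207 (iv F153673)) (tt N13375 (iv D31262)) (tt N17208 D33135))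
theorem Q15337 : ∀ i, i < 15337 → P i := stepQ 15336 Q15336 (allL N15336 (tt N14326 F145127) (tt N14822 F145128) (tt N13410 F145129) (tt N17206 (iv F153665)) (tt N14755 F145130) (tt N14801 F145131) (tt N13377 (iv D31263)) (tt N13384 F145132) (tt N17209 D33136) (tt N14793 F145133))
theorem Q15338 : ∀ i, i < 15338 → P i := stepQ 15337 Q15337 (allL N15337 (tt N14327 F145134) (tt N14823 F145135) (tt N13411 F145136) (tt N17207 (iv F153671)) (tt N14756 F145137) (tt N15337 F145138) (tt N17209 (iv F153685)) (tt N13378 F145139) (tt N13377 (iv D31264)) (tt N17210 D33137))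
theorem Q15339 : ∀ i, i < 15339 → P i := stepQ 15338 Q15338 (allL N15338 (tt N14328 F145140) (tt N14824 F145141) (tt N13412 F145142) (tt N17208 (iv F153677)) (tt N14757 F145143) (tt N15338 F145144) (tt N13386 F145145) (tt N17210 (iv F153692)) (tt N14626 F145146) (tt N13378 (iv D31265)))
theorem Q15340 : ∀ i, i < 15340 → P i := stepQ 15339 Q15339 (allL N15339 (tt N14331 F145147) (tt N14852 F145148) (tt N13381 F145149) (tt N17211 D33138) (tt N13379 (iv D31266)) (tt N13857 F145150) (tt N17201 (iv F153638)) (tt N17212 D33139) (tt N17213 D33140) (tt N14770 F145151))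
theorem Q15341 : ∀ i, i < 15341 → P i := stepQ 15340 Q15340 (allL N15340 (tt N14332 F145152) (tt N14854 F145153) (tt N13382 F145154) (tt N13414 F145155) (tt N17212 (iv F153702)) (tt N13380 F145156) (tt N17214 D33141) (tt N13379 (iv D31267)) (tt N17215 D33142) (tt N14772 F145157))
theorem Q15342 : ∀ i, i < 15342 → P i := stepQ 15341 Q15341 (allL N15341 (tt N14333 F145158) (tt N14838 F145159) (tt N13383 F145160) (tt N13415 F145161) (tt N17213 (iv F153708)) (tt N13389 F145162) (tt N17203 (iv F153651)) (tt N17215 (iv F153721)) (tt N13379 (iv D31268)) (tt N14763 F145163))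
theorem Q15343 : ∀ i, i < 15343 → P i := stepQ 15342 Q15342 (allL N15342 (tt N14334 F145164) (tt N17170 (iv F153453)) (tt N17212 (iv F153701)) (tt N17123 (iv F153145)) (tt N13382 F145165) (tt N13860 F145166) (tt N17216 D33143) (tt N13381 (iv D31269)) (tt N17217 D33144) (tt N14825 F145167))
theorem Q15344 : ∀ i, i < 15344 → P i := stepQ 15343 Q15343 (allL N15343 (tt N14335 F145168) (tt N17171 (iv F153458)) (tt N17213 (iv F153707)) (tt N17124 (iv F153152)) (tt N13383 F145169) (tt N17218 D33145) (tt N17205 (iv F153662)) (tt N17217 (iv F153728)) (tt N13381 (iv D31270)) (tt N17219 D33146))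
theorem Q15345 : ∀ i, i < 15345 → P i := stepQ 15344 Q15344 (allL N15344 (tt N14336 F145170) (tt N17172 (iv F153462)) (tt N17214 (iv F153712)) (tt N13384 F145171) (tt N17216 (iv F153724)) (tt N14836 F145172) (tt N13382 (iv D31271)) (tt N17206 (iv F153667)) (tt N17220 D33147) (tt N14826 F145173))
theorem Q15346 : ∀ i, i < 15346 → P i := stepQ 15345 Q15345 (allL N15345 (tt N14337 F145174) (tt N17173 (iv F153467)) (tt N17215 (iv F153718)) (tt N13385 F145175) (tt N17217 (iv F153727)) (tt N13393 F145176) (tt N17220 (iv F153738)) (tt N13383 F145177) (tt N13382 (iv D31272)) (tt N17221 D33148))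
theorem Q15347 : ∀ i, i < 15347 → P i := stepQ 15346 Q15346 (allL N15346 (tt N14338 F145178) (tt N17174 (iv F153471)) (tt N14763 F145179) (tt N13386 F145180) (tt N17219 (iv F153734)) (tt N13394 F145181) (tt N17208 (iv F153679)) (tt N17221 (iv F153743)) (tt N14759 F145182) (tt N13383 (iv D31273)))
theorem Q15348 : ∀ i, i < 15348 → P i := stepQ 15347 Q15347 (allL N15347 (tt N14339 F145183) (tt N17175 (iv F153477)) (tt N13420 F145184) (tt N17220 (iv F153737)) (tt N17128 (iv F153177)) (tt N17222 D33149) (tt N13385 F145185) (tt N17209 (iv F153686)) (tt N13384 (iv D31274)) (tt N17223 D33150))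
theorem Q15349 : ∀ i, i < 15349 → P i := stepQ 15348 Q15348 (allL N15348 (tt N14340 F145186) (tt N17176 (iv F153482)) (tt N13421 F145187) (tt N17221 (iv F153741)) (tt N17129 (iv F153184)) (tt N13396 F145188) (tt N17223 (iv F153751)) (tt N13386 F145189) (tt N14828 F145190) (tt N13385 (iv D31275)))
theorem Q15350 : ∀ i, i < 15350 → P i := stepQ 15349 Q15349 (allL N15349 (tt N14343 F145191) (tt N14987 F145192) (tt N13390 F145193) (tt N15349 F145194) (tt N13388 F145195) (tt N13878 F145196) (tt N17224 D33151) (tt N13387 (iv D31276)) (tt N17225 D33152) (tt N13463 F145197))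
theorem Q15351 : ∀ i, i < 15351 → P i := stepQ 15350 Q15350 (allL N15350 (tt N14344 F145198) (tt N14977 F145199) (tt N13391 F145200) (tt N15350 F145201) (tt N13389 F145202) (tt N17226 D33153) (tt N15350 F145203) (tt N17225 (iv F153765)) (tt N13387 (iv D31277)) (tt N14965 F145204))
theorem Q15352 : ∀ i, i < 15352 → P i := stepQ 15351 Q15351 (allL N15351 (tt N14345 F145205) (tt N14988 F145206) (tt N13392 F145207) (tt N13422 F145208) (tt N17224 (iv F153757)) (tt N14971 F145209) (tt N13388 (iv D31278)) (tt N15351 F145210) (tt N17227 D33154) (tt N13464 F145211))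
theorem Q15353 : ∀ i, i < 15353 → P i := stepQ 15352 Q15352 (allL N15352 (tt N14346 F145212) (tt N14979 F145213) (tt N13393 F145214) (tt N13423 F145215) (tt N17225 (iv F153764)) (tt N17215 (iv F153720)) (tt N17227 (iv F153777)) (tt N13389 F145216) (tt N13388 (iv D31279)) (tt N14967 F145217))
theorem Q15354 : ∀ i, i < 15354 → P i := stepQ 15353 Q15353 (allL N15353 (tt N14348 F145218) (tt N17180 (iv F153508)) (tt N17224 (iv F153755)) (tt N13397 F145219) (tt N13392 F145220) (tt N17228 D33155) (tt N13390 (iv D31280)) (tt N15353 F145221) (tt N17229 D33156) (tt N13465 F145222))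
theorem Q15355 : ∀ i, i < 15355 → P i := stepQ 15354 Q15354 (allL N15354 (tt N14349 F145223) (tt N17181 (iv F153515)) (tt N17225 (iv F153762)) (tt N13398 F145224) (tt N13393 F145225) (tt N17230 D33157) (tt N17229 (iv F153790)) (tt N13391 F145226) (tt N13390 (iv D31281)) (tt N17231 D33158))
theorem Q15356 : ∀ i, i < 15356 → P i := stepQ 15355 Q15355 (allL N15355 (tt N14350 F145227) (tt N17182 (iv F153520)) (tt N17226 (iv F153769)) (tt N13399 F145228) (tt N17218 (iv F153730)) (tt N13391 (iv D31282)) (tt N17232 D33159) (tt N17230 (iv F153794)) (tt N13885 F145229) (tt N17233 D33160))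
theorem Q15357 : ∀ i, i < 15357 → P i := stepQ 15356 Q15356 (allL N15356 (tt N14351 F145230) (tt N17160 (iv F153391)) (tt N14965 F145231) (tt N13400 F145232) (tt N13394 F145233) (tt N17233 (iv F153809)) (tt N15356 F145234) (tt N17231 (iv F153800)) (tt N13467 F145235) (tt N13391 (iv D31283)))
theorem Q15358 : ∀ i, i < 15358 → P i := stepQ 15357 Q15357 (allL N15357 (tt N14352 F145236) (tt N17183 (iv F153523)) (tt N17227 (iv F153775)) (tt N13395 F145237) (tt N17229 (iv F153789)) (tt N17234 D33161) (tt N13393 F145238) (tt N15357 F145239) (tt N13392 (iv D31284)) (tt N17235 D33162))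
theorem Q15359 : ∀ i, i < 15359 → P i := stepQ 15358 Q15358 (allL N15358 (tt N14353 F145240) (tt N17184 (iv F153527)) (tt N14967 F145241) (tt N13396 F145242) (tt N17231 (iv F153799)) (tt N17221 (iv F153742)) (tt N17235 (iv F153817)) (tt N13394 F145243) (tt N13469 F145244) (tt N13393 (iv D31285)))
theorem Q15360 : ∀ i, i < 15360 → P i := stepQ 15359 Q15359 (allL N15359 (tt N14354 F145245) (tt N17185 (iv F153532)) (tt N13425 F145246) (tt N17234 (iv F153811)) (tt N17236 D33163) (tt N13395 (iv D31286)) (tt N17222 (iv F153747)) (tt N15359 F145247) (tt N14980 F145248) (tt N17237 D33164))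
theorem Q15361 : ∀ i, i < 15361 → P i := stepQ 15360 Q15360 (allL N15360 (tt N14355 F145249) (tt N17186 (iv F153536)) (tt N13426 F145250) (tt N17235 (iv F153816)) (tt N13404 F145251) (tt N17237 (iv F153827)) (tt N13396 F145252) (tt N15360 F145253) (tt N13471 F145254) (tt N13395 (iv D31287)))
theorem Q15362 : ∀ i, i < 15362 → P i := stepQ 15361 Q15361 (allL N15361 (tt N14356 F145255) (tt N14067 F145256) (tt N15361 F145257) (tt N17228 (iv F153782)) (tt N15361 F145258) (tt N13397 (iv D31288)) (tt N13889 F145259) (tt N15361 F145260) (tt N17238 D33165) (tt N13472 F145261))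
theorem Q15363 : ∀ i, i < 15363 → P i := stepQ 15362 Q15362 (allL N15362 (tt N14357 F145262) (tt N17187 (iv F153543)) (tt N15362 F145263) (tt N17229 (iv F153788)) (tt N13401 F145264) (tt N17239 D33166) (tt N13398 F145265) (tt N15362 F145266) (tt N13397 (iv D31289)) (tt N17240 D33167))
theorem Q15364 : ∀ i, i < 15364 → P i := stepQ 15363 Q15363 (allL N15363 (tt N14358 F145267) (tt N17188 (iv F153550)) (tt N15363 F145268) (tt N17230 (iv F153793)) (tt N17134 (iv F153217)) (tt N13398 (iv D31290)) (tt N17241 D33168) (tt N13399 F145269) (tt N13890 F145270) (tt N17242 D33169))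
theorem Q15365 : ∀ i, i < 15365 → P i := stepQ 15364 Q15364 (allL N15364 (tt N14359 F145271) (tt N17189 (iv F153556)) (tt N15364 F145272) (tt N17231 (iv F153798)) (tt N13402 F145273) (tt N17242 (iv F153851)) (tt N17240 (iv F153843)) (tt N13400 F145274) (tt N13475 F145275) (tt N13398 (iv D31291)))
theorem Q15366 : ∀ i, i < 15366 → P i := stepQ 15365 Q15365 (allL N15365 (tt N14360 F145276) (tt N17190 (iv F153563)) (tt N15365 F145277) (tt N17232 (iv F153803)) (tt N17136 (iv F153230)) (tt N15365 F145278) (tt N13399 (iv D31292)) (tt N17243 D33170) (tt N13891 F145279) (tt N17244 D33171))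
theorem Q15367 : ∀ i, i < 15367 → P i := stepQ 15366 Q15366 (allL N15366 (tt N14361 F145280) (tt N17191 (iv F153570)) (tt N15366 F145281) (tt N17233 (iv F153808)) (tt N17137 (iv F153237)) (tt N13400 F145282) (tt N17244 (iv F153862)) (tt N17242 (iv F153852)) (tt N17245 D33172) (tt N13399 (iv D31293)))
theorem Q15368 : ∀ i, i < 15368 → P i := stepQ 15367 Q15367 (allL N15367 (tt N14362 F145283) (tt N13715 F145284) (tt N15367 F145285) (tt N13403 F145286) (tt N17246 D33173) (tt N13401 (iv D31294)) (tt N13712 F145287) (tt N15367 F145288) (tt N15367 F145289) (tt N17247 D33174))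
theorem Q15369 : ∀ i, i < 15369 → P i := stepQ 15368 Q15368 (allL N15368 (tt N14363 F145290) (tt N17192 (iv F153577)) (tt N15368 F145291) (tt N13404 F145292) (tt N17240 (iv F153842)) (tt N17247 (iv F153880)) (tt N13402 F145293) (tt N15368 F145294) (tt N13478 F145295) (tt N13401 (iv D31295)))
theorem Q15370 : ∀ i, i < 15370 → P i := stepQ 15369 Q15369 (allL N15369 (tt N14364 F145296) (tt N17147 (iv F153306)) (tt N13427 F145297) (tt N17248 D33175) (tt N13403 (iv D31296)) (tt N17236 (iv F153822)) (tt N17138 (iv F153244)) (tt N15369 F145298) (tt N15369 F145299) (tt N17249 D33176))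
theorem Q15371 : ∀ i, i < 15371 → P i := stepQ 15370 Q15370 (allL N15370 (tt N14365 F145300) (tt N14950 F145301) (tt N13428 F145302) (tt N17247 (iv F153879)) (tt N17249 (iv F153889)) (tt N13404 F145303) (tt N14947 F145304) (tt N15370 F145305) (tt N17250 D33177) (tt N13403 (iv D31297)))
theorem Q15372 : ∀ i, i < 15372 → P i := stepQ 15371 Q15371 (allL N15371 (tt N14368 F145306) (tt N14521 F145307) (tt N13407 F145308) (tt N17251 D33178) (tt N13405 (iv D31298)) (tt N15371 F145309) (tt N13413 F145310) (tt N17252 D33179) (tt N14537 (iv F145312)) (tt N14463 F145311))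
theorem Q15373 : ∀ i, i < 15373 → P i := stepQ 15372 Q15372 (allL N15372 (tt N14369 F145313) (tt N14815 F145314) (tt N13408 F145315) (tt N17202 (iv F153643)) (tt N17252 (iv F153911)) (tt N13406 F145316) (tt N17253 D33180) (tt N13405 (iv D31299)) (tt N17254 D33181) (tt N14749 F145317))
theorem Q15374 : ∀ i, i < 15374 → P i := stepQ 15373 Q15373 (allL N15373 (tt N14370 F145318) (tt N14803 F145319) (tt N13409 F145320) (tt N17203 (iv F153649)) (tt N14537 F145321) (tt N15373 F145322) (tt N13415 F145323) (tt N17254 (iv F153926)) (tt N13405 (iv D31300)) (tt N14527 F145324))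
theorem Q15375 : ∀ i, i < 15375 → P i := stepQ 15374 Q15374 (allL N15374 (tt N14371 F145325) (tt N15068 F145326) (tt N17252 (iv F153910)) (tt N14943 F145327) (tt N13408 F145328) (tt N15374 F145329) (tt N17255 D33182) (tt N13407 (iv D31301)) (tt N14650 F145330) (tt N14640 F145331))
theorem Q15376 : ∀ i, i < 15376 → P i := stepQ 15375 Q15375 (allL N15375 (tt N14372 F145332) (tt N15195 F145333) (tt N17253 (iv F153917)) (tt N13410 F145334) (tt N17255 (iv F153931)) (tt N14882 F145335) (tt N13408 (iv D31302)) (tt N13418 F145336) (tt N17256 D33183) (tt N14873 F145337))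
theorem Q15377 : ∀ i, i < 15377 → P i := stepQ 15376 Q15376 (allL N15376 (tt N14373 F145338) (tt N15133 F145339) (tt N17254 (iv F153923)) (tt N13411 F145340) (tt N14650 F145341) (tt N15376 F145342) (tt N17256 (iv F153939)) (tt N13409 F145343) (tt N13408 (iv D31303)) (tt N14631 F145344))
theorem Q15378 : ∀ i, i < 15378 → P i := stepQ 15377 Q15377 (allL N15377 (tt N14374 F145345) (tt N15196 F145346) (tt N17209 (iv F153683)) (tt N17256 (iv F153937)) (tt N14939 F145347) (tt N17257 D33184) (tt N13411 F145348) (tt N13420 F145349) (tt N13410 (iv D31304)) (tt N17258 D33185))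
theorem Q15379 : ∀ i, i < 15379 → P i := stepQ 15378 Q15378 (allL N15378 (tt N14375 F145350) (tt N15131 F145351) (tt N17210 (iv F153689)) (tt N14631 F145352) (tt N14944 F145353) (tt N15378 F145354) (tt N17258 (iv F153952)) (tt N13412 F145355) (tt N14629 F145356) (tt N13411 (iv D31305)))
theorem Q15380 : ∀ i, i < 15380 → P i := stepQ 15379 Q15379 (allL N15379 (tt N14379 F145357) (tt N14558 F145358) (tt N17139 (iv F153250)) (tt N13413 (iv D31306)) (tt N17211 (iv F153696)) (tt N13429 F145359) (tt N17251 (iv F153905)) (tt N17259 D33186) (tt N17260 D33187) (tt N14482 F145360))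
theorem Q15381 : ∀ i, i < 15381 → P i := stepQ 15380 Q15380 (allL N15380 (tt N14380 F145361) (tt N14560 F145362) (tt N13416 F145363) (tt N17259 (iv F153957)) (tt N13414 F145364) (tt N13430 F145365) (tt N17261 D33188) (tt N13413 (iv D31307)) (tt N17262 D33189) (tt N14484 F145366))
theorem Q15382 : ∀ i, i < 15382 → P i := stepQ 15381 Q15381 (allL N15381 (tt N14381 F145367) (tt N14547 F145368) (tt N13417 F145369) (tt N17260 (iv F153963)) (tt N13415 F145370) (tt N15381 F145371) (tt N14537 F145372) (tt N17262 (iv F153977)) (tt N13413 (iv D31308)) (tt N14475 F145373))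
theorem Q15383 : ∀ i, i < 15383 → P i := stepQ 15382 Q15382 (allL N15382 (tt N14382 F145374) (tt N14856 F145375) (tt N13418 F145376) (tt N17214 (iv F153713)) (tt N17261 (iv F153970)) (tt N14917 F145377) (tt N13414 (iv D31309)) (tt N17253 (iv F153919)) (tt N17263 D33190) (tt N14773 F145378))
theorem Q15384 : ∀ i, i < 15384 → P i := stepQ 15383 Q15383 (allL N15383 (tt N14383 F145379) (tt N14840 F145380) (tt N13419 F145381) (tt N17215 (iv F153719)) (tt N17262 (iv F153975)) (tt N13423 F145382) (tt N17263 (iv F153982)) (tt N13415 F145383) (tt N13414 (iv D31310)) (tt N14765 F145384))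
theorem Q15385 : ∀ i, i < 15385 → P i := stepQ 15384 Q15384 (allL N15384 (tt N14385 F145385) (tt N15095 F145386) (tt N17261 (iv F153969)) (tt N17142 (iv F153271)) (tt N13418 F145387) (tt N17264 D33191) (tt N13416 (iv D31311)) (tt N17255 (iv F153932)) (tt N17265 D33192) (tt N14912 F145388))
theorem Q15386 : ∀ i, i < 15386 → P i := stepQ 15385 Q15385 (allL N15385 (tt N14386 F145389) (tt N15084 F145390) (tt N17262 (iv F153974)) (tt N15021 F145391) (tt N13419 F145392) (tt N15385 F145393) (tt N17265 (iv F153993)) (tt N13417 F145394) (tt N13416 (iv D31312)) (tt N14602 F145395))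
theorem Q15387 : ∀ i, i < 15387 → P i := stepQ 15386 Q15386 (allL N15386 (tt N14387 F145396) (tt N15203 F145397) (tt N17263 (iv F153981)) (tt N13420 F145398) (tt N17265 (iv F153992)) (tt N17266 D33193) (tt N13419 F145399) (tt N17256 (iv F153940)) (tt N13418 (iv D31313)) (tt N15191 F145400))
theorem Q15388 : ∀ i, i < 15388 → P i := stepQ 15387 Q15387 (allL N15387 (tt N14389 F145401) (tt N15214 F145402) (tt N17222 (iv F153746)) (tt N17266 (iv F153998)) (tt N17267 D33194) (tt N13420 (iv D31314)) (tt N13425 F145403) (tt N17257 (iv F153946)) (tt N14925 F145404) (tt N17268 D33195))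
theorem Q15389 : ∀ i, i < 15389 → P i := stepQ 15388 Q15388 (allL N15388 (tt N14390 F145405) (tt N15201 F145406) (tt N17223 (iv F153750)) (tt N15191 F145407) (tt N17143 (iv F153279)) (tt N17268 (iv F154011)) (tt N13421 F145408) (tt N17258 (iv F153953)) (tt N14914 F145409) (tt N13420 (iv D31315)))
theorem Q15390 : ∀ i, i < 15390 → P i := stepQ 15389 Q15389 (allL N15389 (tt N14392 F145410) (tt N14981 F145411) (tt N13424 F145412) (tt N17227 (iv F153776)) (tt N15389 F145413) (tt N17269 D33196) (tt N13423 F145414) (tt N15389 F145415) (tt N13422 (iv D31316)) (tt N14968 F145416))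
theorem Q15391 : ∀ i, i < 15391 → P i := stepQ 15390 Q15390 (allL N15390 (tt N14394 F145417) (tt N15229 F145418) (tt N17269 (iv F154015)) (tt N13425 F145419) (tt N17270 D33197) (tt N13424 (iv D31317)) (tt N17266 (iv F153999)) (tt N15390 F145420) (tt N14995 F145421) (tt N15225 F145422))
theorem Q15392 : ∀ i, i < 15392 → P i := stepQ 15391 Q15391 (allL N15391 (tt N14396 F145423) (tt N15230 F145424) (tt N17236 (iv F153821)) (tt N17271 D33198) (tt N13425 (iv D31318)) (tt N13427 F145425) (tt N17267 (iv F154005)) (tt N15391 F145426) (tt N14997 F145427) (tt N17272 D33199))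
theorem Q15393 : ∀ i, i < 15393 → P i := stepQ 15392 Q15392 (allL N15392 (tt N14397 F145428) (tt N15227 F145429) (tt N17237 (iv F153826)) (tt N15225 F145430) (tt N17272 (iv F154034)) (tt N13426 F145431) (tt N17268 (iv F154012)) (tt N15392 F145432) (tt N17273 D33200) (tt N13425 (iv D31319)))
theorem Q15394 : ∀ i, i < 15394 → P i := stepQ 15393 Q15393 (allL N15393 (tt N14398 F145433) (tt N15171 F145434) (tt N17274 D33201) (tt N13427 (iv D31320)) (tt N15393 F145435) (tt N17271 (iv F154027)) (tt N15169 F145436) (tt N15393 F145437) (tt N15393 F145438) (tt N15168 (iv F145439)))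
theorem Q15395 : ∀ i, i < 15395 → P i := stepQ 15394 Q15394 (allL N15394 (tt N14399 F145440) (tt N15109 F145441) (tt N17249 (iv F153888)) (tt N15168 F145442) (tt N13428 F145443) (tt N17272 (iv F154035)) (tt N15107 F145444) (tt N15394 F145445) (tt N15106 (iv F145446)) (tt N13427 (iv D31321)))
theorem Q15396 : ∀ i, i < 15396 → P i := stepQ 15395 Q15395 (allL N15395 (tt N14400 F145447) (tt N15108 F145448) (tt N17250 (iv F153895)) (tt N15395 F145449) (tt N15106 F145450) (tt N13485 F145451) (tt N15105 F145452) (tt N15395 F145453) (tt N13428 (iv D31322)) (tt N15395 F145454))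
theorem Q15397 : ∀ i, i < 15397 → P i := stepQ 15396 Q15396 (allL N15396 (tt N14404 F145455) (tt N14585 F145456) (tt N17146 (iv F153300)) (tt N13430 F145457) (tt N14002 F145458) (tt N17259 (iv F153958)) (tt N17275 D33202) (tt N13429 (iv D31323)) (tt N15396 F145459) (tt N14503 F145460))
theorem Q15398 : ∀ i, i < 15398 → P i := stepQ 15397 Q15397 (allL N15397 (tt N14405 F145461) (tt N14587 F145462) (tt N13432 F145463) (tt N17275 (iv F154054)) (tt N13431 F145464) (tt N17276 D33203) (tt N13430 (iv D31324)) (tt N15397 F145465) (tt N15397 F145466) (tt N14504 F145467))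
theorem Q15399 : ∀ i, i < 15399 → P i := stepQ 15398 Q15398 (allL N15398 (tt N14406 F145468) (tt N15114 F145469) (tt N17276 (iv F154061)) (tt N17148 (iv F153314)) (tt N14958 F145470) (tt N13432 (iv D31325)) (tt N17264 (iv F153987)) (tt N15398 F145471) (tt N17277 D33204) (tt N14955 F145472))
theorem Q15400 : ∀ i, i < 15400 → P i := stepQ 15399 Q15399 (allL N15399 (tt N14071 F145473) (tt N13435 F145474) (tt N14040 F145475) (tt N13474 F145476) (tt N14025 F145477) (tt N13466 F145478) (tt N14042 F145479) (tt N13433 (iv D31326)) (tt N14041 F145480) (tt N17158 (iv F153381)))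
theorem Q15401 : ∀ i, i < 15401 → P i := stepQ 15400 Q15400 (allL N15400 (tt N13446 F145481) (tt N13466 F145482) (tt N13436 F145483) (tt N13457 F145484) (tt N13449 F145485) (tt N13435 F145486) (tt N14430 (iv F145488)) (tt N13434 (iv D31327)) (tt N13447 F145487) (tt N17159 (iv F153388)))
theorem Q15402 : ∀ i, i < 15402 → P i := stepQ 15401 Q15401 (allL N15401 (tt N13448 F145489) (tt N14407 F145490) (tt N14430 F145491) (tt N13438 F145492) (tt N14982 F145493) (tt N14426 F145494) (tt N13436 (iv D31328)) (tt N15401 F145495) (tt N17278 D33205) (tt N17161 (iv F153404)))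
theorem Q15403 : ∀ i, i < 15403 → P i := stepQ 15402 Q15402 (allL N15402 (tt N13449 F145496) (tt N14408 F145497) (tt N13447 F145498) (tt N13439 F145499) (tt N13446 F145500) (tt N14047 F145501) (tt N17278 (iv F154077)) (tt N13437 F145502) (tt N13436 (iv D31329)) (tt N17177 (iv F153494)))
theorem Q15404 : ∀ i, i < 15404 → P i := stepQ 15403 Q15403 (allL N15403 (tt N13451 F145503) (tt N14410 F145504) (tt N14088 F145505) (tt N17278 (iv F154074)) (tt N13444 F145506) (tt N14084 F145507) (tt N13439 F145508) (tt N15403 F145509) (tt N13438 (iv D31330)) (tt N17279 D33206))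
theorem Q15405 : ∀ i, i < 15405 → P i := stepQ 15404 Q15404 (allL N15404 (tt N13452 F145510) (tt N14411 F145511) (tt N14094 F145512) (tt N17177 (iv F153491)) (tt N13445 F145513) (tt N14093 F145514) (tt N17279 (iv F154084)) (tt N13440 F145515) (tt N17165 (iv F153428)) (tt N13439 (iv D31331)))
theorem Q15406 : ∀ i, i < 15406 → P i := stepQ 15405 Q15405 (allL N15405 (tt N13459 F145516) (tt N14412 F145517) (tt N13481 F145518) (tt N13444 F145519) (tt N13470 F145520) (tt N13479 (iv F145523)) (tt N13442 F145521) (tt N15405 F145522) (tt N13441 (iv D31332)) (tt N17280 D33207))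
theorem Q15407 : ∀ i, i < 15407 → P i := stepQ 15406 Q15406 (allL N15406 (tt N13460 F145524) (tt N14413 F145525) (tt N14707 F145526) (tt N13445 F145527) (tt N14990 F145528) (tt N15406 F145529) (tt N17280 (iv F154092)) (tt N13443 F145530) (tt N14704 F145531) (tt N13442 (iv D31333)))
theorem Q15408 : ∀ i, i < 15408 → P i := stepQ 15407 Q15407 (allL N15407 (tt N13461 F145532) (tt N14414 F145533) (tt N17118 (iv F153107)) (tt N13479 F145534) (tt N14419 F145535) (tt N13444 (iv D31334)) (tt N15407 F145536) (tt N15407 F145537) (tt N15407 F145538) (tt N17281 D33208))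
theorem Q15409 : ∀ i, i < 15409 → P i := stepQ 15408 Q15408 (allL N15408 (tt N13462 F145539) (tt N14415 F145540) (tt N17119 (iv F153115)) (tt N17280 (iv F154089)) (tt N17279 (iv F154082)) (tt N17281 (iv F154099)) (tt N13445 F145541) (tt N15408 F145542) (tt N17166 (iv F153436)) (tt N13444 (iv D31335)))
theorem Q15410 : ∀ i, i < 15410 → P i := stepQ 15409 Q15409 (allL N15409 (tt N14430 F145543) (tt N14983 F145544) (tt N13448 F145545) (tt N13470 F145546) (tt N17278 (iv F154075)) (tt N13468 F145547) (tt N13446 (iv D31336)) (tt N15409 F145548) (tt N14982 F145549) (tt N17178 (iv F153501)))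
theorem Q15411 : ∀ i, i < 15411 → P i := stepQ 15410 Q15410 (allL N15410 (tt N14982 F145550) (tt N13465 F145551) (tt N17278 (iv F154073)) (tt N13456 F145552) (tt N13448 F145553) (tt N14065 F145554) (tt N13447 (iv D31337)) (tt N15410 F145555) (tt N14430 F145556) (tt N17180 (iv F153513)))
theorem Q15412 : ∀ i, i < 15412 → P i := stepQ 15411 Q15411 (allL N15411 (tt N17278 (iv F154071)) (tt N13468 F145557) (tt N14982 F145558) (tt N13451 F145559) (tt N14430 F145560) (tt N14983 F145561) (tt N13449 F145562) (tt N15411 F145563) (tt N13448 (iv D31338)) (tt N17282 D33209))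
theorem Q15413 : ∀ i, i < 15413 → P i := stepQ 15412 Q15412 (allL N15412 (tt N17177 (iv F153488)) (tt N13469 F145564) (tt N14970 F145565) (tt N13452 F145566) (tt N17159 (iv F153386)) (tt N14963 F145567) (tt N17282 (iv F154107)) (tt N13450 F145568) (tt N17184 (iv F153531)) (tt N13449 (iv D31339)))
theorem Q15414 : ∀ i, i < 15414 → P i := stepQ 15413 Q15413 (allL N15413 (tt N17279 (iv F154079)) (tt N13471 F145569) (tt N15002 F145570) (tt N17282 (iv F154104)) (tt N13462 F145571) (tt N14999 F145572) (tt N13452 F145573) (tt N15413 F145574) (tt N17186 (iv F153541)) (tt N13451 (iv D31340)))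
theorem Q15415 : ∀ i, i < 15415 → P i := stepQ 15414 Q15414 (allL N15414 (tt N14707 F145575) (tt N15414 F145576) (tt N13460 F145577) (tt N13694 F145578) (tt N14091 F145579) (tt N15414 F145580) (tt N14440 F145581) (tt N13455 F145582) (tt N13692 F145583) (tt N13454 (iv D31341)))
theorem Q15416 : ∀ i, i < 15416 → P i := stepQ 15415 Q15415 (allL N15415 (tt N14990 F145584) (tt N13475 F145585) (tt N14091 F145586) (tt N17159 (iv F153385)) (tt N13460 F145587) (tt N14069 F145588) (tt N14432 F145589) (tt N13458 F145590) (tt N17189 (iv F153561)) (tt N13457 (iv D31342)))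
theorem Q15417 : ∀ i, i < 15417 → P i := stepQ 15416 Q15416 (allL N15416 (tt N17280 (iv F154086)) (tt N13478 F145591) (tt N14440 F145592) (tt N13462 F145593) (tt N14432 F145594) (tt N14435 F145595) (tt N13460 F145596) (tt N15416 F145597) (tt N17192 (iv F153584)) (tt N13459 (iv D31343)))
theorem Q15418 : ∀ i, i < 15418 → P i := stepQ 15417 Q15417 (allL N15417 (tt N14419 F145598) (tt N13479 F145599) (tt N15000 F145600) (tt N14414 F145601) (tt N13461 (iv D31344)) (tt N14412 F145602) (tt N15417 F145603) (tt N15417 F145604) (tt N15417 F145605) (tt N17283 D33210))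
theorem Q15419 : ∀ i, i < 15419 → P i := stepQ 15418 Q15418 (allL N15418 (tt N17281 (iv F154095)) (tt N13480 F145606) (tt N17120 (iv F153122)) (tt N14435 F145607) (tt N17283 (iv F154113)) (tt N13462 F145608) (tt N15418 F145609) (tt N15418 F145610) (tt N17284 D33211) (tt N13461 (iv D31345)))
theorem Q15420 : ∀ i, i < 15420 → P i := stepQ 15419 Q15419 (allL N15419 (tt N14423 F145611) (tt N14986 F145612) (tt N13465 F145613) (tt N15419 F145614) (tt N13464 F145615) (tt N17285 D33212) (tt N13463 (iv D31346)) (tt N15419 F145616) (tt N14969 F145617) (tt N17224 (iv F153759)))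
theorem Q15421 : ∀ i, i < 15421 → P i := stepQ 15420 Q15420 (allL N15420 (tt N14422 F145618) (tt N14065 F145619) (tt N17285 (iv F154126)) (tt N13472 F145620) (tt N14985 F145621) (tt N13465 (iv D31347)) (tt N14038 F145622) (tt N15420 F145623) (tt N14037 (iv F145624)) (tt N17228 (iv F153786)))
theorem Q15422 : ∀ i, i < 15422 → P i := stepQ 15421 Q15421 (allL N15421 (tt N14428 F145625) (tt N14430 F145626) (tt N14969 F145627) (tt N13473 F145628) (tt N13468 F145629) (tt N14416 F145630) (tt N13466 F145631) (tt N15421 F145632) (tt N13465 (iv D31348)) (tt N17286 D33213))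
theorem Q15423 : ∀ i, i < 15423 → P i := stepQ 15422 Q15422 (allL N15422 (tt N14429 F145633) (tt N17159 (iv F153383)) (tt N14964 F145634) (tt N13475 F145635) (tt N13469 F145636) (tt N17158 (iv F153379)) (tt N17286 (iv F154138)) (tt N13467 F145637) (tt N17231 (iv F153801)) (tt N13466 (iv D31349)))
theorem Q15424 : ∀ i, i < 15424 → P i := stepQ 15423 Q15423 (allL N15423 (tt N14431 F145638) (tt N17282 (iv F154102)) (tt N14966 F145639) (tt N13471 F145640) (tt N17286 (iv F154136)) (tt N17178 (iv F153499)) (tt N13469 F145641) (tt N15423 F145642) (tt N17235 (iv F153819)) (tt N13468 (iv D31350)))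
theorem Q15425 : ∀ i, i < 15425 → P i := stepQ 15424 Q15424 (allL N15424 (tt N14432 F145643) (tt N14999 F145644) (tt N13482 F145645) (tt N17178 (iv F153498)) (tt N17280 (iv F154090)) (tt N13471 F145646) (tt N14990 F145647) (tt N15424 F145648) (tt N17287 D33214) (tt N13470 (iv D31351)))
theorem Q15426 : ∀ i, i < 15426 → P i := stepQ 15425 Q15425 (allL N15425 (tt N14433 F145649) (tt N14432 F145650) (tt N15425 F145651) (tt N17286 (iv F154135)) (tt N13478 F145652) (tt N14418 F145653) (tt N13475 F145654) (tt N15425 F145655) (tt N17240 (iv F153845)) (tt N13473 (iv D31352)))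
theorem Q15427 : ∀ i, i < 15427 → P i := stepQ 15426 Q15426 (allL N15426 (tt N14092 F145656) (tt N14069 F145657) (tt N15426 F145658) (tt N17158 (iv F153377)) (tt N15426 F145659) (tt N13475 F145660) (tt N14044 F145661) (tt N13476 F145662) (tt N17288 D33215) (tt N13474 (iv D31353)))
theorem Q15428 : ∀ i, i < 15428 → P i := stepQ 15427 Q15427 (allL N15427 (tt N13972 F145663) (tt N13895 F145664) (tt N15427 F145665) (tt N17149 (iv F153322)) (tt N15427 F145666) (tt N17245 (iv F153867)) (tt N13894 F145667) (tt N17288 (iv F154152)) (tt N13476 (iv D31354)) (tt N13970 F145668))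
theorem Q15429 : ∀ i, i < 15429 → P i := stepQ 15428 Q15428 (allL N15428 (tt N14434 F145669) (tt N14435 F145670) (tt N15428 F145671) (tt N13480 F145672) (tt N14421 F145673) (tt N13478 F145674) (tt N15428 F145675) (tt N15428 F145676) (tt N17289 D33216) (tt N13477 (iv D31355)))
theorem Q15430 : ∀ i, i < 15430 → P i := stepQ 15429 Q15429 (allL N15429 (tt N14435 F145677) (tt N17283 (iv F154110)) (tt N13484 F145678) (tt N17281 (iv F154097)) (tt N13480 F145679) (tt N17280 (iv F154091)) (tt N15429 F145680) (tt N15429 F145681) (tt N17290 D33217) (tt N13479 (iv D31356)))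
theorem Q15431 : ∀ i, i < 15431 → P i := stepQ 15430 Q15430 (allL N15430 (tt N14436 F145682) (tt N17284 (iv F154117)) (tt N13485 F145683) (tt N17289 (iv F154157)) (tt N17290 (iv F154164)) (tt N17250 (iv F153897)) (tt N15430 F145684) (tt N15430 F145685) (tt N13480 (iv D31357)) (tt N15430 F145686))
theorem Q15432 : ∀ i, i < 15432 → P i := stepQ 15431 Q15431 (allL N15431 (tt N14440 F145687) (tt N15178 F145688) (tt N17280 (iv F154088)) (tt N14708 F145689) (tt N13482 F145690) (tt N13484 F145691) (tt N14707 F145692) (tt N15431 F145693) (tt N14706 F145694) (tt N13481 (iv D31358)))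
theorem Q15433 : ∀ i, i < 15433 → P i := stepQ 15432 Q15432 (allL N15432 (tt N14441 F145695) (tt N15177 F145696) (tt N17287 (iv F154142)) (tt N15224 F145697) (tt N14706 F145698) (tt N17273 (iv F154042)) (tt N14705 F145699) (tt N15432 F145700) (tt N13482 (iv D31359)) (tt N14712 F145701))
theorem Q15434 : ∀ i, i < 15434 → P i := stepQ 15433 Q15433 (allL N15433 (tt N14442 F145702) (tt N15433 F145703) (tt N13483 (iv D31360)) (tt N17118 (iv F153108)) (tt N15433 F145704) (tt N17117 (iv F153104)) (tt N15433 F145705) (tt N15433 F145706) (tt N15433 F145707) (tt N17291 D33218))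
theorem Q15435 : ∀ i, i < 15435 → P i := stepQ 15434 Q15434 (allL N15434 (tt N14443 F145708) (tt N15179 F145709) (tt N17291 (iv F154171)) (tt N13484 F145710) (tt N15434 F145711) (tt N14708 F145712) (tt N15434 F145713) (tt N15434 F145714) (tt N14728 (iv F145715)) (tt N13483 (iv D31361)))
theorem Q15436 : ∀ i, i < 15436 → P i := stepQ 15435 Q15435 (allL N15435 (tt N14444 F145716) (tt N15184 F145717) (tt N17290 (iv F154163)) (tt N14728 F145718) (tt N13485 F145719) (tt N14727 F145720) (tt N15435 F145721) (tt N15435 F145722) (tt N13484 (iv D31362)) (tt N15435 F145723))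
theorem Q15437 : ∀ i, i < 15437 → P i := stepQ 15436 Q15436 (allL N15436 (tt N14134 F145724) (tt N13486 (iv D31363)) (tt N14445 F145725) (tt N15436 F145726) (tt N13811 F145727) (tt N14775 F145728) (tt N17292 D33219) (tt N13805 F145729) (tt N13490 F145730) (tt N14314 F145731))
theorem Q15438 : ∀ i, i < 15438 → P i := stepQ 15437 Q15437 (allL N15437 (tt N13503 F145732) (tt N17292 (iv F154178)) (tt N13487 F145733) (tt N15437 F145734) (tt N13812 F145735) (tt N17293 D33220) (tt N13486 (iv D31364)) (tt N17294 D33221) (tt N13491 F145736) (tt N14315 F145737))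
theorem Q15439 : ∀ i, i < 15439 → P i := stepQ 15438 Q15438 (allL N15438 (tt N13504 F145738) (tt N14447 F145739) (tt N17293 (iv F154185)) (tt N13488 F145740) (tt N17295 D33222) (tt N13487 (iv D31365)) (tt N14777 F145741) (tt N17296 D33223) (tt N17297 D33224) (tt N14316 F145742))
theorem Q15440 : ∀ i, i < 15440 → P i := stepQ 15439 Q15439 (allL N15439 (tt N13505 F145743) (tt N14448 F145744) (tt N17294 (iv F154191)) (tt N13489 F145745) (tt N13814 F145746) (tt N17296 (iv F154206)) (tt N13808 F145747) (tt N13487 (iv D31366)) (tt N13493 F145748) (tt N14317 F145749))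
theorem Q15441 : ∀ i, i < 15441 → P i := stepQ 15440 Q15440 (allL N15440 (tt N13506 F145750) (tt N14449 F145751) (tt N15440 F145752) (tt N17296 (iv F154205)) (tt N13733 F145753) (tt N13489 F145754) (tt N17298 D33225) (tt N13488 (iv D31367)) (tt N17299 D33226) (tt N14318 F145755))
theorem Q15442 : ∀ i, i < 15442 → P i := stepQ 15441 Q15441 (allL N15441 (tt N13507 F145756) (tt N13937 F145757) (tt N15441 F145758) (tt N17297 (iv F154211)) (tt N13734 F145759) (tt N13495 F145760) (tt N14780 F145761) (tt N17299 (iv F154227)) (tt N13488 (iv D31368)) (tt N14376 (iv F145762)))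
theorem Q15443 : ∀ i, i < 15443 → P i := stepQ 15442 Q15442 (allL N15442 (tt N14123 F145763) (tt N13491 F145764) (tt N14450 F145765) (tt N15442 F145766) (tt N14097 F145767) (tt N14489 (iv F145769)) (tt N13490 (iv D31369)) (tt N17300 D33227) (tt N17292 (iv F154182)) (tt N15442 F145768))
theorem Q15444 : ∀ i, i < 15444 → P i := stepQ 15443 Q15443 (allL N15443 (tt N13509 F145770) (tt N17300 (iv F154230)) (tt N13493 F145771) (tt N15443 F145772) (tt N14155 F145773) (tt N14564 F145774) (tt N14148 F145775) (tt N13491 (iv D31370)) (tt N17294 (iv F154195)) (tt N15443 F145776))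
theorem Q15445 : ∀ i, i < 15445 → P i := stepQ 15444 Q15444 (allL N15444 (tt N13511 F145777) (tt N14454 F145778) (tt N14564 F145779) (tt N13494 F145780) (tt N14562 F145781) (tt N13493 F145782) (tt N17301 D33228) (tt N13492 (iv D31371)) (tt N17302 D33229) (tt N15444 F145783))
theorem Q15446 : ∀ i, i < 15446 → P i := stepQ 15445 Q15445 (allL N15445 (tt N13512 F145784) (tt N13989 F145785) (tt N14565 F145786) (tt N13495 F145787) (tt N14563 F145788) (tt N17297 (iv F154212)) (tt N15445 F145789) (tt N17302 (iv F154250)) (tt N13492 (iv D31372)) (tt N14401 (iv F145790)))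
theorem Q15447 : ∀ i, i < 15447 → P i := stepQ 15446 Q15446 (allL N15446 (tt N13513 F145791) (tt N14455 F145792) (tt N15446 F145793) (tt N17301 (iv F154240)) (tt N13497 F145794) (tt N14152 F145795) (tt N13494 (iv D31373)) (tt N15446 F145796) (tt N17303 D33230) (tt N15446 F145797))
theorem Q15448 : ∀ i, i < 15448 → P i := stepQ 15447 Q15447 (allL N15447 (tt N13514 F145798) (tt N13990 F145799) (tt N15447 F145800) (tt N17302 (iv F154248)) (tt N13498 F145801) (tt N17299 (iv F154226)) (tt N17303 (iv F154256)) (tt N13495 F145802) (tt N13494 (iv D31374)) (tt N14402 (iv F145803)))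
theorem Q15449 : ∀ i, i < 15449 → P i := stepQ 15448 Q15448 (allL N15448 (tt N13519 F145804) (tt N14457 F145805) (tt N14684 F145806) (tt N13497 F145807) (tt N14682 F145808) (tt N15448 F145809) (tt N13496 (iv D31375)) (tt N15448 F145810) (tt N14593 F145811) (tt N15448 F145812))
theorem Q15450 : ∀ i, i < 15450 → P i := stepQ 15449 Q15449 (allL N15449 (tt N13521 F145813) (tt N13991 F145814) (tt N15449 F145815) (tt N14593 F145816) (tt N17303 (iv F154255)) (tt N14001 (iv F145819)) (tt N13498 F145817) (tt N15449 F145818) (tt N13497 (iv D31376)) (tt N14403 (iv F145820)))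
theorem Q15451 : ∀ i, i < 15451 → P i := stepQ 15450 Q15450 (allL N15450 (tt N14776 F145821) (tt N15018 F145822) (tt N13500 F145823) (tt N15450 F145824) (tt N13817 F145825) (tt N17304 D33231) (tt N13499 (iv D31377)) (tt N17305 D33232) (tt N15450 F145826) (tt N13806 F145827))
theorem Q15452 : ∀ i, i < 15452 → P i := stepQ 15451 Q15451 (allL N15451 (tt N14777 F145828) (tt N13537 F145829) (tt N17304 (iv F154261)) (tt N13501 F145830) (tt N17306 D33233) (tt N13500 (iv D31378)) (tt N13504 F145831) (tt N17307 D33234) (tt N17308 D33235) (tt N13807 F145832))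
theorem Q15453 : ∀ i, i < 15453 → P i := stepQ 15452 Q15452 (allL N15452 (tt N14778 F145833) (tt N13538 F145834) (tt N17305 (iv F154267)) (tt N13502 F145835) (tt N13819 F145836) (tt N17307 (iv F154282)) (tt N14317 F145837) (tt N13500 (iv D31379)) (tt N15452 F145838) (tt N13808 F145839))
theorem Q15454 : ∀ i, i < 15454 → P i := stepQ 15453 Q15453 (allL N15453 (tt N14779 F145840) (tt N13539 F145841) (tt N15453 F145842) (tt N17307 (iv F154281)) (tt N13756 F145843) (tt N13502 F145844) (tt N17309 D33236) (tt N13501 (iv D31380)) (tt N17310 D33237) (tt N13809 F145845))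
theorem Q15455 : ∀ i, i < 15455 → P i := stepQ 15454 Q15454 (allL N15454 (tt N14780 F145846) (tt N13540 F145847) (tt N15454 F145848) (tt N17308 (iv F154286)) (tt N13757 F145849) (tt N15454 F145850) (tt N13507 F145851) (tt N17310 (iv F154301)) (tt N13501 (iv D31381)) (tt N17311 D33238))
theorem Q15456 : ∀ i, i < 15456 → P i := stepQ 15455 Q15455 (allL N15455 (tt N17293 (iv F154184)) (tt N15015 F145852) (tt N13504 F145853) (tt N15455 F145854) (tt N17312 D33239) (tt N13503 (iv D31382)) (tt N17304 (iv F154263)) (tt N17313 D33240) (tt N17314 D33241) (tt N17193 (iv F153590)))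
theorem Q15457 : ∀ i, i < 15457 → P i := stepQ 15456 Q15456 (allL N15456 (tt N17294 (iv F154190)) (tt N15014 F145855) (tt N13505 F145856) (tt N15456 F145857) (tt N14790 F145858) (tt N17313 (iv F154315)) (tt N14783 F145859) (tt N13503 (iv D31383)) (tt N13509 F145860) (tt N17194 (iv F153598)))
theorem Q15458 : ∀ i, i < 15458 → P i := stepQ 15457 Q15457 (allL N15457 (tt N17295 (iv F154197)) (tt N13565 F145861) (tt N17312 (iv F154310)) (tt N13777 F145862) (tt N13504 (iv D31384)) (tt N14791 F145863) (tt N17306 (iv F154277)) (tt N17315 D33242) (tt N17316 D33243) (tt N17195 (iv F153604)))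
theorem Q15459 : ∀ i, i < 15459 → P i := stepQ 15458 Q15458 (allL N15458 (tt N17296 (iv F154203)) (tt N13566 F145864) (tt N17313 (iv F154313)) (tt N13506 F145865) (tt N17315 (iv F154323)) (tt N13505 F145866) (tt N17317 D33244) (tt N13504 (iv D31385)) (tt N17318 D33245) (tt N17196 (iv F153609)))
theorem Q15460 : ∀ i, i < 15460 → P i := stepQ 15459 Q15459 (allL N15459 (tt N17297 (iv F154208)) (tt N13567 F145867) (tt N17314 (iv F154318)) (tt N13507 F145868) (tt N17316 (iv F154327)) (tt N13512 F145869) (tt N17308 (iv F154288)) (tt N17318 (iv F154334)) (tt N13504 (iv D31386)) (tt N17319 D33246))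
theorem Q15461 : ∀ i, i < 15461 → P i := stepQ 15460 Q15460 (allL N15460 (tt N17298 (iv F154215)) (tt N13568 F145870) (tt N15460 F145871) (tt N17317 (iv F154329)) (tt N13780 F145872) (tt N14787 F145873) (tt N13506 (iv D31387)) (tt N17309 (iv F154294)) (tt N17320 D33247) (tt N17198 (iv F153621)))
theorem Q15462 : ∀ i, i < 15462 → P i := stepQ 15461 Q15461 (allL N15461 (tt N17299 (iv F154222)) (tt N13569 F145874) (tt N15461 F145875) (tt N17318 (iv F154332)) (tt N13781 F145876) (tt N13514 F145877) (tt N17320 (iv F154342)) (tt N13507 F145878) (tt N13506 (iv D31388)) (tt N17321 D33248))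
theorem Q15463 : ∀ i, i < 15463 → P i := stepQ 15462 Q15462 (allL N15462 (tt N14376 F145879) (tt N13570 F145880) (tt N15462 F145881) (tt N17319 (iv F154337)) (tt N13782 F145882) (tt N13515 F145883) (tt N17311 (iv F154307)) (tt N17321 (iv F154348)) (tt N17200 (iv F153634)) (tt N13507 (iv D31389)))
theorem Q15464 : ∀ i, i < 15464 → P i := stepQ 15463 Q15463 (allL N15463 (tt N14564 F145884) (tt N15006 F145885) (tt N13511 F145886) (tt N15463 F145887) (tt N13573 F145888) (tt N13509 F145889) (tt N17322 D33249) (tt N13508 (iv D31390)) (tt N17323 D33250) (tt N15463 F145890))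
theorem Q15465 : ∀ i, i < 15465 → P i := stepQ 15464 Q15464 (allL N15464 (tt N14565 F145891) (tt N15007 F145892) (tt N13512 F145893) (tt N15464 F145894) (tt N13574 F145895) (tt N17314 (iv F154320)) (tt N15464 F145896) (tt N17323 (iv F154362)) (tt N13508 (iv D31391)) (tt N17324 D33251))
theorem Q15466 : ∀ i, i < 15466 → P i := stepQ 15465 Q15465 (allL N15465 (tt N14562 F145897) (tt N13584 F145898) (tt N13573 F145899) (tt N13517 F145900) (tt N13511 F145901) (tt N13572 F145902) (tt N17325 D33252) (tt N13510 (iv D31392)) (tt N17326 D33253) (tt N15465 F145903))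
theorem Q15467 : ∀ i, i < 15467 → P i := stepQ 15466 Q15466 (allL N15466 (tt N14563 F145904) (tt N13585 F145905) (tt N13574 F145906) (tt N13518 F145907) (tt N13512 F145908) (tt N17327 D33254) (tt N15466 F145909) (tt N17326 (iv F154383)) (tt N13510 (iv D31393)) (tt N14189 (iv F145910)))
theorem Q15468 : ∀ i, i < 15468 → P i := stepQ 15467 Q15467 (allL N15467 (tt N17301 (iv F154237)) (tt N13586 F145911) (tt N17322 (iv F154351)) (tt N13513 F145912) (tt N17325 (iv F154374)) (tt N15008 F145913) (tt N13511 (iv D31394)) (tt N15467 F145914) (tt N17328 D33255) (tt N15467 F145915))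
theorem Q15469 : ∀ i, i < 15469 → P i := stepQ 15468 Q15468 (allL N15468 (tt N17302 (iv F154245)) (tt N13587 F145916) (tt N17323 (iv F154359)) (tt N13514 F145917) (tt N17326 (iv F154382)) (tt N17318 (iv F154333)) (tt N17328 (iv F154393)) (tt N13512 F145918) (tt N13511 (iv D31395)) (tt N17329 D33256))
theorem Q15470 : ∀ i, i < 15470 → P i := stepQ 15469 Q15469 (allL N15469 (tt N14401 F145919) (tt N13588 F145920) (tt N17324 (iv F154365)) (tt N13515 F145921) (tt N14189 F145922) (tt N17319 (iv F154338)) (tt N15469 F145923) (tt N17329 (iv F154399)) (tt N15469 F145924) (tt N13512 (iv D31396)))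
theorem Q15471 : ∀ i, i < 15471 → P i := stepQ 15470 Q15470 (allL N15470 (tt N17303 (iv F154252)) (tt N13589 F145925) (tt N15470 F145926) (tt N17328 (iv F154392)) (tt N13521 F145927) (tt N17330 D33257) (tt N13514 F145928) (tt N15470 F145929) (tt N13513 (iv D31397)) (tt N17331 D33258))
theorem Q15472 : ∀ i, i < 15472 → P i := stepQ 15471 Q15471 (allL N15471 (tt N14402 F145930) (tt N13590 F145931) (tt N15471 F145932) (tt N17329 (iv F154397)) (tt N13522 F145933) (tt N17321 (iv F154347)) (tt N17331 (iv F154409)) (tt N13515 F145934) (tt N15471 F145935) (tt N13514 (iv D31398)))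
theorem Q15473 : ∀ i, i < 15473 → P i := stepQ 15472 Q15472 (allL N15472 (tt N14684 F145936) (tt N15472 F145937) (tt N13519 F145938) (tt N15472 F145939) (tt N13665 F145940) (tt N15472 F145941) (tt N13516 (iv D31399)) (tt N15472 F145942) (tt N13681 F145943) (tt N15472 F145944))
theorem Q15474 : ∀ i, i < 15474 → P i := stepQ 15473 Q15473 (allL N15473 (tt N14682 F145945) (tt N13591 F145946) (tt N13665 F145947) (tt N17325 (iv F154373)) (tt N13519 F145948) (tt N13673 F145949) (tt N13517 (iv D31400)) (tt N15473 F145950) (tt N17332 D33259) (tt N15473 F145951))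
theorem Q15475 : ∀ i, i < 15475 → P i := stepQ 15474 Q15474 (allL N15474 (tt N14683 F145952) (tt N13592 F145953) (tt N13666 F145954) (tt N17326 (iv F154381)) (tt N13520 F145955) (tt N17333 D33260) (tt N17332 (iv F154416)) (tt N13518 F145956) (tt N13517 (iv D31401)) (tt N13893 (iv F145957)))
theorem Q15476 : ∀ i, i < 15476 → P i := stepQ 15475 Q15475 (allL N15475 (tt N14645 F145958) (tt N13593 F145959) (tt N13638 F145960) (tt N17327 (iv F154388)) (tt N13804 F145961) (tt N13518 (iv D31402)) (tt N17334 D33261) (tt N17333 (iv F154423)) (tt N13634 F145962) (tt N14187 F145963))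
theorem Q15477 : ∀ i, i < 15477 → P i := stepQ 15476 Q15476 (allL N15476 (tt N14593 F145964) (tt N13595 F145965) (tt N13681 F145966) (tt N13521 F145967) (tt N17332 (iv F154415)) (tt N13598 (iv F145970)) (tt N13520 F145968) (tt N15476 F145969) (tt N13519 (iv D31403)) (tt N13597 (iv F145971)))
theorem Q15478 : ∀ i, i < 15478 → P i := stepQ 15477 Q15477 (allL N15477 (tt N14001 F145972) (tt N13597 F145973) (tt N15477 F145974) (tt N13598 F145975) (tt N17335 D33262) (tt N13521 (iv D31404)) (tt N13596 F145976) (tt N15477 F145977) (tt N15477 F145978) (tt N13595 (iv F145979)))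
theorem Q15479 : ∀ i, i < 15479 → P i := stepQ 15478 Q15478 (allL N15478 (tt N14403 F145980) (tt N13598 F145981) (tt N15478 F145982) (tt N13597 F145983) (tt N17331 (iv F154408)) (tt N13595 F145984) (tt N13522 F145985) (tt N15478 F145986) (tt N15478 F145987) (tt N13521 (iv D31405)))
theorem Q15480 : ∀ i, i < 15480 → P i := stepQ 15479 Q15479 (allL N15479 (tt N14507 F145988) (tt N15019 F145989) (tt N13524 F145990) (tt N15479 F145991) (tt N13536 F145992) (tt N17336 D33263) (tt N13523 (iv D31406)) (tt N17337 D33264) (tt N15479 F145993) (tt N13753 F145994))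
theorem Q15481 : ∀ i, i < 15481 → P i := stepQ 15480 Q15480 (allL N15480 (tt N14508 F145995) (tt N13818 F145996) (tt N17336 (iv F154442)) (tt N13525 F145997) (tt N17338 D33265) (tt N13524 (iv D31407)) (tt N13769 F145998) (tt N17339 D33266) (tt N17340 D33267) (tt N13754 F145999))
theorem Q15482 : ∀ i, i < 15482 → P i := stepQ 15481 Q15481 (allL N15481 (tt N14509 F146000) (tt N13819 F146001) (tt N17337 (iv F154448)) (tt N13526 F146002) (tt N13538 F146003) (tt N17339 (iv F154463)) (tt N14292 F146004) (tt N13524 (iv D31408)) (tt N15481 F146005) (tt N13755 F146006))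
theorem Q15483 : ∀ i, i < 15483 → P i := stepQ 15482 Q15482 (allL N15482 (tt N14510 F146007) (tt N13820 F146008) (tt N15482 F146009) (tt N17339 (iv F154462)) (tt N13809 F146010) (tt N13526 F146011) (tt N17341 D33268) (tt N13525 (iv D31409)) (tt N17342 D33269) (tt N13756 F146012))
theorem Q15484 : ∀ i, i < 15484 → P i := stepQ 15483 Q15483 (allL N15483 (tt N14511 F146013) (tt N13821 F146014) (tt N15483 F146015) (tt N17340 (iv F154467)) (tt N13810 F146016) (tt N15483 F146017) (tt N13772 F146018) (tt N17342 (iv F154482)) (tt N13525 (iv D31410)) (tt N17343 D33270))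
theorem Q15485 : ∀ i, i < 15485 → P i := stepQ 15484 Q15484 (allL N15484 (tt N17344 D33271) (tt N13527 (iv D31411)) (tt N14314 F146019) (tt N13599 F146020) (tt N14289 F146021) (tt N13549 F146022) (tt N17345 D33272) (tt N13535 F146023) (tt N15484 F146024) (tt N14445 F146025))
theorem Q15486 : ∀ i, i < 15486 → P i := stepQ 15485 Q15485 (allL N15485 (tt N14471 F146026) (tt N17345 (iv F154498)) (tt N13528 F146027) (tt N13600 F146028) (tt N14290 F146029) (tt N17346 D33273) (tt N13527 (iv D31412)) (tt N17347 D33274) (tt N15485 F146030) (tt N14446 F146031))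
theorem Q15487 : ∀ i, i < 15487 → P i := stepQ 15486 Q15486 (allL N15486 (tt N14472 F146032) (tt N14316 F146033) (tt N17346 (iv F154505)) (tt N13529 F146034) (tt N17348 D33275) (tt N13528 (iv D31413)) (tt N13551 F146035) (tt N17349 D33276) (tt N17350 D33277) (tt N14447 F146036))
theorem Q15488 : ∀ i, i < 15488 → P i := stepQ 15487 Q15487 (allL N15487 (tt N14473 F146037) (tt N14317 F146038) (tt N17347 (iv F154510)) (tt N13530 F146039) (tt N14292 F146040) (tt N17349 (iv F154525)) (tt N13538 F146041) (tt N13528 (iv D31414)) (tt N15487 F146042) (tt N14448 F146043))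
theorem Q15489 : ∀ i, i < 15489 → P i := stepQ 15488 Q15488 (allL N15488 (tt N14474 F146044) (tt N14318 F146045) (tt N13603 F146046) (tt N17349 (iv F154524)) (tt N14739 F146047) (tt N13530 F146048) (tt N17351 D33278) (tt N13529 (iv D31415)) (tt N17352 D33279) (tt N14449 F146049))
theorem Q15490 : ∀ i, i < 15490 → P i := stepQ 15489 Q15489 (allL N15489 (tt N14475 F146050) (tt N14319 F146051) (tt N13604 F146052) (tt N17350 (iv F154529)) (tt N14384 F146053) (tt N15489 F146054) (tt N13554 F146055) (tt N17352 (iv F154545)) (tt N13529 (iv D31416)) (tt N14381 F146056))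
theorem Q15491 : ∀ i, i < 15491 → P i := stepQ 15490 Q15490 (allL N15490 (tt N17353 D33280) (tt N13531 (iv D31417)) (tt N13805 F146057) (tt N13605 F146058) (tt N13752 F146059) (tt N13555 F146060) (tt N17354 D33281) (tt N14445 F146061) (tt N14108 F146062) (tt N13535 F146063))
theorem Q15492 : ∀ i, i < 15492 → P i := stepQ 15491 Q15491 (allL N15491 (tt N14465 F146064) (tt N17354 (iv F154555)) (tt N13532 F146065) (tt N13606 F146066) (tt N13753 F146067) (tt N17355 D33282) (tt N13531 (iv D31418)) (tt N17356 D33283) (tt N14109 F146068) (tt N13536 F146069))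
theorem Q15493 : ∀ i, i < 15493 → P i := stepQ 15492 Q15492 (allL N15492 (tt N14466 F146070) (tt N13807 F146071) (tt N17355 (iv F154562)) (tt N13533 F146072) (tt N17357 D33284) (tt N13532 (iv D31419)) (tt N13557 F146073) (tt N17358 D33285) (tt N17359 D33286) (tt N13537 F146074))
theorem Q15494 : ∀ i, i < 15494 → P i := stepQ 15493 Q15493 (allL N15493 (tt N14467 F146075) (tt N13808 F146076) (tt N17356 (iv F154567)) (tt N13534 F146077) (tt N13755 F146078) (tt N17358 (iv F154582)) (tt N14448 F146079) (tt N13532 (iv D31420)) (tt N14111 F146080) (tt N13538 F146081))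
theorem Q15495 : ∀ i, i < 15495 → P i := stepQ 15494 Q15494 (allL N15494 (tt N14468 F146082) (tt N13809 F146083) (tt N13609 F146084) (tt N17358 (iv F154581)) (tt N13820 F146085) (tt N13534 F146086) (tt N17360 D33287) (tt N13533 (iv D31421)) (tt N17361 D33288) (tt N13539 F146087))
theorem Q15496 : ∀ i, i < 15496 → P i := stepQ 15495 Q15495 (allL N15495 (tt N14469 F146088) (tt N13810 F146089) (tt N13610 F146090) (tt N17359 (iv F154586)) (tt N13821 F146091) (tt N14113 F146092) (tt N13560 F146093) (tt N17361 (iv F154601)) (tt N13533 (iv D31422)) (tt N17362 D33289))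
theorem Q15497 : ∀ i, i < 15497 → P i := stepQ 15496 Q15496 (allL N15496 (tt N13535 (iv D31423)) (tt N14512 F146094) (tt N14175 F146095) (tt N13611 F146096) (tt N14183 F146097) (tt N13561 F146098) (tt N17363 D33290) (tt N17344 (iv F154495)) (tt N15496 F146099) (tt N17353 (iv F154554)))
theorem Q15498 : ∀ i, i < 15498 → P i := stepQ 15497 Q15497 (allL N15497 (tt N17363 (iv F154609)) (tt N13536 F146100) (tt N15018 F146101) (tt N13612 F146102) (tt N15019 F146103) (tt N17364 D33291) (tt N13535 (iv D31424)) (tt N17365 D33292) (tt N15497 F146104) (tt N17354 (iv F154560)))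
theorem Q15499 : ∀ i, i < 15499 → P i := stepQ 15498 Q15498 (allL N15498 (tt N14514 F146105) (tt N17364 (iv F154615)) (tt N13537 F146106) (tt N13613 F146107) (tt N17366 D33293) (tt N13536 (iv D31425)) (tt N13563 F146108) (tt N17367 D33294) (tt N17368 D33295) (tt N17355 (iv F154565)))
theorem Q15500 : ∀ i, i < 15500 → P i := stepQ 15499 Q15499 (allL N15499 (tt N14515 F146109) (tt N17365 (iv F154619)) (tt N13538 F146110) (tt N13614 F146111) (tt N17337 (iv F154450)) (tt N17367 (iv F154630)) (tt N17347 (iv F154513)) (tt N13536 (iv D31426)) (tt N15499 F146112) (tt N17356 (iv F154572)))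
theorem Q15501 : ∀ i, i < 15501 → P i := stepQ 15500 Q15500 (allL N15500 (tt N14516 F146113) (tt N17306 (iv F154274)) (tt N17366 (iv F154625)) (tt N13826 F146114) (tt N13537 (iv D31427)) (tt N17338 (iv F154457)) (tt N13565 F146115) (tt N17369 D33296) (tt N17370 D33297) (tt N17357 (iv F154578)))
theorem Q15502 : ∀ i, i < 15502 → P i := stepQ 15501 Q15501 (allL N15501 (tt N14517 F146116) (tt N17307 (iv F154280)) (tt N17367 (iv F154628)) (tt N13539 F146117) (tt N17369 (iv F154638)) (tt N13538 F146118) (tt N17371 D33298) (tt N13537 (iv D31428)) (tt N17372 D33299) (tt N17358 (iv F154583)))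
theorem Q15503 : ∀ i, i < 15503 → P i := stepQ 15502 Q15502 (allL N15502 (tt N14518 F146119) (tt N17308 (iv F154285)) (tt N17368 (iv F154632)) (tt N13540 F146120) (tt N17370 (iv F154641)) (tt N15502 F146121) (tt N13567 F146122) (tt N17372 (iv F154649)) (tt N13537 (iv D31429)) (tt N17373 D33300))
theorem Q15504 : ∀ i, i < 15504 → P i := stepQ 15503 Q15503 (allL N15503 (tt N14519 F146123) (tt N17309 (iv F154290)) (tt N13618 F146124) (tt N17371 (iv F154644)) (tt N13829 F146125) (tt N17351 (iv F154537)) (tt N13539 (iv D31430)) (tt N13568 F146126) (tt N17374 D33301) (tt N17360 (iv F154595)))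
theorem Q15505 : ∀ i, i < 15505 → P i := stepQ 15504 Q15504 (allL N15504 (tt N14520 F146127) (tt N17310 (iv F154297)) (tt N13619 F146128) (tt N17372 (iv F154647)) (tt N13830 F146129) (tt N15504 F146130) (tt N17374 (iv F154657)) (tt N13540 F146131) (tt N13539 (iv D31431)) (tt N17375 D33302))
theorem Q15506 : ∀ i, i < 15506 → P i := stepQ 15505 Q15505 (allL N15505 (tt N14521 F146132) (tt N17311 (iv F154303)) (tt N13620 F146133) (tt N17373 (iv F154651)) (tt N13831 F146134) (tt N15505 F146135) (tt N13570 F146136) (tt N17375 (iv F154663)) (tt N17362 (iv F154608)) (tt N13540 (iv D31432)))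
theorem Q15507 : ∀ i, i < 15507 → P i := stepQ 15506 Q15506 (allL N15506 (tt N17376 D33303) (tt N13541 (iv D31433)) (tt N14506 F146137) (tt N13621 F146138) (tt N14458 F146139) (tt N14139 F146140) (tt N17377 D33304) (tt N13832 F146141) (tt N15506 F146142) (tt N14129 F146143))
theorem Q15508 : ∀ i, i < 15508 → P i := stepQ 15507 Q15507 (allL N15507 (tt N14523 F146144) (tt N17377 (iv F154674)) (tt N13542 F146145) (tt N13622 F146146) (tt N14459 F146147) (tt N17378 D33305) (tt N13541 (iv D31434)) (tt N17379 D33306) (tt N15507 F146148) (tt N14157 F146149))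
theorem Q15509 : ∀ i, i < 15509 → P i := stepQ 15508 Q15508 (allL N15508 (tt N14524 F146150) (tt N14508 F146151) (tt N17378 (iv F154681)) (tt N13543 F146152) (tt N17380 D33307) (tt N13542 (iv D31435)) (tt N14737 F146153) (tt N17381 D33308) (tt N17382 D33309) (tt N14229 F146154))
theorem Q15510 : ∀ i, i < 15510 → P i := stepQ 15509 Q15509 (allL N15509 (tt N14525 F146155) (tt N14509 F146156) (tt N17379 (iv F154687)) (tt N13544 F146157) (tt N14461 F146158) (tt N17381 (iv F154702)) (tt N13835 F146159) (tt N13542 (iv D31436)) (tt N15509 F146160) (tt N14230 F146161))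
theorem Q15511 : ∀ i, i < 15511 → P i := stepQ 15510 Q15510 (allL N15510 (tt N14526 F146162) (tt N14510 F146163) (tt N13625 F146164) (tt N17381 (iv F154701)) (tt N13553 F146165) (tt N13544 F146166) (tt N17383 D33310) (tt N13543 (iv D31437)) (tt N17384 D33311) (tt N14231 F146167))
theorem Q15512 : ∀ i, i < 15512 → P i := stepQ 15511 Q15511 (allL N15511 (tt N14527 F146168) (tt N14511 F146169) (tt N13626 F146170) (tt N17382 (iv F154707)) (tt N13554 F146171) (tt N15511 F146172) (tt N14384 F146173) (tt N17384 (iv F154723)) (tt N13543 (iv D31438)) (tt N14370 F146174))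
theorem Q15513 : ∀ i, i < 15513 → P i := stepQ 15512 Q15512 (allL N15512 (tt N17385 D33312) (tt N13545 (iv D31439)) (tt N14775 F146175) (tt N13627 F146176) (tt N14522 F146177) (tt N14445 F146178) (tt N17132 (iv F153205)) (tt N13555 F146179) (tt N15512 F146180) (tt N13549 F146181))
theorem Q15514 : ∀ i, i < 15514 → P i := stepQ 15513 Q15513 (allL N15513 (tt N14459 F146182) (tt N17132 (iv F153201)) (tt N13546 F146183) (tt N13628 F146184) (tt N14523 F146185) (tt N17386 D33313) (tt N13545 (iv D31440)) (tt N17387 D33314) (tt N15513 F146186) (tt N13550 F146187))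
theorem Q15515 : ∀ i, i < 15515 → P i := stepQ 15514 Q15514 (allL N15514 (tt N14460 F146188) (tt N14777 F146189) (tt N17386 (iv F154735)) (tt N13547 F146190) (tt N17388 D33315) (tt N13546 (iv D31441)) (tt N14447 F146191) (tt N17389 D33316) (tt N17390 D33317) (tt N13551 F146192))
theorem Q15516 : ∀ i, i < 15516 → P i := stepQ 15515 Q15515 (allL N15515 (tt N14461 F146193) (tt N14778 F146194) (tt N17387 (iv F154740)) (tt N13548 F146195) (tt N14525 F146196) (tt N17389 (iv F154755)) (tt N13558 F146197) (tt N13546 (iv D31442)) (tt N15515 F146198) (tt N13552 F146199))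
theorem Q15517 : ∀ i, i < 15517 → P i := stepQ 15516 Q15516 (allL N15516 (tt N14462 F146200) (tt N14779 F146201) (tt N13631 F146202) (tt N17389 (iv F154754)) (tt N14231 F146203) (tt N13548 F146204) (tt N17391 D33318) (tt N13547 (iv D31443)) (tt N17392 D33319) (tt N13553 F146205))
theorem Q15518 : ∀ i, i < 15518 → P i := stepQ 15517 Q15517 (allL N15517 (tt N14463 F146206) (tt N14780 F146207) (tt N13632 F146208) (tt N17390 (iv F154759)) (tt N13901 F146209) (tt N15517 F146210) (tt N13937 F146211) (tt N17392 (iv F154775)) (tt N13547 (iv D31444)) (tt N14368 (iv F146212)))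
theorem Q15519 : ∀ i, i < 15519 → P i := stepQ 15518 Q15518 (allL N15518 (tt N13549 (iv D31445)) (tt N14528 F146213) (tt N14174 F146214) (tt N13633 F146215) (tt N14171 F146216) (tt N17344 (iv F154494)) (tt N14243 F146217) (tt N13561 F146218) (tt N13571 F146219) (tt N17385 (iv F154733)))
theorem Q15520 : ∀ i, i < 15520 → P i := stepQ 15519 Q15519 (allL N15519 (tt N14530 F146220) (tt N17131 (iv F153196)) (tt N13551 F146221) (tt N13634 F146222) (tt N17393 D33320) (tt N13550 (iv D31446)) (tt N17346 (iv F154507)) (tt N17394 D33321) (tt N17327 (iv F154389)) (tt N17386 (iv F154738)))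
theorem Q15521 : ∀ i, i < 15521 → P i := stepQ 15520 Q15520 (allL N15520 (tt N14531 F146223) (tt N17130 (iv F153189)) (tt N13552 F146224) (tt N13635 F146225) (tt N14744 F146226) (tt N17394 (iv F154783)) (tt N13564 F146227) (tt N13550 (iv D31447)) (tt N13572 F146228) (tt N17387 (iv F154745)))
theorem Q15522 : ∀ i, i < 15522 → P i := stepQ 15521 Q15521 (allL N15521 (tt N14532 F146229) (tt N14784 F146230) (tt N17393 (iv F154778)) (tt N17380 (iv F154695)) (tt N13551 (iv D31448)) (tt N14745 F146231) (tt N17348 (iv F154520)) (tt N17395 D33322) (tt N17396 D33323) (tt N17388 (iv F154751)))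
theorem Q15523 : ∀ i, i < 15523 → P i := stepQ 15522 Q15522 (allL N15522 (tt N14533 F146232) (tt N14785 F146233) (tt N17394 (iv F154781)) (tt N13553 F146234) (tt N17395 (iv F154786)) (tt N13552 F146235) (tt N17397 D33324) (tt N13551 (iv D31449)) (tt N17398 D33325) (tt N17389 (iv F154756)))
theorem Q15524 : ∀ i, i < 15524 → P i := stepQ 15523 Q15523 (allL N15523 (tt N14534 F146236) (tt N14786 F146237) (tt N17327 (iv F154387)) (tt N13554 F146238) (tt N17396 (iv F154790)) (tt N13574 F146239) (tt N17350 (iv F154531)) (tt N17398 (iv F154799)) (tt N13551 (iv D31450)) (tt N17399 D33326))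
theorem Q15525 : ∀ i, i < 15525 → P i := stepQ 15524 Q15524 (allL N15524 (tt N14535 F146240) (tt N14787 F146241) (tt N13639 F146242) (tt N17397 (iv F154793)) (tt N17383 (iv F154714)) (tt N13568 F146243) (tt N13553 (iv D31451)) (tt N17351 (iv F154538)) (tt N17400 D33327) (tt N17391 (iv F154769)))
theorem Q15526 : ∀ i, i < 15526 → P i := stepQ 15525 Q15525 (allL N15525 (tt N14536 F146244) (tt N14788 F146245) (tt N13640 F146246) (tt N17398 (iv F154797)) (tt N17384 (iv F154721)) (tt N13576 F146247) (tt N17400 (iv F154810)) (tt N13554 F146248) (tt N13553 (iv D31452)) (tt N17401 D33328))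
theorem Q15527 : ∀ i, i < 15527 → P i := stepQ 15526 Q15526 (allL N15526 (tt N14537 F146249) (tt N14789 F146250) (tt N13641 F146251) (tt N17399 (iv F154803)) (tt N14370 F146252) (tt N13577 F146253) (tt N14381 F146254) (tt N17401 (iv F154816)) (tt N14368 F146255) (tt N13554 (iv D31453)))
theorem Q15528 : ∀ i, i < 15528 → P i := stepQ 15527 Q15527 (allL N15527 (tt N13555 (iv D31454)) (tt N14538 F146256) (tt N14176 F146257) (tt N13642 F146258) (tt N14172 F146259) (tt N17353 (iv F154551)) (tt N17402 D33329) (tt N17385 (iv F154731)) (tt N15527 F146260) (tt N13561 F146261))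
theorem Q15529 : ∀ i, i < 15529 → P i := stepQ 15528 Q15528 (allL N15528 (tt N17402 (iv F154818)) (tt N13556 F146262) (tt N15016 F146263) (tt N13643 F146264) (tt N14816 F146265) (tt N17403 D33330) (tt N13555 (iv D31455)) (tt N17404 D33331) (tt N15528 F146266) (tt N13562 F146267))
theorem Q15530 : ∀ i, i < 15530 → P i := stepQ 15529 Q15529 (allL N15529 (tt N14540 F146268) (tt N17403 (iv F154825)) (tt N13557 F146269) (tt N13644 F146270) (tt N17405 D33332) (tt N13556 (iv D31456)) (tt N17355 (iv F154564)) (tt N17406 D33333) (tt N17407 D33334) (tt N13563 F146271))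
theorem Q15531 : ∀ i, i < 15531 → P i := stepQ 15530 Q15530 (allL N15530 (tt N14541 F146272) (tt N17404 (iv F154829)) (tt N13558 F146273) (tt N13645 F146274) (tt N14818 F146275) (tt N17406 (iv F154842)) (tt N17387 (iv F154743)) (tt N13556 (iv D31457)) (tt N15530 F146276) (tt N13564 F146277))
theorem Q15532 : ∀ i, i < 15532 → P i := stepQ 15531 Q15531 (allL N15531 (tt N14542 F146278) (tt N17195 (iv F153600)) (tt N17405 (iv F154836)) (tt N13848 F146279) (tt N13557 (iv D31458)) (tt N14819 F146280) (tt N17357 (iv F154577)) (tt N17408 D33335) (tt N17409 D33336) (tt N13565 F146281))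
theorem Q15533 : ∀ i, i < 15533 → P i := stepQ 15532 Q15532 (allL N15532 (tt N14543 F146282) (tt N17196 (iv F153606)) (tt N17406 (iv F154840)) (tt N13559 F146283) (tt N17408 (iv F154850)) (tt N13558 F146284) (tt N17410 D33337) (tt N13557 (iv D31459)) (tt N17411 D33338) (tt N13566 F146285))
theorem Q15534 : ∀ i, i < 15534 → P i := stepQ 15533 Q15533 (allL N15533 (tt N14544 F146286) (tt N17197 (iv F153611)) (tt N17407 (iv F154845)) (tt N13560 F146287) (tt N17409 (iv F154855)) (tt N15533 F146288) (tt N17359 (iv F154588)) (tt N17411 (iv F154862)) (tt N13557 (iv D31460)) (tt N17412 D33339))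
theorem Q15535 : ∀ i, i < 15535 → P i := stepQ 15534 Q15534 (allL N15534 (tt N14545 F146289) (tt N17198 (iv F153616)) (tt N13649 F146290) (tt N17410 (iv F154857)) (tt N13851 F146291) (tt N17391 (iv F154767)) (tt N13559 (iv D31461)) (tt N17360 (iv F154594)) (tt N17413 D33340) (tt N13568 F146292))
theorem Q15536 : ∀ i, i < 15536 → P i := stepQ 15535 Q15535 (allL N15535 (tt N14546 F146293) (tt N17199 (iv F153623)) (tt N13650 F146294) (tt N17411 (iv F154860)) (tt N13852 F146295) (tt N15535 F146296) (tt N17413 (iv F154870)) (tt N13560 F146297) (tt N13559 (iv D31462)) (tt N17414 D33341))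
theorem Q15537 : ∀ i, i < 15537 → P i := stepQ 15536 Q15536 (allL N15536 (tt N14547 F146298) (tt N17200 (iv F153629)) (tt N13651 F146299) (tt N17412 (iv F154864)) (tt N13853 F146300) (tt N15536 F146301) (tt N17362 (iv F154607)) (tt N17414 (iv F154875)) (tt N13570 F146302) (tt N13560 (iv D31463)))
theorem Q15538 : ∀ i, i < 15538 → P i := stepQ 15537 Q15537 (allL N15537 (tt N13562 F146303) (tt N14548 F146304) (tt N14164 F146305) (tt N13652 F146306) (tt N14162 F146307) (tt N17415 D33342) (tt N13561 (iv D31464)) (tt N17416 D33343) (tt N13578 F146308) (tt N17402 (iv F154824)))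
theorem Q15539 : ∀ i, i < 15539 → P i := stepQ 15538 Q15538 (allL N15538 (tt N17415 (iv F154877)) (tt N13563 F146309) (tt N15015 F146310) (tt N13653 F146311) (tt N17417 D33344) (tt N13562 (iv D31465)) (tt N17364 (iv F154618)) (tt N17418 D33345) (tt N17419 D33346) (tt N17403 (iv F154828)))
theorem Q15540 : ∀ i, i < 15540 → P i := stepQ 15539 Q15539 (allL N15539 (tt N17416 (iv F154881)) (tt N13564 F146312) (tt N15014 F146313) (tt N13654 F146314) (tt N15013 F146315) (tt N17418 (iv F154894)) (tt N17130 (iv F153193)) (tt N13562 (iv D31466)) (tt N13580 F146316) (tt N17404 (iv F154834)))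
theorem Q15541 : ∀ i, i < 15541 → P i := stepQ 15540 Q15540 (allL N15540 (tt N14551 F146317) (tt N17417 (iv F154888)) (tt N13565 F146318) (tt N17420 D33347) (tt N13563 (iv D31467)) (tt N17121 (iv F153132)) (tt N17366 (iv F154626)) (tt N17421 D33348) (tt N17422 D33349) (tt N17405 (iv F154838)))
theorem Q15542 : ∀ i, i < 15542 → P i := stepQ 15541 Q15541 (allL N15541 (tt N14552 F146319) (tt N17418 (iv F154891)) (tt N13566 F146320) (tt N13656 F146321) (tt N17421 (iv F154904)) (tt N13564 F146322) (tt N17423 D33350) (tt N13563 (iv D31468)) (tt N17424 D33351) (tt N17406 (iv F154843)))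
theorem Q15543 : ∀ i, i < 15543 → P i := stepQ 15542 Q15542 (allL N15542 (tt N14553 F146323) (tt N17419 (iv F154895)) (tt N13567 F146324) (tt N13657 F146325) (tt N17422 (iv F154907)) (tt N13583 F146326) (tt N17368 (iv F154635)) (tt N17424 (iv F154915)) (tt N13563 (iv D31469)) (tt N17425 D33352))
theorem Q15544 : ∀ i, i < 15544 → P i := stepQ 15543 Q15543 (allL N15543 (tt N14554 F146327) (tt N17315 (iv F154321)) (tt N17421 (iv F154903)) (tt N13860 F146328) (tt N13566 F146329) (tt N17123 (iv F153147)) (tt N17426 D33353) (tt N13565 (iv D31470)) (tt N17427 D33354) (tt N17408 (iv F154852)))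
theorem Q15545 : ∀ i, i < 15545 → P i := stepQ 15544 Q15544 (allL N15544 (tt N14555 F146330) (tt N17316 (iv F154325)) (tt N17422 (iv F154906)) (tt N13861 F146331) (tt N13567 F146332) (tt N17428 D33355) (tt N17370 (iv F154642)) (tt N17427 (iv F154926)) (tt N13565 (iv D31471)) (tt N17429 D33356))
theorem Q15546 : ∀ i, i < 15546 → P i := stepQ 15545 Q15545 (allL N15545 (tt N14556 F146333) (tt N17317 (iv F154328)) (tt N17423 (iv F154909)) (tt N13568 F146334) (tt N17426 (iv F154922)) (tt N17397 (iv F154794)) (tt N13566 (iv D31472)) (tt N17371 (iv F154645)) (tt N17430 D33357) (tt N17410 (iv F154858)))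
theorem Q15547 : ∀ i, i < 15547 → P i := stepQ 15546 Q15546 (allL N15546 (tt N14557 F146335) (tt N17318 (iv F154331)) (tt N17424 (iv F154912)) (tt N13569 F146336) (tt N17427 (iv F154925)) (tt N13587 F146337) (tt N17430 (iv F154935)) (tt N13567 F146338) (tt N13566 (iv D31473)) (tt N17431 D33358))
theorem Q15548 : ∀ i, i < 15548 → P i := stepQ 15547 Q15547 (allL N15547 (tt N14558 F146339) (tt N17319 (iv F154336)) (tt N17425 (iv F154917)) (tt N13570 F146340) (tt N17429 (iv F154932)) (tt N13588 F146341) (tt N17373 (iv F154653)) (tt N17431 (iv F154939)) (tt N17412 (iv F154866)) (tt N13567 (iv D31474)))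
theorem Q15549 : ∀ i, i < 15549 → P i := stepQ 15548 Q15548 (allL N15548 (tt N14559 F146342) (tt N17320 (iv F154339)) (tt N13663 F146343) (tt N17430 (iv F154934)) (tt N13865 F146344) (tt N17432 D33359) (tt N13569 F146345) (tt N17374 (iv F154658)) (tt N13568 (iv D31475)) (tt N17433 D33360))
theorem Q15550 : ∀ i, i < 15550 → P i := stepQ 15549 Q15549 (allL N15549 (tt N14560 F146346) (tt N17321 (iv F154344)) (tt N13664 F146347) (tt N17431 (iv F154937)) (tt N13866 F146348) (tt N13590 F146349) (tt N17433 (iv F154946)) (tt N13570 F146350) (tt N17414 (iv F154876)) (tt N13569 (iv D31476)))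
theorem Q15551 : ∀ i, i < 15551 → P i := stepQ 15550 Q15550 (allL N15550 (tt N14566 F146351) (tt N15008 F146352) (tt N17325 (iv F154372)) (tt N13575 F146353) (tt N17322 (iv F154353)) (tt N13586 F146354) (tt N13573 (iv D31477)) (tt N15550 F146355) (tt N17434 D33361) (tt N15550 F146356))
theorem Q15552 : ∀ i, i < 15552 → P i := stepQ 15551 Q15551 (allL N15551 (tt N14567 F146357) (tt N15009 F146358) (tt N17326 (iv F154380)) (tt N13576 F146359) (tt N17323 (iv F154361)) (tt N17398 (iv F154798)) (tt N17434 (iv F154950)) (tt N13574 F146360) (tt N13573 (iv D31478)) (tt N17435 D33362))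
theorem Q15553 : ∀ i, i < 15553 → P i := stepQ 15552 Q15552 (allL N15552 (tt N14568 F146361) (tt N15010 F146362) (tt N14189 F146363) (tt N13577 F146364) (tt N17324 (iv F154367)) (tt N17399 (iv F154804)) (tt N15552 F146365) (tt N17435 (iv F154956)) (tt N15552 F146366) (tt N13574 (iv D31479)))
theorem Q15554 : ∀ i, i < 15554 → P i := stepQ 15553 Q15553 (allL N15553 (tt N14569 F146367) (tt N15011 F146368) (tt N13667 F146369) (tt N17434 (iv F154949)) (tt N15553 F146370) (tt N17436 D33363) (tt N13576 F146371) (tt N15553 F146372) (tt N13575 (iv D31480)) (tt N17437 D33364))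
theorem Q15555 : ∀ i, i < 15555 → P i := stepQ 15554 Q15554 (allL N15554 (tt N14570 F146373) (tt N15012 F146374) (tt N13668 F146375) (tt N17435 (iv F154955)) (tt N15554 F146376) (tt N17401 (iv F154815)) (tt N17437 (iv F154967)) (tt N13577 F146377) (tt N15554 F146378) (tt N13576 (iv D31481)))
theorem Q15556 : ∀ i, i < 15556 → P i := stepQ 15555 Q15555 (allL N15555 (tt N13579 F146379) (tt N14571 F146380) (tt N14149 F146381) (tt N13669 F146382) (tt N14147 F146383) (tt N13578 (iv D31482)) (tt N15555 F146384) (tt N17438 D33365) (tt N17439 D33366) (tt N15555 F146385))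
theorem Q15557 : ∀ i, i < 15557 → P i := stepQ 15556 Q15556 (allL N15556 (tt N13580 F146386) (tt N14572 F146387) (tt N14163 F146388) (tt N13670 F146389) (tt N14161 F146390) (tt N17438 (iv F154975)) (tt N14242 F146391) (tt N13578 (iv D31483)) (tt N17416 (iv F154887)) (tt N15556 F146392))
theorem Q15558 : ∀ i, i < 15558 → P i := stepQ 15557 Q15557 (allL N15557 (tt N17438 (iv F154970)) (tt N13582 F146393) (tt N15006 F146394) (tt N13671 F146395) (tt N15004 F146396) (tt N13580 F146397) (tt N17440 D33367) (tt N13579 (iv D31484)) (tt N17441 D33368) (tt N15557 F146398))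
theorem Q15559 : ∀ i, i < 15559 → P i := stepQ 15558 Q15558 (allL N15558 (tt N17439 (iv F154978)) (tt N13583 F146399) (tt N15007 F146400) (tt N13672 F146401) (tt N15005 F146402) (tt N17419 (iv F154898)) (tt N15558 F146403) (tt N17441 (iv F154996)) (tt N13579 (iv D31485)) (tt N17442 D33369))
theorem Q15560 : ∀ i, i < 15560 → P i := stepQ 15559 Q15559 (allL N15559 (tt N14576 F146404) (tt N15004 F146405) (tt N13584 F146406) (tt N15559 F146407) (tt N13582 F146408) (tt N15003 F146409) (tt N17443 D33370) (tt N13581 (iv D31486)) (tt N17444 D33371) (tt N15559 F146410))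
theorem Q15561 : ∀ i, i < 15561 → P i := stepQ 15560 Q15560 (allL N15560 (tt N14577 F146411) (tt N15005 F146412) (tt N13585 F146413) (tt N15560 F146414) (tt N13583 F146415) (tt N17445 D33372) (tt N15560 F146416) (tt N17444 (iv F155016)) (tt N13581 (iv D31487)) (tt N17446 D33373))
theorem Q15562 : ∀ i, i < 15562 → P i := stepQ 15561 Q15561 (allL N15561 (tt N14578 F146417) (tt N17440 (iv F154985)) (tt N13586 F146418) (tt N13673 F146419) (tt N17443 (iv F155007)) (tt N17325 (iv F154375)) (tt N13582 (iv D31488)) (tt N15561 F146420) (tt N17447 D33374) (tt N15561 F146421))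
theorem Q15563 : ∀ i, i < 15563 → P i := stepQ 15562 Q15562 (allL N15562 (tt N14579 F146422) (tt N17441 (iv F154992)) (tt N13587 F146423) (tt N13674 F146424) (tt N17444 (iv F155015)) (tt N17424 (iv F154914)) (tt N17447 (iv F155032)) (tt N13583 F146425) (tt N13582 (iv D31489)) (tt N17448 D33375))
theorem Q15564 : ∀ i, i < 15564 → P i := stepQ 15563 Q15563 (allL N15563 (tt N14580 F146426) (tt N17442 (iv F154997)) (tt N13588 F146427) (tt N13675 F146428) (tt N17446 (iv F155026)) (tt N17425 (iv F154919)) (tt N15563 F146429) (tt N17448 (iv F155037)) (tt N15563 F146430) (tt N13583 (iv D31490)))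
theorem Q15565 : ∀ i, i < 15565 → P i := stepQ 15564 Q15564 (allL N15564 (tt N14581 F146431) (tt N17325 (iv F154371)) (tt N17443 (iv F155005)) (tt N13591 F146432) (tt N13586 F146433) (tt N17440 (iv F154989)) (tt N13584 (iv D31491)) (tt N15564 F146434) (tt N17449 D33376) (tt N15564 F146435))
theorem Q15566 : ∀ i, i < 15566 → P i := stepQ 15565 Q15565 (allL N15565 (tt N14582 F146436) (tt N17326 (iv F154379)) (tt N17444 (iv F155013)) (tt N13592 F146437) (tt N13587 F146438) (tt N17450 D33377) (tt N17449 (iv F155042)) (tt N13585 F146439) (tt N13584 (iv D31492)) (tt N17451 D33378))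
theorem Q15567 : ∀ i, i < 15567 → P i := stepQ 15566 Q15566 (allL N15566 (tt N14583 F146440) (tt N17327 (iv F154386)) (tt N17445 (iv F155019)) (tt N13593 F146441) (tt N17428 (iv F154929)) (tt N13585 (iv D31493)) (tt N17452 D33379) (tt N17450 (iv F155046)) (tt N17131 (iv F153199)) (tt N17453 D33380))
theorem Q15568 : ∀ i, i < 15568 → P i := stepQ 15567 Q15567 (allL N15567 (tt N13999 F146442) (tt N14189 F146443) (tt N17446 (iv F155024)) (tt N13594 F146444) (tt N13588 F146445) (tt N17453 (iv F155059)) (tt N15567 F146446) (tt N17451 (iv F155051)) (tt N15567 F146447) (tt N13585 (iv D31494)))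
theorem Q15569 : ∀ i, i < 15569 → P i := stepQ 15568 Q15568 (allL N15568 (tt N14584 F146448) (tt N17328 (iv F154391)) (tt N17447 (iv F155030)) (tt N13589 F146449) (tt N17449 (iv F155041)) (tt N17454 D33381) (tt N13587 F146450) (tt N15568 F146451) (tt N13586 (iv D31495)) (tt N17455 D33382))
theorem Q15570 : ∀ i, i < 15570 → P i := stepQ 15569 Q15569 (allL N15569 (tt N14585 F146452) (tt N17329 (iv F154396)) (tt N17448 (iv F155035)) (tt N13590 F146453) (tt N17451 (iv F155050)) (tt N17431 (iv F154938)) (tt N17455 (iv F155065)) (tt N13588 F146454) (tt N15569 F146455) (tt N13587 (iv D31496)))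
theorem Q15571 : ∀ i, i < 15571 → P i := stepQ 15570 Q15570 (allL N15570 (tt N14586 F146456) (tt N17330 (iv F154401)) (tt N13678 F146457) (tt N17454 (iv F155061)) (tt N17456 D33383) (tt N13589 (iv D31497)) (tt N17432 (iv F154942)) (tt N15570 F146458) (tt N17436 (iv F154962)) (tt N17457 D33384))
theorem Q15572 : ∀ i, i < 15572 → P i := stepQ 15571 Q15571 (allL N15571 (tt N14587 F146459) (tt N17331 (iv F154406)) (tt N13679 F146460) (tt N17455 (iv F155064)) (tt N13598 F146461) (tt N17457 (iv F155074)) (tt N13590 F146462) (tt N15571 F146463) (tt N15571 F146464) (tt N13589 (iv D31498)))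
theorem Q15573 : ∀ i, i < 15573 → P i := stepQ 15572 Q15572 (allL N15572 (tt N14588 F146465) (tt N13673 F146466) (tt N15572 F146467) (tt N17440 (iv F154987)) (tt N15572 F146468) (tt N13591 (iv D31499)) (tt N13671 F146469) (tt N15572 F146470) (tt N17458 D33385) (tt N15572 F146471))
theorem Q15574 : ∀ i, i < 15574 → P i := stepQ 15573 Q15573 (allL N15573 (tt N14589 F146472) (tt N17332 (iv F154413)) (tt N15573 F146473) (tt N17449 (iv F155040)) (tt N13595 F146474) (tt N17459 D33386) (tt N13592 F146475) (tt N15573 F146476) (tt N13591 (iv D31500)) (tt N17335 (iv F154439)))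
theorem Q15575 : ∀ i, i < 15575 → P i := stepQ 15574 Q15574 (allL N15574 (tt N14590 F146477) (tt N17333 (iv F154420)) (tt N15574 F146478) (tt N17450 (iv F155045)) (tt N13890 F146479) (tt N13592 (iv D31501)) (tt N17460 D33387) (tt N13593 F146480) (tt N17134 (iv F153219)) (tt N17461 D33388))
theorem Q15576 : ∀ i, i < 15576 → P i := stepQ 15575 Q15575 (allL N15575 (tt N14000 F146481) (tt N13893 F146482) (tt N15575 F146483) (tt N17451 (iv F155049)) (tt N13596 F146484) (tt N17461 (iv F155092)) (tt N17335 (iv F154436)) (tt N13594 F146485) (tt N15575 F146486) (tt N13592 (iv D31502)))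
theorem Q15577 : ∀ i, i < 15577 → P i := stepQ 15576 Q15576 (allL N15576 (tt N14591 F146487) (tt N17334 (iv F154427)) (tt N15576 F146488) (tt N17452 (iv F155054)) (tt N13891 F146489) (tt N15576 F146490) (tt N13593 (iv D31503)) (tt N17462 D33389) (tt N17136 (iv F153232)) (tt N17463 D33390))
theorem Q15578 : ∀ i, i < 15578 → P i := stepQ 15577 Q15577 (allL N15577 (tt N13953 F146491) (tt N14187 F146492) (tt N15577 F146493) (tt N17453 (iv F155058)) (tt N13892 F146494) (tt N13594 F146495) (tt N17463 (iv F155103)) (tt N17461 (iv F155093)) (tt N17464 D33391) (tt N13593 (iv D31504)))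
theorem Q15579 : ∀ i, i < 15579 → P i := stepQ 15578 Q15578 (allL N15578 (tt N14592 F146496) (tt N17335 (iv F154434)) (tt N13680 F146497) (tt N17465 D33392) (tt N13597 (iv D31505)) (tt N17456 (iv F155070)) (tt N13893 F146498) (tt N15578 F146499) (tt N15578 F146500) (tt N17332 F154418))
theorem Q15580 : ∀ i, i < 15580 → P i := stepQ 15579 Q15579 (allL N15579 (tt N13599 (iv D31506)) (tt N14594 F146501) (tt N15579 F146502) (tt N17344 (iv F154492)) (tt N15579 F146503) (tt N13633 F146504) (tt N17466 D33393) (tt N13611 F146505) (tt N15579 F146506) (tt N15023 F146507))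
theorem Q15581 : ∀ i, i < 15581 → P i := stepQ 15580 Q15580 (allL N15580 (tt N17466 (iv F155115)) (tt N13600 F146508) (tt N15580 F146509) (tt N17345 (iv F154500)) (tt N15580 F146510) (tt N17136 (iv F153231)) (tt N13599 (iv D31507)) (tt N17467 D33394) (tt N15580 F146511) (tt N15024 F146512))
theorem Q15582 : ∀ i, i < 15582 → P i := stepQ 15581 Q15581 (allL N15581 (tt N14596 F146513) (tt N17136 (iv F153228)) (tt N13601 F146514) (tt N17346 (iv F154506)) (tt N17190 (iv F153565)) (tt N13600 (iv D31508)) (tt N13634 F146515) (tt N17468 D33395) (tt N17334 (iv F154431)) (tt N15025 F146516))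
theorem Q15583 : ∀ i, i < 15583 → P i := stepQ 15582 Q15582 (allL N15582 (tt N14597 F146517) (tt N17467 (iv F155122)) (tt N13602 F146518) (tt N17347 (iv F154511)) (tt N15582 F146519) (tt N17468 (iv F155130)) (tt N13614 F146520) (tt N13600 (iv D31509)) (tt N15582 F146521) (tt N15026 F146522))
theorem Q15584 : ∀ i, i < 15584 → P i := stepQ 15583 Q15583 (allL N15583 (tt N14598 F146523) (tt N15583 F146524) (tt N17190 (iv F153564)) (tt N13936 F146525) (tt N13601 (iv D31510)) (tt N15583 F146526) (tt N13636 F146527) (tt N17469 D33396) (tt N14200 (iv F146529)) (tt N13933 F146528))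
theorem Q15585 : ∀ i, i < 15585 → P i := stepQ 15584 Q15584 (allL N15584 (tt N14599 F146530) (tt N15584 F146531) (tt N17468 (iv F155129)) (tt N13603 F146532) (tt N17469 (iv F155135)) (tt N13602 F146533) (tt N17470 D33397) (tt N13601 (iv D31511)) (tt N17471 D33398) (tt N15027 F146534))
theorem Q15586 : ∀ i, i < 15586 → P i := stepQ 15585 Q15585 (allL N15585 (tt N14600 F146535) (tt N15585 F146536) (tt N17334 (iv F154428)) (tt N13604 F146537) (tt N14200 F146538) (tt N15585 F146539) (tt N13638 F146540) (tt N17471 (iv F155150)) (tt N13601 (iv D31512)) (tt N14199 F146541))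
theorem Q15587 : ∀ i, i < 15587 → P i := stepQ 15586 Q15586 (allL N15586 (tt N14601 F146542) (tt N15586 F146543) (tt N17351 (iv F154535)) (tt N17470 (iv F155141)) (tt N15190 F146544) (tt N13618 F146545) (tt N13603 (iv D31513)) (tt N13639 F146546) (tt N17472 D33399) (tt N15028 F146547))
theorem Q15588 : ∀ i, i < 15588 → P i := stepQ 15587 Q15587 (allL N15587 (tt N14602 F146548) (tt N15587 F146549) (tt N17352 (iv F154542)) (tt N17471 (iv F155147)) (tt N14388 F146550) (tt N15587 F146551) (tt N17472 (iv F155155)) (tt N13604 F146552) (tt N13603 (iv D31514)) (tt N14386 F146553))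
theorem Q15589 : ∀ i, i < 15589 → P i := stepQ 15588 Q15588 (allL N15588 (tt N13605 (iv D31515)) (tt N14603 F146554) (tt N15588 F146555) (tt N17353 (iv F154549)) (tt N15588 F146556) (tt N13642 F146557) (tt N17473 D33400) (tt N15023 F146558) (tt N15029 F146559) (tt N13611 F146560))
theorem Q15590 : ∀ i, i < 15590 → P i := stepQ 15589 Q15589 (allL N15589 (tt N17473 (iv F155158)) (tt N13606 F146561) (tt N15589 F146562) (tt N17354 (iv F154557)) (tt N15589 F146563) (tt N17474 D33401) (tt N13605 (iv D31516)) (tt N17475 D33402) (tt N15030 F146564) (tt N13612 F146565))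
theorem Q15591 : ∀ i, i < 15591 → P i := stepQ 15590 Q15590 (allL N15590 (tt N14605 F146566) (tt N17474 (iv F155164)) (tt N13607 F146567) (tt N17355 (iv F154563)) (tt N17476 D33403) (tt N13606 (iv D31517)) (tt N13644 F146568) (tt N17477 D33404) (tt N17478 D33405) (tt N13613 F146569))
theorem Q15592 : ∀ i, i < 15592 → P i := stepQ 15591 Q15591 (allL N15591 (tt N14606 F146570) (tt N17475 (iv F155168)) (tt N13608 F146571) (tt N17356 (iv F154568)) (tt N15591 F146572) (tt N17477 (iv F155182)) (tt N15026 F146573) (tt N13606 (iv D31518)) (tt N15032 F146574) (tt N13614 F146575))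
theorem Q15593 : ∀ i, i < 15593 → P i := stepQ 15592 Q15592 (allL N15592 (tt N14607 F146576) (tt N15592 F146577) (tt N17476 (iv F155175)) (tt N13908 F146578) (tt N13607 (iv D31519)) (tt N15592 F146579) (tt N13646 F146580) (tt N17479 D33406) (tt N15140 (iv F146582)) (tt N13615 F146581))
theorem Q15594 : ∀ i, i < 15594 → P i := stepQ 15593 Q15593 (allL N15593 (tt N14608 F146583) (tt N15593 F146584) (tt N17477 (iv F155181)) (tt N13609 F146585) (tt N17479 (iv F155193)) (tt N13608 F146586) (tt N17480 D33407) (tt N13607 (iv D31520)) (tt N17481 D33408) (tt N13616 F146587))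
theorem Q15595 : ∀ i, i < 15595 → P i := stepQ 15594 Q15594 (allL N15594 (tt N14609 F146588) (tt N15594 F146589) (tt N17478 (iv F155185)) (tt N13610 F146590) (tt N15140 F146591) (tt N15035 F146592) (tt N13648 F146593) (tt N17481 (iv F155208)) (tt N13607 (iv D31521)) (tt N15148 (iv F146594)))
theorem Q15596 : ∀ i, i < 15596 → P i := stepQ 15595 Q15595 (allL N15595 (tt N14610 F146595) (tt N15595 F146596) (tt N17360 (iv F154591)) (tt N17480 (iv F155199)) (tt N13911 F146597) (tt N15028 F146598) (tt N13609 (iv D31522)) (tt N13649 F146599) (tt N17482 D33409) (tt N13618 F146600))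
theorem Q15597 : ∀ i, i < 15597 → P i := stepQ 15596 Q15596 (allL N15596 (tt N14611 F146601) (tt N15596 F146602) (tt N17361 (iv F154598)) (tt N17481 (iv F155205)) (tt N13912 F146603) (tt N15037 F146604) (tt N17482 (iv F155213)) (tt N13610 F146605) (tt N13609 (iv D31523)) (tt N17483 D33410))
theorem Q15598 : ∀ i, i < 15598 → P i := stepQ 15597 Q15597 (allL N15597 (tt N14612 F146606) (tt N15597 F146607) (tt N17362 (iv F154604)) (tt N15148 F146608) (tt N13913 F146609) (tt N15038 F146610) (tt N13651 F146611) (tt N17483 (iv F155220)) (tt N13620 F146612) (tt N13610 (iv D31524)))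
theorem Q15599 : ∀ i, i < 15599 → P i := stepQ 15598 Q15598 (allL N15598 (tt N13612 F146613) (tt N14613 F146614) (tt N15598 F146615) (tt N17363 (iv F154612)) (tt N15598 F146616) (tt N17484 D33411) (tt N13611 (iv D31525)) (tt N17485 D33412) (tt N15598 F146617) (tt N17473 (iv F155163)))
theorem Q15600 : ∀ i, i < 15600 → P i := stepQ 15599 Q15599 (allL N15599 (tt N17484 (iv F155222)) (tt N13613 F146618) (tt N15599 F146619) (tt N17364 (iv F154617)) (tt N17486 D33413) (tt N13612 (iv D31526)) (tt N13653 F146620) (tt N17487 D33414) (tt N17488 D33415) (tt N17474 (iv F155167)))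
theorem Q15601 : ∀ i, i < 15601 → P i := stepQ 15600 Q15600 (allL N15600 (tt N17485 (iv F155226)) (tt N13614 F146621) (tt N15600 F146622) (tt N17365 (iv F154621)) (tt N15600 F146623) (tt N17487 (iv F155237)) (tt N17467 (iv F155125)) (tt N13612 (iv D31527)) (tt N15600 F146624) (tt N17475 (iv F155173)))
theorem Q15602 : ∀ i, i < 15602 → P i := stepQ 15601 Q15601 (allL N15601 (tt N14616 F146625) (tt N17486 (iv F155231)) (tt N13615 F146626) (tt N17489 D33416) (tt N13613 (iv D31528)) (tt N15601 F146627) (tt N13655 F146628) (tt N17490 D33417) (tt N17491 D33418) (tt N17476 (iv F155178)))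
theorem Q15603 : ∀ i, i < 15603 → P i := stepQ 15602 Q15602 (allL N15602 (tt N14617 F146629) (tt N17487 (iv F155235)) (tt N13616 F146630) (tt N17367 (iv F154629)) (tt N17490 (iv F155248)) (tt N13614 F146631) (tt N17492 D33419) (tt N13613 (iv D31529)) (tt N17493 D33420) (tt N17477 (iv F155183)))
theorem Q15604 : ∀ i, i < 15604 → P i := stepQ 15603 Q15603 (allL N15603 (tt N14618 F146632) (tt N17488 (iv F155238)) (tt N13617 F146633) (tt N17368 (iv F154633)) (tt N17491 (iv F155252)) (tt N15603 F146634) (tt N13657 F146635) (tt N17493 (iv F155262)) (tt N13613 (iv D31530)) (tt N17494 D33421))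
theorem Q15605 : ∀ i, i < 15605 → P i := stepQ 15604 Q15604 (allL N15604 (tt N14619 F146636) (tt N15604 F146637) (tt N17490 (iv F155247)) (tt N13920 F146638) (tt N13616 F146639) (tt N15604 F146640) (tt N17495 D33422) (tt N13615 (iv D31531)) (tt N17496 D33423) (tt N17479 (iv F155196)))
theorem Q15606 : ∀ i, i < 15606 → P i := stepQ 15605 Q15605 (allL N15605 (tt N14620 F146641) (tt N15605 F146642) (tt N17491 (iv F155251)) (tt N13921 F146643) (tt N13617 F146644) (tt N15167 (iv F146647)) (tt N13659 F146645) (tt N17496 (iv F155278)) (tt N13615 (iv D31532)) (tt N15150 F146646))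
theorem Q15607 : ∀ i, i < 15607 → P i := stepQ 15606 Q15606 (allL N15606 (tt N14621 F146648) (tt N15606 F146649) (tt N17492 (iv F155257)) (tt N13618 F146650) (tt N17495 (iv F155272)) (tt N17470 (iv F155142)) (tt N13616 (iv D31533)) (tt N13660 F146651) (tt N17497 D33424) (tt N17480 (iv F155202)))
theorem Q15608 : ∀ i, i < 15608 → P i := stepQ 15607 Q15607 (allL N15607 (tt N14622 F146652) (tt N15607 F146653) (tt N17493 (iv F155260)) (tt N13619 F146654) (tt N17496 (iv F155277)) (tt N15607 F146655) (tt N17497 (iv F155284)) (tt N13617 F146656) (tt N13616 (iv D31534)) (tt N17498 D33425))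
theorem Q15609 : ∀ i, i < 15609 → P i := stepQ 15608 Q15608 (allL N15608 (tt N14623 F146657) (tt N15608 F146658) (tt N17494 (iv F155264)) (tt N13620 F146659) (tt N15150 F146660) (tt N15608 F146661) (tt N13662 F146662) (tt N17498 (iv F155291)) (tt N15148 F146663) (tt N13617 (iv D31535)))
theorem Q15610 : ∀ i, i < 15610 → P i := stepQ 15609 Q15609 (allL N15609 (tt N14624 F146664) (tt N15609 F146665) (tt N17374 (iv F154655)) (tt N17497 (iv F155283)) (tt N13925 F146666) (tt N17499 D33426) (tt N13619 F146667) (tt N13663 F146668) (tt N13618 (iv D31536)) (tt N17500 D33427))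
theorem Q15611 : ∀ i, i < 15611 → P i := stepQ 15610 Q15610 (allL N15610 (tt N14625 F146669) (tt N15610 F146670) (tt N17375 (iv F154660)) (tt N17498 (iv F155288)) (tt N13926 F146671) (tt N15610 F146672) (tt N17500 (iv F155300)) (tt N13620 F146673) (tt N17483 (iv F155221)) (tt N13619 (iv D31537)))
theorem Q15612 : ∀ i, i < 15612 → P i := stepQ 15611 Q15611 (allL N15611 (tt N13621 (iv D31538)) (tt N14198 F146674) (tt N15611 F146675) (tt N17376 (iv F154666)) (tt N13682 F146676) (tt N14107 F146677) (tt N14219 (iv F146681)) (tt N13927 F146678) (tt N15611 F146679) (tt N14103 F146680))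
theorem Q15613 : ∀ i, i < 15613 → P i := stepQ 15612 Q15612 (allL N15612 (tt N14219 F146682) (tt N13622 F146683) (tt N15612 F146684) (tt N17377 (iv F154676)) (tt N13683 F146685) (tt N17501 D33428) (tt N13621 (iv D31539)) (tt N17502 D33429) (tt N15612 F146686) (tt N14118 F146687))
theorem Q15614 : ∀ i, i < 15614 → P i := stepQ 15613 Q15613 (allL N15613 (tt N14626 F146688) (tt N17501 (iv F155303)) (tt N13623 F146689) (tt N17378 (iv F154682)) (tt N17157 (iv F153370)) (tt N13622 (iv D31540)) (tt N13845 F146690) (tt N17503 D33430) (tt N14328 (iv F146692)) (tt N13816 F146691))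
theorem Q15615 : ∀ i, i < 15615 → P i := stepQ 15614 Q15614 (allL N15614 (tt N14627 F146693) (tt N17502 (iv F155310)) (tt N13624 F146694) (tt N17379 (iv F154688)) (tt N13684 F146695) (tt N17503 (iv F155318)) (tt N13930 F146696) (tt N13622 (iv D31541)) (tt N15614 F146697) (tt N14158 F146698))
theorem Q15616 : ∀ i, i < 15616 → P i := stepQ 15615 Q15615 (allL N15615 (tt N14628 F146699) (tt N15615 F146700) (tt N17157 (iv F153369)) (tt N13636 F146701) (tt N13623 (iv D31542)) (tt N13685 F146702) (tt N13936 F146703) (tt N17504 D33431) (tt N14204 F146704) (tt N13899 F146705))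
theorem Q15617 : ∀ i, i < 15617 → P i := stepQ 15616 Q15616 (allL N15616 (tt N14629 F146706) (tt N15616 F146707) (tt N17503 (iv F155317)) (tt N13625 F146708) (tt N17504 (iv F155324)) (tt N13624 F146709) (tt N17505 D33432) (tt N13623 (iv D31543)) (tt N14375 F146710) (tt N13905 F146711))
theorem Q15618 : ∀ i, i < 15618 → P i := stepQ 15617 Q15617 (allL N15617 (tt N14630 F146712) (tt N15617 F146713) (tt N17383 (iv F154713)) (tt N17505 (iv F155330)) (tt N13639 F146714) (tt N13934 F146715) (tt N13625 (iv D31544)) (tt N15190 F146716) (tt N17506 D33433) (tt N14254 F146717))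
theorem Q15619 : ∀ i, i < 15619 → P i := stepQ 15618 Q15618 (allL N15618 (tt N14631 F146718) (tt N15618 F146719) (tt N17384 (iv F154720)) (tt N14375 F146720) (tt N13640 F146721) (tt N15618 F146722) (tt N17506 (iv F155339)) (tt N13626 F146723) (tt N13625 (iv D31545)) (tt N14373 F146724))
theorem Q15620 : ∀ i, i < 15620 → P i := stepQ 15619 Q15619 (allL N15619 (tt N13627 (iv D31546)) (tt N14632 F146725) (tt N15619 F146726) (tt N17385 (iv F154727)) (tt N13689 F146727) (tt N15023 F146728) (tt N14249 F146729) (tt N13642 F146730) (tt N15619 F146731) (tt N13633 F146732))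
theorem Q15621 : ∀ i, i < 15621 → P i := stepQ 15620 Q15620 (allL N15620 (tt N14634 F146733) (tt N17137 (iv F153235)) (tt N13629 F146734) (tt N17386 (iv F154736)) (tt N17191 (iv F153572)) (tt N13628 (iv D31547)) (tt N15025 F146735) (tt N17507 D33434) (tt N17508 D33435) (tt N13634 F146736))
theorem Q15622 : ∀ i, i < 15622 → P i := stepQ 15621 Q15621 (allL N15621 (tt N14635 F146737) (tt N17135 (iv F153221)) (tt N13630 F146738) (tt N17387 (iv F154741)) (tt N13690 F146739) (tt N17507 (iv F155344)) (tt N13645 F146740) (tt N13628 (iv D31548)) (tt N15621 F146741) (tt N13635 F146742))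
theorem Q15623 : ∀ i, i < 15623 → P i := stepQ 15622 Q15622 (allL N15622 (tt N14636 F146743) (tt N15622 F146744) (tt N17191 (iv F153571)) (tt N13899 F146745) (tt N13629 (iv D31549)) (tt N13691 F146746) (tt N13933 F146747) (tt N17509 D33436) (tt N13896 (iv F146749)) (tt N13636 F146748))
theorem Q15624 : ∀ i, i < 15624 → P i := stepQ 15623 Q15623 (allL N15623 (tt N14637 F146750) (tt N15623 F146751) (tt N17507 (iv F155343)) (tt N13631 F146752) (tt N17509 (iv F155355)) (tt N13630 F146753) (tt N17510 D33437) (tt N13629 (iv D31550)) (tt N17511 D33438) (tt N13637 F146754))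
theorem Q15625 : ∀ i, i < 15625 → P i := stepQ 15624 Q15624 (allL N15624 (tt N14638 F146755) (tt N15624 F146756) (tt N17508 (iv F155347)) (tt N13632 F146757) (tt N13896 F146758) (tt N15624 F146759) (tt N13931 F146760) (tt N17511 (iv F155370)) (tt N13629 (iv D31551)) (tt N14201 F146761))
theorem Q15626 : ∀ i, i < 15626 → P i := stepQ 15625 Q15625 (allL N15625 (tt N14639 F146762) (tt N15625 F146763) (tt N17391 (iv F154765)) (tt N17510 (iv F155361)) (tt N14254 F146764) (tt N13649 F146765) (tt N13631 (iv D31552)) (tt N15028 F146766) (tt N17512 D33439) (tt N13639 F146767))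
theorem Q15627 : ∀ i, i < 15627 → P i := stepQ 15626 Q15626 (allL N15626 (tt N14640 F146768) (tt N15626 F146769) (tt N17392 (iv F154772)) (tt N17511 (iv F155367)) (tt N13903 F146770) (tt N15626 F146771) (tt N17512 (iv F155375)) (tt N13632 F146772) (tt N13631 (iv D31553)) (tt N14371 (iv F146773)))
theorem Q15628 : ∀ i, i < 15628 → P i := stepQ 15627 Q15627 (allL N15627 (tt N14644 F146774) (tt N17134 (iv F153215)) (tt N13637 F146775) (tt N17394 (iv F154782)) (tt N17188 (iv F153552)) (tt N13635 F146776) (tt N17513 D33440) (tt N13634 (iv D31554)) (tt N17333 (iv F154424)) (tt N17507 (iv F155345)))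
theorem Q15629 : ∀ i, i < 15629 → P i := stepQ 15628 Q15628 (allL N15628 (tt N14646 F146777) (tt N15628 F146778) (tt N17188 (iv F153551)) (tt N17504 (iv F155323)) (tt N13637 F146779) (tt N13695 F146780) (tt N17514 D33441) (tt N13636 (iv D31555)) (tt N13978 F146781) (tt N17509 (iv F155358)))
theorem Q15630 : ∀ i, i < 15630 → P i := stepQ 15629 Q15629 (allL N15629 (tt N14647 F146782) (tt N15629 F146783) (tt N17513 (iv F155379)) (tt N13639 F146784) (tt N17514 (iv F155383)) (tt N13660 F146785) (tt N13637 (iv D31556)) (tt N17470 (iv F155143)) (tt N17515 D33442) (tt N17510 (iv F155364)))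
theorem Q15631 : ∀ i, i < 15631 → P i := stepQ 15630 Q15630 (allL N15630 (tt N14648 F146786) (tt N15630 F146787) (tt N17333 (iv F154421)) (tt N13640 F146788) (tt N13978 F146789) (tt N13666 F146790) (tt N17515 (iv F155389)) (tt N13638 F146791) (tt N13637 (iv D31557)) (tt N13977 (iv F146792)))
theorem Q15632 : ∀ i, i < 15632 → P i := stepQ 15631 Q15631 (allL N15631 (tt N14649 F146793) (tt N15631 F146794) (tt N17400 (iv F154809)) (tt N17515 (iv F155387)) (tt N17506 (iv F155338)) (tt N17516 D33443) (tt N13640 F146795) (tt N17472 (iv F155156)) (tt N13639 (iv D31558)) (tt N17517 D33444))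
theorem Q15633 : ∀ i, i < 15633 → P i := stepQ 15632 Q15632 (allL N15632 (tt N14650 F146796) (tt N15632 F146797) (tt N17401 (iv F154813)) (tt N13977 F146798) (tt N14373 F146799) (tt N13668 F146800) (tt N17517 (iv F155399)) (tt N13641 F146801) (tt N14371 F146802) (tt N13640 (iv D31559)))
theorem Q15634 : ∀ i, i < 15634 → P i := stepQ 15633 Q15633 (allL N15633 (tt N13643 F146803) (tt N14651 F146804) (tt N15633 F146805) (tt N17402 (iv F154821)) (tt N13698 F146806) (tt N17518 D33445) (tt N13642 (iv D31560)) (tt N17519 D33446) (tt N15633 F146807) (tt N13652 F146808))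
theorem Q15635 : ∀ i, i < 15635 → P i := stepQ 15634 Q15634 (allL N15634 (tt N17518 (iv F155402)) (tt N13644 F146809) (tt N15634 F146810) (tt N17403 (iv F154827)) (tt N17520 D33447) (tt N13643 (iv D31561)) (tt N17474 (iv F155166)) (tt N17521 D33448) (tt N17522 D33449) (tt N13653 F146811))
theorem Q15636 : ∀ i, i < 15636 → P i := stepQ 15635 Q15635 (allL N15635 (tt N17519 (iv F155406)) (tt N13645 F146812) (tt N15635 F146813) (tt N17404 (iv F154831)) (tt N13700 F146814) (tt N17521 (iv F155419)) (tt N17135 (iv F153224)) (tt N13643 (iv D31562)) (tt N15635 F146815) (tt N13654 F146816))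
theorem Q15637 : ∀ i, i < 15637 → P i := stepQ 15636 Q15636 (allL N15636 (tt N14654 F146817) (tt N17520 (iv F155413)) (tt N13646 F146818) (tt N17523 D33450) (tt N13644 (iv D31563)) (tt N13701 F146819) (tt N17476 (iv F155177)) (tt N17524 D33451) (tt N17525 D33452) (tt N13655 F146820))
theorem Q15638 : ∀ i, i < 15638 → P i := stepQ 15637 Q15637 (allL N15637 (tt N14655 F146821) (tt N17521 (iv F155417)) (tt N13647 F146822) (tt N17406 (iv F154841)) (tt N17524 (iv F155430)) (tt N13645 F146823) (tt N17526 D33453) (tt N13644 (iv D31564)) (tt N17527 D33454) (tt N13656 F146824))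
theorem Q15639 : ∀ i, i < 15639 → P i := stepQ 15638 Q15638 (allL N15638 (tt N14656 F146825) (tt N17522 (iv F155421)) (tt N13648 F146826) (tt N17407 (iv F154846)) (tt N17525 (iv F155435)) (tt N15638 F146827) (tt N17478 (iv F155188)) (tt N17527 (iv F155445)) (tt N13644 (iv D31565)) (tt N17528 D33455))
theorem Q15640 : ∀ i, i < 15640 → P i := stepQ 15639 Q15639 (allL N15639 (tt N14657 F146828) (tt N15639 F146829) (tt N17524 (iv F155429)) (tt N13946 F146830) (tt N13647 F146831) (tt N13704 F146832) (tt N17529 D33456) (tt N13646 (iv D31566)) (tt N17530 D33457) (tt N13658 F146833))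
theorem Q15641 : ∀ i, i < 15641 → P i := stepQ 15640 Q15640 (allL N15640 (tt N14658 F146834) (tt N15640 F146835) (tt N17525 (iv F155434)) (tt N13947 F146836) (tt N13648 F146837) (tt N15069 F146838) (tt N15140 F146839) (tt N17530 (iv F155462)) (tt N13646 (iv D31567)) (tt N15116 (iv F146840)))
theorem Q15642 : ∀ i, i < 15642 → P i := stepQ 15641 Q15641 (allL N15641 (tt N14659 F146841) (tt N15641 F146842) (tt N17526 (iv F155440)) (tt N13649 F146843) (tt N17529 (iv F155455)) (tt N17510 (iv F155362)) (tt N13647 (iv D31568)) (tt N17480 (iv F155201)) (tt N17531 D33458) (tt N13660 F146844))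
theorem Q15643 : ∀ i, i < 15643 → P i := stepQ 15642 Q15642 (allL N15642 (tt N14660 F146845) (tt N15642 F146846) (tt N17527 (iv F155443)) (tt N13650 F146847) (tt N17530 (iv F155460)) (tt N15642 F146848) (tt N17531 (iv F155467)) (tt N13648 F146849) (tt N13647 (iv D31569)) (tt N17532 D33459))
theorem Q15644 : ∀ i, i < 15644 → P i := stepQ 15643 Q15643 (allL N15643 (tt N14661 F146850) (tt N15643 F146851) (tt N17528 (iv F155447)) (tt N13651 F146852) (tt N15116 F146853) (tt N15643 F146854) (tt N15148 F146855) (tt N17532 (iv F155473)) (tt N13662 F146856) (tt N13648 (iv D31570)))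
theorem Q15645 : ∀ i, i < 15645 → P i := stepQ 15644 Q15644 (allL N15644 (tt N14662 F146857) (tt N15644 F146858) (tt N17413 (iv F154868)) (tt N17531 (iv F155466)) (tt N13951 F146859) (tt N17533 D33460) (tt N13650 F146860) (tt N17482 (iv F155214)) (tt N13649 (iv D31571)) (tt N17534 D33461))
theorem Q15646 : ∀ i, i < 15646 → P i := stepQ 15645 Q15645 (allL N15645 (tt N14663 F146861) (tt N15645 F146862) (tt N17414 (iv F154872)) (tt N17532 (iv F155470)) (tt N13952 F146863) (tt N15645 F146864) (tt N17534 (iv F155481)) (tt N13651 F146865) (tt N13664 F146866) (tt N13650 (iv D31572)))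
theorem Q15647 : ∀ i, i < 15647 → P i := stepQ 15646 Q15646 (allL N15646 (tt N13653 F146867) (tt N14664 F146868) (tt N15646 F146869) (tt N17415 (iv F154880)) (tt N17535 D33462) (tt N13652 (iv D31573)) (tt N17484 (iv F155225)) (tt N17536 D33463) (tt N17537 D33464) (tt N17518 (iv F155405)))
theorem Q15648 : ∀ i, i < 15648 → P i := stepQ 15647 Q15647 (allL N15647 (tt N13654 F146870) (tt N14665 F146871) (tt N15647 F146872) (tt N17416 (iv F154884)) (tt N13710 F146873) (tt N17536 (iv F155490)) (tt N14247 F146874) (tt N13652 (iv D31574)) (tt N13670 F146875) (tt N17519 (iv F155412)))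
theorem Q15649 : ∀ i, i < 15649 → P i := stepQ 15648 Q15648 (allL N15648 (tt N17535 (iv F155483)) (tt N13655 F146876) (tt N15648 F146877) (tt N17538 D33465) (tt N13653 (iv D31575)) (tt N13711 F146878) (tt N17486 (iv F155234)) (tt N17539 D33466) (tt N17540 D33467) (tt N17520 (iv F155416)))
theorem Q15650 : ∀ i, i < 15650 → P i := stepQ 15649 Q15649 (allL N15649 (tt N17536 (iv F155487)) (tt N13656 F146879) (tt N15649 F146880) (tt N17418 (iv F154893)) (tt N17539 (iv F155499)) (tt N13654 F146881) (tt N17541 D33468) (tt N13653 (iv D31576)) (tt N17542 D33469) (tt N17521 (iv F155420)))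
theorem Q15651 : ∀ i, i < 15651 → P i := stepQ 15650 Q15650 (allL N15650 (tt N17537 (iv F155491)) (tt N13657 F146882) (tt N15650 F146883) (tt N17419 (iv F154897)) (tt N17540 (iv F155503)) (tt N13672 F146884) (tt N17488 (iv F155241)) (tt N17542 (iv F155510)) (tt N13653 (iv D31577)) (tt N17543 D33470))
theorem Q15652 : ∀ i, i < 15652 → P i := stepQ 15651 Q15651 (allL N15651 (tt N14669 F146885) (tt N17538 (iv F155495)) (tt N13956 F146886) (tt N13655 (iv D31578)) (tt N17420 (iv F154901)) (tt N13713 F146887) (tt N17489 (iv F155245)) (tt N17544 D33471) (tt N17545 D33472) (tt N17523 (iv F155427)))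
theorem Q15653 : ∀ i, i < 15653 → P i := stepQ 15652 Q15652 (allL N15652 (tt N14670 F146888) (tt N17539 (iv F155497)) (tt N13658 F146889) (tt N17544 (iv F155516)) (tt N13656 F146890) (tt N13714 F146891) (tt N17546 D33473) (tt N13655 (iv D31579)) (tt N17547 D33474) (tt N17524 (iv F155432)))
theorem Q15654 : ∀ i, i < 15654 → P i := stepQ 15653 Q15653 (allL N15653 (tt N14671 F146892) (tt N17540 (iv F155501)) (tt N13659 F146893) (tt N17545 (iv F155520)) (tt N13657 F146894) (tt N15653 F146895) (tt N17491 (iv F155253)) (tt N17547 (iv F155529)) (tt N13655 (iv D31580)) (tt N17548 D33475))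
theorem Q15655 : ∀ i, i < 15655 → P i := stepQ 15654 Q15654 (allL N15654 (tt N14672 F146896) (tt N17541 (iv F155505)) (tt N13660 F146897) (tt N17423 (iv F154910)) (tt N17546 (iv F155524)) (tt N17513 (iv F155380)) (tt N13656 (iv D31581)) (tt N17492 (iv F155258)) (tt N17549 D33476) (tt N17526 (iv F155441)))
theorem Q15656 : ∀ i, i < 15656 → P i := stepQ 15655 Q15655 (allL N15655 (tt N14673 F146898) (tt N17542 (iv F155507)) (tt N13661 F146899) (tt N17424 (iv F154913)) (tt N17547 (iv F155527)) (tt N13674 F146900) (tt N17549 (iv F155538)) (tt N13657 F146901) (tt N13656 (iv D31582)) (tt N17550 D33477))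
theorem Q15657 : ∀ i, i < 15657 → P i := stepQ 15656 Q15656 (allL N15656 (tt N14674 F146902) (tt N17543 (iv F155511)) (tt N13662 F146903) (tt N17425 (iv F154918)) (tt N17548 (iv F155532)) (tt N13675 F146904) (tt N17494 (iv F155267)) (tt N17550 (iv F155542)) (tt N17528 (iv F155451)) (tt N13657 (iv D31583)))
theorem Q15658 : ∀ i, i < 15658 → P i := stepQ 15657 Q15657 (allL N15657 (tt N14675 F146905) (tt N15657 F146906) (tt N17546 (iv F155523)) (tt N13962 F146907) (tt N13660 F146908) (tt N17551 D33478) (tt N13658 (iv D31584)) (tt N17495 (iv F155273)) (tt N17552 D33479) (tt N17529 (iv F155456)))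
theorem Q15659 : ∀ i, i < 15659 → P i := stepQ 15658 Q15658 (allL N15658 (tt N14676 F146909) (tt N15658 F146910) (tt N17547 (iv F155526)) (tt N13963 F146911) (tt N13661 F146912) (tt N15658 F146913) (tt N17552 (iv F155551)) (tt N13659 F146914) (tt N13658 (iv D31585)) (tt N17553 D33480))
theorem Q15660 : ∀ i, i < 15660 → P i := stepQ 15659 Q15659 (allL N15659 (tt N14677 F146915) (tt N15659 F146916) (tt N17548 (iv F155531)) (tt N13964 F146917) (tt N13662 F146918) (tt N15659 F146919) (tt N15150 F146920) (tt N17553 (iv F155557)) (tt N15116 F146921) (tt N13659 (iv D31586)))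
theorem Q15661 : ∀ i, i < 15661 → P i := stepQ 15660 Q15660 (allL N15660 (tt N14678 F146922) (tt N15660 F146923) (tt N17549 (iv F155537)) (tt N13663 F146924) (tt N17552 (iv F155550)) (tt N17554 D33481) (tt N13661 F146925) (tt N17497 (iv F155285)) (tt N13660 (iv D31587)) (tt N17555 D33482))
theorem Q15662 : ∀ i, i < 15662 → P i := stepQ 15661 Q15661 (allL N15661 (tt N14679 F146926) (tt N15661 F146927) (tt N17550 (iv F155540)) (tt N13664 F146928) (tt N17553 (iv F155555)) (tt N13677 F146929) (tt N17555 (iv F155566)) (tt N13662 F146930) (tt N17532 (iv F155474)) (tt N13661 (iv D31588)))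
theorem Q15663 : ∀ i, i < 15663 → P i := stepQ 15662 Q15662 (allL N15662 (tt N14680 F146931) (tt N15662 F146932) (tt N17432 (iv F154941)) (tt N17554 (iv F155561)) (tt N17556 D33483) (tt N13663 (iv D31589)) (tt N13678 F146933) (tt N17499 (iv F155296)) (tt N17516 (iv F155394)) (tt N17557 D33484))
theorem Q15664 : ∀ i, i < 15664 → P i := stepQ 15663 Q15663 (allL N15663 (tt N14681 F146934) (tt N15663 F146935) (tt N17433 (iv F154944)) (tt N17555 (iv F155565)) (tt N13968 F146936) (tt N17557 (iv F155573)) (tt N13664 F146937) (tt N17500 (iv F155301)) (tt N17534 (iv F155482)) (tt N13663 (iv D31590)))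
theorem Q15665 : ∀ i, i < 15665 → P i := stepQ 15664 Q15664 (allL N15664 (tt N14685 F146938) (tt N15664 F146939) (tt N17332 (iv F154414)) (tt N13667 F146940) (tt N13681 F146941) (tt N17558 D33485) (tt N13666 F146942) (tt N15664 F146943) (tt N13665 (iv D31591)) (tt N13680 (iv F146944)))
theorem Q15666 : ∀ i, i < 15666 → P i := stepQ 15665 Q15665 (allL N15665 (tt N14686 F146945) (tt N15665 F146946) (tt N17436 (iv F154960)) (tt N17558 (iv F155577)) (tt N17559 D33486) (tt N13667 (iv D31592)) (tt N17516 (iv F155393)) (tt N15665 F146947) (tt N13678 F146948) (tt N17560 D33487))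
theorem Q15667 : ∀ i, i < 15667 → P i := stepQ 15666 Q15666 (allL N15666 (tt N14687 F146949) (tt N15666 F146950) (tt N17437 (iv F154965)) (tt N13680 F146951) (tt N15666 F146952) (tt N17560 (iv F155590)) (tt N13668 F146953) (tt N15666 F146954) (tt N15666 F146955) (tt N13667 (iv D31593)))
theorem Q15668 : ∀ i, i < 15668 → P i := stepQ 15667 Q15667 (allL N15667 (tt N13671 F146956) (tt N14688 F146957) (tt N15667 F146958) (tt N17438 (iv F154973)) (tt N15667 F146959) (tt N13670 F146960) (tt N14588 (iv F146962)) (tt N13669 (iv D31594)) (tt N17561 D33488) (tt N15667 F146961))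
theorem Q15669 : ∀ i, i < 15669 → P i := stepQ 15668 Q15668 (allL N15668 (tt N13672 F146963) (tt N14689 F146964) (tt N15668 F146965) (tt N17439 (iv F154981)) (tt N15668 F146966) (tt N17537 (iv F155494)) (tt N15668 F146967) (tt N17561 (iv F155597)) (tt N13669 (iv D31595)) (tt N17562 D33489))
theorem Q15670 : ∀ i, i < 15670 → P i := stepQ 15669 Q15669 (allL N15669 (tt N17561 (iv F155592)) (tt N13674 F146968) (tt N15669 F146969) (tt N17441 (iv F154994)) (tt N15669 F146970) (tt N17542 (iv F155509)) (tt N17458 (iv F155080)) (tt N13672 F146971) (tt N13671 (iv D31596)) (tt N17563 D33490))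
theorem Q15671 : ∀ i, i < 15671 → P i := stepQ 15670 Q15670 (allL N15670 (tt N17562 (iv F155598)) (tt N13675 F146972) (tt N15670 F146973) (tt N17442 (iv F154999)) (tt N15670 F146974) (tt N17543 (iv F155513)) (tt N15670 F146975) (tt N17563 (iv F155607)) (tt N15670 F146976) (tt N13672 (iv D31597)))
theorem Q15672 : ∀ i, i < 15672 → P i := stepQ 15671 Q15671 (allL N15671 (tt N14693 F146977) (tt N17458 (iv F155077)) (tt N13676 F146978) (tt N17447 (iv F155031)) (tt N15671 F146979) (tt N17564 D33491) (tt N13674 F146980) (tt N15671 F146981) (tt N13673 (iv D31598)) (tt N17565 D33492))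
theorem Q15673 : ∀ i, i < 15673 → P i := stepQ 15672 Q15672 (allL N15672 (tt N14694 F146982) (tt N17563 (iv F155604)) (tt N13677 F146983) (tt N17448 (iv F155036)) (tt N15672 F146984) (tt N17550 (iv F155541)) (tt N17565 (iv F155615)) (tt N13675 F146985) (tt N15672 F146986) (tt N13674 (iv D31599)))
theorem Q15674 : ∀ i, i < 15674 → P i := stepQ 15673 Q15673 (allL N15673 (tt N14695 F146987) (tt N15673 F146988) (tt N17564 (iv F155610)) (tt N13678 F146989) (tt N17566 D33493) (tt N13676 (iv D31600)) (tt N17554 (iv F155562)) (tt N15673 F146990) (tt N17558 (iv F155580)) (tt N17567 D33494))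
theorem Q15675 : ∀ i, i < 15675 → P i := stepQ 15674 Q15674 (allL N15674 (tt N14696 F146991) (tt N15674 F146992) (tt N17565 (iv F155613)) (tt N13679 F146993) (tt N15674 F146994) (tt N17567 (iv F155626)) (tt N13677 F146995) (tt N15674 F146996) (tt N15674 F146997) (tt N13676 (iv D31601)))
theorem Q15676 : ∀ i, i < 15676 → P i := stepQ 15675 Q15675 (allL N15675 (tt N14697 F146998) (tt N15675 F146999) (tt N17456 (iv F155069)) (tt N17560 (iv F155589)) (tt N13678 (iv D31602)) (tt N13680 F147000) (tt N17556 (iv F155570)) (tt N15675 F147001) (tt N17559 (iv F155586)) (tt N17558 (iv F155581)))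
theorem Q15677 : ∀ i, i < 15677 → P i := stepQ 15676 Q15676 (allL N15676 (tt N14698 F147002) (tt N15676 F147003) (tt N17457 (iv F155073)) (tt N17567 (iv F155625)) (tt N17558 (iv F155578)) (tt N13679 F147004) (tt N17557 (iv F155574)) (tt N15676 F147005) (tt N17566 (iv F155622)) (tt N13678 (iv D31603)))
theorem Q15678 : ∀ i, i < 15678 → P i := stepQ 15677 Q15677 (allL N15677 (tt N14225 F147006) (tt N13684 F147007) (tt N15677 F147008) (tt N14702 F147009) (tt N17502 (iv F155312)) (tt N14288 F147010) (tt N13981 F147011) (tt N13683 (iv D31604)) (tt N15677 F147012) (tt N14205 F147013))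
theorem Q15679 : ∀ i, i < 15679 → P i := stepQ 15678 Q15678 (allL N15678 (tt N14699 F147014) (tt N15678 F147015) (tt N17165 (iv F153425)) (tt N13695 F147016) (tt N13686 F147017) (tt N17504 (iv F155325)) (tt N17568 D33495) (tt N13685 (iv D31605)) (tt N14094 F147018) (tt N14265 F147019))
theorem Q15680 : ∀ i, i < 15680 → P i := stepQ 15679 Q15679 (allL N15679 (tt N14700 F147020) (tt N15679 F147021) (tt N17166 (iv F153431)) (tt N13687 F147022) (tt N17568 (iv F155631)) (tt N13986 F147023) (tt N13686 (iv D31606)) (tt N15679 F147024) (tt N17119 (iv F153120)) (tt N14266 F147025))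
theorem Q15681 : ∀ i, i < 15681 → P i := stepQ 15680 Q15680 (allL N15680 (tt N14701 F147026) (tt N15680 F147027) (tt N14708 F147028) (tt N17119 (iv F153116)) (tt N13697 F147029) (tt N17291 (iv F154173)) (tt N13688 F147030) (tt N15680 F147031) (tt N13687 (iv D31607)) (tt N17117 (iv F153103)))
theorem Q15682 : ∀ i, i < 15682 → P i := stepQ 15681 Q15681 (allL N15681 (tt N14705 F147032) (tt N15681 F147033) (tt N17189 (iv F153557)) (tt N14265 F147034) (tt N13692 F147035) (tt N17509 (iv F155356)) (tt N14441 (iv F147038)) (tt N13691 (iv D31608)) (tt N14091 F147036) (tt N13695 F147037))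
theorem Q15683 : ∀ i, i < 15683 → P i := stepQ 15682 Q15682 (allL N15682 (tt N14706 F147039) (tt N15682 F147040) (tt N17192 (iv F153578)) (tt N13693 F147041) (tt N14441 F147042) (tt N13706 F147043) (tt N13692 (iv D31609)) (tt N15682 F147044) (tt N14440 F147045) (tt N13696 F147046))
theorem Q15684 : ∀ i, i < 15684 → P i := stepQ 15683 Q15683 (allL N15683 (tt N14708 F147047) (tt N15683 F147048) (tt N14701 F147049) (tt N14440 F147050) (tt N14267 F147051) (tt N14443 (iv F147055)) (tt N13694 F147052) (tt N15683 F147053) (tt N13693 (iv D31610)) (tt N14439 F147054))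
theorem Q15685 : ∀ i, i < 15685 → P i := stepQ 15684 Q15684 (allL N15684 (tt N14712 F147056) (tt N15684 F147057) (tt N17187 (iv F153544)) (tt N17568 (iv F155630)) (tt N13696 F147058) (tt N17569 D33496) (tt N13695 (iv D31611)) (tt N15684 F147059) (tt N14090 F147060) (tt N14441 F147061))
theorem Q15686 : ∀ i, i < 15686 → P i := stepQ 15685 Q15685 (allL N15685 (tt N13699 F147062) (tt N14715 F147063) (tt N15685 F147064) (tt N14945 F147065) (tt N17570 D33497) (tt N13698 (iv D31612)) (tt N15685 F147066) (tt N17571 D33498) (tt N17572 D33499) (tt N13709 F147067))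
theorem Q15687 : ∀ i, i < 15687 → P i := stepQ 15686 Q15686 (allL N15686 (tt N13700 F147068) (tt N14716 F147069) (tt N15686 F147070) (tt N14252 F147071) (tt N17519 (iv F155409)) (tt N17571 (iv F155651)) (tt N14250 F147072) (tt N13698 (iv D31613)) (tt N15686 F147073) (tt N13710 F147074))
theorem Q15688 : ∀ i, i < 15688 → P i := stepQ 15687 Q15687 (allL N15687 (tt N17570 (iv F155641)) (tt N13701 F147075) (tt N15687 F147076) (tt N17573 D33500) (tt N13699 (iv D31614)) (tt N17520 (iv F155415)) (tt N15687 F147077) (tt N17574 D33501) (tt N17575 D33502) (tt N13711 F147078))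
theorem Q15689 : ∀ i, i < 15689 → P i := stepQ 15688 Q15688 (allL N15688 (tt N17571 (iv F155647)) (tt N13702 F147079) (tt N15688 F147080) (tt N14947 F147081) (tt N17574 (iv F155670)) (tt N13700 F147082) (tt N17247 (iv F153881)) (tt N13699 (iv D31615)) (tt N17576 D33503) (tt N13712 F147083))
theorem Q15690 : ∀ i, i < 15690 → P i := stepQ 15689 Q15689 (allL N15689 (tt N17572 (iv F155654)) (tt N13703 F147084) (tt N15689 F147085) (tt N14948 F147086) (tt N17575 (iv F155676)) (tt N15689 F147087) (tt N15689 F147088) (tt N17576 (iv F155684)) (tt N13699 (iv D31616)) (tt N15689 F147089))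
theorem Q15691 : ∀ i, i < 15691 → P i := stepQ 15690 Q15690 (allL N15690 (tt N14720 F147090) (tt N17573 (iv F155662)) (tt N13993 F147091) (tt N13701 (iv D31617)) (tt N14500 F147092) (tt N17523 (iv F155426)) (tt N15690 F147093) (tt N17577 D33504) (tt N14498 (iv F147095)) (tt N13713 F147094))
theorem Q15692 : ∀ i, i < 15692 → P i := stepQ 15691 Q15691 (allL N15691 (tt N14721 F147096) (tt N17574 (iv F155668)) (tt N13704 F147097) (tt N17577 (iv F155688)) (tt N13702 F147098) (tt N17524 (iv F155431)) (tt N17578 D33505) (tt N13701 (iv D31618)) (tt N17579 D33506) (tt N13714 F147099))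
theorem Q15693 : ∀ i, i < 15693 → P i := stepQ 15692 Q15692 (allL N15692 (tt N14722 F147100) (tt N17575 (iv F155673)) (tt N13705 F147101) (tt N14498 F147102) (tt N13703 F147103) (tt N15049 (iv F147106)) (tt N15692 F147104) (tt N17579 (iv F155701)) (tt N13701 (iv D31619)) (tt N15692 F147105))
theorem Q15694 : ∀ i, i < 15694 → P i := stepQ 15693 Q15693 (allL N15693 (tt N14723 F147107) (tt N17247 (iv F153877)) (tt N13706 F147108) (tt N14950 F147109) (tt N17578 (iv F155694)) (tt N17192 (iv F153581)) (tt N13702 (iv D31620)) (tt N15693 F147110) (tt N17580 D33507) (tt N13715 F147111))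
theorem Q15695 : ∀ i, i < 15695 → P i := stepQ 15694 Q15694 (allL N15694 (tt N14724 F147112) (tt N17576 (iv F155680)) (tt N13707 F147113) (tt N14951 F147114) (tt N17579 (iv F155700)) (tt N15694 F147115) (tt N17580 (iv F155708)) (tt N13703 F147116) (tt N13702 (iv D31621)) (tt N15694 F147117))
theorem Q15696 : ∀ i, i < 15696 → P i := stepQ 15695 Q15695 (allL N15695 (tt N14725 F147118) (tt N15695 F147119) (tt N17578 (iv F155693)) (tt N13996 F147120) (tt N13706 F147121) (tt N17581 D33508) (tt N13704 (iv D31622)) (tt N15695 F147122) (tt N17582 D33509) (tt N13716 F147123))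
theorem Q15697 : ∀ i, i < 15697 → P i := stepQ 15696 Q15696 (allL N15696 (tt N14726 F147124) (tt N15696 F147125) (tt N17579 (iv F155698)) (tt N13997 F147126) (tt N13707 F147127) (tt N15096 (iv F147130)) (tt N17582 (iv F155723)) (tt N13705 F147128) (tt N13704 (iv D31623)) (tt N15696 F147129))
theorem Q15698 : ∀ i, i < 15698 → P i := stepQ 15697 Q15697 (allL N15697 (tt N14727 F147131) (tt N15697 F147132) (tt N17580 (iv F155705)) (tt N13708 F147133) (tt N17582 (iv F155721)) (tt N14444 F147134) (tt N13707 F147135) (tt N15697 F147136) (tt N13706 (iv D31624)) (tt N15697 F147137))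
theorem Q15699 : ∀ i, i < 15699 → P i := stepQ 15698 Q15698 (allL N15698 (tt N14728 F147138) (tt N15698 F147139) (tt N14954 F147140) (tt N14444 F147141) (tt N15698 F147142) (tt N13708 (iv D31625)) (tt N15698 F147143) (tt N15698 F147144) (tt N14443 F147145) (tt N15698 F147146))
theorem Q15700 : ∀ i, i < 15700 → P i := stepQ 15699 Q15699 (allL N15699 (tt N13711 F147147) (tt N14729 F147148) (tt N15699 F147149) (tt N17583 D33510) (tt N13709 (iv D31626)) (tt N17535 (iv F155486)) (tt N15699 F147150) (tt N17584 D33511) (tt N15699 F147151) (tt N17570 (iv F155645)))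
theorem Q15701 : ∀ i, i < 15701 → P i := stepQ 15700 Q15700 (allL N15700 (tt N13712 F147152) (tt N14730 F147153) (tt N15700 F147154) (tt N14251 F147155) (tt N17584 (iv F155733)) (tt N13710 F147156) (tt N14362 (iv F147158)) (tt N13709 (iv D31627)) (tt N15700 F147157) (tt N17571 (iv F155652)))
theorem Q15702 : ∀ i, i < 15702 → P i := stepQ 15701 Q15701 (allL N15701 (tt N17583 (iv F155726)) (tt N13713 F147159) (tt N17585 D33512) (tt N13711 (iv D31628)) (tt N17145 (iv F153294)) (tt N17538 (iv F155496)) (tt N15701 F147160) (tt N17586 D33513) (tt N15701 F147161) (tt N17573 (iv F155665)))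
theorem Q15703 : ∀ i, i < 15703 → P i := stepQ 15702 Q15702 (allL N15702 (tt N17584 (iv F155730)) (tt N13714 F147162) (tt N15702 F147163) (tt N17586 (iv F155743)) (tt N13712 F147164) (tt N17539 (iv F155500)) (tt N17246 (iv F153873)) (tt N13711 (iv D31629)) (tt N15702 F147165) (tt N17574 (iv F155671)))
theorem Q15704 : ∀ i, i < 15704 → P i := stepQ 15703 Q15703 (allL N15703 (tt N14734 F147166) (tt N17586 (iv F155742)) (tt N14002 F147167) (tt N13714 F147168) (tt N17146 (iv F153302)) (tt N17544 (iv F155517)) (tt N17587 D33514) (tt N13713 (iv D31630)) (tt N15703 F147169) (tt N17577 (iv F155691)))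
theorem Q15705 : ∀ i, i < 15705 → P i := stepQ 15704 Q15704 (allL N15704 (tt N14735 F147170) (tt N17246 (iv F153871)) (tt N13716 F147171) (tt N17587 (iv F155747)) (tt N13715 F147172) (tt N17588 D33515) (tt N13714 (iv D31631)) (tt N15704 F147173) (tt N15704 F147174) (tt N17578 (iv F155696)))
theorem Q15706 : ∀ i, i < 15706 → P i := stepQ 15705 Q15705 (allL N15705 (tt N14736 F147175) (tt N15705 F147176) (tt N17588 (iv F155751)) (tt N14004 F147177) (tt N17569 (iv F155637)) (tt N13716 (iv D31632)) (tt N17551 (iv F155546)) (tt N15705 F147178) (tt N17589 D33516) (tt N17581 (iv F155716)))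
theorem Q15707 : ∀ i, i < 15707 → P i := stepQ 15706 Q15706 (allL N15706 (tt N17590 D33517) (tt N13717 (iv D31633)) (tt N14129 F147179) (tt N15706 F147180) (tt N14464 F147181) (tt N13729 F147182) (tt N17591 D33518) (tt N14206 F147183) (tt N14095 F147184) (tt N14506 F147185))
theorem Q15708 : ∀ i, i < 15708 → P i := stepQ 15707 Q15707 (allL N15707 (tt N13753 F147186) (tt N17591 (iv F155770)) (tt N13718 F147187) (tt N15707 F147188) (tt N14465 F147189) (tt N17592 D33519) (tt N13717 (iv D31634)) (tt N17593 D33520) (tt N14096 F147190) (tt N14507 F147191))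
theorem Q15709 : ∀ i, i < 15709 → P i := stepQ 15708 Q15708 (allL N15708 (tt N13754 F147192) (tt N14229 F147193) (tt N17592 (iv F155777)) (tt N13719 F147194) (tt N17594 D33521) (tt N13718 (iv D31635)) (tt N13731 F147195) (tt N17595 D33522) (tt N17596 D33523) (tt N14508 F147196))
theorem Q15710 : ∀ i, i < 15710 → P i := stepQ 15709 Q15709 (allL N15709 (tt N13755 F147197) (tt N14230 F147198) (tt N17593 (iv F155782)) (tt N13720 F147199) (tt N14467 F147200) (tt N17595 (iv F155797)) (tt N14209 F147201) (tt N13718 (iv D31636)) (tt N14098 F147202) (tt N14509 F147203))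
theorem Q15711 : ∀ i, i < 15711 → P i := stepQ 15710 Q15710 (allL N15710 (tt N13756 F147204) (tt N14231 F147205) (tt N15710 F147206) (tt N17595 (iv F155796)) (tt N14779 F147207) (tt N13720 F147208) (tt N17597 D33524) (tt N13719 (iv D31637)) (tt N17598 D33525) (tt N14510 F147209))
theorem Q15712 : ∀ i, i < 15712 → P i := stepQ 15711 Q15711 (allL N15711 (tt N13757 F147210) (tt N13901 F147211) (tt N15711 F147212) (tt N17596 (iv F155801)) (tt N14780 F147213) (tt N13900 F147214) (tt N13734 F147215) (tt N17598 (iv F155817)) (tt N13719 (iv D31638)) (tt N14366 (iv F147216)))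
theorem Q15713 : ∀ i, i < 15713 → P i := stepQ 15712 Q15712 (allL N15712 (tt N14141 F147217) (tt N13721 (iv D31639)) (tt N14138 F147218) (tt N15712 F147219) (tt N14139 F147220) (tt N14206 F147221) (tt N17599 D33526) (tt N13729 F147222) (tt N13735 F147223) (tt N14137 F147224))
theorem Q15714 : ∀ i, i < 15714 → P i := stepQ 15713 Q15713 (allL N15713 (tt N13763 F147225) (tt N17599 (iv F155820)) (tt N13722 F147226) (tt N15713 F147227) (tt N13871 F147228) (tt N17600 D33527) (tt N13721 (iv D31640)) (tt N17601 D33528) (tt N13736 F147229) (tt N13868 F147230))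
theorem Q15715 : ∀ i, i < 15715 → P i := stepQ 15714 Q15714 (allL N15714 (tt N13764 F147231) (tt N14226 F147232) (tt N17600 (iv F155827)) (tt N13723 F147233) (tt N17602 D33529) (tt N13722 (iv D31641)) (tt N14208 F147234) (tt N17603 D33530) (tt N17604 D33531) (tt N14275 F147235))
theorem Q15716 : ∀ i, i < 15716 → P i := stepQ 15715 Q15715 (allL N15715 (tt N13765 F147236) (tt N14227 F147237) (tt N17601 (iv F155832)) (tt N13724 F147238) (tt N14738 F147239) (tt N17603 (iv F155847)) (tt N13732 F147240) (tt N13722 (iv D31642)) (tt N13738 F147241) (tt N14276 F147242))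
theorem Q15717 : ∀ i, i < 15717 → P i := stepQ 15716 Q15716 (allL N15716 (tt N13766 F147243) (tt N14228 F147244) (tt N15716 F147245) (tt N17603 (iv F155846)) (tt N14293 F147246) (tt N13724 F147247) (tt N17605 D33532) (tt N13723 (iv D31643)) (tt N17606 D33533) (tt N14277 F147248))
theorem Q15718 : ∀ i, i < 15718 → P i := stepQ 15717 Q15717 (allL N15717 (tt N13767 F147249) (tt N14202 F147250) (tt N15717 F147251) (tt N17604 (iv F155851)) (tt N14294 F147252) (tt N13740 F147253) (tt N14211 F147254) (tt N17606 (iv F155866)) (tt N13723 (iv D31644)) (tt N17607 D33534))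
theorem Q15719 : ∀ i, i < 15719 → P i := stepQ 15718 Q15718 (allL N15718 (tt N14181 F147255) (tt N13725 (iv D31645)) (tt N14139 F147256) (tt N15718 F147257) (tt N14138 F147258) (tt N14506 F147259) (tt N17608 D33535) (tt N14137 F147260) (tt N14005 F147261) (tt N13729 F147262))
theorem Q15720 : ∀ i, i < 15720 → P i := stepQ 15719 Q15719 (allL N15719 (tt N13768 F147263) (tt N17608 (iv F155875)) (tt N13726 F147264) (tt N15719 F147265) (tt N14179 F147266) (tt N17609 D33536) (tt N13725 (iv D31646)) (tt N17610 D33537) (tt N14006 F147267) (tt N13730 F147268))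
theorem Q15721 : ∀ i, i < 15721 → P i := stepQ 15720 Q15720 (allL N15720 (tt N13769 F147269) (tt N14737 F147270) (tt N17609 (iv F155882)) (tt N13727 F147271) (tt N17611 D33538) (tt N13726 (iv D31647)) (tt N14508 F147272) (tt N17612 D33539) (tt N17613 D33540) (tt N13731 F147273))
theorem Q15722 : ∀ i, i < 15722 → P i := stepQ 15721 Q15721 (allL N15721 (tt N13770 F147274) (tt N14738 F147275) (tt N17610 (iv F155887)) (tt N13728 F147276) (tt N14227 F147277) (tt N17612 (iv F155902)) (tt N14276 F147278) (tt N13726 (iv D31648)) (tt N14008 F147279) (tt N13732 F147280))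
theorem Q15723 : ∀ i, i < 15723 → P i := stepQ 15722 Q15722 (allL N15722 (tt N13771 F147281) (tt N14739 F147282) (tt N15722 F147283) (tt N17612 (iv F155901)) (tt N14318 F147284) (tt N13728 F147285) (tt N17614 D33541) (tt N13727 (iv D31649)) (tt N17615 D33542) (tt N13733 F147286))
theorem Q15724 : ∀ i, i < 15724 → P i := stepQ 15723 Q15723 (allL N15723 (tt N13772 F147287) (tt N14384 F147288) (tt N15723 F147289) (tt N17613 (iv F155906)) (tt N14319 F147290) (tt N14010 F147291) (tt N14511 F147292) (tt N17615 (iv F155922)) (tt N13727 (iv D31650)) (tt N14378 F147293))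
theorem Q15725 : ∀ i, i < 15725 → P i := stepQ 15724 Q15724 (allL N15724 (tt N13729 (iv D31651)) (tt N13773 F147294) (tt N14106 F147295) (tt N15724 F147296) (tt N14182 F147297) (tt N17590 (iv F155764)) (tt N17616 D33543) (tt N14141 F147298) (tt N13741 F147299) (tt N14181 F147300))
theorem Q15726 : ∀ i, i < 15726 → P i := stepQ 15725 Q15725 (allL N15725 (tt N17616 (iv F155924)) (tt N13730 F147301) (tt N13786 F147302) (tt N15725 F147303) (tt N17149 (iv F153323)) (tt N17617 D33544) (tt N13729 (iv D31652)) (tt N17618 D33545) (tt N13742 F147304) (tt N17608 (iv F155880)))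
theorem Q15727 : ∀ i, i < 15727 → P i := stepQ 15726 Q15726 (allL N15726 (tt N13775 F147305) (tt N17617 (iv F155931)) (tt N13731 F147306) (tt N15726 F147307) (tt N17619 D33546) (tt N13730 (iv D31653)) (tt N17592 (iv F155779)) (tt N17620 D33547) (tt N17621 D33548) (tt N17609 (iv F155885)))
theorem Q15728 : ∀ i, i < 15728 → P i := stepQ 15727 Q15727 (allL N15727 (tt N13776 F147308) (tt N17618 (iv F155935)) (tt N13732 F147309) (tt N15727 F147310) (tt N17151 (iv F153334)) (tt N17620 (iv F155944)) (tt N17601 (iv F155835)) (tt N13730 (iv D31654)) (tt N13744 F147311) (tt N17610 (iv F155892)))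
theorem Q15729 : ∀ i, i < 15729 → P i := stepQ 15728 Q15728 (allL N15728 (tt N13777 F147312) (tt N14740 F147313) (tt N17619 (iv F155940)) (tt N17295 (iv F154199)) (tt N13731 (iv D31655)) (tt N17152 (iv F153341)) (tt N17594 (iv F155792)) (tt N17622 D33549) (tt N17623 D33550) (tt N17611 (iv F155898)))
theorem Q15730 : ∀ i, i < 15730 → P i := stepQ 15729 Q15729 (allL N15729 (tt N13778 F147314) (tt N14741 F147315) (tt N17620 (iv F155942)) (tt N13733 F147316) (tt N17622 (iv F155953)) (tt N13732 F147317) (tt N17624 D33551) (tt N13731 (iv D31656)) (tt N17625 D33552) (tt N17612 (iv F155903)))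
theorem Q15731 : ∀ i, i < 15731 → P i := stepQ 15730 Q15730 (allL N15730 (tt N13779 F147318) (tt N13838 F147319) (tt N17621 (iv F155947)) (tt N13734 F147320) (tt N17623 (iv F155956)) (tt N13746 F147321) (tt N17596 (iv F155803)) (tt N17625 (iv F155966)) (tt N13731 (iv D31657)) (tt N14329 (iv F147322)))
theorem Q15732 : ∀ i, i < 15732 → P i := stepQ 15731 Q15731 (allL N15731 (tt N13780 F147323) (tt N14742 F147324) (tt N15731 F147325) (tt N17624 (iv F155961)) (tt N17298 (iv F154218)) (tt N17605 (iv F155858)) (tt N13733 (iv D31658)) (tt N17597 (iv F155810)) (tt N17626 D33553) (tt N17614 (iv F155916)))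
theorem Q15733 : ∀ i, i < 15733 → P i := stepQ 15732 Q15732 (allL N15732 (tt N13781 F147326) (tt N13938 F147327) (tt N15732 F147328) (tt N17625 (iv F155964)) (tt N17299 (iv F154225)) (tt N13747 F147329) (tt N17626 (iv F155971)) (tt N13734 F147330) (tt N13733 (iv D31659)) (tt N14377 (iv F147331)))
theorem Q15734 : ∀ i, i < 15734 → P i := stepQ 15733 Q15733 (allL N15733 (tt N13791 F147332) (tt N13736 F147333) (tt N13874 F147334) (tt N15733 F147335) (tt N14043 F147336) (tt N13790 F147337) (tt N13735 (iv D31660)) (tt N17627 D33554) (tt N17599 (iv F155824)) (tt N14017 F147338))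
theorem Q15735 : ∀ i, i < 15735 → P i := stepQ 15734 Q15734 (allL N15734 (tt N13742 F147339) (tt N13790 F147340) (tt N13737 F147341) (tt N15734 F147342) (tt N14072 F147343) (tt N13736 (iv D31661)) (tt N13741 F147344) (tt N17628 D33555) (tt N17616 (iv F155929)) (tt N14018 F147345))
theorem Q15736 : ∀ i, i < 15736 → P i := stepQ 15735 Q15735 (allL N15735 (tt N13783 F147346) (tt N17627 (iv F155975)) (tt N13738 F147347) (tt N15735 F147348) (tt N14068 F147349) (tt N17628 (iv F155987)) (tt N13744 F147350) (tt N13736 (iv D31662)) (tt N17601 (iv F155836)) (tt N14019 F147351))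
theorem Q15737 : ∀ i, i < 15737 → P i := stepQ 15736 Q15736 (allL N15736 (tt N13784 F147352) (tt N14049 F147353) (tt N14072 F147354) (tt N15736 F147355) (tt N13737 (iv D31663)) (tt N14425 F147356) (tt N14105 F147357) (tt N17629 D33556) (tt N17630 D33557) (tt N14020 F147358))
theorem Q15738 : ∀ i, i < 15738 → P i := stepQ 15737 Q15737 (allL N15737 (tt N13785 F147359) (tt N13880 F147360) (tt N17628 (iv F155984)) (tt N13739 F147361) (tt N17629 (iv F155994)) (tt N13738 F147362) (tt N13876 F147363) (tt N13737 (iv D31664)) (tt N17631 D33558) (tt N14021 F147364))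
theorem Q15739 : ∀ i, i < 15739 → P i := stepQ 15738 Q15738 (allL N15738 (tt N13786 F147365) (tt N14184 F147366) (tt N17616 (iv F155926)) (tt N13740 F147367) (tt N17630 (iv F156002)) (tt N17604 (iv F155852)) (tt N14106 F147368) (tt N17631 (iv F156009)) (tt N13737 (iv D31665)) (tt N17632 D33559))
theorem Q15740 : ∀ i, i < 15740 → P i := stepQ 15739 Q15739 (allL N15739 (tt N13788 F147369) (tt N13973 F147370) (tt N15739 F147371) (tt N17631 (iv F156007)) (tt N15739 F147372) (tt N17606 (iv F155865)) (tt N13971 F147373) (tt N13740 F147374) (tt N13739 (iv D31666)) (tt N17633 D33560))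
theorem Q15741 : ∀ i, i < 15741 → P i := stepQ 15740 Q15740 (allL N15740 (tt N13789 F147375) (tt N14203 F147376) (tt N15740 F147377) (tt N17632 (iv F156013)) (tt N15740 F147378) (tt N17607 (iv F155871)) (tt N14107 F147379) (tt N17633 (iv F156022)) (tt N14024 F147380) (tt N13740 (iv D31667)))
theorem Q15742 : ∀ i, i < 15742 → P i := stepQ 15741 Q15741 (allL N15741 (tt N17628 (iv F155982)) (tt N13744 F147381) (tt N13785 F147382) (tt N15741 F147383) (tt N17158 (iv F153378)) (tt N13783 F147384) (tt N17627 (iv F155980)) (tt N13742 (iv D31668)) (tt N17618 (iv F155938)) (tt N14025 F147385))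
theorem Q15743 : ∀ i, i < 15743 → P i := stepQ 15742 Q15742 (allL N15742 (tt N13794 F147386) (tt N13783 F147387) (tt N13745 F147388) (tt N15742 F147389) (tt N14963 F147390) (tt N13744 F147391) (tt N13792 F147392) (tt N13743 (iv D31669)) (tt N17634 D33561) (tt N14026 F147393))
theorem Q15744 : ∀ i, i < 15744 → P i := stepQ 15743 Q15743 (allL N15743 (tt N13795 F147394) (tt N13763 F147395) (tt N13746 F147396) (tt N15743 F147397) (tt N14758 F147398) (tt N17621 (iv F155949)) (tt N13762 F147399) (tt N17634 (iv F156030)) (tt N13743 (iv D31670)) (tt N14295 F147400))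
theorem Q15745 : ∀ i, i < 15745 → P i := stepQ 15744 Q15744 (allL N15744 (tt N13799 F147401) (tt N13839 F147402) (tt N17634 (iv F156026)) (tt N13747 F147403) (tt N14830 F147404) (tt N17625 (iv F155965)) (tt N13856 F147405) (tt N13746 F147406) (tt N13745 (iv D31671)) (tt N14330 F147407))
theorem Q15746 : ∀ i, i < 15746 → P i := stepQ 15745 Q15745 (allL N15745 (tt N14132 (iv F147415)) (tt N13748 (iv D31672)) (tt N13811 F147408) (tt N15745 F147409) (tt N14445 F147410) (tt N13762 F147411) (tt N17635 D33562) (tt N13752 F147412) (tt N14104 F147413) (tt N14289 F147414))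
theorem Q15747 : ∀ i, i < 15747 → P i := stepQ 15746 Q15746 (allL N15746 (tt N14207 F147416) (tt N17635 (iv F156033)) (tt N13749 F147417) (tt N15746 F147418) (tt N14446 F147419) (tt N17636 D33563) (tt N13748 (iv D31673)) (tt N17637 D33564) (tt N14114 F147420) (tt N14290 F147421))
theorem Q15748 : ∀ i, i < 15748 → P i := stepQ 15747 Q15747 (allL N15747 (tt N14208 F147422) (tt N13813 F147423) (tt N17636 (iv F156040)) (tt N13750 F147424) (tt N17638 D33565) (tt N13749 (iv D31674)) (tt N13764 F147425) (tt N17639 D33566) (tt N17640 D33567) (tt N14291 F147426))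
theorem Q15749 : ∀ i, i < 15749 → P i := stepQ 15748 Q15748 (allL N15748 (tt N14209 F147427) (tt N13814 F147428) (tt N17637 (iv F156045)) (tt N13751 F147429) (tt N14448 F147430) (tt N17639 (iv F156060)) (tt N13755 F147431) (tt N13749 (iv D31675)) (tt N14116 F147432) (tt N14292 F147433))
theorem Q15750 : ∀ i, i < 15750 → P i := stepQ 15749 Q15749 (allL N15749 (tt N14210 F147434) (tt N13815 F147435) (tt N15749 F147436) (tt N17639 (iv F156059)) (tt N14277 F147437) (tt N13751 F147438) (tt N17641 D33568) (tt N13750 (iv D31676)) (tt N17642 D33569) (tt N14293 F147439))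
theorem Q15751 : ∀ i, i < 15751 → P i := stepQ 15750 Q15750 (allL N15750 (tt N14211 F147440) (tt N13816 F147441) (tt N15750 F147442) (tt N17640 (iv F156064)) (tt N14278 F147443) (tt N14118 F147444) (tt N13767 F147445) (tt N17642 (iv F156079)) (tt N13750 (iv D31677)) (tt N17501 (iv F155307)))
theorem Q15752 : ∀ i, i < 15752 → P i := stepQ 15751 Q15751 (allL N15751 (tt N13752 (iv D31678)) (tt N17590 (iv F155760)) (tt N13822 F147446) (tt N15751 F147447) (tt N17353 (iv F154550)) (tt N13773 F147448) (tt N17643 D33570) (tt N14132 F147449) (tt N14119 F147450) (tt N14183 F147451))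
theorem Q15753 : ∀ i, i < 15753 → P i := stepQ 15752 Q15752 (allL N15752 (tt N17643 (iv F156080)) (tt N13753 F147452) (tt N13823 F147453) (tt N15752 F147454) (tt N17354 (iv F154558)) (tt N17644 D33571) (tt N13752 (iv D31679)) (tt N17645 D33572) (tt N14120 F147455) (tt N15019 F147456))
theorem Q15754 : ∀ i, i < 15754 → P i := stepQ 15753 Q15753 (allL N15753 (tt N17592 (iv F155776)) (tt N17644 (iv F156086)) (tt N13754 F147457) (tt N15753 F147458) (tt N17646 D33573) (tt N13753 (iv D31680)) (tt N13775 F147459) (tt N17647 D33574) (tt N17648 D33575) (tt N17336 (iv F154445)))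
theorem Q15755 : ∀ i, i < 15755 → P i := stepQ 15754 Q15754 (allL N15754 (tt N17593 (iv F155781)) (tt N17645 (iv F156091)) (tt N13755 F147460) (tt N15754 F147461) (tt N17356 (iv F154569)) (tt N17647 (iv F156100)) (tt N17637 (iv F156048)) (tt N13753 (iv D31681)) (tt N14122 F147462) (tt N17337 (iv F154453)))
theorem Q15756 : ∀ i, i < 15756 → P i := stepQ 15755 Q15755 (allL N15755 (tt N17594 (iv F155788)) (tt N13826 F147463) (tt N17646 (iv F156096)) (tt N17306 (iv F154275)) (tt N13754 (iv D31682)) (tt N17357 (iv F154576)) (tt N13777 F147464) (tt N17649 D33576) (tt N17650 D33577) (tt N17338 (iv F154459)))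
theorem Q15757 : ∀ i, i < 15757 → P i := stepQ 15756 Q15756 (allL N15756 (tt N17595 (iv F155794)) (tt N13827 F147465) (tt N17647 (iv F156098)) (tt N13756 F147466) (tt N17649 (iv F156106)) (tt N13755 F147467) (tt N17651 D33578) (tt N13754 (iv D31683)) (tt N17652 D33579) (tt N17339 (iv F154464)))
theorem Q15758 : ∀ i, i < 15758 → P i := stepQ 15757 Q15757 (allL N15757 (tt N17596 (iv F155799)) (tt N13828 F147468) (tt N17648 (iv F156101)) (tt N13757 F147469) (tt N17650 (iv F156108)) (tt N14125 F147470) (tt N13779 F147471) (tt N17652 (iv F156116)) (tt N13754 (iv D31684)) (tt N17653 D33580))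
theorem Q15759 : ∀ i, i < 15759 → P i := stepQ 15758 Q15758 (allL N15758 (tt N17597 (iv F155805)) (tt N13829 F147472) (tt N15758 F147473) (tt N17651 (iv F156111)) (tt N17309 (iv F154292)) (tt N17641 (iv F156071)) (tt N13756 (iv D31685)) (tt N13780 F147474) (tt N17654 D33581) (tt N17341 (iv F154476)))
theorem Q15760 : ∀ i, i < 15760 → P i := stepQ 15759 Q15759 (allL N15759 (tt N17598 (iv F155812)) (tt N13830 F147475) (tt N15759 F147476) (tt N17652 (iv F156114)) (tt N17310 (iv F154299)) (tt N14127 F147477) (tt N17654 (iv F156124)) (tt N13757 F147478) (tt N13756 (iv D31686)) (tt N17655 D33582))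
theorem Q15761 : ∀ i, i < 15761 → P i := stepQ 15760 Q15760 (allL N15760 (tt N14366 F147479) (tt N13831 F147480) (tt N15760 F147481) (tt N17653 (iv F156119)) (tt N17311 (iv F154305)) (tt N14128 F147482) (tt N13782 F147483) (tt N17655 (iv F156130)) (tt N17343 (iv F154489)) (tt N13757 (iv D31687)))
theorem Q15762 : ∀ i, i < 15762 → P i := stepQ 15761 Q15761 (allL N15761 (tt N17656 D33583) (tt N13758 (iv D31688)) (tt N13832 F147484) (tt N15761 F147485) (tt N14470 F147486) (tt N14137 F147487) (tt N17657 D33584) (tt N14506 F147488) (tt N15761 F147489) (tt N14206 F147490))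
theorem Q15763 : ∀ i, i < 15763 → P i := stepQ 15762 Q15762 (allL N15762 (tt N14290 F147491) (tt N17657 (iv F156139)) (tt N13759 F147492) (tt N15762 F147493) (tt N14471 F147494) (tt N17658 D33585) (tt N13758 (iv D31689)) (tt N17659 D33586) (tt N15762 F147495) (tt N14207 F147496))
theorem Q15764 : ∀ i, i < 15764 → P i := stepQ 15763 Q15763 (allL N15763 (tt N14291 F147497) (tt N13834 F147498) (tt N17658 (iv F156146)) (tt N13760 F147499) (tt N17660 D33587) (tt N13759 (iv D31690)) (tt N14275 F147500) (tt N17661 D33588) (tt N17662 D33589) (tt N14208 F147501))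
theorem Q15765 : ∀ i, i < 15765 → P i := stepQ 15764 Q15764 (allL N15764 (tt N14292 F147502) (tt N13835 F147503) (tt N17659 (iv F156152)) (tt N13761 F147504) (tt N14473 F147505) (tt N17661 (iv F156167)) (tt N14509 F147506) (tt N13759 (iv D31691)) (tt N15764 F147507) (tt N14209 F147508))
theorem Q15766 : ∀ i, i < 15766 → P i := stepQ 15765 Q15765 (allL N15765 (tt N14293 F147509) (tt N13836 F147510) (tt N15765 F147511) (tt N17661 (iv F156166)) (tt N13766 F147512) (tt N13761 F147513) (tt N17663 D33590) (tt N13760 (iv D31692)) (tt N17664 D33591) (tt N14210 F147514))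
theorem Q15767 : ∀ i, i < 15767 → P i := stepQ 15766 Q15766 (allL N15766 (tt N14294 F147515) (tt N13837 F147516) (tt N15766 F147517) (tt N17662 (iv F156172)) (tt N13767 F147518) (tt N15766 F147519) (tt N14278 F147520) (tt N17664 (iv F156187)) (tt N13760 (iv D31693)) (tt N17665 D33592))
theorem Q15768 : ∀ i, i < 15768 → P i := stepQ 15767 Q15767 (allL N15767 (tt N17600 (iv F155826)) (tt N17621 (iv F155946)) (tt N13764 F147521) (tt N15767 F147522) (tt N17666 D33593) (tt N13763 (iv D31694)) (tt N17636 (iv F156042)) (tt N17667 D33594) (tt N17617 (iv F155934)) (tt N14296 F147523))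
theorem Q15769 : ∀ i, i < 15769 → P i := stepQ 15768 Q15768 (allL N15768 (tt N17601 (iv F155831)) (tt N17634 (iv F156025)) (tt N13765 F147524) (tt N15768 F147525) (tt N14760 F147526) (tt N17667 (iv F156200)) (tt N13776 F147527) (tt N13763 (iv D31695)) (tt N13783 F147528) (tt N14297 F147529))
theorem Q15770 : ∀ i, i < 15770 → P i := stepQ 15769 Q15769 (allL N15769 (tt N17602 (iv F155838)) (tt N13840 F147530) (tt N17666 (iv F156195)) (tt N17660 (iv F156160)) (tt N13764 (iv D31696)) (tt N14761 F147531) (tt N17638 (iv F156055)) (tt N17668 D33595) (tt N17669 D33596) (tt N14298 F147532))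
theorem Q15771 : ∀ i, i < 15771 → P i := stepQ 15770 Q15770 (allL N15770 (tt N17603 (iv F155844)) (tt N13841 F147533) (tt N17667 (iv F156198)) (tt N13766 F147534) (tt N17668 (iv F156203)) (tt N13765 F147535) (tt N17670 D33597) (tt N13764 (iv D31697)) (tt N17671 D33598) (tt N14299 F147536))
theorem Q15772 : ∀ i, i < 15772 → P i := stepQ 15771 Q15771 (allL N15771 (tt N17604 (iv F155849)) (tt N13842 F147537) (tt N17617 (iv F155932)) (tt N13767 F147538) (tt N17669 (iv F156207)) (tt N13786 F147539) (tt N17640 (iv F156066)) (tt N17671 (iv F156215)) (tt N13764 (iv D31698)) (tt N17672 D33599))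
theorem Q15773 : ∀ i, i < 15773 → P i := stepQ 15772 Q15772 (allL N15772 (tt N17605 (iv F155854)) (tt N13843 F147540) (tt N15772 F147541) (tt N17670 (iv F156209)) (tt N17663 (iv F156178)) (tt N13780 F147542) (tt N13766 (iv D31699)) (tt N17641 (iv F156072)) (tt N17673 D33600) (tt N14301 F147543))
theorem Q15774 : ∀ i, i < 15774 → P i := stepQ 15773 Q15773 (allL N15773 (tt N17606 (iv F155861)) (tt N13844 F147544) (tt N15773 F147545) (tt N17671 (iv F156213)) (tt N17664 (iv F156185)) (tt N13788 F147546) (tt N17673 (iv F156222)) (tt N13767 F147547) (tt N13766 (iv D31700)) (tt N17674 D33601))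
theorem Q15775 : ∀ i, i < 15775 → P i := stepQ 15774 Q15774 (allL N15774 (tt N17607 (iv F155867)) (tt N13845 F147548) (tt N15774 F147549) (tt N17672 (iv F156217)) (tt N17665 (iv F156191)) (tt N13789 F147550) (tt N17501 (iv F155306)) (tt N17674 (iv F156226)) (tt N14303 F147551) (tt N13767 (iv D31701)))
theorem Q15776 : ∀ i, i < 15776 → P i := stepQ 15775 Q15775 (allL N15775 (tt N17609 (iv F155881)) (tt N14860 F147552) (tt N13769 F147553) (tt N15775 F147554) (tt N17675 D33602) (tt N13768 (iv D31702)) (tt N17336 (iv F154444)) (tt N17676 D33603) (tt N17677 D33604) (tt N13775 F147555))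
theorem Q15777 : ∀ i, i < 15777 → P i := stepQ 15776 Q15776 (allL N15776 (tt N17610 (iv F155886)) (tt N14859 F147556) (tt N13770 F147557) (tt N15776 F147558) (tt N14751 F147559) (tt N17676 (iv F156235)) (tt N14297 F147560) (tt N13768 (iv D31703)) (tt N14028 F147561) (tt N13776 F147562))
theorem Q15778 : ∀ i, i < 15778 → P i := stepQ 15777 Q15777 (allL N15777 (tt N17611 (iv F155893)) (tt N13848 F147563) (tt N17675 (iv F156229)) (tt N17195 (iv F153601)) (tt N13769 (iv D31704)) (tt N14752 F147564) (tt N17338 (iv F154458)) (tt N17678 D33605) (tt N17679 D33606) (tt N13777 F147565))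
theorem Q15779 : ∀ i, i < 15779 → P i := stepQ 15778 Q15778 (allL N15778 (tt N17612 (iv F155899)) (tt N13849 F147566) (tt N17676 (iv F156233)) (tt N13771 F147567) (tt N17678 (iv F156242)) (tt N13770 F147568) (tt N17680 D33607) (tt N13769 (iv D31705)) (tt N17681 D33608) (tt N13778 F147569))
theorem Q15780 : ∀ i, i < 15780 → P i := stepQ 15779 Q15779 (allL N15779 (tt N17613 (iv F155904)) (tt N13850 F147570) (tt N17677 (iv F156238)) (tt N13772 F147571) (tt N17679 (iv F156246)) (tt N14031 F147572) (tt N17340 (iv F154469)) (tt N17681 (iv F156254)) (tt N13769 (iv D31706)) (tt N17682 D33609))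
theorem Q15781 : ∀ i, i < 15781 → P i := stepQ 15780 Q15780 (allL N15780 (tt N17614 (iv F155910)) (tt N13851 F147573) (tt N15780 F147574) (tt N17680 (iv F156248)) (tt N17198 (iv F153618)) (tt N14301 F147575) (tt N13771 (iv D31707)) (tt N17341 (iv F154475)) (tt N17683 D33610) (tt N13780 F147576))
theorem Q15782 : ∀ i, i < 15782 → P i := stepQ 15781 Q15781 (allL N15781 (tt N17615 (iv F155917)) (tt N13852 F147577) (tt N15781 F147578) (tt N17681 (iv F156252)) (tt N17199 (iv F153625)) (tt N14033 F147579) (tt N17683 (iv F156262)) (tt N13772 F147580) (tt N13771 (iv D31708)) (tt N17684 D33611))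
theorem Q15783 : ∀ i, i < 15783 → P i := stepQ 15782 Q15782 (allL N15782 (tt N14378 F147581) (tt N13853 F147582) (tt N15782 F147583) (tt N17682 (iv F156257)) (tt N17200 (iv F153631)) (tt N14034 F147584) (tt N17343 (iv F154488)) (tt N17684 (iv F156267)) (tt N13782 F147585) (tt N13772 (iv D31709)))
theorem Q15784 : ∀ i, i < 15784 → P i := stepQ 15783 Q15783 (allL N15783 (tt N13774 F147586) (tt N17616 (iv F155925)) (tt N13854 F147587) (tt N15783 F147588) (tt N13882 F147589) (tt N17685 D33612) (tt N13773 (iv D31710)) (tt N17686 D33613) (tt N13790 F147590) (tt N13879 F147591))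
theorem Q15785 : ∀ i, i < 15785 → P i := stepQ 15784 Q15784 (allL N15784 (tt N17685 (iv F156269)) (tt N13775 F147592) (tt N13855 F147593) (tt N15784 F147594) (tt N17687 D33614) (tt N13774 (iv D31711)) (tt N17644 (iv F156089)) (tt N17688 D33615) (tt N17689 D33616) (tt N14860 F147595))
theorem Q15786 : ∀ i, i < 15786 → P i := stepQ 15785 Q15785 (allL N15785 (tt N17686 (iv F156273)) (tt N13776 F147596) (tt N13856 F147597) (tt N15785 F147598) (tt N14861 F147599) (tt N17688 (iv F156287)) (tt N17634 (iv F156029)) (tt N13774 (iv D31712)) (tt N13792 F147600) (tt N14859 F147601))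
theorem Q15787 : ∀ i, i < 15787 → P i := stepQ 15786 Q15786 (allL N15786 (tt N17619 (iv F155939)) (tt N17687 (iv F156280)) (tt N13777 F147602) (tt N17690 D33617) (tt N13775 (iv D31713)) (tt N17167 (iv F153439)) (tt N17646 (iv F156097)) (tt N17691 D33618) (tt N17692 D33619) (tt N17675 (iv F156231)))
theorem Q15788 : ∀ i, i < 15788 → P i := stepQ 15787 Q15787 (allL N15787 (tt N17620 (iv F155941)) (tt N17688 (iv F156284)) (tt N13778 F147603) (tt N15787 F147604) (tt N17691 (iv F156295)) (tt N13776 F147605) (tt N17693 D33620) (tt N13775 (iv D31714)) (tt N17694 D33621) (tt N17676 (iv F156236)))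
theorem Q15789 : ∀ i, i < 15789 → P i := stepQ 15788 Q15788 (allL N15788 (tt N17621 (iv F155945)) (tt N17689 (iv F156289)) (tt N13779 F147606) (tt N15788 F147607) (tt N17692 (iv F156297)) (tt N13795 F147608) (tt N17648 (iv F156104)) (tt N17694 (iv F156303)) (tt N13775 (iv D31715)) (tt N17695 D33622))
theorem Q15790 : ∀ i, i < 15790 → P i := stepQ 15789 Q15789 (allL N15789 (tt N17622 (iv F155951)) (tt N13860 F147609) (tt N17691 (iv F156294)) (tt N17315 (iv F154322)) (tt N13778 F147610) (tt N17170 (iv F153456)) (tt N17696 D33623) (tt N13777 (iv D31716)) (tt N17697 D33624) (tt N17678 (iv F156244)))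
theorem Q15791 : ∀ i, i < 15791 → P i := stepQ 15790 Q15790 (allL N15790 (tt N17623 (iv F155954)) (tt N13861 F147611) (tt N17692 (iv F156296)) (tt N17316 (iv F154326)) (tt N13779 F147612) (tt N17698 D33625) (tt N17650 (iv F156109)) (tt N17697 (iv F156312)) (tt N13777 (iv D31717)) (tt N17699 D33626))
theorem Q15792 : ∀ i, i < 15792 → P i := stepQ 15791 Q15791 (allL N15791 (tt N17624 (iv F155959)) (tt N13862 F147613) (tt N17693 (iv F156298)) (tt N13780 F147614) (tt N17696 (iv F156309)) (tt N17670 (iv F156210)) (tt N13778 (iv D31718)) (tt N17651 (iv F156112)) (tt N17700 D33627) (tt N17680 (iv F156250)))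
theorem Q15793 : ∀ i, i < 15793 → P i := stepQ 15792 Q15792 (allL N15792 (tt N17625 (iv F155962)) (tt N13863 F147615) (tt N17694 (iv F156300)) (tt N13781 F147616) (tt N17697 (iv F156311)) (tt N13799 F147617) (tt N17700 (iv F156323)) (tt N13779 F147618) (tt N13778 (iv D31719)) (tt N17701 D33628))
theorem Q15794 : ∀ i, i < 15794 → P i := stepQ 15793 Q15793 (allL N15793 (tt N14329 F147619) (tt N13864 F147620) (tt N17695 (iv F156305)) (tt N13782 F147621) (tt N17699 (iv F156319)) (tt N13800 F147622) (tt N17653 (iv F156121)) (tt N17701 (iv F156328)) (tt N17682 (iv F156259)) (tt N13779 (iv D31720)))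
theorem Q15795 : ∀ i, i < 15795 → P i := stepQ 15794 Q15794 (allL N15794 (tt N17626 (iv F155968)) (tt N13865 F147623) (tt N15794 F147624) (tt N17700 (iv F156322)) (tt N17320 (iv F154341)) (tt N17702 D33629) (tt N13781 F147625) (tt N17654 (iv F156125)) (tt N13780 (iv D31721)) (tt N17703 D33630))
theorem Q15796 : ∀ i, i < 15796 → P i := stepQ 15795 Q15795 (allL N15795 (tt N14377 F147626) (tt N13866 F147627) (tt N15795 F147628) (tt N17701 (iv F156326)) (tt N17321 (iv F154346)) (tt N13802 F147629) (tt N17703 (iv F156338)) (tt N13782 F147630) (tt N17684 (iv F156268)) (tt N13781 (iv D31722)))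
theorem Q15797 : ∀ i, i < 15797 → P i := stepQ 15796 Q15796 (allL N15796 (tt N17629 (iv F155990)) (tt N13867 F147631) (tt N17158 (iv F153376)) (tt N15796 F147632) (tt N13785 F147633) (tt N14964 F147634) (tt N17704 D33631) (tt N13784 (iv D31723)) (tt N17705 D33632) (tt N14040 F147635))
theorem Q15798 : ∀ i, i < 15798 → P i := stepQ 15797 Q15797 (allL N15797 (tt N17630 (iv F155998)) (tt N13868 F147636) (tt N17149 (iv F153321)) (tt N15797 F147637) (tt N13786 F147638) (tt N17706 D33633) (tt N14137 F147639) (tt N17705 (iv F156350)) (tt N13784 (iv D31724)) (tt N17599 (iv F155825)))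
theorem Q15799 : ∀ i, i < 15799 → P i := stepQ 15798 Q15798 (allL N15798 (tt N13876 F147640) (tt N13869 F147641) (tt N17627 (iv F155976)) (tt N13787 F147642) (tt N17704 (iv F156343)) (tt N13798 F147643) (tt N13785 (iv D31725)) (tt N13874 F147644) (tt N17707 D33634) (tt N14041 F147645))
theorem Q15800 : ∀ i, i < 15800 → P i := stepQ 15799 Q15799 (allL N15799 (tt N17631 (iv F156005)) (tt N13870 F147646) (tt N17618 (iv F155936)) (tt N13788 F147647) (tt N17705 (iv F156349)) (tt N17671 (iv F156214)) (tt N17707 (iv F156357)) (tt N13786 F147648) (tt N13785 (iv D31726)) (tt N17708 D33635))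
theorem Q15801 : ∀ i, i < 15801 → P i := stepQ 15800 Q15800 (allL N15800 (tt N17632 (iv F156010)) (tt N13871 F147649) (tt N17608 (iv F155876)) (tt N13789 F147650) (tt N17599 (iv F155823)) (tt N17672 (iv F156218)) (tt N14139 F147651) (tt N17708 (iv F156361)) (tt N14043 F147652) (tt N13786 (iv D31727)))
theorem Q15802 : ∀ i, i < 15802 → P i := stepQ 15801 Q15801 (allL N15801 (tt N13971 F147653) (tt N13872 F147654) (tt N15801 F147655) (tt N17707 (iv F156356)) (tt N15801 F147656) (tt N17709 D33636) (tt N13788 F147657) (tt N13970 F147658) (tt N13787 (iv D31728)) (tt N17288 (iv F154153)))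
theorem Q15803 : ∀ i, i < 15803 → P i := stepQ 15802 Q15802 (allL N15802 (tt N17633 (iv F156017)) (tt N13873 F147659) (tt N15802 F147660) (tt N17708 (iv F156360)) (tt N15802 F147661) (tt N17674 (iv F156225)) (tt N17288 (iv F154151)) (tt N13789 F147662) (tt N14044 F147663) (tt N13788 (iv D31729)))
theorem Q15804 : ∀ i, i < 15804 → P i := stepQ 15803 Q15803 (allL N15803 (tt N13792 F147664) (tt N17628 (iv F155983)) (tt N13798 F147665) (tt N15803 F147666) (tt N14073 F147667) (tt N17627 (iv F155979)) (tt N13794 F147668) (tt N13790 (iv D31730)) (tt N17686 (iv F156278)) (tt N14045 F147669))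
theorem Q15805 : ∀ i, i < 15805 → P i := stepQ 15804 Q15804 (allL N15804 (tt N14043 F147670) (tt N13793 F147671) (tt N13875 F147672) (tt N14024 (iv F147676)) (tt N13791 (iv D31731)) (tt N14409 F147673) (tt N14140 F147674) (tt N17710 D33637) (tt N17632 (iv F156016)) (tt N14022 F147675))
theorem Q15806 : ∀ i, i < 15806 → P i := stepQ 15805 Q15805 (allL N15805 (tt N17627 (iv F155974)) (tt N13794 F147677) (tt N13876 F147678) (tt N15805 F147679) (tt N17710 (iv F156372)) (tt N13792 F147680) (tt N17628 (iv F155988)) (tt N13791 (iv D31732)) (tt N17711 D33638) (tt N14046 F147681))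
theorem Q15807 : ∀ i, i < 15807 → P i := stepQ 15806 Q15806 (allL N15806 (tt N17599 (iv F155819)) (tt N13795 F147682) (tt N13877 F147683) (tt N15806 F147684) (tt N17632 (iv F156014)) (tt N17689 (iv F156292)) (tt N14141 F147685) (tt N17711 (iv F156379)) (tt N13791 (iv D31733)) (tt N17630 (iv F156004)))
theorem Q15808 : ∀ i, i < 15808 → P i := stepQ 15807 Q15807 (allL N15807 (tt N14963 F147686) (tt N17710 (iv F156369)) (tt N13796 F147687) (tt N14093 F147688) (tt N13794 F147689) (tt N17177 (iv F153493)) (tt N14073 F147690) (tt N13793 (iv D31734)) (tt N17712 D33639) (tt N14047 F147691))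
theorem Q15809 : ∀ i, i < 15809 → P i := stepQ 15808 Q15808 (allL N15808 (tt N14758 F147692) (tt N17632 (iv F156011)) (tt N13797 F147693) (tt N14203 F147694) (tt N13795 F147695) (tt N17713 D33640) (tt N14142 F147696) (tt N17712 (iv F156385)) (tt N13793 (iv D31735)) (tt N14184 F147697))
theorem Q15810 : ∀ i, i < 15810 → P i := stepQ 15809 Q15809 (allL N15809 (tt N17634 (iv F156024)) (tt N17711 (iv F156376)) (tt N13799 F147698) (tt N15809 F147699) (tt N17712 (iv F156383)) (tt N17694 (iv F156302)) (tt N17686 (iv F156277)) (tt N13795 F147700) (tt N13794 (iv D31736)) (tt N17714 D33641))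
theorem Q15811 : ∀ i, i < 15811 → P i := stepQ 15810 Q15810 (allL N15810 (tt N14295 F147701) (tt N17630 (iv F155999)) (tt N13800 F147702) (tt N15810 F147703) (tt N14184 F147704) (tt N17695 (iv F156307)) (tt N14143 F147705) (tt N17714 (iv F156397)) (tt N14049 F147706) (tt N13795 (iv D31737)))
theorem Q15812 : ∀ i, i < 15812 → P i := stepQ 15811 Q15811 (allL N15811 (tt N14830 F147707) (tt N13884 F147708) (tt N17712 (iv F156381)) (tt N13803 F147709) (tt N13799 F147710) (tt N17715 D33642) (tt N13887 F147711) (tt N13797 F147712) (tt N13796 (iv D31738)) (tt N13886 F147713))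
theorem Q15813 : ∀ i, i < 15813 → P i := stepQ 15812 Q15812 (allL N15812 (tt N14829 F147714) (tt N13885 F147715) (tt N17713 (iv F156388)) (tt N13804 F147716) (tt N17698 (iv F156315)) (tt N13797 (iv D31739)) (tt N17716 D33643) (tt N17715 (iv F156402)) (tt N17182 (iv F153522)) (tt N14186 F147717))
theorem Q15814 : ∀ i, i < 15814 → P i := stepQ 15813 Q15813 (allL N15813 (tt N13856 F147718) (tt N13886 F147719) (tt N17686 (iv F156274)) (tt N13801 F147720) (tt N13887 F147721) (tt N17717 D33644) (tt N13799 F147722) (tt N13854 F147723) (tt N13798 (iv D31740)) (tt N13884 F147724))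
theorem Q15815 : ∀ i, i < 15815 → P i := stepQ 15814 Q15814 (allL N15814 (tt N14330 F147725) (tt N13887 F147726) (tt N17714 (iv F156393)) (tt N13802 F147727) (tt N13886 F147728) (tt N17701 (iv F156327)) (tt N13884 F147729) (tt N13800 F147730) (tt N13883 F147731) (tt N13799 (iv D31741)))
theorem Q15816 : ∀ i, i < 15816 → P i := stepQ 15815 Q15815 (allL N15815 (tt N13954 F147732) (tt N13888 F147733) (tt N15815 F147734) (tt N17717 (iv F156412)) (tt N17461 (iv F155091)) (tt N13801 (iv D31742)) (tt N17702 (iv F156332)) (tt N13892 F147735) (tt N17709 (iv F156367)) (tt N13890 F147736))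
theorem Q15817 : ∀ i, i < 15817 → P i := stepQ 15816 Q15816 (allL N15816 (tt N14865 F147737) (tt N13890 F147738) (tt N13978 F147739) (tt N17715 (iv F156401)) (tt N17333 (iv F154422)) (tt N13803 (iv D31743)) (tt N17718 D33645) (tt N13804 F147740) (tt N17188 (iv F153554)) (tt N13888 F147741))
theorem Q15818 : ∀ i, i < 15818 → P i := stepQ 15817 Q15817 (allL N15817 (tt N14875 F147742) (tt N13891 F147743) (tt N14200 F147744) (tt N17716 (iv F156407)) (tt N17334 (iv F154429)) (tt N14145 F147745) (tt N13804 (iv D31744)) (tt N17719 D33646) (tt N17190 (iv F153567)) (tt N14178 F147746))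
theorem Q15819 : ∀ i, i < 15819 → P i := stepQ 15818 Q15818 (allL N15818 (tt N13805 (iv D31745)) (tt N14174 F147747) (tt N17353 (iv F154548)) (tt N15818 F147748) (tt N13822 F147749) (tt N14176 F147750) (tt N17720 D33647) (tt N14134 F147751) (tt N14133 F147752) (tt N14175 F147753))
theorem Q15820 : ∀ i, i < 15820 → P i := stepQ 15819 Q15819 (allL N15819 (tt N17720 (iv F156425)) (tt N13806 F147754) (tt N17354 (iv F154556)) (tt N15819 F147755) (tt N13823 F147756) (tt N17721 D33648) (tt N13805 (iv D31746)) (tt N17722 D33649) (tt N14146 F147757) (tt N15018 F147758))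
theorem Q15821 : ∀ i, i < 15821 → P i := stepQ 15820 Q15820 (allL N15820 (tt N14782 F147759) (tt N17721 (iv F156431)) (tt N13807 F147760) (tt N15820 F147761) (tt N17723 D33650) (tt N13806 (iv D31747)) (tt N17193 (iv F153589)) (tt N17724 D33651) (tt N17725 D33652) (tt N17304 (iv F154264)))
theorem Q15822 : ∀ i, i < 15822 → P i := stepQ 15821 Q15821 (allL N15821 (tt N14783 F147762) (tt N17722 (iv F156435)) (tt N13808 F147763) (tt N15821 F147764) (tt N13825 F147765) (tt N17724 (iv F156446)) (tt N17294 (iv F154194)) (tt N13806 (iv D31748)) (tt N14148 F147766) (tt N17305 (iv F154272)))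
theorem Q15823 : ∀ i, i < 15823 → P i := stepQ 15822 Q15822 (allL N15822 (tt N14784 F147767) (tt N17357 (iv F154574)) (tt N17723 (iv F156441)) (tt N17338 (iv F154456)) (tt N13807 (iv D31749)) (tt N13826 F147768) (tt N17195 (iv F153603)) (tt N17726 D33653) (tt N17727 D33654) (tt N17306 (iv F154278)))
theorem Q15824 : ∀ i, i < 15824 → P i := stepQ 15823 Q15823 (allL N15823 (tt N14785 F147769) (tt N17358 (iv F154580)) (tt N17724 (iv F156444)) (tt N13809 F147770) (tt N17726 (iv F156452)) (tt N13808 F147771) (tt N17728 D33655) (tt N13807 (iv D31750)) (tt N17729 D33656) (tt N17307 (iv F154283)))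
theorem Q15825 : ∀ i, i < 15825 → P i := stepQ 15824 Q15824 (allL N15824 (tt N14786 F147772) (tt N17359 (iv F154585)) (tt N17725 (iv F156448)) (tt N13810 F147773) (tt N17727 (iv F156455)) (tt N14151 F147774) (tt N17197 (iv F153614)) (tt N17729 (iv F156461)) (tt N13807 (iv D31751)) (tt N17730 D33657))
theorem Q15826 : ∀ i, i < 15826 → P i := stepQ 15825 Q15825 (allL N15825 (tt N14787 F147775) (tt N17360 (iv F154590)) (tt N15825 F147776) (tt N17728 (iv F156457)) (tt N17341 (iv F154473)) (tt N17298 (iv F154219)) (tt N13809 (iv D31752)) (tt N17198 (iv F153620)) (tt N17731 D33658) (tt N17309 (iv F154295)))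
theorem Q15827 : ∀ i, i < 15827 → P i := stepQ 15826 Q15826 (allL N15826 (tt N14788 F147777) (tt N17361 (iv F154597)) (tt N15826 F147778) (tt N17729 (iv F156459)) (tt N17342 (iv F154480)) (tt N14153 F147779) (tt N17731 (iv F156467)) (tt N13810 F147780) (tt N13809 (iv D31753)) (tt N17732 D33659))
theorem Q15828 : ∀ i, i < 15828 → P i := stepQ 15827 Q15827 (allL N15827 (tt N14789 F147781) (tt N17362 (iv F154603)) (tt N15827 F147782) (tt N17730 (iv F156463)) (tt N17343 (iv F154486)) (tt N14154 F147783) (tt N17200 (iv F153633)) (tt N17732 (iv F156471)) (tt N17311 (iv F154308)) (tt N13810 (iv D31754)))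
theorem Q15829 : ∀ i, i < 15829 → P i := stepQ 15828 Q15828 (allL N15828 (tt N14125 F147784) (tt N13812 F147785) (tt N17635 (iv F156034)) (tt N13900 F147786) (tt N17292 (iv F154181)) (tt N17596 (iv F155802)) (tt N13811 (iv D31755)) (tt N17733 D33660) (tt N14097 F147787) (tt N14320 F147788))
theorem Q15830 : ∀ i, i < 15830 → P i := stepQ 15829 Q15829 (allL N15829 (tt N14747 F147789) (tt N17596 (iv F155800)) (tt N13813 F147790) (tt N13901 F147791) (tt N17734 D33661) (tt N13812 (iv D31756)) (tt N13838 F147792) (tt N17735 D33662) (tt N14229 F147793) (tt N14321 F147794))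
theorem Q15831 : ∀ i, i < 15831 → P i := stepQ 15830 Q15830 (allL N15830 (tt N14790 F147795) (tt N17733 (iv F156473)) (tt N13814 F147796) (tt N13902 F147797) (tt N17294 (iv F154193)) (tt N17735 (iv F156486)) (tt N13825 F147798) (tt N13812 (iv D31757)) (tt N14155 F147799) (tt N14322 F147800))
theorem Q15832 : ∀ i, i < 15832 → P i := stepQ 15831 Q15831 (allL N15831 (tt N14791 F147801) (tt N17638 (iv F156052)) (tt N17734 (iv F156479)) (tt N17152 (iv F153340)) (tt N13813 (iv D31758)) (tt N17295 (iv F154200)) (tt N13840 F147802) (tt N17736 D33663) (tt N17737 D33664) (tt N14323 F147803))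
theorem Q15833 : ∀ i, i < 15833 → P i := stepQ 15832 Q15832 (allL N15832 (tt N14792 F147804) (tt N17639 (iv F156058)) (tt N17735 (iv F156484)) (tt N13815 F147805) (tt N17736 (iv F156490)) (tt N13814 F147806) (tt N17738 D33665) (tt N13813 (iv D31759)) (tt N17739 D33666) (tt N14324 F147807))
theorem Q15834 : ∀ i, i < 15834 → P i := stepQ 15833 Q15833 (allL N15833 (tt N14743 F147808) (tt N17640 (iv F156063)) (tt N14229 F147809) (tt N13816 F147810) (tt N17737 (iv F156494)) (tt N14157 F147811) (tt N13842 F147812) (tt N17739 (iv F156506)) (tt N13813 (iv D31760)) (tt N17378 (iv F154684)))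
theorem Q15835 : ∀ i, i < 15835 → P i := stepQ 15834 Q15834 (allL N15834 (tt N14793 F147813) (tt N17641 (iv F156068)) (tt N13904 F147814) (tt N17738 (iv F156498)) (tt N17155 (iv F153357)) (tt N13829 F147815) (tt N13815 (iv D31761)) (tt N13843 F147816) (tt N17740 D33667) (tt N14326 F147817))
theorem Q15836 : ∀ i, i < 15836 → P i := stepQ 15835 Q15835 (allL N15835 (tt N14794 F147818) (tt N17642 (iv F156075)) (tt N13905 F147819) (tt N17739 (iv F156504)) (tt N17156 (iv F153364)) (tt N14158 F147820) (tt N17740 (iv F156509)) (tt N13816 F147821) (tt N13815 (iv D31762)) (tt N17503 (iv F155320)))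
theorem Q15837 : ∀ i, i < 15837 → P i := stepQ 15836 Q15836 (allL N15836 (tt N14796 F147822) (tt N14863 F147823) (tt N13818 F147824) (tt N13906 F147825) (tt N17741 D33668) (tt N13817 (iv D31763)) (tt N13846 F147826) (tt N17742 D33669) (tt N17743 D33670) (tt N13824 F147827))
theorem Q15838 : ∀ i, i < 15838 → P i := stepQ 15837 Q15837 (allL N15837 (tt N14797 F147828) (tt N15020 F147829) (tt N13819 F147830) (tt N13907 F147831) (tt N17305 (iv F154269)) (tt N17742 (iv F156521)) (tt N14322 F147832) (tt N13817 (iv D31764)) (tt N15837 F147833) (tt N13825 F147834))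
theorem Q15839 : ∀ i, i < 15839 → P i := stepQ 15838 Q15838 (allL N15838 (tt N14798 F147835) (tt N17338 (iv F154455)) (tt N17741 (iv F156514)) (tt N17357 (iv F154575)) (tt N13818 (iv D31765)) (tt N17306 (iv F154276)) (tt N13848 F147836) (tt N17744 D33671) (tt N17745 D33672) (tt N13826 F147837))
theorem Q15840 : ∀ i, i < 15840 → P i := stepQ 15839 Q15839 (allL N15839 (tt N14799 F147838) (tt N17339 (iv F154461)) (tt N17742 (iv F156519)) (tt N13820 F147839) (tt N17744 (iv F156530)) (tt N13819 F147840) (tt N17746 D33673) (tt N13818 (iv D31766)) (tt N17747 D33674) (tt N13827 F147841))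
theorem Q15841 : ∀ i, i < 15841 → P i := stepQ 15840 Q15840 (allL N15840 (tt N14800 F147842) (tt N17340 (iv F154466)) (tt N17743 (iv F156525)) (tt N13821 F147843) (tt N17745 (iv F156533)) (tt N15840 F147844) (tt N13850 F147845) (tt N17747 (iv F156543)) (tt N13818 (iv D31767)) (tt N17748 D33675))
theorem Q15842 : ∀ i, i < 15842 → P i := stepQ 15841 Q15841 (allL N15841 (tt N14801 F147846) (tt N17341 (iv F154471)) (tt N13911 F147847) (tt N17746 (iv F156536)) (tt N17360 (iv F154592)) (tt N14326 F147848) (tt N13820 (iv D31768)) (tt N13851 F147849) (tt N17749 D33676) (tt N13829 F147850))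
theorem Q15843 : ∀ i, i < 15843 → P i := stepQ 15842 Q15842 (allL N15842 (tt N14802 F147851) (tt N17342 (iv F154478)) (tt N13912 F147852) (tt N17747 (iv F156541)) (tt N17361 (iv F154599)) (tt N15842 F147853) (tt N17749 (iv F156551)) (tt N13821 F147854) (tt N13820 (iv D31769)) (tt N17750 D33677))
theorem Q15844 : ∀ i, i < 15844 → P i := stepQ 15843 Q15843 (allL N15843 (tt N14803 F147855) (tt N17343 (iv F154484)) (tt N13913 F147856) (tt N17748 (iv F156545)) (tt N17362 (iv F154605)) (tt N15843 F147857) (tt N13853 F147858) (tt N17750 (iv F156556)) (tt N13831 F147859) (tt N13821 (iv D31770)))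
theorem Q15845 : ∀ i, i < 15845 → P i := stepQ 15844 Q15844 (allL N15844 (tt N13823 F147860) (tt N14177 F147861) (tt N17643 (iv F156082)) (tt N13914 F147862) (tt N17720 (iv F156428)) (tt N17751 D33678) (tt N13822 (iv D31771)) (tt N17752 D33679) (tt N14135 F147863) (tt N14185 F147864))
theorem Q15846 : ∀ i, i < 15846 → P i := stepQ 15845 Q15845 (allL N15845 (tt N17751 (iv F156558)) (tt N13824 F147865) (tt N17644 (iv F156087)) (tt N13915 F147866) (tt N17753 D33680) (tt N13823 (iv D31772)) (tt N13855 F147867) (tt N17754 D33681) (tt N17755 D33682) (tt N14863 F147868))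
theorem Q15847 : ∀ i, i < 15847 → P i := stepQ 15846 Q15846 (allL N15846 (tt N17752 (iv F156564)) (tt N13825 F147869) (tt N17645 (iv F156092)) (tt N13916 F147870) (tt N17722 (iv F156437)) (tt N17754 (iv F156575)) (tt N17733 (iv F156475)) (tt N13823 (iv D31773)) (tt N14160 F147871) (tt N15020 F147872))
theorem Q15848 : ∀ i, i < 15848 → P i := stepQ 15847 Q15847 (allL N15847 (tt N14806 F147873) (tt N17753 (iv F156570)) (tt N13826 F147874) (tt N17756 D33683) (tt N13824 (iv D31774)) (tt N17723 (iv F156442)) (tt N13857 F147875) (tt N17757 D33684) (tt N17758 D33685) (tt N17741 (iv F156516)))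
theorem Q15849 : ∀ i, i < 15849 → P i := stepQ 15848 Q15848 (allL N15848 (tt N14807 F147876) (tt N17754 (iv F156573)) (tt N13827 F147877) (tt N13918 F147878) (tt N17757 (iv F156587)) (tt N13825 F147879) (tt N17759 D33686) (tt N13824 (iv D31775)) (tt N17760 D33687) (tt N17742 (iv F156522)))
theorem Q15850 : ∀ i, i < 15850 → P i := stepQ 15849 Q15849 (allL N15849 (tt N14808 F147880) (tt N17755 (iv F156578)) (tt N13828 F147881) (tt N13919 F147882) (tt N17758 (iv F156590)) (tt N14162 F147883) (tt N13859 F147884) (tt N17760 (iv F156600)) (tt N13824 (iv D31776)) (tt N17761 D33688))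
theorem Q15851 : ∀ i, i < 15851 → P i := stepQ 15850 Q15850 (allL N15850 (tt N14809 F147885) (tt N17649 (iv F156105)) (tt N17757 (iv F156586)) (tt N17369 (iv F154637)) (tt N13827 F147886) (tt N17726 (iv F156453)) (tt N17762 D33689) (tt N13826 (iv D31777)) (tt N17763 D33690) (tt N17744 (iv F156531)))
theorem Q15852 : ∀ i, i < 15852 → P i := stepQ 15851 Q15851 (allL N15851 (tt N14810 F147887) (tt N17650 (iv F156107)) (tt N17758 (iv F156589)) (tt N17370 (iv F154640)) (tt N13828 F147888) (tt N17764 D33691) (tt N13861 F147889) (tt N17763 (iv F156611)) (tt N13826 (iv D31778)) (tt N17765 D33692))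
theorem Q15853 : ∀ i, i < 15853 → P i := stepQ 15852 Q15852 (allL N15852 (tt N14811 F147890) (tt N17651 (iv F156110)) (tt N17759 (iv F156593)) (tt N13829 F147891) (tt N17762 (iv F156607)) (tt N17738 (iv F156499)) (tt N13827 (iv D31779)) (tt N13862 F147892) (tt N17766 D33693) (tt N17746 (iv F156539)))
theorem Q15854 : ∀ i, i < 15854 → P i := stepQ 15853 Q15853 (allL N15853 (tt N14812 F147893) (tt N17652 (iv F156113)) (tt N17760 (iv F156597)) (tt N13830 F147894) (tt N17763 (iv F156610)) (tt N14166 F147895) (tt N17766 (iv F156619)) (tt N13828 F147896) (tt N13827 (iv D31780)) (tt N17767 D33694))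
theorem Q15855 : ∀ i, i < 15855 → P i := stepQ 15854 Q15854 (allL N15854 (tt N14813 F147897) (tt N17653 (iv F156118)) (tt N17761 (iv F156602)) (tt N13831 F147898) (tt N17765 (iv F156615)) (tt N14167 F147899) (tt N13864 F147900) (tt N17767 (iv F156624)) (tt N17748 (iv F156548)) (tt N13828 (iv D31781)))
theorem Q15856 : ∀ i, i < 15856 → P i := stepQ 15855 Q15855 (allL N15855 (tt N14814 F147901) (tt N17654 (iv F156122)) (tt N13925 F147902) (tt N17766 (iv F156618)) (tt N17374 (iv F154656)) (tt N17768 D33695) (tt N13830 F147903) (tt N13865 F147904) (tt N13829 (iv D31782)) (tt N17769 D33696))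
theorem Q15857 : ∀ i, i < 15857 → P i := stepQ 15856 Q15856 (allL N15856 (tt N14815 F147905) (tt N17655 (iv F156127)) (tt N13926 F147906) (tt N17767 (iv F156622)) (tt N17375 (iv F154661)) (tt N14169 F147907) (tt N17769 (iv F156632)) (tt N13831 F147908) (tt N17750 (iv F156557)) (tt N13830 (iv D31783)))
theorem Q15858 : ∀ i, i < 15858 → P i := stepQ 15857 Q15857 (allL N15857 (tt N13832 (iv D31784)) (tt N14172 F147909) (tt N17656 (iv F156132)) (tt N13927 F147910) (tt N14538 F147911) (tt N14182 F147912) (tt N17770 D33697) (tt N17376 (iv F154669)) (tt N15857 F147913) (tt N14170 F147914))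
theorem Q15859 : ∀ i, i < 15859 → P i := stepQ 15858 Q15858 (allL N15858 (tt N17770 (iv F156634)) (tt N13833 F147915) (tt N17657 (iv F156140)) (tt N13928 F147916) (tt N14539 F147917) (tt N17771 D33698) (tt N13832 (iv D31785)) (tt N17772 D33699) (tt N15858 F147918) (tt N14232 F147919))
theorem Q15860 : ∀ i, i < 15860 → P i := stepQ 15859 Q15859 (allL N15859 (tt N14817 F147920) (tt N17771 (iv F156640)) (tt N13834 F147921) (tt N13929 F147922) (tt N17773 D33700) (tt N13833 (iv D31786)) (tt N17150 (iv F153329)) (tt N17774 D33701) (tt N17775 D33702) (tt N14233 F147923))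
theorem Q15861 : ∀ i, i < 15861 → P i := stepQ 15860 Q15860 (allL N15860 (tt N14818 F147924) (tt N17772 (iv F156643)) (tt N13835 F147925) (tt N13930 F147926) (tt N14541 F147927) (tt N17774 (iv F156655)) (tt N17379 (iv F154690)) (tt N13833 (iv D31787)) (tt N15860 F147928) (tt N14234 F147929))
theorem Q15862 : ∀ i, i < 15862 → P i := stepQ 15861 Q15861 (allL N15861 (tt N14819 F147930) (tt N17660 (iv F156159)) (tt N17773 (iv F156649)) (tt N13840 F147931) (tt N13834 (iv D31788)) (tt N14542 F147932) (tt N17152 (iv F153342)) (tt N17776 D33703) (tt N17777 D33704) (tt N14235 F147933))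
theorem Q15863 : ∀ i, i < 15863 → P i := stepQ 15862 Q15862 (allL N15862 (tt N14820 F147934) (tt N17661 (iv F156165)) (tt N17774 (iv F156653)) (tt N13836 F147935) (tt N17776 (iv F156663)) (tt N13835 F147936) (tt N17778 D33705) (tt N13834 (iv D31789)) (tt N17779 D33706) (tt N14236 F147937))
theorem Q15864 : ∀ i, i < 15864 → P i := stepQ 15863 Q15863 (allL N15863 (tt N14821 F147938) (tt N17662 (iv F156170)) (tt N17775 (iv F156658)) (tt N13837 F147939) (tt N17777 (iv F156668)) (tt N15863 F147940) (tt N17154 (iv F153353)) (tt N17779 (iv F156675)) (tt N13834 (iv D31790)) (tt N17780 D33707))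
theorem Q15865 : ∀ i, i < 15865 → P i := stepQ 15864 Q15864 (allL N15864 (tt N14822 F147941) (tt N17663 (iv F156176)) (tt N13934 F147942) (tt N17778 (iv F156670)) (tt N13843 F147943) (tt N17383 (iv F154715)) (tt N13836 (iv D31791)) (tt N17155 (iv F153359)) (tt N17781 D33708) (tt N14238 F147944))
theorem Q15866 : ∀ i, i < 15866 → P i := stepQ 15865 Q15865 (allL N15865 (tt N14823 F147945) (tt N17664 (iv F156183)) (tt N13935 F147946) (tt N17779 (iv F156673)) (tt N13844 F147947) (tt N15865 F147948) (tt N17781 (iv F156683)) (tt N13837 F147949) (tt N13836 (iv D31792)) (tt N17782 D33709))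
theorem Q15867 : ∀ i, i < 15867 → P i := stepQ 15866 Q15866 (allL N15866 (tt N14824 F147950) (tt N17665 (iv F156189)) (tt N13936 F147951) (tt N17780 (iv F156677)) (tt N13845 F147952) (tt N15866 F147953) (tt N17157 (iv F153372)) (tt N17782 (iv F156688)) (tt N14240 F147954) (tt N13837 (iv D31793)))
theorem Q15868 : ∀ i, i < 15868 → P i := stepQ 15867 Q15867 (allL N15867 (tt N14770 F147955) (tt N17623 (iv F155955)) (tt N13840 F147956) (tt N17783 D33710) (tt N13838 (iv D31794)) (tt N14831 F147957) (tt N17734 (iv F156480)) (tt N17784 D33711) (tt N14740 F147958) (tt N14331 F147959))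
theorem Q15869 : ∀ i, i < 15869 → P i := stepQ 15868 Q15868 (allL N15868 (tt N14772 F147960) (tt N17625 (iv F155963)) (tt N13841 F147961) (tt N13938 F147962) (tt N17784 (iv F156697)) (tt N13839 F147963) (tt N17785 D33712) (tt N13838 (iv D31795)) (tt N14741 F147964) (tt N14332 F147965))
theorem Q15870 : ∀ i, i < 15870 → P i := stepQ 15869 Q15869 (allL N15869 (tt N14825 F147966) (tt N17668 (iv F156202)) (tt N17784 (iv F156696)) (tt N17776 (iv F156662)) (tt N13841 F147967) (tt N14834 F147968) (tt N17786 D33713) (tt N13840 (iv D31796)) (tt N17787 D33714) (tt N14334 F147969))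
theorem Q15871 : ∀ i, i < 15871 → P i := stepQ 15870 Q15870 (allL N15870 (tt N14767 F147970) (tt N17669 (iv F156206)) (tt N14740 F147971) (tt N17777 (iv F156667)) (tt N13842 F147972) (tt N17788 D33715) (tt N17737 (iv F156495)) (tt N17787 (iv F156713)) (tt N13840 (iv D31797)) (tt N17789 D33716))
theorem Q15872 : ∀ i, i < 15872 → P i := stepQ 15871 Q15871 (allL N15871 (tt N14826 F147973) (tt N17670 (iv F156208)) (tt N17785 (iv F156702)) (tt N13843 F147974) (tt N17786 (iv F156708)) (tt N13862 F147975) (tt N13841 (iv D31798)) (tt N17738 (iv F156500)) (tt N17790 D33717) (tt N14336 F147976))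
theorem Q15873 : ∀ i, i < 15873 → P i := stepQ 15872 Q15872 (allL N15872 (tt N14768 F147977) (tt N17671 (iv F156212)) (tt N14741 F147978) (tt N13844 F147979) (tt N17787 (iv F156712)) (tt N13870 F147980) (tt N17790 (iv F156725)) (tt N13842 F147981) (tt N13841 (iv D31799)) (tt N17791 D33718))
theorem Q15874 : ∀ i, i < 15874 → P i := stepQ 15873 Q15873 (allL N15873 (tt N14759 F147982) (tt N17672 (iv F156216)) (tt N14737 F147983) (tt N13845 F147984) (tt N17789 (iv F156720)) (tt N13871 F147985) (tt N17378 (iv F154683)) (tt N17791 (iv F156730)) (tt N14338 F147986) (tt N13842 (iv D31800)))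
theorem Q15875 : ∀ i, i < 15875 → P i := stepQ 15874 Q15874 (allL N15874 (tt N14827 F147987) (tt N17673 (iv F156220)) (tt N13941 F147988) (tt N17790 (iv F156724)) (tt N17781 (iv F156682)) (tt N17792 D33719) (tt N13844 F147989) (tt N17740 (iv F156510)) (tt N13843 (iv D31801)) (tt N17793 D33720))
theorem Q15876 : ∀ i, i < 15876 → P i := stepQ 15875 Q15875 (allL N15875 (tt N14828 F147990) (tt N17674 (iv F156223)) (tt N13942 F147991) (tt N17791 (iv F156728)) (tt N17782 (iv F156686)) (tt N13873 F147992) (tt N17793 (iv F156739)) (tt N13845 F147993) (tt N14340 F147994) (tt N13844 (iv D31802)))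
theorem Q15877 : ∀ i, i < 15877 → P i := stepQ 15876 Q15876 (allL N15876 (tt N14831 F147995) (tt N14851 F147996) (tt N13848 F147997) (tt N17794 D33721) (tt N13846 (iv D31803)) (tt N14770 F147998) (tt N17741 (iv F156515)) (tt N17795 D33722) (tt N17796 D33723) (tt N13857 F147999))
theorem Q15878 : ∀ i, i < 15878 → P i := stepQ 15877 Q15877 (allL N15877 (tt N14832 F148000) (tt N14862 F148001) (tt N13849 F148002) (tt N13944 F148003) (tt N17795 (iv F156749)) (tt N13847 F148004) (tt N17797 D33724) (tt N13846 (iv D31804)) (tt N17798 D33725) (tt N13858 F148005))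
theorem Q15879 : ∀ i, i < 15879 → P i := stepQ 15878 Q15878 (allL N15878 (tt N14833 F148006) (tt N14350 F148007) (tt N13850 F148008) (tt N13945 F148009) (tt N17796 (iv F156755)) (tt N14051 F148010) (tt N17743 (iv F156528)) (tt N17798 (iv F156768)) (tt N13846 (iv D31805)) (tt N17799 D33726))
theorem Q15880 : ∀ i, i < 15880 → P i := stepQ 15879 Q15879 (allL N15879 (tt N14834 F148011) (tt N17678 (iv F156241)) (tt N17795 (iv F156748)) (tt N17408 (iv F154849)) (tt N13849 F148012) (tt N14825 F148013) (tt N17800 D33727) (tt N13848 (iv D31806)) (tt N17801 D33728) (tt N13860 F148014))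
theorem Q15881 : ∀ i, i < 15881 → P i := stepQ 15880 Q15880 (allL N15880 (tt N14835 F148015) (tt N17679 (iv F156245)) (tt N17796 (iv F156754)) (tt N17409 (iv F154854)) (tt N13850 F148016) (tt N17802 D33729) (tt N17745 (iv F156534)) (tt N17801 (iv F156780)) (tt N13848 (iv D31807)) (tt N17803 D33730))
theorem Q15882 : ∀ i, i < 15882 → P i := stepQ 15881 Q15881 (allL N15881 (tt N14836 F148017) (tt N17680 (iv F156247)) (tt N17797 (iv F156759)) (tt N13851 F148018) (tt N17800 (iv F156776)) (tt N14336 F148019) (tt N13849 (iv D31808)) (tt N17746 (iv F156538)) (tt N17804 D33731) (tt N13862 F148020))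
theorem Q15883 : ∀ i, i < 15883 → P i := stepQ 15882 Q15882 (allL N15882 (tt N14837 F148021) (tt N17681 (iv F156251)) (tt N17798 (iv F156765)) (tt N13852 F148022) (tt N17801 (iv F156779)) (tt N14055 F148023) (tt N17804 (iv F156790)) (tt N13850 F148024) (tt N13849 (iv D31809)) (tt N17805 D33732))
theorem Q15884 : ∀ i, i < 15884 → P i := stepQ 15883 Q15883 (allL N15883 (tt N14838 F148025) (tt N17682 (iv F156256)) (tt N17799 (iv F156771)) (tt N13853 F148026) (tt N17803 (iv F156786)) (tt N14056 F148027) (tt N17748 (iv F156547)) (tt N17805 (iv F156794)) (tt N13864 F148028) (tt N13850 (iv D31810)))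
theorem Q15885 : ∀ i, i < 15885 → P i := stepQ 15884 Q15884 (allL N15884 (tt N14839 F148029) (tt N17683 (iv F156260)) (tt N13951 F148030) (tt N17804 (iv F156789)) (tt N17413 (iv F154869)) (tt N17806 D33733) (tt N13852 F148031) (tt N17749 (iv F156552)) (tt N13851 (iv D31811)) (tt N17807 D33734))
theorem Q15886 : ∀ i, i < 15886 → P i := stepQ 15885 Q15885 (allL N15885 (tt N14840 F148032) (tt N17684 (iv F156264)) (tt N13952 F148033) (tt N17805 (iv F156792)) (tt N17414 (iv F154873)) (tt N14058 F148034) (tt N17807 (iv F156802)) (tt N13853 F148035) (tt N13866 F148036) (tt N13852 (iv D31812)))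
theorem Q15887 : ∀ i, i < 15887 → P i := stepQ 15886 Q15886 (allL N15886 (tt N13855 F148037) (tt N14186 F148038) (tt N17685 (iv F156270)) (tt N13892 F148039) (tt N17808 D33735) (tt N13854 (iv D31813)) (tt N17751 (iv F156561)) (tt N17717 (iv F156413)) (tt N17809 D33736) (tt N13885 F148040))
theorem Q15888 : ∀ i, i < 15888 → P i := stepQ 15887 Q15887 (allL N15887 (tt N17808 (iv F156804)) (tt N13857 F148041) (tt N17687 (iv F156281)) (tt N17810 D33737) (tt N13855 (iv D31814)) (tt N14852 F148042) (tt N17753 (iv F156571)) (tt N17811 D33738) (tt N17812 D33739) (tt N14851 F148043))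
theorem Q15889 : ∀ i, i < 15889 → P i := stepQ 15888 Q15888 (allL N15888 (tt N17717 (iv F156410)) (tt N13858 F148044) (tt N17688 (iv F156285)) (tt N13954 F148045) (tt N17811 (iv F156818)) (tt N13856 F148046) (tt N17813 D33740) (tt N13855 (iv D31815)) (tt N17814 D33741) (tt N14862 F148047))
theorem Q15890 : ∀ i, i < 15890 → P i := stepQ 15889 Q15889 (allL N15889 (tt N17809 (iv F156808)) (tt N13859 F148048) (tt N17689 (iv F156290)) (tt N13955 F148049) (tt N17812 (iv F156822)) (tt N13877 F148050) (tt N17755 (iv F156581)) (tt N17814 (iv F156829)) (tt N13855 (iv D31816)) (tt N17815 D33742))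
theorem Q15891 : ∀ i, i < 15891 → P i := stepQ 15890 Q15890 (allL N15890 (tt N14843 F148051) (tt N17810 (iv F156813)) (tt N17420 (iv F154900)) (tt N13857 (iv D31817)) (tt N13956 F148052) (tt N17211 (iv F153697)) (tt N17756 (iv F156584)) (tt N17816 D33743) (tt N17817 D33744) (tt N17794 (iv F156745)))
theorem Q15892 : ∀ i, i < 15892 → P i := stepQ 15891 Q15891 (allL N15891 (tt N14844 F148053) (tt N17811 (iv F156817)) (tt N13860 F148054) (tt N17816 (iv F156835)) (tt N13858 F148055) (tt N17212 (iv F153703)) (tt N17818 D33745) (tt N13857 (iv D31818)) (tt N17819 D33746) (tt N17795 (iv F156751)))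
theorem Q15893 : ∀ i, i < 15893 → P i := stepQ 15892 Q15892 (allL N15892 (tt N14845 F148056) (tt N17812 (iv F156821)) (tt N13861 F148057) (tt N17817 (iv F156838)) (tt N13859 F148058) (tt N17820 D33747) (tt N17758 (iv F156591)) (tt N17819 (iv F156846)) (tt N13857 (iv D31819)) (tt N17821 D33748))
theorem Q15894 : ∀ i, i < 15894 → P i := stepQ 15893 Q15893 (allL N15893 (tt N14846 F148059) (tt N17813 (iv F156823)) (tt N13862 F148060) (tt N13959 F148061) (tt N17818 (iv F156842)) (tt N17785 (iv F156704)) (tt N13858 (iv D31820)) (tt N17759 (iv F156595)) (tt N17822 D33749) (tt N17797 (iv F156762)))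
theorem Q15895 : ∀ i, i < 15895 → P i := stepQ 15894 Q15894 (allL N15894 (tt N14847 F148062) (tt N17814 (iv F156826)) (tt N13863 F148063) (tt N13960 F148064) (tt N17819 (iv F156845)) (tt N13881 F148065) (tt N17822 (iv F156856)) (tt N13859 F148066) (tt N13858 (iv D31821)) (tt N17823 D33750))
theorem Q15896 : ∀ i, i < 15896 → P i := stepQ 15895 Q15895 (allL N15895 (tt N14848 F148067) (tt N17815 (iv F156830)) (tt N13864 F148068) (tt N13961 F148069) (tt N17821 (iv F156852)) (tt N13882 F148070) (tt N17761 (iv F156605)) (tt N17823 (iv F156861)) (tt N17799 (iv F156774)) (tt N13859 (iv D31822)))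
theorem Q15897 : ∀ i, i < 15897 → P i := stepQ 15896 Q15896 (allL N15896 (tt N14849 F148071) (tt N17696 (iv F156308)) (tt N17818 (iv F156841)) (tt N17426 (iv F154921)) (tt N13862 F148072) (tt N17824 D33751) (tt N13860 (iv D31823)) (tt N17762 (iv F156608)) (tt N17825 D33752) (tt N17800 (iv F156777)))
theorem Q15898 : ∀ i, i < 15898 → P i := stepQ 15897 Q15897 (allL N15897 (tt N14850 F148073) (tt N17697 (iv F156310)) (tt N17819 (iv F156844)) (tt N17427 (iv F154924)) (tt N13863 F148074) (tt N17826 D33753) (tt N17825 (iv F156865)) (tt N13861 F148075) (tt N13860 (iv D31824)) (tt N17827 D33754))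
theorem Q15899 : ∀ i, i < 15899 → P i := stepQ 15898 Q15898 (allL N15898 (tt N14851 F148076) (tt N17698 (iv F156314)) (tt N17820 (iv F156848)) (tt N17428 (iv F154928)) (tt N13885 F148077) (tt N13861 (iv D31825)) (tt N17828 D33755) (tt N17826 (iv F156868)) (tt N17218 (iv F153731)) (tt N17808 (iv F156807)))
theorem Q15900 : ∀ i, i < 15900 → P i := stepQ 15899 Q15899 (allL N15899 (tt N14852 F148078) (tt N17699 (iv F156318)) (tt N17821 (iv F156851)) (tt N17429 (iv F154931)) (tt N13864 F148079) (tt N17808 (iv F156806)) (tt N17765 (iv F156616)) (tt N17827 (iv F156871)) (tt N17803 (iv F156787)) (tt N13861 (iv D31826)))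
theorem Q15901 : ∀ i, i < 15901 → P i := stepQ 15900 Q15900 (allL N15900 (tt N14853 F148080) (tt N17700 (iv F156321)) (tt N17822 (iv F156854)) (tt N13865 F148081) (tt N17825 (iv F156864)) (tt N17829 D33756) (tt N13863 F148082) (tt N17766 (iv F156620)) (tt N13862 (iv D31827)) (tt N17830 D33757))
theorem Q15902 : ∀ i, i < 15902 → P i := stepQ 15901 Q15901 (allL N15901 (tt N14854 F148083) (tt N17701 (iv F156325)) (tt N17823 (iv F156858)) (tt N13866 F148084) (tt N17827 (iv F156870)) (tt N13887 F148085) (tt N17830 (iv F156879)) (tt N13864 F148086) (tt N17805 (iv F156795)) (tt N13863 (iv D31828)))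
theorem Q15903 : ∀ i, i < 15903 → P i := stepQ 15902 Q15902 (allL N15902 (tt N14855 F148087) (tt N17702 (iv F156330)) (tt N13967 F148088) (tt N17829 (iv F156875)) (tt N17831 D33758) (tt N13865 (iv D31829)) (tt N13888 F148089) (tt N17768 (iv F156628)) (tt N17792 (iv F156736)) (tt N17718 (iv F156419)))
theorem Q15904 : ∀ i, i < 15904 → P i := stepQ 15903 Q15903 (allL N15903 (tt N14856 F148090) (tt N17703 (iv F156335)) (tt N13968 F148091) (tt N17830 (iv F156878)) (tt N17433 (iv F154945)) (tt N17718 (iv F156418)) (tt N13866 F148092) (tt N17769 (iv F156633)) (tt N17807 (iv F156803)) (tt N13865 (iv D31830)))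
theorem Q15905 : ∀ i, i < 15905 → P i := stepQ 15904 Q15904 (allL N15904 (tt N14028 F148093) (tt N17704 (iv F156340)) (tt N14008 F148094) (tt N15904 F148095) (tt N13869 F148096) (tt N17832 D33759) (tt N13867 (iv D31831)) (tt N14006 F148097) (tt N17610 (iv F155891)) (tt N14013 F148098))
theorem Q15906 : ∀ i, i < 15906 → P i := stepQ 15905 Q15905 (allL N15905 (tt N14297 F148099) (tt N17705 (iv F156347)) (tt N14276 F148100) (tt N15905 F148101) (tt N13870 F148102) (tt N17833 D33760) (tt N17610 (iv F155890)) (tt N13868 F148103) (tt N13867 (iv D31832)) (tt N17601 (iv F155837)))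
theorem Q15907 : ∀ i, i < 15907 → P i := stepQ 15906 Q15906 (allL N15906 (tt N14296 F148104) (tt N17706 (iv F156351)) (tt N14275 F148105) (tt N15906 F148106) (tt N17788 (iv F156716)) (tt N13868 (iv D31833)) (tt N17658 (iv F156148)) (tt N17833 (iv F156894)) (tt N14976 F148107) (tt N17600 (iv F155830)))
theorem Q15908 : ∀ i, i < 15908 → P i := stepQ 15907 Q15907 (allL N15907 (tt N14751 F148108) (tt N17707 (iv F156355)) (tt N14227 F148109) (tt N13872 F148110) (tt N17610 (iv F155889)) (tt N17834 D33761) (tt N13870 F148111) (tt N14179 F148112) (tt N13869 (iv D31834)) (tt N17151 (iv F153337)))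
theorem Q15909 : ∀ i, i < 15909 → P i := stepQ 15908 Q15908 (allL N15908 (tt N14760 F148113) (tt N17708 (iv F156359)) (tt N14738 F148114) (tt N13873 F148115) (tt N17601 (iv F155834)) (tt N17791 (iv F156729)) (tt N17151 (iv F153335)) (tt N13871 F148116) (tt N14068 F148117) (tt N13870 (iv D31835)))
theorem Q15910 : ∀ i, i < 15910 → P i := stepQ 15909 Q15909 (allL N15909 (tt N14857 F148118) (tt N17709 (iv F156364)) (tt N13969 F148119) (tt N17834 (iv F156898)) (tt N17835 D33762) (tt N13872 (iv D31836)) (tt N17792 (iv F156734)) (tt N14180 F148120) (tt N13888 F148121) (tt N17836 D33763))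
theorem Q15911 : ∀ i, i < 15911 → P i := stepQ 15910 Q15910 (allL N15910 (tt N14858 F148122) (tt N17288 (iv F154148)) (tt N13897 F148123) (tt N17151 (iv F153333)) (tt N15910 F148124) (tt N17836 (iv F156908)) (tt N13873 F148125) (tt N13895 F148126) (tt N14069 F148127) (tt N13872 (iv D31837)))
theorem Q15912 : ∀ i, i < 15912 → P i := stepQ 15911 Q15911 (allL N15911 (tt N13875 F148128) (tt N14006 F148129) (tt N14043 F148130) (tt N15911 F148131) (tt N13874 (iv D31838)) (tt N14064 F148132) (tt N14005 F148133) (tt N17704 (iv F156344)) (tt N17608 (iv F155879)) (tt N14011 F148134))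
theorem Q15913 : ∀ i, i < 15913 → P i := stepQ 15912 Q15912 (allL N15912 (tt N13877 F148135) (tt N14179 F148136) (tt N17599 (iv F155821)) (tt N13970 F148137) (tt N17608 (iv F155878)) (tt N17809 (iv F156811)) (tt N14138 F148138) (tt N17707 (iv F156358)) (tt N13874 (iv D31839)) (tt N17149 (iv F153325)))
theorem Q15914 : ∀ i, i < 15914 → P i := stepQ 15913 Q15913 (allL N15913 (tt N17704 (iv F156339)) (tt N13878 F148139) (tt N17710 (iv F156370)) (tt N15913 F148140) (tt N13876 F148141) (tt N14987 F148142) (tt N17629 (iv F155996)) (tt N13875 (iv D31840)) (tt N17837 D33764) (tt N14070 F148143))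
theorem Q15915 : ∀ i, i < 15915 → P i := stepQ 15914 Q15914 (allL N15914 (tt N17608 (iv F155874)) (tt N13879 F148144) (tt N17632 (iv F156012)) (tt N15914 F148145) (tt N13877 F148146) (tt N17838 D33765) (tt N14181 F148147) (tt N17837 (iv F156913)) (tt N13875 (iv D31841)) (tt N17616 (iv F155930)))
theorem Q15916 : ∀ i, i < 15916 → P i := stepQ 15915 Q15915 (allL N15915 (tt N17707 (iv F156354)) (tt N13881 F148148) (tt N17711 (iv F156377)) (tt N13971 F148149) (tt N17837 (iv F156912)) (tt N17814 (iv F156828)) (tt N17631 (iv F156008)) (tt N13877 F148150) (tt N13876 (iv D31842)) (tt N17839 D33766))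
theorem Q15917 : ∀ i, i < 15917 → P i := stepQ 15916 Q15916 (allL N15916 (tt N17149 (iv F153319)) (tt N13882 F148151) (tt N17630 (iv F156000)) (tt N13972 F148152) (tt N17616 (iv F155928)) (tt N17815 (iv F156832)) (tt N14182 F148153) (tt N17839 (iv F156919)) (tt N14072 F148154) (tt N13877 (iv D31843)))
theorem Q15918 : ∀ i, i < 15918 → P i := stepQ 15917 Q15917 (allL N15917 (tt N14304 F148155) (tt N17629 (iv F155991)) (tt N13883 F148156) (tt N15917 F148157) (tt N13880 F148158) (tt N17840 D33767) (tt N13878 (iv D31844)) (tt N14049 F148159) (tt N17714 (iv F156398)) (tt N14048 F148160))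
theorem Q15919 : ∀ i, i < 15919 → P i := stepQ 15918 Q15918 (allL N15918 (tt N14859 F148161) (tt N17837 (iv F156910)) (tt N13884 F148162) (tt N15918 F148163) (tt N13881 F148164) (tt N17841 D33768) (tt N17714 (iv F156396)) (tt N13879 F148165) (tt N13878 (iv D31845)) (tt N17686 (iv F156279)))
theorem Q15920 : ∀ i, i < 15920 → P i := stepQ 15919 Q15919 (allL N15919 (tt N14860 F148166) (tt N17838 (iv F156914)) (tt N13885 F148167) (tt N15919 F148168) (tt N17820 (iv F156849)) (tt N13879 (iv D31846)) (tt N17842 D33769) (tt N17841 (iv F156931)) (tt N17226 (iv F153771)) (tt N17685 (iv F156272)))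
theorem Q15921 : ∀ i, i < 15921 → P i := stepQ 15920 Q15920 (allL N15920 (tt N14766 F148169) (tt N17631 (iv F156006)) (tt N13886 F148170) (tt N13973 F148171) (tt N17714 (iv F156395)) (tt N17843 D33770) (tt N13881 F148172) (tt N14184 F148173) (tt N13880 (iv D31847)) (tt N17712 (iv F156386)))
theorem Q15922 : ∀ i, i < 15922 → P i := stepQ 15921 Q15921 (allL N15921 (tt N14861 F148174) (tt N17839 (iv F156917)) (tt N13887 F148175) (tt N13974 F148176) (tt N17686 (iv F156276)) (tt N17823 (iv F156860)) (tt N17712 (iv F156384)) (tt N13882 F148177) (tt N14073 F148178) (tt N13881 (iv D31848)))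
theorem Q15923 : ∀ i, i < 15923 → P i := stepQ 15922 Q15922 (allL N15922 (tt N14341 F148179) (tt N14066 F148180) (tt N17840 (iv F156923)) (tt N13889 F148181) (tt N17832 (iv F156887)) (tt N13883 (iv D31849)) (tt N17228 (iv F153784)) (tt N14039 F148182) (tt N17844 D33771) (tt N14038 F148183))
theorem Q15924 : ∀ i, i < 15924 → P i := stepQ 15923 Q15923 (allL N15923 (tt N14862 F148184) (tt N17715 (iv F156400)) (tt N17841 (iv F156929)) (tt N13890 F148185) (tt N17826 (iv F156867)) (tt N13884 (iv D31850)) (tt N17845 D33772) (tt N13885 F148186) (tt N17230 (iv F153795)) (tt N17717 (iv F156414)))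
theorem Q15925 : ∀ i, i < 15925 → P i := stepQ 15924 Q15924 (allL N15924 (tt N14863 F148187) (tt N17716 (iv F156405)) (tt N17842 (iv F156933)) (tt N13891 F148188) (tt N17828 (iv F156873)) (tt N14185 F148189) (tt N13885 (iv D31851)) (tt N17846 D33773) (tt N17232 (iv F153805)) (tt N17751 (iv F156563)))
theorem Q15926 : ∀ i, i < 15926 → P i := stepQ 15925 Q15925 (allL N15925 (tt N14842 F148190) (tt N17717 (iv F156411)) (tt N17843 (iv F156937)) (tt N13888 F148191) (tt N17847 D33774) (tt N13886 (iv D31852)) (tt N17829 (iv F156876)) (tt N14186 F148192) (tt N17834 (iv F156900)) (tt N17715 (iv F156403)))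
theorem Q15927 : ∀ i, i < 15927 → P i := stepQ 15926 Q15926 (allL N15926 (tt N14864 F148193) (tt N17461 (iv F155089)) (tt N13977 F148194) (tt N17848 D33775) (tt N13888 (iv D31853)) (tt N13893 F148195) (tt N17831 (iv F156882)) (tt N14187 F148196) (tt N17835 (iv F156905)) (tt N17333 (iv F154425)))
theorem Q15928 : ∀ i, i < 15928 → P i := stepQ 15927 Q15927 (allL N15927 (tt N14391 F148197) (tt N14058 F148198) (tt N15927 F148199) (tt N17844 (iv F156943)) (tt N15927 F148200) (tt N17684 (iv F156266)) (tt N17238 (iv F153833)) (tt N14034 F148201) (tt N13889 (iv D31854)) (tt N14033 F148202))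
theorem Q15929 : ∀ i, i < 15929 → P i := stepQ 15928 Q15928 (allL N15928 (tt N14866 F148203) (tt N17718 (iv F156416)) (tt N15928 F148204) (tt N17845 (iv F156947)) (tt N17460 (iv F155087)) (tt N17703 (iv F156337)) (tt N13890 (iv D31855)) (tt N17849 D33776) (tt N17241 (iv F153848)) (tt N17702 F156333))
theorem Q15930 : ∀ i, i < 15930 → P i := stepQ 15929 Q15929 (allL N15929 (tt N14867 F148205) (tt N17719 (iv F156421)) (tt N15929 F148206) (tt N17846 (iv F156949)) (tt N17462 (iv F155096)) (tt N14188 F148207) (tt N17849 (iv F156958)) (tt N13891 (iv D31856)) (tt N17243 (iv F153856)) (tt N17850 D33777))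
theorem Q15931 : ∀ i, i < 15931 → P i := stepQ 15930 Q15930 (allL N15930 (tt N13915 F148208) (tt N14178 F148209) (tt N15930 F148210) (tt N17751 (iv F156560)) (tt N17463 (iv F155101)) (tt N13914 F148211) (tt N13892 F148212) (tt N17850 (iv F156963)) (tt N14255 (iv F148213)) (tt N13891 (iv D31857)))
theorem Q15932 : ∀ i, i < 15932 → P i := stepQ 15931 Q15931 (allL N15931 (tt N13955 F148214) (tt N14180 F148215) (tt N15931 F148216) (tt N17809 (iv F156810)) (tt N17464 (iv F155108)) (tt N13970 F148217) (tt N14255 F148218) (tt N17709 (iv F156366)) (tt N13892 (iv D31858)) (tt N17245 (iv F153869)))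
theorem Q15933 : ∀ i, i < 15933 → P i := stepQ 15932 Q15932 (allL N15932 (tt N14868 F148219) (tt N17451 (iv F155048)) (tt N17435 (iv F154954)) (tt N13893 (iv D31859)) (tt N17329 (iv F154398)) (tt N17848 (iv F156954)) (tt N17465 (iv F155112)) (tt N14189 F148220) (tt N15932 F148221) (tt N17326 F154384))
theorem Q15934 : ∀ i, i < 15934 → P i := stepQ 15933 Q15933 (allL N15933 (tt N14869 F148222) (tt N17245 (iv F153865)) (tt N13896 F148223) (tt N17150 (iv F153328)) (tt N17508 (iv F155348)) (tt N13895 (iv D31860)) (tt N13929 F148224) (tt N17836 (iv F156909)) (tt N17191 (iv F153575)) (tt N14180 F148225))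
theorem Q15935 : ∀ i, i < 15935 → P i := stepQ 15934 Q15934 (allL N15934 (tt N14870 F148226) (tt N15934 F148227) (tt N17836 (iv F156907)) (tt N13898 F148228) (tt N17511 (iv F155368)) (tt N13897 F148229) (tt N17851 D33778) (tt N13896 (iv D31861)) (tt N17509 (iv F155357)) (tt N13969 F148230))
theorem Q15936 : ∀ i, i < 15936 → P i := stepQ 15935 Q15935 (allL N15935 (tt N14871 F148231) (tt N15935 F148232) (tt N17155 (iv F153356)) (tt N17851 (iv F156967)) (tt N13904 F148233) (tt N15190 F148234) (tt N13898 (iv D31862)) (tt N13934 F148235) (tt N17852 D33779) (tt N14253 F148236))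
theorem Q15937 : ∀ i, i < 15937 → P i := stepQ 15936 Q15936 (allL N15936 (tt N14872 F148237) (tt N15936 F148238) (tt N17156 (iv F153363)) (tt N17509 (iv F155354)) (tt N13905 F148239) (tt N14265 F148240) (tt N17852 (iv F156974)) (tt N13899 F148241) (tt N13898 (iv D31863)) (tt N17504 (iv F155327)))
theorem Q15938 : ∀ i, i < 15938 → P i := stepQ 15937 Q15937 (allL N15937 (tt N14127 F148242) (tt N13902 F148243) (tt N15937 F148244) (tt N17733 (iv F156474)) (tt N15937 F148245) (tt N17598 (iv F155816)) (tt N13916 F148246) (tt N13900 (iv D31864)) (tt N14099 F148247) (tt N14367 F148248))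
theorem Q15939 : ∀ i, i < 15939 → P i := stepQ 15938 Q15938 (allL N15938 (tt N14749 F148249) (tt N17598 (iv F155813)) (tt N13903 F148250) (tt N17735 (iv F156485)) (tt N17392 (iv F154773)) (tt N13902 F148251) (tt N17853 D33780) (tt N13901 (iv D31865)) (tt N14231 F148252) (tt N14369 F148253))
theorem Q15940 : ∀ i, i < 15940 → P i := stepQ 15939 Q15939 (allL N15939 (tt N14873 F148254) (tt N15939 F148255) (tt N17853 (iv F156977)) (tt N13904 F148256) (tt N17512 (iv F155374)) (tt N13922 F148257) (tt N13903 (iv D31866)) (tt N13940 F148258) (tt N14254 F148259) (tt N14372 F148260))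
theorem Q15941 : ∀ i, i < 15941 → P i := stepQ 15940 Q15940 (allL N15940 (tt N14874 F148261) (tt N15940 F148262) (tt N17740 (iv F156508)) (tt N14254 F148263) (tt N17852 (iv F156973)) (tt N14260 (iv F148266)) (tt N13905 F148264) (tt N13941 F148265) (tt N13904 (iv D31867)) (tt N17505 (iv F155334)))
theorem Q15942 : ∀ i, i < 15942 → P i := stepQ 15941 Q15941 (allL N15941 (tt N14877 F148267) (tt N14591 F148268) (tt N13908 F148269) (tt N17854 D33781) (tt N13906 (iv D31868)) (tt N15941 F148270) (tt N13943 F148271) (tt N17855 D33782) (tt N17856 D33783) (tt N13917 F148272))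
theorem Q15943 : ∀ i, i < 15943 → P i := stepQ 15942 Q15942 (allL N15942 (tt N14878 F148273) (tt N14867 F148274) (tt N13909 F148275) (tt N17742 (iv F156520)) (tt N17855 (iv F156990)) (tt N13907 F148276) (tt N17857 D33784) (tt N13906 (iv D31869)) (tt N17858 D33785) (tt N13918 F148277))
theorem Q15944 : ∀ i, i < 15944 → P i := stepQ 15943 Q15943 (allL N15943 (tt N14879 F148278) (tt N14360 F148279) (tt N13910 F148280) (tt N17743 (iv F156526)) (tt N17856 (iv F156996)) (tt N15943 F148281) (tt N13945 F148282) (tt N17858 (iv F157010)) (tt N13906 (iv D31870)) (tt N17859 D33786))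
theorem Q15945 : ∀ i, i < 15945 → P i := stepQ 15944 Q15944 (allL N15944 (tt N14880 F148283) (tt N15944 F148284) (tt N17855 (iv F156989)) (tt N17479 (iv F155192)) (tt N13909 F148285) (tt N15944 F148286) (tt N17860 D33787) (tt N13908 (iv D31871)) (tt N17861 D33788) (tt N13920 F148287))
theorem Q15946 : ∀ i, i < 15946 → P i := stepQ 15945 Q15945 (allL N15945 (tt N14881 F148288) (tt N15945 F148289) (tt N17856 (iv F156995)) (tt N15140 F148290) (tt N13910 F148291) (tt N15077 (iv F148293)) (tt N13947 F148292) (tt N17861 (iv F157027)) (tt N13908 (iv D31872)) (tt N15085 F148294))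
theorem Q15947 : ∀ i, i < 15947 → P i := stepQ 15946 Q15946 (allL N15946 (tt N14882 F148295) (tt N15946 F148296) (tt N17857 (iv F157002)) (tt N13911 F148297) (tt N17860 (iv F157020)) (tt N14372 F148298) (tt N13909 (iv D31873)) (tt N13948 F148299) (tt N17862 D33789) (tt N13922 F148300))
theorem Q15948 : ∀ i, i < 15948 → P i := stepQ 15947 Q15947 (allL N15947 (tt N14883 F148301) (tt N15947 F148302) (tt N17858 (iv F157008)) (tt N13912 F148303) (tt N17861 (iv F157026)) (tt N15947 F148304) (tt N17862 (iv F157033)) (tt N13910 F148305) (tt N13909 (iv D31874)) (tt N17863 D33790))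
theorem Q15949 : ∀ i, i < 15949 → P i := stepQ 15948 Q15948 (allL N15948 (tt N14884 F148306) (tt N15948 F148307) (tt N17859 (iv F157013)) (tt N13913 F148308) (tt N15085 F148309) (tt N15948 F148310) (tt N13950 F148311) (tt N17863 (iv F157040)) (tt N13924 F148312) (tt N13910 (iv D31875)))
theorem Q15950 : ∀ i, i < 15950 → P i := stepQ 15949 Q15949 (allL N15949 (tt N14885 F148313) (tt N15949 F148314) (tt N17749 (iv F156550)) (tt N17862 (iv F157032)) (tt N17482 (iv F155212)) (tt N17864 D33791) (tt N13912 F148315) (tt N13951 F148316) (tt N13911 (iv D31876)) (tt N17865 D33792))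
theorem Q15951 : ∀ i, i < 15951 → P i := stepQ 15950 Q15950 (allL N15950 (tt N14886 F148317) (tt N15950 F148318) (tt N17750 (iv F156554)) (tt N17863 (iv F157037)) (tt N17483 (iv F155218)) (tt N15950 F148319) (tt N17865 (iv F157049)) (tt N13913 F148320) (tt N13926 F148321) (tt N13912 (iv D31877)))
theorem Q15952 : ∀ i, i < 15952 → P i := stepQ 15951 Q15951 (allL N15951 (tt N13916 F148322) (tt N14168 F148323) (tt N15951 F148324) (tt N17752 (iv F156566)) (tt N15951 F148325) (tt N17850 (iv F156962)) (tt N14127 F148326) (tt N13914 (iv D31878)) (tt N14126 F148327) (tt N14188 F148328))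
theorem Q15953 : ∀ i, i < 15953 → P i := stepQ 15952 Q15952 (allL N15952 (tt N17463 (iv F155098)) (tt N13917 F148329) (tt N15952 F148330) (tt N17866 D33793) (tt N13915 (iv D31879)) (tt N15952 F148331) (tt N13953 F148332) (tt N17867 D33794) (tt N17868 D33795) (tt N14591 F148333))
theorem Q15954 : ∀ i, i < 15954 → P i := stepQ 15953 Q15953 (allL N15953 (tt N17850 (iv F156959)) (tt N13918 F148334) (tt N15953 F148335) (tt N17754 (iv F156574)) (tt N17867 (iv F157058)) (tt N13916 F148336) (tt N17869 D33796) (tt N13915 (iv D31880)) (tt N17870 D33797) (tt N14867 F148337))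
theorem Q15955 : ∀ i, i < 15955 → P i := stepQ 15954 Q15954 (allL N15954 (tt N14255 F148338) (tt N13919 F148339) (tt N15954 F148340) (tt N17755 (iv F156579)) (tt N17868 (iv F157064)) (tt N14191 F148341) (tt N13955 F148342) (tt N17870 (iv F157075)) (tt N13915 (iv D31881)) (tt N17871 D33798))
theorem Q15956 : ∀ i, i < 15956 → P i := stepQ 15955 Q15955 (allL N15955 (tt N14889 F148343) (tt N17866 (iv F157052)) (tt N17489 (iv F155243)) (tt N13917 (iv D31882)) (tt N17756 (iv F156583)) (tt N15955 F148344) (tt N13956 F148345) (tt N17872 D33799) (tt N17873 D33800) (tt N17854 (iv F156986)))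
theorem Q15957 : ∀ i, i < 15957 → P i := stepQ 15956 Q15956 (allL N15956 (tt N14890 F148346) (tt N17867 (iv F157056)) (tt N13920 F148347) (tt N17872 (iv F157083)) (tt N13918 F148348) (tt N15956 F148349) (tt N17874 D33801) (tt N13917 (iv D31883)) (tt N17875 D33802) (tt N17855 (iv F156992)))
theorem Q15958 : ∀ i, i < 15958 → P i := stepQ 15957 Q15957 (allL N15957 (tt N14891 F148350) (tt N17868 (iv F157062)) (tt N13921 F148351) (tt N17873 (iv F157086)) (tt N13919 F148352) (tt N17144 (iv F153287)) (tt N13958 F148353) (tt N17875 (iv F157095)) (tt N13917 (iv D31884)) (tt N17876 D33803))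
theorem Q15959 : ∀ i, i < 15959 → P i := stepQ 15958 Q15958 (allL N15958 (tt N14892 F148354) (tt N17869 (iv F157067)) (tt N13922 F148355) (tt N17759 (iv F156594)) (tt N17874 (iv F157090)) (tt N17853 (iv F156978)) (tt N13918 (iv D31885)) (tt N13959 F148356) (tt N17877 D33804) (tt N17857 (iv F157005)))
theorem Q15960 : ∀ i, i < 15960 → P i := stepQ 15959 Q15959 (allL N15959 (tt N14893 F148357) (tt N17870 (iv F157072)) (tt N13923 F148358) (tt N17760 (iv F156598)) (tt N17875 (iv F157094)) (tt N14192 F148359) (tt N17877 (iv F157106)) (tt N13919 F148360) (tt N13918 (iv D31886)) (tt N17878 D33805))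
theorem Q15961 : ∀ i, i < 15961 → P i := stepQ 15960 Q15960 (allL N15960 (tt N14894 F148361) (tt N17871 (iv F157077)) (tt N13924 F148362) (tt N17761 (iv F156603)) (tt N17876 (iv F157099)) (tt N14193 F148363) (tt N13961 F148364) (tt N17878 (iv F157111)) (tt N17859 (iv F157017)) (tt N13919 (iv D31887)))
theorem Q15962 : ∀ i, i < 15962 → P i := stepQ 15961 Q15961 (allL N15961 (tt N14895 F148365) (tt N15961 F148366) (tt N17874 (iv F157089)) (tt N17495 (iv F155271)) (tt N13922 F148367) (tt N17879 D33806) (tt N13920 (iv D31888)) (tt N13962 F148368) (tt N17880 D33807) (tt N17860 (iv F157022)))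
theorem Q15963 : ∀ i, i < 15963 → P i := stepQ 15962 Q15962 (allL N15962 (tt N14896 F148369) (tt N15962 F148370) (tt N17875 (iv F157093)) (tt N17496 (iv F155276)) (tt N13923 F148371) (tt N14263 (iv F148373)) (tt N17880 (iv F157119)) (tt N13921 F148372) (tt N13920 (iv D31889)) (tt N17881 D33808))
theorem Q15964 : ∀ i, i < 15964 → P i := stepQ 15963 Q15963 (allL N15963 (tt N14897 F148374) (tt N15963 F148375) (tt N17144 (iv F153286)) (tt N15167 F148376) (tt N14194 F148377) (tt N13921 (iv D31890)) (tt N15963 F148378) (tt N14263 F148379) (tt N15963 F148380) (tt N15104 (iv F148381)))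
theorem Q15965 : ∀ i, i < 15965 → P i := stepQ 15964 Q15964 (allL N15964 (tt N14898 F148382) (tt N15964 F148383) (tt N17876 (iv F157098)) (tt N15150 F148384) (tt N13924 F148385) (tt N15104 F148386) (tt N13964 F148387) (tt N17881 (iv F157127)) (tt N15085 F148388) (tt N13921 (iv D31891)))
theorem Q15966 : ∀ i, i < 15966 → P i := stepQ 15965 Q15965 (allL N15965 (tt N14899 F148389) (tt N15965 F148390) (tt N17877 (iv F157104)) (tt N13925 F148391) (tt N17880 (iv F157118)) (tt N14261 F148392) (tt N13923 F148393) (tt N13965 F148394) (tt N13922 (iv D31892)) (tt N17882 D33809))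
theorem Q15967 : ∀ i, i < 15967 → P i := stepQ 15966 Q15966 (allL N15966 (tt N14900 F148395) (tt N15966 F148396) (tt N17878 (iv F157109)) (tt N13926 F148397) (tt N17881 (iv F157125)) (tt N14195 F148398) (tt N17882 (iv F157133)) (tt N13924 F148399) (tt N17863 (iv F157041)) (tt N13923 (iv D31893)))
theorem Q15968 : ∀ i, i < 15968 → P i := stepQ 15967 Q15967 (allL N15967 (tt N14901 F148400) (tt N15967 F148401) (tt N17768 (iv F156626)) (tt N14261 F148402) (tt N17883 D33810) (tt N13925 (iv D31894)) (tt N14196 F148403) (tt N13967 F148404) (tt N14260 F148405) (tt N17884 D33811))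
theorem Q15969 : ∀ i, i < 15969 → P i := stepQ 15968 Q15968 (allL N15968 (tt N14902 F148406) (tt N15968 F148407) (tt N17769 (iv F156631)) (tt N17882 (iv F157131)) (tt N17500 (iv F155299)) (tt N17884 (iv F157144)) (tt N13926 F148408) (tt N13968 F148409) (tt N17865 (iv F157051)) (tt N13925 (iv D31895)))
theorem Q15970 : ∀ i, i < 15970 → P i := stepQ 15969 Q15969 (allL N15969 (tt N13928 F148410) (tt N14193 F148411) (tt N15969 F148412) (tt N17770 (iv F156636)) (tt N13979 F148413) (tt N17871 (iv F157079)) (tt N13927 (iv D31896)) (tt N17885 D33812) (tt N15969 F148414) (tt N14191 F148415))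
theorem Q15971 : ∀ i, i < 15971 → P i := stepQ 15970 Q15970 (allL N15970 (tt N17871 (iv F157076)) (tt N13929 F148416) (tt N15970 F148417) (tt N17771 (iv F156641)) (tt N17886 D33813) (tt N13928 (iv D31897)) (tt N17245 (iv F153868)) (tt N17887 D33814) (tt N17244 (iv F153863)) (tt N14255 F148418))
theorem Q15972 : ∀ i, i < 15972 → P i := stepQ 15971 Q15971 (allL N15971 (tt N17885 (iv F157147)) (tt N13930 F148419) (tt N15971 F148420) (tt N17772 (iv F156644)) (tt N13981 F148421) (tt N17887 (iv F157161)) (tt N17502 (iv F155313)) (tt N13928 (iv D31898)) (tt N15971 F148422) (tt N14256 F148423))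
theorem Q15973 : ∀ i, i < 15973 → P i := stepQ 15972 Q15972 (allL N15972 (tt N14904 F148424) (tt N17886 (iv F157154)) (tt N13931 F148425) (tt N17888 D33815) (tt N13929 (iv D31899)) (tt N13982 F148426) (tt N17508 (iv F155350)) (tt N17889 D33816) (tt N15025 (iv F148428)) (tt N14257 F148427))
theorem Q15974 : ∀ i, i < 15974 → P i := stepQ 15973 Q15973 (allL N15973 (tt N14905 F148429) (tt N17887 (iv F157159)) (tt N13932 F148430) (tt N17774 (iv F156654)) (tt N17889 (iv F157170)) (tt N13930 F148431) (tt N17890 D33817) (tt N13929 (iv D31900)) (tt N17891 D33818) (tt N14258 F148432))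
theorem Q15975 : ∀ i, i < 15975 → P i := stepQ 15974 Q15974 (allL N15974 (tt N14906 F148433) (tt N17244 (iv F153858)) (tt N13933 F148434) (tt N17775 (iv F156659)) (tt N15025 F148435) (tt N15974 F148436) (tt N17191 (iv F153574)) (tt N17891 (iv F157181)) (tt N13929 (iv D31901)) (tt N17190 F153568))
theorem Q15976 : ∀ i, i < 15976 → P i := stepQ 15975 Q15975 (allL N15975 (tt N14907 F148437) (tt N15975 F148438) (tt N17889 (iv F157169)) (tt N13939 F148439) (tt N13932 F148440) (tt N13985 F148441) (tt N17892 D33819) (tt N13931 (iv D31902)) (tt N15027 F148442) (tt N14259 F148443))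
theorem Q15977 : ∀ i, i < 15977 → P i := stepQ 15976 Q15976 (allL N15976 (tt N14908 F148444) (tt N15976 F148445) (tt N17890 (iv F157175)) (tt N13934 F148446) (tt N17892 (iv F157185)) (tt N17505 (iv F155331)) (tt N13932 (iv D31903)) (tt N17851 (iv F156969)) (tt N17893 D33820) (tt N14260 F148447))
theorem Q15978 : ∀ i, i < 15978 → P i := stepQ 15977 Q15977 (allL N15977 (tt N14909 F148448) (tt N15977 F148449) (tt N17891 (iv F157178)) (tt N13935 F148450) (tt N15027 F148451) (tt N15977 F148452) (tt N17893 (iv F157192)) (tt N13933 F148453) (tt N13932 (iv D31904)) (tt N17469 (iv F155138)))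
theorem Q15979 : ∀ i, i < 15979 → P i := stepQ 15978 Q15978 (allL N15978 (tt N14910 F148454) (tt N15978 F148455) (tt N17781 (iv F156681)) (tt N17893 (iv F157190)) (tt N13941 F148456) (tt N17894 D33821) (tt N13935 F148457) (tt N17852 (iv F156975)) (tt N13934 (iv D31905)) (tt N17895 D33822))
theorem Q15980 : ∀ i, i < 15980 → P i := stepQ 15979 Q15979 (allL N15979 (tt N14911 F148458) (tt N15979 F148459) (tt N17782 (iv F156685)) (tt N17469 (iv F155134)) (tt N13942 F148460) (tt N15979 F148461) (tt N17895 (iv F157199)) (tt N13936 F148462) (tt N14262 F148463) (tt N13935 (iv D31906)))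
theorem Q15981 : ∀ i, i < 15981 → P i := stepQ 15980 Q15980 (allL N15980 (tt N14482 F148464) (tt N17297 (iv F154209)) (tt N17888 (iv F157164)) (tt N13937 (iv D31907)) (tt N17783 (iv F156691)) (tt N13989 F148465) (tt N17390 (iv F154761)) (tt N17896 D33823) (tt N14447 F148466) (tt N14379 F148467))
theorem Q15982 : ∀ i, i < 15982 → P i := stepQ 15981 Q15981 (allL N15981 (tt N14484 F148468) (tt N17299 (iv F154223)) (tt N13939 F148469) (tt N17896 (iv F157202)) (tt N13938 F148470) (tt N13990 F148471) (tt N17897 D33824) (tt N13937 (iv D31908)) (tt N14449 F148472) (tt N14380 F148473))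
theorem Q15983 : ∀ i, i < 15983 → P i := stepQ 15982 Q15982 (allL N15982 (tt N14773 F148474) (tt N17626 (iv F155969)) (tt N13940 F148475) (tt N17785 (iv F156703)) (tt N17897 (iv F157208)) (tt N13959 F148476) (tt N13938 (iv D31909)) (tt N17853 (iv F156979)) (tt N14742 F148477) (tt N14382 F148478))
theorem Q15984 : ∀ i, i < 15984 → P i := stepQ 15983 Q15983 (allL N15983 (tt N14912 F148479) (tt N15983 F148480) (tt N17897 (iv F157207)) (tt N17892 (iv F157184)) (tt N13940 F148481) (tt N17898 D33825) (tt N13939 (iv D31910)) (tt N17512 (iv F155376)) (tt N15028 F148482) (tt N14385 F148483))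
theorem Q15985 : ∀ i, i < 15985 → P i := stepQ 15984 Q15984 (allL N15984 (tt N14913 F148484) (tt N15984 F148485) (tt N17792 (iv F156733)) (tt N14253 F148486) (tt N17899 D33826) (tt N13941 (iv D31911)) (tt N13969 F148487) (tt N14260 F148488) (tt N13967 F148489) (tt N17851 (iv F156970)))
theorem Q15986 : ∀ i, i < 15986 → P i := stepQ 15985 Q15985 (allL N15985 (tt N14914 F148490) (tt N15985 F148491) (tt N17793 (iv F156738)) (tt N15190 F148492) (tt N17895 (iv F157198)) (tt N17851 (iv F156968)) (tt N13942 F148493) (tt N17505 (iv F155332)) (tt N14390 F148494) (tt N13941 (iv D31912)))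
theorem Q15987 : ∀ i, i < 15987 → P i := stepQ 15986 Q15986 (allL N15986 (tt N14915 F148495) (tt N14583 F148496) (tt N17523 (iv F155425)) (tt N13943 (iv D31913)) (tt N17794 (iv F156743)) (tt N13993 F148497) (tt N17854 (iv F156985)) (tt N17900 D33827) (tt N17901 D33828) (tt N13956 F148498))
theorem Q15988 : ∀ i, i < 15988 → P i := stepQ 15987 Q15987 (allL N15987 (tt N14916 F148499) (tt N14590 F148500) (tt N13946 F148501) (tt N17900 (iv F157224)) (tt N13944 F148502) (tt N13994 F148503) (tt N17902 D33829) (tt N13943 (iv D31914)) (tt N17903 D33830) (tt N13957 F148504))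
theorem Q15989 : ∀ i, i < 15989 → P i := stepQ 15988 Q15988 (allL N15988 (tt N14641 F148505) (tt N14248 F148506) (tt N13947 F148507) (tt N17901 (iv F157229)) (tt N13945 F148508) (tt N14221 F148509) (tt N17856 (iv F156997)) (tt N17903 (iv F157241)) (tt N13943 (iv D31915)) (tt N17904 D33831))
theorem Q15990 : ∀ i, i < 15990 → P i := stepQ 15989 Q15989 (allL N15989 (tt N14917 F148510) (tt N14866 F148511) (tt N13948 F148512) (tt N17797 (iv F156760)) (tt N17902 (iv F157234)) (tt N14382 F148513) (tt N13944 (iv D31916)) (tt N17857 (iv F157004)) (tt N17905 D33832) (tt N13959 F148514))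
theorem Q15991 : ∀ i, i < 15991 → P i := stepQ 15990 Q15990 (allL N15990 (tt N14918 F148515) (tt N14358 F148516) (tt N13949 F148517) (tt N17798 (iv F156766)) (tt N17903 (iv F157239)) (tt N14075 F148518) (tt N17905 (iv F157252)) (tt N13945 F148519) (tt N13944 (iv D31917)) (tt N17906 D33833))
theorem Q15992 : ∀ i, i < 15992 → P i := stepQ 15991 Q15991 (allL N15991 (tt N14919 F148520) (tt N14361 F148521) (tt N13950 F148522) (tt N17799 (iv F156772)) (tt N17904 (iv F157245)) (tt N14076 F148523) (tt N17859 (iv F157016)) (tt N17906 (iv F157257)) (tt N13961 F148524) (tt N13945 (iv D31918)))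
theorem Q15993 : ∀ i, i < 15993 → P i := stepQ 15992 Q15992 (allL N15992 (tt N14920 F148525) (tt N15992 F148526) (tt N17902 (iv F157233)) (tt N17529 (iv F155454)) (tt N13948 F148527) (tt N17907 D33834) (tt N13946 (iv D31919)) (tt N17860 (iv F157021)) (tt N17908 D33835) (tt N13962 F148528))
theorem Q15994 : ∀ i, i < 15994 → P i := stepQ 15993 Q15993 (allL N15993 (tt N14921 F148529) (tt N15993 F148530) (tt N17903 (iv F157238)) (tt N17530 (iv F155459)) (tt N13949 F148531) (tt N15134 F148532) (tt N17908 (iv F157267)) (tt N13947 F148533) (tt N13946 (iv D31920)) (tt N17909 D33836))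
theorem Q15995 : ∀ i, i < 15995 → P i := stepQ 15994 Q15994 (allL N15994 (tt N14922 F148534) (tt N15994 F148535) (tt N17904 (iv F157244)) (tt N15116 F148536) (tt N13950 F148537) (tt N15061 F148538) (tt N15085 F148539) (tt N17909 (iv F157274)) (tt N13964 F148540) (tt N13947 (iv D31921)))
theorem Q15996 : ∀ i, i < 15996 → P i := stepQ 15995 Q15995 (allL N15995 (tt N14923 F148541) (tt N15995 F148542) (tt N17905 (iv F157251)) (tt N13951 F148543) (tt N17908 (iv F157266)) (tt N17910 D33837) (tt N13949 F148544) (tt N17862 (iv F157034)) (tt N13948 (iv D31922)) (tt N17911 D33838))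
theorem Q15997 : ∀ i, i < 15997 → P i := stepQ 15996 Q15996 (allL N15996 (tt N14924 F148545) (tt N15996 F148546) (tt N17906 (iv F157255)) (tt N13952 F148547) (tt N17909 (iv F157272)) (tt N14081 F148548) (tt N17911 (iv F157284)) (tt N13950 F148549) (tt N13966 F148550) (tt N13949 (iv D31923)))
theorem Q15998 : ∀ i, i < 15998 → P i := stepQ 15997 Q15997 (allL N15997 (tt N14925 F148551) (tt N15997 F148552) (tt N17806 (iv F156797)) (tt N17910 (iv F157278)) (tt N17912 D33839) (tt N13951 (iv D31924)) (tt N14082 F148553) (tt N17864 (iv F157045)) (tt N14389 F148554) (tt N17913 D33840))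
theorem Q15999 : ∀ i, i < 15999 → P i := stepQ 15998 Q15998 (allL N15998 (tt N14926 F148555) (tt N15998 F148556) (tt N17807 (iv F156801)) (tt N17911 (iv F157283)) (tt N17534 (iv F155480)) (tt N17913 (iv F157292)) (tt N13952 F148557) (tt N17865 (iv F157050)) (tt N13968 F148558) (tt N13951 (iv D31925)))
theorem Q16000 : ∀ i, i < 16000 → P i := stepQ 15999 Q15999 (allL N15999 (tt N17453 (iv F155056)) (tt N13956 F148559) (tt N17914 D33841) (tt N13953 (iv D31926)) (tt N17810 (iv F156814)) (tt N13999 F148560) (tt N17866 (iv F157054)) (tt N17915 D33842) (tt N17916 D33843) (tt N14583 F148561))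
theorem Q16001 : ∀ i, i < 16001 → P i := stepQ 16000 Q16000 (allL N16000 (tt N17461 (iv F155088)) (tt N13957 F148562) (tt N16000 F148563) (tt N17915 (iv F157298)) (tt N13954 F148564) (tt N14000 F148565) (tt N17917 D33844) (tt N13953 (iv D31927)) (tt N17918 D33845) (tt N14590 F148566))
theorem Q16002 : ∀ i, i < 16002 → P i := stepQ 16001 Q16001 (allL N16001 (tt N17464 (iv F155105)) (tt N13958 F148567) (tt N16001 F148568) (tt N17916 (iv F157302)) (tt N13955 F148569) (tt N16001 F148570) (tt N17868 (iv F157065)) (tt N17918 (iv F157312)) (tt N13953 (iv D31928)) (tt N17919 D33846))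
theorem Q16003 : ∀ i, i < 16003 → P i := stepQ 16002 Q16002 (allL N16002 (tt N17702 (iv F156329)) (tt N13959 F148571) (tt N16002 F148572) (tt N17813 (iv F156824)) (tt N17917 (iv F157306)) (tt N17626 F155972) (tt N13954 (iv D31929)) (tt N17869 (iv F157069)) (tt N17920 D33847) (tt N14866 F148573))
theorem Q16004 : ∀ i, i < 16004 → P i := stepQ 16003 Q16003 (allL N16003 (tt N17709 (iv F156363)) (tt N13960 F148574) (tt N16003 F148575) (tt N17814 (iv F156827)) (tt N17918 (iv F157310)) (tt N13971 F148576) (tt N17920 (iv F157320)) (tt N13955 F148577) (tt N13954 (iv D31930)) (tt N17921 D33848))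
theorem Q16005 : ∀ i, i < 16005 → P i := stepQ 16004 Q16004 (allL N16004 (tt N17245 (iv F153864)) (tt N13961 F148578) (tt N16004 F148579) (tt N17815 (iv F156831)) (tt N17919 (iv F157315)) (tt N13972 F148580) (tt N17871 (iv F157080)) (tt N17921 (iv F157324)) (tt N14361 F148581) (tt N13955 (iv D31931)))
theorem Q16006 : ∀ i, i < 16006 → P i := stepQ 16005 Q16005 (allL N16005 (tt N14929 F148582) (tt N17915 (iv F157297)) (tt N17544 (iv F155515)) (tt N13957 F148583) (tt N17816 (iv F156836)) (tt N14002 F148584) (tt N17922 D33849) (tt N13956 (iv D31932)) (tt N17923 D33850) (tt N17900 (iv F157226)))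
theorem Q16007 : ∀ i, i < 16007 → P i := stepQ 16006 Q16006 (allL N16006 (tt N14930 F148585) (tt N17916 (iv F157301)) (tt N17545 (iv F155519)) (tt N13958 F148586) (tt N17817 (iv F156839)) (tt N16006 F148587) (tt N17873 (iv F157087)) (tt N17923 (iv F157331)) (tt N13956 (iv D31933)) (tt N17924 D33851))
theorem Q16008 : ∀ i, i < 16008 → P i := stepQ 16007 Q16007 (allL N16007 (tt N14931 F148588) (tt N17917 (iv F157304)) (tt N13962 F148589) (tt N17922 (iv F157327)) (tt N13959 F148590) (tt N17925 D33852) (tt N13957 (iv D31934)) (tt N17874 (iv F157091)) (tt N17926 D33853) (tt N17902 (iv F157235)))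
theorem Q16009 : ∀ i, i < 16009 → P i := stepQ 16008 Q16008 (allL N16008 (tt N14932 F148591) (tt N17918 (iv F157308)) (tt N13963 F148592) (tt N17923 (iv F157329)) (tt N13960 F148593) (tt N16008 F148594) (tt N17926 (iv F157341)) (tt N13958 F148595) (tt N13957 (iv D31935)) (tt N17927 D33854))
theorem Q16010 : ∀ i, i < 16010 → P i := stepQ 16009 Q16009 (allL N16009 (tt N14933 F148596) (tt N17919 (iv F157313)) (tt N13964 F148597) (tt N17924 (iv F157333)) (tt N13961 F148598) (tt N16009 F148599) (tt N17876 (iv F157101)) (tt N17927 (iv F157346)) (tt N17904 (iv F157248)) (tt N13958 (iv D31936)))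
theorem Q16011 : ∀ i, i < 16011 → P i := stepQ 16010 Q16010 (allL N16010 (tt N14934 F148600) (tt N17920 (iv F157318)) (tt N13965 F148601) (tt N17822 (iv F156855)) (tt N17926 (iv F157340)) (tt N17928 D33855) (tt N13960 F148602) (tt N17877 (iv F157107)) (tt N13959 (iv D31937)) (tt N17929 D33856))
theorem Q16012 : ∀ i, i < 16012 → P i := stepQ 16011 Q16011 (allL N16011 (tt N14935 F148603) (tt N17921 (iv F157321)) (tt N13966 F148604) (tt N17823 (iv F156859)) (tt N17927 (iv F157344)) (tt N13974 F148605) (tt N17929 (iv F157355)) (tt N13961 F148606) (tt N17906 (iv F157258)) (tt N13960 (iv D31938)))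
theorem Q16013 : ∀ i, i < 16013 → P i := stepQ 16012 Q16012 (allL N16012 (tt N14936 F148607) (tt N16012 F148608) (tt N17925 (iv F157336)) (tt N17551 (iv F155545)) (tt N17898 (iv F157213)) (tt N13962 (iv D31939)) (tt N14004 F148609) (tt N17879 (iv F157115)) (tt N17930 D33857) (tt N17907 (iv F157263)))
theorem Q16014 : ∀ i, i < 16014 → P i := stepQ 16013 Q16013 (allL N16013 (tt N14937 F148610) (tt N16013 F148611) (tt N17926 (iv F157339)) (tt N17552 (iv F155549)) (tt N13965 F148612) (tt N17931 D33858) (tt N13963 F148613) (tt N17880 (iv F157120)) (tt N13962 (iv D31940)) (tt N17932 D33859))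
theorem Q16015 : ∀ i, i < 16015 → P i := stepQ 16014 Q16014 (allL N16014 (tt N14938 F148614) (tt N16014 F148615) (tt N17927 (iv F157343)) (tt N17553 (iv F155554)) (tt N13966 F148616) (tt N16014 F148617) (tt N17932 (iv F157367)) (tt N13964 F148618) (tt N17909 (iv F157275)) (tt N13963 (iv D31941)))
theorem Q16016 : ∀ i, i < 16016 → P i := stepQ 16015 Q16015 (allL N16015 (tt N14939 F148619) (tt N16015 F148620) (tt N17928 (iv F157348)) (tt N13967 F148621) (tt N14374 (iv F148625)) (tt N13965 (iv D31942)) (tt N13975 F148622) (tt N14261 F148623) (tt N14253 F148624) (tt N17933 D33860))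
theorem Q16017 : ∀ i, i < 16017 → P i := stepQ 16016 Q16016 (allL N16016 (tt N14940 F148626) (tt N16016 F148627) (tt N17929 (iv F157354)) (tt N13968 F148628) (tt N17932 (iv F157366)) (tt N17933 (iv F157372)) (tt N13966 F148629) (tt N17882 (iv F157134)) (tt N17911 (iv F157285)) (tt N13965 (iv D31943)))
theorem Q16018 : ∀ i, i < 16018 → P i := stepQ 16017 Q16017 (allL N16017 (tt N14941 F148630) (tt N16017 F148631) (tt N17831 (iv F156881)) (tt N17517 (iv F155397)) (tt N13967 (iv D31944)) (tt N17556 (iv F155569)) (tt N13977 F148632) (tt N17883 (iv F157139)) (tt N17899 (iv F157221)) (tt N17515 F155390))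
theorem Q16019 : ∀ i, i < 16019 → P i := stepQ 16018 Q16018 (allL N16018 (tt N14942 F148633) (tt N16018 F148634) (tt N17718 (iv F156417)) (tt N17933 (iv F157370)) (tt N17515 (iv F155388)) (tt N13968 F148635) (tt N13978 F148636) (tt N17884 (iv F157146)) (tt N17514 (iv F155384)) (tt N13967 (iv D31945)))
theorem Q16020 : ∀ i, i < 16020 → P i := stepQ 16019 Q16019 (allL N16019 (tt N14943 F148637) (tt N16019 F148638) (tt N17835 (iv F156902)) (tt N14371 F148639) (tt N13969 (iv D31946)) (tt N16019 F148640) (tt N17899 (iv F157219)) (tt N14201 F148641) (tt N13977 F148642) (tt N17511 (iv F155371)))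
theorem Q16021 : ∀ i, i < 16021 → P i := stepQ 16020 Q16020 (allL N16020 (tt N17288 (iv F154147)) (tt N13974 F148643) (tt N16020 F148644) (tt N17839 (iv F156918)) (tt N16020 F148645) (tt N17921 (iv F157323)) (tt N17633 (iv F156021)) (tt N13972 F148646) (tt N14092 F148647) (tt N13971 (iv D31947)))
theorem Q16022 : ∀ i, i < 16022 → P i := stepQ 16021 Q16021 (allL N16021 (tt N14756 F148648) (tt N17606 (iv F155862)) (tt N13975 F148649) (tt N17843 (iv F156938)) (tt N14327 (iv F148652)) (tt N13973 (iv D31948)) (tt N17928 (iv F157349)) (tt N14202 F148650) (tt N14228 F148651) (tt N17934 D33861))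
theorem Q16023 : ∀ i, i < 16023 → P i := stepQ 16022 Q16022 (allL N16022 (tt N14774 F148653) (tt N17633 (iv F156018)) (tt N13976 F148654) (tt N17712 (iv F156382)) (tt N16022 F148655) (tt N17934 (iv F157378)) (tt N13974 F148656) (tt N14203 F148657) (tt N14093 F148658) (tt N13973 (iv D31949)))
theorem Q16024 : ∀ i, i < 16024 → P i := stepQ 16023 Q16023 (allL N16023 (tt N14944 F148659) (tt N16023 F148660) (tt N17934 (iv F157376)) (tt N13978 F148661) (tt N14375 F148662) (tt N13976 F148663) (tt N17933 (iv F157373)) (tt N14204 F148664) (tt N17504 (iv F155326)) (tt N13975 (iv D31950)))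
theorem Q16025 : ∀ i, i < 16025 → P i := stepQ 16024 Q16024 (allL N16024 (tt N13980 F148665) (tt N14945 F148666) (tt N16024 F148667) (tt N14715 F148668) (tt N17935 D33862) (tt N13979 (iv D31951)) (tt N16024 F148669) (tt N17936 D33863) (tt N17937 D33864) (tt N14268 F148670))
theorem Q16026 : ∀ i, i < 16026 → P i := stepQ 16025 Q16025 (allL N16025 (tt N13981 F148671) (tt N14252 F148672) (tt N16025 F148673) (tt N14716 F148674) (tt N17885 (iv F157150)) (tt N17936 (iv F157390)) (tt N14225 F148675) (tt N13979 (iv D31952)) (tt N16025 F148676) (tt N14224 F148677))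
theorem Q16027 : ∀ i, i < 16027 → P i := stepQ 16026 Q16026 (allL N16026 (tt N17935 (iv F157380)) (tt N13982 F148678) (tt N16026 F148679) (tt N17938 D33865) (tt N13980 (iv D31953)) (tt N17886 (iv F157156)) (tt N16026 F148680) (tt N17939 D33866) (tt N15040 (iv F148682)) (tt N14269 F148681))
theorem Q16028 : ∀ i, i < 16028 → P i := stepQ 16027 Q16027 (allL N16027 (tt N17936 (iv F157386)) (tt N13983 F148683) (tt N16027 F148684) (tt N14718 F148685) (tt N17939 (iv F157409)) (tt N13981 F148686) (tt N17940 D33867) (tt N13980 (iv D31954)) (tt N17941 D33868) (tt N14270 F148687))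
theorem Q16029 : ∀ i, i < 16029 → P i := stepQ 16028 Q16028 (allL N16028 (tt N17937 (iv F157393)) (tt N13984 F148688) (tt N16028 F148689) (tt N14719 F148690) (tt N15040 F148691) (tt N16028 F148692) (tt N16028 F148693) (tt N17941 (iv F157424)) (tt N13980 (iv D31955)) (tt N16028 F148694))
theorem Q16030 : ∀ i, i < 16030 → P i := stepQ 16029 Q16029 (allL N16029 (tt N14500 F148695) (tt N17938 (iv F157401)) (tt N13989 F148696) (tt N13982 (iv D31956)) (tt N14720 F148697) (tt N17888 (iv F157165)) (tt N16029 F148698) (tt N17942 D33869) (tt N14451 F148699) (tt N14271 F148700))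
theorem Q16031 : ∀ i, i < 16031 → P i := stepQ 16030 Q16030 (allL N16030 (tt N14949 F148701) (tt N17939 (iv F157407)) (tt N13985 F148702) (tt N17942 (iv F157428)) (tt N13983 F148703) (tt N17889 (iv F157171)) (tt N17943 D33870) (tt N13982 (iv D31957)) (tt N15042 F148704) (tt N14272 F148705))
theorem Q16032 : ∀ i, i < 16032 → P i := stepQ 16031 Q16031 (allL N16031 (tt N14950 F148706) (tt N17940 (iv F157413)) (tt N13986 F148707) (tt N14723 F148708) (tt N17943 (iv F157434)) (tt N17166 (iv F153433)) (tt N13983 (iv D31958)) (tt N16031 F148709) (tt N17944 D33871) (tt N14273 F148710))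
theorem Q16033 : ∀ i, i < 16033 → P i := stepQ 16032 Q16032 (allL N16032 (tt N14951 F148711) (tt N17941 (iv F157419)) (tt N13987 F148712) (tt N14724 F148713) (tt N15042 F148714) (tt N16032 F148715) (tt N17944 (iv F157442)) (tt N13984 F148716) (tt N13983 (iv D31959)) (tt N16032 F148717))
theorem Q16034 : ∀ i, i < 16034 → P i := stepQ 16033 Q16033 (allL N16033 (tt N14952 F148718) (tt N16033 F148719) (tt N17943 (iv F157433)) (tt N13992 F148720) (tt N13986 F148721) (tt N17945 D33872) (tt N13985 (iv D31960)) (tt N16033 F148722) (tt N15043 F148723) (tt N14274 F148724))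
theorem Q16035 : ∀ i, i < 16035 → P i := stepQ 16034 Q16034 (allL N16034 (tt N14953 F148725) (tt N16034 F148726) (tt N17944 (iv F157439)) (tt N13988 F148727) (tt N15043 F148728) (tt N17946 D33873) (tt N13987 F148729) (tt N16034 F148730) (tt N13986 (iv D31961)) (tt N16034 F148731))
theorem Q16036 : ∀ i, i < 16036 → P i := stepQ 16035 Q16035 (allL N16035 (tt N14954 F148732) (tt N16035 F148733) (tt N14728 F148734) (tt N17946 (iv F157452)) (tt N16035 F148735) (tt N13988 (iv D31962)) (tt N16035 F148736) (tt N16035 F148737) (tt N17291 F154176) (tt N16035 F148738))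
theorem Q16037 : ∀ i, i < 16037 → P i := stepQ 16036 Q16036 (allL N16036 (tt N14503 F148739) (tt N17302 (iv F154246)) (tt N17942 (iv F157427)) (tt N13990 F148740) (tt N14956 F148741) (tt N17896 (iv F157203)) (tt N17947 D33874) (tt N13989 (iv D31963)) (tt N14454 F148742) (tt N14404 F148743))
theorem Q16038 : ∀ i, i < 16038 → P i := stepQ 16037 Q16037 (allL N16037 (tt N14504 F148744) (tt N17303 (iv F154253)) (tt N13992 F148745) (tt N17947 (iv F157457)) (tt N13991 F148746) (tt N17948 D33875) (tt N13990 (iv D31964)) (tt N16037 F148747) (tt N14455 F148748) (tt N14405 F148749))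
theorem Q16039 : ∀ i, i < 16039 → P i := stepQ 16038 Q16038 (allL N16038 (tt N14955 F148750) (tt N16038 F148751) (tt N17948 (iv F157463)) (tt N17945 (iv F157447)) (tt N14004 F148752) (tt N13992 (iv D31965)) (tt N17898 (iv F157214)) (tt N16038 F148753) (tt N17949 D33876) (tt N14406 F148754))
theorem Q16040 : ∀ i, i < 16040 → P i := stepQ 16039 Q16039 (allL N16039 (tt N14956 F148755) (tt N14582 F148756) (tt N17577 (iv F155687)) (tt N13994 F148757) (tt N14503 F148758) (tt N17900 (iv F157225)) (tt N17950 D33877) (tt N13993 (iv D31966)) (tt N14501 F148759) (tt N14002 F148760))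
theorem Q16041 : ∀ i, i < 16041 → P i := stepQ 16040 Q16040 (allL N16040 (tt N14957 F148761) (tt N14589 F148762) (tt N13996 F148763) (tt N17950 (iv F157474)) (tt N13995 F148764) (tt N17951 D33878) (tt N13994 (iv D31967)) (tt N16040 F148765) (tt N14505 F148766) (tt N14003 F148767))
theorem Q16042 : ∀ i, i < 16042 → P i := stepQ 16041 Q16041 (allL N16041 (tt N14958 F148768) (tt N16041 F148769) (tt N17951 (iv F157481)) (tt N17581 (iv F155713)) (tt N14406 F148770) (tt N13996 (iv D31968)) (tt N17907 (iv F157262)) (tt N16041 F148771) (tt N17952 D33879) (tt N14004 F148772))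
theorem Q16043 : ∀ i, i < 16043 → P i := stepQ 16042 Q16042 (allL N16042 (tt N14959 F148773) (tt N16042 F148774) (tt N14505 F148775) (tt N17582 (iv F155720)) (tt N13998 F148776) (tt N15165 (iv F148780)) (tt N13997 F148777) (tt N16042 F148778) (tt N13996 (iv D31969)) (tt N16042 F148779))
theorem Q16044 : ∀ i, i < 16044 → P i := stepQ 16043 Q16043 (allL N16043 (tt N17446 (iv F155022)) (tt N17585 (iv F155736)) (tt N13999 (iv D31970)) (tt N16043 F148781) (tt N14580 F148782) (tt N17914 (iv F157295)) (tt N16043 F148783) (tt N17953 D33880) (tt N16043 F148784) (tt N14577 F148785))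
theorem Q16045 : ∀ i, i < 16045 → P i := stepQ 16044 Q16044 (allL N16044 (tt N17451 (iv F155047)) (tt N14002 F148786) (tt N17953 (iv F157492)) (tt N14000 F148787) (tt N14585 F148788) (tt N17915 (iv F157299)) (tt N17954 D33881) (tt N13999 (iv D31971)) (tt N16044 F148789) (tt N14582 F148790))
theorem Q16046 : ∀ i, i < 16046 → P i := stepQ 16045 Q16045 (allL N16045 (tt N17335 (iv F154433)) (tt N14003 F148791) (tt N16045 F148792) (tt N17954 (iv F157498)) (tt N14001 F148793) (tt N17955 D33882) (tt N14000 (iv D31972)) (tt N16045 F148794) (tt N16045 F148795) (tt N14589 F148796))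
theorem Q16047 : ∀ i, i < 16047 → P i := stepQ 16046 Q16046 (allL N16046 (tt N14960 F148797) (tt N17954 (iv F157497)) (tt N17587 (iv F155746)) (tt N14003 F148798) (tt N17275 (iv F154055)) (tt N17956 D33883) (tt N14002 (iv D31973)) (tt N16046 F148799) (tt N16046 F148800) (tt N17950 (iv F157478)))
theorem Q16048 : ∀ i, i < 16048 → P i := stepQ 16047 Q16047 (allL N16047 (tt N14961 F148801) (tt N17955 (iv F157503)) (tt N14004 F148802) (tt N17956 (iv F157508)) (tt N17948 (iv F157464)) (tt N14003 (iv D31974)) (tt N17925 (iv F157337)) (tt N16047 F148803) (tt N17957 D33884) (tt N17951 (iv F157484)))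
theorem Q16049 : ∀ i, i < 16049 → P i := stepQ 16048 Q16048 (allL N16048 (tt N14962 F148804) (tt N16048 F148805) (tt N17957 (iv F157511)) (tt N17589 (iv F155755)) (tt N17949 (iv F157469)) (tt N16048 F148806) (tt N17930 (iv F157358)) (tt N16048 F148807) (tt N14004 (iv D31975)) (tt N17958 D33885))
theorem Q16050 : ∀ i, i < 16050 → P i := stepQ 16049 Q16049 (allL N16049 (tt N14027 F148808) (tt N14064 F148809) (tt N14007 F148810) (tt N16049 F148811) (tt N14039 F148812) (tt N14006 (iv D31976)) (tt N16049 F148813) (tt N17832 (iv F156889)) (tt N17959 D33886) (tt N14012 F148814))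
theorem Q16051 : ∀ i, i < 16051 → P i := stepQ 16050 Q16050 (allL N16050 (tt N14029 F148815) (tt N14425 F148816) (tt N14039 F148817) (tt N16050 F148818) (tt N14007 (iv D31977)) (tt N14049 F148819) (tt N16050 F148820) (tt N17840 (iv F156926)) (tt N17960 D33887) (tt N14014 F148821))
theorem Q16052 : ∀ i, i < 16052 → P i := stepQ 16051 Q16051 (allL N16051 (tt N14030 F148822) (tt N14427 F148823) (tt N17832 (iv F156885)) (tt N14009 F148824) (tt N17840 (iv F156925)) (tt N14008 F148825) (tt N17961 D33888) (tt N14007 (iv D31978)) (tt N17962 D33889) (tt N14015 F148826))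
theorem Q16053 : ∀ i, i < 16053 → P i := stepQ 16052 Q16052 (allL N16052 (tt N14031 F148827) (tt N14347 F148828) (tt N17959 (iv F157522)) (tt N14010 F148829) (tt N17960 (iv F157531)) (tt N17613 (iv F155907)) (tt N16052 F148830) (tt N17962 (iv F157544)) (tt N14007 (iv D31979)) (tt N14342 F148831))
theorem Q16054 : ∀ i, i < 16054 → P i := stepQ 16053 Q16053 (allL N16053 (tt N14032 F148832) (tt N14437 F148833) (tt N16053 F148834) (tt N17961 (iv F157537)) (tt N16053 F148835) (tt N14281 F148836) (tt N14009 (iv D31980)) (tt N16053 F148837) (tt N17963 D33890) (tt N14016 F148838))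
theorem Q16055 : ∀ i, i < 16055 → P i := stepQ 16054 Q16054 (allL N16054 (tt N14033 F148839) (tt N14393 F148840) (tt N16054 F148841) (tt N17962 (iv F157543)) (tt N16054 F148842) (tt N17615 (iv F155921)) (tt N17963 (iv F157550)) (tt N14010 F148843) (tt N14009 (iv D31981)) (tt N14391 F148844))
theorem Q16056 : ∀ i, i < 16056 → P i := stepQ 16055 Q16055 (allL N16055 (tt N14070 F148845) (tt N14013 F148846) (tt N14042 F148847) (tt N16055 F148848) (tt N14041 F148849) (tt N14063 F148850) (tt N14040 F148851) (tt N14011 (iv D31982)) (tt N14025 F148852) (tt N17704 (iv F156345)))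
theorem Q16057 : ∀ i, i < 16057 → P i := stepQ 16056 Q16056 (allL N16056 (tt N14035 F148853) (tt N14063 F148854) (tt N14015 F148855) (tt N16056 F148856) (tt N14038 F148857) (tt N14013 F148858) (tt N14985 (iv F148860)) (tt N14012 (iv D31983)) (tt N14036 F148859) (tt N17832 (iv F156890)))
theorem Q16058 : ∀ i, i < 16058 → P i := stepQ 16057 Q16057 (allL N16057 (tt N14036 F148861) (tt N14424 F148862) (tt N14038 F148863) (tt N16057 F148864) (tt N14015 F148865) (tt N14048 F148866) (tt N17285 (iv F154129)) (tt N14014 (iv D31984)) (tt N14035 F148867) (tt N17840 (iv F156927)))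
theorem Q16059 : ∀ i, i < 16059 → P i := stepQ 16058 Q16058 (allL N16058 (tt N14037 F148868) (tt N14426 F148869) (tt N14985 F148870) (tt N14016 F148871) (tt N17285 (iv F154128)) (tt N14407 F148872) (tt N14015 (iv D31985)) (tt N16058 F148873) (tt N14422 F148874) (tt N17961 (iv F157540)))
theorem Q16060 : ∀ i, i < 16060 → P i := stepQ 16059 Q16059 (allL N16059 (tt N14046 F148875) (tt N14019 F148876) (tt N14041 F148877) (tt N16059 F148878) (tt N14042 F148879) (tt N14045 F148880) (tt N14025 F148881) (tt N14017 (iv D31986)) (tt N14040 F148882) (tt N17627 (iv F155981)))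
theorem Q16061 : ∀ i, i < 16061 → P i := stepQ 16060 Q16060 (allL N16060 (tt N14025 F148883) (tt N14045 F148884) (tt N14021 F148885) (tt N16060 F148886) (tt N14071 F148887) (tt N14019 F148888) (tt N14046 F148889) (tt N14018 (iv D31987)) (tt N14070 F148890) (tt N17628 (iv F155989)))
theorem Q16062 : ∀ i, i < 16062 → P i := stepQ 16061 Q16061 (allL N16061 (tt N14040 F148891) (tt N14048 F148892) (tt N14071 F148893) (tt N16061 F148894) (tt N14021 F148895) (tt N14424 F148896) (tt N14070 F148897) (tt N14020 (iv D31988)) (tt N14046 F148898) (tt N17629 (iv F155997)))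
theorem Q16063 : ∀ i, i < 16063 → P i := stepQ 16062 Q16062 (allL N16062 (tt N14042 F148899) (tt N14047 F148900) (tt N14070 F148901) (tt N14023 F148902) (tt N14046 F148903) (tt N14408 F148904) (tt N14071 F148905) (tt N14022 F148906) (tt N14021 (iv D31989)) (tt N17710 (iv F156375)))
theorem Q16064 : ∀ i, i < 16064 → P i := stepQ 16063 Q16063 (allL N16063 (tt N14044 F148907) (tt N14093 F148908) (tt N16063 F148909) (tt N17710 (iv F156371)) (tt N16063 F148910) (tt N14411 F148911) (tt N14092 F148912) (tt N14024 F148913) (tt N17633 (iv F156023)) (tt N14023 (iv D31990)))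
theorem Q16065 : ∀ i, i < 16065 → P i := stepQ 16064 Q16064 (allL N16064 (tt N17832 (iv F156883)) (tt N14343 F148914) (tt N14030 F148915) (tt N16064 F148916) (tt N14341 F148917) (tt N14028 F148918) (tt N17964 D33891) (tt N14027 (iv D31991)) (tt N17965 D33892) (tt N14035 F148919))
theorem Q16066 : ∀ i, i < 16066 → P i := stepQ 16065 Q16065 (allL N16065 (tt N17959 (iv F157520)) (tt N14344 F148920) (tt N14031 F148921) (tt N16065 F148922) (tt N14342 F148923) (tt N17677 (iv F156240)) (tt N16065 F148924) (tt N17965 (iv F157565)) (tt N14027 (iv D31992)) (tt N17960 (iv F157533)))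
theorem Q16067 : ∀ i, i < 16067 → P i := stepQ 16066 Q16066 (allL N16066 (tt N17840 (iv F156921)) (tt N14052 F148925) (tt N14341 F148926) (tt N16066 F148927) (tt N14030 F148928) (tt N14304 F148929) (tt N17966 D33893) (tt N14029 (iv D31993)) (tt N17967 D33894) (tt N14036 F148930))
theorem Q16068 : ∀ i, i < 16068 → P i := stepQ 16067 Q16067 (allL N16067 (tt N17960 (iv F157527)) (tt N14053 F148931) (tt N14342 F148932) (tt N16067 F148933) (tt N14031 F148934) (tt N17968 D33895) (tt N16067 F148935) (tt N17967 (iv F157577)) (tt N14029 (iv D31994)) (tt N17959 (iv F157526)))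
theorem Q16069 : ∀ i, i < 16069 → P i := stepQ 16068 Q16068 (allL N16068 (tt N17961 (iv F157534)) (tt N14054 F148936) (tt N17964 (iv F157555)) (tt N14032 F148937) (tt N17966 (iv F157569)) (tt N14305 F148938) (tt N14030 (iv D31995)) (tt N16068 F148939) (tt N17969 D33896) (tt N14037 F148940))
theorem Q16070 : ∀ i, i < 16070 → P i := stepQ 16069 Q16069 (allL N16069 (tt N17962 (iv F157541)) (tt N14055 F148941) (tt N17965 (iv F157562)) (tt N14033 F148942) (tt N17967 (iv F157576)) (tt N17681 (iv F156253)) (tt N17969 (iv F157584)) (tt N14031 F148943) (tt N14030 (iv D31996)) (tt N17844 (iv F156945)))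
theorem Q16071 : ∀ i, i < 16071 → P i := stepQ 16070 Q16070 (allL N16070 (tt N14342 F148944) (tt N14056 F148945) (tt N17960 (iv F157529)) (tt N14034 F148946) (tt N17959 (iv F157524)) (tt N17682 (iv F156258)) (tt N16070 F148947) (tt N17844 (iv F156944)) (tt N14039 F148948) (tt N14031 (iv D31997)))
theorem Q16072 : ∀ i, i < 16072 → P i := stepQ 16071 Q16071 (allL N16071 (tt N17963 (iv F157546)) (tt N14057 F148949) (tt N16071 F148950) (tt N17969 (iv F157583)) (tt N16071 F148951) (tt N17970 D33897) (tt N14033 F148952) (tt N16071 F148953) (tt N14032 (iv D31998)) (tt N17238 (iv F153835)))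
theorem Q16073 : ∀ i, i < 16073 → P i := stepQ 16072 Q16072 (allL N16072 (tt N14985 F148954) (tt N14423 F148955) (tt N14037 F148956) (tt N16072 F148957) (tt N14422 F148958) (tt N14062 F148959) (tt N14035 (iv D31999)) (tt N16072 F148960) (tt N17285 (iv F154131)) (tt N17964 (iv F157560)))
theorem Q16074 : ∀ i, i < 16074 → P i := stepQ 16073 Q16073 (allL N16073 (tt N17285 (iv F154124)) (tt N14062 F148961) (tt N14422 F148962) (tt N16073 F148963) (tt N14037 F148964) (tt N14423 F148965) (tt N14036 (iv D32000)) (tt N16073 F148966) (tt N14985 F148967) (tt N17966 (iv F157572)))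
theorem Q16075 : ∀ i, i < 16075 → P i := stepQ 16074 Q16074 (allL N16074 (tt N17710 (iv F156368)) (tt N14068 F148968) (tt N17704 (iv F156341)) (tt N14044 F148969) (tt N17627 (iv F155978)) (tt N14417 F148970) (tt N17158 (iv F153380)) (tt N14043 F148971) (tt N17708 (iv F156362)) (tt N14042 (iv D32001)))
theorem Q16076 : ∀ i, i < 16076 → P i := stepQ 16075 Q16075 (allL N16075 (tt N14971 F148972) (tt N14348 F148973) (tt N14054 F148974) (tt N14074 F148975) (tt N14305 F148976) (tt N14345 F148977) (tt N14050 (iv D32002)) (tt N16075 F148978) (tt N17971 D33898) (tt N14059 F148979))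
theorem Q16077 : ∀ i, i < 16077 → P i := stepQ 16076 Q16076 (allL N16076 (tt N14972 F148980) (tt N14349 F148981) (tt N14055 F148982) (tt N14075 F148983) (tt N14306 F148984) (tt N17798 (iv F156767)) (tt N17971 (iv F157595)) (tt N14051 F148985) (tt N14050 (iv D32003)) (tt N17972 D33899))
theorem Q16078 : ∀ i, i < 16078 → P i := stepQ 16077 Q16077 (allL N16077 (tt N14973 F148986) (tt N14351 F148987) (tt N14056 F148988) (tt N14076 F148989) (tt N14307 F148990) (tt N17799 (iv F156773)) (tt N16077 F148991) (tt N17972 (iv F157602)) (tt N14061 F148992) (tt N14051 (iv D32004)))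
theorem Q16079 : ∀ i, i < 16079 → P i := stepQ 16078 Q16078 (allL N16078 (tt N14974 F148993) (tt N17966 (iv F157566)) (tt N14305 F148994) (tt N16078 F148995) (tt N14054 F148996) (tt N17964 (iv F157558)) (tt N14052 (iv D32005)) (tt N16078 F148997) (tt N17973 D33900) (tt N14062 F148998))
theorem Q16080 : ∀ i, i < 16080 → P i := stepQ 16079 Q16079 (allL N16079 (tt N14975 F148999) (tt N17967 (iv F157573)) (tt N14306 F149000) (tt N16079 F149001) (tt N14055 F149002) (tt N17974 D33901) (tt N17973 (iv F157608)) (tt N14053 F149003) (tt N14052 (iv D32006)) (tt N17975 D33902))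
theorem Q16081 : ∀ i, i < 16081 → P i := stepQ 16080 Q16080 (allL N16080 (tt N14976 F149004) (tt N17968 (iv F157578)) (tt N14300 F149005) (tt N16080 F149006) (tt N17802 (iv F156783)) (tt N14053 (iv D32007)) (tt N17976 D33903) (tt N17974 (iv F157613)) (tt N14296 F149007) (tt N17977 D33904))
theorem Q16082 : ∀ i, i < 16082 → P i := stepQ 16081 Q16081 (allL N16081 (tt N14977 F149008) (tt N17959 (iv F157521)) (tt N14307 F149009) (tt N16081 F149010) (tt N14056 F149011) (tt N17977 (iv F157629)) (tt N16081 F149012) (tt N17975 (iv F157619)) (tt N14064 F149013) (tt N14053 (iv D32008)))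
theorem Q16083 : ∀ i, i < 16083 → P i := stepQ 16082 Q16082 (allL N16082 (tt N14978 F149014) (tt N17969 (iv F157582)) (tt N17971 (iv F157592)) (tt N14057 F149015) (tt N17973 (iv F157607)) (tt N17978 D33905) (tt N14055 F149016) (tt N16082 F149017) (tt N14054 (iv D32009)) (tt N17979 D33906))
theorem Q16084 : ∀ i, i < 16084 → P i := stepQ 16083 Q16083 (allL N16083 (tt N14979 F149018) (tt N17844 (iv F156942)) (tt N17972 (iv F157599)) (tt N14058 F149019) (tt N17975 (iv F157618)) (tt N17805 (iv F156793)) (tt N17979 (iv F157636)) (tt N14056 F149020) (tt N14066 F149021) (tt N14055 (iv D32010)))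
theorem Q16085 : ∀ i, i < 16085 → P i := stepQ 16084 Q16084 (allL N16084 (tt N14980 F149022) (tt N17970 (iv F157586)) (tt N14082 F149023) (tt N17978 (iv F157631)) (tt N17980 D33907) (tt N14057 (iv D32011)) (tt N17806 (iv F156798)) (tt N16084 F149024) (tt N14354 F149025) (tt N17981 D33908))
theorem Q16086 : ∀ i, i < 16086 → P i := stepQ 16085 Q16085 (allL N16085 (tt N14981 F149026) (tt N17238 (iv F153830)) (tt N14083 F149027) (tt N17979 (iv F157635)) (tt N16085 F149028) (tt N17981 (iv F157646)) (tt N14058 F149029) (tt N16085 F149030) (tt N14067 F149031) (tt N14057 (iv D32012)))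
theorem Q16087 : ∀ i, i < 16087 → P i := stepQ 16086 Q16086 (allL N16086 (tt N14983 F149032) (tt N14428 F149033) (tt N14065 F149034) (tt N14084 F149035) (tt N14416 F149036) (tt N17278 (iv F154076)) (tt N14060 F149037) (tt N16086 F149038) (tt N14059 (iv D32013)) (tt N17982 D33909))
theorem Q16088 : ∀ i, i < 16088 → P i := stepQ 16087 Q16087 (allL N16087 (tt N14984 F149039) (tt N14429 F149040) (tt N14066 F149041) (tt N14085 F149042) (tt N14417 F149043) (tt N14073 F149044) (tt N17982 (iv F157653)) (tt N14061 F149045) (tt N17972 (iv F157603)) (tt N14060 (iv D32014)))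
theorem Q16089 : ∀ i, i < 16089 → P i := stepQ 16088 Q16088 (allL N16088 (tt N14986 F149046) (tt N14985 F149047) (tt N14416 F149048) (tt N16088 F149049) (tt N14065 F149050) (tt N14969 (iv F149053)) (tt N14063 F149051) (tt N16088 F149052) (tt N14062 (iv D32015)) (tt N17983 D33910))
theorem Q16090 : ∀ i, i < 16090 → P i := stepQ 16089 Q16089 (allL N16089 (tt N14987 F149054) (tt N17832 (iv F156884)) (tt N14417 F149055) (tt N16089 F149056) (tt N14066 F149057) (tt N17704 F156346) (tt N17983 (iv F157661)) (tt N14064 F149058) (tt N17975 (iv F157620)) (tt N14063 (iv D32016)))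
theorem Q16091 : ∀ i, i < 16091 → P i := stepQ 16090 Q16090 (allL N16090 (tt N14988 F149059) (tt N17228 (iv F153781)) (tt N17982 (iv F157650)) (tt N14067 F149060) (tt N17983 (iv F157659)) (tt N17180 (iv F153511)) (tt N14066 F149061) (tt N16090 F149062) (tt N17979 (iv F157638)) (tt N14065 (iv D32017)))
theorem Q16092 : ∀ i, i < 16092 → P i := stepQ 16091 Q16091 (allL N16091 (tt N17158 (iv F153374)) (tt N14073 F149063) (tt N17629 (iv F155992)) (tt N14092 F149064) (tt N17628 (iv F155986)) (tt N14429 F149065) (tt N17710 (iv F156374)) (tt N14072 F149066) (tt N17839 (iv F156920)) (tt N14071 (iv D32018)))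
theorem Q16093 : ∀ i, i < 16093 → P i := stepQ 16092 Q16092 (allL N16092 (tt N14991 F149067) (tt N14357 F149068) (tt N14080 F149069) (tt N17971 (iv F157593)) (tt N14310 F149070) (tt N17984 D33911) (tt N14075 F149071) (tt N16092 F149072) (tt N14074 (iv D32019)) (tt N17985 D33912))
theorem Q16094 : ∀ i, i < 16094 → P i := stepQ 16093 Q16093 (allL N16093 (tt N14992 F149073) (tt N14359 F149074) (tt N14081 F149075) (tt N17972 (iv F157600)) (tt N14311 F149076) (tt N17906 (iv F157256)) (tt N17985 (iv F157672)) (tt N14076 F149077) (tt N14085 F149078) (tt N14075 (iv D32020)))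
theorem Q16095 : ∀ i, i < 16095 → P i := stepQ 16094 Q16094 (allL N16094 (tt N14993 F149079) (tt N16094 F149080) (tt N14310 F149081) (tt N16094 F149082) (tt N14080 F149083) (tt N15186 (iv F149086)) (tt N14078 F149084) (tt N16094 F149085) (tt N14077 (iv D32021)) (tt N17986 D33913))
theorem Q16096 : ∀ i, i < 16096 → P i := stepQ 16095 Q16095 (allL N16095 (tt N14994 F149087) (tt N16095 F149088) (tt N14311 F149089) (tt N16095 F149090) (tt N14081 F149091) (tt N15175 F149092) (tt N17986 (iv F157681)) (tt N14079 F149093) (tt N14087 F149094) (tt N14078 (iv D32022)))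
theorem Q16097 : ∀ i, i < 16097 → P i := stepQ 16096 Q16096 (allL N16096 (tt N14995 F149095) (tt N16096 F149096) (tt N17984 (iv F157665)) (tt N14082 F149097) (tt N17987 D33914) (tt N14080 (iv D32023)) (tt N17910 (iv F157279)) (tt N16096 F149098) (tt N14394 F149099) (tt N17988 D33915))
theorem Q16098 : ∀ i, i < 16098 → P i := stepQ 16097 Q16097 (allL N16097 (tt N14996 F149100) (tt N16097 F149101) (tt N17985 (iv F157670)) (tt N14083 F149102) (tt N17986 (iv F157679)) (tt N17988 (iv F157692)) (tt N14081 F149103) (tt N16097 F149104) (tt N14089 F149105) (tt N14080 (iv D32024)))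
theorem Q16099 : ∀ i, i < 16099 → P i := stepQ 16098 Q16098 (allL N16098 (tt N14997 F149106) (tt N16098 F149107) (tt N17980 (iv F157640)) (tt N17958 (iv F157516)) (tt N14082 (iv D32025)) (tt N16098 F149108) (tt N17912 (iv F157288)) (tt N16098 F149109) (tt N14396 F149110) (tt N17589 (iv F155759)))
theorem Q16100 : ∀ i, i < 16100 → P i := stepQ 16099 Q16099 (allL N16099 (tt N14998 F149111) (tt N16099 F149112) (tt N17981 (iv F157645)) (tt N17988 (iv F157691)) (tt N17589 (iv F155756)) (tt N14083 F149113) (tt N17913 (iv F157293)) (tt N16099 F149114) (tt N17569 (iv F155639)) (tt N14082 (iv D32026)))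
theorem Q16101 : ∀ i, i < 16101 → P i := stepQ 16100 Q16100 (allL N16100 (tt N14999 F149115) (tt N14433 F149116) (tt N14089 F149117) (tt N17982 (iv F157651)) (tt N14420 F149118) (tt N17279 (iv F154083)) (tt N14085 F149119) (tt N16100 F149120) (tt N17985 (iv F157674)) (tt N14084 (iv D32027)))
theorem Q16102 : ∀ i, i < 16102 → P i := stepQ 16101 Q16101 (allL N16101 (tt N15000 F149121) (tt N16101 F149122) (tt N14419 F149123) (tt N16101 F149124) (tt N17118 (iv F153109)) (tt N14086 (iv D32028)) (tt N16101 F149125) (tt N16101 F149126) (tt N16101 F149127) (tt N17989 D33916))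
theorem Q16103 : ∀ i, i < 16103 → P i := stepQ 16102 Q16102 (allL N16102 (tt N15001 F149128) (tt N16102 F149129) (tt N14420 F149130) (tt N16102 F149131) (tt N14089 F149132) (tt N17989 (iv F157698)) (tt N14087 F149133) (tt N16102 F149134) (tt N17986 (iv F157683)) (tt N14086 (iv D32029)))
theorem Q16104 : ∀ i, i < 16104 → P i := stepQ 16103 Q16103 (allL N16103 (tt N15002 F149135) (tt N16103 F149136) (tt N17279 (iv F154081)) (tt N14090 F149137) (tt N17119 (iv F153117)) (tt N14089 F149138) (tt N14094 F149139) (tt N16103 F149140) (tt N17568 (iv F155633)) (tt N14088 (iv D32030)))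
theorem Q16105 : ∀ i, i < 16105 → P i := stepQ 16104 Q16104 (allL N16104 (tt N14095 (iv D32031)) (tt N14119 F149141) (tt N14102 F149142) (tt N16104 F149143) (tt N14485 F149144) (tt N14101 F149145) (tt N14213 (iv F149148)) (tt N14130 F149146) (tt N17590 (iv F155766)) (tt N16104 F149147))
theorem Q16106 : ∀ i, i < 16106 → P i := stepQ 16105 Q16105 (allL N16105 (tt N14213 F149149) (tt N14096 F149150) (tt N14115 F149151) (tt N16105 F149152) (tt N14486 F149153) (tt N14114 F149154) (tt N14095 (iv D32032)) (tt N17990 D33917) (tt N17591 (iv F155774)) (tt N16105 F149155))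
theorem Q16107 : ∀ i, i < 16107 → P i := stepQ 16106 Q16106 (allL N16106 (tt N14121 F149156) (tt N14114 F149157) (tt N14097 F149158) (tt N16106 F149159) (tt N14450 (iv F149162)) (tt N14096 (iv D32033)) (tt N14104 F149160) (tt N17991 D33918) (tt N17635 (iv F156037)) (tt N16106 F149161))
theorem Q16108 : ∀ i, i < 16108 → P i := stepQ 16107 Q16107 (allL N16107 (tt N14122 F149163) (tt N17990 (iv F157702)) (tt N14098 F149164) (tt N16107 F149165) (tt N14488 F149166) (tt N17991 (iv F157714)) (tt N14214 F149167) (tt N14096 (iv D32034)) (tt N17593 (iv F155786)) (tt N16107 F149168))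
theorem Q16109 : ∀ i, i < 16109 → P i := stepQ 16108 Q16108 (allL N16108 (tt N14124 F149169) (tt N14155 F149170) (tt N17991 (iv F157711)) (tt N14099 F149171) (tt N17300 (iv F154233)) (tt N14098 F149172) (tt N14160 F149173) (tt N14097 (iv D32035)) (tt N17733 (iv F156476)) (tt N16108 F149174))
theorem Q16110 : ∀ i, i < 16110 → P i := stepQ 16109 Q16109 (allL N16109 (tt N14129 F149175) (tt N14171 F149176) (tt N17590 (iv F155761)) (tt N14103 F149177) (tt N14528 F149178) (tt N14106 F149179) (tt N14217 F149180) (tt N14170 F149181) (tt N14102 (iv D32036)) (tt N17376 (iv F154671)))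
theorem Q16111 : ∀ i, i < 16111 → P i := stepQ 16110 Q16110 (allL N16110 (tt N14137 F149182) (tt N14143 F149183) (tt N14182 F149184) (tt N16110 F149185) (tt N14106 F149186) (tt N17656 (iv F156135)) (tt N17630 (iv F156003)) (tt N14181 F149187) (tt N14105 (iv D32037)) (tt N14141 F149188))
theorem Q16112 : ∀ i, i < 16112 → P i := stepQ 16111 Q16111 (allL N16111 (tt N14139 F149189) (tt N14142 F149190) (tt N14181 F149191) (tt N14107 F149192) (tt N14141 F149193) (tt N17376 (iv F154668)) (tt N17632 (iv F156015)) (tt N14182 F149194) (tt N14140 F149195) (tt N14106 (iv D32038)))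
theorem Q16113 : ∀ i, i < 16113 → P i := stepQ 16112 Q16112 (allL N16112 (tt N14108 (iv D32039)) (tt N14485 F149196) (tt N14133 F149197) (tt N15029 F149198) (tt N14119 F149199) (tt N16112 F149200) (tt N17992 D33919) (tt N14131 F149201) (tt N17353 (iv F154553)) (tt N16112 F149202))
theorem Q16114 : ∀ i, i < 16114 → P i := stepQ 16113 Q16113 (allL N16113 (tt N17992 (iv F157717)) (tt N14109 F149203) (tt N14146 F149204) (tt N15030 F149205) (tt N14120 F149206) (tt N17993 D33920) (tt N14108 (iv D32040)) (tt N17994 D33921) (tt N17354 (iv F154559)) (tt N16113 F149207))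
theorem Q16115 : ∀ i, i < 16115 → P i := stepQ 16114 Q16114 (allL N16114 (tt N14487 F149208) (tt N17993 (iv F157725)) (tt N14110 F149209) (tt N15031 F149210) (tt N17995 D33922) (tt N14109 (iv D32041)) (tt N16114 F149211) (tt N17996 D33923) (tt N17997 D33924) (tt N16114 F149212))
theorem Q16116 : ∀ i, i < 16116 → P i := stepQ 16115 Q16115 (allL N16115 (tt N14488 F149213) (tt N17994 (iv F157731)) (tt N14111 F149214) (tt N15032 F149215) (tt N14122 F149216) (tt N17996 (iv F157747)) (tt N14452 F149217) (tt N14109 (iv D32042)) (tt N17356 (iv F154571)) (tt N16115 F149218))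
theorem Q16117 : ∀ i, i < 16117 → P i := stepQ 16116 Q16116 (allL N16116 (tt N14489 F149219) (tt N14149 F149220) (tt N17995 (iv F157739)) (tt N16116 F149221) (tt N14110 (iv D32043)) (tt N14123 F149222) (tt N16116 F149223) (tt N17998 D33925) (tt N17999 D33926) (tt N16116 F149224))
theorem Q16118 : ∀ i, i < 16118 → P i := stepQ 16117 Q16117 (allL N16117 (tt N14490 F149225) (tt N14150 F149226) (tt N17996 (iv F157745)) (tt N14112 F149227) (tt N17998 (iv F157757)) (tt N14111 F149228) (tt N18000 D33927) (tt N14110 (iv D32044)) (tt N18001 D33928) (tt N16117 F149229))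
theorem Q16119 : ∀ i, i < 16119 → P i := stepQ 16118 Q16118 (allL N16118 (tt N14491 F149230) (tt N14151 F149231) (tt N17997 (iv F157750)) (tt N14113 F149232) (tt N17999 (iv F157763)) (tt N17359 (iv F154587)) (tt N16118 F149233) (tt N18001 (iv F157774)) (tt N14110 (iv D32045)) (tt N18002 D33929))
theorem Q16120 : ∀ i, i < 16120 → P i := stepQ 16119 Q16119 (allL N16119 (tt N14492 F149234) (tt N14152 F149235) (tt N15036 F149236) (tt N18000 (iv F157767)) (tt N16119 F149237) (tt N14455 F149238) (tt N14112 (iv D32046)) (tt N16119 F149239) (tt N18003 D33930) (tt N16119 F149240))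
theorem Q16121 : ∀ i, i < 16121 → P i := stepQ 16120 Q16120 (allL N16120 (tt N14493 F149241) (tt N14153 F149242) (tt N15037 F149243) (tt N18001 (iv F157773)) (tt N16120 F149244) (tt N17361 (iv F154600)) (tt N18003 (iv F157785)) (tt N14113 F149245) (tt N14112 (iv D32047)) (tt N18004 D33931))
theorem Q16122 : ∀ i, i < 16122 → P i := stepQ 16121 Q16121 (allL N16121 (tt N14494 F149246) (tt N14154 F149247) (tt N15038 F149248) (tt N18002 (iv F157778)) (tt N16121 F149249) (tt N17362 (iv F154606)) (tt N16121 F149250) (tt N18004 (iv F157791)) (tt N16121 F149251) (tt N14113 (iv D32048)))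
theorem Q16123 : ∀ i, i < 16123 → P i := stepQ 16122 Q16122 (allL N16122 (tt N14214 F149252) (tt N17991 (iv F157710)) (tt N14116 F149253) (tt N16122 F149254) (tt N14452 F149255) (tt N17990 (iv F157706)) (tt N14122 F149256) (tt N14114 (iv D32049)) (tt N17637 (iv F156049)) (tt N16122 F149257))
theorem Q16124 : ∀ i, i < 16124 → P i := stepQ 16123 Q16123 (allL N16123 (tt N14216 F149258) (tt N14156 F149259) (tt N17990 (iv F157703)) (tt N14117 F149260) (tt N14561 F149261) (tt N14116 F149262) (tt N14241 F149263) (tt N14115 (iv D32050)) (tt N18005 D33932) (tt N16123 F149264))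
theorem Q16125 : ∀ i, i < 16125 → P i := stepQ 16124 Q16124 (allL N16124 (tt N14217 F149265) (tt N14157 F149266) (tt N17591 (iv F155771)) (tt N14118 F149267) (tt N14529 F149268) (tt N17640 (iv F156065)) (tt N14129 F149269) (tt N18005 (iv F157798)) (tt N14115 (iv D32051)) (tt N17377 (iv F154679)))
theorem Q16126 : ∀ i, i < 16126 → P i := stepQ 16125 Q16125 (allL N16125 (tt N14218 F149270) (tt N14158 F149271) (tt N16125 F149272) (tt N18005 (iv F157795)) (tt N14205 F149273) (tt N17642 (iv F156078)) (tt N14256 F149274) (tt N14118 F149275) (tt N14117 (iv D32052)) (tt N17502 (iv F155315)))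
theorem Q16127 : ∀ i, i < 16127 → P i := stepQ 16126 Q16126 (allL N16126 (tt N14120 F149276) (tt N14213 F149277) (tt N14135 F149278) (tt N16126 F149279) (tt N17992 (iv F157721)) (tt N14212 F149280) (tt N14119 (iv D32053)) (tt N18006 D33933) (tt N17643 (iv F156084)) (tt N16126 F149281))
theorem Q16128 : ∀ i, i < 16128 → P i := stepQ 16127 Q16127 (allL N16127 (tt N14212 F149282) (tt N14121 F149283) (tt N14159 F149284) (tt N16127 F149285) (tt N14495 (iv F149288)) (tt N14120 (iv D32054)) (tt N14130 F149286) (tt N18007 D33934) (tt N18008 D33935) (tt N16127 F149287))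
theorem Q16129 : ∀ i, i < 16129 → P i := stepQ 16128 Q16128 (allL N16128 (tt N18006 (iv F157799)) (tt N14122 F149289) (tt N14160 F149290) (tt N16128 F149291) (tt N17994 (iv F157734)) (tt N18007 (iv F157811)) (tt N17991 (iv F157715)) (tt N14120 (iv D32055)) (tt N17645 (iv F156094)) (tt N16128 F149292))
theorem Q16130 : ∀ i, i < 16130 → P i := stepQ 16129 Q16129 (allL N16129 (tt N14450 F149293) (tt N14495 F149294) (tt N14123 F149295) (tt N15039 (iv F149298)) (tt N14121 (iv D32056)) (tt N17995 (iv F157741)) (tt N14131 F149296) (tt N18009 D33936) (tt N18010 D33937) (tt N16129 F149297))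
theorem Q16131 : ∀ i, i < 16131 → P i := stepQ 16130 Q16130 (allL N16130 (tt N17991 (iv F157709)) (tt N18007 (iv F157807)) (tt N14124 F149299) (tt N16130 F149300) (tt N18009 (iv F157824)) (tt N14122 F149301) (tt N18006 (iv F157804)) (tt N14121 (iv D32057)) (tt N18011 D33938) (tt N16130 F149302))
theorem Q16132 : ∀ i, i < 16132 → P i := stepQ 16131 Q16131 (allL N16131 (tt N17635 (iv F156032)) (tt N18008 (iv F157815)) (tt N14125 F149303) (tt N16131 F149304) (tt N18010 (iv F157830)) (tt N17648 (iv F156103)) (tt N14132 F149305) (tt N18011 (iv F157834)) (tt N14121 (iv D32058)) (tt N18012 D33939))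
theorem Q16133 : ∀ i, i < 16133 → P i := stepQ 16132 Q16132 (allL N16132 (tt N17300 (iv F154229)) (tt N14163 F149306) (tt N18009 (iv F157822)) (tt N16132 F149307) (tt N14124 F149308) (tt N17998 (iv F157758)) (tt N18013 D33940) (tt N14123 (iv D32059)) (tt N18014 D33941) (tt N16132 F149309))
theorem Q16134 : ∀ i, i < 16134 → P i := stepQ 16133 Q16133 (allL N16133 (tt N17292 (iv F154177)) (tt N14164 F149310) (tt N18010 (iv F157828)) (tt N16133 F149311) (tt N14125 F149312) (tt N18015 D33942) (tt N14134 F149313) (tt N18014 (iv F157850)) (tt N14123 (iv D32060)) (tt N18016 D33943))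
theorem Q16135 : ∀ i, i < 16135 → P i := stepQ 16134 Q16134 (allL N16134 (tt N14160 F149314) (tt N14165 F149315) (tt N18006 (iv F157801)) (tt N14126 F149316) (tt N18013 (iv F157843)) (tt N14241 F149317) (tt N14124 (iv D32061)) (tt N14135 F149318) (tt N17752 (iv F156568)) (tt N16134 F149319))
theorem Q16136 : ∀ i, i < 16136 → P i := stepQ 16135 Q16135 (allL N16135 (tt N17733 (iv F156472)) (tt N14166 F149320) (tt N18011 (iv F157832)) (tt N14127 F149321) (tt N18014 (iv F157849)) (tt N17652 (iv F156115)) (tt N17752 (iv F156567)) (tt N14125 F149322) (tt N14124 (iv D32062)) (tt N18017 D33944))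
theorem Q16137 : ∀ i, i < 16137 → P i := stepQ 16136 Q16136 (allL N16136 (tt N14320 F149323) (tt N14167 F149324) (tt N18012 (iv F157836)) (tt N14128 F149325) (tt N18016 (iv F157856)) (tt N17653 (iv F156120)) (tt N14136 F149326) (tt N18017 (iv F157863)) (tt N16136 F149327) (tt N14125 (iv D32063)))
theorem Q16138 : ∀ i, i < 16138 → P i := stepQ 16137 Q16137 (allL N16137 (tt N14367 F149328) (tt N14169 F149329) (tt N16137 F149330) (tt N18017 (iv F157861)) (tt N16137 F149331) (tt N17655 (iv F156129)) (tt N14188 F149332) (tt N14128 F149333) (tt N16137 F149334) (tt N14127 (iv D32064)))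
theorem Q16139 : ∀ i, i < 16139 → P i := stepQ 16138 Q16138 (allL N16138 (tt N14206 F149335) (tt N14132 F149336) (tt N14170 F149337) (tt N16138 F149338) (tt N14476 F149339) (tt N14141 F149340) (tt N18008 (iv F157819)) (tt N17590 (iv F155765)) (tt N14130 (iv D32065)) (tt N17656 (iv F156138)))
theorem Q16140 : ∀ i, i < 16140 → P i := stepQ 16139 Q16139 (allL N16139 (tt N14445 F149341) (tt N14476 F149342) (tt N14134 F149343) (tt N15023 F149344) (tt N14132 F149345) (tt N17385 (iv F154729)) (tt N18010 (iv F157831)) (tt N17353 (iv F154552)) (tt N14131 (iv D32066)) (tt N17344 (iv F154497)))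
theorem Q16141 : ∀ i, i < 16141 → P i := stepQ 16140 Q16140 (allL N16140 (tt N14289 F149346) (tt N17656 (iv F156131)) (tt N14136 F149347) (tt N16140 F149348) (tt N17344 (iv F154493)) (tt N14143 F149349) (tt N18012 (iv F157838)) (tt N14183 F149350) (tt N16140 F149351) (tt N14132 (iv D32067)))
theorem Q16142 : ∀ i, i < 16142 → P i := stepQ 16141 Q16141 (allL N16141 (tt N14146 F149352) (tt N14173 F149353) (tt N17992 (iv F157719)) (tt N16141 F149354) (tt N14135 F149355) (tt N14573 (iv F149357)) (tt N14133 (iv D32068)) (tt N18013 (iv F157844)) (tt N17720 (iv F156429)) (tt N16141 F149356))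
theorem Q16143 : ∀ i, i < 16143 → P i := stepQ 16142 Q16142 (allL N16142 (tt N14775 F149358) (tt N14175 F149359) (tt N17385 (iv F154726)) (tt N16142 F149360) (tt N14144 F149361) (tt N14134 (iv D32069)) (tt N18018 D33945) (tt N14176 F149362) (tt N16142 F149363) (tt N14174 (iv F149364)))
theorem Q16144 : ∀ i, i < 16144 → P i := stepQ 16143 Q16143 (allL N16143 (tt N14314 F149365) (tt N14176 F149366) (tt N17344 (iv F154491)) (tt N16143 F149367) (tt N14136 F149368) (tt N14174 F149369) (tt N18016 (iv F157857)) (tt N14175 F149370) (tt N16143 F149371) (tt N14134 (iv D32070)))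
theorem Q16145 : ∀ i, i < 16145 → P i := stepQ 16144 Q16144 (allL N16144 (tt N14522 F149372) (tt N17376 (iv F154664)) (tt N14144 F149373) (tt N14198 F149374) (tt N17385 (iv F154728)) (tt N14142 (iv D32071)) (tt N14245 (iv F149378)) (tt N14172 F149375) (tt N16144 F149376) (tt N14171 F149377))
theorem Q16146 : ∀ i, i < 16146 → P i := stepQ 16145 Q16145 (allL N16145 (tt N14795 F149379) (tt N14185 F149380) (tt N14245 F149381) (tt N14145 F149382) (tt N18018 (iv F157869)) (tt N17716 (iv F156408)) (tt N14144 (iv D32072)) (tt N18019 D33946) (tt N16145 F149383) (tt N14177 F149384))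
theorem Q16147 : ∀ i, i < 16147 → P i := stepQ 16146 Q16146 (allL N16146 (tt N14876 F149385) (tt N14188 F149386) (tt N14197 F149387) (tt N18019 (iv F157875)) (tt N16146 F149388) (tt N17719 (iv F156423)) (tt N14169 F149389) (tt N14145 (iv D32073)) (tt N16146 F149390) (tt N14168 F149391))
theorem Q16148 : ∀ i, i < 16148 → P i := stepQ 16147 Q16147 (allL N16147 (tt N14573 F149392) (tt N14147 F149393) (tt N17993 (iv F157726)) (tt N16147 F149394) (tt N14571 F149395) (tt N14146 (iv D32074)) (tt N16147 F149396) (tt N18020 D33947) (tt N18021 D33948) (tt N16147 F149397))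
theorem Q16149 : ∀ i, i < 16149 → P i := stepQ 16148 Q16148 (allL N16148 (tt N18013 (iv F157840)) (tt N14148 F149398) (tt N17994 (iv F157732)) (tt N16148 F149399) (tt N14160 F149400) (tt N18020 (iv F157883)) (tt N17300 (iv F154235)) (tt N14146 (iv D32075)) (tt N17722 (iv F156438)) (tt N16148 F149401))
theorem Q16150 : ∀ i, i < 16150 → P i := stepQ 16149 Q16149 (allL N16149 (tt N15004 F149402) (tt N18020 (iv F157880)) (tt N14150 F149403) (tt N16149 F149404) (tt N17438 (iv F154974)) (tt N14148 F149405) (tt N18022 D33949) (tt N14147 (iv D32076)) (tt N18023 D33950) (tt N16149 F149406))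
theorem Q16151 : ∀ i, i < 16151 → P i := stepQ 16150 Q16150 (allL N16150 (tt N15005 F149407) (tt N18021 (iv F157886)) (tt N14151 F149408) (tt N16150 F149409) (tt N17439 (iv F154982)) (tt N17725 (iv F156450)) (tt N16150 F149410) (tt N18023 (iv F157900)) (tt N14147 (iv D32077)) (tt N18024 D33951))
theorem Q16152 : ∀ i, i < 16152 → P i := stepQ 16151 Q16151 (allL N16151 (tt N15006 F149411) (tt N17998 (iv F157755)) (tt N17438 (iv F154972)) (tt N16151 F149412) (tt N14150 F149413) (tt N14163 F149414) (tt N18025 D33952) (tt N14149 (iv D32078)) (tt N18026 D33953) (tt N16151 F149415))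
theorem Q16153 : ∀ i, i < 16153 → P i := stepQ 16152 Q16152 (allL N16152 (tt N15007 F149416) (tt N17999 (iv F157761)) (tt N17439 (iv F154980)) (tt N16152 F149417) (tt N14151 F149418) (tt N18027 D33954) (tt N16152 F149419) (tt N18026 (iv F157916)) (tt N14149 (iv D32079)) (tt N18028 D33955))
theorem Q16154 : ∀ i, i < 16154 → P i := stepQ 16153 Q16153 (allL N16153 (tt N15008 F149420) (tt N18000 (iv F157766)) (tt N18022 (iv F157891)) (tt N14152 F149421) (tt N18025 (iv F157909)) (tt N17301 (iv F154242)) (tt N14150 (iv D32080)) (tt N16153 F149422) (tt N18029 D33956) (tt N16153 F149423))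
theorem Q16155 : ∀ i, i < 16155 → P i := stepQ 16154 Q16154 (allL N16154 (tt N15009 F149424) (tt N18001 (iv F157772)) (tt N18023 (iv F157898)) (tt N14153 F149425) (tt N18026 (iv F157915)) (tt N17729 (iv F156460)) (tt N18029 (iv F157927)) (tt N14151 F149426) (tt N14150 (iv D32081)) (tt N18030 D33957))
theorem Q16156 : ∀ i, i < 16156 → P i := stepQ 16155 Q16155 (allL N16155 (tt N15010 F149427) (tt N18002 (iv F157776)) (tt N18024 (iv F157902)) (tt N14154 F149428) (tt N18028 (iv F157922)) (tt N17730 (iv F156464)) (tt N16155 F149429) (tt N18030 (iv F157931)) (tt N16155 F149430) (tt N14151 (iv D32082)))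
theorem Q16157 : ∀ i, i < 16157 → P i := stepQ 16156 Q16156 (allL N16156 (tt N15011 F149431) (tt N18003 (iv F157782)) (tt N16156 F149432) (tt N18029 (iv F157926)) (tt N16156 F149433) (tt N18031 D33958) (tt N14153 F149434) (tt N16156 F149435) (tt N14152 (iv D32083)) (tt N18032 D33959))
theorem Q16158 : ∀ i, i < 16158 → P i := stepQ 16157 Q16157 (allL N16157 (tt N15012 F149436) (tt N18004 (iv F157788)) (tt N16157 F149437) (tt N18030 (iv F157930)) (tt N16157 F149438) (tt N17732 (iv F156470)) (tt N18032 (iv F157939)) (tt N14154 F149439) (tt N16157 F149440) (tt N14153 (iv D32084)))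
theorem Q16159 : ∀ i, i < 16159 → P i := stepQ 16158 Q16158 (allL N16158 (tt N14744 F149441) (tt N18005 (iv F157794)) (tt N14230 F149442) (tt N14158 F149443) (tt N14531 F149444) (tt N17739 (iv F156505)) (tt N14234 F149445) (tt N14157 F149446) (tt N14156 (iv D32085)) (tt N17379 (iv F154692)))
theorem Q16160 : ∀ i, i < 16160 → P i := stepQ 16159 Q16159 (allL N16159 (tt N14241 F149447) (tt N14161 F149448) (tt N18007 (iv F157808)) (tt N14190 F149449) (tt N14572 F149450) (tt N14160 F149451) (tt N14216 F149452) (tt N14159 (iv D32086)) (tt N18033 D33960) (tt N16159 F149453))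
theorem Q16161 : ∀ i, i < 16161 → P i := stepQ 16160 Q16160 (allL N16160 (tt N14232 F149454) (tt N14162 F149455) (tt N18008 (iv F157816)) (tt N14191 F149456) (tt N14548 F149457) (tt N17755 (iv F156580)) (tt N14170 F149458) (tt N18033 (iv F157947)) (tt N14159 (iv D32087)) (tt N17770 (iv F156639)))
theorem Q16162 : ∀ i, i < 16162 → P i := stepQ 16161 Q16161 (allL N16161 (tt N15013 F149459) (tt N18033 (iv F157943)) (tt N14166 F149460) (tt N14192 F149461) (tt N17416 (iv F154885)) (tt N17760 (iv F156599)) (tt N14244 F149462) (tt N14162 F149463) (tt N14161 (iv D32088)) (tt N18034 D33961))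
theorem Q16163 : ∀ i, i < 16163 → P i := stepQ 16162 Q16162 (allL N16162 (tt N14816 F149464) (tt N17770 (iv F156635)) (tt N14167 F149465) (tt N14193 F149466) (tt N17402 (iv F154822)) (tt N17761 (iv F156604)) (tt N14172 F149467) (tt N18034 (iv F157952)) (tt N16162 F149468) (tt N14162 (iv D32089)))
theorem Q16164 : ∀ i, i < 16164 → P i := stepQ 16163 Q16163 (allL N16163 (tt N15003 F149469) (tt N18013 (iv F157841)) (tt N14242 F149470) (tt N16163 F149471) (tt N14165 F149472) (tt N14576 (iv F149475)) (tt N14163 (iv D32090)) (tt N14173 F149473) (tt N18035 D33962) (tt N16163 F149474))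
theorem Q16165 : ∀ i, i < 16165 → P i := stepQ 16164 Q16164 (allL N16164 (tt N15014 F149476) (tt N18014 (iv F157847)) (tt N17416 (iv F154883)) (tt N16164 F149477) (tt N14166 F149478) (tt N18036 D33963) (tt N18035 (iv F157958)) (tt N14164 F149479) (tt N14163 (iv D32091)) (tt N18037 D33964))
theorem Q16166 : ∀ i, i < 16166 → P i := stepQ 16165 Q16165 (allL N16165 (tt N15015 F149480) (tt N18015 (iv F157851)) (tt N17415 (iv F154879)) (tt N16165 F149481) (tt N17764 (iv F156613)) (tt N14164 (iv D32092)) (tt N18038 D33965) (tt N18036 (iv F157962)) (tt N18027 (iv F157919)) (tt N18039 D33966))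
theorem Q16167 : ∀ i, i < 16167 → P i := stepQ 16166 Q16166 (allL N16166 (tt N15016 F149482) (tt N18016 (iv F157854)) (tt N17402 (iv F154820)) (tt N16166 F149483) (tt N14167 F149484) (tt N18039 (iv F157973)) (tt N14176 F149485) (tt N18037 (iv F157966)) (tt N16166 F149486) (tt N14164 (iv D32093)))
theorem Q16168 : ∀ i, i < 16168 → P i := stepQ 16167 Q16167 (allL N16167 (tt N14805 F149487) (tt N17752 (iv F156565)) (tt N14244 F149488) (tt N14168 F149489) (tt N18035 (iv F157957)) (tt N18040 D33967) (tt N14166 F149490) (tt N14177 F149491) (tt N14165 (iv D32094)) (tt N18019 (iv F157878)))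
theorem Q16169 : ∀ i, i < 16169 → P i := stepQ 16168 Q16168 (allL N16168 (tt N15017 F149492) (tt N18017 (iv F157860)) (tt N18034 (iv F157949)) (tt N14169 F149493) (tt N18037 (iv F157965)) (tt N17767 (iv F156623)) (tt N18019 (iv F157876)) (tt N14167 F149494) (tt N16168 F149495) (tt N14166 (iv D32095)))
theorem Q16170 : ∀ i, i < 16170 → P i := stepQ 16169 Q16169 (allL N16169 (tt N14888 F149496) (tt N17850 (iv F156960)) (tt N14196 F149497) (tt N18040 (iv F157976)) (tt N18041 D33968) (tt N14168 (iv D32096)) (tt N17768 (iv F156627)) (tt N14178 F149498) (tt N14258 F149499) (tt N17719 (iv F156424)))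
theorem Q16171 : ∀ i, i < 16171 → P i := stepQ 16170 Q16170 (allL N16170 (tt N14781 F149500) (tt N17720 (iv F156426)) (tt N14243 F149501) (tt N16170 F149502) (tt N14177 F149503) (tt N18042 D33969) (tt N14174 F149504) (tt N18035 (iv F157959)) (tt N14173 (iv D32097)) (tt N18018 (iv F157871)))
theorem Q16172 : ∀ i, i < 16172 → P i := stepQ 16171 Q16171 (allL N16171 (tt N15018 F149505) (tt N18018 (iv F157866)) (tt N17363 (iv F154611)) (tt N16171 F149506) (tt N14185 F149507) (tt N18038 (iv F157970)) (tt N14175 (iv D32098)) (tt N18043 D33970) (tt N16171 F149508) (tt N17720 (iv F156430)))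
theorem Q16173 : ∀ i, i < 16173 → P i := stepQ 16172 Q16172 (allL N16172 (tt N14804 F149509) (tt N17751 (iv F156559)) (tt N14237 F149510) (tt N14178 F149511) (tt N18044 D33971) (tt N14177 (iv D32099)) (tt N14186 F149512) (tt N18040 (iv F157977)) (tt N14233 F149513) (tt N17716 (iv F156409)))
theorem Q16174 : ∀ i, i < 16174 → P i := stepQ 16173 Q16173 (allL N16173 (tt N14887 F149514) (tt N17463 (iv F155099)) (tt N14199 F149515) (tt N18045 D33972) (tt N14178 (iv D32100)) (tt N16173 F149516) (tt N14187 F149517) (tt N18041 (iv F157982)) (tt N14257 F149518) (tt N17334 (iv F154432)))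
theorem Q16175 : ∀ i, i < 16175 → P i := stepQ 16174 Q16174 (allL N16174 (tt N14750 F149519) (tt N17809 (iv F156809)) (tt N14226 F149520) (tt N14180 F149521) (tt N18046 D33973) (tt N14179 (iv D32101)) (tt N14233 F149522) (tt N17834 (iv F156899)) (tt N14186 F149523) (tt N17150 (iv F153330)))
theorem Q16176 : ∀ i, i < 16176 → P i := stepQ 16175 Q16175 (allL N16175 (tt N14928 F149524) (tt N17464 (iv F155106)) (tt N14201 F149525) (tt N18047 D33974) (tt N14180 (iv D32102)) (tt N16175 F149526) (tt N14257 F149527) (tt N17835 (iv F156904)) (tt N14187 F149528) (tt N17508 (iv F155351)))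
theorem Q16177 : ∀ i, i < 16177 → P i := stepQ 16176 Q16176 (allL N16176 (tt N14506 F149529) (tt N14183 F149530) (tt N17376 (iv F154665)) (tt N16176 F149531) (tt N14512 F149532) (tt N14181 (iv D32103)) (tt N18048 D33975) (tt N17656 (iv F156136)) (tt N16176 F149533) (tt N17590 (iv F155767)))
theorem Q16178 : ∀ i, i < 16178 → P i := stepQ 16177 Q16177 (allL N16177 (tt N15019 F149534) (tt N18048 (iv F158011)) (tt N14185 F149535) (tt N16177 F149536) (tt N17363 (iv F154613)) (tt N17842 (iv F156935)) (tt N14183 (iv D32104)) (tt N18049 D33976) (tt N16177 F149537) (tt N17643 (iv F156085)))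
theorem Q16179 : ∀ i, i < 16179 → P i := stepQ 16178 Q16178 (allL N16178 (tt N14754 F149538) (tt N17604 (iv F155850)) (tt N14186 F149539) (tt N14202 F149540) (tt N18050 D33977) (tt N14184 (iv D32105)) (tt N14237 F149541) (tt N17843 (iv F156939)) (tt N14226 F149542) (tt N17713 (iv F156391)))
theorem Q16180 : ∀ i, i < 16180 → P i := stepQ 16179 Q16179 (allL N16179 (tt N15020 F149543) (tt N18019 (iv F157873)) (tt N18049 (iv F158018)) (tt N14188 F149544) (tt N18043 (iv F157990)) (tt N17846 (iv F156950)) (tt N18017 (iv F157862)) (tt N14185 (iv D32106)) (tt N16179 F149545) (tt N17752 (iv F156569)))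
theorem Q16181 : ∀ i, i < 16181 → P i := stepQ 16180 Q16180 (allL N16180 (tt N14841 F149546) (tt N17808 (iv F156805)) (tt N18050 (iv F158022)) (tt N18051 D33978) (tt N14186 (iv D32107)) (tt N17699 (iv F156320)) (tt N18044 (iv F157994)) (tt N17847 (iv F156952)) (tt N18046 (iv F158004)) (tt N17698 F156316))
theorem Q16182 : ∀ i, i < 16182 → P i := stepQ 16181 Q16181 (allL N16181 (tt N14927 F149547) (tt N17453 (iv F155057)) (tt N17399 (iv F154802)) (tt N14187 (iv D32108)) (tt N18051 (iv F158027)) (tt N14189 F149548) (tt N18045 (iv F157999)) (tt N17848 (iv F156955)) (tt N18047 (iv F158009)) (tt N17327 (iv F154390)))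
theorem Q16183 : ∀ i, i < 16183 → P i := stepQ 16182 Q16182 (allL N16182 (tt N14256 F149549) (tt N14192 F149550) (tt N16182 F149551) (tt N18033 (iv F157944)) (tt N14224 F149552) (tt N17870 (iv F157074)) (tt N14218 F149553) (tt N14191 F149554) (tt N14190 (iv D32109)) (tt N17885 (iv F157153)))
theorem Q16184 : ∀ i, i < 16184 → P i := stepQ 16183 Q16183 (allL N16183 (tt N14903 F149555) (tt N17885 (iv F157148)) (tt N14195 F149556) (tt N18034 (iv F157950)) (tt N14252 F149557) (tt N17878 (iv F157110)) (tt N14246 F149558) (tt N14193 F149559) (tt N16183 F149560) (tt N14192 (iv D32110)))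
theorem Q16185 : ∀ i, i < 16185 → P i := stepQ 16184 Q16184 (allL N16184 (tt N15021 F149561) (tt N16184 F149562) (tt N18041 (iv F157980)) (tt N14386 F149563) (tt N14196 (iv D32111)) (tt N16184 F149564) (tt N17883 (iv F157138)) (tt N14199 F149565) (tt N14259 F149566) (tt N17471 (iv F155151)))
theorem Q16186 : ∀ i, i < 16186 → P i := stepQ 16185 Q16185 (allL N16185 (tt N15022 F149567) (tt N16185 F149568) (tt N17719 (iv F156422)) (tt N14262 F149569) (tt N17471 (iv F155148)) (tt N14197 F149570) (tt N17884 (iv F157145)) (tt N14200 F149571) (tt N17469 (iv F155137)) (tt N14196 (iv D32112)))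
theorem Q16187 : ∀ i, i < 16187 → P i := stepQ 16186 Q16186 (allL N16186 (tt N14757 F149572) (tt N17607 (iv F155868)) (tt N14204 F149573) (tt N17713 (iv F156389)) (tt N14328 F149574) (tt N14203 F149575) (tt N14240 F149576) (tt N17934 (iv F157379)) (tt N17157 (iv F153373)) (tt N14202 (iv D32113)))
theorem Q16188 : ∀ i, i < 16188 → P i := stepQ 16187 Q16187 (allL N16187 (tt N18008 (iv F157814)) (tt N14207 F149577) (tt N14232 F149578) (tt N16187 F149579) (tt N14477 F149580) (tt N18052 D33979) (tt N14206 (iv D32114)) (tt N18053 D33980) (tt N14212 F149581) (tt N17657 (iv F156144)))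
theorem Q16189 : ∀ i, i < 16189 → P i := stepQ 16188 Q16188 (allL N16188 (tt N17636 (iv F156039)) (tt N18052 (iv F158028)) (tt N14208 F149582) (tt N16188 F149583) (tt N18054 D33981) (tt N14207 (iv D32115)) (tt N17600 (iv F155829)) (tt N18055 D33982) (tt N18056 D33983) (tt N17658 (iv F156149)))
theorem Q16190 : ∀ i, i < 16190 → P i := stepQ 16189 Q16189 (allL N16189 (tt N17637 (iv F156044)) (tt N18053 (iv F158031)) (tt N14209 F149584) (tt N16189 F149585) (tt N14479 F149586) (tt N18055 (iv F158040)) (tt N17593 (iv F155785)) (tt N14207 (iv D32116)) (tt N14214 F149587) (tt N17659 (iv F156157)))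
theorem Q16191 : ∀ i, i < 16191 → P i := stepQ 16190 Q16190 (allL N16190 (tt N17638 (iv F156051)) (tt N14235 F149588) (tt N18054 (iv F158036)) (tt N14298 F149589) (tt N14208 (iv D32117)) (tt N14480 F149590) (tt N17602 (iv F155842)) (tt N18057 D33984) (tt N18058 D33985) (tt N17660 (iv F156163)))
theorem Q16192 : ∀ i, i < 16192 → P i := stepQ 16191 Q16191 (allL N16191 (tt N17639 (iv F156057)) (tt N14236 F149591) (tt N18055 (iv F158038)) (tt N14210 F149592) (tt N18057 (iv F158046)) (tt N14209 F149593) (tt N18059 D33986) (tt N14208 (iv D32118)) (tt N18060 D33987) (tt N17661 (iv F156168)))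
theorem Q16193 : ∀ i, i < 16193 → P i := stepQ 16192 Q16192 (allL N16192 (tt N17640 (iv F156062)) (tt N14237 F149594) (tt N18056 (iv F158041)) (tt N14211 F149595) (tt N18058 (iv F158050)) (tt N14217 F149596) (tt N17604 (iv F155853)) (tt N18060 (iv F158056)) (tt N14208 (iv D32119)) (tt N18061 D33988))
theorem Q16194 : ∀ i, i < 16194 → P i := stepQ 16193 Q16193 (allL N16193 (tt N17641 (iv F156067)) (tt N14238 F149597) (tt N16193 F149598) (tt N18059 (iv F158052)) (tt N14301 F149599) (tt N17597 (iv F155809)) (tt N14210 (iv D32120)) (tt N17605 (iv F155859)) (tt N18062 D33989) (tt N17663 (iv F156181)))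
theorem Q16195 : ∀ i, i < 16195 → P i := stepQ 16194 Q16194 (allL N16194 (tt N17642 (iv F156074)) (tt N14239 F149600) (tt N16194 F149601) (tt N18060 (iv F158054)) (tt N14302 F149602) (tt N14218 F149603) (tt N18062 (iv F158063)) (tt N14211 F149604) (tt N14210 (iv D32121)) (tt N18063 D33990))
theorem Q16196 : ∀ i, i < 16196 → P i := stepQ 16195 Q16195 (allL N16195 (tt N17501 (iv F155302)) (tt N14240 F149605) (tt N16195 F149606) (tt N18061 (iv F158058)) (tt N14303 F149607) (tt N14219 F149608) (tt N17607 (iv F155872)) (tt N18063 (iv F158068)) (tt N17665 (iv F156194)) (tt N14211 (iv D32122)))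
theorem Q16197 : ∀ i, i < 16197 → P i := stepQ 16196 Q16196 (allL N16196 (tt N18007 (iv F157806)) (tt N14214 F149609) (tt N14241 F149610) (tt N16196 F149611) (tt N14497 F149612) (tt N18006 (iv F157803)) (tt N17990 (iv F157707)) (tt N14212 (iv D32123)) (tt N18053 (iv F158035)) (tt N16196 F149613))
theorem Q16198 : ∀ i, i < 16198 → P i := stepQ 16197 Q16197 (allL N16197 (tt N14486 F149614) (tt N17992 (iv F157718)) (tt N14215 F149615) (tt N15049 (iv F149619)) (tt N14213 (iv D32124)) (tt N14498 F149616) (tt N14485 F149617) (tt N18064 D33991) (tt N18065 D33992) (tt N16197 F149618))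
theorem Q16199 : ∀ i, i < 16199 → P i := stepQ 16198 Q16198 (allL N16198 (tt N17990 (iv F157701)) (tt N18006 (iv F157800)) (tt N14216 F149620) (tt N16198 F149621) (tt N18064 (iv F158072)) (tt N14214 F149622) (tt N18007 (iv F157812)) (tt N14213 (iv D32125)) (tt N18066 D33993) (tt N16198 F149623))
theorem Q16200 : ∀ i, i < 16200 → P i := stepQ 16199 Q16199 (allL N16199 (tt N17591 (iv F155769)) (tt N17643 (iv F156081)) (tt N14217 F149624) (tt N16199 F149625) (tt N18065 (iv F158079)) (tt N18056 (iv F158043)) (tt N17590 F155768) (tt N18066 (iv F158084)) (tt N14213 (iv D32126)) (tt N18048 (iv F158016)))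
theorem Q16201 : ∀ i, i < 16201 → P i := stepQ 16200 Q16200 (allL N16200 (tt N14561 F149626) (tt N14242 F149627) (tt N18064 (iv F158070)) (tt N14220 F149628) (tt N14216 F149629) (tt N14501 F149630) (tt N14572 F149631) (tt N14215 (iv D32127)) (tt N18067 D33994) (tt N16200 F149632))
theorem Q16202 : ∀ i, i < 16202 → P i := stepQ 16201 Q16201 (allL N16201 (tt N14529 F149633) (tt N14243 F149634) (tt N18065 (iv F158077)) (tt N14221 F149635) (tt N14217 F149636) (tt N17901 (iv F157230)) (tt N14528 F149637) (tt N18067 (iv F158090)) (tt N14215 (iv D32128)) (tt N18068 D33995))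
theorem Q16203 : ∀ i, i < 16203 → P i := stepQ 16202 Q16202 (allL N16202 (tt N18005 (iv F157793)) (tt N14244 F149638) (tt N18066 (iv F158082)) (tt N14218 F149639) (tt N18067 (iv F158088)) (tt N18060 (iv F158055)) (tt N18033 (iv F157946)) (tt N14217 F149640) (tt N14216 (iv D32129)) (tt N18069 D33996))
theorem Q16204 : ∀ i, i < 16204 → P i := stepQ 16203 Q16203 (allL N16203 (tt N17377 (iv F154673)) (tt N14245 F149641) (tt N18048 (iv F158012)) (tt N14219 F149642) (tt N18068 (iv F158095)) (tt N18061 (iv F158059)) (tt N17376 F154672) (tt N18069 (iv F158100)) (tt N16203 F149643) (tt N14217 (iv D32130)))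
theorem Q16205 : ∀ i, i < 16205 → P i := stepQ 16204 Q16204 (allL N16204 (tt N17502 (iv F155309)) (tt N14246 F149644) (tt N16204 F149645) (tt N18069 (iv F158099)) (tt N14225 F149646) (tt N18063 (iv F158067)) (tt N17885 (iv F157151)) (tt N14219 F149647) (tt N16204 F149648) (tt N14218 (iv D32131)))
theorem Q16206 : ∀ i, i < 16206 → P i := stepQ 16205 Q16205 (allL N16205 (tt N14642 F149649) (tt N14247 F149650) (tt N15134 F149651) (tt N18067 (iv F158087)) (tt N14222 F149652) (tt N17903 (iv F157240)) (tt N14665 F149653) (tt N14221 F149654) (tt N14220 (iv D32132)) (tt N18070 D33997))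
theorem Q16207 : ∀ i, i < 16207 → P i := stepQ 16206 Q16206 (allL N16206 (tt N14633 F149655) (tt N14249 F149656) (tt N15061 F149657) (tt N18068 (iv F158094)) (tt N14223 F149658) (tt N17904 (iv F157246)) (tt N14632 F149659) (tt N18070 (iv F158107)) (tt N16206 F149660) (tt N14221 (iv D32133)))
theorem Q16208 : ∀ i, i < 16208 → P i := stepQ 16207 Q16207 (allL N16207 (tt N14702 F149661) (tt N14250 F149662) (tt N15175 F149663) (tt N14225 F149664) (tt N18070 (iv F158105)) (tt N14311 F149665) (tt N14716 F149666) (tt N14223 F149667) (tt N16207 F149668) (tt N14222 (iv D32134)))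
theorem Q16209 : ∀ i, i < 16209 → P i := stepQ 16208 Q16208 (allL N16208 (tt N14270 F149669) (tt N14251 F149670) (tt N16208 F149671) (tt N14730 F149672) (tt N18071 D33998) (tt N14224 (iv D32135)) (tt N14312 F149673) (tt N14268 F149674) (tt N16208 F149675) (tt N17936 (iv F157391)))
theorem Q16210 : ∀ i, i < 16210 → P i := stepQ 16209 Q16209 (allL N16209 (tt N14752 F149676) (tt N17602 (iv F155839)) (tt N18046 (iv F158002)) (tt N14323 F149677) (tt N14226 (iv D32136)) (tt N17611 (iv F155896)) (tt N14235 F149678) (tt N18072 D33999) (tt N18050 (iv F158025)) (tt N17152 (iv F153343)))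
theorem Q16211 : ∀ i, i < 16211 → P i := stepQ 16210 Q16210 (allL N16210 (tt N14753 F149679) (tt N17603 (iv F155845)) (tt N17834 (iv F156897)) (tt N14228 F149680) (tt N18072 (iv F158117)) (tt N14227 F149681) (tt N18073 D34000) (tt N14226 (iv D32137)) (tt N17843 (iv F156940)) (tt N17153 (iv F153348)))
theorem Q16212 : ∀ i, i < 16212 → P i := stepQ 16211 Q16211 (allL N16211 (tt N14755 F149682) (tt N17605 (iv F155855)) (tt N14253 F149683) (tt N18073 (iv F158119)) (tt N14326 F149684) (tt N14742 F149685) (tt N14228 (iv D32138)) (tt N14238 F149686) (tt N17928 (iv F157351)) (tt N17155 (iv F153360)))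
theorem Q16213 : ∀ i, i < 16213 → P i := stepQ 16212 Q16212 (allL N16212 (tt N14745 F149687) (tt N17594 (iv F155789)) (tt N17737 (iv F156493)) (tt N17388 (iv F154748)) (tt N14229 (iv D32139)) (tt N14532 F149688) (tt N14740 F149689) (tt N18074 D34001) (tt N17734 (iv F156481)) (tt N17380 (iv F154698)))
theorem Q16214 : ∀ i, i < 16214 → P i := stepQ 16213 Q16213 (allL N16213 (tt N14746 F149690) (tt N17595 (iv F155795)) (tt N17739 (iv F156503)) (tt N14231 F149691) (tt N18074 (iv F158123)) (tt N14230 F149692) (tt N18075 D34002) (tt N14229 (iv D32140)) (tt N17735 (iv F156487)) (tt N17381 (iv F154703)))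
theorem Q16215 : ∀ i, i < 16215 → P i := stepQ 16214 Q16214 (allL N16214 (tt N14748 F149693) (tt N17597 (iv F155806)) (tt N14254 F149694) (tt N18075 (iv F158126)) (tt N17391 (iv F154766)) (tt N14238 F149695) (tt N14231 (iv D32141)) (tt N14742 F149696) (tt N17853 (iv F156980)) (tt N17383 (iv F154717)))
theorem Q16216 : ∀ i, i < 16216 → P i := stepQ 16215 Q16215 (allL N16215 (tt N17755 (iv F156577)) (tt N14233 F149697) (tt N18052 (iv F158029)) (tt N14255 F149698) (tt N18076 D34003) (tt N14232 (iv D32142)) (tt N17809 (iv F156812)) (tt N18077 D34004) (tt N17751 (iv F156562)) (tt N17771 (iv F156642)))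
theorem Q16217 : ∀ i, i < 16217 → P i := stepQ 16216 Q16216 (allL N16216 (tt N18033 (iv F157942)) (tt N14234 F149699) (tt N18053 (iv F158032)) (tt N14256 F149700) (tt N14550 F149701) (tt N18077 (iv F158133)) (tt N18005 (iv F157797)) (tt N14232 (iv D32143)) (tt N14241 F149702) (tt N17772 (iv F156647)))
theorem Q16218 : ∀ i, i < 16218 → P i := stepQ 16217 Q16217 (allL N16217 (tt N17121 (iv F153129)) (tt N18076 (iv F158129)) (tt N14235 F149703) (tt N18078 D34005) (tt N14233 (iv D32144)) (tt N14551 F149704) (tt N18046 (iv F158003)) (tt N18079 D34006) (tt N18044 (iv F157995)) (tt N17773 (iv F156651)))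
theorem Q16219 : ∀ i, i < 16219 → P i := stepQ 16218 Q16218 (allL N16218 (tt N17122 (iv F153136)) (tt N18077 (iv F158131)) (tt N14236 F149705) (tt N14258 F149706) (tt N18079 (iv F158138)) (tt N14234 F149707) (tt N18080 D34007) (tt N14233 (iv D32145)) (tt N18040 (iv F157978)) (tt N17774 (iv F156656)))
theorem Q16220 : ∀ i, i < 16220 → P i := stepQ 16219 Q16219 (allL N16219 (tt N17123 (iv F153143)) (tt N18057 (iv F158044)) (tt N18079 (iv F158137)) (tt N14334 F149708) (tt N14236 F149709) (tt N14554 F149710) (tt N18081 D34008) (tt N14235 (iv D32146)) (tt N18082 D34009) (tt N17776 (iv F156665)))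
theorem Q16221 : ∀ i, i < 16221 → P i := stepQ 16220 Q16220 (allL N16220 (tt N17124 (iv F153149)) (tt N18058 (iv F158048)) (tt N18044 (iv F157993)) (tt N14335 F149711) (tt N14237 F149712) (tt N18083 D34010) (tt N18050 (iv F158024)) (tt N18082 (iv F158146)) (tt N14235 (iv D32147)) (tt N18084 D34011))
theorem Q16222 : ∀ i, i < 16222 → P i := stepQ 16221 Q16221 (allL N16221 (tt N17125 (iv F153155)) (tt N18059 (iv F158051)) (tt N18080 (iv F158140)) (tt N14238 F149713) (tt N18081 (iv F158143)) (tt N18075 (iv F158127)) (tt N14236 (iv D32148)) (tt N18073 (iv F158121)) (tt N18085 D34012) (tt N17778 (iv F156671)))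
theorem Q16223 : ∀ i, i < 16223 → P i := stepQ 16222 Q16222 (allL N16222 (tt N17126 (iv F153161)) (tt N18060 (iv F158053)) (tt N18040 (iv F157975)) (tt N14239 F149714) (tt N18082 (iv F158145)) (tt N14244 F149715) (tt N18085 (iv F158153)) (tt N14237 F149716) (tt N14236 (iv D32149)) (tt N18086 D34013))
theorem Q16224 : ∀ i, i < 16224 → P i := stepQ 16223 Q16223 (allL N16223 (tt N17127 (iv F153167)) (tt N18061 (iv F158057)) (tt N17716 (iv F156406)) (tt N14240 F149717) (tt N18084 (iv F158151)) (tt N14245 F149718) (tt N17713 (iv F156390)) (tt N18086 (iv F158156)) (tt N17780 (iv F156679)) (tt N14237 (iv D32150)))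
theorem Q16225 : ∀ i, i < 16225 → P i := stepQ 16224 Q16224 (allL N16224 (tt N17128 (iv F153174)) (tt N18062 (iv F158060)) (tt N14261 F149719) (tt N18085 (iv F158152)) (tt N14339 F149720) (tt N17877 (iv F157105)) (tt N14239 F149721) (tt N17928 (iv F157350)) (tt N14238 (iv D32151)) (tt N18087 D34014))
theorem Q16226 : ∀ i, i < 16226 → P i := stepQ 16225 Q16225 (allL N16225 (tt N17129 (iv F153181)) (tt N18063 (iv F158064)) (tt N14262 F149722) (tt N18086 (iv F158154)) (tt N14340 F149723) (tt N14246 F149724) (tt N18087 (iv F158159)) (tt N14240 F149725) (tt N17782 (iv F156689)) (tt N14239 (iv D32152)))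
theorem Q16227 : ∀ i, i < 16227 → P i := stepQ 16226 Q16226 (allL N16226 (tt N17130 (iv F153188)) (tt N18067 (iv F158086)) (tt N18035 (iv F157955)) (tt N14247 F149726) (tt N14244 F149727) (tt N18088 D34015) (tt N17416 (iv F154886)) (tt N14243 F149728) (tt N14242 (iv D32153)) (tt N18089 D34016))
theorem Q16228 : ∀ i, i < 16228 → P i := stepQ 16227 Q16227 (allL N16227 (tt N17131 (iv F153195)) (tt N17901 (iv F157228)) (tt N18042 (iv F157985)) (tt N14248 F149729) (tt N18083 (iv F158148)) (tt N14243 (iv D32154)) (tt N18090 D34017) (tt N18088 (iv F158161)) (tt N14583 F149730) (tt N18091 D34018))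
theorem Q16229 : ∀ i, i < 16229 → P i := stepQ 16228 Q16228 (allL N16228 (tt N17132 (iv F153200)) (tt N18068 (iv F158092)) (tt N18018 (iv F157867)) (tt N14249 F149731) (tt N14245 F149732) (tt N18091 (iv F158170)) (tt N17385 (iv F154730)) (tt N18089 (iv F158165)) (tt N16228 F149733) (tt N14243 (iv D32155)))
theorem Q16230 : ∀ i, i < 16230 → P i := stepQ 16229 Q16229 (allL N16229 (tt N17133 (iv F153207)) (tt N18069 (iv F158098)) (tt N18019 (iv F157874)) (tt N14246 F149734) (tt N18089 (iv F158164)) (tt N18086 (iv F158155)) (tt N18034 (iv F157951)) (tt N14245 F149735) (tt N16229 F149736) (tt N14244 (iv D32156)))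
theorem Q16231 : ∀ i, i < 16231 → P i := stepQ 16230 Q16230 (allL N16230 (tt N17134 (iv F153214)) (tt N17903 (iv F157237)) (tt N16230 F149737) (tt N18088 (iv F158160)) (tt N14358 F149738) (tt N14247 (iv D32157)) (tt N18092 D34019) (tt N14248 F149739) (tt N14590 F149740) (tt N18093 D34020))
theorem Q16232 : ∀ i, i < 16232 → P i := stepQ 16231 Q16231 (allL N16231 (tt N17135 (iv F153220)) (tt N18070 (iv F158103)) (tt N16231 F149741) (tt N18089 (iv F158163)) (tt N14250 F149742) (tt N18093 (iv F158176)) (tt N17519 (iv F155410)) (tt N14249 F149743) (tt N16231 F149744) (tt N14247 (iv D32158)))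
theorem Q16233 : ∀ i, i < 16233 → P i := stepQ 16232 Q16232 (allL N16232 (tt N17136 (iv F153227)) (tt N17856 (iv F156994)) (tt N16232 F149745) (tt N18090 (iv F158167)) (tt N14360 F149746) (tt N17466 (iv F155119)) (tt N14248 (iv D32159)) (tt N18094 D34021) (tt N14591 F149747) (tt N18095 D34022))
theorem Q16234 : ∀ i, i < 16234 → P i := stepQ 16233 Q16233 (allL N16233 (tt N17137 (iv F153234)) (tt N17904 (iv F157243)) (tt N16233 F149748) (tt N18091 (iv F158169)) (tt N14361 F149749) (tt N14249 F149750) (tt N18095 (iv F158186)) (tt N18093 (iv F158177)) (tt N17919 (iv F157317)) (tt N14248 (iv D32160)))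
theorem Q16235 : ∀ i, i < 16235 → P i := stepQ 16234 Q16234 (allL N16234 (tt N17138 (iv F153240)) (tt N18071 (iv F158110)) (tt N14263 F149751) (tt N18096 D34023) (tt N14251 (iv D32161)) (tt N17875 F157096) (tt N14364 F149752) (tt N17144 (iv F153289)) (tt N16234 F149753) (tt N18097 D34024))
theorem Q16236 : ∀ i, i < 16236 → P i := stepQ 16235 Q16235 (allL N16235 (tt N14947 F149754) (tt N17936 (iv F157387)) (tt N14264 F149755) (tt N17571 (iv F155650)) (tt N18097 (iv F158191)) (tt N14252 F149756) (tt N14365 F149757) (tt N14945 F149758) (tt N18098 D34025) (tt N14251 (iv D32162)))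
theorem Q16237 : ∀ i, i < 16237 → P i := stepQ 16236 Q16236 (allL N16236 (tt N17868 (iv F157061)) (tt N14257 F149759) (tt N16236 F149760) (tt N18099 D34026) (tt N14255 (iv D32163)) (tt N14269 F149761) (tt N17464 (iv F155110)) (tt N18100 D34027) (tt N17463 F155104) (tt N17886 (iv F157158)))
theorem Q16238 : ∀ i, i < 16238 → P i := stepQ 16237 Q16237 (allL N16237 (tt N17870 (iv F157071)) (tt N14258 F149762) (tt N16237 F149763) (tt N18077 (iv F158132)) (tt N18100 (iv F158206)) (tt N14256 F149764) (tt N18101 D34028) (tt N14255 (iv D32164)) (tt N17850 F156964) (tt N17887 (iv F157162)))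
theorem Q16239 : ∀ i, i < 16239 → P i := stepQ 16238 Q16238 (allL N16238 (tt N17139 (iv F153248)) (tt N18099 (iv F158202)) (tt N14379 F149765) (tt N14257 (iv D32165)) (tt N18078 (iv F158135)) (tt N14271 F149766) (tt N18047 (iv F158008)) (tt N18102 D34029) (tt N18045 (iv F158000)) (tt N17888 (iv F157167)))
theorem Q16240 : ∀ i, i < 16240 → P i := stepQ 16239 Q16239 (allL N16239 (tt N17140 (iv F153255)) (tt N18100 (iv F158204)) (tt N14259 F149767) (tt N18102 (iv F158211)) (tt N14258 F149768) (tt N14272 F149769) (tt N18103 D34030) (tt N14257 (iv D32166)) (tt N18041 (iv F157983)) (tt N17889 (iv F157173)))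
theorem Q16241 : ∀ i, i < 16241 → P i := stepQ 16240 Q16240 (allL N16240 (tt N17141 (iv F153262)) (tt N18101 (iv F158208)) (tt N14260 F149770) (tt N18080 (iv F158141)) (tt N18103 (iv F158214)) (tt N17740 F156511) (tt N14258 (iv D32167)) (tt N17792 (iv F156735)) (tt N17768 (iv F156629)) (tt N17890 (iv F157176)))
theorem Q16242 : ∀ i, i < 16242 → P i := stepQ 16241 Q16241 (allL N16241 (tt N17142 (iv F153269)) (tt N16241 F149771) (tt N18103 (iv F158213)) (tt N14385 F149772) (tt N14260 F149773) (tt N18104 D34031) (tt N14259 (iv D32168)) (tt N17899 (iv F157220)) (tt N17883 (iv F157140)) (tt N17892 (iv F157187)))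
theorem Q16243 : ∀ i, i < 16243 → P i := stepQ 16242 Q16242 (allL N16242 (tt N17143 (iv F153276)) (tt N16242 F149774) (tt N18087 (iv F158157)) (tt N17884 (iv F157143)) (tt N14390 F149775) (tt N17882 (iv F157132)) (tt N14262 F149776) (tt N17933 (iv F157374)) (tt N17895 (iv F157200)) (tt N14261 (iv D32169)))
theorem Q16244 : ∀ i, i < 16244 → P i := stepQ 16243 Q16243 (allL N16243 (tt N15169 F149777) (tt N16243 F149778) (tt N18105 D34032) (tt N14263 (iv D32170)) (tt N16243 F149779) (tt N17496 F155280) (tt N14398 F149780) (tt N15167 F149781) (tt N16243 F149782) (tt N15166 (iv F149783)))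
theorem Q16245 : ∀ i, i < 16245 → P i := stepQ 16244 Q16244 (allL N16244 (tt N15107 F149784) (tt N16244 F149785) (tt N18097 (iv F158190)) (tt N15166 F149786) (tt N14264 F149787) (tt N17881 (iv F157126)) (tt N14399 F149788) (tt N15104 F149789) (tt N15103 (iv F149790)) (tt N14263 (iv D32171)))
theorem Q16246 : ∀ i, i < 16246 → P i := stepQ 16245 Q16245 (allL N16245 (tt N15105 F149791) (tt N16245 F149792) (tt N18098 (iv F158196)) (tt N16245 F149793) (tt N15103 F149794) (tt N16245 F149795) (tt N14400 F149796) (tt N15102 F149797) (tt N14264 (iv D32172)) (tt N16245 F149798))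
theorem Q16247 : ∀ i, i < 16247 → P i := stepQ 16246 Q16246 (allL N16246 (tt N15224 F149799) (tt N16246 F149800) (tt N17164 (iv F153419)) (tt N14441 F149801) (tt N14266 F149802) (tt N18106 D34033) (tt N14265 (iv D32173)) (tt N16246 F149803) (tt N14438 F149804) (tt N17568 (iv F155634)))
theorem Q16248 : ∀ i, i < 16248 → P i := stepQ 16247 Q16247 (allL N16247 (tt N14269 F149805) (tt N17144 (iv F153285)) (tt N16247 F149806) (tt N18107 D34034) (tt N14268 (iv D32174)) (tt N17868 F157066) (tt N16247 F149807) (tt N18071 (iv F158113)) (tt N16247 F149808) (tt N17935 (iv F157384)))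
theorem Q16249 : ∀ i, i < 16249 → P i := stepQ 16248 Q16248 (allL N16248 (tt N18107 (iv F158230)) (tt N14271 F149809) (tt N18108 D34035) (tt N14269 (iv D32175)) (tt N14731 F149810) (tt N18099 (iv F158203)) (tt N16248 F149811) (tt N18109 D34036) (tt N16248 F149812) (tt N17938 (iv F157405)))
theorem Q16250 : ∀ i, i < 16250 → P i := stepQ 16249 Q16249 (allL N16249 (tt N18071 (iv F158109)) (tt N14272 F149813) (tt N16249 F149814) (tt N18109 (iv F158241)) (tt N14270 F149815) (tt N18100 (iv F158207)) (tt N18110 D34037) (tt N14269 (iv D32176)) (tt N16249 F149816) (tt N17939 (iv F157411)))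
theorem Q16251 : ∀ i, i < 16251 → P i := stepQ 16250 Q16250 (allL N16250 (tt N14312 F149817) (tt N14273 F149818) (tt N16250 F149819) (tt N14733 F149820) (tt N18110 (iv F158247)) (tt N14287 F149821) (tt N14270 (iv D32177)) (tt N16250 F149822) (tt N16250 F149823) (tt N17940 (iv F157418)))
theorem Q16252 : ∀ i, i < 16252 → P i := stepQ 16251 Q16251 (allL N16251 (tt N17146 (iv F153299)) (tt N18109 (iv F158240)) (tt N14404 F149824) (tt N14272 F149825) (tt N14734 F149826) (tt N18102 (iv F158212)) (tt N18111 D34038) (tt N14271 (iv D32178)) (tt N16251 F149827) (tt N17942 (iv F157431)))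
theorem Q16253 : ∀ i, i < 16253 → P i := stepQ 16252 Q16252 (allL N16252 (tt N17147 (iv F153305)) (tt N18110 (iv F158245)) (tt N14274 F149828) (tt N18111 (iv F158251)) (tt N14273 F149829) (tt N18112 D34039) (tt N14272 (iv D32179)) (tt N16252 F149830) (tt N16252 F149831) (tt N17943 (iv F157437)))
theorem Q16254 : ∀ i, i < 16254 → P i := stepQ 16253 Q16253 (allL N16253 (tt N17148 (iv F153312)) (tt N16253 F149832) (tt N18112 (iv F158255)) (tt N14406 F149833) (tt N18106 (iv F158227)) (tt N14274 (iv D32180)) (tt N18104 (iv F158217)) (tt N16253 F149834) (tt N18113 D34040) (tt N17945 (iv F157449)))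
theorem Q16255 : ∀ i, i < 16255 → P i := stepQ 16254 Q16254 (allL N16254 (tt N14298 F149835) (tt N17152 (iv F153339)) (tt N17788 (iv F156715)) (tt N17638 (iv F156053)) (tt N14275 (iv D32181)) (tt N14740 F149836) (tt N17660 (iv F156162)) (tt N18114 D34041) (tt N18115 D34042) (tt N17602 (iv F155843)))
theorem Q16256 : ∀ i, i < 16256 → P i := stepQ 16255 Q16255 (allL N16255 (tt N14299 F149837) (tt N17153 (iv F153345)) (tt N17833 (iv F156892)) (tt N14277 F149838) (tt N18114 (iv F158265)) (tt N14276 F149839) (tt N18116 D34043) (tt N14275 (iv D32182)) (tt N18117 D34044) (tt N17603 (iv F155848)))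
theorem Q16257 : ∀ i, i < 16257 → P i := stepQ 16256 Q16256 (allL N16256 (tt N14300 F149840) (tt N17154 (iv F153350)) (tt N14976 F149841) (tt N14278 F149842) (tt N18115 (iv F158269)) (tt N14280 F149843) (tt N17662 (iv F156174)) (tt N18117 (iv F158277)) (tt N14275 (iv D32183)) (tt N18118 D34045))
theorem Q16258 : ∀ i, i < 16258 → P i := stepQ 16257 Q16257 (allL N16257 (tt N14301 F149844) (tt N17155 (iv F153355)) (tt N16257 F149845) (tt N18116 (iv F158272)) (tt N17641 (iv F156070)) (tt N17614 (iv F155914)) (tt N14277 (iv D32184)) (tt N17663 (iv F156180)) (tt N18119 D34046) (tt N17605 (iv F155860)))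
theorem Q16259 : ∀ i, i < 16259 → P i := stepQ 16258 Q16258 (allL N16258 (tt N14302 F149846) (tt N17156 (iv F153362)) (tt N16258 F149847) (tt N18117 (iv F158275)) (tt N17642 (iv F156077)) (tt N14282 F149848) (tt N18119 (iv F158284)) (tt N14278 F149849) (tt N14277 (iv D32185)) (tt N18120 D34047))
theorem Q16260 : ∀ i, i < 16260 → P i := stepQ 16259 Q16259 (allL N16259 (tt N14303 F149850) (tt N17157 (iv F153368)) (tt N16259 F149851) (tt N18118 (iv F158280)) (tt N17501 (iv F155305)) (tt N14283 F149852) (tt N17665 (iv F156193)) (tt N18120 (iv F158288)) (tt N17607 (iv F155873)) (tt N14278 (iv D32186)))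
theorem Q16261 : ∀ i, i < 16261 → P i := stepQ 16260 Q16260 (allL N16260 (tt N14305 F149853) (tt N17161 (iv F153398)) (tt N14974 F149854) (tt N14281 F149855) (tt N14971 F149856) (tt N17961 (iv F157538)) (tt N14279 (iv D32187)) (tt N16260 F149857) (tt N18121 D34048) (tt N14407 F149858))
theorem Q16262 : ∀ i, i < 16262 → P i := stepQ 16261 Q16261 (allL N16261 (tt N14306 F149859) (tt N17162 (iv F153406)) (tt N14975 F149860) (tt N14282 F149861) (tt N14972 F149862) (tt N18117 (iv F158276)) (tt N18121 (iv F158293)) (tt N14280 F149863) (tt N14279 (iv D32188)) (tt N18122 D34049))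
theorem Q16263 : ∀ i, i < 16263 → P i := stepQ 16262 Q16262 (allL N16262 (tt N14307 F149864) (tt N17163 (iv F153411)) (tt N14977 F149865) (tt N14283 F149866) (tt N14973 F149867) (tt N18118 (iv F158281)) (tt N16262 F149868) (tt N18122 (iv F158299)) (tt N14409 F149869) (tt N14280 (iv D32189)))
theorem Q16264 : ∀ i, i < 16264 → P i := stepQ 16263 Q16263 (allL N16263 (tt N14308 F149870) (tt N17164 (iv F153418)) (tt N16263 F149871) (tt N18121 (iv F158291)) (tt N14287 F149872) (tt N18123 D34050) (tt N14282 F149873) (tt N16263 F149874) (tt N14281 (iv D32190)) (tt N18124 D34051))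
theorem Q16265 : ∀ i, i < 16265 → P i := stepQ 16264 Q16264 (allL N16264 (tt N14309 F149875) (tt N17165 (iv F153424)) (tt N16264 F149876) (tt N18122 (iv F158297)) (tt N14288 F149877) (tt N18120 (iv F158287)) (tt N18124 (iv F158307)) (tt N14283 F149878) (tt N14411 F149879) (tt N14282 (iv D32191)))
theorem Q16266 : ∀ i, i < 16266 → P i := stepQ 16265 Q16265 (allL N16265 (tt N14310 F149880) (tt N14711 F149881) (tt N14993 F149882) (tt N14287 F149883) (tt N14991 F149884) (tt N14733 (iv F149887)) (tt N14285 F149885) (tt N16265 F149886) (tt N14284 (iv D32192)) (tt N18125 D34052))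
theorem Q16267 : ∀ i, i < 16267 → P i := stepQ 16266 Q16266 (allL N16266 (tt N14311 F149888) (tt N14704 F149889) (tt N14994 F149890) (tt N14288 F149891) (tt N14992 F149892) (tt N14702 F149893) (tt N18125 (iv F158316)) (tt N14286 F149894) (tt N14413 F149895) (tt N14285 (iv D32193)))
theorem Q16268 : ∀ i, i < 16268 → P i := stepQ 16267 Q16267 (allL N16267 (tt N14313 F149896) (tt N17166 (iv F153430)) (tt N16267 F149897) (tt N18125 (iv F158313)) (tt N18124 (iv F158306)) (tt N17940 (iv F157416)) (tt N14288 F149898) (tt N16267 F149899) (tt N14415 F149900) (tt N14287 (iv D32194)))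
theorem Q16269 : ∀ i, i < 16269 → P i := stepQ 16268 Q16268 (allL N16268 (tt N18012 (iv F157835)) (tt N14290 F149901) (tt N14320 F149902) (tt N16268 F149903) (tt N17345 (iv F154501)) (tt N18126 D34053) (tt N14289 (iv D32195)) (tt N18127 D34054) (tt N16268 F149904) (tt N17635 (iv F156038)))
theorem Q16270 : ∀ i, i < 16270 → P i := stepQ 16269 Q16269 (allL N16269 (tt N17658 (iv F156145)) (tt N18126 (iv F158319)) (tt N14291 F149905) (tt N16269 F149906) (tt N18128 D34055) (tt N14290 (iv D32196)) (tt N14296 F149907) (tt N18129 D34056) (tt N17976 (iv F157625)) (tt N17636 (iv F156043)))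
theorem Q16271 : ∀ i, i < 16271 → P i := stepQ 16270 Q16270 (allL N16270 (tt N17659 (iv F156151)) (tt N18127 (iv F158323)) (tt N14292 F149908) (tt N16270 F149909) (tt N17347 (iv F154512)) (tt N18129 (iv F158332)) (tt N17337 (iv F154451)) (tt N14290 (iv D32197)) (tt N16270 F149910) (tt N17637 (iv F156050)))
theorem Q16272 : ∀ i, i < 16272 → P i := stepQ 16271 Q16271 (allL N16271 (tt N17660 (iv F156158)) (tt N14323 F149911) (tt N18128 (iv F158328)) (tt N17602 (iv F155840)) (tt N14291 (iv D32198)) (tt N17348 (iv F154519)) (tt N14298 F149912) (tt N18130 D34057) (tt N18131 D34058) (tt N17638 (iv F156056)))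
theorem Q16273 : ∀ i, i < 16273 → P i := stepQ 16272 Q16272 (allL N16272 (tt N17661 (iv F156164)) (tt N14324 F149913) (tt N18129 (iv F158330)) (tt N14293 F149914) (tt N18130 (iv F158334)) (tt N14292 F149915) (tt N18132 D34059) (tt N14291 (iv D32199)) (tt N18133 D34060) (tt N17639 (iv F156061)))
theorem Q16274 : ∀ i, i < 16274 → P i := stepQ 16273 Q16273 (allL N16273 (tt N17662 (iv F156169)) (tt N14325 F149916) (tt N17976 (iv F157622)) (tt N14294 F149917) (tt N18131 (iv F158336)) (tt N16273 F149918) (tt N14300 F149919) (tt N18133 (iv F158344)) (tt N14291 (iv D32200)) (tt N18134 D34061))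
theorem Q16275 : ∀ i, i < 16275 → P i := stepQ 16274 Q16274 (allL N16274 (tt N17663 (iv F156175)) (tt N14326 F149920) (tt N16274 F149921) (tt N18132 (iv F158339)) (tt N17605 (iv F155857)) (tt N17341 (iv F154474)) (tt N14293 (iv D32201)) (tt N14301 F149922) (tt N18135 D34062) (tt N17641 (iv F156073)))
theorem Q16276 : ∀ i, i < 16276 → P i := stepQ 16275 Q16275 (allL N16275 (tt N17664 (iv F156182)) (tt N14327 F149923) (tt N16275 F149924) (tt N18133 (iv F158342)) (tt N17606 (iv F155864)) (tt N16275 F149925) (tt N18135 (iv F158351)) (tt N14294 F149926) (tt N14293 (iv D32202)) (tt N18136 D34063))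
theorem Q16277 : ∀ i, i < 16277 → P i := stepQ 16276 Q16276 (allL N16276 (tt N17665 (iv F156188)) (tt N14328 F149927) (tt N16276 F149928) (tt N18134 (iv F158346)) (tt N17607 (iv F155870)) (tt N16276 F149929) (tt N14303 F149930) (tt N18136 (iv F158356)) (tt N17501 F155308) (tt N14294 (iv D32203)))
theorem Q16278 : ∀ i, i < 16278 → P i := stepQ 16277 Q16277 (allL N16277 (tt N17695 (iv F156304)) (tt N14296 F149931) (tt N14329 F149932) (tt N16277 F149933) (tt N18137 D34064) (tt N14295 (iv D32204)) (tt N18126 (iv F158322)) (tt N18138 D34065) (tt N17968 (iv F157581)) (tt N17621 F155950))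
theorem Q16279 : ∀ i, i < 16279 → P i := stepQ 16278 Q16278 (allL N16278 (tt N17714 (iv F156392)) (tt N14297 F149934) (tt N14330 F149935) (tt N16278 F149936) (tt N14766 F149937) (tt N18138 (iv F158363)) (tt N14859 F149938) (tt N14295 (iv D32205)) (tt N14304 F149939) (tt N17634 (iv F156031)))
theorem Q16280 : ∀ i, i < 16280 → P i := stepQ 16279 Q16279 (allL N16279 (tt N17788 (iv F156714)) (tt N18137 (iv F158357)) (tt N14298 F149940) (tt N18139 D34066) (tt N14296 (iv D32206)) (tt N14767 F149941) (tt N18128 (iv F158329)) (tt N18140 D34067) (tt N17802 (iv F156784)) (tt N17666 (iv F156197)))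
theorem Q16281 : ∀ i, i < 16281 → P i := stepQ 16280 Q16280 (allL N16280 (tt N17833 (iv F156891)) (tt N18138 (iv F158360)) (tt N14299 F149942) (tt N16280 F149943) (tt N18140 (iv F158367)) (tt N14297 F149944) (tt N18141 D34068) (tt N14296 (iv D32207)) (tt N17974 (iv F157614)) (tt N17667 (iv F156201)))
theorem Q16282 : ∀ i, i < 16282 → P i := stepQ 16281 Q16281 (allL N16281 (tt N18114 (iv F158264)) (tt N14334 F149945) (tt N18140 (iv F158366)) (tt N18057 (iv F158045)) (tt N14299 F149946) (tt N14769 F149947) (tt N18142 D34069) (tt N14298 (iv D32208)) (tt N18143 D34070) (tt N17668 (iv F156205)))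
theorem Q16283 : ∀ i, i < 16283 → P i := stepQ 16282 Q16282 (allL N16282 (tt N18115 (iv F158267)) (tt N14335 F149948) (tt N17802 (iv F156782)) (tt N18058 (iv F158049)) (tt N14300 F149949) (tt N17796 (iv F156756)) (tt N18131 (iv F158337)) (tt N18143 (iv F158375)) (tt N14298 (iv D32209)) (tt N18144 D34071))
theorem Q16284 : ∀ i, i < 16284 → P i := stepQ 16283 Q16283 (allL N16283 (tt N18116 (iv F158271)) (tt N14336 F149950) (tt N18141 (iv F158369)) (tt N14301 F149951) (tt N18142 (iv F158372)) (tt N17680 (iv F156249)) (tt N14299 (iv D32210)) (tt N18132 (iv F158340)) (tt N18145 D34072) (tt N17670 (iv F156211)))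
theorem Q16285 : ∀ i, i < 16285 → P i := stepQ 16284 Q16284 (allL N16284 (tt N18117 (iv F158273)) (tt N14337 F149952) (tt N17974 (iv F157611)) (tt N14302 F149953) (tt N18143 (iv F158374)) (tt N14306 F149954) (tt N18145 (iv F158380)) (tt N14300 F149955) (tt N14299 (iv D32211)) (tt N18146 D34073))
theorem Q16286 : ∀ i, i < 16286 → P i := stepQ 16285 Q16285 (allL N16285 (tt N18118 (iv F158278)) (tt N14338 F149956) (tt N17977 (iv F157627)) (tt N14303 F149957) (tt N18144 (iv F158377)) (tt N14307 F149958) (tt N18134 (iv F158348)) (tt N18146 (iv F158384)) (tt N17672 (iv F156219)) (tt N14300 (iv D32212)))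
theorem Q16287 : ∀ i, i < 16287 → P i := stepQ 16286 Q16286 (allL N16286 (tt N18119 (iv F158282)) (tt N14339 F149959) (tt N16286 F149960) (tt N18145 (iv F158379)) (tt N18062 (iv F158062)) (tt N18147 D34074) (tt N14302 F149961) (tt N18135 (iv F158352)) (tt N14301 (iv D32213)) (tt N18148 D34075))
theorem Q16288 : ∀ i, i < 16288 → P i := stepQ 16287 Q16287 (allL N16287 (tt N18120 (iv F158285)) (tt N14340 F149962) (tt N16287 F149963) (tt N18146 (iv F158382)) (tt N18063 (iv F158066)) (tt N14309 F149964) (tt N18148 (iv F158390)) (tt N14303 F149965) (tt N17674 (iv F156227)) (tt N14302 (iv D32214)))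
theorem Q16289 : ∀ i, i < 16289 → P i := stepQ 16288 Q16288 (allL N16288 (tt N18121 (iv F158289)) (tt N14352 F149966) (tt N17973 (iv F157605)) (tt N14308 F149967) (tt N17971 (iv F157594)) (tt N18149 D34076) (tt N14306 F149968) (tt N16288 F149969) (tt N14305 (iv D32215)) (tt N18150 D34077))
theorem Q16290 : ∀ i, i < 16290 → P i := stepQ 16289 Q16289 (allL N16289 (tt N18122 (iv F158295)) (tt N14353 F149970) (tt N17975 (iv F157616)) (tt N14309 F149971) (tt N17972 (iv F157601)) (tt N18146 (iv F158383)) (tt N18150 (iv F158396)) (tt N14307 F149972) (tt N14417 F149973) (tt N14306 (iv D32216)))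
theorem Q16291 : ∀ i, i < 16291 → P i := stepQ 16290 Q16290 (allL N16290 (tt N18123 (iv F158301)) (tt N14354 F149974) (tt N16290 F149975) (tt N18149 (iv F158392)) (tt N18151 D34078) (tt N14308 (iv D32217)) (tt N18147 (iv F158387)) (tt N16290 F149976) (tt N17970 (iv F157589)) (tt N18152 D34079))
theorem Q16292 : ∀ i, i < 16292 → P i := stepQ 16291 Q16291 (allL N16291 (tt N18124 (iv F158304)) (tt N14355 F149977) (tt N16291 F149978) (tt N18150 (iv F158395)) (tt N14313 F149979) (tt N18152 (iv F158405)) (tt N14309 F149980) (tt N16291 F149981) (tt N14418 F149982) (tt N14308 (iv D32218)))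
theorem Q16293 : ∀ i, i < 16293 → P i := stepQ 16292 Q16292 (allL N16292 (tt N14733 F149983) (tt N14362 F149984) (tt N15186 F149985) (tt N14312 F149986) (tt N18153 D34080) (tt N14310 (iv D32219)) (tt N14730 F149987) (tt N16292 F149988) (tt N16292 F149989) (tt N18154 D34081))
theorem Q16294 : ∀ i, i < 16294 → P i := stepQ 16293 Q16293 (allL N16293 (tt N18125 (iv F158310)) (tt N14363 F149990) (tt N17986 (iv F157677)) (tt N14313 F149991) (tt N17985 (iv F157671)) (tt N18154 (iv F158417)) (tt N14311 F149992) (tt N16293 F149993) (tt N14420 F149994) (tt N14310 (iv D32220)))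
theorem Q16295 : ∀ i, i < 16295 → P i := stepQ 16294 Q16294 (allL N16294 (tt N18110 (iv F158244)) (tt N14364 F149995) (tt N16294 F149996) (tt N18155 D34082) (tt N14312 (iv D32221)) (tt N18151 (iv F158401)) (tt N18071 (iv F158112)) (tt N16294 F149997) (tt N16294 F149998) (tt N18156 D34083))
theorem Q16296 : ∀ i, i < 16296 → P i := stepQ 16295 Q16295 (allL N16295 (tt N17940 (iv F157412)) (tt N14365 F149999) (tt N16295 F150000) (tt N18154 (iv F158416)) (tt N18156 (iv F158425)) (tt N14313 F150001) (tt N17936 F157392) (tt N16295 F150002) (tt N18157 D34084) (tt N14312 (iv D32222)))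
theorem Q16297 : ∀ i, i < 16297 → P i := stepQ 16296 Q16296 (allL N16296 (tt N18016 (iv F157853)) (tt N14315 F150003) (tt N17345 (iv F154499)) (tt N16296 F150004) (tt N14320 F150005) (tt N18158 D34085) (tt N14314 (iv D32223)) (tt N18159 D34086) (tt N16296 F150006) (tt N17292 (iv F154183)))
theorem Q16298 : ∀ i, i < 16298 → P i := stepQ 16297 Q16297 (allL N16297 (tt N17193 (iv F153585)) (tt N18158 (iv F158432)) (tt N14316 F150007) (tt N16297 F150008) (tt N18160 D34087) (tt N14315 (iv D32224)) (tt N14782 F150009) (tt N18161 D34088) (tt N18162 D34089) (tt N17293 (iv F154189)))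
theorem Q16299 : ∀ i, i < 16299 → P i := stepQ 16298 Q16298 (allL N16298 (tt N17194 (iv F153591)) (tt N18159 (iv F158435)) (tt N14317 F150010) (tt N16298 F150011) (tt N14322 F150012) (tt N18161 (iv F158445)) (tt N17305 (iv F154270)) (tt N14315 (iv D32225)) (tt N16298 F150013) (tt N17294 (iv F154196)))
theorem Q16300 : ∀ i, i < 16300 → P i := stepQ 16299 Q16299 (allL N16299 (tt N17195 (iv F153599)) (tt N17348 (iv F154517)) (tt N18160 (iv F158440)) (tt N17611 (iv F155895)) (tt N14316 (iv D32226)) (tt N14323 F150014) (tt N14784 F150015) (tt N18163 D34090) (tt N18164 D34091) (tt N17295 (iv F154202)))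
theorem Q16301 : ∀ i, i < 16301 → P i := stepQ 16300 Q16300 (allL N16300 (tt N17196 (iv F153605)) (tt N17349 (iv F154523)) (tt N18161 (iv F158443)) (tt N14318 F150016) (tt N18163 (iv F158450)) (tt N14317 F150017) (tt N18165 D34092) (tt N14316 (iv D32227)) (tt N18166 D34093) (tt N17296 (iv F154207)))
theorem Q16302 : ∀ i, i < 16302 → P i := stepQ 16301 Q16301 (allL N16301 (tt N17197 (iv F153610)) (tt N17350 (iv F154528)) (tt N18162 (iv F158446)) (tt N14319 F150018) (tt N18164 (iv F158452)) (tt N16301 F150019) (tt N14786 F150020) (tt N18166 (iv F158458)) (tt N14316 (iv D32228)) (tt N18167 D34094))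
theorem Q16303 : ∀ i, i < 16303 → P i := stepQ 16302 Q16302 (allL N16302 (tt N17198 (iv F153615)) (tt N17351 (iv F154534)) (tt N16302 F150021) (tt N18165 (iv F158454)) (tt N17614 (iv F155913)) (tt N17309 (iv F154293)) (tt N14318 (iv D32229)) (tt N14787 F150022) (tt N18168 D34095) (tt N17298 (iv F154221)))
theorem Q16304 : ∀ i, i < 16304 → P i := stepQ 16303 Q16303 (allL N16303 (tt N17199 (iv F153622)) (tt N17352 (iv F154541)) (tt N16303 F150023) (tt N18166 (iv F158456)) (tt N17615 (iv F155920)) (tt N16303 F150024) (tt N18168 (iv F158465)) (tt N14319 F150025) (tt N14318 (iv D32230)) (tt N18169 D34096))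
theorem Q16305 : ∀ i, i < 16305 → P i := stepQ 16304 Q16304 (allL N16304 (tt N17200 (iv F153628)) (tt N14381 F150026) (tt N16304 F150027) (tt N18167 (iv F158460)) (tt N14378 F150028) (tt N16304 F150029) (tt N14789 F150030) (tt N18169 (iv F158471)) (tt N14376 F150031) (tt N14319 (iv D32231)))
theorem Q16306 : ∀ i, i < 16306 → P i := stepQ 16305 Q16305 (allL N16305 (tt N17653 (iv F156117)) (tt N14321 F150032) (tt N18126 (iv F158320)) (tt N14366 F150033) (tt N18170 D34097) (tt N14320 (iv D32232)) (tt N14329 F150034) (tt N18171 D34098) (tt N18172 D34099) (tt N17596 F155804))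
theorem Q16307 : ∀ i, i < 16307 → P i := stepQ 16306 Q16306 (allL N16306 (tt N18017 (iv F157859)) (tt N14322 F150035) (tt N18127 (iv F158324)) (tt N14367 F150036) (tt N18159 (iv F158437)) (tt N18171 (iv F158477)) (tt N15020 F150037) (tt N14320 (iv D32233)) (tt N16306 F150038) (tt N17733 (iv F156477)))
theorem Q16308 : ∀ i, i < 16308 → P i := stepQ 16307 Q16307 (allL N16307 (tt N17201 (iv F153635)) (tt N18170 (iv F158473)) (tt N14323 F150039) (tt N18173 D34100) (tt N14321 (iv D32234)) (tt N18160 (iv F158441)) (tt N14331 F150040) (tt N18174 D34101) (tt N18175 D34102) (tt N17734 (iv F156482)))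
theorem Q16309 : ∀ i, i < 16309 → P i := stepQ 16308 Q16308 (allL N16308 (tt N17202 (iv F153640)) (tt N18171 (iv F158475)) (tt N14324 F150041) (tt N14369 F150042) (tt N18174 (iv F158486)) (tt N14322 F150043) (tt N18176 D34103) (tt N14321 (iv D32235)) (tt N18177 D34104) (tt N17735 (iv F156488)))
theorem Q16310 : ∀ i, i < 16310 → P i := stepQ 16309 Q16309 (allL N16309 (tt N17203 (iv F153646)) (tt N18172 (iv F158478)) (tt N14325 F150044) (tt N14370 F150045) (tt N18175 (iv F158488)) (tt N16309 F150046) (tt N14333 F150047) (tt N18177 (iv F158496)) (tt N14321 (iv D32236)) (tt N17382 (iv F154710)))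
theorem Q16311 : ∀ i, i < 16311 → P i := stepQ 16310 Q16310 (allL N16310 (tt N17204 (iv F153653)) (tt N18130 (iv F158333)) (tt N18174 (iv F158485)) (tt N18072 (iv F158116)) (tt N14324 F150048) (tt N18163 (iv F158451)) (tt N18178 D34105) (tt N14323 (iv D32237)) (tt N18179 D34106) (tt N17736 (iv F156491)))
theorem Q16312 : ∀ i, i < 16312 → P i := stepQ 16311 Q16311 (allL N16311 (tt N17205 (iv F153658)) (tt N18131 (iv F158335)) (tt N18175 (iv F158487)) (tt N18050 (iv F158023)) (tt N14325 F150049) (tt N18180 D34107) (tt N14335 F150050) (tt N18179 (iv F158500)) (tt N14323 (iv D32238)) (tt N18181 D34108))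
theorem Q16313 : ∀ i, i < 16313 → P i := stepQ 16312 Q16312 (allL N16312 (tt N17206 (iv F153663)) (tt N18132 (iv F158338)) (tt N18176 (iv F158490)) (tt N14326 F150051) (tt N18178 (iv F158497)) (tt N17746 (iv F156537)) (tt N14324 (iv D32239)) (tt N14336 F150052) (tt N18182 D34109) (tt N17738 (iv F156501)))
theorem Q16314 : ∀ i, i < 16314 → P i := stepQ 16313 Q16313 (allL N16313 (tt N17207 (iv F153669)) (tt N18133 (iv F158341)) (tt N18177 (iv F158493)) (tt N14327 F150053) (tt N18179 (iv F158499)) (tt N16313 F150054) (tt N18182 (iv F158505)) (tt N14325 F150055) (tt N14324 (iv D32240)) (tt N18183 D34110))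
theorem Q16315 : ∀ i, i < 16315 → P i := stepQ 16314 Q16314 (allL N16314 (tt N17208 (iv F153674)) (tt N18134 (iv F158345)) (tt N17382 (iv F154706)) (tt N14328 F150056) (tt N18181 (iv F158502)) (tt N16314 F150057) (tt N14338 F150058) (tt N18183 (iv F158509)) (tt N17378 F154685) (tt N14325 (iv D32241)))
theorem Q16316 : ∀ i, i < 16316 → P i := stepQ 16315 Q16315 (allL N16315 (tt N17209 (iv F153681)) (tt N18135 (iv F158349)) (tt N14374 F150059) (tt N18182 (iv F158504)) (tt N17928 F157352) (tt N18184 D34111) (tt N14327 F150060) (tt N14339 F150061) (tt N14326 (iv D32242)) (tt N18185 D34112))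
theorem Q16317 : ∀ i, i < 16317 → P i := stepQ 16316 Q16316 (allL N16316 (tt N17210 (iv F153687)) (tt N18136 (iv F158353)) (tt N14375 F150062) (tt N18183 (iv F158507)) (tt N17934 (iv F157377)) (tt N16316 F150063) (tt N18185 (iv F158514)) (tt N14328 F150064) (tt N17503 (iv F155319)) (tt N14327 (iv D32243)))
theorem Q16318 : ∀ i, i < 16318 → P i := stepQ 16317 Q16317 (allL N16317 (tt N17699 (iv F156317)) (tt N14331 F150065) (tt N18137 (iv F158358)) (tt N18186 D34113) (tt N14329 (iv D32244)) (tt N14841 F150066) (tt N18170 (iv F158474)) (tt N18187 D34114) (tt N18188 D34115) (tt N17623 F155958))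
theorem Q16319 : ∀ i, i < 16319 → P i := stepQ 16318 Q16318 (allL N16318 (tt N17701 (iv F156324)) (tt N14332 F150067) (tt N18138 (iv F158361)) (tt N14377 F150068) (tt N18187 (iv F158520)) (tt N14330 F150069) (tt N18189 D34116) (tt N14329 (iv D32245)) (tt N18190 D34117) (tt N17625 F155967))
theorem Q16320 : ∀ i, i < 16320 → P i := stepQ 16319 Q16319 (allL N16319 (tt N17682 (iv F156255)) (tt N14333 F150070) (tt N17968 (iv F157579)) (tt N14378 F150071) (tt N18188 (iv F158523)) (tt N14342 F150072) (tt N18172 (iv F158481)) (tt N18190 (iv F158530)) (tt N14329 (iv D32246)) (tt N17613 (iv F155909)))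
theorem Q16321 : ∀ i, i < 16321 → P i := stepQ 16320 Q16320 (allL N16320 (tt N17211 (iv F153694)) (tt N18186 (iv F158516)) (tt N18078 (iv F158134)) (tt N14331 (iv D32247)) (tt N14379 F150073) (tt N14843 F150074) (tt N18173 (iv F158484)) (tt N18191 D34118) (tt N18192 D34119) (tt N17783 (iv F156694)))
theorem Q16322 : ∀ i, i < 16322 → P i := stepQ 16321 Q16321 (allL N16321 (tt N17212 (iv F153699)) (tt N18187 (iv F158519)) (tt N14334 F150075) (tt N18191 (iv F158531)) (tt N14332 F150076) (tt N14844 F150077) (tt N18193 D34120) (tt N14331 (iv D32248)) (tt N18194 D34121) (tt N17784 (iv F156700)))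
theorem Q16323 : ∀ i, i < 16323 → P i := stepQ 16322 Q16322 (allL N16322 (tt N17213 (iv F153705)) (tt N18188 (iv F158522)) (tt N14335 F150078) (tt N18192 (iv F158534)) (tt N14333 F150079) (tt N18195 D34122) (tt N18175 (iv F158489)) (tt N18194 (iv F158540)) (tt N14331 (iv D32249)) (tt N18196 D34123))
theorem Q16324 : ∀ i, i < 16324 → P i := stepQ 16323 Q16323 (allL N16323 (tt N17214 (iv F153710)) (tt N18189 (iv F158524)) (tt N14336 F150080) (tt N14382 F150081) (tt N18193 (iv F158537)) (tt N17797 (iv F156761)) (tt N14332 (iv D32250)) (tt N18176 (iv F158492)) (tt N18197 D34124) (tt N17785 (iv F156706)))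
theorem Q16325 : ∀ i, i < 16325 → P i := stepQ 16324 Q16324 (allL N16324 (tt N17215 (iv F153716)) (tt N18190 (iv F158527)) (tt N14337 F150082) (tt N14383 F150083) (tt N18194 (iv F158539)) (tt N14346 F150084) (tt N18197 (iv F158550)) (tt N14333 F150085) (tt N14332 (iv D32251)) (tt N18198 D34125))
theorem Q16326 : ∀ i, i < 16326 → P i := stepQ 16325 Q16325 (allL N16325 (tt N14763 F150086) (tt N17613 (iv F155905)) (tt N14338 F150087) (tt N14384 F150088) (tt N18196 (iv F158546)) (tt N14347 F150089) (tt N17382 (iv F154709)) (tt N18198 (iv F158555)) (tt N14737 F150090) (tt N14333 (iv D32252)))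
theorem Q16327 : ∀ i, i < 16327 → P i := stepQ 16326 Q16326 (allL N16326 (tt N17216 (iv F153723)) (tt N18142 (iv F158371)) (tt N18193 (iv F158536)) (tt N18081 (iv F158142)) (tt N14336 F150091) (tt N18199 D34126) (tt N14334 (iv D32253)) (tt N18178 (iv F158498)) (tt N18200 D34127) (tt N17786 (iv F156709)))
theorem Q16328 : ∀ i, i < 16328 → P i := stepQ 16327 Q16327 (allL N16327 (tt N17217 (iv F153726)) (tt N18143 (iv F158373)) (tt N18194 (iv F158538)) (tt N18082 (iv F158144)) (tt N14337 F150092) (tt N18201 D34128) (tt N18200 (iv F158559)) (tt N14335 F150093) (tt N14334 (iv D32254)) (tt N18202 D34129))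
theorem Q16329 : ∀ i, i < 16329 → P i := stepQ 16328 Q16328 (allL N16328 (tt N17218 (iv F153729)) (tt N17796 (iv F156753)) (tt N18195 (iv F158541)) (tt N18083 (iv F158147)) (tt N14350 F150094) (tt N14335 (iv D32255)) (tt N18203 D34130) (tt N18201 (iv F158561)) (tt N14851 F150095) (tt N18204 D34131))
theorem Q16330 : ∀ i, i < 16330 → P i := stepQ 16329 Q16329 (allL N16329 (tt N17219 (iv F153732)) (tt N18144 (iv F158376)) (tt N18196 (iv F158545)) (tt N18084 (iv F158150)) (tt N14338 F150096) (tt N18204 (iv F158568)) (tt N18181 (iv F158503)) (tt N18202 (iv F158564)) (tt N17789 (iv F156721)) (tt N14335 (iv D32256)))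
theorem Q16331 : ∀ i, i < 16331 → P i := stepQ 16330 Q16330 (allL N16330 (tt N17220 (iv F153736)) (tt N18145 (iv F158378)) (tt N18197 (iv F158548)) (tt N14339 F150097) (tt N18200 (iv F158558)) (tt N18205 D34132) (tt N14337 F150098) (tt N18182 (iv F158506)) (tt N14336 (iv D32257)) (tt N18206 D34133))
theorem Q16332 : ∀ i, i < 16332 → P i := stepQ 16331 Q16331 (allL N16331 (tt N17221 (iv F153739)) (tt N18146 (iv F158381)) (tt N18198 (iv F158552)) (tt N14340 F150099) (tt N18202 (iv F158563)) (tt N14353 F150100) (tt N18206 (iv F158572)) (tt N14338 F150101) (tt N17791 (iv F156731)) (tt N14337 (iv D32258)))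
theorem Q16333 : ∀ i, i < 16333 → P i := stepQ 16332 Q16332 (allL N16332 (tt N17222 (iv F153745)) (tt N18147 (iv F158385)) (tt N14389 F150102) (tt N18205 (iv F158569)) (tt N18207 D34134) (tt N14339 (iv D32259)) (tt N14354 F150103) (tt N18184 (iv F158512)) (tt N17806 (iv F156799)) (tt N18208 D34135))
theorem Q16334 : ∀ i, i < 16334 → P i := stepQ 16333 Q16333 (allL N16333 (tt N17223 (iv F153749)) (tt N18148 (iv F158388)) (tt N14390 F150104) (tt N18206 (iv F158571)) (tt N18087 (iv F158158)) (tt N18208 (iv F158576)) (tt N14340 F150105) (tt N18185 (iv F158515)) (tt N17793 (iv F156740)) (tt N14339 (iv D32260)))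
theorem Q16335 : ∀ i, i < 16335 → P i := stepQ 16334 Q16334 (allL N16334 (tt N17228 (iv F153780)) (tt N14345 F150106) (tt N17966 (iv F157567)) (tt N14356 F150107) (tt N17964 (iv F157557)) (tt N14348 F150108) (tt N14341 (iv D32261)) (tt N16334 F150109) (tt N18209 D34136) (tt N14422 F150110))
theorem Q16336 : ∀ i, i < 16336 → P i := stepQ 16335 Q16335 (allL N16335 (tt N17844 (iv F156941)) (tt N14346 F150111) (tt N17967 (iv F157574)) (tt N14391 F150112) (tt N17965 (iv F157564)) (tt N18190 (iv F158529)) (tt N18209 (iv F158580)) (tt N14342 F150113) (tt N14341 (iv D32262)) (tt N17962 (iv F157545)))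
theorem Q16337 : ∀ i, i < 16337 → P i := stepQ 16336 Q16336 (allL N16336 (tt N17224 (iv F153753)) (tt N17964 (iv F157554)) (tt N14348 F150114) (tt N16336 F150115) (tt N14345 F150116) (tt N17966 (iv F157570)) (tt N14343 (iv D32263)) (tt N16336 F150117) (tt N18210 D34137) (tt N14423 F150118))
theorem Q16338 : ∀ i, i < 16338 → P i := stepQ 16337 Q16337 (allL N16337 (tt N17225 (iv F153760)) (tt N17965 (iv F157561)) (tt N14349 F150119) (tt N16337 F150120) (tt N14346 F150121) (tt N18211 D34138) (tt N18210 (iv F158585)) (tt N14344 F150122) (tt N14343 (iv D32264)) (tt N18212 D34139))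
theorem Q16339 : ∀ i, i < 16339 → P i := stepQ 16338 Q16338 (allL N16338 (tt N17226 (iv F153767)) (tt N17677 (iv F156237)) (tt N14350 F150123) (tt N16338 F150124) (tt N18195 (iv F158542)) (tt N14344 (iv D32265)) (tt N18213 D34140) (tt N18211 (iv F158589)) (tt N14860 F150125) (tt N18214 D34141))
theorem Q16340 : ∀ i, i < 16340 → P i := stepQ 16339 Q16339 (allL N16339 (tt N14965 F150126) (tt N17960 (iv F157528)) (tt N14351 F150127) (tt N16339 F150128) (tt N14347 F150129) (tt N18214 (iv F158604)) (tt N16339 F150130) (tt N18212 (iv F158595)) (tt N14425 F150131) (tt N14344 (iv D32266)))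
theorem Q16341 : ∀ i, i < 16341 → P i := stepQ 16340 Q16340 (allL N16340 (tt N17227 (iv F153773)) (tt N18209 (iv F158578)) (tt N14352 F150132) (tt N14392 F150133) (tt N18210 (iv F158584)) (tt N18215 D34142) (tt N14346 F150134) (tt N16340 F150135) (tt N14345 (iv D32267)) (tt N18216 D34143))
theorem Q16342 : ∀ i, i < 16342 → P i := stepQ 16341 Q16341 (allL N16341 (tt N14967 F150136) (tt N17962 (iv F157542)) (tt N14353 F150137) (tt N14393 F150138) (tt N18212 (iv F158594)) (tt N18198 (iv F158554)) (tt N18216 (iv F158611)) (tt N14347 F150139) (tt N14427 F150140) (tt N14346 (iv D32268)))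
theorem Q16343 : ∀ i, i < 16343 → P i := stepQ 16342 Q16342 (allL N16342 (tt N17229 (iv F153787)) (tt N17971 (iv F157591)) (tt N18210 (iv F158582)) (tt N14357 F150141) (tt N14352 F150142) (tt N18217 D34144) (tt N14349 F150143) (tt N16342 F150144) (tt N14348 (iv D32269)) (tt N18218 D34145))
theorem Q16344 : ∀ i, i < 16344 → P i := stepQ 16343 Q16343 (allL N16343 (tt N17230 (iv F153792)) (tt N17798 (iv F156764)) (tt N18211 (iv F158587)) (tt N14358 F150145) (tt N18201 (iv F158560)) (tt N14349 (iv D32270)) (tt N18219 D34146) (tt N14350 F150146) (tt N14862 F150147) (tt N18220 D34147))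
theorem Q16345 : ∀ i, i < 16345 → P i := stepQ 16344 Q16344 (allL N16344 (tt N17231 (iv F153796)) (tt N17972 (iv F157598)) (tt N18212 (iv F158592)) (tt N14359 F150148) (tt N14353 F150149) (tt N18220 (iv F158624)) (tt N18218 (iv F158618)) (tt N14351 F150150) (tt N14429 F150151) (tt N14349 (iv D32271)))
theorem Q16346 : ∀ i, i < 16346 → P i := stepQ 16345 Q16345 (allL N16345 (tt N17232 (iv F153802)) (tt N17743 (iv F156524)) (tt N18213 (iv F158597)) (tt N14360 F150152) (tt N18203 (iv F158565)) (tt N16345 F150153) (tt N14350 (iv D32272)) (tt N18221 D34148) (tt N14863 F150154) (tt N18222 D34149))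
theorem Q16347 : ∀ i, i < 16347 → P i := stepQ 16346 Q16346 (allL N16346 (tt N17233 (iv F153806)) (tt N17799 (iv F156770)) (tt N18214 (iv F158602)) (tt N14361 F150155) (tt N18204 (iv F158567)) (tt N14351 F150156) (tt N18222 (iv F158631)) (tt N18220 (iv F158625)) (tt N17815 (iv F156833)) (tt N14350 (iv D32273)))
theorem Q16348 : ∀ i, i < 16348 → P i := stepQ 16347 Q16347 (allL N16347 (tt N17234 (iv F153810)) (tt N18149 (iv F158391)) (tt N18215 (iv F158605)) (tt N14354 F150157) (tt N18223 D34150) (tt N14352 (iv D32274)) (tt N18205 (iv F158570)) (tt N16347 F150158) (tt N17978 (iv F157633)) (tt N18224 D34151))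
theorem Q16349 : ∀ i, i < 16349 → P i := stepQ 16348 Q16348 (allL N16348 (tt N17235 (iv F153814)) (tt N18150 (iv F158394)) (tt N18216 (iv F158609)) (tt N14355 F150159) (tt N18218 (iv F158617)) (tt N18224 (iv F158634)) (tt N14353 F150160) (tt N16348 F150161) (tt N14431 F150162) (tt N14352 (iv D32275)))
theorem Q16350 : ∀ i, i < 16350 → P i := stepQ 16349 Q16349 (allL N16349 (tt N17236 (iv F153820)) (tt N18151 (iv F158399)) (tt N14396 F150163) (tt N18225 D34152) (tt N14354 (iv D32276)) (tt N14364 F150164) (tt N18207 (iv F158574)) (tt N16349 F150165) (tt N17980 (iv F157643)) (tt N18226 D34153))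
theorem Q16351 : ∀ i, i < 16351 → P i := stepQ 16350 Q16350 (allL N16350 (tt N17237 (iv F153825)) (tt N18152 (iv F158403)) (tt N14397 F150166) (tt N18224 (iv F158633)) (tt N18226 (iv F158639)) (tt N14355 F150167) (tt N18208 (iv F158577)) (tt N16350 F150168) (tt N18227 D34154) (tt N14354 (iv D32277)))
theorem Q16352 : ∀ i, i < 16352 → P i := stepQ 16351 Q16351 (allL N16351 (tt N17238 (iv F153829)) (tt N14392 F150169) (tt N16351 F150170) (tt N18209 (iv F158579)) (tt N16351 F150171) (tt N18228 D34155) (tt N14391 F150172) (tt N16351 F150173) (tt N14356 (iv D32278)) (tt N17963 (iv F157552)))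
theorem Q16353 : ∀ i, i < 16353 → P i := stepQ 16352 Q16352 (allL N16352 (tt N17239 (iv F153836)) (tt N17984 (iv F157664)) (tt N16352 F150174) (tt N18217 (iv F158614)) (tt N18229 D34156) (tt N14357 (iv D32279)) (tt N18230 D34157) (tt N16352 F150175) (tt N18228 (iv F158648)) (tt N18231 D34158))
theorem Q16354 : ∀ i, i < 16354 → P i := stepQ 16353 Q16353 (allL N16353 (tt N17240 (iv F153839)) (tt N17985 (iv F157669)) (tt N16353 F150176) (tt N18218 (iv F158616)) (tt N14363 F150177) (tt N18231 (iv F158655)) (tt N14359 F150178) (tt N16353 F150179) (tt N14433 F150180) (tt N14357 (iv D32280)))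
theorem Q16355 : ∀ i, i < 16355 → P i := stepQ 16354 Q16354 (allL N16354 (tt N17241 (iv F153846)) (tt N17905 (iv F157250)) (tt N16354 F150181) (tt N18219 (iv F158621)) (tt N18092 (iv F158172)) (tt N18230 (iv F158653)) (tt N14358 (iv D32281)) (tt N18232 D34159) (tt N14866 F150182) (tt N18233 D34160))
theorem Q16356 : ∀ i, i < 16356 → P i := stepQ 16355 Q16355 (allL N16355 (tt N17242 (iv F153849)) (tt N17906 (iv F157254)) (tt N16355 F150183) (tt N18220 (iv F158623)) (tt N18093 (iv F158175)) (tt N14359 F150184) (tt N18233 (iv F158661)) (tt N14361 F150185) (tt N17921 (iv F157325)) (tt N14358 (iv D32282)))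
theorem Q16357 : ∀ i, i < 16357 → P i := stepQ 16356 Q16356 (allL N16356 (tt N17243 (iv F153853)) (tt N17858 (iv F157007)) (tt N16356 F150186) (tt N18221 (iv F158626)) (tt N18094 (iv F158179)) (tt N16356 F150187) (tt N18232 (iv F158658)) (tt N14360 (iv D32283)) (tt N14867 F150188) (tt N18234 D34161))
theorem Q16358 : ∀ i, i < 16358 → P i := stepQ 16357 Q16357 (allL N16357 (tt N17244 (iv F153857)) (tt N17859 (iv F157012)) (tt N16357 F150189) (tt N18222 (iv F158629)) (tt N18095 (iv F158184)) (tt N16357 F150190) (tt N14361 F150191) (tt N18234 (iv F158664)) (tt N17871 (iv F157081)) (tt N14360 (iv D32284)))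
theorem Q16359 : ∀ i, i < 16359 → P i := stepQ 16358 Q16358 (allL N16358 (tt N17246 (iv F153870)) (tt N18153 (iv F158408)) (tt N16358 F150192) (tt N18235 D34162) (tt N14362 (iv D32285)) (tt N18229 (iv F158650)) (tt N17584 F155735) (tt N16358 F150193) (tt N16358 F150194) (tt N18236 D34163))
theorem Q16360 : ∀ i, i < 16360 → P i := stepQ 16359 Q16359 (allL N16359 (tt N17247 (iv F153876)) (tt N18154 (iv F158414)) (tt N16359 F150195) (tt N14365 F150196) (tt N18236 (iv F158669)) (tt N14363 F150197) (tt N17571 F155653) (tt N16359 F150198) (tt N18237 D34164) (tt N14362 (iv D32286)))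
theorem Q16361 : ∀ i, i < 16361 → P i := stepQ 16360 Q16360 (allL N16360 (tt N17248 (iv F153883)) (tt N18155 (iv F158420)) (tt N18238 D34165) (tt N14364 (iv D32287)) (tt N18235 (iv F158665)) (tt N18225 (iv F158636)) (tt N18096 (iv F158187)) (tt N16360 F150199) (tt N16360 F150200) (tt N18239 D34166))
theorem Q16362 : ∀ i, i < 16362 → P i := stepQ 16361 Q16361 (allL N16361 (tt N17249 (iv F153886)) (tt N18156 (iv F158423)) (tt N14399 F150201) (tt N18239 (iv F158679)) (tt N14365 F150202) (tt N18226 (iv F158640)) (tt N18097 (iv F158192)) (tt N16361 F150203) (tt N18240 D34167) (tt N14364 (iv D32288)))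
theorem Q16363 : ∀ i, i < 16363 → P i := stepQ 16362 Q16362 (allL N16362 (tt N17250 (iv F153893)) (tt N18157 (iv F158427)) (tt N14400 F150204) (tt N18237 (iv F158672)) (tt N18240 (iv F158683)) (tt N14436 F150205) (tt N18098 (iv F158199)) (tt N16362 F150206) (tt N14365 (iv D32289)) (tt N16362 F150207))
theorem Q16364 : ∀ i, i < 16364 → P i := stepQ 16363 Q16363 (allL N16363 (tt N17311 (iv F154302)) (tt N14368 F150208) (tt N16363 F150209) (tt N18241 D34168) (tt N14366 (iv D32290)) (tt N16363 F150210) (tt N14376 F150211) (tt N18242 D34169) (tt N14789 (iv F150213)) (tt N14780 F150212))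
theorem Q16365 : ∀ i, i < 16365 → P i := stepQ 16364 Q16364 (allL N16364 (tt N17655 (iv F156126)) (tt N14369 F150214) (tt N16364 F150215) (tt N18171 (iv F158476)) (tt N18242 (iv F158694)) (tt N14367 F150216) (tt N18243 D34170) (tt N14366 (iv D32291)) (tt N18244 D34171) (tt N17598 F155818))
theorem Q16366 : ∀ i, i < 16366 → P i := stepQ 16365 Q16365 (allL N16365 (tt N17343 (iv F154483)) (tt N14370 F150217) (tt N16365 F150218) (tt N18172 (iv F158479)) (tt N14789 F150219) (tt N16365 F150220) (tt N14378 F150221) (tt N18244 (iv F158706)) (tt N14366 (iv D32292)) (tt N14511 F150222))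
theorem Q16367 : ∀ i, i < 16367 → P i := stepQ 16366 Q16366 (allL N16366 (tt N17251 (iv F153901)) (tt N18241 (iv F158687)) (tt N18047 (iv F158006)) (tt N14368 (iv D32293)) (tt N18173 (iv F158483)) (tt N16366 F150223) (tt N14379 F150224) (tt N18245 D34172) (tt N17399 (iv F154806)) (tt N17390 F154762))
theorem Q16368 : ∀ i, i < 16368 → P i := stepQ 16367 Q16367 (allL N16367 (tt N17252 (iv F153908)) (tt N18242 (iv F158692)) (tt N14371 F150225) (tt N18245 (iv F158708)) (tt N14369 F150226) (tt N16367 F150227) (tt N18246 D34173) (tt N14368 (iv D32294)) (tt N17401 (iv F154817)) (tt N17392 F154776))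
theorem Q16369 : ∀ i, i < 16369 → P i := stepQ 16368 Q16368 (allL N16368 (tt N17253 (iv F153915)) (tt N18243 (iv F158698)) (tt N14372 F150228) (tt N18176 (iv F158491)) (tt N18246 (iv F158711)) (tt N17857 (iv F157003)) (tt N14369 (iv D32295)) (tt N14382 F150229) (tt N18247 D34174) (tt N17853 (iv F156981)))
theorem Q16370 : ∀ i, i < 16370 → P i := stepQ 16369 Q16369 (allL N16369 (tt N17254 (iv F153921)) (tt N18244 (iv F158702)) (tt N14373 F150230) (tt N18177 (iv F158494)) (tt N17401 (iv F154814)) (tt N16369 F150231) (tt N18247 (iv F158714)) (tt N14370 F150232) (tt N14369 (iv D32296)) (tt N17384 (iv F154724)))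
theorem Q16371 : ∀ i, i < 16371 → P i := stepQ 16370 Q16370 (allL N16370 (tt N17255 (iv F153928)) (tt N16370 F150233) (tt N18246 (iv F158710)) (tt N17899 (iv F157218)) (tt N14372 F150234) (tt N18248 D34175) (tt N14371 (iv D32297)) (tt N14385 F150235) (tt N17517 (iv F155401)) (tt N17512 F155377))
theorem Q16372 : ∀ i, i < 16372 → P i := stepQ 16371 Q16371 (allL N16371 (tt N17256 (iv F153935)) (tt N16371 F150236) (tt N18247 (iv F158713)) (tt N14374 F150237) (tt N17517 (iv F155398)) (tt N18249 D34176) (tt N14373 F150238) (tt N14387 F150239) (tt N14372 (iv D32298)) (tt N17506 (iv F155341)))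
theorem Q16373 : ∀ i, i < 16373 → P i := stepQ 16372 Q16372 (allL N16372 (tt N17257 (iv F153942)) (tt N16372 F150240) (tt N18184 (iv F158510)) (tt N18249 (iv F158720)) (tt N17931 (iv F157361)) (tt N14374 (iv D32299)) (tt N16372 F150241) (tt N14389 F150242) (tt N17864 (iv F157046)) (tt N18250 D34177))
theorem Q16374 : ∀ i, i < 16374 → P i := stepQ 16373 Q16373 (allL N16373 (tt N17258 (iv F153948)) (tt N16373 F150243) (tt N18185 (iv F158513)) (tt N17506 (iv F155337)) (tt N17933 (iv F157371)) (tt N18250 (iv F158724)) (tt N14375 F150244) (tt N14390 F150245) (tt N17505 (iv F155333)) (tt N14374 (iv D32300)))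
theorem Q16375 : ∀ i, i < 16375 → P i := stepQ 16374 Q16374 (allL N16374 (tt N17319 (iv F154335)) (tt N14379 F150246) (tt N18251 D34178) (tt N14376 (iv D32301)) (tt N18186 (iv F158517)) (tt N14401 F150247) (tt N18241 (iv F158689)) (tt N18252 D34179) (tt N18167 (iv F158463)) (tt N17297 F154214))
theorem Q16376 : ∀ i, i < 16376 → P i := stepQ 16375 Q16375 (allL N16375 (tt N17321 (iv F154343)) (tt N14380 F150248) (tt N16375 F150249) (tt N18252 (iv F158731)) (tt N14377 F150250) (tt N14402 F150251) (tt N18253 D34180) (tt N14376 (iv D32302)) (tt N18169 (iv F158472)) (tt N17299 F154228))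
theorem Q16377 : ∀ i, i < 16377 → P i := stepQ 16376 Q16376 (allL N16376 (tt N17703 (iv F156334)) (tt N14382 F150252) (tt N16376 F150253) (tt N18189 (iv F158525)) (tt N18253 (iv F158735)) (tt N14866 F150254) (tt N14377 (iv D32303)) (tt N18243 (iv F158701)) (tt N18254 D34181) (tt N17626 F155973))
theorem Q16378 : ∀ i, i < 16378 → P i := stepQ 16377 Q16377 (allL N16377 (tt N17684 (iv F156263)) (tt N14383 F150255) (tt N16377 F150256) (tt N18190 (iv F158528)) (tt N18169 (iv F158469)) (tt N14391 F150257) (tt N18254 (iv F158738)) (tt N14378 F150258) (tt N14377 (iv D32304)) (tt N17615 (iv F155923)))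
theorem Q16379 : ∀ i, i < 16379 → P i := stepQ 16378 Q16378 (allL N16378 (tt N17259 (iv F153955)) (tt N18252 (iv F158730)) (tt N18102 (iv F158210)) (tt N14380 F150259) (tt N18191 (iv F158532)) (tt N14404 F150260) (tt N18255 D34182) (tt N14379 (iv D32305)) (tt N18256 D34183) (tt N17896 (iv F157205)))
theorem Q16380 : ∀ i, i < 16380 → P i := stepQ 16379 Q16379 (allL N16379 (tt N17260 (iv F153960)) (tt N18167 (iv F158459)) (tt N18045 (iv F157997)) (tt N14381 F150261) (tt N18192 (iv F158535)) (tt N16379 F150262) (tt N17399 (iv F154805)) (tt N18256 (iv F158742)) (tt N14379 (iv D32306)) (tt N17350 (iv F154532)))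
theorem Q16381 : ∀ i, i < 16381 → P i := stepQ 16380 Q16380 (allL N16380 (tt N17261 (iv F153967)) (tt N18253 (iv F158733)) (tt N14385 F150263) (tt N18255 (iv F158739)) (tt N14382 F150264) (tt N18257 D34184) (tt N14380 (iv D32307)) (tt N18246 (iv F158712)) (tt N18258 D34185) (tt N17897 (iv F157210)))
theorem Q16382 : ∀ i, i < 16382 → P i := stepQ 16381 Q16381 (allL N16381 (tt N17262 (iv F153972)) (tt N18169 (iv F158467)) (tt N14386 F150265) (tt N18256 (iv F158740)) (tt N14383 F150266) (tt N16381 F150267) (tt N18258 (iv F158747)) (tt N14381 F150268) (tt N14380 (iv D32308)) (tt N17352 (iv F154546)))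
theorem Q16383 : ∀ i, i < 16383 → P i := stepQ 16382 Q16382 (allL N16382 (tt N17263 (iv F153979)) (tt N18254 (iv F158736)) (tt N14387 F150269) (tt N18197 (iv F158549)) (tt N18258 (iv F158746)) (tt N18259 D34186) (tt N14383 F150270) (tt N18247 (iv F158715)) (tt N14382 (iv D32309)) (tt N18260 D34187))
theorem Q16384 : ∀ i, i < 16384 → P i := stepQ 16383 Q16383 (allL N16383 (tt N14765 F150271) (tt N17615 (iv F155918)) (tt N14388 F150272) (tt N18198 (iv F158553)) (tt N17352 (iv F154543)) (tt N14393 F150273) (tt N18260 (iv F158752)) (tt N14384 F150274) (tt N14739 F150275) (tt N14383 (iv D32310)))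
theorem Q16385 : ∀ i, i < 16385 → P i := stepQ 16384 Q16384 (allL N16384 (tt N17264 (iv F153984)) (tt N16384 F150276) (tt N18257 (iv F158743)) (tt N18104 (iv F158216)) (tt N17907 (iv F157261)) (tt N14385 (iv D32311)) (tt N14406 F150277) (tt N18248 (iv F158718)) (tt N18261 D34188) (tt N17898 (iv F157215)))
theorem Q16386 : ∀ i, i < 16386 → P i := stepQ 16385 Q16385 (allL N16385 (tt N17265 (iv F153989)) (tt N16385 F150278) (tt N18258 (iv F158745)) (tt N17883 (iv F157137)) (tt N14387 F150279) (tt N18262 D34189) (tt N14386 F150280) (tt N17517 (iv F155400)) (tt N14385 (iv D32312)) (tt N17472 (iv F155157)))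
theorem Q16387 : ∀ i, i < 16387 → P i := stepQ 16386 Q16386 (allL N16386 (tt N17266 (iv F153996)) (tt N16386 F150281) (tt N18259 (iv F158748)) (tt N14389 F150282) (tt N18263 D34190) (tt N14387 (iv D32313)) (tt N14394 F150283) (tt N18249 (iv F158722)) (tt N17910 (iv F157280)) (tt N18264 D34191))
theorem Q16388 : ∀ i, i < 16388 → P i := stepQ 16387 Q16387 (allL N16387 (tt N15191 F150284) (tt N16387 F150285) (tt N18260 (iv F158751)) (tt N14390 F150286) (tt N17472 (iv F155154)) (tt N18264 (iv F158763)) (tt N14388 F150287) (tt N17506 (iv F155340)) (tt N15190 F150288) (tt N14387 (iv D32314)))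
theorem Q16389 : ∀ i, i < 16389 → P i := stepQ 16388 Q16388 (allL N16388 (tt N17267 (iv F154002)) (tt N16388 F150289) (tt N18207 (iv F158573)) (tt N18265 D34192) (tt N14389 (iv D32315)) (tt N17880 F157121) (tt N14396 F150290) (tt N17931 (iv F157363)) (tt N17912 (iv F157289)) (tt N18266 D34193))
theorem Q16390 : ∀ i, i < 16390 → P i := stepQ 16389 Q16389 (allL N16389 (tt N17268 (iv F154008)) (tt N16389 F150291) (tt N18208 (iv F158575)) (tt N18264 (iv F158762)) (tt N18266 (iv F158768)) (tt N14390 F150292) (tt N14397 F150293) (tt N18250 (iv F158726)) (tt N18267 D34194) (tt N14389 (iv D32316)))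
theorem Q16391 : ∀ i, i < 16391 → P i := stepQ 16390 Q16390 (allL N16390 (tt N17269 (iv F154013)) (tt N18228 (iv F158645)) (tt N14394 F150294) (tt N18215 (iv F158606)) (tt N18268 D34195) (tt N14392 (iv D32317)) (tt N18259 (iv F158749)) (tt N16390 F150295) (tt N17984 (iv F157667)) (tt N18269 D34196))
theorem Q16392 : ∀ i, i < 16392 → P i := stepQ 16391 Q16391 (allL N16391 (tt N14968 F150296) (tt N17963 (iv F157547)) (tt N14395 F150297) (tt N18216 (iv F158610)) (tt N16391 F150298) (tt N18269 (iv F158777)) (tt N14393 F150299) (tt N16391 F150300) (tt N14437 F150301) (tt N14392 (iv D32318)))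
theorem Q16393 : ∀ i, i < 16393 → P i := stepQ 16392 Q16392 (allL N16392 (tt N17270 (iv F154019)) (tt N16392 F150302) (tt N18268 (iv F158772)) (tt N18270 D34197) (tt N14394 (iv D32319)) (tt N16392 F150303) (tt N18263 (iv F158759)) (tt N16392 F150304) (tt N17987 (iv F157688)) (tt N18113 F158263))
theorem Q16394 : ∀ i, i < 16394 → P i := stepQ 16393 Q16393 (allL N16393 (tt N15225 F150305) (tt N16393 F150306) (tt N18269 (iv F158776)) (tt N14397 F150307) (tt N18113 (iv F158260)) (tt N14395 F150308) (tt N18264 (iv F158764)) (tt N16393 F150309) (tt N18106 (iv F158229)) (tt N14394 (iv D32320)))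
theorem Q16395 : ∀ i, i < 16395 → P i := stepQ 16394 Q16394 (allL N16394 (tt N17271 (iv F154025)) (tt N16394 F150310) (tt N18271 D34198) (tt N14396 (iv D32321)) (tt N18270 (iv F158780)) (tt N14398 F150311) (tt N18265 (iv F158766)) (tt N16394 F150312) (tt N17958 (iv F157519)) (tt N17952 F157491))
theorem Q16396 : ∀ i, i < 16396 → P i := stepQ 16395 Q16395 (allL N16395 (tt N17272 (iv F154031)) (tt N16395 F150313) (tt N18226 (iv F158638)) (tt N17952 (iv F157487)) (tt N14397 F150314) (tt N14399 F150315) (tt N18266 (iv F158769)) (tt N16395 F150316) (tt N17581 F155717) (tt N14396 (iv D32322)))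
theorem Q16397 : ∀ i, i < 16397 → P i := stepQ 16396 Q16396 (allL N16396 (tt N17273 (iv F154038)) (tt N16396 F150317) (tt N18227 (iv F158642)) (tt N18106 (iv F158226)) (tt N17581 (iv F155714)) (tt N14441 F150318) (tt N18267 (iv F158771)) (tt N16396 F150319) (tt N14397 (iv D32323)) (tt N17569 (iv F155640)))
theorem Q16398 : ∀ i, i < 16398 → P i := stepQ 16397 Q16397 (allL N16397 (tt N17274 (iv F154045)) (tt N18272 D34199) (tt N14398 (iv D32324)) (tt N18238 (iv F158676)) (tt N16397 F150320) (tt N18271 (iv F158784)) (tt N18105 (iv F158220)) (tt N16397 F150321) (tt N16397 F150322) (tt N18273 D34200))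
theorem Q16399 : ∀ i, i < 16399 → P i := stepQ 16398 Q16398 (allL N16398 (tt N15168 F150323) (tt N16398 F150324) (tt N18273 (iv F158791)) (tt N14399 F150325) (tt N16398 F150326) (tt N17952 (iv F157489)) (tt N15166 F150327) (tt N16398 F150328) (tt N15165 (iv F150329)) (tt N14398 (iv D32325)))
theorem Q16400 : ∀ i, i < 16400 → P i := stepQ 16399 Q16399 (allL N16399 (tt N15106 F150330) (tt N16399 F150331) (tt N18240 (iv F158682)) (tt N15165 F150332) (tt N14400 F150333) (tt N17582 (iv F155722)) (tt N15103 F150334) (tt N16399 F150335) (tt N14399 (iv D32326)) (tt N16399 F150336))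
theorem Q16401 : ∀ i, i < 16401 → P i := stepQ 16400 Q16400 (allL N16400 (tt N17324 (iv F154363)) (tt N18108 (iv F158234)) (tt N14401 (iv D32327)) (tt N16400 F150337) (tt N14568 F150338) (tt N18251 (iv F158728)) (tt N16400 F150339) (tt N18274 D34201) (tt N16400 F150340) (tt N14565 F150341))
theorem Q16402 : ∀ i, i < 16402 → P i := stepQ 16401 Q16401 (allL N16401 (tt N17329 (iv F154395)) (tt N14404 F150342) (tt N18274 (iv F158798)) (tt N14402 F150343) (tt N14868 F150344) (tt N18252 (iv F158732)) (tt N18275 D34202) (tt N14401 (iv D32328)) (tt N16401 F150345) (tt N17302 F154251))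
theorem Q16403 : ∀ i, i < 16403 → P i := stepQ 16402 Q16402 (allL N16402 (tt N17331 (iv F154405)) (tt N14405 F150346) (tt N16402 F150347) (tt N18275 (iv F158804)) (tt N14403 F150348) (tt N18276 D34203) (tt N14402 (iv D32329)) (tt N16402 F150349) (tt N16402 F150350) (tt N17303 F154258))
theorem Q16404 : ∀ i, i < 16404 → P i := stepQ 16403 Q16403 (allL N16403 (tt N17275 (iv F154052)) (tt N18275 (iv F158803)) (tt N18111 (iv F158250)) (tt N14405 F150351) (tt N14960 F150352) (tt N18277 D34204) (tt N14404 (iv D32330)) (tt N16403 F150353) (tt N16403 F150354) (tt N17947 (iv F157461)))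
theorem Q16405 : ∀ i, i < 16405 → P i := stepQ 16404 Q16404 (allL N16404 (tt N17276 (iv F154059)) (tt N18276 (iv F158808)) (tt N14406 F150355) (tt N18277 (iv F158812)) (tt N17951 (iv F157482)) (tt N14405 (iv D32331)) (tt N18257 (iv F158744)) (tt N16404 F150356) (tt N18278 D34205) (tt N17948 (iv F157466)))
theorem Q16406 : ∀ i, i < 16406 → P i := stepQ 16405 Q16405 (allL N16405 (tt N17277 (iv F154065)) (tt N16405 F150357) (tt N18278 (iv F158814)) (tt N18113 (iv F158259)) (tt N17952 (iv F157488)) (tt N16405 F150358) (tt N18261 (iv F158755)) (tt N16405 F150359) (tt N14406 (iv D32332)) (tt N18270 (iv F158783)))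
theorem Q16407 : ∀ i, i < 16407 → P i := stepQ 16406 Q16406 (allL N16406 (tt N14416 F150360) (tt N17278 (iv F154072)) (tt N14986 F150361) (tt N14410 F150362) (tt N14983 F150363) (tt N14428 F150364) (tt N14408 F150365) (tt N16406 F150366) (tt N14407 (iv D32333)) (tt N18279 D34206))
theorem Q16408 : ∀ i, i < 16408 → P i := stepQ 16407 Q16407 (allL N16407 (tt N14417 F150367) (tt N17177 (iv F153489)) (tt N14987 F150368) (tt N14411 F150369) (tt N14984 F150370) (tt N17710 (iv F156373)) (tt N18279 (iv F158822)) (tt N14409 F150371) (tt N18122 (iv F158300)) (tt N14408 (iv D32334)))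
theorem Q16409 : ∀ i, i < 16409 → P i := stepQ 16408 Q16408 (allL N16408 (tt N14418 F150372) (tt N17279 (iv F154080)) (tt N16408 F150373) (tt N18279 (iv F158819)) (tt N14415 F150374) (tt N14433 F150375) (tt N14411 F150376) (tt N16408 F150377) (tt N18124 (iv F158309)) (tt N14410 (iv D32335)))
theorem Q16410 : ∀ i, i < 16410 → P i := stepQ 16409 Q16409 (allL N16409 (tt N14420 F150378) (tt N17280 (iv F154087)) (tt N15001 F150379) (tt N14415 F150380) (tt N14999 F150381) (tt N17283 (iv F154114)) (tt N14413 F150382) (tt N16409 F150383) (tt N18125 (iv F158318)) (tt N14412 (iv D32336)))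
theorem Q16411 : ∀ i, i < 16411 → P i := stepQ 16410 Q16410 (allL N16410 (tt N14421 F150384) (tt N17281 (iv F154096)) (tt N16410 F150385) (tt N17283 (iv F154112)) (tt N14434 F150386) (tt N14415 F150387) (tt N16410 F150388) (tt N16410 F150389) (tt N18280 D34207) (tt N14414 (iv D32337)))
theorem Q16412 : ∀ i, i < 16412 → P i := stepQ 16411 Q16411 (allL N16411 (tt N18279 (iv F158817)) (tt N14431 F150390) (tt N17983 (iv F157657)) (tt N14418 F150391) (tt N17982 (iv F157652)) (tt N17286 (iv F154137)) (tt N14417 F150392) (tt N16411 F150393) (tt N18150 (iv F158398)) (tt N14416 (iv D32338)))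
theorem Q16413 : ∀ i, i < 16413 → P i := stepQ 16412 Q16412 (allL N16412 (tt N17283 (iv F154109)) (tt N14434 F150394) (tt N17989 (iv F157696)) (tt N14421 F150395) (tt N17281 (iv F154098)) (tt N14420 F150396) (tt N16412 F150397) (tt N16412 F150398) (tt N18281 D34208) (tt N14419 (iv D32339)))
theorem Q16414 : ∀ i, i < 16414 → P i := stepQ 16413 Q16413 (allL N16413 (tt N18280 (iv F158824)) (tt N14436 F150399) (tt N16413 F150400) (tt N18281 (iv F158831)) (tt N17289 (iv F154158)) (tt N18157 (iv F158429)) (tt N16413 F150401) (tt N16413 F150402) (tt N14421 (iv D32340)) (tt N16413 F150403))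
theorem Q16415 : ∀ i, i < 16415 → P i := stepQ 16414 Q16414 (allL N16414 (tt N14969 F150404) (tt N17285 (iv F154125)) (tt N14428 F150405) (tt N16414 F150406) (tt N14426 F150407) (tt N14986 F150408) (tt N14424 F150409) (tt N16414 F150410) (tt N14423 (iv D32341)) (tt N18282 D34209))
theorem Q16416 : ∀ i, i < 16416 → P i := stepQ 16415 Q16415 (allL N16415 (tt N14964 F150411) (tt N17840 (iv F156922)) (tt N14429 F150412) (tt N16415 F150413) (tt N14427 F150414) (tt N17629 (iv F155995)) (tt N18282 (iv F158840)) (tt N14425 F150415) (tt N18212 (iv F158596)) (tt N14424 (iv D32342)))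
theorem Q16417 : ∀ i, i < 16417 → P i := stepQ 16416 Q16416 (allL N16416 (tt N14966 F150416) (tt N17961 (iv F157535)) (tt N14431 F150417) (tt N14437 F150418) (tt N18282 (iv F158838)) (tt N17161 (iv F153402)) (tt N14427 F150419) (tt N16416 F150420) (tt N18216 (iv F158613)) (tt N14426 (iv D32343)))
theorem Q16418 : ∀ i, i < 16418 → P i := stepQ 16417 Q16417 (allL N16417 (tt N17286 (iv F154132)) (tt N17982 (iv F157649)) (tt N18282 (iv F158836)) (tt N14433 F150421) (tt N14431 F150422) (tt N18279 (iv F158821)) (tt N14429 F150423) (tt N16417 F150424) (tt N18218 (iv F158620)) (tt N14428 (iv D32344)))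
theorem Q16419 : ∀ i, i < 16419 → P i := stepQ 16418 Q16418 (allL N16418 (tt N17178 (iv F153495)) (tt N17286 (iv F154133)) (tt N17161 (iv F153399)) (tt N14432 F150425) (tt N17282 (iv F154105)) (tt N14431 F150426) (tt N17159 F153389) (tt N16418 F150427) (tt N18283 D34210) (tt N14430 (iv D32345)))
theorem Q16420 : ∀ i, i < 16420 → P i := stepQ 16419 Q16419 (allL N16419 (tt N17287 (iv F154140)) (tt N17240 (iv F153840)) (tt N14441 F150428) (tt N18283 (iv F158842)) (tt N17192 (iv F153580)) (tt N18227 (iv F158643)) (tt N17189 (iv F153559)) (tt N16419 F150429) (tt N14432 (iv D32346)) (tt N17187 (iv F153548)))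
theorem Q16421 : ∀ i, i < 16421 → P i := stepQ 16420 Q16420 (allL N16420 (tt N17289 (iv F154154)) (tt N18281 (iv F158830)) (tt N16420 F150430) (tt N14436 F150431) (tt N18280 (iv F158826)) (tt N18237 (iv F158673)) (tt N16420 F150432) (tt N16420 F150433) (tt N14434 (iv D32347)) (tt N16420 F150434))
theorem Q16422 : ∀ i, i < 16422 → P i := stepQ 16421 Q16421 (allL N16421 (tt N17290 (iv F154162)) (tt N17289 (iv F154155)) (tt N14444 F150435) (tt N17284 (iv F154119)) (tt N14436 F150436) (tt N17580 (iv F155707)) (tt N16421 F150437) (tt N16421 F150438) (tt N14435 (iv D32348)) (tt N16421 F150439))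
theorem Q16423 : ∀ i, i < 16423 → P i := stepQ 16422 Q16422 (allL N16422 (tt N17291 (iv F154169)) (tt N15115 F150440) (tt N14443 F150441) (tt N17120 (iv F153123)) (tt N16422 F150442) (tt N14701 F150443) (tt N16422 F150444) (tt N16422 F150445) (tt N14954 (iv F150446)) (tt N14442 (iv D32349)))
theorem Q16424 : ∀ i, i < 16424 → P i := stepQ 16423 Q16423 (allL N16423 (tt N18010 (iv F157826)) (tt N14446 F150447) (tt N17292 (iv F154179)) (tt N15024 F150448) (tt N17635 (iv F156036)) (tt N18284 D34211) (tt N14445 (iv D32350)) (tt N18285 D34212) (tt N14450 F150449) (tt N17345 (iv F154503)))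
theorem Q16425 : ∀ i, i < 16425 → P i := stepQ 16424 Q16424 (allL N16424 (tt N14478 F150450) (tt N18284 (iv F158844)) (tt N14447 F150451) (tt N15025 F150452) (tt N18286 D34213) (tt N14446 (iv D32351)) (tt N17386 (iv F154737)) (tt N18287 D34214) (tt N17888 (iv F157166)) (tt N17346 (iv F154508)))
theorem Q16426 : ∀ i, i < 16426 → P i := stepQ 16425 Q16425 (allL N16425 (tt N14479 F150453) (tt N18285 (iv F158846)) (tt N14448 F150454) (tt N15026 F150455) (tt N17637 (iv F156047)) (tt N18287 (iv F158854)) (tt N17356 (iv F154570)) (tt N14446 (iv D32352)) (tt N14452 F150456) (tt N17347 (iv F154515)))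
theorem Q16427 : ∀ i, i < 16427 → P i := stepQ 16426 Q16426 (allL N16426 (tt N14480 F150457) (tt N17295 (iv F154198)) (tt N18286 (iv F158850)) (tt N14740 F150458) (tt N14447 (iv D32353)) (tt N17638 (iv F156054)) (tt N17388 (iv F154750)) (tt N18288 D34215) (tt N17783 (iv F156693)) (tt N17348 (iv F154521)))
theorem Q16428 : ∀ i, i < 16428 → P i := stepQ 16427 Q16427 (allL N16427 (tt N14481 F150459) (tt N17296 (iv F154204)) (tt N18287 (iv F158852)) (tt N14449 F150460) (tt N18288 (iv F158857)) (tt N14448 F150461) (tt N18289 D34216) (tt N14447 (iv D32354)) (tt N17896 (iv F157204)) (tt N17349 (iv F154526)))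
theorem Q16429 : ∀ i, i < 16429 → P i := stepQ 16428 Q16428 (allL N16428 (tt N14483 F150462) (tt N17298 (iv F154216)) (tt N15028 F150463) (tt N18289 (iv F158859)) (tt N14742 F150464) (tt N17360 (iv F154593)) (tt N14449 (iv D32355)) (tt N17391 (iv F154768)) (tt N17897 (iv F157209)) (tt N17351 (iv F154539)))
theorem Q16430 : ∀ i, i < 16430 → P i := stepQ 16429 Q16429 (allL N16429 (tt N17995 (iv F157737)) (tt N14451 F150465) (tt N14489 F150466) (tt N15040 F150467) (tt N14487 F150468) (tt N14450 (iv D32356)) (tt N16429 F150469) (tt N18290 D34217) (tt N17938 (iv F157404)) (tt N16429 F150470))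
theorem Q16431 : ∀ i, i < 16431 → P i := stepQ 16430 Q16430 (allL N16430 (tt N18009 (iv F157820)) (tt N14452 F150471) (tt N17300 (iv F154231)) (tt N15041 F150472) (tt N17991 (iv F157713)) (tt N18290 (iv F158864)) (tt N17994 (iv F157735)) (tt N14450 (iv D32357)) (tt N18285 (iv F158848)) (tt N16430 F150473))
theorem Q16432 : ∀ i, i < 16432 → P i := stepQ 16431 Q16431 (allL N16431 (tt N14498 F150474) (tt N14487 F150475) (tt N14453 F150476) (tt N14722 F150477) (tt N14451 (iv D32358)) (tt N14486 F150478) (tt N16431 F150479) (tt N18291 D34218) (tt N14720 F150480) (tt N16431 F150481))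
theorem Q16433 : ∀ i, i < 16433 → P i := stepQ 16432 Q16432 (allL N16432 (tt N14499 F150482) (tt N18290 (iv F158860)) (tt N14454 F150483) (tt N15042 F150484) (tt N18291 (iv F158870)) (tt N14452 F150485) (tt N18292 D34219) (tt N14451 (iv D32359)) (tt N17942 (iv F157430)) (tt N16432 F150486))
theorem Q16434 : ∀ i, i < 16434 → P i := stepQ 16433 Q16433 (allL N16433 (tt N14501 F150487) (tt N14562 F150488) (tt N18291 (iv F158868)) (tt N14456 F150489) (tt N14454 F150490) (tt N14561 F150491) (tt N18293 D34220) (tt N14453 (iv D32360)) (tt N14956 F150492) (tt N16433 F150493))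
theorem Q16435 : ∀ i, i < 16435 → P i := stepQ 16434 Q16434 (allL N16434 (tt N14502 F150494) (tt N17301 (iv F154238)) (tt N18292 (iv F158875)) (tt N14455 F150495) (tt N18293 (iv F158882)) (tt N18000 (iv F157768)) (tt N14454 (iv D32361)) (tt N16434 F150496) (tt N17947 (iv F157460)) (tt N16434 F150497))
theorem Q16436 : ∀ i, i < 16436 → P i := stepQ 16435 Q16435 (allL N16435 (tt N14505 F150498) (tt N14682 F150499) (tt N14959 F150500) (tt N18293 (iv F158881)) (tt N14457 F150501) (tt N14690 F150502) (tt N14456 (iv D32362)) (tt N16435 F150503) (tt N14957 F150504) (tt N16435 F150505))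
theorem Q16437 : ∀ i, i < 16437 → P i := stepQ 16436 Q16436 (allL N16436 (tt N14458 (iv D32363)) (tt N17385 (iv F154725)) (tt N14512 F150506) (tt N14632 F150507) (tt N17376 (iv F154667)) (tt N14476 F150508) (tt N18068 (iv F158096)) (tt N14538 F150509) (tt N16436 F150510) (tt N14528 F150511))
theorem Q16438 : ∀ i, i < 16438 → P i := stepQ 16437 Q16437 (allL N16437 (tt N18068 (iv F158091)) (tt N14459 F150512) (tt N14513 F150513) (tt N14633 F150514) (tt N17377 (iv F154677)) (tt N18294 D34221) (tt N14458 (iv D32364)) (tt N18295 D34222) (tt N16437 F150515) (tt N14529 F150516))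
theorem Q16439 : ∀ i, i < 16439 → P i := stepQ 16438 Q16438 (allL N16438 (tt N17386 (iv F154734)) (tt N18294 (iv F158887)) (tt N14460 F150517) (tt N14634 F150518) (tt N18296 D34223) (tt N14459 (iv D32365)) (tt N14478 F150519) (tt N18297 D34224) (tt N18298 D34225) (tt N14530 F150520))
theorem Q16440 : ∀ i, i < 16440 → P i := stepQ 16439 Q16439 (allL N16439 (tt N17387 (iv F154739)) (tt N18295 (iv F158893)) (tt N14461 F150521) (tt N14635 F150522) (tt N17379 (iv F154689)) (tt N18297 (iv F158904)) (tt N14541 F150523) (tt N14459 (iv D32366)) (tt N16439 F150524) (tt N14531 F150525))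
theorem Q16441 : ∀ i, i < 16441 → P i := stepQ 16440 Q16440 (allL N16440 (tt N17388 (iv F154746)) (tt N14516 F150526) (tt N18296 (iv F158899)) (tt N14745 F150527) (tt N14460 (iv D32367)) (tt N17380 (iv F154696)) (tt N14480 F150528) (tt N18299 D34226) (tt N18300 D34227) (tt N14532 F150529))
theorem Q16442 : ∀ i, i < 16442 → P i := stepQ 16441 Q16441 (allL N16441 (tt N17389 (iv F154752)) (tt N14517 F150530) (tt N18297 (iv F158902)) (tt N14462 F150531) (tt N18299 (iv F158914)) (tt N14461 F150532) (tt N18301 D34228) (tt N14460 (iv D32368)) (tt N18302 D34229) (tt N14533 F150533))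
theorem Q16443 : ∀ i, i < 16443 → P i := stepQ 16442 Q16442 (allL N16442 (tt N17390 (iv F154757)) (tt N14518 F150534) (tt N18298 (iv F158907)) (tt N14463 F150535) (tt N18300 (iv F158918)) (tt N16442 F150536) (tt N14482 F150537) (tt N18302 (iv F158928)) (tt N14460 (iv D32369)) (tt N17251 (iv F153907)))
theorem Q16444 : ∀ i, i < 16444 → P i := stepQ 16443 Q16443 (allL N16443 (tt N17391 (iv F154763)) (tt N14519 F150538) (tt N14639 F150539) (tt N18301 (iv F158921)) (tt N14748 F150540) (tt N14545 F150541) (tt N14462 (iv D32370)) (tt N14483 F150542) (tt N18303 D34230) (tt N14535 F150543))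
theorem Q16445 : ∀ i, i < 16445 → P i := stepQ 16444 Q16444 (allL N16444 (tt N17392 (iv F154770)) (tt N14520 F150544) (tt N14640 F150545) (tt N18302 (iv F158926)) (tt N14749 F150546) (tt N16444 F150547) (tt N18303 (iv F158932)) (tt N14463 F150548) (tt N14462 (iv D32371)) (tt N17252 (iv F153914)))
theorem Q16446 : ∀ i, i < 16446 → P i := stepQ 16445 Q16445 (allL N16445 (tt N14464 (iv D32372)) (tt N17353 (iv F154547)) (tt N14528 F150549) (tt N14603 F150550) (tt N17590 (iv F155763)) (tt N14538 F150551) (tt N18065 (iv F158080)) (tt N14476 F150552) (tt N14485 F150553) (tt N14512 F150554))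
theorem Q16447 : ∀ i, i < 16447 → P i := stepQ 16446 Q16446 (allL N16446 (tt N18065 (iv F158076)) (tt N14465 F150555) (tt N14529 F150556) (tt N14604 F150557) (tt N17591 (iv F155773)) (tt N18304 D34231) (tt N14464 (iv D32373)) (tt N18305 D34232) (tt N14486 F150558) (tt N14513 F150559))
theorem Q16448 : ∀ i, i < 16448 → P i := stepQ 16447 Q16447 (allL N16447 (tt N17355 (iv F154561)) (tt N18304 (iv F158934)) (tt N14466 F150560) (tt N14605 F150561) (tt N18306 D34233) (tt N14465 (iv D32374)) (tt N14540 F150562) (tt N18307 D34234) (tt N18308 D34235) (tt N14514 F150563))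
theorem Q16449 : ∀ i, i < 16449 → P i := stepQ 16448 Q16448 (allL N16448 (tt N17356 (iv F154566)) (tt N18305 (iv F158940)) (tt N14467 F150564) (tt N14606 F150565) (tt N17593 (iv F155784)) (tt N18307 (iv F158951)) (tt N14479 F150566) (tt N14465 (iv D32375)) (tt N14488 F150567) (tt N14515 F150568))
theorem Q16450 : ∀ i, i < 16450 → P i := stepQ 16449 Q16449 (allL N16449 (tt N17357 (iv F154573)) (tt N14532 F150569) (tt N18306 (iv F158946)) (tt N14798 F150570) (tt N14466 (iv D32376)) (tt N17594 (iv F155791)) (tt N14542 F150571) (tt N18309 D34236) (tt N18310 D34237) (tt N14516 F150572))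
theorem Q16451 : ∀ i, i < 16451 → P i := stepQ 16450 Q16450 (allL N16450 (tt N17358 (iv F154579)) (tt N14533 F150573) (tt N18307 (iv F158949)) (tt N14468 F150574) (tt N18309 (iv F158961)) (tt N14467 F150575) (tt N18311 D34238) (tt N14466 (iv D32377)) (tt N18312 D34239) (tt N14517 F150576))
theorem Q16452 : ∀ i, i < 16452 → P i := stepQ 16451 Q16451 (allL N16451 (tt N17359 (iv F154584)) (tt N14534 F150577) (tt N18308 (iv F158954)) (tt N14469 F150578) (tt N18310 (iv F158965)) (tt N14491 F150579) (tt N14544 F150580) (tt N18312 (iv F158975)) (tt N14466 (iv D32378)) (tt N18313 D34240))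
theorem Q16453 : ∀ i, i < 16453 → P i := stepQ 16452 Q16452 (allL N16452 (tt N17360 (iv F154589)) (tt N14535 F150581) (tt N14610 F150582) (tt N18311 (iv F158968)) (tt N14801 F150583) (tt N14483 F150584) (tt N14468 (iv D32379)) (tt N14545 F150585) (tt N18314 D34241) (tt N14519 F150586))
theorem Q16454 : ∀ i, i < 16454 → P i := stepQ 16453 Q16453 (allL N16453 (tt N17361 (iv F154596)) (tt N14536 F150587) (tt N14611 F150588) (tt N18312 (iv F158973)) (tt N14802 F150589) (tt N14493 F150590) (tt N18314 (iv F158985)) (tt N14469 F150591) (tt N14468 (iv D32380)) (tt N18315 D34242))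
theorem Q16455 : ∀ i, i < 16455 → P i := stepQ 16454 Q16454 (allL N16454 (tt N17362 (iv F154602)) (tt N14537 F150592) (tt N14612 F150593) (tt N18313 (iv F158978)) (tt N14803 F150594) (tt N14494 F150595) (tt N14547 F150596) (tt N18315 (iv F158991)) (tt N14521 F150597) (tt N14469 (iv D32381)))
theorem Q16456 : ∀ i, i < 16456 → P i := stepQ 16455 Q16455 (allL N16455 (tt N14470 (iv D32382)) (tt N17344 (iv F154490)) (tt N14538 F150598) (tt N14594 F150599) (tt N17656 (iv F156134)) (tt N14528 F150600) (tt N18316 D34243) (tt N14512 F150601) (tt N16455 F150602) (tt N14476 F150603))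
theorem Q16457 : ∀ i, i < 16457 → P i := stepQ 16456 Q16456 (allL N16456 (tt N18316 (iv F158993)) (tt N14471 F150604) (tt N14539 F150605) (tt N14595 F150606) (tt N17657 (iv F156142)) (tt N18317 D34244) (tt N14470 (iv D32383)) (tt N18318 D34245) (tt N16456 F150607) (tt N14477 F150608))
theorem Q16458 : ∀ i, i < 16458 → P i := stepQ 16457 Q16457 (allL N16457 (tt N17346 (iv F154504)) (tt N18317 (iv F158998)) (tt N14472 F150609) (tt N14596 F150610) (tt N18319 D34246) (tt N14471 (iv D32384)) (tt N14530 F150611) (tt N18320 D34247) (tt N18321 D34248) (tt N14478 F150612))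
theorem Q16459 : ∀ i, i < 16459 → P i := stepQ 16458 Q16458 (allL N16458 (tt N17347 (iv F154509)) (tt N18318 (iv F159004)) (tt N14473 F150613) (tt N14597 F150614) (tt N17659 (iv F156154)) (tt N18320 (iv F159015)) (tt N14515 F150615) (tt N14471 (iv D32385)) (tt N16458 F150616) (tt N14479 F150617))
theorem Q16460 : ∀ i, i < 16460 → P i := stepQ 16459 Q16459 (allL N16459 (tt N17348 (iv F154516)) (tt N14542 F150618) (tt N18319 (iv F159010)) (tt N14761 F150619) (tt N14472 (iv D32386)) (tt N17660 (iv F156161)) (tt N14532 F150620) (tt N18322 D34249) (tt N18323 D34250) (tt N14480 F150621))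
theorem Q16461 : ∀ i, i < 16461 → P i := stepQ 16460 Q16460 (allL N16460 (tt N17349 (iv F154522)) (tt N14543 F150622) (tt N18320 (iv F159013)) (tt N14474 F150623) (tt N18322 (iv F159025)) (tt N14473 F150624) (tt N18324 D34251) (tt N14472 (iv D32387)) (tt N18325 D34252) (tt N14481 F150625))
theorem Q16462 : ∀ i, i < 16462 → P i := stepQ 16461 Q16461 (allL N16461 (tt N17350 (iv F154527)) (tt N14544 F150626) (tt N18321 (iv F159018)) (tt N14475 F150627) (tt N18323 (iv F159029)) (tt N16461 F150628) (tt N14534 F150629) (tt N18325 (iv F159039)) (tt N14472 (iv D32388)) (tt N17260 (iv F153966)))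
theorem Q16463 : ∀ i, i < 16463 → P i := stepQ 16462 Q16462 (allL N16462 (tt N17351 (iv F154533)) (tt N14545 F150630) (tt N14601 F150631) (tt N18324 (iv F159032)) (tt N14764 F150632) (tt N14519 F150633) (tt N14474 (iv D32389)) (tt N14535 F150634) (tt N18326 D34253) (tt N14483 F150635))
theorem Q16464 : ∀ i, i < 16464 → P i := stepQ 16463 Q16463 (allL N16463 (tt N17352 (iv F154540)) (tt N14546 F150636) (tt N14602 F150637) (tt N18325 (iv F159037)) (tt N14765 F150638) (tt N16463 F150639) (tt N18326 (iv F159043)) (tt N14475 F150640) (tt N14474 (iv D32390)) (tt N17262 (iv F153978)))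
theorem Q16465 : ∀ i, i < 16465 → P i := stepQ 16464 Q16464 (allL N16464 (tt N14477 F150641) (tt N18010 (iv F157827)) (tt N14548 F150642) (tt N15044 F150643) (tt N18008 (iv F157818)) (tt N18327 D34254) (tt N14476 (iv D32391)) (tt N18328 D34255) (tt N14495 F150644) (tt N18316 (iv F158997)))
theorem Q16466 : ∀ i, i < 16466 → P i := stepQ 16465 Q16465 (allL N16465 (tt N18327 (iv F159045)) (tt N14478 F150645) (tt N14549 F150646) (tt N15045 F150647) (tt N18329 D34256) (tt N14477 (iv D32392)) (tt N18294 (iv F158890)) (tt N18330 D34257) (tt N18331 D34258) (tt N18317 (iv F159002)))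
theorem Q16467 : ∀ i, i < 16467 → P i := stepQ 16466 Q16466 (allL N16466 (tt N18328 (iv F159048)) (tt N14479 F150648) (tt N14550 F150649) (tt N15046 F150650) (tt N18053 (iv F158034)) (tt N18330 (iv F159057)) (tt N18305 (iv F158943)) (tt N14477 (iv D32393)) (tt N14497 F150651) (tt N18318 (iv F159009)))
theorem Q16468 : ∀ i, i < 16468 → P i := stepQ 16467 Q16467 (allL N16467 (tt N18286 (iv F158849)) (tt N18329 (iv F159052)) (tt N14480 F150652) (tt N18332 D34259) (tt N14478 (iv D32394)) (tt N18054 (iv F158037)) (tt N18296 (iv F158900)) (tt N18333 D34260) (tt N18334 D34261) (tt N18319 (iv F159012)))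
theorem Q16469 : ∀ i, i < 16469 → P i := stepQ 16468 Q16468 (allL N16468 (tt N18287 (iv F158851)) (tt N18330 (iv F159054)) (tt N14481 F150653) (tt N15047 F150654) (tt N18333 (iv F159068)) (tt N14479 F150655) (tt N18335 D34262) (tt N14478 (iv D32395)) (tt N18336 D34263) (tt N18320 (iv F159016)))
theorem Q16470 : ∀ i, i < 16470 → P i := stepQ 16469 Q16469 (allL N16469 (tt N17888 (iv F157163)) (tt N18331 (iv F159058)) (tt N14482 F150656) (tt N14904 F150657) (tt N18334 (iv F159071)) (tt N14500 F150658) (tt N18298 (iv F158910)) (tt N18336 (iv F159077)) (tt N14478 (iv D32396)) (tt N17139 (iv F153254)))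
theorem Q16471 : ∀ i, i < 16471 → P i := stepQ 16470 Q16470 (allL N16470 (tt N18288 (iv F158855)) (tt N14554 F150659) (tt N18333 (iv F159067)) (tt N14769 F150660) (tt N14481 F150661) (tt N18057 (iv F158047)) (tt N18337 D34264) (tt N14480 (iv D32397)) (tt N18338 D34265) (tt N18322 (iv F159026)))
theorem Q16472 : ∀ i, i < 16472 → P i := stepQ 16471 Q16471 (allL N16471 (tt N17783 (iv F156690)) (tt N14555 F150662) (tt N18334 (iv F159069)) (tt N14770 F150663) (tt N14482 F150664) (tt N17794 (iv F156744)) (tt N18300 (iv F158919)) (tt N18338 (iv F159084)) (tt N14480 (iv D32398)) (tt N17211 (iv F153698)))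
theorem Q16473 : ∀ i, i < 16473 → P i := stepQ 16472 Q16472 (allL N16472 (tt N18289 (iv F158858)) (tt N14556 F150665) (tt N18335 (iv F159072)) (tt N14483 F150666) (tt N18337 (iv F159080)) (tt N18311 (iv F158969)) (tt N14481 (iv D32399)) (tt N18301 (iv F158923)) (tt N18339 D34266) (tt N18324 (iv F159035)))
theorem Q16474 : ∀ i, i < 16474 → P i := stepQ 16473 Q16473 (allL N16473 (tt N17896 (iv F157201)) (tt N14557 F150667) (tt N18336 (iv F159074)) (tt N14484 F150668) (tt N18338 (iv F159083)) (tt N14503 F150669) (tt N18339 (iv F159087)) (tt N14482 F150670) (tt N14481 (iv D32400)) (tt N17259 (iv F153959)))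
theorem Q16475 : ∀ i, i < 16475 → P i := stepQ 16474 Q16474 (allL N16474 (tt N17897 (iv F157206)) (tt N14559 F150671) (tt N14912 F150672) (tt N18339 (iv F159086)) (tt N14773 F150673) (tt N18340 D34267) (tt N14484 F150674) (tt N18303 (iv F158933)) (tt N14483 (iv D32401)) (tt N17261 (iv F153971)))
theorem Q16476 : ∀ i, i < 16476 → P i := stepQ 16475 Q16475 (allL N16475 (tt N18064 (iv F158069)) (tt N14488 F150675) (tt N14561 F150676) (tt N15050 F150677) (tt N17990 (iv F157705)) (tt N18291 (iv F158871)) (tt N14497 F150678) (tt N14486 (iv D32402)) (tt N18305 (iv F158944)) (tt N16475 F150679))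
theorem Q16477 : ∀ i, i < 16477 → P i := stepQ 16476 Q16476 (allL N16476 (tt N17996 (iv F157744)) (tt N18291 (iv F158867)) (tt N14490 F150680) (tt N15051 F150681) (tt N18290 (iv F158863)) (tt N14488 F150682) (tt N18341 D34268) (tt N14487 (iv D32403)) (tt N18342 D34269) (tt N16476 F150683))
theorem Q16478 : ∀ i, i < 16478 → P i := stepQ 16477 Q16477 (allL N16477 (tt N17997 (iv F157749)) (tt N14720 F150684) (tt N14491 F150685) (tt N14717 F150686) (tt N17938 (iv F157402)) (tt N18308 (iv F158956)) (tt N16477 F150687) (tt N18342 (iv F159100)) (tt N14487 (iv D32404)) (tt N14731 (iv F150688)))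
theorem Q16479 : ∀ i, i < 16479 → P i := stepQ 16478 Q16478 (allL N16478 (tt N17998 (iv F157754)) (tt N14564 F150689) (tt N18290 (iv F158861)) (tt N16478 F150690) (tt N14490 F150691) (tt N17300 (iv F154234)) (tt N18343 D34270) (tt N14489 (iv D32405)) (tt N18344 D34271) (tt N16478 F150692))
theorem Q16480 : ∀ i, i < 16480 → P i := stepQ 16479 Q16479 (allL N16479 (tt N17999 (iv F157760)) (tt N14565 F150693) (tt N17938 F157406) (tt N16479 F150694) (tt N14491 F150695) (tt N18345 D34272) (tt N16479 F150696) (tt N18344 (iv F159110)) (tt N14489 (iv D32406)) (tt N18108 (iv F158239)))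
theorem Q16481 : ∀ i, i < 16481 → P i := stepQ 16480 Q16480 (allL N16480 (tt N18000 (iv F157765)) (tt N14566 F150697) (tt N18341 (iv F159092)) (tt N14492 F150698) (tt N18343 (iv F159104)) (tt N14502 F150699) (tt N14490 (iv D32407)) (tt N16480 F150700) (tt N18346 D34273) (tt N16480 F150701))
theorem Q16482 : ∀ i, i < 16482 → P i := stepQ 16481 Q16481 (allL N16481 (tt N18001 (iv F157771)) (tt N14567 F150702) (tt N18342 (iv F159098)) (tt N14493 F150703) (tt N18344 (iv F159109)) (tt N18312 (iv F158974)) (tt N18346 (iv F159115)) (tt N14491 F150704) (tt N14490 (iv D32408)) (tt N18347 D34274))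
theorem Q16483 : ∀ i, i < 16483 → P i := stepQ 16482 Q16482 (allL N16482 (tt N18002 (iv F157775)) (tt N14568 F150705) (tt N14731 F150706) (tt N14494 F150707) (tt N18108 (iv F158236)) (tt N18313 (iv F158979)) (tt N16482 F150708) (tt N18347 (iv F159120)) (tt N16482 F150709) (tt N14491 (iv D32409)))
theorem Q16484 : ∀ i, i < 16484 → P i := stepQ 16483 Q16483 (allL N16483 (tt N18003 (iv F157781)) (tt N14569 F150710) (tt N15055 F150711) (tt N18346 (iv F159114)) (tt N16483 F150712) (tt N18348 D34275) (tt N14493 F150713) (tt N16483 F150714) (tt N14492 (iv D32410)) (tt N18349 D34276))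
theorem Q16485 : ∀ i, i < 16485 → P i := stepQ 16484 Q16484 (allL N16484 (tt N18004 (iv F157787)) (tt N14570 F150715) (tt N15056 F150716) (tt N18347 (iv F159119)) (tt N16484 F150717) (tt N18315 (iv F158990)) (tt N18349 (iv F159130)) (tt N14494 F150718) (tt N16484 F150719) (tt N14493 (iv D32411)))
theorem Q16486 : ∀ i, i < 16486 → P i := stepQ 16485 Q16485 (allL N16485 (tt N14496 F150720) (tt N17995 (iv F157738)) (tt N14571 F150721) (tt N15057 F150722) (tt N17993 (iv F157728)) (tt N14495 (iv D32412)) (tt N16485 F150723) (tt N18350 D34277) (tt N18351 D34278) (tt N16485 F150724))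
theorem Q16487 : ∀ i, i < 16487 → P i := stepQ 16486 Q16486 (allL N16486 (tt N14497 F150725) (tt N18009 (iv F157821)) (tt N14572 F150726) (tt N15058 F150727) (tt N18007 (iv F157810)) (tt N18350 (iv F159136)) (tt N18064 (iv F158074)) (tt N14495 (iv D32413)) (tt N18328 (iv F159051)) (tt N16486 F150728))
theorem Q16488 : ∀ i, i < 16488 → P i := stepQ 16487 Q16487 (allL N16487 (tt N17993 (iv F157724)) (tt N14498 F150729) (tt N14573 F150730) (tt N17575 (iv F155675)) (tt N14496 (iv D32414)) (tt N17992 F157723) (tt N16487 F150731) (tt N18352 D34279) (tt N17573 F155667) (tt N16487 F150732))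
theorem Q16489 : ∀ i, i < 16489 → P i := stepQ 16488 Q16488 (allL N16488 (tt N18350 (iv F159133)) (tt N14499 F150733) (tt N14574 F150734) (tt N15059 F150735) (tt N18352 (iv F159144)) (tt N14497 F150736) (tt N18353 D34280) (tt N14496 (iv D32415)) (tt N18354 D34281) (tt N16488 F150737))
theorem Q16490 : ∀ i, i < 16490 → P i := stepQ 16489 Q16489 (allL N16489 (tt N18351 (iv F159138)) (tt N14500 F150738) (tt N14575 F150739) (tt N14946 F150740) (tt N17573 (iv F155663)) (tt N18331 (iv F159061)) (tt N16489 F150741) (tt N18354 (iv F159154)) (tt N14496 (iv D32416)) (tt N17145 (iv F153298)))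
theorem Q16491 : ∀ i, i < 16491 → P i := stepQ 16490 Q16490 (allL N16490 (tt N18291 (iv F158866)) (tt N18352 (iv F159142)) (tt N14501 F150742) (tt N17579 (iv F155699)) (tt N14499 F150743) (tt N18064 (iv F158073)) (tt N18355 D34282) (tt N14498 (iv D32417)) (tt N17577 (iv F155690)) (tt N16490 F150744))
theorem Q16492 : ∀ i, i < 16492 → P i := stepQ 16491 Q16491 (allL N16491 (tt N18292 (iv F158874)) (tt N18353 (iv F159146)) (tt N14502 F150745) (tt N15060 F150746) (tt N18355 (iv F159156)) (tt N18341 (iv F159094)) (tt N14499 (iv D32418)) (tt N16491 F150747) (tt N18356 D34283) (tt N16491 F150748))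
theorem Q16493 : ∀ i, i < 16493 → P i := stepQ 16492 Q16492 (allL N16492 (tt N17942 (iv F157426)) (tt N18354 (iv F159151)) (tt N14503 F150749) (tt N14949 F150750) (tt N17577 (iv F155689)) (tt N18336 (iv F159076)) (tt N18356 (iv F159161)) (tt N14500 F150751) (tt N14499 (iv D32419)) (tt N17146 (iv F153304)))
theorem Q16494 : ∀ i, i < 16494 → P i := stepQ 16493 Q16493 (allL N16493 (tt N18293 (iv F158879)) (tt N14581 F150752) (tt N18355 (iv F159155)) (tt N14505 F150753) (tt N14502 F150754) (tt N18357 D34284) (tt N14501 (iv D32420)) (tt N16493 F150755) (tt N17950 (iv F157477)) (tt N16493 F150756))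
theorem Q16495 : ∀ i, i < 16495 → P i := stepQ 16494 Q16494 (allL N16494 (tt N17947 (iv F157456)) (tt N14584 F150757) (tt N18356 (iv F159159)) (tt N14504 F150758) (tt N17950 (iv F157475)) (tt N18358 D34285) (tt N14503 F150759) (tt N16494 F150760) (tt N14502 (iv D32421)) (tt N17275 (iv F154058)))
theorem Q16496 : ∀ i, i < 16496 → P i := stepQ 16495 Q16495 (allL N16495 (tt N17948 (iv F157462)) (tt N14586 F150761) (tt N14955 F150762) (tt N18358 (iv F159170)) (tt N14961 F150763) (tt N14504 (iv D32422)) (tt N18340 (iv F159091)) (tt N16495 F150764) (tt N18348 (iv F159125)) (tt N17276 (iv F154064)))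
theorem Q16497 : ∀ i, i < 16497 → P i := stepQ 16496 Q16496 (allL N16496 (tt N14690 F150765) (tt N14588 F150766) (tt N15165 F150767) (tt N18357 (iv F159165)) (tt N16496 F150768) (tt N14505 (iv D32423)) (tt N14688 F150769) (tt N16496 F150770) (tt N18273 F158796) (tt N16496 F150771))
theorem Q16498 : ∀ i, i < 16498 → P i := stepQ 16497 Q16497 (allL N16497 (tt N18048 (iv F158010)) (tt N14507 F150772) (tt N17377 (iv F154675)) (tt N16497 F150773) (tt N14513 F150774) (tt N18359 D34286) (tt N14506 (iv D32424)) (tt N18360 D34287) (tt N16497 F150775) (tt N17591 (iv F155775)))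
theorem Q16499 : ∀ i, i < 16499 → P i := stepQ 16498 Q16498 (allL N16498 (tt N17336 (iv F154440)) (tt N18359 (iv F159172)) (tt N14508 F150776) (tt N16498 F150777) (tt N18361 D34288) (tt N14507 (iv D32425)) (tt N17609 (iv F155884)) (tt N18362 D34289) (tt N18363 D34290) (tt N17592 (iv F155780)))
theorem Q16500 : ∀ i, i < 16500 → P i := stepQ 16499 Q16499 (allL N16499 (tt N17337 (iv F154446)) (tt N18360 (iv F159174)) (tt N14509 F150778) (tt N16499 F150779) (tt N14515 F150780) (tt N18362 (iv F159182)) (tt N17659 (iv F156155)) (tt N14507 (iv D32426)) (tt N16499 F150781) (tt N17593 (iv F155787)))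
theorem Q16501 : ∀ i, i < 16501 → P i := stepQ 16500 Q16500 (allL N16500 (tt N17338 (iv F154454)) (tt N17380 (iv F154694)) (tt N18361 (iv F159178)) (tt N14784 F150782) (tt N14508 (iv D32427)) (tt N14516 F150783) (tt N17611 (iv F155897)) (tt N18364 D34291) (tt N18365 D34292) (tt N17594 (iv F155793)))
theorem Q16502 : ∀ i, i < 16502 → P i := stepQ 16501 Q16501 (allL N16501 (tt N17339 (iv F154460)) (tt N17381 (iv F154700)) (tt N18362 (iv F159180)) (tt N14510 F150784) (tt N18364 (iv F159187)) (tt N14509 F150785) (tt N18366 D34293) (tt N14508 (iv D32428)) (tt N18367 D34294) (tt N17595 (iv F155798)))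
theorem Q16503 : ∀ i, i < 16503 → P i := stepQ 16502 Q16502 (allL N16502 (tt N17340 (iv F154465)) (tt N17382 (iv F154705)) (tt N18363 (iv F159183)) (tt N14511 F150786) (tt N18365 (iv F159190)) (tt N16502 F150787) (tt N17613 (iv F155908)) (tt N18367 (iv F159194)) (tt N14508 (iv D32429)) (tt N18172 (iv F158482)))
theorem Q16504 : ∀ i, i < 16504 → P i := stepQ 16503 Q16503 (allL N16503 (tt N17341 (iv F154470)) (tt N17383 (iv F154712)) (tt N16503 F150788) (tt N18366 (iv F159191)) (tt N14787 F150789) (tt N17663 (iv F156179)) (tt N14510 (iv D32430)) (tt N17614 (iv F155915)) (tt N18368 D34295) (tt N17597 (iv F155811)))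
theorem Q16505 : ∀ i, i < 16505 → P i := stepQ 16504 Q16504 (allL N16504 (tt N17342 (iv F154477)) (tt N17384 (iv F154719)) (tt N16504 F150790) (tt N18367 (iv F159192)) (tt N14788 F150791) (tt N16504 F150792) (tt N18368 (iv F159197)) (tt N14511 F150793) (tt N14510 (iv D32431)) (tt N18244 (iv F158707)))
theorem Q16506 : ∀ i, i < 16506 → P i := stepQ 16505 Q16505 (allL N16505 (tt N14513 F150794) (tt N17363 (iv F154610)) (tt N18068 (iv F158093)) (tt N14613 F150795) (tt N18048 (iv F158014)) (tt N18369 D34296) (tt N14512 (iv D32432)) (tt N18370 D34297) (tt N16505 F150796) (tt N18065 F158081))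
theorem Q16507 : ∀ i, i < 16507 → P i := stepQ 16506 Q16506 (allL N16506 (tt N18369 (iv F159198)) (tt N14514 F150797) (tt N18294 (iv F158888)) (tt N14614 F150798) (tt N18371 D34298) (tt N14513 (iv D32433)) (tt N14549 F150799) (tt N18372 D34299) (tt N18373 D34300) (tt N18304 (iv F158939)))
theorem Q16508 : ∀ i, i < 16508 → P i := stepQ 16507 Q16507 (allL N16507 (tt N18370 (iv F159201)) (tt N14515 F150800) (tt N18295 (iv F158894)) (tt N14615 F150801) (tt N18360 (iv F159176)) (tt N18372 (iv F159208)) (tt N18318 (iv F159007)) (tt N14513 (iv D32434)) (tt N16507 F150802) (tt N18305 (iv F158945)))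
theorem Q16509 : ∀ i, i < 16509 → P i := stepQ 16508 Q16508 (allL N16508 (tt N17366 (iv F154624)) (tt N18371 (iv F159204)) (tt N14516 F150803) (tt N18374 D34301) (tt N14514 (iv D32435)) (tt N18361 (iv F159179)) (tt N14551 F150804) (tt N18375 D34302) (tt N18376 D34303) (tt N18306 (iv F158948)))
theorem Q16510 : ∀ i, i < 16510 → P i := stepQ 16509 Q16509 (allL N16509 (tt N17367 (iv F154627)) (tt N18372 (iv F159206)) (tt N14517 F150805) (tt N14617 F150806) (tt N18375 (iv F159219)) (tt N14515 F150807) (tt N18377 D34304) (tt N14514 (iv D32436)) (tt N18378 D34305) (tt N18307 (iv F158952)))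
theorem Q16511 : ∀ i, i < 16511 → P i := stepQ 16510 Q16510 (allL N16510 (tt N17368 (iv F154631)) (tt N18373 (iv F159209)) (tt N14518 F150808) (tt N14618 F150809) (tt N18376 (iv F159221)) (tt N16510 F150810) (tt N14553 F150811) (tt N18378 (iv F159229)) (tt N14514 (iv D32437)) (tt N18379 D34306))
theorem Q16512 : ∀ i, i < 16512 → P i := stepQ 16511 Q16511 (allL N16511 (tt N17369 (iv F154636)) (tt N18299 (iv F158912)) (tt N18375 (iv F159218)) (tt N14809 F150812) (tt N14517 F150813) (tt N18364 (iv F159188)) (tt N18380 D34307) (tt N14516 (iv D32438)) (tt N18381 D34308) (tt N18309 (iv F158962)))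
theorem Q16513 : ∀ i, i < 16513 → P i := stepQ 16512 Q16512 (allL N16512 (tt N17370 (iv F154639)) (tt N18300 (iv F158916)) (tt N18376 (iv F159220)) (tt N14810 F150814) (tt N14518 F150815) (tt N18382 D34309) (tt N14555 F150816) (tt N18381 (iv F159241)) (tt N14516 (iv D32439)) (tt N18383 D34310))
theorem Q16514 : ∀ i, i < 16514 → P i := stepQ 16513 Q16513 (allL N16513 (tt N17371 (iv F154643)) (tt N18301 (iv F158920)) (tt N18377 (iv F159223)) (tt N14519 F150817) (tt N18380 (iv F159237)) (tt N18324 (iv F159033)) (tt N14517 (iv D32440)) (tt N14556 F150818) (tt N18384 D34311) (tt N18311 (iv F158971)))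
theorem Q16515 : ∀ i, i < 16515 → P i := stepQ 16514 Q16514 (allL N16514 (tt N17372 (iv F154646)) (tt N18302 (iv F158925)) (tt N18378 (iv F159226)) (tt N14520 F150819) (tt N18381 (iv F159240)) (tt N16514 F150820) (tt N18384 (iv F159248)) (tt N14518 F150821) (tt N14517 (iv D32441)) (tt N18385 D34312))
theorem Q16516 : ∀ i, i < 16516 → P i := stepQ 16515 Q16515 (allL N16515 (tt N17373 (iv F154650)) (tt N17251 (iv F153902)) (tt N18379 (iv F159231)) (tt N14521 F150822) (tt N18383 (iv F159245)) (tt N16515 F150823) (tt N14558 F150824) (tt N18385 (iv F159252)) (tt N18313 (iv F158981)) (tt N14518 (iv D32442)))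
theorem Q16517 : ∀ i, i < 16517 → P i := stepQ 16516 Q16516 (allL N16516 (tt N17374 (iv F154654)) (tt N18303 (iv F158929)) (tt N14624 F150825) (tt N18384 (iv F159247)) (tt N14814 F150826) (tt N18386 D34313) (tt N14520 F150827) (tt N14559 F150828) (tt N14519 (iv D32443)) (tt N18387 D34314))
theorem Q16518 : ∀ i, i < 16518 → P i := stepQ 16517 Q16517 (allL N16517 (tt N17375 (iv F154659)) (tt N17252 (iv F153909)) (tt N14625 F150829) (tt N18385 (iv F159250)) (tt N14815 F150830) (tt N16517 F150831) (tt N18387 (iv F159258)) (tt N14521 F150832) (tt N18315 (iv F158992)) (tt N14520 (iv D32444)))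
theorem Q16519 : ∀ i, i < 16519 → P i := stepQ 16518 Q16518 (allL N16518 (tt N17378 (iv F154680)) (tt N17127 (iv F153168)) (tt N14524 F150833) (tt N14626 F150834) (tt N18388 D34315) (tt N14523 (iv D32445)) (tt N14759 F150835) (tt N18389 D34316) (tt N17208 (iv F153680)) (tt N14743 F150836))
theorem Q16520 : ∀ i, i < 16520 → P i := stepQ 16519 Q16519 (allL N16519 (tt N17379 (iv F154686)) (tt N17133 (iv F153208)) (tt N14525 F150837) (tt N14627 F150838) (tt N17387 (iv F154742)) (tt N18389 (iv F159265)) (tt N14818 F150839) (tt N14523 (iv D32446)) (tt N16519 F150840) (tt N14744 F150841))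
theorem Q16521 : ∀ i, i < 16521 → P i := stepQ 16520 Q16520 (allL N16520 (tt N17380 (iv F154693)) (tt N14798 F150842) (tt N18388 (iv F159260)) (tt N14532 F150843) (tt N14524 (iv D32447)) (tt N17388 (iv F154749)) (tt N14761 F150844) (tt N18390 D34317) (tt N18391 D34318) (tt N14745 F150845))
theorem Q16522 : ∀ i, i < 16522 → P i := stepQ 16521 Q16521 (allL N16521 (tt N17381 (iv F154699)) (tt N14799 F150846) (tt N18389 (iv F159263)) (tt N14526 F150847) (tt N18390 (iv F159269)) (tt N14525 F150848) (tt N18392 D34319) (tt N14524 (iv D32448)) (tt N18393 D34320) (tt N14746 F150849))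
theorem Q16523 : ∀ i, i < 16523 → P i := stepQ 16522 Q16522 (allL N16522 (tt N17382 (iv F154704)) (tt N14800 F150850) (tt N17208 (iv F153676)) (tt N14527 F150851) (tt N18391 (iv F159273)) (tt N16522 F150852) (tt N14763 F150853) (tt N18393 (iv F159283)) (tt N14524 (iv D32449)) (tt N17203 (iv F153652)))
theorem Q16524 : ∀ i, i < 16524 → P i := stepQ 16523 Q16523 (allL N16523 (tt N17383 (iv F154711)) (tt N14801 F150854) (tt N14630 F150855) (tt N18392 (iv F159276)) (tt N14535 F150856) (tt N14822 F150857) (tt N14526 (iv D32450)) (tt N14764 F150858) (tt N18394 D34321) (tt N14748 F150859))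
theorem Q16525 : ∀ i, i < 16525 → P i := stepQ 16524 Q16524 (allL N16524 (tt N17384 (iv F154718)) (tt N14802 F150860) (tt N14631 F150861) (tt N18393 (iv F159281)) (tt N14536 F150862) (tt N16524 F150863) (tt N18394 (iv F159287)) (tt N14527 F150864) (tt N14526 (iv D32451)) (tt N17254 (iv F153927)))
theorem Q16526 : ∀ i, i < 16526 → P i := stepQ 16525 Q16525 (allL N16525 (tt N17901 (iv F157227)) (tt N14530 F150865) (tt N18304 (iv F158935)) (tt N14641 F150866) (tt N18395 D34322) (tt N14529 (iv D32452)) (tt N18317 (iv F159001)) (tt N18396 D34323) (tt N14915 F150867) (tt N18294 (iv F158891)))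
theorem Q16527 : ∀ i, i < 16527 → P i := stepQ 16526 Q16526 (allL N16526 (tt N18067 (iv F158085)) (tt N14531 F150868) (tt N18305 (iv F158941)) (tt N14642 F150869) (tt N18005 (iv F157796)) (tt N18396 (iv F159294)) (tt N14550 F150870) (tt N14529 (iv D32453)) (tt N14561 F150871) (tt N18295 (iv F158898)))
theorem Q16528 : ∀ i, i < 16528 → P i := stepQ 16527 Q16527 (allL N16527 (tt N17393 (iv F154777)) (tt N18395 (iv F159289)) (tt N14532 F150872) (tt N18397 D34324) (tt N14530 (iv D32454)) (tt N17737 F156496) (tt N18319 (iv F159011)) (tt N18398 D34325) (tt N18399 D34326) (tt N18296 (iv F158901)))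
theorem Q16529 : ∀ i, i < 16529 → P i := stepQ 16528 Q16528 (allL N16528 (tt N17394 (iv F154780)) (tt N18396 (iv F159292)) (tt N14533 F150873) (tt N14644 F150874) (tt N18398 (iv F159300)) (tt N14531 F150875) (tt N18400 D34327) (tt N14530 (iv D32455)) (tt N18401 D34328) (tt N18297 (iv F158905)))
theorem Q16530 : ∀ i, i < 16530 → P i := stepQ 16529 Q16529 (allL N16529 (tt N17327 (iv F154385)) (tt N14915 F150876) (tt N14534 F150877) (tt N14645 F150878) (tt N18399 (iv F159304)) (tt N14563 F150879) (tt N18321 (iv F159021)) (tt N18401 (iv F159313)) (tt N14530 (iv D32456)) (tt N14927 (iv F150880)))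
theorem Q16531 : ∀ i, i < 16531 → P i := stepQ 16530 Q16530 (allL N16530 (tt N17395 (iv F154784)) (tt N18309 (iv F158959)) (tt N18398 (iv F159299)) (tt N18390 (iv F159268)) (tt N14533 F150881) (tt N18074 (iv F158124)) (tt N18402 D34329) (tt N14532 (iv D32457)) (tt N18403 D34330) (tt N18299 (iv F158915)))
theorem Q16532 : ∀ i, i < 16532 → P i := stepQ 16531 Q16531 (allL N16531 (tt N17396 (iv F154788)) (tt N18310 (iv F158963)) (tt N18399 (iv F159302)) (tt N18391 (iv F159272)) (tt N14534 F150882) (tt N18404 D34331) (tt N18323 (iv F159030)) (tt N18403 (iv F159317)) (tt N14532 (iv D32458)) (tt N18405 D34332))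
theorem Q16533 : ∀ i, i < 16533 → P i := stepQ 16532 Q16532 (allL N16532 (tt N17397 (iv F154791)) (tt N18311 (iv F158967)) (tt N18400 (iv F159306)) (tt N14535 F150883) (tt N18402 (iv F159315)) (tt N14556 F150884) (tt N14533 (iv D32459)) (tt N18324 (iv F159034)) (tt N18406 D34333) (tt N18301 (iv F158924)))
theorem Q16534 : ∀ i, i < 16534 → P i := stepQ 16533 Q16533 (allL N16533 (tt N17398 (iv F154795)) (tt N18312 (iv F158972)) (tt N18401 (iv F159310)) (tt N14536 F150885) (tt N18403 (iv F159316)) (tt N14567 F150886) (tt N18406 (iv F159322)) (tt N14534 F150887) (tt N14533 (iv D32460)) (tt N18407 D34334))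
theorem Q16535 : ∀ i, i < 16535 → P i := stepQ 16534 Q16534 (allL N16534 (tt N17399 (iv F154800)) (tt N18313 (iv F158976)) (tt N14927 F150888) (tt N14537 F150889) (tt N18405 (iv F159320)) (tt N14568 F150890) (tt N17260 (iv F153965)) (tt N18407 (iv F159326)) (tt N17251 (iv F153906)) (tt N14534 (iv D32461)))
theorem Q16536 : ∀ i, i < 16536 → P i := stepQ 16535 Q16535 (allL N16535 (tt N17400 (iv F154807)) (tt N18314 (iv F158982)) (tt N14649 F150891) (tt N18406 (iv F159321)) (tt N18394 (iv F159286)) (tt N18408 D34335) (tt N14536 F150892) (tt N18326 (iv F159044)) (tt N14535 (iv D32462)) (tt N18409 D34336))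
theorem Q16537 : ∀ i, i < 16537 → P i := stepQ 16536 Q16536 (allL N16536 (tt N17401 (iv F154811)) (tt N18315 (iv F158987)) (tt N14650 F150893) (tt N18407 (iv F159324)) (tt N17254 (iv F153924)) (tt N14570 F150894) (tt N18409 (iv F159331)) (tt N14537 F150895) (tt N17252 (iv F153913)) (tt N14536 (iv D32463)))
theorem Q16538 : ∀ i, i < 16538 → P i := stepQ 16537 Q16537 (allL N16537 (tt N14539 F150896) (tt N17402 (iv F154819)) (tt N18316 (iv F158994)) (tt N14651 F150897) (tt N17770 (iv F156637)) (tt N18410 D34337) (tt N14538 (iv D32464)) (tt N18411 D34338) (tt N16537 F150898) (tt N14548 F150899))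
theorem Q16539 : ∀ i, i < 16539 → P i := stepQ 16538 Q16538 (allL N16538 (tt N18410 (iv F159332)) (tt N14540 F150900) (tt N18317 (iv F158999)) (tt N14652 F150901) (tt N18412 D34339) (tt N14539 (iv D32465)) (tt N18304 (iv F158937)) (tt N18413 D34340) (tt N18414 D34341) (tt N14549 F150902))
theorem Q16540 : ∀ i, i < 16540 → P i := stepQ 16539 Q16539 (allL N16539 (tt N18411 (iv F159335)) (tt N14541 F150903) (tt N18318 (iv F159005)) (tt N14653 F150904) (tt N17772 (iv F156645)) (tt N18413 (iv F159343)) (tt N18295 (iv F158896)) (tt N14539 (iv D32466)) (tt N16539 F150905) (tt N14550 F150906))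
theorem Q16541 : ∀ i, i < 16541 → P i := stepQ 16540 Q16540 (allL N16540 (tt N17405 (iv F154835)) (tt N18412 (iv F159339)) (tt N14542 F150907) (tt N18415 D34342) (tt N14540 (iv D32467)) (tt N17773 (iv F156650)) (tt N18306 (iv F158947)) (tt N18416 D34343) (tt N18417 D34344) (tt N14551 F150908))
theorem Q16542 : ∀ i, i < 16542 → P i := stepQ 16541 Q16541 (allL N16541 (tt N17406 (iv F154839)) (tt N18413 (iv F159341)) (tt N14543 F150909) (tt N14655 F150910) (tt N18416 (iv F159355)) (tt N14541 F150911) (tt N18418 D34345) (tt N14540 (iv D32468)) (tt N18419 D34346) (tt N14552 F150912))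
theorem Q16543 : ∀ i, i < 16543 → P i := stepQ 16542 Q16542 (allL N16542 (tt N17407 (iv F154844)) (tt N18414 (iv F159345)) (tt N14544 F150913) (tt N14656 F150914) (tt N18417 (iv F159358)) (tt N16542 F150915) (tt N18308 (iv F158957)) (tt N18419 (iv F159365)) (tt N14540 (iv D32469)) (tt N18420 D34347))
theorem Q16544 : ∀ i, i < 16544 → P i := stepQ 16543 Q16543 (allL N16543 (tt N17408 (iv F154848)) (tt N18322 (iv F159023)) (tt N18416 (iv F159354)) (tt N14834 F150916) (tt N14543 F150917) (tt N17776 (iv F156664)) (tt N18421 D34348) (tt N14542 (iv D32470)) (tt N18422 D34349) (tt N14554 F150918))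
theorem Q16545 : ∀ i, i < 16545 → P i := stepQ 16544 Q16544 (allL N16544 (tt N17409 (iv F154853)) (tt N18323 (iv F159027)) (tt N18417 (iv F159357)) (tt N14835 F150919) (tt N14544 F150920) (tt N18423 D34350) (tt N18310 (iv F158966)) (tt N18422 (iv F159377)) (tt N14542 (iv D32471)) (tt N18424 D34351))
theorem Q16546 : ∀ i, i < 16546 → P i := stepQ 16545 Q16545 (allL N16545 (tt N17410 (iv F154856)) (tt N18324 (iv F159031)) (tt N18418 (iv F159359)) (tt N14545 F150921) (tt N18421 (iv F159373)) (tt N18301 (iv F158922)) (tt N14543 (iv D32472)) (tt N18311 (iv F158970)) (tt N18425 D34352) (tt N14556 F150922))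
theorem Q16547 : ∀ i, i < 16547 → P i := stepQ 16546 Q16546 (allL N16546 (tt N17411 (iv F154859)) (tt N18325 (iv F159036)) (tt N18419 (iv F159362)) (tt N14546 F150923) (tt N18422 (iv F159376)) (tt N16546 F150924) (tt N18425 (iv F159384)) (tt N14544 F150925) (tt N14543 (iv D32473)) (tt N18426 D34353))
theorem Q16548 : ∀ i, i < 16548 → P i := stepQ 16547 Q16547 (allL N16547 (tt N17412 (iv F154863)) (tt N17260 (iv F153961)) (tt N18420 (iv F159367)) (tt N14547 F150926) (tt N18424 (iv F159381)) (tt N16547 F150927) (tt N18313 (iv F158980)) (tt N18426 (iv F159387)) (tt N14558 F150928) (tt N14544 (iv D32474)))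
theorem Q16549 : ∀ i, i < 16549 → P i := stepQ 16548 Q16548 (allL N16548 (tt N17413 (iv F154867)) (tt N18326 (iv F159040)) (tt N14662 F150929) (tt N18425 (iv F159383)) (tt N14839 F150930) (tt N18427 D34354) (tt N14546 F150931) (tt N18314 (iv F158986)) (tt N14545 (iv D32475)) (tt N18428 D34355))
theorem Q16550 : ∀ i, i < 16550 → P i := stepQ 16549 Q16549 (allL N16549 (tt N17414 (iv F154871)) (tt N17262 (iv F153973)) (tt N14663 F150932) (tt N18426 (iv F159385)) (tt N14840 F150933) (tt N16549 F150934) (tt N18428 (iv F159393)) (tt N14547 F150935) (tt N14560 F150936) (tt N14546 (iv D32476)))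
theorem Q16551 : ∀ i, i < 16551 → P i := stepQ 16550 Q16550 (allL N16550 (tt N14549 F150937) (tt N17415 (iv F154878)) (tt N18327 (iv F159046)) (tt N14664 F150938) (tt N18429 D34356) (tt N14548 (iv D32477)) (tt N18369 (iv F159200)) (tt N18430 D34357) (tt N18431 D34358) (tt N18410 (iv F159334)))
theorem Q16552 : ∀ i, i < 16552 → P i := stepQ 16551 Q16551 (allL N16551 (tt N14550 F150939) (tt N17416 (iv F154882)) (tt N18328 (iv F159049)) (tt N14665 F150940) (tt N18033 (iv F157945)) (tt N18430 (iv F159398)) (tt N18067 (iv F158089)) (tt N14548 (iv D32478)) (tt N14572 F150941) (tt N18411 (iv F159338)))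
theorem Q16553 : ∀ i, i < 16553 → P i := stepQ 16552 Q16552 (allL N16552 (tt N18429 (iv F159395)) (tt N14551 F150942) (tt N18329 (iv F159053)) (tt N18432 D34359) (tt N14549 (iv D32479)) (tt N18076 (iv F158130)) (tt N18371 (iv F159205)) (tt N18433 D34360) (tt N18434 D34361) (tt N18412 (iv F159340)))
theorem Q16554 : ∀ i, i < 16554 → P i := stepQ 16553 Q16553 (allL N16553 (tt N18430 (iv F159396)) (tt N14552 F150943) (tt N18330 (iv F159055)) (tt N14667 F150944) (tt N18433 (iv F159405)) (tt N14550 F150945) (tt N18435 D34362) (tt N14549 (iv D32480)) (tt N18436 D34363) (tt N18413 (iv F159344)))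
theorem Q16555 : ∀ i, i < 16555 → P i := stepQ 16554 Q16554 (allL N16554 (tt N18431 (iv F159399)) (tt N14553 F150946) (tt N18331 (iv F159059)) (tt N14668 F150947) (tt N18434 (iv F159407)) (tt N14575 F150948) (tt N18373 (iv F159213)) (tt N18436 (iv F159413)) (tt N14549 (iv D32481)) (tt N18437 D34364))
theorem Q16556 : ∀ i, i < 16556 → P i := stepQ 16555 Q16555 (allL N16555 (tt N17420 (iv F154899)) (tt N18432 (iv F159402)) (tt N14843 F150949) (tt N14551 (iv D32482)) (tt N14669 F150950) (tt N18078 (iv F158136)) (tt N18374 (iv F159217)) (tt N18438 D34365) (tt N18439 D34366) (tt N18415 (iv F159353)))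
theorem Q16557 : ∀ i, i < 16557 → P i := stepQ 16556 Q16556 (allL N16556 (tt N17421 (iv F154902)) (tt N18433 (iv F159404)) (tt N14554 F150951) (tt N18438 (iv F159421)) (tt N14552 F150952) (tt N18079 (iv F158139)) (tt N18440 D34367) (tt N14551 (iv D32483)) (tt N18441 D34368) (tt N18416 (iv F159356)))
theorem Q16558 : ∀ i, i < 16558 → P i := stepQ 16557 Q16557 (allL N16557 (tt N17422 (iv F154905)) (tt N18434 (iv F159406)) (tt N14555 F150953) (tt N18439 (iv F159424)) (tt N14553 F150954) (tt N18442 D34369) (tt N18376 (iv F159222)) (tt N18441 (iv F159430)) (tt N14551 (iv D32484)) (tt N18443 D34370))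
theorem Q16559 : ∀ i, i < 16559 → P i := stepQ 16558 Q16558 (allL N16558 (tt N17423 (iv F154908)) (tt N18435 (iv F159408)) (tt N14556 F150955) (tt N14672 F150956) (tt N18440 (iv F159427)) (tt N18400 (iv F159308)) (tt N14552 (iv D32485)) (tt N18377 (iv F159225)) (tt N18444 D34371) (tt N18418 (iv F159361)))
theorem Q16560 : ∀ i, i < 16560 → P i := stepQ 16559 Q16559 (allL N16559 (tt N17424 (iv F154911)) (tt N18436 (iv F159410)) (tt N14557 F150957) (tt N14673 F150958) (tt N18441 (iv F159429)) (tt N14579 F150959) (tt N18444 (iv F159437)) (tt N14553 F150960) (tt N14552 (iv D32486)) (tt N18445 D34372))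
theorem Q16561 : ∀ i, i < 16561 → P i := stepQ 16560 Q16560 (allL N16560 (tt N17425 (iv F154916)) (tt N18437 (iv F159414)) (tt N14558 F150961) (tt N14674 F150962) (tt N18443 (iv F159434)) (tt N14580 F150963) (tt N18379 (iv F159234)) (tt N18445 (iv F159441)) (tt N18420 (iv F159371)) (tt N14553 (iv D32487)))
theorem Q16562 : ∀ i, i < 16562 → P i := stepQ 16561 Q16561 (allL N16561 (tt N17426 (iv F154920)) (tt N18337 (iv F159078)) (tt N18440 (iv F159426)) (tt N14849 F150964) (tt N14556 F150965) (tt N18446 D34373) (tt N14554 (iv D32488)) (tt N18380 (iv F159238)) (tt N18447 D34374) (tt N18421 (iv F159374)))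
theorem Q16563 : ∀ i, i < 16563 → P i := stepQ 16562 Q16562 (allL N16562 (tt N17427 (iv F154923)) (tt N18338 (iv F159081)) (tt N18441 (iv F159428)) (tt N14850 F150966) (tt N14557 F150967) (tt N18448 D34375) (tt N18447 (iv F159445)) (tt N14555 F150968) (tt N14554 (iv D32489)) (tt N18449 D34376))
theorem Q16564 : ∀ i, i < 16564 → P i := stepQ 16563 Q16563 (allL N16563 (tt N17428 (iv F154927)) (tt N17794 (iv F156742)) (tt N18442 (iv F159431)) (tt N14851 F150969) (tt N14583 F150970) (tt N14555 (iv D32490)) (tt N18450 D34377) (tt N18448 (iv F159448)) (tt N18083 (iv F158149)) (tt N17810 (iv F156816)))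
theorem Q16565 : ∀ i, i < 16565 → P i := stepQ 16564 Q16564 (allL N16564 (tt N17429 (iv F154930)) (tt N17211 (iv F153695)) (tt N18443 (iv F159433)) (tt N14852 F150971) (tt N14558 F150972) (tt N17810 (iv F156815)) (tt N18383 (iv F159246)) (tt N18449 (iv F159451)) (tt N18424 (iv F159382)) (tt N14555 (iv D32491)))
theorem Q16566 : ∀ i, i < 16566 → P i := stepQ 16565 Q16565 (allL N16565 (tt N17430 (iv F154933)) (tt N18339 (iv F159085)) (tt N18444 (iv F159435)) (tt N14559 F150973) (tt N18447 (iv F159444)) (tt N18451 D34378) (tt N14557 F150974) (tt N18384 (iv F159249)) (tt N14556 (iv D32492)) (tt N18452 D34379))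
theorem Q16567 : ∀ i, i < 16567 → P i := stepQ 16566 Q16566 (allL N16566 (tt N17431 (iv F154936)) (tt N17259 (iv F153956)) (tt N18445 (iv F159438)) (tt N14560 F150975) (tt N18449 (iv F159450)) (tt N14585 F150976) (tt N18452 (iv F159457)) (tt N14558 F150977) (tt N18426 (iv F159388)) (tt N14557 (iv D32493)))
theorem Q16568 : ∀ i, i < 16568 → P i := stepQ 16567 Q16567 (allL N16567 (tt N17432 (iv F154940)) (tt N18340 (iv F159088)) (tt N14680 F150978) (tt N18451 (iv F159454)) (tt N18453 D34380) (tt N14559 (iv D32494)) (tt N14586 F150979) (tt N18386 (iv F159255)) (tt N18408 (iv F159329)) (tt N18454 D34381))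
theorem Q16569 : ∀ i, i < 16569 → P i := stepQ 16568 Q16568 (allL N16568 (tt N17433 (iv F154943)) (tt N17261 (iv F153968)) (tt N14681 F150980) (tt N18452 (iv F159456)) (tt N14856 F150981) (tt N18454 (iv F159463)) (tt N14560 F150982) (tt N18387 (iv F159259)) (tt N18428 (iv F159394)) (tt N14559 (iv D32495)))
theorem Q16570 : ∀ i, i < 16570 → P i := stepQ 16569 Q16569 (allL N16569 (tt N17325 (iv F154370)) (tt N18293 (iv F158880)) (tt N14566 F150983) (tt N14682 F150984) (tt N17301 (iv F154241)) (tt N14578 F150985) (tt N14562 (iv D32496)) (tt N16569 F150986) (tt N18455 D34382) (tt N16569 F150987))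
theorem Q16571 : ∀ i, i < 16571 → P i := stepQ 16570 Q16570 (allL N16570 (tt N17326 (iv F154378)) (tt N14956 F150988) (tt N14567 F150989) (tt N14683 F150990) (tt N17302 (iv F154249)) (tt N18401 (iv F159312)) (tt N18455 (iv F159468)) (tt N14563 F150991) (tt N14562 (iv D32497)) (tt N14868 (iv F150992)))
theorem Q16572 : ∀ i, i < 16572 → P i := stepQ 16571 Q16571 (allL N16571 (tt N17322 (iv F154349)) (tt N18343 (iv F159102)) (tt N17301 (iv F154239)) (tt N16571 F150993) (tt N14566 F150994) (tt N18022 (iv F157894)) (tt N14564 (iv D32498)) (tt N16571 F150995) (tt N18456 D34383) (tt N16571 F150996))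
theorem Q16573 : ∀ i, i < 16573 → P i := stepQ 16572 Q16572 (allL N16572 (tt N17323 (iv F154357)) (tt N18344 (iv F159107)) (tt N17302 (iv F154247)) (tt N16572 F150997) (tt N14567 F150998) (tt N18457 D34384) (tt N18456 (iv F159473)) (tt N14565 F150999) (tt N14564 (iv D32499)) (tt N18274 (iv F158802)))
theorem Q16574 : ∀ i, i < 16574 → P i := stepQ 16573 Q16573 (allL N16573 (tt N17314 (iv F154316)) (tt N18345 (iv F159111)) (tt N17297 (iv F154210)) (tt N16573 F151000) (tt N18404 (iv F159318)) (tt N14565 (iv D32500)) (tt N18458 D34385) (tt N18457 (iv F159476)) (tt N17293 (iv F154188)) (tt N18251 (iv F158729)))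
theorem Q16575 : ∀ i, i < 16575 → P i := stepQ 16574 Q16574 (allL N16574 (tt N17434 (iv F154947)) (tt N18346 (iv F159113)) (tt N18455 (iv F159466)) (tt N14569 F151001) (tt N18456 (iv F159472)) (tt N18459 D34386) (tt N14567 F151002) (tt N16574 F151003) (tt N14566 (iv D32501)) (tt N18460 D34387))
theorem Q16576 : ∀ i, i < 16576 → P i := stepQ 16575 Q16575 (allL N16575 (tt N17435 (iv F154952)) (tt N18347 (iv F159117)) (tt N14868 F151004) (tt N14570 F151005) (tt N18274 (iv F158800)) (tt N18407 (iv F159325)) (tt N18460 (iv F159486)) (tt N14568 F151006) (tt N16575 F151007) (tt N14567 (iv D32502)))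
theorem Q16577 : ∀ i, i < 16577 → P i := stepQ 16576 Q16576 (allL N16576 (tt N17436 (iv F154958)) (tt N18348 (iv F159122)) (tt N14686 F151008) (tt N18459 (iv F159481)) (tt N18461 D34388) (tt N14569 (iv D32503)) (tt N18408 (iv F159328)) (tt N16576 F151009) (tt N14586 F151010) (tt N18462 D34389))
theorem Q16578 : ∀ i, i < 16578 → P i := stepQ 16577 Q16577 (allL N16577 (tt N17437 (iv F154963)) (tt N18349 (iv F159127)) (tt N14687 F151011) (tt N18460 (iv F159485)) (tt N16577 F151012) (tt N18462 (iv F159495)) (tt N14570 F151013) (tt N16577 F151014) (tt N16577 F151015) (tt N14569 (iv D32504)))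
theorem Q16579 : ∀ i, i < 16579 → P i := stepQ 16578 Q16578 (allL N16578 (tt N14574 F151016) (tt N17438 (iv F154971)) (tt N18350 (iv F159134)) (tt N14688 F151017) (tt N18020 (iv F157882)) (tt N14572 F151018) (tt N18357 (iv F159166)) (tt N14571 (iv D32505)) (tt N18463 D34390) (tt N16578 F151019))
theorem Q16580 : ∀ i, i < 16580 → P i := stepQ 16579 Q16579 (allL N16579 (tt N14575 F151020) (tt N17439 (iv F154979)) (tt N18351 (iv F159139)) (tt N14689 F151021) (tt N18021 (iv F157888)) (tt N18431 (iv F159401)) (tt N16579 F151022) (tt N18463 (iv F159499)) (tt N14571 (iv D32506)) (tt N18464 D34391))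
theorem Q16581 : ∀ i, i < 16581 → P i := stepQ 16580 Q16580 (allL N16580 (tt N18020 (iv F157879)) (tt N14576 F151023) (tt N18352 (iv F159143)) (tt N16580 F151024) (tt N14574 F151025) (tt N18013 F157846) (tt N18465 D34392) (tt N14573 (iv D32507)) (tt N18466 D34393) (tt N16580 F151026))
theorem Q16582 : ∀ i, i < 16582 → P i := stepQ 16581 Q16581 (allL N16581 (tt N18021 (iv F157885)) (tt N14577 F151027) (tt N17573 F155666) (tt N16581 F151028) (tt N14575 F151029) (tt N18467 D34394) (tt N16581 F151030) (tt N18466 (iv F159512)) (tt N14573 (iv D32508)) (tt N17585 (iv F155741)))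
theorem Q16583 : ∀ i, i < 16583 → P i := stepQ 16582 Q16582 (allL N16582 (tt N18357 (iv F159163)) (tt N14578 F151031) (tt N18353 (iv F159147)) (tt N14690 F151032) (tt N18465 (iv F159506)) (tt N18293 (iv F158883)) (tt N14574 (iv D32509)) (tt N16582 F151033) (tt N18468 D34395) (tt N16582 F151034))
theorem Q16584 : ∀ i, i < 16584 → P i := stepQ 16583 Q16583 (allL N16583 (tt N18463 (iv F159497)) (tt N14579 F151035) (tt N18354 (iv F159152)) (tt N14691 F151036) (tt N18466 (iv F159511)) (tt N18436 (iv F159412)) (tt N18468 (iv F159517)) (tt N14575 F151037) (tt N14574 (iv D32510)) (tt N18469 D34396))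
theorem Q16585 : ∀ i, i < 16585 → P i := stepQ 16584 Q16584 (allL N16584 (tt N18464 (iv F159500)) (tt N14580 F151038) (tt N17145 (iv F153293)) (tt N14692 F151039) (tt N17585 (iv F155738)) (tt N18437 (iv F159417)) (tt N16584 F151040) (tt N18469 (iv F159521)) (tt N16584 F151041) (tt N14575 (iv D32511)))
theorem Q16586 : ∀ i, i < 16586 → P i := stepQ 16585 Q16585 (allL N16585 (tt N17443 (iv F155003)) (tt N18465 (iv F159504)) (tt N14581 F151042) (tt N16585 F151043) (tt N14578 F151044) (tt N18025 (iv F157910)) (tt N14576 (iv D32512)) (tt N16585 F151045) (tt N18470 D34397) (tt N16585 F151046))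
theorem Q16587 : ∀ i, i < 16587 → P i := stepQ 16586 Q16586 (allL N16586 (tt N17444 (iv F155011)) (tt N18466 (iv F159509)) (tt N14582 F151047) (tt N16586 F151048) (tt N14579 F151049) (tt N18471 D34398) (tt N18470 (iv F159526)) (tt N14577 F151050) (tt N14576 (iv D32513)) (tt N17953 (iv F157496)))
theorem Q16588 : ∀ i, i < 16588 → P i := stepQ 16587 Q16587 (allL N16587 (tt N17445 (iv F155017)) (tt N18467 (iv F159513)) (tt N14583 F151051) (tt N16587 F151052) (tt N18442 (iv F159432)) (tt N14577 (iv D32514)) (tt N18472 D34399) (tt N18471 (iv F159530)) (tt N18042 (iv F157987)) (tt N17914 (iv F157296)))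
theorem Q16589 : ∀ i, i < 16589 → P i := stepQ 16588 Q16588 (allL N16588 (tt N17447 (iv F155029)) (tt N18468 (iv F159515)) (tt N14584 F151053) (tt N14693 F151054) (tt N18470 (iv F159525)) (tt N18473 D34400) (tt N14579 F151055) (tt N16588 F151056) (tt N14578 (iv D32515)) (tt N18474 D34401))
theorem Q16590 : ∀ i, i < 16590 → P i := stepQ 16589 Q16589 (allL N16589 (tt N17448 (iv F155034)) (tt N18469 (iv F159519)) (tt N14585 F151057) (tt N14694 F151058) (tt N17953 (iv F157494)) (tt N18445 (iv F159440)) (tt N18474 (iv F159539)) (tt N14580 F151059) (tt N16589 F151060) (tt N14579 (iv D32516)))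
theorem Q16591 : ∀ i, i < 16591 → P i := stepQ 16590 Q16590 (allL N16590 (tt N17440 (iv F154984)) (tt N18357 (iv F159164)) (tt N18025 (iv F157907)) (tt N14588 F151061) (tt N18022 (iv F157893)) (tt N14581 (iv D32517)) (tt N17438 F154977) (tt N16590 F151062) (tt N18475 D34402) (tt N16590 F151063))
theorem Q16592 : ∀ i, i < 16592 → P i := stepQ 16591 Q16591 (allL N16591 (tt N17449 (iv F155039)) (tt N17950 (iv F157473)) (tt N18470 (iv F159523)) (tt N14589 F151064) (tt N14584 F151065) (tt N18476 D34403) (tt N14582 F151066) (tt N16591 F151067) (tt N14581 (iv D32518)) (tt N17954 (iv F157502)))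
theorem Q16593 : ∀ i, i < 16593 → P i := stepQ 16592 Q16592 (allL N16592 (tt N17450 (iv F155044)) (tt N17900 (iv F157223)) (tt N18471 (iv F159528)) (tt N14590 F151068) (tt N18448 (iv F159447)) (tt N14582 (iv D32519)) (tt N18477 D34404) (tt N14583 F151069) (tt N18088 (iv F158162)) (tt N17915 (iv F157300)))
theorem Q16594 : ∀ i, i < 16594 → P i := stepQ 16593 Q16593 (allL N16593 (tt N17452 (iv F155053)) (tt N17854 (iv F156983)) (tt N18472 (iv F159531)) (tt N14591 F151070) (tt N18450 (iv F159453)) (tt N16593 F151071) (tt N14583 (iv D32520)) (tt N18478 D34405) (tt N18090 (iv F158168)) (tt N17866 (iv F157055)))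
theorem Q16595 : ∀ i, i < 16595 → P i := stepQ 16594 Q16594 (allL N16594 (tt N17454 (iv F155060)) (tt N18358 (iv F159169)) (tt N18473 (iv F159534)) (tt N14586 F151072) (tt N18479 D34406) (tt N14584 (iv D32521)) (tt N18451 (iv F159455)) (tt N16594 F151073) (tt N18459 (iv F159483)) (tt N18480 D34407))
theorem Q16596 : ∀ i, i < 16596 → P i := stepQ 16595 Q16595 (allL N16595 (tt N17455 (iv F155063)) (tt N17275 (iv F154053)) (tt N18474 (iv F159537)) (tt N14587 F151074) (tt N17954 (iv F157499)) (tt N18480 (iv F159551)) (tt N14585 F151075) (tt N16595 F151076) (tt N16595 F151077) (tt N14584 (iv D32522)))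
theorem Q16597 : ∀ i, i < 16597 → P i := stepQ 16596 Q16596 (allL N16596 (tt N17456 (iv F155068)) (tt N14961 F151078) (tt N14697 F151079) (tt N18481 D34408) (tt N14586 (iv D32523)) (tt N14592 F151080) (tt N18453 (iv F159461)) (tt N16596 F151081) (tt N18461 (iv F159493)) (tt N18482 D34409))
theorem Q16598 : ∀ i, i < 16598 → P i := stepQ 16597 Q16597 (allL N16597 (tt N17457 (iv F155072)) (tt N17276 (iv F154060)) (tt N14698 F151082) (tt N18480 (iv F159550)) (tt N18482 (iv F159558)) (tt N14587 F151083) (tt N18454 (iv F159464)) (tt N16597 F151084) (tt N18483 D34410) (tt N14586 (iv D32524)))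
theorem Q16599 : ∀ i, i < 16599 → P i := stepQ 16598 Q16598 (allL N16598 (tt N17458 (iv F155076)) (tt N18273 F158795) (tt N16598 F151085) (tt N18475 (iv F159542)) (tt N16598 F151086) (tt N18484 D34411) (tt N17561 (iv F155596)) (tt N16598 F151087) (tt N14588 (iv D32525)) (tt N18272 (iv F158797)))
theorem Q16600 : ∀ i, i < 16600 → P i := stepQ 16599 Q16599 (allL N16599 (tt N17459 (iv F155082)) (tt N17951 (iv F157480)) (tt N16599 F151088) (tt N18476 (iv F159544)) (tt N18276 (iv F158810)) (tt N14589 (iv D32526)) (tt N18485 D34412) (tt N16599 F151089) (tt N18484 (iv F159568)) (tt N17955 (iv F157506)))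
theorem Q16601 : ∀ i, i < 16601 → P i := stepQ 16600 Q16600 (allL N16600 (tt N17460 (iv F155085)) (tt N17902 (iv F157232)) (tt N16600 F151090) (tt N18477 (iv F159546)) (tt N14866 F151091) (tt N18485 (iv F159570)) (tt N14590 (iv D32527)) (tt N18486 D34413) (tt N18092 (iv F158173)) (tt N17917 (iv F157307)))
theorem Q16602 : ∀ i, i < 16602 → P i := stepQ 16601 Q16601 (allL N16601 (tt N17462 (iv F155094)) (tt N17855 (iv F156988)) (tt N16601 F151092) (tt N18478 (iv F159547)) (tt N14867 F151093) (tt N16601 F151094) (tt N18486 (iv F159573)) (tt N14591 (iv D32528)) (tt N18094 (iv F158180)) (tt N17867 (iv F157060)))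
theorem Q16603 : ∀ i, i < 16603 → P i := stepQ 16602 Q16602 (allL N16602 (tt N17465 (iv F155111)) (tt N14960 F151095) (tt N18460 (iv F159484)) (tt N14592 (iv D32529)) (tt N18275 (iv F158805)) (tt N18481 (iv F159554)) (tt N14868 F151096) (tt N16602 F151097) (tt N16602 F151098) (tt N18455 F159470))
theorem Q16604 : ∀ i, i < 16604 → P i := stepQ 16603 Q16603 (allL N16603 (tt N17332 (iv F154412)) (tt N14957 F151099) (tt N14685 F151100) (tt N18455 (iv F159467)) (tt N14593 F151101) (tt N18482 (iv F159559)) (tt N14683 F151102) (tt N16603 F151103) (tt N14682 (iv F151104)) (tt N14592 (iv D32530)))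
theorem Q16605 : ∀ i, i < 16605 → P i := stepQ 16604 Q16604 (allL N16604 (tt N14595 F151105) (tt N17466 (iv F155116)) (tt N15077 F151106) (tt N18316 (iv F158995)) (tt N16604 F151107) (tt N17856 F156998) (tt N14594 (iv D32531)) (tt N18487 D34414) (tt N16604 F151108) (tt N15044 F151109))
theorem Q16606 : ∀ i, i < 16606 → P i := stepQ 16605 Q16605 (allL N16605 (tt N17856 (iv F156993)) (tt N14596 F151110) (tt N14881 F151111) (tt N18317 (iv F159000)) (tt N14879 (iv F151114)) (tt N14595 (iv D32532)) (tt N14641 F151112) (tt N18488 D34415) (tt N14877 (iv F151115)) (tt N15045 F151113))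
theorem Q16607 : ∀ i, i < 16607 → P i := stepQ 16606 Q16606 (allL N16606 (tt N18487 (iv F159574)) (tt N14597 F151116) (tt N15078 F151117) (tt N18318 (iv F159006)) (tt N16606 F151118) (tt N18488 (iv F159583)) (tt N14615 F151119) (tt N14595 (iv D32533)) (tt N16606 F151120) (tt N15046 F151121))
theorem Q16608 : ∀ i, i < 16608 → P i := stepQ 16607 Q16607 (allL N16607 (tt N17190 (iv F153562)) (tt N14879 F151122) (tt N14598 F151123) (tt N18489 D34416) (tt N14596 (iv D32534)) (tt N16607 F151124) (tt N14643 F151125) (tt N18490 D34417) (tt N14875 (iv F151127)) (tt N14906 F151126))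
theorem Q16609 : ∀ i, i < 16609 → P i := stepQ 16608 Q16608 (allL N16608 (tt N17468 (iv F155128)) (tt N18488 (iv F159580)) (tt N14599 F151128) (tt N18320 (iv F159014)) (tt N18490 (iv F159594)) (tt N14597 F151129) (tt N18491 D34418) (tt N14596 (iv D32535)) (tt N18492 D34419) (tt N15047 F151130))
theorem Q16610 : ∀ i, i < 16610 → P i := stepQ 16609 Q16609 (allL N16609 (tt N17334 (iv F154426)) (tt N14877 F151131) (tt N14600 F151132) (tt N18321 (iv F159019)) (tt N14875 F151133) (tt N16609 F151134) (tt N14645 F151135) (tt N18492 (iv F159606)) (tt N14596 (iv D32536)) (tt N14887 F151136))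
theorem Q16611 : ∀ i, i < 16611 → P i := stepQ 16610 Q16610 (allL N16610 (tt N17469 (iv F155132)) (tt N15080 F151137) (tt N18490 (iv F159593)) (tt N14911 F151138) (tt N14599 F151139) (tt N16610 F151140) (tt N18493 D34420) (tt N14598 (iv D32537)) (tt N15022 F151141) (tt N14909 F151142))
theorem Q16612 : ∀ i, i < 16612 → P i := stepQ 16611 Q16611 (allL N16611 (tt N17470 (iv F155139)) (tt N15081 F151143) (tt N18491 (iv F159598)) (tt N14601 F151144) (tt N18493 (iv F159610)) (tt N14621 F151145) (tt N14599 (iv D32538)) (tt N14647 F151146) (tt N18494 D34421) (tt N15048 F151147))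
theorem Q16613 : ∀ i, i < 16613 → P i := stepQ 16612 Q16612 (allL N16612 (tt N17471 (iv F155145)) (tt N15082 F151148) (tt N18492 (iv F159603)) (tt N14602 F151149) (tt N15022 F151150) (tt N16612 F151151) (tt N18494 (iv F159617)) (tt N14600 F151152) (tt N14599 (iv D32539)) (tt N15021 F151153))
theorem Q16614 : ∀ i, i < 16614 → P i := stepQ 16613 Q16613 (allL N16613 (tt N17472 (iv F155152)) (tt N15083 F151154) (tt N18326 (iv F159041)) (tt N18494 (iv F159615)) (tt N15191 F151155) (tt N18495 D34422) (tt N14602 F151156) (tt N14649 F151157) (tt N14601 (iv D32540)) (tt N17265 (iv F153995)))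
theorem Q16615 : ∀ i, i < 16615 → P i := stepQ 16614 Q16614 (allL N16614 (tt N14604 F151158) (tt N17473 (iv F155159)) (tt N15069 F151159) (tt N18065 (iv F158078)) (tt N16614 F151160) (tt N17525 (iv F155436)) (tt N14603 (iv D32541)) (tt N18496 D34423) (tt N15049 F151161) (tt N14613 F151162))
theorem Q16616 : ∀ i, i < 16616 → P i := stepQ 16615 Q16615 (allL N16615 (tt N17525 (iv F155433)) (tt N14605 F151163) (tt N14658 F151164) (tt N18304 (iv F158936)) (tt N14656 (iv F151168)) (tt N14604 (iv D32542)) (tt N14652 F151165) (tt N18497 D34424) (tt N14654 F151166) (tt N14614 F151167))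
theorem Q16617 : ∀ i, i < 16617 → P i := stepQ 16616 Q16616 (allL N16616 (tt N18496 (iv F159624)) (tt N14606 F151169) (tt N15070 F151170) (tt N18305 (iv F158942)) (tt N16616 F151171) (tt N18497 (iv F159633)) (tt N15046 F151172) (tt N14604 (iv D32543)) (tt N15050 F151173) (tt N14615 F151174))
theorem Q16618 : ∀ i, i < 16618 → P i := stepQ 16617 Q16617 (allL N16617 (tt N17476 (iv F155174)) (tt N14656 F151175) (tt N14607 F151176) (tt N18414 (iv F159347)) (tt N14605 (iv D32544)) (tt N16617 F151177) (tt N14654 F151178) (tt N18498 D34425) (tt N14652 (iv F151180)) (tt N14616 F151179))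
theorem Q16619 : ∀ i, i < 16619 → P i := stepQ 16618 Q16618 (allL N16618 (tt N17477 (iv F155180)) (tt N18497 (iv F159630)) (tt N14608 F151181) (tt N18307 (iv F158950)) (tt N18498 (iv F159638)) (tt N14606 F151182) (tt N18499 D34426) (tt N14605 (iv D32545)) (tt N18500 D34427) (tt N14617 F151183))
theorem Q16620 : ∀ i, i < 16620 → P i := stepQ 16619 Q16619 (allL N16619 (tt N17478 (iv F155184)) (tt N14654 F151184) (tt N14609 F151185) (tt N18308 (iv F158955)) (tt N14652 F151186) (tt N14717 F151187) (tt N14656 F151188) (tt N18500 (iv F159650)) (tt N14605 (iv D32546)) (tt N14666 (iv F151189)))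
theorem Q16621 : ∀ i, i < 16621 → P i := stepQ 16620 Q16620 (allL N16620 (tt N17479 (iv F155190)) (tt N15072 F151190) (tt N18498 (iv F159637)) (tt N14880 F151191) (tt N14608 F151192) (tt N16620 F151193) (tt N18501 D34428) (tt N14607 (iv D32547)) (tt N15142 F151194) (tt N14619 F151195))
theorem Q16622 : ∀ i, i < 16622 → P i := stepQ 16621 Q16621 (allL N16621 (tt N17480 (iv F155197)) (tt N15073 F151196) (tt N18499 (iv F159642)) (tt N14610 F151197) (tt N18501 (iv F159654)) (tt N15048 F151198) (tt N14608 (iv D32548)) (tt N14659 F151199) (tt N18502 D34429) (tt N14621 F151200))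
theorem Q16623 : ∀ i, i < 16623 → P i := stepQ 16622 Q16622 (allL N16622 (tt N17481 (iv F155203)) (tt N15074 F151201) (tt N18500 (iv F159647)) (tt N14611 F151202) (tt N15142 F151203) (tt N15054 F151204) (tt N18502 (iv F159661)) (tt N14609 F151205) (tt N14608 (iv D32549)) (tt N15151 (iv F151206)))
theorem Q16624 : ∀ i, i < 16624 → P i := stepQ 16623 Q16623 (allL N16623 (tt N17482 (iv F155210)) (tt N15075 F151207) (tt N18314 (iv F158983)) (tt N18502 (iv F159659)) (tt N14885 F151208) (tt N18503 D34430) (tt N14611 F151209) (tt N14662 F151210) (tt N14610 (iv D32550)) (tt N18504 D34431))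
theorem Q16625 : ∀ i, i < 16625 → P i := stepQ 16624 Q16624 (allL N16624 (tt N17483 (iv F155215)) (tt N15076 F151211) (tt N18315 (iv F158988)) (tt N15151 F151212) (tt N14886 F151213) (tt N15056 F151214) (tt N18504 (iv F159672)) (tt N14612 F151215) (tt N14625 F151216) (tt N14611 (iv D32551)))
theorem Q16626 : ∀ i, i < 16626 → P i := stepQ 16625 Q16625 (allL N16625 (tt N14614 F151217) (tt N17484 (iv F155223)) (tt N15116 F151218) (tt N18369 (iv F159199)) (tt N17528 (iv F155448)) (tt N14613 (iv D32552)) (tt N14664 F151219) (tt N18505 D34432) (tt N17548 (iv F155535)) (tt N17525 F155438))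
theorem Q16627 : ∀ i, i < 16627 → P i := stepQ 16626 Q16626 (allL N16626 (tt N14615 F151220) (tt N17485 (iv F155227)) (tt N15117 F151221) (tt N18370 (iv F159202)) (tt N16626 F151222) (tt N18505 (iv F159677)) (tt N18487 (iv F159577)) (tt N14613 (iv D32553)) (tt N16626 F151223) (tt N18496 (iv F159629)))
theorem Q16628 : ∀ i, i < 16628 → P i := stepQ 16627 Q16627 (allL N16627 (tt N17528 (iv F155446)) (tt N14616 F151224) (tt N14661 F151225) (tt N18420 (iv F159368)) (tt N14614 (iv D32554)) (tt N16627 F151226) (tt N14666 F151227) (tt N18506 D34433) (tt N14674 (iv F151229)) (tt N14656 F151228))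
theorem Q16629 : ∀ i, i < 16629 → P i := stepQ 16628 Q16628 (allL N16628 (tt N18505 (iv F159675)) (tt N14617 F151230) (tt N15118 F151231) (tt N18372 (iv F159207)) (tt N18506 (iv F159680)) (tt N14615 F151232) (tt N18507 D34434) (tt N14614 (iv D32555)) (tt N18508 D34435) (tt N18497 (iv F159635)))
theorem Q16630 : ∀ i, i < 16630 → P i := stepQ 16629 Q16629 (allL N16629 (tt N17548 (iv F155530)) (tt N14618 F151233) (tt N14677 F151234) (tt N18373 (iv F159211)) (tt N14674 F151235) (tt N16629 F151236) (tt N14668 F151237) (tt N18508 (iv F159691)) (tt N14614 (iv D32556)) (tt N14671 F151238))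
theorem Q16631 : ∀ i, i < 16631 → P i := stepQ 16630 Q16630 (allL N16630 (tt N17489 (iv F155242)) (tt N18420 (iv F159366)) (tt N14889 F151239) (tt N14616 (iv D32557)) (tt N18374 (iv F159216)) (tt N16630 F151240) (tt N14669 F151241) (tt N18509 D34436) (tt N18437 (iv F159419)) (tt N18414 F159350))
theorem Q16632 : ∀ i, i < 16632 → P i := stepQ 16631 Q16631 (allL N16631 (tt N17490 (iv F155246)) (tt N18506 (iv F159678)) (tt N14619 F151242) (tt N18509 (iv F159694)) (tt N14617 F151243) (tt N16631 F151244) (tt N18510 D34437) (tt N14616 (iv D32558)) (tt N18511 D34438) (tt N18498 (iv F159641)))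
theorem Q16633 : ∀ i, i < 16633 → P i := stepQ 16632 Q16632 (allL N16632 (tt N17491 (iv F155250)) (tt N14674 F151245) (tt N14620 F151246) (tt N18437 (iv F159416)) (tt N14618 F151247) (tt N14692 (iv F151250)) (tt N14671 F151248) (tt N18511 (iv F159702)) (tt N14616 (iv D32559)) (tt N14668 F151249))
theorem Q16634 : ∀ i, i < 16634 → P i := stepQ 16633 Q16633 (allL N16633 (tt N17492 (iv F155256)) (tt N18507 (iv F159684)) (tt N14621 F151251) (tt N18377 (iv F159224)) (tt N18510 (iv F159697)) (tt N18491 (iv F159599)) (tt N14617 (iv D32560)) (tt N14672 F151252) (tt N18512 D34439) (tt N18499 (iv F159645)))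
theorem Q16635 : ∀ i, i < 16635 → P i := stepQ 16634 Q16634 (allL N16634 (tt N17493 (iv F155259)) (tt N18508 (iv F159687)) (tt N14622 F151253) (tt N18378 (iv F159227)) (tt N18511 (iv F159701)) (tt N16634 F151254) (tt N18512 (iv F159706)) (tt N14618 F151255) (tt N14617 (iv D32561)) (tt N18513 D34440))
theorem Q16636 : ∀ i, i < 16636 → P i := stepQ 16635 Q16635 (allL N16635 (tt N17494 (iv F155263)) (tt N14671 F151256) (tt N14623 F151257) (tt N18379 (iv F159232)) (tt N14668 F151258) (tt N16635 F151259) (tt N14674 F151260) (tt N18513 (iv F159712)) (tt N14666 F151261) (tt N14618 (iv D32562)))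
theorem Q16637 : ∀ i, i < 16637 → P i := stepQ 16636 Q16636 (allL N16636 (tt N17495 (iv F155269)) (tt N15122 F151262) (tt N18510 (iv F159696)) (tt N14895 F151263) (tt N14621 F151264) (tt N18514 D34441) (tt N14619 (iv D32563)) (tt N14675 F151265) (tt N18515 D34442) (tt N18501 (iv F159657)))
theorem Q16638 : ∀ i, i < 16638 → P i := stepQ 16637 Q16637 (allL N16637 (tt N17496 (iv F155274)) (tt N15123 F151266) (tt N18511 (iv F159700)) (tt N14896 F151267) (tt N14622 F151268) (tt N15169 (iv F151271)) (tt N18515 (iv F159721)) (tt N14620 F151269) (tt N14619 (iv D32564)) (tt N15153 F151270))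
theorem Q16639 : ∀ i, i < 16639 → P i := stepQ 16638 Q16638 (allL N16638 (tt N17497 (iv F155281)) (tt N15124 F151272) (tt N18512 (iv F159705)) (tt N14624 F151273) (tt N18515 (iv F159720)) (tt N18516 D34443) (tt N14622 F151274) (tt N14678 F151275) (tt N14621 (iv D32565)) (tt N18517 D34444))
theorem Q16640 : ∀ i, i < 16640 → P i := stepQ 16639 Q16639 (allL N16639 (tt N17498 (iv F155286)) (tt N15125 F151276) (tt N18513 (iv F159709)) (tt N14625 F151277) (tt N15153 F151278) (tt N16639 F151279) (tt N18517 (iv F159731)) (tt N14623 F151280) (tt N15151 F151281) (tt N14622 (iv D32566)))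
theorem Q16641 : ∀ i, i < 16641 → P i := stepQ 16640 Q16640 (allL N16640 (tt N17499 (iv F155293)) (tt N15126 F151282) (tt N18386 (iv F159253)) (tt N18516 (iv F159725)) (tt N18518 D34445) (tt N14624 (iv D32567)) (tt N16640 F151283) (tt N14680 F151284) (tt N18495 (iv F159623)) (tt N18519 D34446))
theorem Q16642 : ∀ i, i < 16642 → P i := stepQ 16641 Q16641 (allL N16641 (tt N17500 (iv F155297)) (tt N15127 F151285) (tt N18387 (iv F159256)) (tt N18517 (iv F159729)) (tt N14902 F151286) (tt N18519 (iv F159739)) (tt N14625 F151287) (tt N14681 F151288) (tt N18504 (iv F159674)) (tt N14624 (iv D32568)))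
theorem Q16643 : ∀ i, i < 16643 → P i := stepQ 16642 Q16642 (allL N16642 (tt N17503 (iv F155316)) (tt N17129 (iv F153182)) (tt N14629 F151289) (tt N18389 (iv F159264)) (tt N17176 (iv F153484)) (tt N14627 F151290) (tt N18520 D34447) (tt N14626 (iv D32569)) (tt N17210 (iv F153693)) (tt N14794 F151291))
theorem Q16644 : ∀ i, i < 16644 → P i := stepQ 16643 Q16643 (allL N16643 (tt N17504 (iv F155321)) (tt N15129 F151292) (tt N17176 (iv F153483)) (tt N14646 F151293) (tt N14629 F151294) (tt N14699 F151295) (tt N18521 D34448) (tt N14628 (iv D32570)) (tt N14944 F151296) (tt N14872 F151297))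
theorem Q16645 : ∀ i, i < 16645 → P i := stepQ 16644 Q16644 (allL N16644 (tt N17505 (iv F155328)) (tt N15130 F151298) (tt N18520 (iv F159742)) (tt N14630 F151299) (tt N18521 (iv F159748)) (tt N14908 F151300) (tt N14629 (iv D32571)) (tt N14914 F151301) (tt N17258 (iv F153954)) (tt N14874 F151302))
theorem Q16646 : ∀ i, i < 16646 → P i := stepQ 16645 Q16645 (allL N16645 (tt N17506 (iv F155335)) (tt N15132 F151303) (tt N18394 (iv F159285)) (tt N17258 (iv F153950)) (tt N14649 F151304) (tt N18522 D34449) (tt N14631 F151305) (tt N15191 F151306) (tt N14630 (iv D32572)) (tt N17256 (iv F153941)))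
theorem Q16647 : ∀ i, i < 16647 → P i := stepQ 16646 Q16646 (allL N16646 (tt N17904 (iv F157242)) (tt N14634 F151307) (tt N14922 F151308) (tt N18294 (iv F158889)) (tt N14919 F151309) (tt N14633 (iv D32573)) (tt N15045 F151310) (tt N18523 D34450) (tt N14933 (iv F151312)) (tt N14641 F151311))
theorem Q16648 : ∀ i, i < 16648 → P i := stepQ 16647 Q16647 (allL N16647 (tt N18070 (iv F158102)) (tt N14635 F151313) (tt N15062 F151314) (tt N18295 (iv F158895)) (tt N14702 F151315) (tt N18523 (iv F159759)) (tt N14653 F151316) (tt N14633 (iv D32574)) (tt N16647 F151317) (tt N14642 F151318))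
theorem Q16649 : ∀ i, i < 16649 → P i := stepQ 16648 Q16648 (allL N16648 (tt N17191 (iv F153569)) (tt N14919 F151319) (tt N14636 F151320) (tt N17169 (iv F153449)) (tt N14634 (iv D32575)) (tt N14703 F151321) (tt N14906 F151322) (tt N18524 D34451) (tt N14869 (iv F151324)) (tt N14643 F151323))
theorem Q16650 : ∀ i, i < 16650 → P i := stepQ 16649 Q16649 (allL N16649 (tt N17507 (iv F155342)) (tt N18523 (iv F159756)) (tt N14637 F151325) (tt N18297 (iv F158903)) (tt N18524 (iv F159764)) (tt N14635 F151326) (tt N18525 D34452) (tt N14634 (iv D32576)) (tt N18526 D34453) (tt N14644 F151327))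
theorem Q16651 : ∀ i, i < 16651 → P i := stepQ 16650 Q16650 (allL N16650 (tt N17508 (iv F155346)) (tt N14933 F151328) (tt N14638 F151329) (tt N18298 (iv F158908)) (tt N14869 F151330) (tt N16650 F151331) (tt N14904 F151332) (tt N18526 (iv F159776)) (tt N14634 (iv D32577)) (tt N14928 F151333))
theorem Q16652 : ∀ i, i < 16652 → P i := stepQ 16651 Q16651 (allL N16651 (tt N17509 (iv F155352)) (tt N15064 F151334) (tt N18524 (iv F159763)) (tt N14872 F151335) (tt N14637 F151336) (tt N14705 F151337) (tt N18527 D34454) (tt N14636 (iv D32578)) (tt N14870 F151338) (tt N14646 F151339))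
theorem Q16653 : ∀ i, i < 16653 → P i := stepQ 16652 Q16652 (allL N16652 (tt N17510 (iv F155359)) (tt N15065 F151340) (tt N18525 (iv F159768)) (tt N14639 F151341) (tt N18527 (iv F159780)) (tt N14659 F151342) (tt N14637 (iv D32579)) (tt N15048 F151343) (tt N18528 D34455) (tt N14647 F151344))
theorem Q16654 : ∀ i, i < 16654 → P i := stepQ 16653 Q16653 (allL N16653 (tt N17511 (iv F155365)) (tt N15066 F151345) (tt N18526 (iv F159773)) (tt N14640 F151346) (tt N14870 F151347) (tt N16653 F151348) (tt N18528 (iv F159787)) (tt N14638 F151349) (tt N14637 (iv D32580)) (tt N14943 F151350))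
theorem Q16655 : ∀ i, i < 16655 → P i := stepQ 16654 Q16654 (allL N16654 (tt N17512 (iv F155372)) (tt N15067 F151351) (tt N18303 (iv F158930)) (tt N18528 (iv F159785)) (tt N14873 F151352) (tt N18529 D34456) (tt N14640 F151353) (tt N14912 F151354) (tt N14639 (iv D32581)) (tt N17255 (iv F153934)))
theorem Q16656 : ∀ i, i < 16656 → P i := stepQ 16655 Q16655 (allL N16655 (tt N17903 (iv F157236)) (tt N14644 F151355) (tt N14921 F151356) (tt N18396 (iv F159293)) (tt N14918 F151357) (tt N14642 F151358) (tt N18530 D34457) (tt N14641 (iv D32582)) (tt N14916 F151359) (tt N18523 (iv F159761)))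
theorem Q16657 : ∀ i, i < 16657 → P i := stepQ 16656 Q16656 (allL N16656 (tt N17182 (iv F153519)) (tt N14833 F151360) (tt N17174 (iv F153472)) (tt N14643 (iv D32583)) (tt N18397 (iv F159297)) (tt N14709 F151361) (tt N18489 (iv F159589)) (tt N18531 D34458) (tt N14829 F151362) (tt N17169 (iv F153452)))
theorem Q16658 : ∀ i, i < 16658 → P i := stepQ 16657 Q16657 (allL N16657 (tt N17188 (iv F153549)) (tt N14918 F151363) (tt N14646 F151364) (tt N18531 (iv F159801)) (tt N14644 F151365) (tt N14710 F151366) (tt N18532 D34459) (tt N14643 (iv D32584)) (tt N14865 F151367) (tt N18524 (iv F159767)))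
theorem Q16659 : ∀ i, i < 16659 → P i := stepQ 16658 Q16658 (allL N16658 (tt N17513 (iv F155378)) (tt N18530 (iv F159795)) (tt N14647 F151368) (tt N18400 (iv F159307)) (tt N18532 (iv F159806)) (tt N14672 F151369) (tt N14644 (iv D32585)) (tt N18491 (iv F159600)) (tt N18533 D34460) (tt N18525 (iv F159771)))
theorem Q16660 : ∀ i, i < 16660 → P i := stepQ 16659 Q16659 (allL N16659 (tt N17333 (iv F154419)) (tt N14916 F151370) (tt N14648 F151371) (tt N18401 (iv F159311)) (tt N14865 F151372) (tt N14683 F151373) (tt N18533 (iv F159811)) (tt N14645 F151374) (tt N14644 (iv D32586)) (tt N14864 (iv F151375)))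
theorem Q16661 : ∀ i, i < 16661 → P i := stepQ 16660 Q16660 (allL N16660 (tt N17514 (iv F155381)) (tt N15136 F151376) (tt N18532 (iv F159805)) (tt N18521 (iv F159747)) (tt N14647 F151377) (tt N18534 D34461) (tt N14646 (iv D32587)) (tt N18493 (iv F159611)) (tt N14942 F151378) (tt N18527 (iv F159783)))
theorem Q16662 : ∀ i, i < 16662 → P i := stepQ 16661 Q16661 (allL N16661 (tt N17515 (iv F155385)) (tt N15137 F151379) (tt N18533 (iv F159809)) (tt N14649 F151380) (tt N14942 F151381) (tt N18535 D34462) (tt N14648 F151382) (tt N18494 (iv F159618)) (tt N14647 (iv D32588)) (tt N14941 (iv F151383)))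
theorem Q16663 : ∀ i, i < 16663 → P i := stepQ 16662 Q16662 (allL N16662 (tt N17516 (iv F155391)) (tt N15138 F151384) (tt N18408 (iv F159327)) (tt N18535 (iv F159818)) (tt N18536 D34463) (tt N14649 (iv D32589)) (tt N14686 F151385) (tt N18495 (iv F159622)) (tt N14680 F151386) (tt N18537 D34464))
theorem Q16664 : ∀ i, i < 16664 → P i := stepQ 16663 Q16663 (allL N16663 (tt N17517 (iv F155395)) (tt N15139 F151387) (tt N18409 (iv F159330)) (tt N14941 F151388) (tt N17256 (iv F153938)) (tt N18537 (iv F159828)) (tt N14650 F151389) (tt N17265 (iv F153994)) (tt N17255 (iv F153933)) (tt N14649 (iv D32590)))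
theorem Q16665 : ∀ i, i < 16665 → P i := stepQ 16664 Q16664 (allL N16664 (tt N14652 F151390) (tt N17518 (iv F155403)) (tt N15140 F151391) (tt N18410 (iv F159333)) (tt N17478 (iv F155186)) (tt N14651 (iv D32591)) (tt N17525 (iv F155437)) (tt N18538 D34465) (tt N17476 F155179) (tt N14664 F151392))
theorem Q16666 : ∀ i, i < 16666 → P i := stepQ 16665 Q16665 (allL N16665 (tt N14653 F151393) (tt N17519 (iv F155407)) (tt N15141 F151394) (tt N18411 (iv F159336)) (tt N14716 F151395) (tt N18538 (iv F159832)) (tt N18070 (iv F158106)) (tt N14651 (iv D32592)) (tt N16665 F151396) (tt N14665 F151397))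
theorem Q16667 : ∀ i, i < 16667 → P i := stepQ 16666 Q16666 (allL N16666 (tt N18538 (iv F159830)) (tt N14655 F151398) (tt N15142 F151399) (tt N18413 (iv F159342)) (tt N18500 (iv F159648)) (tt N14653 F151400) (tt N18539 D34466) (tt N14652 (iv D32593)) (tt N18498 (iv F159640)) (tt N14667 F151401))
theorem Q16668 : ∀ i, i < 16668 → P i := stepQ 16667 Q16667 (allL N16667 (tt N17523 (iv F155424)) (tt N18308 (iv F158953)) (tt N14915 F151402) (tt N14654 (iv D32594)) (tt N18415 (iv F159352)) (tt N14720 F151403) (tt N18414 (iv F159349)) (tt N18540 D34467) (tt N18304 (iv F158938)) (tt N14669 F151404))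
theorem Q16669 : ∀ i, i < 16669 → P i := stepQ 16668 Q16668 (allL N16668 (tt N17524 (iv F155428)) (tt N18500 (iv F159646)) (tt N14657 F151405) (tt N18540 (iv F159838)) (tt N14655 F151406) (tt N14721 F151407) (tt N18541 D34468) (tt N14654 (iv D32595)) (tt N18497 (iv F159634)) (tt N14670 F151408))
theorem Q16670 : ∀ i, i < 16670 → P i := stepQ 16669 Q16669 (allL N16669 (tt N17526 (iv F155439)) (tt N18539 (iv F159834)) (tt N14659 F151409) (tt N18418 (iv F159360)) (tt N18541 (iv F159842)) (tt N18525 (iv F159769)) (tt N14655 (iv D32596)) (tt N18499 (iv F159644)) (tt N18542 D34469) (tt N14672 F151410))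
theorem Q16671 : ∀ i, i < 16671 → P i := stepQ 16670 Q16670 (allL N16670 (tt N17527 (iv F155442)) (tt N18498 (iv F159636)) (tt N14660 F151411) (tt N18419 (iv F159363)) (tt N18497 (iv F159632)) (tt N16670 F151412) (tt N18542 (iv F159845)) (tt N14656 F151413) (tt N14655 (iv D32597)) (tt N18506 (iv F159683)))
theorem Q16672 : ∀ i, i < 16672 → P i := stepQ 16671 Q16671 (allL N16671 (tt N17529 (iv F155452)) (tt N15144 F151414) (tt N18541 (iv F159841)) (tt N14920 F151415) (tt N14659 F151416) (tt N18543 D34470) (tt N14657 (iv D32598)) (tt N18501 (iv F159655)) (tt N18544 D34471) (tt N14675 F151417))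
theorem Q16673 : ∀ i, i < 16673 → P i := stepQ 16672 Q16672 (allL N16672 (tt N17530 (iv F155457)) (tt N15071 F151418) (tt N18497 (iv F159631)) (tt N14921 F151419) (tt N14660 F151420) (tt N15070 F151421) (tt N18544 (iv F159853)) (tt N14658 F151422) (tt N14657 (iv D32599)) (tt N15118 (iv F151423)))
theorem Q16674 : ∀ i, i < 16674 → P i := stepQ 16673 Q16673 (allL N16673 (tt N17531 (iv F155464)) (tt N15145 F151424) (tt N18542 (iv F159844)) (tt N14662 F151425) (tt N18544 (iv F159852)) (tt N18545 D34472) (tt N14660 F151426) (tt N18502 (iv F159662)) (tt N14659 (iv D32600)) (tt N18546 D34473))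
theorem Q16675 : ∀ i, i < 16675 → P i := stepQ 16674 Q16674 (allL N16674 (tt N17532 (iv F155468)) (tt N15119 F151427) (tt N18506 (iv F159679)) (tt N14663 F151428) (tt N15118 F151429) (tt N16674 F151430) (tt N18546 (iv F159863)) (tt N14661 F151431) (tt N14679 F151432) (tt N14660 (iv D32601)))
theorem Q16676 : ∀ i, i < 16676 → P i := stepQ 16675 Q16675 (allL N16675 (tt N17533 (iv F155475)) (tt N15146 F151433) (tt N18427 (iv F159389)) (tt N18545 (iv F159858)) (tt N18547 D34474) (tt N14662 (iv D32602)) (tt N16675 F151434) (tt N18503 (iv F159666)) (tt N18529 (iv F159794)) (tt N18548 D34475))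
theorem Q16677 : ∀ i, i < 16677 → P i := stepQ 16676 Q16676 (allL N16676 (tt N17534 (iv F155478)) (tt N15147 F151435) (tt N18428 (iv F159391)) (tt N18546 (iv F159861)) (tt N14926 F151436) (tt N18548 (iv F159872)) (tt N14663 F151437) (tt N18504 (iv F159673)) (tt N14681 F151438) (tt N14662 (iv D32603)))
theorem Q16678 : ∀ i, i < 16678 → P i := stepQ 16677 Q16677 (allL N16677 (tt N14666 F151439) (tt N17535 (iv F155484)) (tt N15148 F151440) (tt N18549 D34476) (tt N14664 (iv D32604)) (tt N14729 F151441) (tt N17528 (iv F155450)) (tt N18550 D34477) (tt N17494 (iv F155268)) (tt N17478 F155189))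
theorem Q16679 : ∀ i, i < 16679 → P i := stepQ 16678 Q16678 (allL N16678 (tt N14667 F151442) (tt N17536 (iv F155488)) (tt N15149 F151443) (tt N18430 (iv F159397)) (tt N18550 (iv F159878)) (tt N14665 F151444) (tt N18551 D34478) (tt N14664 (iv D32605)) (tt N18552 D34479) (tt N18538 (iv F159833)))
theorem Q16680 : ∀ i, i < 16680 → P i := stepQ 16679 Q16679 (allL N16679 (tt N14668 F151445) (tt N17537 (iv F155492)) (tt N15150 F151446) (tt N18431 (iv F159400)) (tt N17494 (iv F155265)) (tt N14689 F151447) (tt N17548 (iv F155534)) (tt N18552 (iv F159885)) (tt N14664 (iv D32606)) (tt N17491 (iv F155254)))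
theorem Q16681 : ∀ i, i < 16681 → P i := stepQ 16680 Q16680 (allL N16680 (tt N18549 (iv F159874)) (tt N14669 F151448) (tt N18313 (iv F158977)) (tt N14666 (iv D32607)) (tt N18432 (iv F159403)) (tt N14731 F151449) (tt N18420 (iv F159370)) (tt N18553 D34480) (tt N18379 (iv F159235)) (tt N18308 F158958))
theorem Q16682 : ∀ i, i < 16682 → P i := stepQ 16681 Q16681 (allL N16681 (tt N18550 (iv F159876)) (tt N14670 F151450) (tt N15151 F151451) (tt N18553 (iv F159887)) (tt N14667 F151452) (tt N14732 F151453) (tt N18554 D34481) (tt N14666 (iv D32608)) (tt N18513 (iv F159713)) (tt N18500 F159651))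
theorem Q16683 : ∀ i, i < 16683 → P i := stepQ 16682 Q16682 (allL N16682 (tt N18551 (iv F159880)) (tt N14672 F151454) (tt N15152 F151455) (tt N18435 (iv F159409)) (tt N18554 (iv F159891)) (tt N18530 (iv F159798)) (tt N14667 (iv D32609)) (tt N18507 (iv F159686)) (tt N18555 D34482) (tt N18539 (iv F159836)))
theorem Q16684 : ∀ i, i < 16684 → P i := stepQ 16683 Q16683 (allL N16683 (tt N18552 (iv F159882)) (tt N14673 F151456) (tt N15153 F151457) (tt N18436 (iv F159411)) (tt N18513 (iv F159710)) (tt N14691 F151458) (tt N18555 (iv F159894)) (tt N14668 F151459) (tt N14667 (iv D32610)) (tt N18511 (iv F159703)))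
theorem Q16685 : ∀ i, i < 16685 → P i := stepQ 16684 Q16684 (allL N16684 (tt N17544 (iv F155514)) (tt N18553 (iv F159886)) (tt N14929 F151460) (tt N14670 F151461) (tt N18438 (iv F159422)) (tt N14734 F151462) (tt N18556 D34483) (tt N14669 (iv D32611)) (tt N18557 D34484) (tt N18540 (iv F159840)))
theorem Q16686 : ∀ i, i < 16686 → P i := stepQ 16685 Q16685 (allL N16685 (tt N17545 (iv F155518)) (tt N18379 (iv F159230)) (tt N14930 F151463) (tt N14671 F151464) (tt N18439 (iv F159425)) (tt N16685 F151465) (tt N18437 (iv F159418)) (tt N18557 (iv F159900)) (tt N14669 (iv D32612)) (tt N18373 (iv F159214)))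
theorem Q16687 : ∀ i, i < 16687 → P i := stepQ 16686 Q16686 (allL N16686 (tt N17546 (iv F155522)) (tt N18554 (iv F159889)) (tt N14675 F151466) (tt N18556 (iv F159896)) (tt N14672 F151467) (tt N18558 D34485) (tt N14670 (iv D32613)) (tt N18510 (iv F159698)) (tt N18559 D34486) (tt N18541 (iv F159843)))
theorem Q16688 : ∀ i, i < 16688 → P i := stepQ 16687 Q16687 (allL N16687 (tt N17547 (iv F155525)) (tt N18513 (iv F159708)) (tt N14676 F151468) (tt N18557 (iv F159898)) (tt N14673 F151469) (tt N16687 F151470) (tt N18559 (iv F159905)) (tt N14671 F151471) (tt N14670 (iv D32614)) (tt N18508 (iv F159692)))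
theorem Q16689 : ∀ i, i < 16689 → P i := stepQ 16688 Q16688 (allL N16688 (tt N17549 (iv F155536)) (tt N18555 (iv F159892)) (tt N14678 F151472) (tt N18444 (iv F159436)) (tt N18559 (iv F159904)) (tt N18560 D34487) (tt N14673 F151473) (tt N18512 (iv F159707)) (tt N14672 (iv D32615)) (tt N18561 D34488))
theorem Q16690 : ∀ i, i < 16690 → P i := stepQ 16689 Q16689 (allL N16689 (tt N17550 (iv F155539)) (tt N18511 (iv F159699)) (tt N14679 F151474) (tt N18445 (iv F159439)) (tt N18508 (iv F159689)) (tt N14694 F151475) (tt N18561 (iv F159909)) (tt N14674 F151476) (tt N18506 (iv F159682)) (tt N14673 (iv D32616)))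
theorem Q16691 : ∀ i, i < 16691 → P i := stepQ 16690 Q16690 (allL N16690 (tt N17551 (iv F155543)) (tt N15156 F151477) (tt N18558 (iv F159901)) (tt N14936 F151478) (tt N18534 (iv F159814)) (tt N14675 (iv D32617)) (tt N14736 F151479) (tt N18514 (iv F159717)) (tt N18562 D34489) (tt N18543 (iv F159849)))
theorem Q16692 : ∀ i, i < 16692 → P i := stepQ 16691 Q16691 (allL N16691 (tt N17552 (iv F155547)) (tt N15157 F151480) (tt N18559 (iv F159903)) (tt N14937 F151481) (tt N14678 F151482) (tt N18563 D34490) (tt N14676 F151483) (tt N18515 (iv F159722)) (tt N14675 (iv D32618)) (tt N18564 D34491))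
theorem Q16693 : ∀ i, i < 16693 → P i := stepQ 16692 Q16692 (allL N16692 (tt N17553 (iv F155552)) (tt N15121 F151484) (tt N18508 (iv F159688)) (tt N14938 F151485) (tt N14679 F151486) (tt N16692 F151487) (tt N18564 (iv F159921)) (tt N14677 F151488) (tt N15118 F151489) (tt N14676 (iv D32619)))
theorem Q16694 : ∀ i, i < 16694 → P i := stepQ 16693 Q16693 (allL N16693 (tt N17554 (iv F155559)) (tt N15158 F151490) (tt N18560 (iv F159906)) (tt N14680 F151491) (tt N18565 D34492) (tt N14678 (iv D32620)) (tt N14695 F151492) (tt N18516 (iv F159727)) (tt N18535 (iv F159821)) (tt N18566 D34493))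
theorem Q16695 : ∀ i, i < 16695 → P i := stepQ 16694 Q16694 (allL N16694 (tt N17555 (iv F155563)) (tt N15159 F151493) (tt N18561 (iv F159908)) (tt N14681 F151494) (tt N18564 (iv F159920)) (tt N18566 (iv F159929)) (tt N14679 F151495) (tt N18517 (iv F159732)) (tt N18546 (iv F159865)) (tt N14678 (iv D32621)))
theorem Q16696 : ∀ i, i < 16696 → P i := stepQ 16695 Q16695 (allL N16695 (tt N17556 (iv F155567)) (tt N15160 F151496) (tt N18453 (iv F159459)) (tt N18537 (iv F159827)) (tt N14680 (iv D32622)) (tt N14941 F151497) (tt N14697 F151498) (tt N18518 (iv F159737)) (tt N18536 (iv F159825)) (tt N18535 (iv F159822)))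
theorem Q16697 : ∀ i, i < 16697 → P i := stepQ 16696 Q16696 (allL N16696 (tt N17557 (iv F155571)) (tt N15161 F151499) (tt N18454 (iv F159462)) (tt N18566 (iv F159928)) (tt N18535 (iv F159819)) (tt N14681 F151500) (tt N14698 F151501) (tt N18519 (iv F159741)) (tt N18565 (iv F159926)) (tt N14680 (iv D32623)))
theorem Q16698 : ∀ i, i < 16698 → P i := stepQ 16697 Q16697 (allL N16697 (tt N17558 (iv F155575)) (tt N15162 F151502) (tt N18482 (iv F159557)) (tt N14686 F151503) (tt N14698 F151504) (tt N14685 (iv D32624)) (tt N18535 (iv F159820)) (tt N16697 F151505) (tt N14695 F151506) (tt N14697 F151507))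
theorem Q16699 : ∀ i, i < 16699 → P i := stepQ 16698 Q16698 (allL N16698 (tt N17559 (iv F155582)) (tt N15163 F151508) (tt N18461 (iv F159490)) (tt N18567 D34494) (tt N14686 (iv D32625)) (tt N16698 F151509) (tt N18536 (iv F159824)) (tt N16698 F151510) (tt N14697 F151511) (tt N18568 D34495))
theorem Q16700 : ∀ i, i < 16700 → P i := stepQ 16699 Q16699 (allL N16699 (tt N17560 (iv F155587)) (tt N15164 F151512) (tt N18462 (iv F159494)) (tt N14697 F151513) (tt N18568 (iv F159939)) (tt N14687 F151514) (tt N18537 (iv F159829)) (tt N16699 F151515) (tt N18567 (iv F159935)) (tt N14686 (iv D32626)))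
theorem Q16701 : ∀ i, i < 16701 → P i := stepQ 16700 Q16700 (allL N16700 (tt N14691 F151516) (tt N17561 (iv F155593)) (tt N15166 F151517) (tt N18463 (iv F159498)) (tt N16700 F151518) (tt N18552 (iv F159884)) (tt N18273 (iv F158793)) (tt N14689 F151519) (tt N14688 (iv D32627)) (tt N18105 (iv F158223)))
theorem Q16702 : ∀ i, i < 16702 → P i := stepQ 16701 Q16701 (allL N16701 (tt N14692 F151520) (tt N17562 (iv F155599)) (tt N15167 F151521) (tt N18464 (iv F159501)) (tt N16701 F151522) (tt N17491 F155255) (tt N16701 F151523) (tt N18105 (iv F158221)) (tt N16701 F151524) (tt N14689 (iv D32628)))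
theorem Q16703 : ∀ i, i < 16703 → P i := stepQ 16702 Q16702 (allL N16702 (tt N18273 (iv F158790)) (tt N14693 F151525) (tt N15168 F151526) (tt N18468 (iv F159516)) (tt N16702 F151527) (tt N18569 D34496) (tt N14691 F151528) (tt N16702 F151529) (tt N14690 (iv D32629)) (tt N17274 (iv F154051)))
theorem Q16704 : ∀ i, i < 16704 → P i := stepQ 16703 Q16703 (allL N16703 (tt N18105 (iv F158218)) (tt N14694 F151530) (tt N15169 F151531) (tt N18469 (iv F159520)) (tt N16703 F151532) (tt N18511 F159704) (tt N17274 (iv F154048)) (tt N14692 F151533) (tt N16703 F151534) (tt N14691 (iv D32630)))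
theorem Q16705 : ∀ i, i < 16705 → P i := stepQ 16704 Q16704 (allL N16704 (tt N17564 (iv F155609)) (tt N18569 (iv F159943)) (tt N14695 F151535) (tt N18473 (iv F159535)) (tt N18483 (iv F159563)) (tt N14693 (iv D32631)) (tt N18560 (iv F159907)) (tt N16704 F151536) (tt N18482 F159561) (tt N18570 D34497))
theorem Q16706 : ∀ i, i < 16706 → P i := stepQ 16705 Q16705 (allL N16705 (tt N17565 (iv F155612)) (tt N17274 (iv F154046)) (tt N14696 F151537) (tt N18474 (iv F159538)) (tt N16705 F151538) (tt N18570 (iv F159948)) (tt N14694 F151539) (tt N16705 F151540) (tt N16705 F151541) (tt N14693 (iv D32632)))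
theorem Q16707 : ∀ i, i < 16707 → P i := stepQ 16706 Q16706 (allL N16706 (tt N17566 (iv F155618)) (tt N15172 F151542) (tt N18483 (iv F159562)) (tt N18568 (iv F159938)) (tt N14695 (iv D32633)) (tt N16706 F151543) (tt N18565 (iv F159925)) (tt N16706 F151544) (tt N14698 F151545) (tt N18567 F159936))
theorem Q16708 : ∀ i, i < 16708 → P i := stepQ 16707 Q16707 (allL N16707 (tt N17567 (iv F155623)) (tt N15173 F151546) (tt N18570 (iv F159947)) (tt N14698 F151547) (tt N18567 (iv F159932)) (tt N14696 F151548) (tt N18566 (iv F159930)) (tt N16707 F151549) (tt N18568 (iv F159942)) (tt N14695 (iv D32634)))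
theorem Q16709 : ∀ i, i < 16709 → P i := stepQ 16708 Q16708 (allL N16708 (tt N17568 (iv F155628)) (tt N15174 F151550) (tt N17186 (iv F153537)) (tt N14712 F151551) (tt N14700 F151552) (tt N18571 D34498) (tt N14699 (iv D32635)) (tt N16708 F151553) (tt N15002 F151554) (tt N15224 F151555))
theorem Q16710 : ∀ i, i < 16710 → P i := stepQ 16709 Q16709 (allL N16709 (tt N17189 (iv F153555)) (tt N14992 F151556) (tt N14705 F151557) (tt N17179 (iv F153504)) (tt N14704 F151558) (tt N18524 (iv F159765)) (tt N17287 (iv F154144)) (tt N14703 (iv D32636)) (tt N14990 F151559) (tt N14710 F151560))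
theorem Q16711 : ∀ i, i < 16711 → P i := stepQ 16710 Q16710 (allL N16710 (tt N17192 (iv F153576)) (tt N18125 (iv F158311)) (tt N14706 F151561) (tt N17166 (iv F153432)) (tt N17287 (iv F154143)) (tt N14723 F151562) (tt N14704 (iv D32637)) (tt N16710 F151563) (tt N17280 (iv F154094)) (tt N14711 F151564))
theorem Q16712 : ∀ i, i < 16712 → P i := stepQ 16711 Q16711 (allL N16711 (tt N17181 (iv F153514)) (tt N14972 F151565) (tt N17184 (iv F153528)) (tt N14710 F151566) (tt N17162 (iv F153408)) (tt N18531 (iv F159802)) (tt N18572 D34499) (tt N14709 (iv D32638)) (tt N14970 F151567) (tt N17179 (iv F153506)))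
theorem Q16713 : ∀ i, i < 16713 → P i := stepQ 16712 Q16712 (allL N16712 (tt N17187 (iv F153542)) (tt N14991 F151568) (tt N14712 F151569) (tt N18572 (iv F159957)) (tt N14711 F151570) (tt N18573 D34500) (tt N14710 (iv D32639)) (tt N16712 F151571) (tt N14989 F151572) (tt N17287 (iv F154146)))
theorem Q16714 : ∀ i, i < 16714 → P i := stepQ 16713 Q16713 (allL N16713 (tt N17569 (iv F155635)) (tt N15180 F151573) (tt N18573 (iv F159961)) (tt N18571 (iv F159951)) (tt N14736 F151574) (tt N14712 (iv D32640)) (tt N18534 (iv F159815)) (tt N16713 F151575) (tt N14998 F151576) (tt N17273 (iv F154044)))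
theorem Q16715 : ∀ i, i < 16715 → P i := stepQ 16714 Q16714 (allL N16714 (tt N14717 F151577) (tt N17570 (iv F155642)) (tt N15035 F151578) (tt N17997 (iv F157751)) (tt N14715 (iv D32641)) (tt N17478 (iv F155187)) (tt N16714 F151579) (tt N18574 D34501) (tt N15031 (iv F151581)) (tt N14729 F151580))
theorem Q16716 : ∀ i, i < 16716 → P i := stepQ 16715 Q16715 (allL N16715 (tt N14718 F151582) (tt N17571 (iv F155648)) (tt N15181 F151583) (tt N17936 (iv F157389)) (tt N18574 (iv F159967)) (tt N14716 F151584) (tt N18154 (iv F158418)) (tt N14715 (iv D32642)) (tt N18575 D34502) (tt N14730 F151585))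
theorem Q16717 : ∀ i, i < 16717 → P i := stepQ 16716 Q16716 (allL N16716 (tt N14719 F151586) (tt N17572 (iv F155655)) (tt N15033 F151587) (tt N17937 (iv F157396)) (tt N15031 F151588) (tt N16716 F151589) (tt N16716 F151590) (tt N18575 (iv F159974)) (tt N14715 (iv D32643)) (tt N16716 F151591))
theorem Q16718 : ∀ i, i < 16718 → P i := stepQ 16717 Q16717 (allL N16717 (tt N18574 (iv F159965)) (tt N14721 F151592) (tt N15054 F151593) (tt N18342 (iv F159099)) (tt N14718 F151594) (tt N18500 (iv F159649)) (tt N18576 D34503) (tt N14717 (iv D32644)) (tt N15051 F151595) (tt N14732 F151596))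
theorem Q16719 : ∀ i, i < 16719 → P i := stepQ 16718 Q16718 (allL N16718 (tt N18154 (iv F158413)) (tt N14723 F151597) (tt N15182 F151598) (tt N17940 (iv F157415)) (tt N18576 (iv F159978)) (tt N18125 (iv F158315)) (tt N14718 (iv D32645)) (tt N16718 F151599) (tt N18577 D34504) (tt N14733 F151600))
theorem Q16720 : ∀ i, i < 16720 → P i := stepQ 16719 Q16719 (allL N16719 (tt N18575 (iv F159970)) (tt N14724 F151601) (tt N15052 F151602) (tt N17941 (iv F157421)) (tt N15051 F151603) (tt N16719 F151604) (tt N18577 (iv F159985)) (tt N14719 F151605) (tt N14718 (iv D32646)) (tt N16719 F151606))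
theorem Q16721 : ∀ i, i < 16721 → P i := stepQ 16720 Q16720 (allL N16720 (tt N17577 (iv F155686)) (tt N18342 (iv F159097)) (tt N14956 F151607) (tt N14721 F151608) (tt N17942 (iv F157429)) (tt N18540 (iv F159839)) (tt N18578 D34505) (tt N14720 (iv D32647)) (tt N18291 (iv F158872)) (tt N14734 F151609))
theorem Q16722 : ∀ i, i < 16722 → P i := stepQ 16721 Q16721 (allL N16721 (tt N17578 (iv F155692)) (tt N18576 (iv F159976)) (tt N14725 F151610) (tt N18578 (iv F159989)) (tt N14723 F151611) (tt N18579 D34506) (tt N14721 (iv D32648)) (tt N16721 F151612) (tt N18580 D34507) (tt N14735 F151613))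
theorem Q16723 : ∀ i, i < 16723 → P i := stepQ 16722 Q16722 (allL N16722 (tt N17579 (iv F155697)) (tt N15051 F151614) (tt N14726 F151615) (tt N18291 (iv F158869)) (tt N14724 F151616) (tt N15050 (iv F151619)) (tt N18580 (iv F159998)) (tt N14722 F151617) (tt N14721 (iv D32649)) (tt N16722 F151618))
theorem Q16724 : ∀ i, i < 16724 → P i := stepQ 16723 Q16723 (allL N16723 (tt N17580 (iv F155704)) (tt N18577 (iv F159982)) (tt N14727 F151620) (tt N17944 (iv F157440)) (tt N18580 (iv F159997)) (tt N17290 (iv F154165)) (tt N14724 F151621) (tt N16723 F151622) (tt N14723 (iv D32650)) (tt N16723 F151623))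
theorem Q16725 : ∀ i, i < 16725 → P i := stepQ 16724 Q16724 (allL N16724 (tt N17581 (iv F155711)) (tt N15183 F151624) (tt N18579 (iv F159992)) (tt N14958 F151625) (tt N17273 (iv F154041)) (tt N14725 (iv D32651)) (tt N18543 (iv F159848)) (tt N16724 F151626) (tt N17272 (iv F154037)) (tt N14736 F151627))
theorem Q16726 : ∀ i, i < 16726 → P i := stepQ 16725 Q16725 (allL N16725 (tt N17582 (iv F155718)) (tt N15097 F151628) (tt N18580 (iv F159996)) (tt N14959 F151629) (tt N14727 F151630) (tt N15106 (iv F151634)) (tt N14726 F151631) (tt N16725 F151632) (tt N14725 (iv D32652)) (tt N16725 F151633))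
theorem Q16727 : ∀ i, i < 16727 → P i := stepQ 16726 Q16726 (allL N16726 (tt N14731 F151635) (tt N17583 (iv F155727)) (tt N18002 (iv F157777)) (tt N14729 (iv D32653)) (tt N18107 (iv F158231)) (tt N18549 (iv F159875)) (tt N16726 F151636) (tt N18581 D34508) (tt N16726 F151637) (tt N17997 F157753))
theorem Q16728 : ∀ i, i < 16728 → P i := stepQ 16727 Q16727 (allL N16727 (tt N14732 F151638) (tt N17584 (iv F155731)) (tt N15185 F151639) (tt N18581 (iv F160003)) (tt N14730 F151640) (tt N18550 (iv F159879)) (tt N18153 (iv F158410)) (tt N14729 (iv D32654)) (tt N16727 F151641) (tt N18574 (iv F159969)))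
theorem Q16729 : ∀ i, i < 16729 → P i := stepQ 16728 Q16728 (allL N16728 (tt N18581 (iv F160002)) (tt N14734 F151642) (tt N18347 (iv F159118)) (tt N14732 F151643) (tt N18109 (iv F158242)) (tt N18553 (iv F159888)) (tt N18582 D34509) (tt N14731 (iv D32655)) (tt N16728 F151644) (tt N18342 F159101))
theorem Q16730 : ∀ i, i < 16730 → P i := stepQ 16729 Q16729 (allL N16729 (tt N18153 (iv F158407)) (tt N14735 F151645) (tt N15187 F151646) (tt N18582 (iv F160006)) (tt N14733 F151647) (tt N18583 D34510) (tt N14732 (iv D32656)) (tt N16729 F151648) (tt N16729 F151649) (tt N18576 (iv F159981)))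
theorem Q16731 : ∀ i, i < 16731 → P i := stepQ 16730 Q16730 (allL N16730 (tt N17587 (iv F155745)) (tt N18582 (iv F160005)) (tt N14960 F151650) (tt N14735 F151651) (tt N18111 (iv F158252)) (tt N18584 D34511) (tt N14734 (iv D32657)) (tt N16730 F151652) (tt N16730 F151653) (tt N18578 (iv F159991)))
theorem Q16732 : ∀ i, i < 16732 → P i := stepQ 16731 Q16731 (allL N16731 (tt N17588 (iv F155750)) (tt N18583 (iv F160009)) (tt N14736 F151654) (tt N18584 (iv F160014)) (tt N18573 (iv F159962)) (tt N14735 (iv D32658)) (tt N18558 (iv F159902)) (tt N16731 F151655) (tt N18585 D34512) (tt N18579 (iv F159994)))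
theorem Q16733 : ∀ i, i < 16733 → P i := stepQ 16732 Q16732 (allL N16732 (tt N17589 (iv F155753)) (tt N15189 F151656) (tt N18585 (iv F160016)) (tt N14962 F151657) (tt N14998 F151658) (tt N16732 F151659) (tt N18562 (iv F159913)) (tt N16732 F151660) (tt N14736 (iv D32659)) (tt N14997 (iv F151661)))
theorem Q16734 : ∀ i, i < 16734 → P i := stepQ 16733 Q16733 (allL N16733 (tt N14761 F151662) (tt N17611 (iv F155894)) (tt N17789 (iv F156719)) (tt N17348 (iv F154518)) (tt N14737 (iv D32660)) (tt N17602 (iv F155841)) (tt N17380 (iv F154697)) (tt N18586 D34513) (tt N18196 (iv F158547)) (tt N14740 F151663))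
theorem Q16735 : ∀ i, i < 16735 → P i := stepQ 16734 Q16734 (allL N16734 (tt N14762 F151664) (tt N17612 (iv F155900)) (tt N17791 (iv F156727)) (tt N14739 F151665) (tt N18586 (iv F160022)) (tt N14738 F151666) (tt N18587 D34514) (tt N14737 (iv D32661)) (tt N18198 (iv F158556)) (tt N14741 F151667))
theorem Q16736 : ∀ i, i < 16736 → P i := stepQ 16735 Q16735 (allL N16735 (tt N14764 F151668) (tt N17614 (iv F155911)) (tt N15190 F151669) (tt N18587 (iv F160025)) (tt N17351 (iv F154536)) (tt N17155 (iv F153358)) (tt N14739 (iv D32662)) (tt N17383 (iv F154716)) (tt N18260 (iv F158753)) (tt N14742 F151670))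
theorem Q16737 : ∀ i, i < 16737 → P i := stepQ 16736 Q16736 (allL N16736 (tt N14769 F151671) (tt N17622 (iv F155952)) (tt N17787 (iv F156711)) (tt N18288 (iv F158856)) (tt N14741 F151672) (tt N18114 (iv F158266)) (tt N18588 D34515) (tt N14740 (iv D32663)) (tt N17784 (iv F156699)) (tt N18586 (iv F160023)))
theorem Q16738 : ∀ i, i < 16738 → P i := stepQ 16737 Q16737 (allL N16737 (tt N14771 F151673) (tt N17624 (iv F155960)) (tt N17790 (iv F156723)) (tt N14742 F151674) (tt N18588 (iv F160028)) (tt N18073 (iv F158120)) (tt N14741 (iv D32664)) (tt N18075 (iv F158128)) (tt N17785 (iv F156705)) (tt N18587 (iv F160026)))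
theorem Q16739 : ∀ i, i < 16739 → P i := stepQ 16738 Q16738 (allL N16738 (tt N17737 (iv F156492)) (tt N17124 (iv F153150)) (tt N14745 F151675) (tt N17171 (iv F153459)) (tt N14743 (iv D32665)) (tt N17393 (iv F154779)) (tt N14767 F151676) (tt N18589 D34516) (tt N14791 F151677) (tt N18388 (iv F159262)))
theorem Q16740 : ∀ i, i < 16740 → P i := stepQ 16739 Q16739 (allL N16739 (tt N17739 (iv F156502)) (tt N17126 (iv F153162)) (tt N14746 F151678) (tt N14794 F151679) (tt N18589 (iv F160030)) (tt N14744 F151680) (tt N18590 D34517) (tt N14743 (iv D32666)) (tt N14792 F151681) (tt N18389 (iv F159266)))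
theorem Q16741 : ∀ i, i < 16741 → P i := stepQ 16740 Q16740 (allL N16740 (tt N18074 (iv F158122)) (tt N14809 F151682) (tt N18589 (iv F160029)) (tt N18299 (iv F158913)) (tt N14746 F151683) (tt N17395 (iv F154787)) (tt N18591 D34518) (tt N14745 (iv D32667)) (tt N18592 D34519) (tt N18390 (iv F159270)))
theorem Q16742 : ∀ i, i < 16742 → P i := stepQ 16741 Q16741 (allL N16741 (tt N17734 (iv F156478)) (tt N14810 F151684) (tt N14791 F151685) (tt N18300 (iv F158917)) (tt N14747 F151686) (tt N17312 (iv F154311)) (tt N14770 F151687) (tt N18592 (iv F160042)) (tt N14745 (iv D32668)) (tt N17201 (iv F153639)))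
theorem Q16743 : ∀ i, i < 16743 → P i := stepQ 16742 Q16742 (allL N16742 (tt N18075 (iv F158125)) (tt N14811 F151688) (tt N18590 (iv F160032)) (tt N14748 F151689) (tt N18591 (iv F160037)) (tt N17125 (iv F153158)) (tt N14746 (iv D32669)) (tt N14771 F151690) (tt N18593 D34520) (tt N18392 (iv F159279)))
theorem Q16744 : ∀ i, i < 16744 → P i := stepQ 16743 Q16743 (allL N16743 (tt N17735 (iv F156483)) (tt N14812 F151691) (tt N14792 F151692) (tt N14749 F151693) (tt N18592 (iv F160041)) (tt N14790 F151694) (tt N18593 (iv F160046)) (tt N14747 F151695) (tt N14746 (iv D32670)) (tt N17202 (iv F153645)))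
theorem Q16745 : ∀ i, i < 16745 → P i := stepQ 16744 Q16744 (allL N16744 (tt N17853 (iv F156976)) (tt N14814 F151696) (tt N14873 F151697) (tt N18593 (iv F160045)) (tt N18303 (iv F158931)) (tt N14892 (iv F151700)) (tt N14749 F151698) (tt N14773 F151699) (tt N14748 (iv D32671)) (tt N17253 (iv F153920)))
theorem Q16746 : ∀ i, i < 16746 → P i := stepQ 16745 Q16745 (allL N16745 (tt N18046 (iv F158001)) (tt N14845 F151701) (tt N14752 F151702) (tt N18594 D34521) (tt N14750 (iv D32672)) (tt N17675 (iv F156230)) (tt N17121 (iv F153133)) (tt N18595 D34522) (tt N14841 F151703) (tt N17167 (iv F153441)))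
theorem Q16747 : ∀ i, i < 16747 → P i := stepQ 16746 Q16746 (allL N16746 (tt N17834 (iv F156896)) (tt N14847 F151704) (tt N14753 F151705) (tt N14857 F151706) (tt N18595 (iv F160054)) (tt N14751 F151707) (tt N18596 D34523) (tt N14750 (iv D32673)) (tt N14842 F151708) (tt N17168 (iv F153446)))
theorem Q16748 : ∀ i, i < 16748 → P i := stepQ 16747 Q16747 (allL N16747 (tt N18072 (iv F158115)) (tt N14825 F151709) (tt N18595 (iv F160053)) (tt N17204 (iv F153655)) (tt N14753 F151710) (tt N17678 (iv F156243)) (tt N18597 D34524) (tt N14752 (iv D32674)) (tt N18598 D34525) (tt N17170 (iv F153457)))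
theorem Q16749 : ∀ i, i < 16749 → P i := stepQ 16748 Q16748 (allL N16748 (tt N18050 (iv F158021)) (tt N14767 F151711) (tt N14841 F151712) (tt N17205 (iv F153660)) (tt N14754 F151713) (tt N18137 (iv F158359)) (tt N17124 (iv F153154)) (tt N18598 (iv F160066)) (tt N14752 (iv D32675)) (tt N18599 D34526))
theorem Q16750 : ∀ i, i < 16750 → P i := stepQ 16749 Q16749 (allL N16749 (tt N18073 (iv F158118)) (tt N14826 F151714) (tt N18596 (iv F160057)) (tt N14755 F151715) (tt N18597 (iv F160062)) (tt N14771 F151716) (tt N14753 (iv D32676)) (tt N17125 (iv F153159)) (tt N18600 D34527) (tt N17172 (iv F153466)))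
theorem Q16751 : ∀ i, i < 16751 → P i := stepQ 16750 Q16750 (allL N16750 (tt N17843 (iv F156936)) (tt N14768 F151717) (tt N14842 F151718) (tt N14756 F151719) (tt N18598 (iv F160065)) (tt N14766 F151720) (tt N18600 (iv F160074)) (tt N14754 F151721) (tt N14753 (iv D32677)) (tt N18601 D34528))
theorem Q16752 : ∀ i, i < 16752 → P i := stepQ 16751 Q16751 (allL N16751 (tt N17713 (iv F156387)) (tt N14759 F151722) (tt N14829 F151723) (tt N14757 F151724) (tt N18599 (iv F160069)) (tt N14758 F151725) (tt N17127 (iv F153172)) (tt N18601 (iv F160079)) (tt N17174 (iv F153476)) (tt N14754 (iv D32678)))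
theorem Q16753 : ∀ i, i < 16753 → P i := stepQ 16752 Q16752 (allL N16752 (tt N17928 (iv F157347)) (tt N14827 F151726) (tt N14939 F151727) (tt N18600 (iv F160072)) (tt N17209 (iv F153684)) (tt N14934 F151728) (tt N14756 F151729) (tt N17128 (iv F153180)) (tt N14755 (iv D32679)) (tt N18602 D34529))
theorem Q16754 : ∀ i, i < 16754 → P i := stepQ 16753 Q16753 (allL N16753 (tt N17934 (iv F157375)) (tt N14828 F151730) (tt N14944 F151731) (tt N18601 (iv F160077)) (tt N17210 (iv F153690)) (tt N14774 F151732) (tt N18602 (iv F160083)) (tt N14757 F151733) (tt N17176 (iv F153487)) (tt N14756 (iv D32680)))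
theorem Q16755 : ∀ i, i < 16755 → P i := stepQ 16754 Q16754 (allL N16754 (tt N17712 (iv F156380)) (tt N14760 F151734) (tt N14830 F151735) (tt N14774 F151736) (tt N17634 (iv F156028)) (tt N18601 (iv F160078)) (tt N14861 F151737) (tt N14758 (iv D32681)) (tt N14963 F151738) (tt N14766 F151739))
theorem Q16756 : ∀ i, i < 16756 → P i := stepQ 16755 Q16755 (allL N16755 (tt N17789 (iv F156718)) (tt N18599 (iv F160067)) (tt N14761 F151740) (tt N18603 D34530) (tt N14759 (iv D32682)) (tt N17666 (iv F156196)) (tt N18388 (iv F159261)) (tt N18604 D34531) (tt N17219 (iv F153735)) (tt N14767 F151741))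
theorem Q16757 : ∀ i, i < 16757 → P i := stepQ 16756 Q16756 (allL N16756 (tt N17791 (iv F156726)) (tt N18601 (iv F160075)) (tt N14762 F151742) (tt N14828 F151743) (tt N18604 (iv F160087)) (tt N14760 F151744) (tt N18605 D34532) (tt N14759 (iv D32683)) (tt N17221 (iv F153744)) (tt N14768 F151745))
theorem Q16758 : ∀ i, i < 16758 → P i := stepQ 16757 Q16757 (allL N16757 (tt N18586 (iv F160021)) (tt N14834 F151746) (tt N18604 (iv F160086)) (tt N18322 (iv F159024)) (tt N14762 F151747) (tt N17668 (iv F156204)) (tt N18606 D34533) (tt N14761 (iv D32684)) (tt N18607 D34534) (tt N14769 F151748))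
theorem Q16759 : ∀ i, i < 16759 → P i := stepQ 16758 Q16758 (allL N16758 (tt N18196 (iv F158544)) (tt N14835 F151749) (tt N17219 (iv F153733)) (tt N18323 (iv F159028)) (tt N14763 F151750) (tt N18608 D34535) (tt N18391 (iv F159274)) (tt N18607 (iv F160097)) (tt N14761 (iv D32685)) (tt N17213 (iv F153709)))
theorem Q16760 : ∀ i, i < 16760 → P i := stepQ 16759 Q16759 (allL N16759 (tt N18587 (iv F160024)) (tt N14836 F151751) (tt N18605 (iv F160089)) (tt N14764 F151752) (tt N18606 (iv F160093)) (tt N17172 (iv F153464)) (tt N14762 (iv D32686)) (tt N18392 (iv F159278)) (tt N18609 D34536) (tt N14771 F151753))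
theorem Q16761 : ∀ i, i < 16761 → P i := stepQ 16760 Q16760 (allL N16760 (tt N18198 (iv F158551)) (tt N14837 F151754) (tt N17221 (iv F153740)) (tt N14765 F151755) (tt N18607 (iv F160096)) (tt N14967 F151756) (tt N18609 (iv F160102)) (tt N14763 F151757) (tt N14762 (iv D32687)) (tt N17215 (iv F153722)))
theorem Q16762 : ∀ i, i < 16762 → P i := stepQ 16761 Q16761 (allL N16761 (tt N18260 (iv F158750)) (tt N14839 F151758) (tt N15191 F151759) (tt N18609 (iv F160101)) (tt N18326 (iv F159042)) (tt N18610 D34537) (tt N14765 F151760) (tt N18394 (iv F159288)) (tt N14764 (iv D32688)) (tt N17263 (iv F153983)))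
theorem Q16763 : ∀ i, i < 16763 → P i := stepQ 16762 Q16762 (allL N16762 (tt N17777 (iv F156666)) (tt N17205 (iv F153659)) (tt N18332 (iv F159064)) (tt N14767 (iv D32689)) (tt N14821 F151761) (tt N18139 (iv F158365)) (tt N17171 (iv F153461)) (tt N18611 D34538) (tt N14819 F151762) (tt N18603 (iv F160085)))
theorem Q16764 : ∀ i, i < 16764 → P i := stepQ 16763 Q16763 (allL N16763 (tt N17787 (iv F156710)) (tt N18598 (iv F160063)) (tt N14769 F151763) (tt N18611 (iv F160106)) (tt N14768 F151764) (tt N18140 (iv F158368)) (tt N18612 D34539) (tt N14767 (iv D32690)) (tt N14825 F151765) (tt N18604 (iv F160088)))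
theorem Q16765 : ∀ i, i < 16765 → P i := stepQ 16764 Q16764 (allL N16764 (tt N17790 (iv F156722)) (tt N18600 (iv F160070)) (tt N14771 F151766) (tt N14827 F151767) (tt N18612 (iv F160110)) (tt N18596 (iv F160059)) (tt N14768 (iv D32691)) (tt N18590 (iv F160034)) (tt N14826 F151768) (tt N18605 (iv F160091)))
theorem Q16766 : ∀ i, i < 16766 → P i := stepQ 16765 Q16765 (allL N16765 (tt N18588 (iv F160027)) (tt N14849 F151769) (tt N18612 (iv F160109)) (tt N18337 (iv F159079)) (tt N14771 F151770) (tt N18613 D34540) (tt N14769 (iv D32692)) (tt N18591 (iv F160038)) (tt N18614 D34541) (tt N18606 (iv F160094)))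
theorem Q16767 : ∀ i, i < 16767 → P i := stepQ 16766 Q16766 (allL N16766 (tt N17784 (iv F156695)) (tt N14850 F151771) (tt N14825 F151772) (tt N18338 (iv F159082)) (tt N14772 F151773) (tt N17795 (iv F156750)) (tt N18614 (iv F160116)) (tt N14770 F151774) (tt N14769 (iv D32693)) (tt N17212 (iv F153704)))
theorem Q16768 : ∀ i, i < 16768 → P i := stepQ 16767 Q16767 (allL N16767 (tt N17785 (iv F156701)) (tt N14853 F151775) (tt N14826 F151776) (tt N14773 F151777) (tt N18614 (iv F160115)) (tt N14846 (iv F151779)) (tt N14772 F151778) (tt N18593 (iv F160047)) (tt N14771 (iv D32694)) (tt N17214 (iv F153715)))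
theorem Q16769 : ∀ i, i < 16769 → P i := stepQ 16768 Q16768 (allL N16768 (tt N18018 (iv F157865)) (tt N14776 F151780) (tt N17132 (iv F153202)) (tt N16768 F151781) (tt N14795 F151782) (tt N18615 D34542) (tt N14775 (iv D32695)) (tt N18616 D34543) (tt N16768 F151783) (tt N14781 F151784))
theorem Q16770 : ∀ i, i < 16770 → P i := stepQ 16769 Q16769 (allL N16769 (tt N17304 (iv F154259)) (tt N18615 (iv F160117)) (tt N14777 F151785) (tt N16769 F151786) (tt N18617 D34544) (tt N14776 (iv D32696)) (tt N17293 (iv F154187)) (tt N18618 D34545) (tt N18458 (iv F159480)) (tt N14782 F151787))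
theorem Q16771 : ∀ i, i < 16771 → P i := stepQ 16770 Q16770 (allL N16770 (tt N17305 (iv F154265)) (tt N18616 (iv F160120)) (tt N14778 F151788) (tt N16770 F151789) (tt N14797 F151790) (tt N18618 (iv F160131)) (tt N17194 (iv F153596)) (tt N14776 (iv D32697)) (tt N16770 F151791) (tt N14783 F151792))
theorem Q16772 : ∀ i, i < 16772 → P i := stepQ 16771 Q16771 (allL N16771 (tt N17306 (iv F154273)) (tt N17388 (iv F154747)) (tt N18617 (iv F160126)) (tt N17594 (iv F155790)) (tt N14777 (iv D32698)) (tt N14798 F151793) (tt N17295 (iv F154201)) (tt N18619 D34546) (tt N18620 D34547) (tt N14784 F151794))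
theorem Q16773 : ∀ i, i < 16773 → P i := stepQ 16772 Q16772 (allL N16772 (tt N17307 (iv F154279)) (tt N17389 (iv F154753)) (tt N18618 (iv F160129)) (tt N14779 F151795) (tt N18619 (iv F160133)) (tt N14778 F151796) (tt N18621 D34548) (tt N14777 (iv D32699)) (tt N18622 D34549) (tt N14785 F151797))
theorem Q16774 : ∀ i, i < 16774 → P i := stepQ 16773 Q16773 (allL N16773 (tt N17308 (iv F154284)) (tt N17390 (iv F154758)) (tt N18458 (iv F159477)) (tt N14780 F151798) (tt N18620 (iv F160136)) (tt N16773 F151799) (tt N17297 (iv F154213)) (tt N18622 (iv F160141)) (tt N14777 (iv D32700)) (tt N18241 (iv F158691)))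
theorem Q16775 : ∀ i, i < 16775 → P i := stepQ 16774 Q16774 (allL N16774 (tt N17309 (iv F154289)) (tt N17391 (iv F154764)) (tt N16774 F151800) (tt N18621 (iv F160137)) (tt N17597 (iv F155808)) (tt N17198 (iv F153619)) (tt N14779 (iv D32701)) (tt N17298 (iv F154220)) (tt N18623 D34550) (tt N14787 F151801))
theorem Q16776 : ∀ i, i < 16776 → P i := stepQ 16775 Q16775 (allL N16775 (tt N17310 (iv F154296)) (tt N17392 (iv F154771)) (tt N16775 F151802) (tt N18622 (iv F160139)) (tt N17598 (iv F155815)) (tt N16775 F151803) (tt N18623 (iv F160143)) (tt N14780 F151804) (tt N14779 (iv D32702)) (tt N18242 (iv F158697)))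
theorem Q16777 : ∀ i, i < 16777 → P i := stepQ 16776 Q16776 (allL N16776 (tt N18042 (iv F157984)) (tt N14782 F151805) (tt N17131 (iv F153197)) (tt N16776 F151806) (tt N18624 D34551) (tt N14781 (iv D32703)) (tt N18158 (iv F158434)) (tt N18625 D34552) (tt N17445 (iv F155021)) (tt N18615 (iv F160119)))
theorem Q16778 : ∀ i, i < 16778 → P i := stepQ 16777 Q16777 (allL N16777 (tt N18035 (iv F157954)) (tt N14783 F151807) (tt N17130 (iv F153190)) (tt N16777 F151808) (tt N14805 F151809) (tt N18625 (iv F160148)) (tt N15014 F151810) (tt N14781 (iv D32704)) (tt N15003 F151811) (tt N18616 (iv F160125)))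
theorem Q16779 : ∀ i, i < 16779 → P i := stepQ 16778 Q16778 (allL N16778 (tt N17723 (iv F156440)) (tt N18624 (iv F160144)) (tt N14784 F151812) (tt N18626 D34553) (tt N14782 (iv D32705)) (tt N14806 F151813) (tt N18160 (iv F158442)) (tt N18627 D34554) (tt N18628 D34555) (tt N18617 (iv F160128)))
theorem Q16780 : ∀ i, i < 16780 → P i := stepQ 16779 Q16779 (allL N16779 (tt N17724 (iv F156443)) (tt N18625 (iv F160146)) (tt N14785 F151814) (tt N16779 F151815) (tt N18627 (iv F160152)) (tt N14783 F151816) (tt N18629 D34556) (tt N14782 (iv D32706)) (tt N18630 D34557) (tt N18618 (iv F160132)))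
theorem Q16781 : ∀ i, i < 16781 → P i := stepQ 16780 Q16780 (allL N16780 (tt N17725 (iv F156447)) (tt N17445 (iv F155018)) (tt N14786 F151817) (tt N16780 F151818) (tt N18628 (iv F160155)) (tt N15005 F151819) (tt N18162 (iv F158449)) (tt N18630 (iv F160161)) (tt N14782 (iv D32707)) (tt N18631 D34558))
theorem Q16782 : ∀ i, i < 16782 → P i := stepQ 16781 Q16781 (allL N16781 (tt N17726 (iv F156451)) (tt N17395 (iv F154785)) (tt N18627 (iv F160151)) (tt N18364 (iv F159186)) (tt N14785 F151820) (tt N14809 F151821) (tt N18632 D34559) (tt N14784 (iv D32708)) (tt N18633 D34560) (tt N18619 (iv F160135)))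
theorem Q16783 : ∀ i, i < 16783 → P i := stepQ 16782 Q16782 (allL N16782 (tt N17727 (iv F156454)) (tt N17396 (iv F154789)) (tt N18628 (iv F160154)) (tt N18365 (iv F159189)) (tt N14786 F151822) (tt N18634 D34561) (tt N18164 (iv F158453)) (tt N18633 (iv F160167)) (tt N14784 (iv D32709)) (tt N18635 D34562))
theorem Q16784 : ∀ i, i < 16784 → P i := stepQ 16783 Q16783 (allL N16783 (tt N17728 (iv F156456)) (tt N17397 (iv F154792)) (tt N18629 (iv F160156)) (tt N14787 F151823) (tt N18632 (iv F160165)) (tt N17317 (iv F154330)) (tt N14785 (iv D32710)) (tt N18165 (iv F158455)) (tt N18636 D34563) (tt N18621 (iv F160138)))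
theorem Q16785 : ∀ i, i < 16785 → P i := stepQ 16784 Q16784 (allL N16784 (tt N17729 (iv F156458)) (tt N17398 (iv F154796)) (tt N18630 (iv F160158)) (tt N14788 F151824) (tt N18633 (iv F160166)) (tt N15009 F151825) (tt N18636 (iv F160172)) (tt N14786 F151826) (tt N14785 (iv D32711)) (tt N18637 D34564))
theorem Q16786 : ∀ i, i < 16786 → P i := stepQ 16785 Q16785 (allL N16785 (tt N17730 (iv F156462)) (tt N17399 (iv F154801)) (tt N18631 (iv F160162)) (tt N14789 F151827) (tt N18635 (iv F160170)) (tt N15010 F151828) (tt N18167 (iv F158462)) (tt N18637 (iv F160175)) (tt N18241 (iv F158690)) (tt N14786 (iv D32712)))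
theorem Q16787 : ∀ i, i < 16787 → P i := stepQ 16786 Q16786 (allL N16786 (tt N17731 (iv F156465)) (tt N17400 (iv F154808)) (tt N16786 F151829) (tt N18636 (iv F160171)) (tt N18368 (iv F159196)) (tt N18638 D34565) (tt N14788 F151830) (tt N18168 (iv F158466)) (tt N14787 (iv D32713)) (tt N18639 D34566))
theorem Q16788 : ∀ i, i < 16788 → P i := stepQ 16787 Q16787 (allL N16787 (tt N17732 (iv F156468)) (tt N17401 (iv F154812)) (tt N16787 F151831) (tt N18637 (iv F160173)) (tt N18244 (iv F158704)) (tt N15012 F151832) (tt N18639 (iv F160179)) (tt N14789 F151833) (tt N18242 (iv F158696)) (tt N14788 (iv D32714)))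
theorem Q16789 : ∀ i, i < 16789 → P i := stepQ 16788 Q16788 (allL N16788 (tt N17736 (iv F156489)) (tt N17123 (iv F153144)) (tt N18592 (iv F160040)) (tt N17170 (iv F153454)) (tt N14792 F151834) (tt N17315 (iv F154324)) (tt N18640 D34567) (tt N14791 (iv D32715)) (tt N18589 (iv F160031)) (tt N17204 (iv F153657)))
theorem Q16790 : ∀ i, i < 16790 → P i := stepQ 16789 Q16789 (allL N16789 (tt N17738 (iv F156497)) (tt N17125 (iv F153156)) (tt N18593 (iv F160044)) (tt N14793 F151835) (tt N18640 (iv F160180)) (tt N14811 F151836) (tt N14792 (iv D32716)) (tt N14826 F151837) (tt N18590 (iv F160035)) (tt N17206 (iv F153668)))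
theorem Q16791 : ∀ i, i < 16791 → P i := stepQ 16790 Q16790 (allL N16790 (tt N17740 (iv F156507)) (tt N17128 (iv F153175)) (tt N14874 F151838) (tt N18590 (iv F160033)) (tt N17175 (iv F153479)) (tt N17141 (iv F153265)) (tt N14794 F151839) (tt N14827 F151840) (tt N14793 (iv D32717)) (tt N18520 (iv F159745)))
theorem Q16792 : ∀ i, i < 16792 → P i := stepQ 16791 Q16791 (allL N16791 (tt N17716 (iv F156404)) (tt N14796 F151841) (tt N17127 (iv F153169)) (tt N14875 F151842) (tt N18641 D34568) (tt N14795 (iv D32718)) (tt N14829 F151843) (tt N18642 D34569) (tt N18489 (iv F159590)) (tt N14804 F151844))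
theorem Q16793 : ∀ i, i < 16793 → P i := stepQ 16792 Q16792 (allL N16792 (tt N18019 (iv F157872)) (tt N14797 F151845) (tt N17133 (iv F153209)) (tt N14876 F151846) (tt N18616 (iv F160122)) (tt N18642 (iv F160187)) (tt N15017 F151847) (tt N14795 (iv D32719)) (tt N16792 F151848) (tt N14805 F151849))
theorem Q16794 : ∀ i, i < 16794 → P i := stepQ 16793 Q16793 (allL N16793 (tt N17741 (iv F156512)) (tt N18641 (iv F160182)) (tt N14798 F151850) (tt N18643 D34570) (tt N14796 (iv D32720)) (tt N18617 (iv F160127)) (tt N14831 F151851) (tt N18644 D34571) (tt N18645 D34572) (tt N14806 F151852))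
theorem Q16795 : ∀ i, i < 16795 → P i := stepQ 16794 Q16794 (allL N16794 (tt N17742 (iv F156517)) (tt N18642 (iv F160185)) (tt N14799 F151853) (tt N14878 F151854) (tt N18644 (iv F160193)) (tt N14797 F151855) (tt N18646 D34573) (tt N14796 (iv D32721)) (tt N18647 D34574) (tt N14807 F151856))
theorem Q16796 : ∀ i, i < 16796 → P i := stepQ 16795 Q16795 (allL N16795 (tt N17743 (iv F156523)) (tt N18489 (iv F159586)) (tt N14800 F151857) (tt N14879 F151858) (tt N18645 (iv F160196)) (tt N16795 F151859) (tt N14833 F151860) (tt N18647 (iv F160205)) (tt N14796 (iv D32722)) (tt N18648 D34575))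
theorem Q16797 : ∀ i, i < 16797 → P i := stepQ 16796 Q16796 (allL N16796 (tt N17744 (iv F156529)) (tt N18390 (iv F159267)) (tt N18644 (iv F160192)) (tt N18309 (iv F158960)) (tt N14799 F151861) (tt N18619 (iv F160134)) (tt N18649 D34576) (tt N14798 (iv D32723)) (tt N18650 D34577) (tt N14809 F151862))
theorem Q16798 : ∀ i, i < 16798 → P i := stepQ 16797 Q16797 (allL N16797 (tt N17745 (iv F156532)) (tt N18391 (iv F159271)) (tt N18645 (iv F160195)) (tt N18310 (iv F158964)) (tt N14800 F151863) (tt N18651 D34578) (tt N14835 F151864) (tt N18650 (iv F160216)) (tt N14798 (iv D32724)) (tt N18652 D34579))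
theorem Q16799 : ∀ i, i < 16799 → P i := stepQ 16798 Q16798 (allL N16798 (tt N17746 (iv F156535)) (tt N18392 (iv F159275)) (tt N18646 (iv F160198)) (tt N14801 F151865) (tt N18649 (iv F160212)) (tt N17206 (iv F153666)) (tt N14799 (iv D32725)) (tt N14836 F151866) (tt N18653 D34580) (tt N14811 F151867))
theorem Q16800 : ∀ i, i < 16800 → P i := stepQ 16799 Q16799 (allL N16799 (tt N17747 (iv F156540)) (tt N18393 (iv F159280)) (tt N18647 (iv F160202)) (tt N14802 F151868) (tt N18650 (iv F160215)) (tt N16799 F151869) (tt N18653 (iv F160222)) (tt N14800 F151870) (tt N14799 (iv D32726)) (tt N18654 D34581))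
theorem Q16801 : ∀ i, i < 16801 → P i := stepQ 16800 Q16800 (allL N16800 (tt N17748 (iv F156544)) (tt N17203 (iv F153647)) (tt N18648 (iv F160207)) (tt N14803 F151871) (tt N18652 (iv F160218)) (tt N16800 F151872) (tt N14838 F151873) (tt N18654 (iv F160226)) (tt N14813 F151874) (tt N14800 (iv D32727)))
theorem Q16802 : ∀ i, i < 16802 → P i := stepQ 16801 Q16801 (allL N16801 (tt N17749 (iv F156549)) (tt N18394 (iv F159284)) (tt N14885 F151875) (tt N18653 (iv F160221)) (tt N18314 (iv F158984)) (tt N18655 D34582) (tt N14802 F151876) (tt N14839 F151877) (tt N14801 (iv D32728)) (tt N18656 D34583))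
theorem Q16803 : ∀ i, i < 16803 → P i := stepQ 16802 Q16802 (allL N16802 (tt N17750 (iv F156553)) (tt N17254 (iv F153922)) (tt N14886 F151878) (tt N18654 (iv F160224)) (tt N18315 (iv F158989)) (tt N16802 F151879) (tt N18656 (iv F160232)) (tt N14803 F151880) (tt N14815 F151881) (tt N14802 (iv D32729)))
theorem Q16804 : ∀ i, i < 16804 → P i := stepQ 16803 Q16803 (allL N16803 (tt N18044 (iv F157992)) (tt N14806 F151882) (tt N17124 (iv F153151)) (tt N18657 D34584) (tt N14804 (iv D32730)) (tt N18624 (iv F160145)) (tt N14841 F151883) (tt N18658 D34585) (tt N17121 (iv F153134)) (tt N18641 (iv F160184)))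
theorem Q16805 : ∀ i, i < 16805 → P i := stepQ 16804 Q16804 (allL N16804 (tt N18040 (iv F157974)) (tt N14807 F151884) (tt N17126 (iv F153163)) (tt N14888 F151885) (tt N18658 (iv F160239)) (tt N14805 F151886) (tt N18659 D34586) (tt N14804 (iv D32731)) (tt N17122 (iv F153141)) (tt N18642 (iv F160188)))
theorem Q16806 : ∀ i, i < 16806 → P i := stepQ 16805 Q16805 (allL N16805 (tt N17756 (iv F156582)) (tt N18657 (iv F160235)) (tt N18374 (iv F159215)) (tt N14806 (iv D32732)) (tt N14889 F151887) (tt N18626 (iv F160150)) (tt N14843 F151888) (tt N18660 D34587) (tt N18661 D34588) (tt N18643 (iv F160191)))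
theorem Q16807 : ∀ i, i < 16807 → P i := stepQ 16806 Q16806 (allL N16806 (tt N17757 (iv F156585)) (tt N18658 (iv F160238)) (tt N14809 F151889) (tt N18660 (iv F160244)) (tt N14807 F151890) (tt N18627 (iv F160153)) (tt N18662 D34589) (tt N14806 (iv D32733)) (tt N18663 D34590) (tt N18644 (iv F160194)))
theorem Q16808 : ∀ i, i < 16808 → P i := stepQ 16807 Q16807 (allL N16807 (tt N17758 (iv F156588)) (tt N17121 (iv F153130)) (tt N14810 F151891) (tt N18661 (iv F160246)) (tt N14808 F151892) (tt N17417 (iv F154890)) (tt N14845 F151893) (tt N18663 (iv F160254)) (tt N14806 (iv D32734)) (tt N18664 D34591))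
theorem Q16809 : ∀ i, i < 16809 → P i := stepQ 16808 Q16808 (allL N16808 (tt N17759 (iv F156592)) (tt N18659 (iv F160240)) (tt N14811 F151894) (tt N14892 F151895) (tt N18662 (iv F160250)) (tt N18593 F160048) (tt N14807 (iv D32735)) (tt N14846 F151896) (tt N18665 D34592) (tt N18646 (iv F160201)))
theorem Q16810 : ∀ i, i < 16810 → P i := stepQ 16809 Q16809 (allL N16809 (tt N17760 (iv F156596)) (tt N17122 (iv F153137)) (tt N14812 F151897) (tt N14893 F151898) (tt N18663 (iv F160253)) (tt N15013 F151899) (tt N18665 (iv F160261)) (tt N14808 F151900) (tt N14807 (iv D32736)) (tt N18666 D34593))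
theorem Q16811 : ∀ i, i < 16811 → P i := stepQ 16810 Q16810 (allL N16810 (tt N17761 (iv F156601)) (tt N14817 F151901) (tt N14813 F151902) (tt N14894 F151903) (tt N18664 (iv F160257)) (tt N14816 F151904) (tt N14848 F151905) (tt N18666 (iv F160267)) (tt N18648 (iv F160211)) (tt N14808 (iv D32737)))
theorem Q16812 : ∀ i, i < 16812 → P i := stepQ 16811 Q16811 (allL N16811 (tt N17762 (iv F156606)) (tt N18591 (iv F160036)) (tt N18662 (iv F160249)) (tt N18380 (iv F159236)) (tt N14811 F151906) (tt N18667 D34594) (tt N14809 (iv D32738)) (tt N14849 F151907) (tt N18668 D34595) (tt N18649 (iv F160214)))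
theorem Q16813 : ∀ i, i < 16813 → P i := stepQ 16812 Q16812 (allL N16812 (tt N17763 (iv F156609)) (tt N18592 (iv F160039)) (tt N18663 (iv F160252)) (tt N18381 (iv F159239)) (tt N14812 F151908) (tt N18669 D34596) (tt N18668 (iv F160270)) (tt N14810 F151909) (tt N14809 (iv D32739)) (tt N18670 D34597))
theorem Q16814 : ∀ i, i < 16814 → P i := stepQ 16813 Q16813 (allL N16813 (tt N17764 (iv F156612)) (tt N17312 (iv F154309)) (tt N17417 (iv F154889)) (tt N18382 (iv F159242)) (tt N15015 F151910) (tt N14810 (iv D32740)) (tt N18671 D34598) (tt N18669 (iv F160273)) (tt N18634 (iv F160169)) (tt N18672 D34599))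
theorem Q16815 : ∀ i, i < 16815 → P i := stepQ 16814 Q16814 (allL N16814 (tt N17765 (iv F156614)) (tt N17201 (iv F153636)) (tt N18664 (iv F160256)) (tt N18383 (iv F159244)) (tt N14813 F151911) (tt N18672 (iv F160279)) (tt N14852 F151912) (tt N18670 (iv F160275)) (tt N18652 (iv F160220)) (tt N14810 (iv D32741)))
theorem Q16816 : ∀ i, i < 16816 → P i := stepQ 16815 Q16815 (allL N16815 (tt N17766 (iv F156617)) (tt N18593 (iv F160043)) (tt N18665 (iv F160259)) (tt N14814 F151913) (tt N18668 (iv F160269)) (tt N18659 (iv F160242)) (tt N14812 F151914) (tt N14853 F151915) (tt N14811 (iv D32742)) (tt N18673 D34600))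
theorem Q16817 : ∀ i, i < 16817 → P i := stepQ 16816 Q16816 (allL N16816 (tt N17767 (iv F156621)) (tt N17202 (iv F153641)) (tt N18666 (iv F160264)) (tt N14815 F151916) (tt N18670 (iv F160274)) (tt N15017 F151917) (tt N18673 (iv F160281)) (tt N14813 F151918) (tt N18654 (iv F160227)) (tt N14812 (iv D32743)))
theorem Q16818 : ∀ i, i < 16818 → P i := stepQ 16817 Q16817 (allL N16817 (tt N17768 (iv F156625)) (tt N14892 F151919) (tt N14901 F151920) (tt N18659 (iv F160241)) (tt N18674 D34601) (tt N14814 (iv D32744)) (tt N14888 F151921) (tt N14855 F151922) (tt N17141 (iv F153267)) (tt N18675 D34602))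
theorem Q16819 : ∀ i, i < 16819 → P i := stepQ 16818 Q16818 (allL N16818 (tt N17769 (iv F156630)) (tt N17253 (iv F153916)) (tt N14902 F151923) (tt N18673 (iv F160280)) (tt N18387 (iv F159257)) (tt N18675 (iv F160289)) (tt N14815 F151924) (tt N14856 F151925) (tt N18656 (iv F160234)) (tt N14814 (iv D32745)))
theorem Q16820 : ∀ i, i < 16820 → P i := stepQ 16819 Q16819 (allL N16819 (tt N18034 (iv F157948)) (tt N14818 F151926) (tt N15017 F151927) (tt N14903 F151928) (tt N17404 (iv F154832)) (tt N18666 (iv F160266)) (tt N17133 (iv F153211)) (tt N14816 (iv D32746)) (tt N16819 F151929) (tt N15013 F151930))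
theorem Q16821 : ∀ i, i < 16821 → P i := stepQ 16820 Q16820 (allL N16820 (tt N17773 (iv F156648)) (tt N18664 (iv F160255)) (tt N14819 F151931) (tt N18334 (iv F159070)) (tt N14817 (iv D32747)) (tt N17405 (iv F154837)) (tt N17167 (iv F153440)) (tt N18676 D34603) (tt N18332 F159066) (tt N17121 (iv F153135)))
theorem Q16822 : ∀ i, i < 16822 → P i := stepQ 16821 Q16821 (allL N16821 (tt N17774 (iv F156652)) (tt N18666 (iv F160263)) (tt N14820 F151932) (tt N14905 F151933) (tt N18676 (iv F160293)) (tt N14818 F151934) (tt N18677 D34604) (tt N14817 (iv D32748)) (tt N18678 D34605) (tt N17122 (iv F153142)))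
theorem Q16823 : ∀ i, i < 16823 → P i := stepQ 16822 Q16822 (allL N16822 (tt N17775 (iv F156657)) (tt N18648 (iv F160206)) (tt N14821 F151935) (tt N14906 F151936) (tt N18332 (iv F159065)) (tt N16822 F151937) (tt N17169 (iv F153451)) (tt N18678 (iv F160299)) (tt N14817 (iv D32749)) (tt N18489 (iv F159591)))
theorem Q16824 : ∀ i, i < 16824 → P i := stepQ 16823 Q16823 (allL N16823 (tt N17776 (iv F156661)) (tt N17204 (iv F153654)) (tt N18676 (iv F160292)) (tt N14825 F151938) (tt N14820 F151939) (tt N17408 (iv F154851)) (tt N18679 D34606) (tt N14819 (iv D32750)) (tt N18611 (iv F160108)) (tt N17123 (iv F153148)))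
theorem Q16825 : ∀ i, i < 16825 → P i := stepQ 16824 Q16824 (allL N16824 (tt N17778 (iv F156669)) (tt N17206 (iv F153664)) (tt N18677 (iv F160294)) (tt N14822 F151940) (tt N18679 (iv F160301)) (tt N18392 (iv F159277)) (tt N14820 (iv D32751)) (tt N17172 (iv F153465)) (tt N18680 D34607) (tt N17125 (iv F153160)))
theorem Q16826 : ∀ i, i < 16826 → P i := stepQ 16825 Q16825 (allL N16825 (tt N17779 (iv F156672)) (tt N17207 (iv F153670)) (tt N18678 (iv F160296)) (tt N14823 F151941) (tt N18611 (iv F160107)) (tt N16825 F151942) (tt N18680 (iv F160303)) (tt N14821 F151943) (tt N14820 (iv D32752)) (tt N18681 D34608))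
theorem Q16827 : ∀ i, i < 16827 → P i := stepQ 16826 Q16826 (allL N16826 (tt N17780 (iv F156676)) (tt N17208 (iv F153675)) (tt N18489 (iv F159587)) (tt N14824 F151944) (tt N18603 (iv F160084)) (tt N16826 F151945) (tt N17174 (iv F153475)) (tt N18681 (iv F160306)) (tt N17127 (iv F153173)) (tt N14821 (iv D32753)))
theorem Q16828 : ∀ i, i < 16828 → P i := stepQ 16827 Q16827 (allL N16827 (tt N17781 (iv F156680)) (tt N17209 (iv F153682)) (tt N14910 F151946) (tt N18680 (iv F160302)) (tt N14827 F151947) (tt N18682 D34609) (tt N14823 F151948) (tt N17175 (iv F153481)) (tt N14822 (iv D32754)) (tt N18683 D34610))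
theorem Q16829 : ∀ i, i < 16829 → P i := stepQ 16828 Q16828 (allL N16828 (tt N17782 (iv F156684)) (tt N17210 (iv F153688)) (tt N14911 F151949) (tt N18681 (iv F160304)) (tt N14828 F151950) (tt N16828 F151951) (tt N18683 (iv F160311)) (tt N14824 F151952) (tt N17129 (iv F153187)) (tt N14823 (iv D32755)))
theorem Q16830 : ∀ i, i < 16830 → P i := stepQ 16829 Q16829 (allL N16829 (tt N17786 (iv F156707)) (tt N18597 (iv F160061)) (tt N18614 (iv F160114)) (tt N18679 (iv F160300)) (tt N14826 F151953) (tt N18684 D34611) (tt N14825 (iv D32756)) (tt N18640 (iv F160181)) (tt N18612 (iv F160111)) (tt N17216 (iv F153725)))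
theorem Q16831 : ∀ i, i < 16831 → P i := stepQ 16830 Q16830 (allL N16830 (tt N17792 (iv F156732)) (tt N14934 F151954) (tt N14913 F151955) (tt N18596 (iv F160058)) (tt N18685 D34612) (tt N14827 (iv D32757)) (tt N14857 F151956) (tt N17141 (iv F153266)) (tt N14855 F151957) (tt N18686 D34613))
theorem Q16832 : ∀ i, i < 16832 → P i := stepQ 16831 Q16831 (allL N16831 (tt N17793 (iv F156737)) (tt N18602 (iv F160080)) (tt N14914 F151958) (tt N18605 (iv F160090)) (tt N18683 (iv F160310)) (tt N18686 (iv F160319)) (tt N14828 F151959) (tt N18520 (iv F159744)) (tt N17223 (iv F153752)) (tt N14827 (iv D32758)))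
theorem Q16833 : ∀ i, i < 16833 → P i := stepQ 16832 Q16832 (allL N16832 (tt N17698 (iv F156313)) (tt N14831 F151960) (tt N18599 (iv F160068)) (tt N18399 (iv F159303)) (tt N14829 (iv D32759)) (tt N17623 F155957) (tt N18641 (iv F160183)) (tt N18687 D34614) (tt N18397 F159298) (tt N14841 F151961))
theorem Q16834 : ∀ i, i < 16834 → P i := stepQ 16833 Q16833 (allL N16833 (tt N17715 (iv F156399)) (tt N14832 F151962) (tt N18601 (iv F160076)) (tt N14865 F151963) (tt N18687 (iv F160323)) (tt N14830 F151964) (tt N18688 D34615) (tt N14829 (iv D32760)) (tt N18531 (iv F159803)) (tt N14842 F151965))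
theorem Q16835 : ∀ i, i < 16835 → P i := stepQ 16834 Q16834 (allL N16834 (tt N17794 (iv F156741)) (tt N18399 (iv F159301)) (tt N18415 (iv F159351)) (tt N14831 (iv D32761)) (tt N14915 F151966) (tt N17783 (iv F156692)) (tt N18643 (iv F160190)) (tt N18689 D34616) (tt N18395 (iv F159291)) (tt N14843 F151967))
theorem Q16836 : ∀ i, i < 16836 → P i := stepQ 16835 Q16835 (allL N16835 (tt N17795 (iv F156746)) (tt N18687 (iv F160322)) (tt N14834 F151968) (tt N18689 (iv F160329)) (tt N14832 F151969) (tt N17784 (iv F156698)) (tt N18690 D34617) (tt N14831 (iv D32762)) (tt N18691 D34618) (tt N14844 F151970))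
theorem Q16837 : ∀ i, i < 16837 → P i := stepQ 16836 Q16836 (allL N16836 (tt N17796 (iv F156752)) (tt N18397 (iv F159296)) (tt N14835 F151971) (tt N18395 (iv F159290)) (tt N14833 F151972) (tt N18115 (iv F158270)) (tt N18645 (iv F160197)) (tt N18691 (iv F160337)) (tt N14831 (iv D32763)) (tt N18692 D34619))
theorem Q16838 : ∀ i, i < 16838 → P i := stepQ 16837 Q16837 (allL N16837 (tt N17797 (iv F156757)) (tt N18688 (iv F160325)) (tt N14836 F151973) (tt N14917 F151974) (tt N18690 (iv F160333)) (tt N17214 (iv F153714)) (tt N14832 (iv D32764)) (tt N18646 (iv F160200)) (tt N18693 D34620) (tt N14846 F151975))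
theorem Q16839 : ∀ i, i < 16839 → P i := stepQ 16838 Q16838 (allL N16838 (tt N17798 (iv F156763)) (tt N18531 (iv F159800)) (tt N14837 F151976) (tt N14918 F151977) (tt N18691 (iv F160336)) (tt N14972 F151978) (tt N18693 (iv F160343)) (tt N14833 F151979) (tt N14832 (iv D32765)) (tt N18694 D34621))
theorem Q16840 : ∀ i, i < 16840 → P i := stepQ 16839 Q16839 (allL N16839 (tt N17799 (iv F156769)) (tt N17169 (iv F153447)) (tt N14838 F151980) (tt N14919 F151981) (tt N18692 (iv F160339)) (tt N14973 F151982) (tt N18648 (iv F160210)) (tt N18694 (iv F160347)) (tt N14848 F151983) (tt N14833 (iv D32766)))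
theorem Q16841 : ∀ i, i < 16841 → P i := stepQ 16840 Q16840 (allL N16840 (tt N17800 (iv F156775)) (tt N18606 (iv F160092)) (tt N18690 (iv F160332)) (tt N18421 (iv F159372)) (tt N14836 F151984) (tt N18695 D34622) (tt N14834 (iv D32767)) (tt N18649 (iv F160213)) (tt N18696 D34623) (tt N14849 F151985))
theorem Q16842 : ∀ i, i < 16842 → P i := stepQ 16841 Q16841 (allL N16841 (tt N17801 (iv F156778)) (tt N18607 (iv F160095)) (tt N18691 (iv F160335)) (tt N18422 (iv F159375)) (tt N14837 F151986) (tt N18697 D34624) (tt N18696 (iv F160351)) (tt N14835 F151987) (tt N14834 (iv D32768)) (tt N18698 D34625))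
theorem Q16843 : ∀ i, i < 16843 → P i := stepQ 16842 Q16842 (allL N16842 (tt N17802 (iv F156781)) (tt N18608 (iv F160098)) (tt N18115 (iv F158268)) (tt N18423 (iv F159378)) (tt N14976 F151988) (tt N14835 (iv D32769)) (tt N18699 D34626) (tt N18697 (iv F160353)) (tt N17788 (iv F156717)) (tt N18700 D34627))
theorem Q16844 : ∀ i, i < 16844 → P i := stepQ 16843 Q16843 (allL N16843 (tt N17803 (iv F156785)) (tt N17213 (iv F153706)) (tt N18692 (iv F160338)) (tt N18424 (iv F159380)) (tt N14838 F151989) (tt N18700 (iv F160359)) (tt N18652 (iv F160219)) (tt N18698 (iv F160355)) (tt N14852 F151990) (tt N14835 (iv D32770)))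
theorem Q16845 : ∀ i, i < 16845 → P i := stepQ 16844 Q16844 (allL N16844 (tt N17804 (iv F156788)) (tt N18609 (iv F160100)) (tt N18693 (iv F160341)) (tt N14839 F151991) (tt N18696 (iv F160350)) (tt N18701 D34628) (tt N14837 F151992) (tt N18653 (iv F160223)) (tt N14836 (iv D32771)) (tt N18702 D34629))
theorem Q16846 : ∀ i, i < 16846 → P i := stepQ 16845 Q16845 (allL N16845 (tt N17805 (iv F156791)) (tt N17215 (iv F153717)) (tt N18694 (iv F160344)) (tt N14840 F151993) (tt N18698 (iv F160354)) (tt N14979 F151994) (tt N18702 (iv F160363)) (tt N14838 F151995) (tt N14854 F151996) (tt N14837 (iv D32772)))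
theorem Q16847 : ∀ i, i < 16847 → P i := stepQ 16846 Q16846 (allL N16846 (tt N17806 (iv F156796)) (tt N18610 (iv F160103)) (tt N14925 F151997) (tt N18701 (iv F160360)) (tt N18703 D34630) (tt N14839 (iv D32773)) (tt N14980 F151998) (tt N18655 (iv F160230)) (tt N17222 (iv F153748)) (tt N18704 D34631))
theorem Q16848 : ∀ i, i < 16848 → P i := stepQ 16847 Q16847 (allL N16847 (tt N17807 (iv F156800)) (tt N17263 (iv F153980)) (tt N14926 F151999) (tt N18702 (iv F160362)) (tt N18428 (iv F159392)) (tt N18704 (iv F160368)) (tt N14840 F152000) (tt N18656 (iv F160233)) (tt N14856 F152001) (tt N14839 (iv D32774)))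
theorem Q16849 : ∀ i, i < 16849 → P i := stepQ 16848 Q16848 (allL N16848 (tt N18051 (iv F158026)) (tt N14843 F152002) (tt N18405 (iv F159319)) (tt N14841 (iv D32775)) (tt N14927 F152003) (tt N18186 (iv F158518)) (tt N18657 (iv F160237)) (tt N18705 D34632) (tt N18594 (iv F160051)) (tt N18399 F159305))
theorem Q16850 : ∀ i, i < 16850 → P i := stepQ 16849 Q16849 (allL N16849 (tt N17847 (iv F156951)) (tt N14844 F152004) (tt N18598 (iv F160064)) (tt N18705 (iv F160371)) (tt N14842 F152005) (tt N18187 (iv F158521)) (tt N18706 D34633) (tt N14841 (iv D32776)) (tt N18595 (iv F160055)) (tt N18687 (iv F160324)))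
theorem Q16851 : ∀ i, i < 16851 → P i := stepQ 16850 Q16850 (allL N16850 (tt N17829 (iv F156874)) (tt N14846 F152006) (tt N18600 (iv F160071)) (tt N14855 F152007) (tt N18706 (iv F160374)) (tt N14853 F152008) (tt N14842 (iv D32777)) (tt N18659 (iv F160243)) (tt N18596 (iv F160060)) (tt N18688 (iv F160328)))
theorem Q16852 : ∀ i, i < 16852 → P i := stepQ 16851 Q16851 (allL N16851 (tt N17816 (iv F156834)) (tt N18705 (iv F160370)) (tt N18438 (iv F159420)) (tt N14844 F152009) (tt N14929 F152010) (tt N18191 (iv F158533)) (tt N18707 D34634) (tt N14843 (iv D32778)) (tt N18708 D34635) (tt N18689 (iv F160331)))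
theorem Q16853 : ∀ i, i < 16853 → P i := stepQ 16852 Q16852 (allL N16852 (tt N17817 (iv F156837)) (tt N18594 (iv F160049)) (tt N18439 (iv F159423)) (tt N14845 F152011) (tt N14930 F152012) (tt N18709 D34636) (tt N18661 (iv F160248)) (tt N18708 (iv F160379)) (tt N14843 (iv D32779)) (tt N18710 D34637))
theorem Q16854 : ∀ i, i < 16854 → P i := stepQ 16853 Q16853 (allL N16853 (tt N17818 (iv F156840)) (tt N18706 (iv F160373)) (tt N14849 F152013) (tt N18707 (iv F160375)) (tt N14846 F152014) (tt N18711 D34638) (tt N14844 (iv D32780)) (tt N18662 (iv F160251)) (tt N18712 D34639) (tt N18690 (iv F160334)))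
theorem Q16855 : ∀ i, i < 16855 → P i := stepQ 16854 Q16854 (allL N16854 (tt N17819 (iv F156843)) (tt N18595 (iv F160052)) (tt N14850 F152015) (tt N18708 (iv F160377)) (tt N14847 F152016) (tt N18713 D34640) (tt N18712 (iv F160387)) (tt N14845 F152017) (tt N14844 (iv D32781)) (tt N18714 D34641))
theorem Q16856 : ∀ i, i < 16856 → P i := stepQ 16855 Q16855 (allL N16855 (tt N17820 (iv F156847)) (tt N17675 (iv F156228)) (tt N14851 F152018) (tt N18709 (iv F160380)) (tt N14860 F152019) (tt N14845 (iv D32782)) (tt N18715 D34642) (tt N18713 (iv F160390)) (tt N18195 (iv F158543)) (tt N17687 (iv F156283)))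
theorem Q16857 : ∀ i, i < 16857 → P i := stepQ 16856 Q16856 (allL N16856 (tt N17821 (iv F156850)) (tt N17167 (iv F153437)) (tt N14852 F152020) (tt N18710 (iv F160382)) (tt N14848 F152021) (tt N17687 (iv F156282)) (tt N18664 (iv F160258)) (tt N18714 (iv F160393)) (tt N18692 (iv F160340)) (tt N14845 (iv D32783)))
theorem Q16858 : ∀ i, i < 16858 → P i := stepQ 16857 Q16857 (allL N16857 (tt N17822 (iv F156853)) (tt N18596 (iv F160056)) (tt N14853 F152022) (tt N14934 F152023) (tt N18712 (iv F160386)) (tt N18600 (iv F160073)) (tt N14847 F152024) (tt N18665 (iv F160262)) (tt N14846 (iv D32784)) (tt N18716 D34643))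
theorem Q16859 : ∀ i, i < 16859 → P i := stepQ 16858 Q16858 (allL N16858 (tt N17823 (iv F156857)) (tt N17168 (iv F153442)) (tt N14854 F152025) (tt N14935 F152026) (tt N18714 (iv F160392)) (tt N14861 F152027) (tt N18716 (iv F160398)) (tt N14848 F152028) (tt N18694 (iv F160348)) (tt N14847 (iv D32785)))
theorem Q16860 : ∀ i, i < 16860 → P i := stepQ 16859 Q16859 (allL N16859 (tt N17824 (iv F156862)) (tt N18613 (iv F160112)) (tt N18711 (iv F160384)) (tt N18446 (iv F159442)) (tt N18684 (iv F160312)) (tt N14849 (iv D32786)) (tt N18199 (iv F158557)) (tt N18667 (iv F160268)) (tt N18717 D34644) (tt N18695 (iv F160349)))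
theorem Q16861 : ∀ i, i < 16861 → P i := stepQ 16860 Q16860 (allL N16860 (tt N17825 (iv F156863)) (tt N18614 (iv F160113)) (tt N18712 (iv F160385)) (tt N18447 (iv F159443)) (tt N14853 F152029) (tt N18718 D34645) (tt N14850 F152030) (tt N18668 (iv F160271)) (tt N14849 (iv D32787)) (tt N18719 D34646))
theorem Q16862 : ∀ i, i < 16862 → P i := stepQ 16861 Q16861 (allL N16861 (tt N17826 (iv F156866)) (tt N17795 (iv F156747)) (tt N18713 (iv F160388)) (tt N18448 (iv F159446)) (tt N14862 F152031) (tt N14850 (iv D32788)) (tt N18720 D34647) (tt N14851 F152032) (tt N18201 (iv F158562)) (tt N17811 (iv F156820)))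
theorem Q16863 : ∀ i, i < 16863 → P i := stepQ 16862 Q16862 (allL N16862 (tt N17827 (iv F156869)) (tt N17212 (iv F153700)) (tt N18714 (iv F160391)) (tt N18449 (iv F159449)) (tt N14854 F152033) (tt N17811 (iv F156819)) (tt N18719 (iv F160400)) (tt N14852 F152034) (tt N18698 (iv F160356)) (tt N14850 (iv D32789)))
theorem Q16864 : ∀ i, i < 16864 → P i := stepQ 16863 Q16863 (allL N16863 (tt N17828 (iv F156872)) (tt N17741 (iv F156513)) (tt N18715 (iv F160394)) (tt N18450 (iv F159452)) (tt N14863 F152035) (tt N18671 (iv F160277)) (tt N14851 (iv D32790)) (tt N18721 D34648) (tt N18203 (iv F158566)) (tt N17753 (iv F156572)))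
theorem Q16865 : ∀ i, i < 16865 → P i := stepQ 16864 Q16864 (allL N16864 (tt N17830 (iv F156877)) (tt N17214 (iv F153711)) (tt N18716 (iv F160396)) (tt N14856 F152036) (tt N18719 (iv F160399)) (tt N18688 (iv F160327)) (tt N14854 F152037) (tt N18673 (iv F160282)) (tt N18702 (iv F160364)) (tt N14853 (iv D32791)))
theorem Q16866 : ∀ i, i < 16866 → P i := stepQ 16865 Q16865 (allL N16865 (tt N17831 (iv F156880)) (tt N14931 F152038) (tt N14941 F152039) (tt N18722 D34649) (tt N14855 (iv D32792)) (tt N18453 (iv F159460)) (tt N14864 F152040) (tt N18674 (iv F160286)) (tt N18685 (iv F160316)) (tt N18533 F159812))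
theorem Q16867 : ∀ i, i < 16867 → P i := stepQ 16866 Q16866 (allL N16866 (tt N17718 (iv F156415)) (tt N14917 F152041) (tt N14942 F152042) (tt N18688 (iv F160326)) (tt N18533 (iv F159810)) (tt N14856 F152043) (tt N14865 F152044) (tt N18675 (iv F160291)) (tt N18532 (iv F159807)) (tt N14855 (iv D32793)))
theorem Q16868 : ∀ i, i < 16868 → P i := stepQ 16867 Q16867 (allL N16867 (tt N17835 (iv F156901)) (tt N14932 F152045) (tt N14943 F152046) (tt N18723 D34650) (tt N14857 (iv D32794)) (tt N16867 F152047) (tt N18685 (iv F160315)) (tt N14928 F152048) (tt N14864 F152049) (tt N18526 (iv F159777)))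
theorem Q16869 : ∀ i, i < 16869 → P i := stepQ 16868 Q16868 (allL N16868 (tt N17836 (iv F156906)) (tt N14935 F152050) (tt N14870 F152051) (tt N17168 (iv F153444)) (tt N18526 (iv F159774)) (tt N14858 F152052) (tt N18686 (iv F160320)) (tt N14869 F152053) (tt N18524 (iv F159766)) (tt N14857 (iv D32795)))
theorem Q16870 : ∀ i, i < 16870 → P i := stepQ 16869 Q16869 (allL N16869 (tt N17841 (iv F156928)) (tt N17676 (iv F156232)) (tt N14862 F152054) (tt N16869 F152055) (tt N18713 (iv F160389)) (tt N14859 (iv D32796)) (tt N18724 D34651) (tt N14860 F152056) (tt N18211 (iv F158590)) (tt N17688 (iv F156288)))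
theorem Q16871 : ∀ i, i < 16871 → P i := stepQ 16870 Q16870 (allL N16870 (tt N17842 (iv F156932)) (tt N17336 (iv F154441)) (tt N14863 F152057) (tt N16870 F152058) (tt N18715 (iv F160395)) (tt N15019 F152059) (tt N14860 (iv D32797)) (tt N18725 D34652) (tt N18213 (iv F158600)) (tt N17644 (iv F156090)))
theorem Q16872 : ∀ i, i < 16872 → P i := stepQ 16871 Q16871 (allL N16871 (tt N17845 (iv F156946)) (tt N17797 (iv F156758)) (tt N18724 (iv F160409)) (tt N14866 F152060) (tt N18720 (iv F160401)) (tt N18189 (iv F158526)) (tt N14862 (iv D32798)) (tt N18726 D34653) (tt N18219 (iv F158622)) (tt N17813 (iv F156825)))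
theorem Q16873 : ∀ i, i < 16873 → P i := stepQ 16872 Q16872 (allL N16872 (tt N17846 (iv F156948)) (tt N17742 (iv F156518)) (tt N18725 (iv F160411)) (tt N14867 F152061) (tt N18721 (iv F160402)) (tt N15020 F152062) (tt N18726 (iv F160415)) (tt N14863 (iv D32799)) (tt N18221 (iv F158628)) (tt N17754 (iv F156576)))
theorem Q16874 : ∀ i, i < 16874 → P i := stepQ 16873 Q16873 (allL N16873 (tt N17848 (iv F156953)) (tt N14929 F152063) (tt N18407 (iv F159323)) (tt N14864 (iv D32800)) (tt N18705 (iv F160372)) (tt N14868 F152064) (tt N18722 (iv F160404)) (tt N14927 F152065) (tt N18723 (iv F160408)) (tt N18401 F159314))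
theorem Q16875 : ∀ i, i < 16875 → P i := stepQ 16874 Q16874 (allL N16874 (tt N17849 (iv F156956)) (tt N17857 (iv F157001)) (tt N16874 F152066) (tt N18726 (iv F160414)) (tt N18486 (iv F159572)) (tt N18243 (iv F158700)) (tt N14867 F152067) (tt N14866 (iv D32801)) (tt N18232 (iv F158659)) (tt N17869 (iv F157070)))
theorem Q16876 : ∀ i, i < 16876 → P i := stepQ 16875 Q16875 (allL N16875 (tt N17851 (iv F156965)) (tt N15197 F152068) (tt N18686 (iv F160318)) (tt N14871 F152069) (tt N18528 (iv F159786)) (tt N14914 F152070) (tt N14870 (iv D32802)) (tt N14908 F152071) (tt N18527 (iv F159782)) (tt N14913 F152072))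
theorem Q16877 : ∀ i, i < 16877 → P i := stepQ 16876 Q16876 (allL N16876 (tt N17852 (iv F156971)) (tt N15194 F152073) (tt N17175 (iv F153478)) (tt N18527 (iv F159779)) (tt N14874 F152074) (tt N18727 D34654) (tt N14872 F152075) (tt N14910 F152076) (tt N14871 (iv D32803)) (tt N18521 (iv F159751)))
theorem Q16878 : ∀ i, i < 16878 → P i := stepQ 16877 Q16877 (allL N16877 (tt N17719 (iv F156420)) (tt N14878 F152077) (tt N15022 F152078) (tt N18642 (iv F160186)) (tt N18492 (iv F159604)) (tt N14876 F152079) (tt N18675 (iv F160290)) (tt N14875 (iv D32804)) (tt N18490 (iv F159596)) (tt N14888 F152080))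
theorem Q16879 : ∀ i, i < 16879 → P i := stepQ 16878 Q16878 (allL N16878 (tt N17854 (iv F156982)) (tt N18321 (iv F159017)) (tt N18414 (iv F159346)) (tt N14877 (iv D32805)) (tt N18643 (iv F160189)) (tt N16878 F152081) (tt N14915 F152082) (tt N18728 D34655) (tt N18317 F159003) (tt N14889 F152083))
theorem Q16880 : ∀ i, i < 16880 → P i := stepQ 16879 Q16879 (allL N16879 (tt N17855 (iv F156987)) (tt N18492 (iv F159602)) (tt N14880 F152084) (tt N18728 (iv F160420)) (tt N14878 F152085) (tt N16879 F152086) (tt N18729 D34656) (tt N14877 (iv D32806)) (tt N18488 (iv F159584)) (tt N14890 F152087))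
theorem Q16881 : ∀ i, i < 16881 → P i := stepQ 16880 Q16880 (allL N16880 (tt N17857 (iv F157000)) (tt N18675 (iv F160287)) (tt N14882 F152088) (tt N18646 (iv F160199)) (tt N18729 (iv F160424)) (tt N17253 (iv F153918)) (tt N14878 (iv D32807)) (tt N14917 F152089) (tt N18730 D34657) (tt N14892 F152090))
theorem Q16882 : ∀ i, i < 16882 → P i := stepQ 16881 Q16881 (allL N16881 (tt N17858 (iv F157006)) (tt N18490 (iv F159592)) (tt N14883 F152091) (tt N18647 (iv F160203)) (tt N18488 (iv F159582)) (tt N16881 F152092) (tt N18730 (iv F160428)) (tt N14879 F152093) (tt N14878 (iv D32808)) (tt N18731 D34658))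
theorem Q16883 : ∀ i, i < 16883 → P i := stepQ 16882 Q16882 (allL N16882 (tt N17859 (iv F157011)) (tt N14906 F152094) (tt N14884 F152095) (tt N18648 (iv F160208)) (tt N15045 F152096) (tt N16882 F152097) (tt N14919 F152098) (tt N18731 (iv F160434)) (tt N14894 F152099) (tt N14879 (iv D32809)))
theorem Q16884 : ∀ i, i < 16884 → P i := stepQ 16883 Q16883 (allL N16883 (tt N17860 (iv F157018)) (tt N15206 F152100) (tt N18729 (iv F160423)) (tt N18501 (iv F159653)) (tt N14882 F152101) (tt N18732 D34659) (tt N14880 (iv D32810)) (tt N14920 F152102) (tt N18733 D34660) (tt N14895 F152103))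
theorem Q16885 : ∀ i, i < 16885 → P i := stepQ 16884 Q16884 (allL N16884 (tt N17861 (iv F157023)) (tt N15079 F152104) (tt N18488 (iv F159581)) (tt N15142 F152105) (tt N14883 F152106) (tt N15078 (iv F152108)) (tt N18733 (iv F160443)) (tt N14881 F152107) (tt N14880 (iv D32811)) (tt N15087 (iv F152109)))
theorem Q16886 : ∀ i, i < 16886 → P i := stepQ 16885 Q16885 (allL N16885 (tt N17862 (iv F157030)) (tt N15207 F152110) (tt N18730 (iv F160427)) (tt N14885 F152111) (tt N18733 (iv F160442)) (tt N18734 D34661) (tt N14883 F152112) (tt N14923 F152113) (tt N14882 (iv D32812)) (tt N18735 D34662))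
theorem Q16887 : ∀ i, i < 16887 → P i := stepQ 16886 Q16886 (allL N16886 (tt N17863 (iv F157035)) (tt N15088 F152114) (tt N18731 (iv F160431)) (tt N14886 F152115) (tt N15087 F152116) (tt N16886 F152117) (tt N18735 (iv F160454)) (tt N14884 F152118) (tt N14900 F152119) (tt N14883 (iv D32813)))
theorem Q16888 : ∀ i, i < 16888 → P i := stepQ 16887 Q16887 (allL N16887 (tt N17864 (iv F157042)) (tt N15208 F152120) (tt N18655 (iv F160228)) (tt N18734 (iv F160448)) (tt N18736 D34663) (tt N14885 (iv D32814)) (tt N16887 F152121) (tt N14925 F152122) (tt N17257 (iv F153947)) (tt N18737 D34664))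
theorem Q16889 : ∀ i, i < 16889 → P i := stepQ 16888 Q16888 (allL N16888 (tt N17865 (iv F157047)) (tt N15209 F152123) (tt N18656 (iv F160231)) (tt N18735 (iv F160452)) (tt N18504 (iv F159671)) (tt N18737 (iv F160463)) (tt N14886 F152124) (tt N14926 F152125) (tt N14902 F152126) (tt N14885 (iv D32815)))
theorem Q16890 : ∀ i, i < 16890 → P i := stepQ 16889 Q16889 (allL N16889 (tt N18045 (iv F157996)) (tt N14889 F152127) (tt N17260 (iv F153962)) (tt N14887 (iv D32816)) (tt N18657 (iv F160236)) (tt N16889 F152128) (tt N14927 F152129) (tt N18738 D34665) (tt N17139 (iv F153253)) (tt N18321 (iv F159022)))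
theorem Q16891 : ∀ i, i < 16891 → P i := stepQ 16890 Q16890 (allL N16890 (tt N18041 (iv F157979)) (tt N14890 F152130) (tt N15021 F152131) (tt N18738 (iv F160467)) (tt N14888 F152132) (tt N16890 F152133) (tt N18674 (iv F160285)) (tt N14887 (iv D32817)) (tt N17140 (iv F153260)) (tt N18492 (iv F159607)))
theorem Q16892 : ∀ i, i < 16892 → P i := stepQ 16891 Q16891 (allL N16891 (tt N17872 (iv F157082)) (tt N18738 (iv F160466)) (tt N18509 (iv F159693)) (tt N14890 F152134) (tt N18660 (iv F160245)) (tt N16891 F152135) (tt N18739 D34666) (tt N14889 (iv D32818)) (tt N18740 D34667) (tt N18728 (iv F160422)))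
theorem Q16893 : ∀ i, i < 16893 → P i := stepQ 16892 Q16892 (allL N16892 (tt N17873 (iv F157085)) (tt N17139 (iv F153249)) (tt N18437 (iv F159415)) (tt N14891 F152136) (tt N18661 (iv F160247)) (tt N17145 (iv F153295)) (tt N14930 F152137) (tt N18740 (iv F160472)) (tt N14889 (iv D32819)) (tt N18331 (iv F159063)))
theorem Q16894 : ∀ i, i < 16894 → P i := stepQ 16893 Q16893 (allL N16893 (tt N17874 (iv F157088)) (tt N18674 (iv F160283)) (tt N14895 F152138) (tt N18739 (iv F160469)) (tt N14892 F152139) (tt N18741 D34668) (tt N14890 (iv D32820)) (tt N14931 F152140) (tt N18742 D34669) (tt N18729 (iv F160426)))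
theorem Q16895 : ∀ i, i < 16895 → P i := stepQ 16894 Q16894 (allL N16894 (tt N17875 (iv F157092)) (tt N17140 (iv F153256)) (tt N14896 F152141) (tt N18740 (iv F160471)) (tt N14893 F152142) (tt N17138 (iv F153243)) (tt N18742 (iv F160478)) (tt N14891 F152143) (tt N14890 (iv D32821)) (tt N18743 D34670))
theorem Q16896 : ∀ i, i < 16896 → P i := stepQ 16895 Q16895 (allL N16895 (tt N17876 (iv F157097)) (tt N14904 F152144) (tt N14898 F152145) (tt N18331 (iv F159060)) (tt N14894 F152146) (tt N14946 F152147) (tt N14933 F152148) (tt N18743 (iv F160484)) (tt N15045 F152149) (tt N14891 (iv D32822)))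
theorem Q16897 : ∀ i, i < 16897 → P i := stepQ 16896 Q16896 (allL N16896 (tt N17877 (iv F157103)) (tt N17141 (iv F153263)) (tt N14899 F152150) (tt N18665 (iv F160260)) (tt N18742 (iv F160477)) (tt N17128 (iv F153178)) (tt N14893 F152151) (tt N14934 F152152) (tt N14892 (iv D32823)) (tt N18744 D34671))
theorem Q16898 : ∀ i, i < 16898 → P i := stepQ 16897 Q16897 (allL N16897 (tt N17878 (iv F157108)) (tt N14905 F152153) (tt N14900 F152154) (tt N18666 (iv F160265)) (tt N18743 (iv F160482)) (tt N14903 F152155) (tt N18744 (iv F160488)) (tt N14894 F152156) (tt N18731 (iv F160435)) (tt N14893 (iv D32824)))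
theorem Q16899 : ∀ i, i < 16899 → P i := stepQ 16898 Q16898 (allL N16898 (tt N17879 (iv F157112)) (tt N15211 F152157) (tt N18741 (iv F160473)) (tt N18514 (iv F159715)) (tt N18529 (iv F159791)) (tt N14895 (iv D32825)) (tt N16898 F152158) (tt N14936 F152159) (tt N18547 (iv F159870)) (tt N18732 (iv F160439)))
theorem Q16900 : ∀ i, i < 16900 → P i := stepQ 16899 Q16899 (allL N16899 (tt N17880 (iv F157116)) (tt N15212 F152160) (tt N18742 (iv F160476)) (tt N18515 (iv F159719)) (tt N14899 F152161) (tt N17267 (iv F154004)) (tt N14896 F152162) (tt N14937 F152163) (tt N14895 (iv D32826)) (tt N18745 D34672))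
theorem Q16901 : ∀ i, i < 16901 → P i := stepQ 16900 Q16900 (allL N16900 (tt N17881 (iv F157122)) (tt N15090 F152164) (tt N18743 (iv F160481)) (tt N15153 F152165) (tt N14900 F152166) (tt N15107 F152167) (tt N18745 (iv F160493)) (tt N14898 F152168) (tt N15087 F152169) (tt N14896 (iv D32827)))
theorem Q16902 : ∀ i, i < 16902 → P i := stepQ 16901 Q16901 (allL N16901 (tt N17882 (iv F157129)) (tt N15213 F152170) (tt N18744 (iv F160487)) (tt N14902 F152171) (tt N18745 (iv F160492)) (tt N17143 (iv F153280)) (tt N14900 F152172) (tt N14940 F152173) (tt N18735 (iv F160456)) (tt N14899 (iv D32828)))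
theorem Q16903 : ∀ i, i < 16903 → P i := stepQ 16902 Q16902 (allL N16902 (tt N17883 (iv F157135)) (tt N15210 F152174) (tt N18674 (iv F160284)) (tt N17265 (iv F153991)) (tt N14901 (iv D32829)) (tt N18518 (iv F159735)) (tt N15021 F152175) (tt N14941 F152176) (tt N17142 (iv F153274)) (tt N18494 (iv F159619)))
theorem Q16904 : ∀ i, i < 16904 → P i := stepQ 16903 Q16903 (allL N16903 (tt N17884 (iv F157141)) (tt N15205 F152177) (tt N18675 (iv F160288)) (tt N17143 (iv F153278)) (tt N18494 (iv F159616)) (tt N14902 F152178) (tt N15022 F152179) (tt N14942 F152180) (tt N18493 (iv F159612)) (tt N14901 (iv D32830)))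
theorem Q16905 : ∀ i, i < 16905 → P i := stepQ 16904 Q16904 (allL N16904 (tt N17889 (iv F157168)) (tt N18743 (iv F160480)) (tt N14907 F152181) (tt N18336 (iv F159075)) (tt N14905 F152182) (tt N14949 F152183) (tt N18746 D34673) (tt N14904 (iv D32831)) (tt N15047 F152184) (tt N17140 (iv F153261)))
theorem Q16906 : ∀ i, i < 16906 → P i := stepQ 16905 Q16905 (allL N16905 (tt N17890 (iv F157174)) (tt N18744 (iv F160486)) (tt N14908 F152185) (tt N18677 (iv F160295)) (tt N18746 (iv F160497)) (tt N18520 (iv F159743)) (tt N14905 (iv D32832)) (tt N18686 (iv F160321)) (tt N18747 D34674) (tt N17141 (iv F153268)))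
theorem Q16907 : ∀ i, i < 16907 → P i := stepQ 16906 Q16906 (allL N16906 (tt N17891 (iv F157177)) (tt N18731 (iv F160430)) (tt N14909 F152186) (tt N18678 (iv F160297)) (tt N15047 F152187) (tt N16906 F152188) (tt N18747 (iv F160501)) (tt N14906 F152189) (tt N14905 (iv D32833)) (tt N18490 (iv F159597)))
theorem Q16908 : ∀ i, i < 16908 → P i := stepQ 16907 Q16907 (allL N16907 (tt N17892 (iv F157182)) (tt N15092 F152190) (tt N18746 (iv F160496)) (tt N14912 F152191) (tt N14908 F152192) (tt N18748 D34675) (tt N14907 (iv D32834)) (tt N18528 (iv F159788)) (tt N15048 F152193) (tt N17142 (iv F153275)))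
theorem Q16909 : ∀ i, i < 16909 → P i := stepQ 16908 Q16908 (allL N16908 (tt N17893 (iv F157188)) (tt N15091 F152194) (tt N18747 (iv F160499)) (tt N14910 F152195) (tt N15048 F152196) (tt N18749 D34676) (tt N14909 F152197) (tt N18527 (iv F159781)) (tt N14908 (iv D32835)) (tt N18493 (iv F159613)))
theorem Q16910 : ∀ i, i < 16910 → P i := stepQ 16909 Q16909 (allL N16909 (tt N17894 (iv F157193)) (tt N15204 F152198) (tt N18682 (iv F160307)) (tt N18749 (iv F160506)) (tt N18750 D34677) (tt N14910 (iv D32836)) (tt N16909 F152199) (tt N18727 (iv F160418)) (tt N18522 (iv F159755)) (tt N18751 D34678))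
theorem Q16911 : ∀ i, i < 16911 → P i := stepQ 16910 Q16910 (allL N16910 (tt N17895 (iv F157196)) (tt N15200 F152200) (tt N18683 (iv F160309)) (tt N18493 (iv F159609)) (tt N14914 F152201) (tt N18751 (iv F160512)) (tt N14911 F152202) (tt N18521 (iv F159749)) (tt N17143 (iv F153283)) (tt N14910 (iv D32837)))
theorem Q16912 : ∀ i, i < 16912 → P i := stepQ 16911 Q16911 (allL N16911 (tt N17898 (iv F157211)) (tt N15094 F152203) (tt N18340 (iv F159089)) (tt N18748 (iv F160503)) (tt N14936 F152204) (tt N14912 (iv D32838)) (tt N14955 F152205) (tt N18529 (iv F159793)) (tt N18503 (iv F159667)) (tt N17264 (iv F153988)))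
theorem Q16913 : ∀ i, i < 16913 → P i := stepQ 16912 Q16912 (allL N16912 (tt N17899 (iv F157216)) (tt N15198 F152206) (tt N18685 (iv F160314)) (tt N17255 (iv F153930)) (tt N14913 (iv D32839)) (tt N18750 (iv F160509)) (tt N14943 F152207) (tt N17142 (iv F153273)) (tt N14941 F152208) (tt N18528 (iv F159789)))
theorem Q16914 : ∀ i, i < 16914 → P i := stepQ 16913 Q16913 (allL N16913 (tt N17900 (iv F157222)) (tt N18401 (iv F159309)) (tt N18540 (iv F159837)) (tt N14916 F152209) (tt N18689 (iv F160330)) (tt N14956 F152210) (tt N18752 D34679) (tt N14915 (iv D32840)) (tt N18396 (iv F159295)) (tt N14929 F152211))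
theorem Q16915 : ∀ i, i < 16915 → P i := stepQ 16914 Q16914 (allL N16914 (tt N17902 (iv F157231)) (tt N18533 (iv F159808)) (tt N14920 F152212) (tt N18752 (iv F160514)) (tt N14917 F152213) (tt N18753 D34680) (tt N14916 (iv D32841)) (tt N18729 (iv F160425)) (tt N18530 (iv F159799)) (tt N14931 F152214))
theorem Q16916 : ∀ i, i < 16916 → P i := stepQ 16915 Q16915 (allL N16915 (tt N17905 (iv F157249)) (tt N18532 (iv F159804)) (tt N14923 F152215) (tt N18693 (iv F160342)) (tt N18530 (iv F159797)) (tt N18754 D34681) (tt N14918 F152216) (tt N18730 (iv F160429)) (tt N14917 (iv D32842)) (tt N18755 D34682))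
theorem Q16917 : ∀ i, i < 16917 → P i := stepQ 16916 Q16916 (allL N16916 (tt N17906 (iv F157253)) (tt N18524 (iv F159762)) (tt N14924 F152217) (tt N18694 (iv F160345)) (tt N18523 (iv F159758)) (tt N14992 F152218) (tt N18755 (iv F160522)) (tt N14919 F152219) (tt N14935 F152220) (tt N14918 (iv D32843)))
theorem Q16918 : ∀ i, i < 16918 → P i := stepQ 16917 Q16917 (allL N16917 (tt N17907 (iv F157259)) (tt N15215 F152221) (tt N18753 (iv F160516)) (tt N18543 (iv F159847)) (tt N17264 (iv F153986)) (tt N14920 (iv D32844)) (tt N14958 F152222) (tt N18732 (iv F160438)) (tt N18756 D34683) (tt N14936 F152223))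
theorem Q16919 : ∀ i, i < 16919 → P i := stepQ 16918 Q16918 (allL N16918 (tt N17908 (iv F157264)) (tt N15135 F152224) (tt N18530 (iv F159796)) (tt N18544 (iv F159851)) (tt N14923 F152225) (tt N15152 (iv F152227)) (tt N14921 F152226) (tt N18733 (iv F160444)) (tt N14920 (iv D32845)) (tt N18757 D34684))
theorem Q16920 : ∀ i, i < 16920 → P i := stepQ 16919 Q16919 (allL N16919 (tt N17909 (iv F157269)) (tt N15063 F152228) (tt N18523 (iv F159757)) (tt N15118 F152229) (tt N14924 F152230) (tt N15062 F152231) (tt N18757 (iv F160531)) (tt N14922 F152232) (tt N14938 F152233) (tt N14921 (iv D32846)))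
theorem Q16921 : ∀ i, i < 16921 → P i := stepQ 16920 Q16920 (allL N16920 (tt N17910 (iv F157276)) (tt N15216 F152234) (tt N18754 (iv F160519)) (tt N14925 F152235) (tt N18758 D34685) (tt N14923 (iv D32847)) (tt N14995 F152236) (tt N18734 (iv F160450)) (tt N17266 (iv F154000)) (tt N18759 D34686))
theorem Q16922 : ∀ i, i < 16922 → P i := stepQ 16921 Q16921 (allL N16921 (tt N17911 (iv F157281)) (tt N15217 F152237) (tt N18755 (iv F160521)) (tt N14926 F152238) (tt N18757 (iv F160529)) (tt N18759 (iv F160539)) (tt N14924 F152239) (tt N18735 (iv F160455)) (tt N14940 F152240) (tt N14923 (iv D32848)))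
theorem Q16923 : ∀ i, i < 16923 → P i := stepQ 16922 Q16922 (allL N16922 (tt N17912 (iv F157286)) (tt N15218 F152241) (tt N18703 (iv F160365)) (tt N18760 D34687) (tt N14925 (iv D32849)) (tt N18547 (iv F159867)) (tt N14997 F152242) (tt N18736 (iv F160460)) (tt N17267 (iv F154007)) (tt N18562 F159914))
theorem Q16924 : ∀ i, i < 16924 → P i := stepQ 16923 Q16923 (allL N16923 (tt N17913 (iv F157290)) (tt N15219 F152243) (tt N18704 (iv F160367)) (tt N18759 (iv F160538)) (tt N18562 (iv F159912)) (tt N14926 F152244) (tt N14998 F152245) (tt N18737 (iv F160465)) (tt N18534 (iv F159816)) (tt N14925 (iv D32850)))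
theorem Q16925 : ∀ i, i < 16925 → P i := stepQ 16924 Q16924 (allL N16924 (tt N18047 (iv F158005)) (tt N14930 F152246) (tt N17251 (iv F153903)) (tt N14928 F152247) (tt N18594 (iv F160050)) (tt N16924 F152248) (tt N17139 (iv F153252)) (tt N18723 (iv F160407)) (tt N14927 (iv D32851)) (tt N18298 (iv F158911)))
theorem Q16926 : ∀ i, i < 16926 → P i := stepQ 16925 Q16925 (allL N16925 (tt N17922 (iv F157326)) (tt N18722 (iv F160403)) (tt N18556 (iv F159895)) (tt N14931 F152249) (tt N18707 (iv F160376)) (tt N18761 D34688) (tt N14929 (iv D32852)) (tt N18739 (iv F160470)) (tt N18762 D34689) (tt N18752 (iv F160515)))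
theorem Q16927 : ∀ i, i < 16927 → P i := stepQ 16926 Q16926 (allL N16926 (tt N17923 (iv F157328)) (tt N18723 (iv F160405)) (tt N18557 (iv F159897)) (tt N14932 F152250) (tt N18708 (iv F160378)) (tt N16926 F152251) (tt N18762 (iv F160547)) (tt N14930 F152252) (tt N14929 (iv D32853)) (tt N18763 D34690))
theorem Q16928 : ∀ i, i < 16928 → P i := stepQ 16927 Q16927 (allL N16927 (tt N17924 (iv F157332)) (tt N18298 (iv F158906)) (tt N18373 (iv F159210)) (tt N14933 F152253) (tt N18710 (iv F160383)) (tt N16927 F152254) (tt N18331 (iv F159062)) (tt N18763 (iv F160550)) (tt N18294 F158892) (tt N14930 (iv D32854)))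
theorem Q16929 : ∀ i, i < 16929 → P i := stepQ 16928 Q16928 (allL N16928 (tt N17925 (iv F157335)) (tt N18453 (iv F159458)) (tt N14936 F152255) (tt N18761 (iv F160544)) (tt N18340 (iv F159090)) (tt N14931 (iv D32855)) (tt N14961 F152256) (tt N18741 (iv F160475)) (tt N18764 D34691) (tt N18753 (iv F160518)))
theorem Q16930 : ∀ i, i < 16930 → P i := stepQ 16929 Q16929 (allL N16929 (tt N17926 (iv F157338)) (tt N18685 (iv F160313)) (tt N14937 F152257) (tt N18762 (iv F160546)) (tt N14934 F152258) (tt N18765 D34692) (tt N14932 F152259) (tt N18742 (iv F160479)) (tt N14931 (iv D32856)) (tt N18766 D34693))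
theorem Q16931 : ∀ i, i < 16931 → P i := stepQ 16930 Q16930 (allL N16930 (tt N17927 (iv F157342)) (tt N18526 (iv F159772)) (tt N14938 F152260) (tt N18763 (iv F160548)) (tt N14935 F152261) (tt N16930 F152262) (tt N18766 (iv F160557)) (tt N14933 F152263) (tt N18523 (iv F159760)) (tt N14932 (iv D32857)))
theorem Q16932 : ∀ i, i < 16932 → P i := stepQ 16931 Q16931 (allL N16931 (tt N17929 (iv F157353)) (tt N18686 (iv F160317)) (tt N14940 F152264) (tt N18716 (iv F160397)) (tt N18766 (iv F160556)) (tt N18602 (iv F160082)) (tt N14935 F152265) (tt N18744 (iv F160489)) (tt N18755 (iv F160523)) (tt N14934 (iv D32858)))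
theorem Q16933 : ∀ i, i < 16933 → P i := stepQ 16932 Q16932 (allL N16932 (tt N17930 (iv F157356)) (tt N15220 F152266) (tt N18764 (iv F160551)) (tt N18562 (iv F159911)) (tt N18503 F159668) (tt N18736 (iv F160458)) (tt N14962 F152267) (tt N18547 (iv F159869)) (tt N14936 (iv D32859)) (tt N18760 (iv F160543)))
theorem Q16934 : ∀ i, i < 16934 → P i := stepQ 16933 Q16933 (allL N16933 (tt N17931 (iv F157359)) (tt N15221 F152268) (tt N18765 (iv F160553)) (tt N18563 (iv F159916)) (tt N17257 (iv F153944)) (tt N14937 (iv D32860)) (tt N16933 F152269) (tt N17267 (iv F154006)) (tt N18736 (iv F160461)) (tt N18767 D34694))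
theorem Q16935 : ∀ i, i < 16935 → P i := stepQ 16934 Q16934 (allL N16934 (tt N17932 (iv F157364)) (tt N15222 F152270) (tt N18766 (iv F160555)) (tt N18564 (iv F159919)) (tt N14940 F152271) (tt N18767 (iv F160559)) (tt N14938 F152272) (tt N18745 (iv F160494)) (tt N18757 (iv F160533)) (tt N14937 (iv D32861)))
theorem Q16936 : ∀ i, i < 16936 → P i := stepQ 16935 Q16935 (allL N16935 (tt N17933 (iv F157368)) (tt N15199 F152273) (tt N18602 (iv F160081)) (tt N14942 F152274) (tt N17258 (iv F153951)) (tt N14940 F152275) (tt N14944 F152276) (tt N17143 (iv F153282)) (tt N18521 (iv F159750)) (tt N14939 (iv D32862)))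
theorem Q16937 : ∀ i, i < 16937 → P i := stepQ 16936 Q16936 (allL N16936 (tt N14946 F152277) (tt N17935 (iv F157381)) (tt N15104 F152278) (tt N18351 (iv F159140)) (tt N14945 (iv D32863)) (tt N17876 (iv F157100)) (tt N16936 F152279) (tt N18097 (iv F158193)) (tt N15057 (iv F152280)) (tt N17144 (iv F153291)))
theorem Q16938 : ∀ i, i < 16938 → P i := stepQ 16937 Q16937 (allL N16937 (tt N14948 F152281) (tt N17937 (iv F157394)) (tt N15102 F152282) (tt N17572 (iv F155657)) (tt N15057 F152283) (tt N16937 F152284) (tt N16937 F152285) (tt N18098 (iv F158200)) (tt N14945 (iv D32864)) (tt N16937 F152286))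
theorem Q16939 : ∀ i, i < 16939 → P i := stepQ 16938 Q16938 (allL N16938 (tt N18097 (iv F158189)) (tt N14949 F152287) (tt N15107 F152288) (tt N18354 (iv F159153)) (tt N14947 F152289) (tt N18743 (iv F160483)) (tt N17249 (iv F153890)) (tt N14946 (iv D32865)) (tt N15059 F152290) (tt N17138 (iv F153247)))
theorem Q16940 : ∀ i, i < 16940 → P i := stepQ 16939 Q16939 (allL N16939 (tt N18098 (iv F158195)) (tt N14951 F152291) (tt N15105 F152292) (tt N17576 (iv F155682)) (tt N15059 F152293) (tt N16939 F152294) (tt N17250 (iv F153898)) (tt N14948 F152295) (tt N14947 (iv D32866)) (tt N16939 F152296))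
theorem Q16941 : ∀ i, i < 16941 → P i := stepQ 16940 Q16940 (allL N16940 (tt N17943 (iv F157432)) (tt N17249 (iv F153887)) (tt N14952 F152297) (tt N18356 (iv F159160)) (tt N14950 F152298) (tt N18768 D34695) (tt N14949 (iv D32867)) (tt N16940 F152299) (tt N15060 F152300) (tt N17147 (iv F153311)))
theorem Q16942 : ∀ i, i < 16942 → P i := stepQ 16941 Q16941 (allL N16941 (tt N17944 (iv F157438)) (tt N17250 (iv F153894)) (tt N14953 F152301) (tt N17580 (iv F155706)) (tt N15060 F152302) (tt N17284 (iv F154120)) (tt N14951 F152303) (tt N16941 F152304) (tt N14950 (iv D32868)) (tt N16941 F152305))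
theorem Q16943 : ∀ i, i < 16943 → P i := stepQ 16942 Q16942 (allL N16942 (tt N17945 (iv F157445)) (tt N15112 F152306) (tt N18768 (iv F160561)) (tt N14955 F152307) (tt N18571 (iv F159952)) (tt N14952 (iv D32869)) (tt N18748 (iv F160504)) (tt N16942 F152308) (tt N18769 D34696) (tt N17148 (iv F153317)))
theorem Q16944 : ∀ i, i < 16944 → P i := stepQ 16943 Q16943 (allL N16943 (tt N17946 (iv F157450)) (tt N15111 F152309) (tt N17284 (iv F154118)) (tt N14954 F152310) (tt N18770 D34697) (tt N14953 (iv D32870)) (tt N16943 F152311) (tt N16943 F152312) (tt N17120 F153128) (tt N16943 F152313))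
theorem Q16945 : ∀ i, i < 16945 → P i := stepQ 16944 Q16944 (allL N16944 (tt N17949 (iv F157467)) (tt N15100 F152314) (tt N18348 (iv F159123)) (tt N18769 (iv F160564)) (tt N14962 F152315) (tt N15055 F152316) (tt N18503 (iv F159665)) (tt N16944 F152317) (tt N14955 (iv D32871)) (tt N18771 D34698))
theorem Q16946 : ∀ i, i < 16946 → P i := stepQ 16945 Q16945 (allL N16945 (tt N17950 (iv F157472)) (tt N18455 (iv F159465)) (tt N18578 (iv F159988)) (tt N14957 F152318) (tt N17947 (iv F157458)) (tt N18772 D34699) (tt N14956 (iv D32872)) (tt N16945 F152319) (tt N18293 (iv F158885)) (tt N14960 F152320))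
theorem Q16947 : ∀ i, i < 16947 → P i := stepQ 16946 Q16946 (allL N16946 (tt N17951 (iv F157479)) (tt N18482 (iv F159556)) (tt N14958 F152321) (tt N18772 (iv F160581)) (tt N17276 (iv F154062)) (tt N14957 (iv D32873)) (tt N18753 (iv F160517)) (tt N16946 F152322) (tt N18569 (iv F159946)) (tt N14961 F152323))
theorem Q16948 : ∀ i, i < 16948 → P i := stepQ 16947 Q16947 (allL N16947 (tt N17952 (iv F157485)) (tt N15170 F152324) (tt N18569 (iv F159944)) (tt N17272 (iv F154033)) (tt N17277 (iv F154068)) (tt N15168 F152325) (tt N18756 (iv F160526)) (tt N16947 F152326) (tt N14958 (iv D32874)) (tt N17271 F154030))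
theorem Q16949 : ∀ i, i < 16949 → P i := stepQ 16948 Q16948 (allL N16948 (tt N17956 (iv F157507)) (tt N18481 (iv F159553)) (tt N18584 (iv F160013)) (tt N14961 F152327) (tt N18773 D34700) (tt N14960 (iv D32875)) (tt N18761 (iv F160545)) (tt N16948 F152328) (tt N18774 D34701) (tt N18772 (iv F160583)))
theorem Q16950 : ∀ i, i < 16950 → P i := stepQ 16949 Q16949 (allL N16949 (tt N17957 (iv F157510)) (tt N18461 (iv F159489)) (tt N14962 F152329) (tt N18774 (iv F160585)) (tt N18348 F159126) (tt N16949 F152330) (tt N18764 (iv F160552)) (tt N16949 F152331) (tt N14961 (iv D32876)) (tt N18775 D34702))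
theorem Q16951 : ∀ i, i < 16951 → P i := stepQ 16950 Q16950 (allL N16950 (tt N17958 (iv F157514)) (tt N15223 F152332) (tt N18775 (iv F160588)) (tt N14997 F152333) (tt N18771 (iv F160578)) (tt N16950 F152334) (tt N18760 (iv F160542)) (tt N16950 F152335) (tt N17271 (iv F154029)) (tt N14962 (iv D32877)))
theorem Q16952 : ∀ i, i < 16952 → P i := stepQ 16951 Q16951 (allL N16951 (tt N18282 (iv F158835)) (tt N14974 F152336) (tt N17286 (iv F154134)) (tt N16951 F152337) (tt N14966 F152338) (tt N17983 (iv F157660)) (tt N14964 (iv D32878)) (tt N16951 F152339) (tt N18776 D34703) (tt N14969 F152340))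
theorem Q16953 : ∀ i, i < 16953 → P i := stepQ 16952 Q16952 (allL N16952 (tt N18212 (iv F158591)) (tt N14975 F152341) (tt N17231 (iv F153797)) (tt N16952 F152342) (tt N14967 F152343) (tt N18777 D34704) (tt N18776 (iv F160594)) (tt N14965 F152344) (tt N14964 (iv D32879)) (tt N17225 (iv F153766)))
theorem Q16954 : ∀ i, i < 16954 → P i := stepQ 16953 Q16953 (allL N16953 (tt N18214 (iv F158601)) (tt N14976 F152345) (tt N17233 (iv F153807)) (tt N16953 F152346) (tt N18608 (iv F160099)) (tt N14965 (iv D32880)) (tt N18778 D34705) (tt N18777 (iv F160598)) (tt N17706 (iv F156353)) (tt N17226 (iv F153772)))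
theorem Q16955 : ∀ i, i < 16955 → P i := stepQ 16954 Q16954 (allL N16954 (tt N18216 (iv F158608)) (tt N14978 F152347) (tt N17235 (iv F153815)) (tt N14968 F152348) (tt N18776 (iv F160593)) (tt N18779 D34706) (tt N14967 F152349) (tt N16954 F152350) (tt N14966 (iv D32881)) (tt N17227 (iv F153779)))
theorem Q16956 : ∀ i, i < 16956 → P i := stepQ 16955 Q16955 (allL N16955 (tt N18269 (iv F158775)) (tt N14980 F152351) (tt N15225 F152352) (tt N18779 (iv F160603)) (tt N18780 D34707) (tt N14968 (iv D32882)) (tt N18610 (iv F160105)) (tt N16955 F152353) (tt N17185 (iv F153535)) (tt N17269 (iv F154018)))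
theorem Q16957 : ∀ i, i < 16957 → P i := stepQ 16956 Q16956 (allL N16956 (tt N17180 (iv F153507)) (tt N14971 F152354) (tt N17282 (iv F154103)) (tt N14989 F152355) (tt N17161 (iv F153401)) (tt N14988 F152356) (tt N14970 (iv D32883)) (tt N16956 F152357) (tt N18572 (iv F159959)) (tt N14982 F152358))
theorem Q16958 : ∀ i, i < 16958 → P i := stepQ 16957 Q16957 (allL N16957 (tt N17971 (iv F157590)) (tt N18572 (iv F159956)) (tt N14978 F152359) (tt N14991 F152360) (tt N18121 (iv F158292)) (tt N18781 D34708) (tt N14972 F152361) (tt N16957 F152362) (tt N14971 (iv D32884)) (tt N18782 D34709))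
theorem Q16959 : ∀ i, i < 16959 → P i := stepQ 16958 Q16958 (allL N16958 (tt N17972 (iv F157597)) (tt N17179 (iv F153502)) (tt N14979 F152363) (tt N14992 F152364) (tt N18122 (iv F158298)) (tt N18694 (iv F160346)) (tt N18782 (iv F160614)) (tt N14973 F152365) (tt N14984 F152366) (tt N14972 (iv D32885)))
theorem Q16960 : ∀ i, i < 16960 → P i := stepQ 16959 Q16959 (allL N16959 (tt N17964 (iv F157553)) (tt N17983 (iv F157656)) (tt N17961 (iv F157536)) (tt N16959 F152367) (tt N17228 (iv F153783)) (tt N14974 (iv D32886)) (tt N17832 (iv F156888)) (tt N16959 F152368) (tt N18783 D34710) (tt N14985 F152369))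
theorem Q16961 : ∀ i, i < 16961 → P i := stepQ 16960 Q16960 (allL N16960 (tt N17973 (iv F157604)) (tt N18776 (iv F160591)) (tt N18121 (iv F158290)) (tt N16960 F152370) (tt N14978 F152371) (tt N18784 D34711) (tt N14975 F152372) (tt N16960 F152373) (tt N14974 (iv D32887)) (tt N18785 D34712))
theorem Q16962 : ∀ i, i < 16962 → P i := stepQ 16961 Q16961 (allL N16961 (tt N17974 (iv F157610)) (tt N18777 (iv F160596)) (tt N18117 (iv F158274)) (tt N16961 F152374) (tt N18697 (iv F160352)) (tt N14975 (iv D32888)) (tt N18786 D34713) (tt N14976 F152375) (tt N17833 (iv F156895)) (tt N18787 D34714))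
theorem Q16963 : ∀ i, i < 16963 → P i := stepQ 16962 Q16962 (allL N16962 (tt N17975 (iv F157615)) (tt N17225 (iv F153761)) (tt N18122 (iv F158296)) (tt N16962 F152376) (tt N14979 F152377) (tt N18787 (iv F160628)) (tt N18785 (iv F160623)) (tt N14977 F152378) (tt N14987 F152379) (tt N14975 (iv D32889)))
theorem Q16964 : ∀ i, i < 16964 → P i := stepQ 16963 Q16963 (allL N16963 (tt N17976 (iv F157621)) (tt N18778 (iv F160599)) (tt N17662 (iv F156171)) (tt N16963 F152380) (tt N18699 (iv F160357)) (tt N16963 F152381) (tt N14976 (iv D32890)) (tt N18788 D34715) (tt N17658 F156150) (tt N18789 D34716))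
theorem Q16965 : ∀ i, i < 16965 → P i := stepQ 16964 Q16964 (allL N16964 (tt N17977 (iv F157626)) (tt N17226 (iv F153768)) (tt N18118 (iv F158279)) (tt N16964 F152382) (tt N18700 (iv F160358)) (tt N14977 F152383) (tt N18789 (iv F160634)) (tt N18787 (iv F160629)) (tt N17838 (iv F156916)) (tt N14976 (iv D32891)))
theorem Q16966 : ∀ i, i < 16966 → P i := stepQ 16965 Q16965 (allL N16965 (tt N17978 (iv F157630)) (tt N18779 (iv F160602)) (tt N18781 (iv F160609)) (tt N14980 F152384) (tt N18790 D34717) (tt N14978 (iv D32892)) (tt N18701 (iv F160361)) (tt N16965 F152385) (tt N17234 (iv F153813)) (tt N18791 D34718))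
theorem Q16967 : ∀ i, i < 16967 → P i := stepQ 16966 Q16966 (allL N16966 (tt N17979 (iv F157634)) (tt N17227 (iv F153774)) (tt N18782 (iv F160612)) (tt N14981 F152386) (tt N18785 (iv F160622)) (tt N18791 (iv F160637)) (tt N14979 F152387) (tt N16966 F152388) (tt N14988 F152389) (tt N14978 (iv D32893)))
theorem Q16968 : ∀ i, i < 16968 → P i := stepQ 16967 Q16967 (allL N16967 (tt N17980 (iv F157639)) (tt N18780 (iv F160605)) (tt N14997 F152390) (tt N18792 D34719) (tt N14980 (iv D32894)) (tt N16967 F152391) (tt N18703 (iv F160366)) (tt N16967 F152392) (tt N17236 (iv F153824)) (tt N18585 F160020))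
theorem Q16969 : ∀ i, i < 16969 → P i := stepQ 16968 Q16968 (allL N16968 (tt N17981 (iv F157644)) (tt N17269 (iv F154014)) (tt N14998 F152393) (tt N18791 (iv F160636)) (tt N18585 (iv F160017)) (tt N14981 F152394) (tt N18704 (iv F160369)) (tt N16968 F152395) (tt N18573 (iv F159964)) (tt N14980 (iv D32895)))
theorem Q16970 : ∀ i, i < 16970 → P i := stepQ 16969 Q16969 (allL N16969 (tt N17982 (iv F157648)) (tt N17178 (iv F153496)) (tt N14988 F152396) (tt N14999 F152397) (tt N18279 (iv F158820)) (tt N17282 (iv F154106)) (tt N14984 F152398) (tt N16969 F152399) (tt N18782 (iv F160616)) (tt N14983 (iv D32896)))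
theorem Q16971 : ∀ i, i < 16971 → P i := stepQ 16970 Q16970 (allL N16970 (tt N17983 (iv F157655)) (tt N17224 (iv F153754)) (tt N18279 (iv F158818)) (tt N16970 F152400) (tt N14988 F152401) (tt N18282 (iv F158839)) (tt N14987 F152402) (tt N16970 F152403) (tt N18785 (iv F160625)) (tt N14986 (iv D32897)))
theorem Q16972 : ∀ i, i < 16972 → P i := stepQ 16971 Q16971 (allL N16971 (tt N17984 (iv F157663)) (tt N18573 (iv F159960)) (tt N14995 F152404) (tt N18781 (iv F160610)) (tt N18583 (iv F160011)) (tt N14991 (iv D32898)) (tt N18754 (iv F160520)) (tt N16971 F152405) (tt N17269 (iv F154017)) (tt N18793 D34720))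
theorem Q16973 : ∀ i, i < 16973 → P i := stepQ 16972 Q16972 (allL N16972 (tt N17985 (iv F157668)) (tt N17287 (iv F154141)) (tt N14996 F152406) (tt N18782 (iv F160613)) (tt N18125 (iv F158314)) (tt N18793 (iv F160642)) (tt N14992 F152407) (tt N16972 F152408) (tt N14999 F152409) (tt N14991 (iv D32899)))
theorem Q16974 : ∀ i, i < 16974 → P i := stepQ 16973 Q16973 (allL N16973 (tt N17986 (iv F157675)) (tt N15176 F152410) (tt N18125 (iv F158312)) (tt N16973 F152411) (tt N14996 F152412) (tt N15182 F152413) (tt N14994 F152414) (tt N16973 F152415) (tt N15001 F152416) (tt N14993 (iv D32900)))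
theorem Q16975 : ∀ i, i < 16975 → P i := stepQ 16974 Q16974 (allL N16974 (tt N17987 (iv F157684)) (tt N15188 F152417) (tt N18583 (iv F160010)) (tt N18771 (iv F160577)) (tt N14995 (iv D32901)) (tt N15187 F152418) (tt N18758 (iv F160536)) (tt N16974 F152419) (tt N17270 (iv F154023)) (tt N18769 (iv F160568)))
theorem Q16976 : ∀ i, i < 16976 → P i := stepQ 16975 Q16975 (allL N16975 (tt N17988 (iv F157689)) (tt N15231 F152420) (tt N18793 (iv F160641)) (tt N14998 F152421) (tt N18769 (iv F160565)) (tt N14996 F152422) (tt N18759 (iv F160540)) (tt N16975 F152423) (tt N18571 (iv F159954)) (tt N14995 (iv D32902)))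
theorem Q16977 : ∀ i, i < 16977 → P i := stepQ 16976 Q16976 (allL N16976 (tt N17989 (iv F157694)) (tt N15232 F152424) (tt N17283 (iv F154111)) (tt N16976 F152425) (tt N17120 (iv F153124)) (tt N15001 F152426) (tt N16976 F152427) (tt N16976 F152428) (tt N18770 (iv F160574)) (tt N15000 (iv D32903)))
theorem Q16978 : ∀ i, i < 16978 → P i := stepQ 16977 Q16977 (allL N16977 (tt N18022 (iv F157890)) (tt N17443 (iv F155004)) (tt N15008 F152429) (tt N16977 F152430) (tt N17440 (iv F154988)) (tt N17322 (iv F154354)) (tt N15004 (iv D32904)) (tt N16977 F152431) (tt N18794 D34721) (tt N16977 F152432))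
theorem Q16979 : ∀ i, i < 16979 → P i := stepQ 16978 Q16978 (allL N16978 (tt N18023 (iv F157897)) (tt N17444 (iv F155012)) (tt N15009 F152433) (tt N16978 F152434) (tt N17441 (iv F154995)) (tt N18630 (iv F160160)) (tt N18794 (iv F160646)) (tt N15005 F152435) (tt N15004 (iv D32905)) (tt N18795 D34722))
theorem Q16980 : ∀ i, i < 16980 → P i := stepQ 16979 Q16979 (allL N16979 (tt N18024 (iv F157901)) (tt N17446 (iv F155023)) (tt N15010 F152436) (tt N16979 F152437) (tt N17442 (iv F155000)) (tt N18631 (iv F160164)) (tt N16979 F152438) (tt N18795 (iv F160650)) (tt N16979 F152439) (tt N15005 (iv D32906)))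
theorem Q16981 : ∀ i, i < 16981 → P i := stepQ 16980 Q16980 (allL N16980 (tt N18025 (iv F157906)) (tt N17322 (iv F154350)) (tt N17440 (iv F154986)) (tt N16980 F152440) (tt N15008 F152441) (tt N17443 (iv F155008)) (tt N15006 (iv D32907)) (tt N16980 F152442) (tt N18796 D34723) (tt N16980 F152443))
theorem Q16982 : ∀ i, i < 16982 → P i := stepQ 16981 Q16981 (allL N16981 (tt N18026 (iv F157913)) (tt N17323 (iv F154358)) (tt N17441 (iv F154993)) (tt N16981 F152444) (tt N15009 F152445) (tt N18797 D34724) (tt N18796 (iv F160654)) (tt N15007 F152446) (tt N15006 (iv D32908)) (tt N18798 D34725))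
theorem Q16983 : ∀ i, i < 16983 → P i := stepQ 16982 Q16982 (allL N16982 (tt N18027 (iv F157917)) (tt N17314 (iv F154317)) (tt N17419 (iv F154896)) (tt N16982 F152447) (tt N18634 (iv F160168)) (tt N15007 (iv D32909)) (tt N18799 D34726) (tt N18797 (iv F160657)) (tt N15015 F152448) (tt N18800 D34727))
theorem Q16984 : ∀ i, i < 16984 → P i := stepQ 16983 Q16983 (allL N16983 (tt N18028 (iv F157920)) (tt N17324 (iv F154364)) (tt N17442 (iv F154998)) (tt N16983 F152449) (tt N15010 F152450) (tt N18800 (iv F160667)) (tt N16983 F152451) (tt N18798 (iv F160661)) (tt N16983 F152452) (tt N15007 (iv D32910)))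
theorem Q16985 : ∀ i, i < 16985 → P i := stepQ 16984 Q16984 (allL N16984 (tt N18029 (iv F157925)) (tt N17434 (iv F154948)) (tt N18794 (iv F160644)) (tt N15011 F152453) (tt N18796 (iv F160653)) (tt N18801 D34728) (tt N15009 F152454) (tt N16984 F152455) (tt N15008 (iv D32911)) (tt N18802 D34729))
theorem Q16986 : ∀ i, i < 16986 → P i := stepQ 16985 Q16985 (allL N16985 (tt N18030 (iv F157929)) (tt N17435 (iv F154953)) (tt N18795 (iv F160648)) (tt N15012 F152456) (tt N18798 (iv F160660)) (tt N18637 (iv F160174)) (tt N18802 (iv F160671)) (tt N15010 F152457) (tt N16985 F152458) (tt N15009 (iv D32912)))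
theorem Q16987 : ∀ i, i < 16987 → P i := stepQ 16986 Q16986 (allL N16986 (tt N18031 (iv F157933)) (tt N17436 (iv F154959)) (tt N16986 F152459) (tt N18801 (iv F160668)) (tt N18803 D34730) (tt N15011 (iv D32913)) (tt N18638 (iv F160177)) (tt N16986 F152460) (tt N17330 (iv F154404)) (tt N18804 D34731))
theorem Q16988 : ∀ i, i < 16988 → P i := stepQ 16987 Q16987 (allL N16987 (tt N18032 (iv F157936)) (tt N17437 (iv F154964)) (tt N16987 F152461) (tt N18802 (iv F160670)) (tt N16987 F152462) (tt N18804 (iv F160678)) (tt N15012 F152463) (tt N16987 F152464) (tt N16987 F152465) (tt N15011 (iv D32914)))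
theorem Q16989 : ∀ i, i < 16989 → P i := stepQ 16988 Q16988 (allL N16988 (tt N18036 (iv F157960)) (tt N17313 (iv F154312)) (tt N17418 (iv F154892)) (tt N16988 F152466) (tt N18669 (iv F160272)) (tt N15014 (iv D32915)) (tt N18805 D34732) (tt N15015 F152467) (tt N18797 (iv F160658)) (tt N18806 D34733))
theorem Q16990 : ∀ i, i < 16990 → P i := stepQ 16989 Q16989 (allL N16989 (tt N18037 (iv F157963)) (tt N17194 (iv F153592)) (tt N17404 (iv F154830)) (tt N16989 F152468) (tt N15017 F152469) (tt N18806 (iv F160682)) (tt N18616 (iv F160123)) (tt N15016 F152470) (tt N16989 F152471) (tt N15014 (iv D32916)))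
theorem Q16991 : ∀ i, i < 16991 → P i := stepQ 16990 Q16990 (allL N16990 (tt N18038 (iv F157968)) (tt N17304 (iv F154260)) (tt N17364 (iv F154616)) (tt N16990 F152472) (tt N18671 (iv F160276)) (tt N15018 F152473) (tt N15015 (iv D32917)) (tt N18807 D34734) (tt N18799 (iv F160665)) (tt N17721 (iv F156434)))
theorem Q16992 : ∀ i, i < 16992 → P i := stepQ 16991 Q16991 (allL N16991 (tt N18039 (iv F157971)) (tt N17193 (iv F153586)) (tt N17403 (iv F154826)) (tt N16991 F152474) (tt N18672 (iv F160278)) (tt N15016 F152475) (tt N17721 (iv F156433)) (tt N18806 (iv F160683)) (tt N18808 D34735) (tt N15015 (iv D32918)))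
theorem Q16993 : ∀ i, i < 16993 → P i := stepQ 16992 Q16992 (allL N16992 (tt N18043 (iv F157988)) (tt N17305 (iv F154266)) (tt N17365 (iv F154620)) (tt N16992 F152476) (tt N15020 F152477) (tt N18807 (iv F160685)) (tt N18159 (iv F158438)) (tt N15018 (iv D32919)) (tt N16992 F152478) (tt N17722 (iv F156439)))
theorem Q16994 : ∀ i, i < 16994 → P i := stepQ 16993 Q16993 (allL N16993 (tt N18049 (iv F158017)) (tt N17337 (iv F154447)) (tt N15020 F152479) (tt N16993 F152480) (tt N17365 (iv F154622)) (tt N18725 (iv F160413)) (tt N18127 (iv F158326)) (tt N15019 (iv D32920)) (tt N16993 F152481) (tt N17645 (iv F156095)))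
theorem Q16995 : ∀ i, i < 16995 → P i := stepQ 16994 Q16994 (allL N16994 (tt N15024 F152482) (tt N15044 F152483) (tt N16994 F152484) (tt N18010 (iv F157829)) (tt N16994 F152485) (tt N18095 (iv F158185)) (tt N15023 (iv D32921)) (tt N18809 D34736) (tt N15039 F152486) (tt N17466 (iv F155121)))
theorem Q16996 : ∀ i, i < 16996 → P i := stepQ 16995 Q16995 (allL N16995 (tt N18095 (iv F158181)) (tt N15025 F152487) (tt N16995 F152488) (tt N18284 (iv F158845)) (tt N17244 (iv F153860)) (tt N15024 (iv D32922)) (tt N17137 (iv F153239)) (tt N18810 D34737) (tt N17886 (iv F157157)) (tt N17136 F153233))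
theorem Q16997 : ∀ i, i < 16997 → P i := stepQ 16996 Q16996 (allL N16996 (tt N18809 (iv F160688)) (tt N15026 F152489) (tt N16996 F152490) (tt N18285 (iv F158847)) (tt N16996 F152491) (tt N18810 (iv F160695)) (tt N17475 (iv F155171)) (tt N15024 (iv D32923)) (tt N15041 F152492) (tt N17467 (iv F155127)))
theorem Q16998 : ∀ i, i < 16998 → P i := stepQ 16997 Q16997 (allL N16997 (tt N15047 F152493) (tt N18810 (iv F160693)) (tt N15027 F152494) (tt N18287 (iv F158853)) (tt N17891 (iv F157179)) (tt N15026 F152495) (tt N18811 D34738) (tt N15025 (iv D32924)) (tt N17889 (iv F157172)) (tt N17468 (iv F155131)))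
theorem Q16999 : ∀ i, i < 16999 → P i := stepQ 16998 Q16998 (allL N16998 (tt N15048 F152496) (tt N16998 F152497) (tt N18811 (iv F160697)) (tt N15028 F152498) (tt N17893 (iv F157191)) (tt N17480 (iv F155200)) (tt N15027 (iv D32925)) (tt N17510 (iv F155363)) (tt N17892 (iv F157186)) (tt N17470 (iv F155144)))
theorem Q17000 : ∀ i, i < 17000 → P i := stepQ 16999 Q16999 (allL N16999 (tt N15030 F152499) (tt N15049 F152500) (tt N16999 F152501) (tt N17992 (iv F157720)) (tt N16999 F152502) (tt N17575 (iv F155679)) (tt N15029 (iv D32926)) (tt N18812 D34739) (tt N17473 (iv F155162)) (tt N16999 F152503))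
theorem Q17001 : ∀ i, i < 17001 → P i := stepQ 17000 Q17000 (allL N17000 (tt N17575 (iv F155672)) (tt N15031 F152504) (tt N17000 F152505) (tt N17993 (iv F157727)) (tt N17572 (iv F155658)) (tt N15030 (iv D32927)) (tt N17000 F152506) (tt N18813 D34740) (tt N17570 F155646) (tt N17000 F152507))
theorem Q17002 : ∀ i, i < 17002 → P i := stepQ 17001 Q17001 (allL N17001 (tt N18812 (iv F160698)) (tt N15032 F152508) (tt N17001 F152509) (tt N17994 (iv F157733)) (tt N17001 F152510) (tt N18813 (iv F160706)) (tt N15041 F152511) (tt N15030 (iv D32928)) (tt N17475 (iv F155172)) (tt N17001 F152512))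
theorem Q17003 : ∀ i, i < 17003 → P i := stepQ 17002 Q17002 (allL N17002 (tt N15051 F152513) (tt N18813 (iv F160704)) (tt N15034 F152514) (tt N17996 (iv F157746)) (tt N18575 (iv F159972)) (tt N15032 F152515) (tt N18814 D34741) (tt N15031 (iv D32929)) (tt N18574 (iv F159968)) (tt N17002 F152516))
theorem Q17004 : ∀ i, i < 17004 → P i := stepQ 17003 Q17003 (allL N17003 (tt N15052 F152517) (tt N17003 F152518) (tt N18575 (iv F159971)) (tt N17003 F152519) (tt N15034 F152520) (tt N17003 F152521) (tt N18815 D34742) (tt N15033 (iv D32930)) (tt N15181 F152522) (tt N17003 F152523))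
theorem Q17005 : ∀ i, i < 17005 → P i := stepQ 17004 Q17004 (allL N17004 (tt N15053 F152524) (tt N17004 F152525) (tt N18814 (iv F160709)) (tt N15036 F152526) (tt N18815 (iv F160716)) (tt N15043 F152527) (tt N15034 (iv D32931)) (tt N17004 F152528) (tt N18816 D34743) (tt N17004 F152529))
theorem Q17006 : ∀ i, i < 17006 → P i := stepQ 17005 Q17005 (allL N17005 (tt N15054 F152530) (tt N17005 F152531) (tt N18574 (iv F159966)) (tt N15037 F152532) (tt N15181 F152533) (tt N17481 (iv F155207)) (tt N18816 (iv F160724)) (tt N15035 F152534) (tt N15034 (iv D32932)) (tt N15185 (iv F152535)))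
theorem Q17007 : ∀ i, i < 17007 → P i := stepQ 17006 Q17006 (allL N17006 (tt N15055 F152536) (tt N17006 F152537) (tt N18003 (iv F157783)) (tt N18816 (iv F160722)) (tt N17006 F152538) (tt N17949 (iv F157470)) (tt N15037 F152539) (tt N17006 F152540) (tt N15036 (iv D32933)) (tt N18817 D34744))
theorem Q17008 : ∀ i, i < 17008 → P i := stepQ 17007 Q17007 (allL N17007 (tt N15056 F152541) (tt N17007 F152542) (tt N18004 (iv F157789)) (tt N15185 F152543) (tt N17007 F152544) (tt N17483 (iv F155219)) (tt N18817 (iv F160731)) (tt N15038 F152545) (tt N17007 F152546) (tt N15037 (iv D32934)))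
theorem Q17009 : ∀ i, i < 17009 → P i := stepQ 17008 Q17008 (allL N17008 (tt N15040 F152547) (tt N15057 F152548) (tt N17008 F152549) (tt N17995 (iv F157740)) (tt N17937 (iv F157397)) (tt N15039 (iv D32935)) (tt N17008 F152550) (tt N18818 D34745) (tt N17935 F157385) (tt N17008 F152551))
theorem Q17010 : ∀ i, i < 17010 → P i := stepQ 17009 Q17009 (allL N17009 (tt N15041 F152552) (tt N15058 F152553) (tt N17009 F152554) (tt N18009 (iv F157823)) (tt N17009 F152555) (tt N18818 (iv F160737)) (tt N18812 (iv F160702)) (tt N15039 (iv D32936)) (tt N18809 (iv F160692)) (tt N17009 F152556))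
theorem Q17011 : ∀ i, i < 17011 → P i := stepQ 17010 Q17010 (allL N17010 (tt N18818 (iv F160734)) (tt N15042 F152557) (tt N17010 F152558) (tt N18290 (iv F158862)) (tt N17941 (iv F157422)) (tt N15041 F152559) (tt N18819 D34746) (tt N15040 (iv D32937)) (tt N17939 (iv F157410)) (tt N17010 F152560))
theorem Q17012 : ∀ i, i < 17012 → P i := stepQ 17011 Q17011 (allL N17011 (tt N15060 F152561) (tt N18819 (iv F160739)) (tt N15043 F152562) (tt N18292 (iv F158876)) (tt N17944 (iv F157441)) (tt N18814 (iv F160710)) (tt N15042 (iv D32938)) (tt N17011 F152563) (tt N17943 (iv F157436)) (tt N17011 F152564))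
theorem Q17013 : ∀ i, i < 17013 → P i := stepQ 17012 Q17012 (allL N17012 (tt N15045 F152565) (tt N18095 (iv F158182)) (tt N15085 F152566) (tt N18327 (iv F159047)) (tt N17859 (iv F157014)) (tt N15044 (iv D32939)) (tt N17904 (iv F157247)) (tt N18820 D34747) (tt N17876 (iv F157102)) (tt N17856 (iv F156999)))
theorem Q17014 : ∀ i, i < 17014 → P i := stepQ 17013 Q17013 (allL N17013 (tt N15046 F152567) (tt N18809 (iv F160689)) (tt N15086 F152568) (tt N18328 (iv F159050)) (tt N17013 F152569) (tt N18820 (iv F160745)) (tt N18496 (iv F159627)) (tt N15044 (iv D32940)) (tt N15058 F152570) (tt N18487 (iv F159579)))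
theorem Q17015 : ∀ i, i < 17015 → P i := stepQ 17014 Q17014 (allL N17014 (tt N18820 (iv F160743)) (tt N15047 F152571) (tt N15087 F152572) (tt N18330 (iv F159056)) (tt N18731 (iv F160432)) (tt N15046 F152573) (tt N18821 D34748) (tt N15045 (iv D32941)) (tt N18743 (iv F160485)) (tt N18488 (iv F159585)))
theorem Q17016 : ∀ i, i < 17016 → P i := stepQ 17015 Q17015 (allL N17015 (tt N18811 (iv F160696)) (tt N18821 (iv F160746)) (tt N15048 F152574) (tt N18335 (iv F159073)) (tt N18747 (iv F160500)) (tt N18499 (iv F159643)) (tt N15047 (iv D32942)) (tt N18525 (iv F159770)) (tt N18746 (iv F160498)) (tt N18491 (iv F159601)))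
theorem Q17017 : ∀ i, i < 17017 → P i := stepQ 17016 Q17016 (allL N17016 (tt N15050 F152575) (tt N18812 (iv F160699)) (tt N15096 F152576) (tt N18064 (iv F158071)) (tt N17016 F152577) (tt N17579 F155703) (tt N15058 F152578) (tt N15049 (iv D32943)) (tt N18496 (iv F159628)) (tt N17016 F152579))
theorem Q17018 : ∀ i, i < 17018 → P i := stepQ 17017 Q17017 (allL N17017 (tt N18814 (iv F160708)) (tt N18580 (iv F159995)) (tt N15053 F152580) (tt N18341 (iv F159093)) (tt N18577 (iv F159984)) (tt N15060 F152581) (tt N15051 (iv D32944)) (tt N17017 F152582) (tt N18576 (iv F159980)) (tt N17017 F152583))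
theorem Q17019 : ∀ i, i < 17019 → P i := stepQ 17018 Q17018 (allL N17018 (tt N18815 (iv F160713)) (tt N15098 F152584) (tt N18577 (iv F159983)) (tt N17018 F152585) (tt N15053 F152586) (tt N18770 (iv F160571)) (tt N15052 (iv D32945)) (tt N17018 F152587) (tt N15182 F152588) (tt N17018 F152589))
theorem Q17020 : ∀ i, i < 17020 → P i := stepQ 17019 Q17019 (allL N17019 (tt N18816 (iv F160720)) (tt N15099 F152590) (tt N18576 (iv F159977)) (tt N15055 F152591) (tt N15182 F152592) (tt N18769 (iv F160566)) (tt N15054 F152593) (tt N17019 F152594) (tt N15053 (iv D32946)) (tt N15187 (iv F152595)))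
theorem Q17021 : ∀ i, i < 17021 → P i := stepQ 17020 Q17020 (allL N17020 (tt N18817 (iv F160727)) (tt N15101 F152596) (tt N18349 (iv F159128)) (tt N15187 F152597) (tt N17020 F152598) (tt N18771 (iv F160579)) (tt N15056 F152599) (tt N17020 F152600) (tt N17020 F152601) (tt N15055 (iv D32947)))
theorem Q17022 : ∀ i, i < 17022 → P i := stepQ 17021 Q17021 (allL N17021 (tt N15059 F152602) (tt N18818 (iv F160735)) (tt N15103 F152603) (tt N18350 (iv F159135)) (tt N18098 (iv F158197)) (tt N15058 F152604) (tt N18240 (iv F158684)) (tt N15057 (iv D32948)) (tt N18097 F158194) (tt N17021 F152605))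
theorem Q17023 : ∀ i, i < 17023 → P i := stepQ 17022 Q17022 (allL N17022 (tt N18240 (iv F158681)) (tt N15060 F152606) (tt N15106 F152607) (tt N18353 (iv F159148)) (tt N17250 (iv F153896)) (tt N18580 F160001) (tt N15059 (iv D32949)) (tt N17022 F152608) (tt N17249 F153892) (tt N17022 F152609))
theorem Q17024 : ∀ i, i < 17024 → P i := stepQ 17023 Q17023 (allL N17023 (tt N15062 F152610) (tt N17023 F152611) (tt N18070 (iv F158104)) (tt N15117 F152612) (tt N15175 F152613) (tt N17909 (iv F157273)) (tt N15141 F152614) (tt N15061 (iv D32950)) (tt N17023 F152615) (tt N15134 F152616))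
theorem Q17025 : ∀ i, i < 17025 → P i := stepQ 17024 Q17024 (allL N17024 (tt N17024 F152617) (tt N18757 (iv F160527)) (tt N15065 F152618) (tt N15120 F152619) (tt N15217 F152620) (tt N15143 F152621) (tt N15063 (iv D32951)) (tt N15089 F152622) (tt N15222 F152623) (tt N15135 F152624))
theorem Q17026 : ∀ i, i < 17026 → P i := stepQ 17025 Q17025 (allL N17025 (tt N17025 F152625) (tt N18527 (iv F159778)) (tt N15217 F152626) (tt N15194 F152627) (tt N15065 F152628) (tt N18822 D34749) (tt N15064 (iv D32952)) (tt N15091 F152629) (tt N15197 F152630) (tt N15136 F152631))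
theorem Q17027 : ∀ i, i < 17027 → P i := stepQ 17026 Q17026 (allL N17026 (tt N17026 F152632) (tt N18528 (iv F159784)) (tt N15222 F152633) (tt N15067 F152634) (tt N15197 F152635) (tt N18823 D34750) (tt N15066 F152636) (tt N15092 F152637) (tt N15065 (iv D32953)) (tt N15198 F152638))
theorem Q17028 : ∀ i, i < 17028 → P i := stepQ 17027 Q17027 (allL N17027 (tt N17027 F152639) (tt N18529 (iv F159790)) (tt N15126 F152640) (tt N18823 (iv F160758)) (tt N15211 F152641) (tt N15067 (iv D32954)) (tt N17027 F152642) (tt N15094 F152643) (tt N15146 F152644) (tt N18824 D34751))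
theorem Q17029 : ∀ i, i < 17029 → P i := stepQ 17028 Q17028 (allL N17028 (tt N17028 F152645) (tt N17255 (iv F153929)) (tt N15127 F152646) (tt N15198 F152647) (tt N15195 F152648) (tt N18824 (iv F160768)) (tt N15068 F152649) (tt N15095 F152650) (tt N15139 F152651) (tt N15067 (iv D32955)))
theorem Q17030 : ∀ i, i < 17030 → P i := stepQ 17029 Q17029 (allL N17029 (tt N15070 F152652) (tt N17029 F152653) (tt N18496 (iv F159625)) (tt N15134 F152654) (tt N17029 F152655) (tt N17530 (iv F155461)) (tt N15086 F152656) (tt N15069 (iv D32956)) (tt N15096 F152657) (tt N15117 F152658))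
theorem Q17031 : ∀ i, i < 17031 → P i := stepQ 17030 Q17030 (allL N17030 (tt N17030 F152659) (tt N18544 (iv F159850)) (tt N15073 F152660) (tt N15135 F152661) (tt N15145 F152662) (tt N15089 F152663) (tt N15071 (iv D32957)) (tt N15143 F152664) (tt N15144 F152665) (tt N15120 F152666))
theorem Q17032 : ∀ i, i < 17032 → P i := stepQ 17031 Q17031 (allL N17031 (tt N17031 F152667) (tt N18501 (iv F159652)) (tt N15145 F152668) (tt N15206 F152669) (tt N15073 F152670) (tt N18825 D34752) (tt N15072 (iv D32958)) (tt N15144 F152671) (tt N15143 F152672) (tt N15122 F152673))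
theorem Q17033 : ∀ i, i < 17033 → P i := stepQ 17032 Q17032 (allL N17032 (tt N17032 F152674) (tt N18502 (iv F159658)) (tt N15144 F152675) (tt N15075 F152676) (tt N15143 F152677) (tt N18826 D34753) (tt N15074 F152678) (tt N15145 F152679) (tt N15073 (iv D32959)) (tt N15154 (iv F152680)))
theorem Q17034 : ∀ i, i < 17034 → P i := stepQ 17033 Q17033 (allL N17033 (tt N17033 F152681) (tt N18503 (iv F159664)) (tt N15138 F152682) (tt N18826 (iv F160781)) (tt N15220 (iv F152686)) (tt N15075 (iv D32960)) (tt N15100 F152683) (tt N15146 F152684) (tt N15094 F152685) (tt N18827 D34754))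
theorem Q17035 : ∀ i, i < 17035 → P i := stepQ 17034 Q17034 (allL N17034 (tt N17034 F152687) (tt N18504 (iv F159669)) (tt N15139 F152688) (tt N15154 F152689) (tt N15209 F152690) (tt N18827 (iv F160791)) (tt N15076 F152691) (tt N15147 F152692) (tt N15127 F152693) (tt N15075 (iv D32961)))
theorem Q17036 : ∀ i, i < 17036 → P i := stepQ 17035 Q17035 (allL N17035 (tt N15078 F152694) (tt N17035 F152695) (tt N18487 (iv F159575)) (tt N15141 F152696) (tt N17035 F152697) (tt N17861 F157028) (tt N15117 F152698) (tt N15077 (iv D32962)) (tt N17035 F152699) (tt N15086 F152700))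
theorem Q17037 : ∀ i, i < 17037 → P i := stepQ 17036 Q17036 (allL N17036 (tt N17036 F152701) (tt N18733 (iv F160440)) (tt N15081 F152702) (tt N15143 F152703) (tt N15207 F152704) (tt N15120 F152705) (tt N15079 (iv D32963)) (tt N15135 F152706) (tt N15206 F152707) (tt N15089 F152708))
theorem Q17038 : ∀ i, i < 17038 → P i := stepQ 17037 Q17037 (allL N17037 (tt N17037 F152709) (tt N18493 (iv F159608)) (tt N15207 F152710) (tt N15200 F152711) (tt N15081 F152712) (tt N18828 D34755) (tt N15080 (iv D32964)) (tt N15136 F152713) (tt N15205 F152714) (tt N15091 F152715))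
theorem Q17039 : ∀ i, i < 17039 → P i := stepQ 17038 Q17038 (allL N17038 (tt N17038 F152716) (tt N18494 (iv F159614)) (tt N15206 F152717) (tt N15083 F152718) (tt N15205 F152719) (tt N18829 D34756) (tt N15082 F152720) (tt N15137 F152721) (tt N15081 (iv D32965)) (tt N15210 (iv F152722)))
theorem Q17040 : ∀ i, i < 17040 → P i := stepQ 17039 Q17039 (allL N17039 (tt N17039 F152723) (tt N18495 (iv F159620)) (tt N15146 F152724) (tt N18829 (iv F160804)) (tt N18830 D34757) (tt N15083 (iv D32966)) (tt N17039 F152725) (tt N15138 F152726) (tt N15126 F152727) (tt N18831 D34758))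
theorem Q17041 : ∀ i, i < 17041 → P i := stepQ 17040 Q17040 (allL N17040 (tt N17040 F152728) (tt N17265 (iv F153990)) (tt N15147 F152729) (tt N15210 F152730) (tt N15203 F152731) (tt N18831 (iv F160819)) (tt N15084 F152732) (tt N15139 F152733) (tt N15095 F152734) (tt N15083 (iv D32967)))
theorem Q17042 : ∀ i, i < 17042 → P i := stepQ 17041 Q17041 (allL N17041 (tt N15087 F152735) (tt N17041 F152736) (tt N18820 (iv F160744)) (tt N15149 F152737) (tt N17863 (iv F157038)) (tt N15086 F152738) (tt N18832 D34759) (tt N15085 (iv D32968)) (tt N17881 (iv F157128)) (tt N17861 F157029))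
theorem Q17043 : ∀ i, i < 17043 → P i := stepQ 17042 Q17042 (allL N17042 (tt N18832 (iv F160822)) (tt N15089 F152739) (tt N18821 (iv F160747)) (tt N15152 F152740) (tt N18735 (iv F160453)) (tt N18544 F159856) (tt N15087 (iv D32969)) (tt N18757 (iv F160532)) (tt N18745 (iv F160495)) (tt N18733 (iv F160446)))
theorem Q17044 : ∀ i, i < 17044 → P i := stepQ 17043 Q17043 (allL N17043 (tt N17043 F152741) (tt N18735 (iv F160451)) (tt N15091 F152742) (tt N15209 F152743) (tt N15089 F152744) (tt N18833 D34760) (tt N15088 (iv D32970)) (tt N15217 F152745) (tt N15213 F152746) (tt N15207 F152747))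
theorem Q17045 : ∀ i, i < 17045 → P i := stepQ 17044 Q17044 (allL N17044 (tt N17044 F152748) (tt N18745 (iv F160490)) (tt N15092 F152749) (tt N15155 F152750) (tt N15213 F152751) (tt N18834 D34761) (tt N15090 F152752) (tt N15222 F152753) (tt N15089 (iv D32971)) (tt N15212 F152754))
theorem Q17046 : ∀ i, i < 17046 → P i := stepQ 17045 Q17045 (allL N17045 (tt N17045 F152755) (tt N18749 (iv F160505)) (tt N18833 (iv F160826)) (tt N15204 F152756) (tt N18825 (iv F160774)) (tt N15091 (iv D32972)) (tt N17045 F152757) (tt N18822 (iv F160753)) (tt N18835 D34762) (tt N18828 (iv F160801)))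
theorem Q17047 : ∀ i, i < 17047 → P i := stepQ 17046 Q17046 (allL N17046 (tt N17046 F152758) (tt N18748 (iv F160502)) (tt N18834 (iv F160834)) (tt N15094 F152759) (tt N18836 D34763) (tt N15092 (iv D32973)) (tt N15112 F152760) (tt N18823 (iv F160761)) (tt N18826 (iv F160785)) (tt N18837 D34764))
theorem Q17048 : ∀ i, i < 17048 → P i := stepQ 17047 Q17047 (allL N17047 (tt N17047 F152761) (tt N17142 (iv F153270)) (tt N15212 F152762) (tt N15095 F152763) (tt N15192 F152764) (tt N18837 (iv F160861)) (tt N15093 F152765) (tt N15198 F152766) (tt N15210 F152767) (tt N15092 (iv D32974)))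
theorem Q17049 : ∀ i, i < 17049 → P i := stepQ 17048 Q17048 (allL N17048 (tt N17048 F152768) (tt N17264 (iv F153985)) (tt N15161 F152769) (tt N18837 (iv F160859)) (tt N15215 F152770) (tt N15095 F152771) (tt N15114 F152772) (tt N18824 (iv F160770)) (tt N18838 D34765) (tt N15094 (iv D32975)))
theorem Q17050 : ∀ i, i < 17050 → P i := stepQ 17049 Q17049 (allL N17049 (tt N17049 F152773) (tt N18770 (iv F160569)) (tt N15184 F152774) (tt N17049 F152775) (tt N15111 F152776) (tt N15098 (iv D32976)) (tt N17049 F152777) (tt N17049 F152778) (tt N15232 F152779) (tt N17049 F152780))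
theorem Q17051 : ∀ i, i < 17051 → P i := stepQ 17050 Q17050 (allL N17050 (tt N17050 F152781) (tt N18769 (iv F160563)) (tt N15183 F152782) (tt N15100 F152783) (tt N15231 F152784) (tt N15099 (iv D32977)) (tt N18826 (iv F160783)) (tt N17050 F152785) (tt N15112 F152786) (tt N15188 F152787))
theorem Q17052 : ∀ i, i < 17052 → P i := stepQ 17051 Q17051 (allL N17051 (tt N17051 F152788) (tt N18771 (iv F160576)) (tt N15164 F152789) (tt N15188 F152790) (tt N15223 F152791) (tt N15101 F152792) (tt N18827 (iv F160792)) (tt N17051 F152793) (tt N18839 D34766) (tt N15100 (iv D32978)))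
theorem Q17053 : ∀ i, i < 17053 → P i := stepQ 17052 Q17052 (allL N17052 (tt N17052 F152794) (tt N17272 (iv F154032)) (tt N15112 F152795) (tt N15170 F152796) (tt N15227 F152797) (tt N15109 (iv D32979)) (tt N18834 (iv F160837)) (tt N17052 F152798) (tt N15183 F152799) (tt N15230 F152800))
theorem Q17054 : ∀ i, i < 17054 → P i := stepQ 17053 Q17053 (allL N17053 (tt N17053 F152801) (tt N18571 (iv F159950)) (tt N15227 F152802) (tt N15180 F152803) (tt N15112 (iv D32980)) (tt N15174 F152804) (tt N18836 (iv F160853)) (tt N17053 F152805) (tt N15231 F152806) (tt N15226 (iv F152807)))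
theorem Q17055 : ∀ i, i < 17055 → P i := stepQ 17054 Q17054 (allL N17054 (tt N17054 F152808) (tt N17148 (iv F153313)) (tt N15230 F152809) (tt N15114 F152810) (tt N15226 F152811) (tt N15113 F152812) (tt N18837 (iv F160862)) (tt N17054 F152813) (tt N15228 (iv F152814)) (tt N15112 (iv D32981)))
theorem Q17056 : ∀ i, i < 17056 → P i := stepQ 17055 Q17055 (allL N17055 (tt N17055 F152815) (tt N17277 (iv F154066)) (tt N15172 F152816) (tt N15228 F152817) (tt N15170 F152818) (tt N17055 F152819) (tt N18838 (iv F160869)) (tt N17055 F152820) (tt N15114 (iv D32982)) (tt N18839 (iv F160876)))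
theorem Q17057 : ∀ i, i < 17057 → P i := stepQ 17056 Q17056 (allL N17056 (tt N15118 F152821) (tt N17056 F152822) (tt N18505 (iv F159676)) (tt N17909 (iv F157271)) (tt N17532 (iv F155471)) (tt N15117 F152823) (tt N18840 D34767) (tt N15116 (iv D32983)) (tt N17553 (iv F155558)) (tt N17530 F155463))
theorem Q17058 : ∀ i, i < 17058 → P i := stepQ 17057 Q17057 (allL N17057 (tt N18840 (iv F160877)) (tt N15120 F152824) (tt N18507 (iv F159685)) (tt N18757 (iv F160528)) (tt N18546 (iv F159862)) (tt N18733 F160445) (tt N15118 (iv D32984)) (tt N15152 F152825) (tt N18564 (iv F159923)) (tt N18544 F159855))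
theorem Q17059 : ∀ i, i < 17059 → P i := stepQ 17058 Q17058 (allL N17058 (tt N17058 F152826) (tt N18546 (iv F159860)) (tt N15122 F152827) (tt N15147 F152828) (tt N15120 F152829) (tt N18841 D34768) (tt N15119 (iv D32985)) (tt N15154 F152830) (tt N15159 F152831) (tt N15145 F152832))
theorem Q17060 : ∀ i, i < 17060 → P i := stepQ 17059 Q17059 (allL N17059 (tt N17059 F152833) (tt N18564 (iv F159918)) (tt N15124 F152834) (tt N15222 F152835) (tt N15159 F152836) (tt N18842 D34769) (tt N15121 F152837) (tt N15155 F152838) (tt N15120 (iv D32986)) (tt N15157 F152839))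
theorem Q17061 : ∀ i, i < 17061 → P i := stepQ 17060 Q17060 (allL N17060 (tt N17060 F152840) (tt N18514 (iv F159714)) (tt N18841 (iv F160881)) (tt N15211 F152841) (tt N18828 (iv F160797)) (tt N15122 (iv D32987)) (tt N17060 F152842) (tt N15156 F152843) (tt N18843 D34770) (tt N18825 (iv F160778)))
theorem Q17062 : ∀ i, i < 17062 → P i := stepQ 17061 Q17061 (allL N17061 (tt N17061 F152844) (tt N18515 (iv F159718)) (tt N15159 F152845) (tt N15212 F152846) (tt N15124 F152847) (tt N18844 D34771) (tt N15123 F152848) (tt N15157 F152849) (tt N15122 (iv D32988)) (tt N15155 F152850))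
theorem Q17063 : ∀ i, i < 17063 → P i := stepQ 17062 Q17062 (allL N17062 (tt N17062 F152851) (tt N18516 (iv F159724)) (tt N18842 (iv F160888)) (tt N15126 F152852) (tt N18845 D34772) (tt N15124 (iv D32989)) (tt N17062 F152853) (tt N15158 F152854) (tt N18829 (iv F160808)) (tt N18846 D34773))
theorem Q17064 : ∀ i, i < 17064 → P i := stepQ 17063 Q17063 (allL N17063 (tt N17063 F152855) (tt N18517 (iv F159728)) (tt N15157 F152856) (tt N15127 F152857) (tt N15155 F152858) (tt N18846 (iv F160915)) (tt N15125 F152859) (tt N15159 F152860) (tt N15154 F152861) (tt N15124 (iv D32990)))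
theorem Q17065 : ∀ i, i < 17065 → P i := stepQ 17064 Q17064 (allL N17064 (tt N17064 F152862) (tt N18518 (iv F159734)) (tt N15211 F152863) (tt N18831 (iv F160818)) (tt N15126 (iv D32991)) (tt N15210 F152864) (tt N17064 F152865) (tt N15160 F152866) (tt N18830 (iv F160815)) (tt N18829 (iv F160809)))
theorem Q17066 : ∀ i, i < 17066 → P i := stepQ 17065 Q17065 (allL N17065 (tt N17065 F152867) (tt N18519 (iv F159738)) (tt N18824 (iv F160765)) (tt N18846 (iv F160914)) (tt N18829 (iv F160805)) (tt N15127 F152868) (tt N17065 F152869) (tt N15161 F152870) (tt N18845 (iv F160911)) (tt N15126 (iv D32992)))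
theorem Q17067 : ∀ i, i < 17067 → P i := stepQ 17066 Q17066 (allL N17066 (tt N17066 F152871) (tt N17143 (iv F153277)) (tt N15130 F152872) (tt N15205 F152873) (tt N15201 F152874) (tt N15213 F152875) (tt N15128 (iv D32993)) (tt N15199 F152876) (tt N15200 F152877) (tt N15193 F152878))
theorem Q17068 : ∀ i, i < 17068 → P i := stepQ 17067 Q17067 (allL N17067 (tt N17067 F152879) (tt N18521 (iv F159746)) (tt N15201 F152880) (tt N15136 F152881) (tt N15130 F152882) (tt N18836 (iv F160852)) (tt N15129 (iv D32994)) (tt N15200 F152883) (tt N15199 F152884) (tt N15194 F152885))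
theorem Q17069 : ∀ i, i < 17069 → P i := stepQ 17068 Q17068 (allL N17068 (tt N17068 F152886) (tt N17258 (iv F153949)) (tt N15200 F152887) (tt N15132 F152888) (tt N15199 F152889) (tt N18835 (iv F160845)) (tt N15131 F152890) (tt N15201 F152891) (tt N15130 (iv D32995)) (tt N15196 F152892))
theorem Q17070 : ∀ i, i < 17070 → P i := stepQ 17069 Q17069 (allL N17069 (tt N17069 F152893) (tt N18522 (iv F159752)) (tt N15208 F152894) (tt N18835 (iv F160843)) (tt N18847 D34774) (tt N15132 (iv D32996)) (tt N17069 F152895) (tt N15202 F152896) (tt N15204 F152897) (tt N18848 D34775))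
theorem Q17071 : ∀ i, i < 17071 → P i := stepQ 17070 Q17070 (allL N17070 (tt N17070 F152898) (tt N17256 (iv F153936)) (tt N15209 F152899) (tt N15196 F152900) (tt N15139 F152901) (tt N18848 (iv F160927)) (tt N15133 F152902) (tt N15203 F152903) (tt N15195 F152904) (tt N15132 (iv D32997)))
theorem Q17072 : ∀ i, i < 17072 → P i := stepQ 17071 Q17071 (allL N17071 (tt N17071 F152905) (tt N18534 (iv F159813)) (tt N15216 F152906) (tt N18836 (iv F160851)) (tt N15156 F152907) (tt N15136 (iv D32998)) (tt N15180 F152908) (tt N18828 (iv F160799)) (tt N15219 F152909) (tt N18822 (iv F160755)))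
theorem Q17073 : ∀ i, i < 17073 → P i := stepQ 17072 Q17072 (allL N17072 (tt N17072 F152910) (tt N18535 (iv F159817)) (tt N15215 F152911) (tt N15138 F152912) (tt N15161 F152913) (tt N15137 (iv D32999)) (tt N15162 F152914) (tt N18829 (iv F160807)) (tt N15158 F152915) (tt N15160 F152916))
theorem Q17074 : ∀ i, i < 17074 → P i := stepQ 17073 Q17073 (allL N17073 (tt N17073 F152917) (tt N18536 (iv F159823)) (tt N15220 F152918) (tt N18849 D34776) (tt N15138 (iv D33000)) (tt N18847 (iv F160920)) (tt N15163 F152919) (tt N18830 (iv F160814)) (tt N15160 F152920) (tt N18850 D34777))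
theorem Q17075 : ∀ i, i < 17075 → P i := stepQ 17074 Q17074 (allL N17074 (tt N17074 F152921) (tt N18537 (iv F159826)) (tt N18827 (iv F160788)) (tt N15160 F152922) (tt N18850 (iv F160939)) (tt N15139 F152923) (tt N15164 F152924) (tt N18831 (iv F160821)) (tt N18849 (iv F160934)) (tt N15138 (iv D33001)))
theorem Q17076 : ∀ i, i < 17076 → P i := stepQ 17075 Q17075 (allL N17075 (tt N15142 F152925) (tt N17075 F152926) (tt N18538 (iv F159831)) (tt N17861 (iv F157025)) (tt N17481 (iv F155206)) (tt N15141 F152927) (tt N18851 D34778) (tt N15140 (iv D33002)) (tt N17479 (iv F155195)) (tt N15149 F152928))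
theorem Q17077 : ∀ i, i < 17077 → P i := stepQ 17076 Q17076 (allL N17076 (tt N18851 (iv F160942)) (tt N15143 F152929) (tt N18539 (iv F159835)) (tt N18733 (iv F160441)) (tt N18502 (iv F159660)) (tt N18757 (iv F160530)) (tt N15142 (iv D33003)) (tt N18544 (iv F159854)) (tt N18501 (iv F159656)) (tt N15152 F152930))
theorem Q17078 : ∀ i, i < 17078 → P i := stepQ 17077 Q17077 (allL N17077 (tt N17077 F152931) (tt N18543 (iv F159846)) (tt N18826 (iv F160780)) (tt N15215 F152932) (tt N18822 (iv F160751)) (tt N15144 (iv D33004)) (tt N15183 F152933) (tt N18825 (iv F160776)) (tt N18834 (iv F160839)) (tt N15156 F152934))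
theorem Q17079 : ∀ i, i < 17079 → P i := stepQ 17078 Q17078 (allL N17078 (tt N17078 F152935) (tt N18545 (iv F159857)) (tt N18825 (iv F160772)) (tt N15146 F152936) (tt N18833 (iv F160828)) (tt N15145 (iv D33005)) (tt N17078 F152937) (tt N18826 (iv F160784)) (tt N18823 (iv F160762)) (tt N18841 (iv F160886)))
theorem Q17080 : ∀ i, i < 17080 → P i := stepQ 17079 Q17079 (allL N17079 (tt N17079 F152938) (tt N18547 (iv F159866)) (tt N18830 (iv F160811)) (tt N18843 (iv F160895)) (tt N15146 (iv D33006)) (tt N15218 F152939) (tt N17079 F152940) (tt N15220 F152941) (tt N15211 F152942) (tt N18852 D34779))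
theorem Q17081 : ∀ i, i < 17081 → P i := stepQ 17080 Q17080 (allL N17080 (tt N17080 F152943) (tt N18548 (iv F159871)) (tt N18831 (iv F160817)) (tt N18841 (iv F160882)) (tt N18852 (iv F160947)) (tt N15147 F152944) (tt N17080 F152945) (tt N18827 (iv F160793)) (tt N18853 D34780) (tt N15146 (iv D33007)))
theorem Q17082 : ∀ i, i < 17082 → P i := stepQ 17081 Q17081 (allL N17081 (tt N15151 F152946) (tt N17081 F152947) (tt N18550 (iv F159877)) (tt N17483 (iv F155217)) (tt N15149 F152948) (tt N15185 F152949) (tt N18854 D34781) (tt N15148 (iv D33008)) (tt N17498 (iv F155292)) (tt N17481 F155209))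
theorem Q17083 : ∀ i, i < 17083 → P i := stepQ 17082 Q17082 (allL N17082 (tt N15152 F152950) (tt N17082 F152951) (tt N18551 (iv F159881)) (tt N18832 (iv F160824)) (tt N18854 (iv F160958)) (tt N17908 F157268) (tt N15149 (iv D33009)) (tt N18840 (iv F160879)) (tt N18855 D34782) (tt N18851 (iv F160944)))
theorem Q17084 : ∀ i, i < 17084 → P i := stepQ 17083 Q17083 (allL N17083 (tt N15153 F152952) (tt N17083 F152953) (tt N18552 (iv F159883)) (tt N17881 (iv F157124)) (tt N17498 (iv F155289)) (tt N15166 F152954) (tt N18855 (iv F160961)) (tt N15150 F152955) (tt N15149 (iv D33010)) (tt N17496 (iv F155279)))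
theorem Q17085 : ∀ i, i < 17085 → P i := stepQ 17084 Q17084 (allL N17084 (tt N18854 (iv F160956)) (tt N15154 F152956) (tt N18554 (iv F159890)) (tt N18504 (iv F159670)) (tt N15152 F152957) (tt N18758 (iv F160535)) (tt N15151 (iv D33011)) (tt N18546 (iv F159864)) (tt N18517 (iv F159733)) (tt N18502 F159663))
theorem Q17086 : ∀ i, i < 17086 → P i := stepQ 17085 Q17085 (allL N17085 (tt N18855 (iv F160959)) (tt N15155 F152958) (tt N18555 (iv F159893)) (tt N18745 (iv F160491)) (tt N18517 (iv F159730)) (tt N18756 (iv F160525)) (tt N15153 F152959) (tt N18564 (iv F159922)) (tt N15152 (iv D33012)) (tt N18515 (iv F159723)))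
theorem Q17087 : ∀ i, i < 17087 → P i := stepQ 17086 Q17086 (allL N17086 (tt N17086 F152960) (tt N18758 (iv F160534)) (tt N15156 F152961) (tt N18827 (iv F160789)) (tt N15216 F152962) (tt N15154 (iv D33013)) (tt N15188 F152963) (tt N18841 (iv F160885)) (tt N18856 D34783) (tt N18826 (iv F160786)))
theorem Q17088 : ∀ i, i < 17088 → P i := stepQ 17087 Q17087 (allL N17087 (tt N17087 F152964) (tt N18756 (iv F160524)) (tt N15158 F152965) (tt N18834 (iv F160835)) (tt N18838 (iv F160868)) (tt N15155 (iv D33014)) (tt N15170 F152966) (tt N18842 (iv F160891)) (tt N15215 F152967) (tt N18844 (iv F160907)))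
theorem Q17089 : ∀ i, i < 17089 → P i := stepQ 17088 Q17088 (allL N17088 (tt N17088 F152968) (tt N18562 (iv F159910)) (tt N18856 (iv F160963)) (tt N15220 F152969) (tt N15219 F152970) (tt N18852 (iv F160948)) (tt N15189 F152971) (tt N18843 (iv F160898)) (tt N15156 (iv D33015)) (tt N15218 (iv F152972)))
theorem Q17090 : ∀ i, i < 17090 → P i := stepQ 17089 Q17089 (allL N17089 (tt N17089 F152973) (tt N18563 (iv F159915)) (tt N18846 (iv F160913)) (tt N15221 F152974) (tt N18853 (iv F160953)) (tt N15157 (iv D33016)) (tt N17089 F152975) (tt N18844 (iv F160905)) (tt N18852 (iv F160951)) (tt N18842 (iv F160893)))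
theorem Q17091 : ∀ i, i < 17091 → P i := stepQ 17090 Q17090 (allL N17090 (tt N17090 F152976) (tt N18565 (iv F159924)) (tt N18838 (iv F160866)) (tt N18850 (iv F160938)) (tt N15158 (iv D33017)) (tt N18853 (iv F160954)) (tt N15172 F152977) (tt N18845 (iv F160910)) (tt N15161 F152978) (tt N18849 F160935))
theorem Q17092 : ∀ i, i < 17092 → P i := stepQ 17091 Q17091 (allL N17091 (tt N17091 F152979) (tt N18566 (iv F159927)) (tt N18844 (iv F160902)) (tt N15161 F152980) (tt N18849 (iv F160932)) (tt N15159 F152981) (tt N15173 F152982) (tt N18846 (iv F160917)) (tt N18850 (iv F160941)) (tt N15158 (iv D33018)))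
theorem Q17093 : ∀ i, i < 17093 → P i := stepQ 17092 Q17092 (allL N17092 (tt N17092 F152983) (tt N18567 (iv F159931)) (tt N18839 (iv F160871)) (tt N15163 (iv D33019)) (tt N15173 F152984) (tt N17092 F152985) (tt N18849 (iv F160933)) (tt N17092 F152986) (tt N15164 F152987) (tt N15172 (iv F152988)))
theorem Q17094 : ∀ i, i < 17094 → P i := stepQ 17093 Q17093 (allL N17093 (tt N17093 F152989) (tt N18568 (iv F159937)) (tt N15223 F152990) (tt N15172 F152991) (tt N15164 F152992) (tt N17093 F152993) (tt N18850 (iv F160940)) (tt N17093 F152994) (tt N15173 F152995) (tt N15163 (iv D33020)))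
theorem Q17095 : ∀ i, i < 17095 → P i := stepQ 17094 Q17094 (allL N17094 (tt N17094 F152996) (tt N17271 (iv F154026)) (tt N15173 F152997) (tt N15230 F152998) (tt N18839 (iv F160873)) (tt N15171 F152999) (tt N18844 (iv F160904)) (tt N17094 F153000) (tt N15223 F153001) (tt N15170 (iv D33021)))
theorem Q17096 : ∀ i, i < 17096 → P i := stepQ 17095 Q17095 (allL N17095 (tt N17095 F153002) (tt N17273 (iv F154039)) (tt N15231 F153003) (tt N15226 F153004) (tt N15183 F153005) (tt N15177 (iv D33022)) (tt N18822 (iv F160752)) (tt N17095 F153006) (tt N15227 F153007) (tt N15180 F153008))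
theorem Q17097 : ∀ i, i < 17097 → P i := stepQ 17096 Q17096 (allL N17096 (tt N15182 F153009) (tt N17096 F153010) (tt N18154 (iv F158415)) (tt N17096 F153011) (tt N18816 (iv F160723)) (tt N17986 (iv F157680)) (tt N15181 (iv D33023)) (tt N17096 F153012) (tt N18815 (iv F160718)) (tt N15186 F153013))
theorem Q17098 : ∀ i, i < 17098 → P i := stepQ 17097 Q17097 (allL N17097 (tt N15187 F153014) (tt N17097 F153015) (tt N18153 (iv F158409)) (tt N18817 (iv F160729)) (tt N15186 F153016) (tt N17987 (iv F157686)) (tt N15185 (iv D33024)) (tt N17097 F153017) (tt N17097 F153018) (tt N18816 F160726))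
theorem Q17099 : ∀ i, i < 17099 → P i := stepQ 17098 Q17098 (allL N17098 (tt N17098 F153019) (tt N17270 (iv F154020)) (tt N15189 F153020) (tt N18839 (iv F160872)) (tt N15229 F153021) (tt N17098 F153022) (tt N18856 (iv F160965)) (tt N17098 F153023) (tt N15188 (iv D33025)) (tt N15228 F153024))
theorem Q17100 : ∀ i, i < 17100 → P i := stepQ 17099 Q17099 (allL N17099 (tt N18264 (iv F158760)) (tt N15202 F153025) (tt N18610 (iv F160104)) (tt N17268 (iv F154010)) (tt N18857 D34784) (tt N15191 (iv D33026)) (tt N15225 F153026) (tt N18522 (iv F159754)) (tt N18727 (iv F160419)) (tt N17266 (iv F154001)))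
theorem Q17101 : ∀ i, i < 17101 → P i := stepQ 17100 Q17100 (allL N17100 (tt N17100 F153027) (tt N18727 (iv F160416)) (tt N15214 F153028) (tt N18822 (iv F160750)) (tt N18837 (iv F160860)) (tt N15194 (iv D33027)) (tt N15226 F153029) (tt N15204 F153030) (tt N15202 F153031) (tt N18836 F160856))
theorem Q17102 : ∀ i, i < 17102 → P i := stepQ 17101 Q17101 (allL N17101 (tt N17101 F153032) (tt N17257 (iv F153943)) (tt N15204 F153033) (tt N18848 (iv F160926)) (tt N15221 F153034) (tt N15196 (iv D33028)) (tt N17101 F153035) (tt N15214 F153036) (tt N15208 F153037) (tt N18835 (iv F160848)))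
theorem Q17103 : ∀ i, i < 17103 → P i := stepQ 17102 Q17102 (allL N17102 (tt N17102 F153038) (tt N18750 (iv F160508)) (tt N15221 F153039) (tt N18824 (iv F160766)) (tt N15204 F153040) (tt N15198 (iv D33029)) (tt N17102 F153041) (tt N18837 (iv F160863)) (tt N18847 (iv F160923)) (tt N18823 (iv F160763)))
theorem Q17104 : ∀ i, i < 17104 → P i := stepQ 17103 Q17103 (allL N17103 (tt N17103 F153042) (tt N18751 (iv F160511)) (tt N18835 (iv F160842)) (tt N18828 (iv F160796)) (tt N18823 (iv F160759)) (tt N15200 (iv D33030)) (tt N17103 F153043) (tt N18836 (iv F160854)) (tt N18833 (iv F160831)) (tt N15204 F153044))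
theorem Q17105 : ∀ i, i < 17105 → P i := stepQ 17104 Q17104 (allL N17104 (tt N17104 F153045) (tt N17268 (iv F154009)) (tt N18836 (iv F160850)) (tt N15202 F153046) (tt N18834 (iv F160836)) (tt N15201 (iv D33031)) (tt N15227 F153047) (tt N18835 (iv F160847)) (tt N18822 (iv F160754)) (tt N15214 F153048))
theorem Q17106 : ∀ i, i < 17106 → P i := stepQ 17105 Q17105 (allL N17105 (tt N17105 F153049) (tt N18857 (iv F160967)) (tt N15218 F153050) (tt N18838 (iv F160867)) (tt N15202 (iv D33032)) (tt N18830 (iv F160812)) (tt N15228 F153051) (tt N18847 (iv F160922)) (tt N18837 (iv F160864)) (tt N18856 (iv F160966)))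
theorem Q17107 : ∀ i, i < 17107 → P i := stepQ 17106 Q17106 (allL N17106 (tt N17106 F153052) (tt N17266 (iv F153997)) (tt N15219 F153053) (tt N15214 F153054) (tt N18856 (iv F160964)) (tt N15203 F153055) (tt N15229 F153056) (tt N18848 (iv F160929)) (tt N15216 (iv F153057)) (tt N15202 (iv D33033)))
theorem Q17108 : ∀ i, i < 17108 → P i := stepQ 17107 Q17107 (allL N17107 (tt N17107 F153058) (tt N18732 (iv F160436)) (tt N18829 (iv F160803)) (tt N18825 (iv F160773)) (tt N18824 (iv F160767)) (tt N15206 (iv D33034)) (tt N17107 F153059) (tt N15215 F153060) (tt N18842 (iv F160892)) (tt N15211 F153061))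
theorem Q17109 : ∀ i, i < 17109 → P i := stepQ 17108 Q17108 (allL N17108 (tt N17108 F153062) (tt N18734 (iv F160447)) (tt N18828 (iv F160795)) (tt N15208 F153063) (tt N18841 (iv F160883)) (tt N15207 (iv D33035)) (tt N17108 F153064) (tt N15216 F153065) (tt N18848 (iv F160930)) (tt N18833 (iv F160832)))
theorem Q17110 : ∀ i, i < 17110 → P i := stepQ 17109 Q17109 (allL N17109 (tt N17109 F153066) (tt N18736 (iv F160457)) (tt N18847 (iv F160919)) (tt N18852 (iv F160946)) (tt N15208 (iv D33036)) (tt N15220 F153067) (tt N17109 F153068) (tt N15218 F153069) (tt N15221 F153070) (tt N18843 (iv F160899)))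
theorem Q17111 : ∀ i, i < 17111 → P i := stepQ 17110 Q17110 (allL N17110 (tt N17110 F153071) (tt N18737 (iv F160462)) (tt N18848 (iv F160925)) (tt N18833 (iv F160827)) (tt N18843 (iv F160896)) (tt N15209 F153072) (tt N17110 F153073) (tt N15219 F153074) (tt N18828 (iv F160800)) (tt N15208 (iv D33037)))
theorem Q17112 : ∀ i, i < 17112 → P i := stepQ 17111 Q17111 (allL N17111 (tt N17111 F153075) (tt N17267 (iv F154003)) (tt N18837 (iv F160858)) (tt N18844 (iv F160903)) (tt N15214 F153076) (tt N15212 (iv D33038)) (tt N15230 F153077) (tt N15221 F153078) (tt N15218 F153079) (tt N18834 (iv F160840)))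
theorem Q17113 : ∀ i, i < 17113 → P i := stepQ 17112 Q17112 (allL N17112 (tt N17112 F153080) (tt N18759 (iv F160537)) (tt N18822 (iv F160749)) (tt N15219 F153081) (tt N18826 (iv F160782)) (tt N15217 F153082) (tt N15231 F153083) (tt N18833 (iv F160830)) (tt N18836 (iv F160855)) (tt N15216 (iv D33039)))
theorem Q17114 : ∀ i, i < 17114 → P i := stepQ 17113 Q17113 (allL N17113 (tt N17113 F153084) (tt N18760 (iv F160541)) (tt N18850 (iv F160937)) (tt N15218 (iv D33040)) (tt N18827 (iv F160790)) (tt N18843 F160900) (tt N15223 F153085) (tt N18852 (iv F160950)) (tt N18844 (iv F160906)) (tt N15220 F153086))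
theorem Q17115 : ∀ i, i < 17115 → P i := stepQ 17114 Q17114 (allL N17114 (tt N17114 F153087) (tt N18767 (iv F160558)) (tt N18823 (iv F160757)) (tt N18842 (iv F160889)) (tt N18835 (iv F160844)) (tt N15222 F153088) (tt N17114 F153089) (tt N18834 (iv F160838)) (tt N18825 (iv F160777)) (tt N15221 (iv D33041)))
theorem Q17116 : ∀ i, i < 17116 → P i := stepQ 17115 Q17115 (allL N17115 (tt N18106 (iv F158224)) (tt N15226 F153090) (tt N17185 (iv F153533)) (tt N17273 (iv F154040)) (tt N17148 (iv F153315)) (tt N15224 (iv D33042)) (tt N18727 (iv F160417)) (tt N17115 F153091) (tt N15225 F153092) (tt N18571 (iv F159955)))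
theorem Q17117 : ∀ i, i < 17117 → P i := stepQ 17116 Q17116 (allL N17116 (tt N18113 (iv F158257)) (tt N15228 F153093) (tt N18780 (iv F160606)) (tt N17277 (iv F154067)) (tt N15225 (iv D33043)) (tt N17116 F153094) (tt N18857 (iv F160968)) (tt N17116 F153095) (tt N17148 F153318) (tt N17270 (iv F154024)))
theorem Q17118 : ∀ i, i < 17118 → P i := stepQ 17117 Q17117 (allL N17117 (tt N15244 F153096) (tt N17117 F153097) (tt N15243 F153098) (tt N15240 F153099) (tt N15242 F153100) (tt N15433 F153104) (tt N15239 F153101) (tt N17117 F153102) (tt N15238 (iv D33044)) (tt N15680 F153103))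
theorem Q17119 : ∀ i, i < 17119 → P i := stepQ 17118 Q17118 (allL N17118 (tt N15245 F153105) (tt N17118 F153106) (tt N15407 F153107) (tt N15433 F153108) (tt N16101 F153109) (tt N15240 (iv D33045)) (tt N17118 F153110) (tt N17118 F153111) (tt N17118 F153112) (tt N18858 D34785))
theorem Q17120 : ∀ i, i < 17120 → P i := stepQ 17119 Q17119 (allL N17119 (tt N15246 F153113) (tt N17119 F153114) (tt N15408 F153115) (tt N15680 F153116) (tt N16103 F153117) (tt N18858 (iv F160974)) (tt N15241 F153118) (tt N17119 F153119) (tt N15679 F153120) (tt N15240 (iv D33046)))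
theorem Q17121 : ∀ i, i < 17121 → P i := stepQ 17120 Q17120 (allL N17120 (tt N18858 (iv F160969)) (tt N15249 F153121) (tt N15418 F153122) (tt N16422 F153123) (tt N16976 F153124) (tt N15246 F153125) (tt N17120 F153126) (tt N17120 F153127) (tt N16943 (iv F153128)) (tt N15245 (iv D33047)))
theorem Q17122 : ∀ i, i < 17122 → P i := stepQ 17121 Q17121 (allL N17121 (tt N16217 F153129) (tt N16807 F153130) (tt N15254 F153131) (tt N18859 D34786) (tt N15252 (iv D33048)) (tt N15540 F153132) (tt N16745 F153133) (tt N18860 D34787) (tt N16803 F153134) (tt N16820 F153135))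
theorem Q17123 : ∀ i, i < 17123 → P i := stepQ 17122 Q17122 (allL N17122 (tt N16218 F153136) (tt N16809 F153137) (tt N15255 F153138) (tt N15271 F153139) (tt N18860 (iv F160989)) (tt N15253 F153140) (tt N18861 D34788) (tt N15252 (iv D33049)) (tt N16804 F153141) (tt N16821 F153142))
theorem Q17124 : ∀ i, i < 17124 → P i := stepQ 17123 Q17123 (allL N17123 (tt N16219 F153143) (tt N16788 F153144) (tt N18860 (iv F160988)) (tt N15342 F153145) (tt N15255 F153146) (tt N15543 F153147) (tt N18862 D34789) (tt N15254 (iv D33050)) (tt N18863 D34790) (tt N16823 F153148))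
theorem Q17125 : ∀ i, i < 17125 → P i := stepQ 17124 Q17124 (allL N17124 (tt N16220 F153149) (tt N16738 F153150) (tt N16803 F153151) (tt N15343 F153152) (tt N15256 F153153) (tt N18864 D34791) (tt N16748 F153154) (tt N18863 (iv F161012)) (tt N15254 (iv D33051)) (tt N18865 D34792))
theorem Q17126 : ∀ i, i < 17126 → P i := stepQ 17125 Q17125 (allL N17125 (tt N16221 F153155) (tt N16789 F153156) (tt N18861 (iv F160995)) (tt N15257 F153157) (tt N18862 (iv F161004)) (tt N16742 F153158) (tt N15255 (iv D33052)) (tt N16749 F153159) (tt N18866 D34793) (tt N16824 F153160))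
theorem Q17127 : ∀ i, i < 17127 → P i := stepQ 17126 Q17126 (allL N17126 (tt N16222 F153161) (tt N16739 F153162) (tt N16804 F153163) (tt N15258 F153164) (tt N18863 (iv F161011)) (tt N15262 F153165) (tt N18866 (iv F161031)) (tt N15256 F153166) (tt N15255 (iv D33053)) (tt N18867 D34794))
theorem Q17128 : ∀ i, i < 17128 → P i := stepQ 17127 Q17127 (allL N17127 (tt N16223 F153167) (tt N16518 F153168) (tt N16791 F153169) (tt N15259 F153170) (tt N18865 (iv F161023)) (tt N15263 F153171) (tt N16751 F153172) (tt N18867 (iv F161038)) (tt N16826 F153173) (tt N15256 (iv D33054)))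
theorem Q17129 : ∀ i, i < 17129 → P i := stepQ 17128 Q17128 (allL N17128 (tt N16224 F153174) (tt N16790 F153175) (tt N15274 F153176) (tt N18866 (iv F161029)) (tt N15347 F153177) (tt N16896 F153178) (tt N15258 F153179) (tt N16752 F153180) (tt N15257 (iv D33055)) (tt N18868 D34795))
theorem Q17130 : ∀ i, i < 17130 → P i := stepQ 17129 Q17129 (allL N17129 (tt N16225 F153181) (tt N16642 F153182) (tt N15275 F153183) (tt N18867 (iv F161036)) (tt N15348 F153184) (tt N15264 F153185) (tt N18868 (iv F161045)) (tt N15259 F153186) (tt N16828 F153187) (tt N15258 (iv D33056)))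
theorem Q17131 : ∀ i, i < 17131 → P i := stepQ 17130 Q17130 (allL N17130 (tt N16226 F153188) (tt N15520 F153189) (tt N16777 F153190) (tt N15265 F153191) (tt N15262 F153192) (tt N18869 D34796) (tt N15539 F153193) (tt N15261 F153194) (tt N15260 (iv D33057)) (tt N18870 D34797))
theorem Q17132 : ∀ i, i < 17132 → P i := stepQ 17131 Q17131 (allL N17131 (tt N16227 F153195) (tt N15519 F153196) (tt N16776 F153197) (tt N15266 F153198) (tt N18864 (iv F161017)) (tt N15261 (iv D33058)) (tt N18871 D34798) (tt N18869 (iv F161052)) (tt N15566 F153199) (tt N18872 D34799))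
theorem Q17133 : ∀ i, i < 17133 → P i := stepQ 17132 Q17132 (allL N17132 (tt N16228 F153200) (tt N15513 F153201) (tt N16768 F153202) (tt N15267 F153203) (tt N15263 F153204) (tt N18872 (iv F161073)) (tt N15512 F153205) (tt N18870 (iv F161060)) (tt N17132 F153206) (tt N15261 (iv D33059)))
theorem Q17134 : ∀ i, i < 17134 → P i := stepQ 17133 Q17133 (allL N17133 (tt N16229 F153207) (tt N16519 F153208) (tt N16792 F153209) (tt N15264 F153210) (tt N18870 (iv F161058)) (tt N18867 (iv F161037)) (tt N16819 F153211) (tt N15263 F153212) (tt N17133 F153213) (tt N15262 (iv D33060)))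
theorem Q17135 : ∀ i, i < 17135 → P i := stepQ 17134 Q17134 (allL N17134 (tt N16230 F153214) (tt N15627 F153215) (tt N17134 F153216) (tt N18869 (iv F161051)) (tt N15363 F153217) (tt N15265 (iv D33061)) (tt N18873 D34800) (tt N15266 F153218) (tt N15574 F153219) (tt N18874 D34801))
theorem Q17136 : ∀ i, i < 17136 → P i := stepQ 17135 Q17135 (allL N17135 (tt N16231 F153220) (tt N15621 F153221) (tt N17135 F153222) (tt N18870 (iv F161057)) (tt N15268 F153223) (tt N18874 (iv F161085)) (tt N15635 F153224) (tt N15267 F153225) (tt N17135 F153226) (tt N15265 (iv D33062)))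
theorem Q17137 : ∀ i, i < 17137 → P i := stepQ 17136 Q17136 (allL N17136 (tt N16232 F153227) (tt N15581 F153228) (tt N17136 F153229) (tt N18871 (iv F161065)) (tt N15365 F153230) (tt N15580 F153231) (tt N15266 (iv D33063)) (tt N18875 D34802) (tt N15576 F153232) (tt N16995 (iv F153233)))
theorem Q17138 : ∀ i, i < 17138 → P i := stepQ 17137 Q17137 (allL N17137 (tt N16233 F153234) (tt N15620 F153235) (tt N17137 F153236) (tt N18872 (iv F161072)) (tt N15366 F153237) (tt N15267 F153238) (tt N16995 F153239) (tt N18874 (iv F161086)) (tt N18876 D34803) (tt N15266 (iv D33064)))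
theorem Q17139 : ∀ i, i < 17139 → P i := stepQ 17138 Q17138 (allL N17138 (tt N16234 F153240) (tt N15280 F153241) (tt N15276 F153242) (tt N18877 D34804) (tt N15269 (iv D33065)) (tt N16894 F153243) (tt N15369 F153244) (tt N15278 F153245) (tt N17138 F153246) (tt N16938 F153247))
theorem Q17140 : ∀ i, i < 17140 → P i := stepQ 17139 Q17139 (allL N17139 (tt N16238 F153248) (tt N16892 F153249) (tt N15379 F153250) (tt N15270 (iv D33066)) (tt N18859 (iv F160981)) (tt N15279 F153251) (tt N16924 F153252) (tt N18878 D34805) (tt N16889 F153253) (tt N16469 F153254))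
theorem Q17141 : ∀ i, i < 17141 → P i := stepQ 17140 Q17140 (allL N17140 (tt N16239 F153255) (tt N16894 F153256) (tt N15272 F153257) (tt N18878 (iv F161113)) (tt N15271 F153258) (tt N15280 F153259) (tt N18879 D34806) (tt N15270 (iv D33067)) (tt N16890 F153260) (tt N16904 F153261))
theorem Q17142 : ∀ i, i < 17142 → P i := stepQ 17141 Q17141 (allL N17141 (tt N16240 F153262) (tt N16896 F153263) (tt N15273 F153264) (tt N18861 (iv F160996)) (tt N18879 (iv F161120)) (tt N16790 F153265) (tt N15271 (iv D33068)) (tt N16830 F153266) (tt N16817 F153267) (tt N16905 F153268))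
theorem Q17143 : ∀ i, i < 17143 → P i := stepQ 17142 Q17142 (allL N17142 (tt N16241 F153269) (tt N17047 F153270) (tt N18879 (iv F161119)) (tt N15384 F153271) (tt N15273 F153272) (tt N18880 D34807) (tt N15272 (iv D33069)) (tt N16912 F153273) (tt N16902 F153274) (tt N16907 F153275))
theorem Q17144 : ∀ i, i < 17144 → P i := stepQ 17143 Q17143 (allL N17143 (tt N16242 F153276) (tt N17066 F153277) (tt N18868 (iv F161042)) (tt N16903 F153278) (tt N15388 F153279) (tt N16901 F153280) (tt N15275 F153281) (tt N16935 F153282) (tt N16910 F153283) (tt N15274 (iv D33070)))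
theorem Q17145 : ∀ i, i < 17145 → P i := stepQ 17144 Q17144 (allL N17144 (tt N15278 F153284) (tt N16247 F153285) (tt N15963 F153286) (tt N18881 D34808) (tt N15277 (iv D33071)) (tt N15957 F153287) (tt N17144 F153288) (tt N16234 F153289) (tt N17144 F153290) (tt N16936 F153291))
theorem Q17146 : ∀ i, i < 17146 → P i := stepQ 17145 Q17145 (allL N17145 (tt N18881 (iv F161132)) (tt N15279 F153292) (tt N16584 F153293) (tt N15278 (iv D33072)) (tt N15701 F153294) (tt N16892 F153295) (tt N17145 F153296) (tt N18877 (iv F161107)) (tt N17145 F153297) (tt N16489 F153298))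
theorem Q17147 : ∀ i, i < 17147 → P i := stepQ 17146 Q17146 (allL N17146 (tt N16251 F153299) (tt N18877 (iv F161102)) (tt N15396 F153300) (tt N15280 F153301) (tt N15703 F153302) (tt N18878 (iv F161114)) (tt N18882 D34809) (tt N15279 (iv D33073)) (tt N17146 F153303) (tt N16492 F153304))
theorem Q17148 : ∀ i, i < 17148 → P i := stepQ 17147 Q17147 (allL N17147 (tt N16252 F153305) (tt N15369 F153306) (tt N15282 F153307) (tt N18882 (iv F161144)) (tt N15281 F153308) (tt N18883 D34810) (tt N15280 (iv D33074)) (tt N17147 F153309) (tt N17147 F153310) (tt N16940 F153311))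
theorem Q17149 : ∀ i, i < 17149 → P i := stepQ 17148 Q17148 (allL N17148 (tt N16253 F153312) (tt N17054 F153313) (tt N18883 (iv F161151)) (tt N15398 F153314) (tt N17115 F153315) (tt N15282 (iv D33075)) (tt N18880 (iv F161128)) (tt N17148 F153316) (tt N17116 (iv F153318)) (tt N16942 F153317))
theorem Q17150 : ∀ i, i < 17150 → P i := stepQ 17149 Q17149 (allL N17149 (tt N15916 F153319) (tt N15284 F153320) (tt N15797 F153321) (tt N15427 F153322) (tt N15725 F153323) (tt N18884 D34811) (tt N15283 (iv D33076)) (tt N18885 D34812) (tt N15289 F153324) (tt N15912 F153325))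
theorem Q17151 : ∀ i, i < 17151 → P i := stepQ 17150 Q17150 (allL N17150 (tt N15300 F153326) (tt N18884 (iv F161157)) (tt N15285 F153327) (tt N15933 F153328) (tt N18886 D34813) (tt N15284 (iv D33077)) (tt N15859 F153329) (tt N18887 D34814) (tt N18888 D34815) (tt N16174 F153330))
theorem Q17152 : ∀ i, i < 17152 → P i := stepQ 17151 Q17151 (allL N17151 (tt N15301 F153331) (tt N18885 (iv F161164)) (tt N15286 F153332) (tt N15910 F153333) (tt N15727 F153334) (tt N18887 (iv F161179)) (tt N15908 F153335) (tt N15284 (iv D33078)) (tt N15291 F153336) (tt N15907 F153337))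
theorem Q17153 : ∀ i, i < 17153 → P i := stepQ 17152 Q17152 (allL N17152 (tt N15302 F153338) (tt N16254 F153339) (tt N18886 (iv F161172)) (tt N15831 F153340) (tt N15285 (iv D33079)) (tt N15728 F153341) (tt N15861 F153342) (tt N18889 D34816) (tt N18890 D34817) (tt N16209 F153343))
theorem Q17154 : ∀ i, i < 17154 → P i := stepQ 17153 Q17153 (allL N17153 (tt N15303 F153344) (tt N16255 F153345) (tt N18887 (iv F161177)) (tt N15287 F153346) (tt N18889 (iv F161191)) (tt N15286 F153347) (tt N18891 D34818) (tt N15285 (iv D33080)) (tt N18892 D34819) (tt N16210 F153348))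
theorem Q17155 : ∀ i, i < 17155 → P i := stepQ 17154 Q17154 (allL N17154 (tt N15304 F153349) (tt N16256 F153350) (tt N18888 (iv F161183)) (tt N15288 F153351) (tt N18890 (iv F161197)) (tt N15293 F153352) (tt N15863 F153353) (tt N18892 (iv F161210)) (tt N15285 (iv D33081)) (tt N18893 D34820))
theorem Q17156 : ∀ i, i < 17156 → P i := stepQ 17155 Q17155 (allL N17155 (tt N15305 F153354) (tt N16257 F153355) (tt N15935 F153356) (tt N18891 (iv F161202)) (tt N15834 F153357) (tt N16735 F153358) (tt N15287 (iv D33082)) (tt N15864 F153359) (tt N18894 D34821) (tt N16211 F153360))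
theorem Q17157 : ∀ i, i < 17157 → P i := stepQ 17156 Q17156 (allL N17156 (tt N15306 F153361) (tt N16258 F153362) (tt N15936 F153363) (tt N18892 (iv F161208)) (tt N15835 F153364) (tt N15295 F153365) (tt N18894 (iv F161222)) (tt N15288 F153366) (tt N15287 (iv D33083)) (tt N18895 D34822))
theorem Q17158 : ∀ i, i < 17158 → P i := stepQ 17157 Q17157 (allL N17157 (tt N15307 F153367) (tt N16259 F153368) (tt N15615 F153369) (tt N18893 (iv F161214)) (tt N15613 F153370) (tt N15296 F153371) (tt N15866 F153372) (tt N18895 (iv F161229)) (tt N16186 F153373) (tt N15288 (iv D33084)))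
theorem Q17159 : ∀ i, i < 17159 → P i := stepQ 17158 Q17158 (allL N17158 (tt N16091 F153374) (tt N15291 F153375) (tt N15796 F153376) (tt N15426 F153377) (tt N15741 F153378) (tt N15422 F153379) (tt N16074 F153380) (tt N15289 (iv D33085)) (tt N18885 (iv F161169)) (tt N15399 F153381))
theorem Q17160 : ∀ i, i < 17160 → P i := stepQ 17159 Q17159 (allL N17159 (tt N15309 F153382) (tt N15422 F153383) (tt N15292 F153384) (tt N15415 F153385) (tt N15412 F153386) (tt N15291 F153387) (tt N16418 (iv F153389)) (tt N15290 (iv D33086)) (tt N18896 D34823) (tt N15400 F153388))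
theorem Q17161 : ∀ i, i < 17161 → P i := stepQ 17160 Q17160 (allL N17160 (tt N15310 F153390) (tt N15356 F153391) (tt N15293 F153392) (tt N15322 F153393) (tt N15315 F153394) (tt N18888 (iv F161185)) (tt N17160 F153395) (tt N18896 (iv F161237)) (tt N15290 (iv D33087)) (tt N15312 F153396))
theorem Q17162 : ∀ i, i < 17162 → P i := stepQ 17161 Q17161 (allL N17161 (tt N15313 F153397) (tt N16260 F153398) (tt N16418 F153399) (tt N15294 F153400) (tt N16956 F153401) (tt N16416 F153402) (tt N15292 (iv D33088)) (tt N17161 F153403) (tt N18897 D34824) (tt N15401 F153404))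
theorem Q17163 : ∀ i, i < 17163 → P i := stepQ 17162 Q17162 (allL N17162 (tt N15314 F153405) (tt N16261 F153406) (tt N18896 (iv F161233)) (tt N15295 F153407) (tt N16711 F153408) (tt N18892 (iv F161209)) (tt N18897 (iv F161244)) (tt N15293 F153409) (tt N15292 (iv D33089)) (tt N18898 D34825))
theorem Q17164 : ∀ i, i < 17164 → P i := stepQ 17163 Q17163 (allL N17163 (tt N15315 F153410) (tt N16262 F153411) (tt N15312 F153412) (tt N15296 F153413) (tt N15310 F153414) (tt N18893 (iv F161215)) (tt N17163 F153415) (tt N18898 (iv F161251)) (tt N15308 F153416) (tt N15293 (iv D33090)))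
theorem Q17165 : ∀ i, i < 17165 → P i := stepQ 17164 Q17164 (allL N17164 (tt N15316 F153417) (tt N16263 F153418) (tt N16246 F153419) (tt N18897 (iv F161242)) (tt N15298 F153420) (tt N18899 D34826) (tt N15295 F153421) (tt N17164 F153422) (tt N15294 (iv D33091)) (tt N18900 D34827))
theorem Q17166 : ∀ i, i < 17166 → P i := stepQ 17165 Q17165 (allL N17165 (tt N15317 F153423) (tt N16264 F153424) (tt N15678 F153425) (tt N18898 (iv F161249)) (tt N15299 F153426) (tt N18895 (iv F161228)) (tt N18900 (iv F161263)) (tt N15296 F153427) (tt N15404 F153428) (tt N15295 (iv D33092)))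
theorem Q17167 : ∀ i, i < 17167 → P i := stepQ 17166 Q17166 (allL N17166 (tt N15325 F153429) (tt N16267 F153430) (tt N15679 F153431) (tt N16710 F153432) (tt N18900 (iv F161262)) (tt N16031 F153433) (tt N15299 F153434) (tt N17166 F153435) (tt N15408 F153436) (tt N15298 (iv D33093)))
theorem Q17168 : ∀ i, i < 17168 → P i := stepQ 17167 Q17167 (allL N17167 (tt N18886 (iv F161171)) (tt N16856 F153437) (tt N15302 F153438) (tt N18901 D34828) (tt N15300 (iv D33094)) (tt N15786 F153439) (tt N16820 F153440) (tt N18902 D34829) (tt N18903 D34830) (tt N16745 F153441))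
theorem Q17169 : ∀ i, i < 17169 → P i := stepQ 17168 Q17168 (allL N17168 (tt N18887 (iv F161176)) (tt N16858 F153442) (tt N15303 F153443) (tt N16868 F153444) (tt N18902 (iv F161275)) (tt N15301 F153445) (tt N18904 D34831) (tt N15300 (iv D33095)) (tt N18905 D34832) (tt N16746 F153446))
theorem Q17170 : ∀ i, i < 17170 → P i := stepQ 17169 Q17169 (allL N17169 (tt N18888 (iv F161181)) (tt N16839 F153447) (tt N15304 F153448) (tt N16648 F153449) (tt N18903 (iv F161281)) (tt N15310 F153450) (tt N16822 F153451) (tt N18905 (iv F161294)) (tt N15300 (iv D33096)) (tt N16656 F153452))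
theorem Q17171 : ∀ i, i < 17171 → P i := stepQ 17170 Q17170 (allL N17170 (tt N18889 (iv F161188)) (tt N15342 F153453) (tt N18902 (iv F161274)) (tt N16788 F153454) (tt N15303 F153455) (tt N15789 F153456) (tt N18906 D34833) (tt N15302 (iv D33097)) (tt N18907 D34834) (tt N16747 F153457))
theorem Q17172 : ∀ i, i < 17172 → P i := stepQ 17171 Q17171 (allL N17171 (tt N18890 (iv F161194)) (tt N15343 F153458) (tt N18903 (iv F161279)) (tt N16738 F153459) (tt N15304 F153460) (tt N18908 D34835) (tt N16762 F153461) (tt N18907 (iv F161304)) (tt N15302 (iv D33098)) (tt N18909 D34836))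
theorem Q17173 : ∀ i, i < 17173 → P i := stepQ 17172 Q17172 (allL N17172 (tt N18891 (iv F161200)) (tt N15344 F153462) (tt N18904 (iv F161285)) (tt N15305 F153463) (tt N18906 (iv F161298)) (tt N16759 F153464) (tt N15303 (iv D33099)) (tt N16824 F153465) (tt N18910 D34837) (tt N16749 F153466))
theorem Q17174 : ∀ i, i < 17174 → P i := stepQ 17173 Q17173 (allL N17173 (tt N18892 (iv F161206)) (tt N15345 F153467) (tt N18905 (iv F161291)) (tt N15306 F153468) (tt N18907 (iv F161303)) (tt N15314 F153469) (tt N18910 (iv F161318)) (tt N15304 F153470) (tt N15303 (iv D33100)) (tt N18911 D34838))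
theorem Q17175 : ∀ i, i < 17175 → P i := stepQ 17174 Q17174 (allL N17174 (tt N18893 (iv F161211)) (tt N15346 F153471) (tt N16656 F153472) (tt N15307 F153473) (tt N18909 (iv F161313)) (tt N15315 F153474) (tt N16826 F153475) (tt N18911 (iv F161324)) (tt N16751 F153476) (tt N15304 (iv D33101)))
theorem Q17176 : ∀ i, i < 17176 → P i := stepQ 17175 Q17175 (allL N17175 (tt N18894 (iv F161218)) (tt N15347 F153477) (tt N16876 F153478) (tt N18910 (iv F161317)) (tt N16790 F153479) (tt N18912 D34839) (tt N15306 F153480) (tt N16827 F153481) (tt N15305 (iv D33102)) (tt N18913 D34840))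
theorem Q17177 : ∀ i, i < 17177 → P i := stepQ 17176 Q17176 (allL N17176 (tt N18895 (iv F161224)) (tt N15348 F153482) (tt N16643 F153483) (tt N18911 (iv F161322)) (tt N16642 F153484) (tt N15317 F153485) (tt N18913 (iv F161334)) (tt N15307 F153486) (tt N16753 F153487) (tt N15306 (iv D33103)))
theorem Q17178 : ∀ i, i < 17178 → P i := stepQ 17177 Q17177 (allL N17177 (tt N15412 F153488) (tt N16407 F153489) (tt N15311 F153490) (tt N15404 F153491) (tt N15309 F153492) (tt N15807 F153493) (tt N18914 D34841) (tt N15308 (iv D33104)) (tt N18898 (iv F161252)) (tt N15402 F153494))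
theorem Q17179 : ∀ i, i < 17179 → P i := stepQ 17178 Q17178 (allL N17178 (tt N16418 F153495) (tt N16969 F153496) (tt N15313 F153497) (tt N15424 F153498) (tt N18914 (iv F161341)) (tt N15423 F153499) (tt N15309 (iv D33105)) (tt N17178 F153500) (tt N18915 D34842) (tt N15409 F153501))
theorem Q17180 : ∀ i, i < 17180 → P i := stepQ 17179 Q17179 (allL N17179 (tt N18896 (iv F161231)) (tt N16958 F153502) (tt N15314 F153503) (tt N16709 F153504) (tt N18898 (iv F161250)) (tt N18905 (iv F161293)) (tt N18915 (iv F161349)) (tt N15310 F153505) (tt N15309 (iv D33106)) (tt N16711 F153506))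
theorem Q17181 : ∀ i, i < 17181 → P i := stepQ 17180 Q17180 (allL N17180 (tt N16956 F153507) (tt N15353 F153508) (tt N18914 (iv F161339)) (tt N15319 F153509) (tt N15313 F153510) (tt N16090 F153511) (tt N15311 (iv D33107)) (tt N17180 F153512) (tt N18916 D34843) (tt N15410 F153513))
theorem Q17182 : ∀ i, i < 17182 → P i := stepQ 17181 Q17181 (allL N17181 (tt N16711 F153514) (tt N15354 F153515) (tt N18898 (iv F161248)) (tt N15320 F153516) (tt N15314 F153517) (tt N18917 D34844) (tt N18916 (iv F161356)) (tt N15312 F153518) (tt N15311 (iv D33108)) (tt N18896 (iv F161238)))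
theorem Q17183 : ∀ i, i < 17183 → P i := stepQ 17182 Q17182 (allL N17182 (tt N16656 F153519) (tt N15355 F153520) (tt N18893 (iv F161213)) (tt N15321 F153521) (tt N18908 (iv F161308)) (tt N15312 (iv D33109)) (tt N18918 D34845) (tt N18917 (iv F161362)) (tt N15812 F153522) (tt N18888 (iv F161187)))
theorem Q17184 : ∀ i, i < 17184 → P i := stepQ 17183 Q17183 (allL N17183 (tt N18897 (iv F161239)) (tt N15357 F153523) (tt N18915 (iv F161347)) (tt N15316 F153524) (tt N18916 (iv F161355)) (tt N18919 D34846) (tt N15314 F153525) (tt N17183 F153526) (tt N15313 (iv D33110)) (tt N18920 D34847))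
theorem Q17185 : ∀ i, i < 17185 → P i := stepQ 17184 Q17184 (allL N17184 (tt N18898 (iv F161246)) (tt N15358 F153527) (tt N16711 F153528) (tt N15317 F153529) (tt N18896 (iv F161235)) (tt N18911 (iv F161323)) (tt N18920 (iv F161379)) (tt N15315 F153530) (tt N15412 F153531) (tt N15314 (iv D33111)))
theorem Q17186 : ∀ i, i < 17186 → P i := stepQ 17185 Q17185 (allL N17185 (tt N18899 (iv F161253)) (tt N15359 F153532) (tt N17115 F153533) (tt N18919 (iv F161372)) (tt N18883 (iv F161152)) (tt N15316 (iv D33112)) (tt N18912 (iv F161328)) (tt N17185 F153534) (tt N16955 F153535) (tt N18921 D34848))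
theorem Q17187 : ∀ i, i < 17187 → P i := stepQ 17186 Q17186 (allL N17186 (tt N18900 (iv F161259)) (tt N15360 F153536) (tt N16708 F153537) (tt N18920 (iv F161377)) (tt N15325 F153538) (tt N18921 (iv F161385)) (tt N15317 F153539) (tt N17186 F153540) (tt N15413 F153541) (tt N15316 (iv D33113)))
theorem Q17188 : ∀ i, i < 17188 → P i := stepQ 17187 Q17187 (allL N17187 (tt N16712 F153542) (tt N15362 F153543) (tt N15684 F153544) (tt N18916 (iv F161354)) (tt N15323 F153545) (tt N18922 D34849) (tt N15320 F153546) (tt N17187 F153547) (tt N15319 (iv D33114)) (tt N16419 F153548))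
theorem Q17189 : ∀ i, i < 17189 → P i := stepQ 17188 Q17188 (allL N17188 (tt N16657 F153549) (tt N15363 F153550) (tt N15628 F153551) (tt N18917 (iv F161361)) (tt N15627 F153552) (tt N15320 (iv D33115)) (tt N18923 D34850) (tt N15321 F153553) (tt N15816 F153554) (tt N18924 D34851))
theorem Q17190 : ∀ i, i < 17190 → P i := stepQ 17189 Q17189 (allL N17189 (tt N16709 F153555) (tt N15364 F153556) (tt N15681 F153557) (tt N18896 (iv F161234)) (tt N15324 F153558) (tt N18924 (iv F161404)) (tt N16419 F153559) (tt N15322 F153560) (tt N15415 F153561) (tt N15320 (iv D33116)))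
theorem Q17191 : ∀ i, i < 17191 → P i := stepQ 17190 Q17190 (allL N17190 (tt N16607 F153562) (tt N15365 F153563) (tt N15583 F153564) (tt N18918 (iv F161367)) (tt N15581 F153565) (tt N17190 F153566) (tt N15321 (iv D33117)) (tt N18925 D34852) (tt N15817 F153567) (tt N15974 (iv F153568)))
theorem Q17192 : ∀ i, i < 17192 → P i := stepQ 17191 Q17191 (allL N17191 (tt N16648 F153569) (tt N15366 F153570) (tt N15622 F153571) (tt N18888 (iv F161184)) (tt N15620 F153572) (tt N15322 F153573) (tt N15974 F153574) (tt N18924 (iv F161405)) (tt N15933 F153575) (tt N15321 (iv D33118)))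
theorem Q17193 : ∀ i, i < 17193 → P i := stepQ 17192 Q17192 (allL N17192 (tt N16710 F153576) (tt N15368 F153577) (tt N15682 F153578) (tt N15325 F153579) (tt N16419 F153580) (tt N15693 F153581) (tt N15324 F153582) (tt N17192 F153583) (tt N15416 F153584) (tt N15323 (iv D33119)))
theorem Q17194 : ∀ i, i < 17194 → P i := stepQ 17193 Q17193 (allL N17193 (tt N16297 F153585) (tt N16991 F153586) (tt N15327 F153587) (tt N17193 F153588) (tt N18926 D34853) (tt N15326 (iv D33120)) (tt N15820 F153589) (tt N18927 D34854) (tt N18928 D34855) (tt N15455 F153590))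
theorem Q17195 : ∀ i, i < 17195 → P i := stepQ 17194 Q17194 (allL N17194 (tt N16298 F153591) (tt N16989 F153592) (tt N15328 F153593) (tt N17194 F153594) (tt N15332 F153595) (tt N18927 (iv F161424)) (tt N16770 F153596) (tt N15326 (iv D33121)) (tt N17194 F153597) (tt N15456 F153598))
theorem Q17196 : ∀ i, i < 17196 → P i := stepQ 17195 Q17195 (allL N17195 (tt N16299 F153599) (tt N15531 F153600) (tt N18926 (iv F161416)) (tt N15777 F153601) (tt N15327 (iv D33122)) (tt N15333 F153602) (tt N15822 F153603) (tt N18929 D34856) (tt N18930 D34857) (tt N15457 F153604))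
theorem Q17197 : ∀ i, i < 17197 → P i := stepQ 17196 Q17196 (allL N17196 (tt N16300 F153605) (tt N15532 F153606) (tt N18927 (iv F161422)) (tt N15329 F153607) (tt N18929 (iv F161435)) (tt N15328 F153608) (tt N18931 D34858) (tt N15327 (iv D33123)) (tt N18932 D34859) (tt N15458 F153609))
theorem Q17198 : ∀ i, i < 17198 → P i := stepQ 17197 Q17197 (allL N17197 (tt N16301 F153610) (tt N15533 F153611) (tt N18928 (iv F161428)) (tt N15330 F153612) (tt N18930 (iv F161441)) (tt N17197 F153613) (tt N15824 F153614) (tt N18932 (iv F161453)) (tt N15327 (iv D33124)) (tt N18933 D34860))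
theorem Q17199 : ∀ i, i < 17199 → P i := stepQ 17198 Q17198 (allL N17198 (tt N16302 F153615) (tt N15534 F153616) (tt N17198 F153617) (tt N18931 (iv F161445)) (tt N15780 F153618) (tt N16774 F153619) (tt N15329 (iv D33125)) (tt N15825 F153620) (tt N18934 D34861) (tt N15460 F153621))
theorem Q17200 : ∀ i, i < 17200 → P i := stepQ 17199 Q17199 (allL N17199 (tt N16303 F153622) (tt N15535 F153623) (tt N17199 F153624) (tt N18932 (iv F161451)) (tt N15781 F153625) (tt N17199 F153626) (tt N18934 (iv F161464)) (tt N15330 F153627) (tt N15329 (iv D33126)) (tt N18935 D34862))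
theorem Q17201 : ∀ i, i < 17201 → P i := stepQ 17200 Q17200 (allL N17200 (tt N16304 F153628) (tt N15536 F153629) (tt N17200 F153630) (tt N18933 (iv F161456)) (tt N15782 F153631) (tt N17200 F153632) (tt N15827 F153633) (tt N18935 (iv F161471)) (tt N15462 F153634) (tt N15330 (iv D33127)))
theorem Q17202 : ∀ i, i < 17202 → P i := stepQ 17201 Q17201 (allL N17201 (tt N16307 F153635) (tt N16814 F153636) (tt N15333 F153637) (tt N18936 D34863) (tt N15331 (iv D33128)) (tt N18926 (iv F161417)) (tt N15339 F153638) (tt N18937 D34864) (tt N18938 D34865) (tt N16741 F153639))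
theorem Q17203 : ∀ i, i < 17203 → P i := stepQ 17202 Q17202 (allL N17202 (tt N16308 F153640) (tt N16816 F153641) (tt N15334 F153642) (tt N15372 F153643) (tt N18937 (iv F161483)) (tt N15332 F153644) (tt N18939 D34866) (tt N15331 (iv D33129)) (tt N18940 D34867) (tt N16743 F153645))
theorem Q17204 : ∀ i, i < 17204 → P i := stepQ 17203 Q17203 (allL N17203 (tt N16309 F153646) (tt N16800 F153647) (tt N15335 F153648) (tt N15373 F153649) (tt N18938 (iv F161489)) (tt N17203 F153650) (tt N15341 F153651) (tt N18940 (iv F161504)) (tt N15331 (iv D33130)) (tt N16522 F153652))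
theorem Q17205 : ∀ i, i < 17205 → P i := stepQ 17204 Q17204 (allL N17204 (tt N16310 F153653) (tt N16823 F153654) (tt N18937 (iv F161482)) (tt N16747 F153655) (tt N15334 F153656) (tt N18929 (iv F161436)) (tt N18941 D34868) (tt N15333 (iv D33131)) (tt N18942 D34869) (tt N16788 F153657))
theorem Q17206 : ∀ i, i < 17206 → P i := stepQ 17205 Q17205 (allL N17205 (tt N16311 F153658) (tt N16762 F153659) (tt N18938 (iv F161487)) (tt N16748 F153660) (tt N15335 F153661) (tt N18943 D34870) (tt N15343 F153662) (tt N18942 (iv F161516)) (tt N15333 (iv D33132)) (tt N18944 D34871))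
theorem Q17207 : ∀ i, i < 17207 → P i := stepQ 17206 Q17206 (allL N17206 (tt N16312 F153663) (tt N16824 F153664) (tt N18939 (iv F161494)) (tt N15336 F153665) (tt N18941 (iv F161509)) (tt N16798 F153666) (tt N15334 (iv D33133)) (tt N15344 F153667) (tt N18945 D34872) (tt N16789 F153668))
theorem Q17208 : ∀ i, i < 17208 → P i := stepQ 17207 Q17207 (allL N17207 (tt N16313 F153669) (tt N16825 F153670) (tt N18940 (iv F161501)) (tt N15337 F153671) (tt N18942 (iv F161515)) (tt N17207 F153672) (tt N18945 (iv F161531)) (tt N15335 F153673) (tt N15334 (iv D33134)) (tt N18946 D34873))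
theorem Q17209 : ∀ i, i < 17209 → P i := stepQ 17208 Q17208 (allL N17208 (tt N16314 F153674) (tt N16826 F153675) (tt N16522 F153676) (tt N15338 F153677) (tt N18944 (iv F161525)) (tt N17208 F153678) (tt N15346 F153679) (tt N18946 (iv F161538)) (tt N16518 F153680) (tt N15335 (iv D33135)))
theorem Q17210 : ∀ i, i < 17210 → P i := stepQ 17209 Q17209 (allL N17209 (tt N16315 F153681) (tt N16827 F153682) (tt N15377 F153683) (tt N18945 (iv F161530)) (tt N16752 F153684) (tt N18947 D34874) (tt N15337 F153685) (tt N15347 F153686) (tt N15336 (iv D33136)) (tt N18948 D34875))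
theorem Q17211 : ∀ i, i < 17211 → P i := stepQ 17210 Q17210 (allL N17210 (tt N16316 F153687) (tt N16828 F153688) (tt N15378 F153689) (tt N18946 (iv F161536)) (tt N16753 F153690) (tt N17210 F153691) (tt N18948 (iv F161551)) (tt N15338 F153692) (tt N16642 F153693) (tt N15337 (iv D33137)))
theorem Q17212 : ∀ i, i < 17212 → P i := stepQ 17211 Q17211 (allL N17211 (tt N16320 F153694) (tt N16564 F153695) (tt N18859 (iv F160980)) (tt N15339 (iv D33138)) (tt N15379 F153696) (tt N15890 F153697) (tt N18936 (iv F161477)) (tt N18949 D34876) (tt N18950 D34877) (tt N16471 F153698))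
theorem Q17213 : ∀ i, i < 17213 → P i := stepQ 17212 Q17212 (allL N17212 (tt N16321 F153699) (tt N16862 F153700) (tt N15342 F153701) (tt N18949 (iv F161556)) (tt N15340 F153702) (tt N15891 F153703) (tt N18951 D34878) (tt N15339 (iv D33139)) (tt N18952 D34879) (tt N16766 F153704))
theorem Q17214 : ∀ i, i < 17214 → P i := stepQ 17213 Q17213 (allL N17213 (tt N16322 F153705) (tt N16843 F153706) (tt N15343 F153707) (tt N18950 (iv F161563)) (tt N15341 F153708) (tt N18953 D34880) (tt N18938 (iv F161490)) (tt N18952 (iv F161576)) (tt N15339 (iv D33140)) (tt N16758 F153709))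
theorem Q17215 : ∀ i, i < 17215 → P i := stepQ 17214 Q17214 (allL N17214 (tt N16323 F153710) (tt N16864 F153711) (tt N15344 F153712) (tt N15382 F153713) (tt N18951 (iv F161570)) (tt N16837 F153714) (tt N15340 (iv D33141)) (tt N18939 (iv F161497)) (tt N18954 D34881) (tt N16767 F153715))
theorem Q17216 : ∀ i, i < 17216 → P i := stepQ 17215 Q17215 (allL N17215 (tt N16324 F153716) (tt N16845 F153717) (tt N15345 F153718) (tt N15383 F153719) (tt N18952 (iv F161575)) (tt N15352 F153720) (tt N18954 (iv F161588)) (tt N15341 F153721) (tt N15340 (iv D33142)) (tt N16760 F153722))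
theorem Q17217 : ∀ i, i < 17217 → P i := stepQ 17216 Q17216 (allL N17216 (tt N16326 F153723) (tt N18906 (iv F161296)) (tt N18951 (iv F161569)) (tt N18862 (iv F161003)) (tt N15344 F153724) (tt N18955 D34882) (tt N15342 (iv D33143)) (tt N18941 (iv F161510)) (tt N18956 D34883) (tt N16829 F153725))
theorem Q17218 : ∀ i, i < 17218 → P i := stepQ 17217 Q17217 (allL N17217 (tt N16327 F153726) (tt N18907 (iv F161301)) (tt N18952 (iv F161574)) (tt N18863 (iv F161010)) (tt N15345 F153727) (tt N18957 D34884) (tt N18956 (iv F161596)) (tt N15343 F153728) (tt N15342 (iv D33144)) (tt N18958 D34885))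
theorem Q17219 : ∀ i, i < 17219 → P i := stepQ 17218 Q17218 (allL N17218 (tt N16328 F153729) (tt N18908 (iv F161306)) (tt N18953 (iv F161580)) (tt N18864 (iv F161016)) (tt N15355 F153730) (tt N15343 (iv D33145)) (tt N18959 D34886) (tt N18957 (iv F161599)) (tt N15898 F153731) (tt N18960 D34887))
theorem Q17220 : ∀ i, i < 17220 → P i := stepQ 17219 Q17219 (allL N17219 (tt N16329 F153732) (tt N18909 (iv F161310)) (tt N16758 F153733) (tt N18865 (iv F161022)) (tt N15346 F153734) (tt N18960 (iv F161612)) (tt N18944 (iv F161526)) (tt N18958 (iv F161604)) (tt N16755 F153735) (tt N15343 (iv D33146)))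
theorem Q17221 : ∀ i, i < 17221 → P i := stepQ 17220 Q17220 (allL N17220 (tt N16330 F153736) (tt N18910 (iv F161316)) (tt N18954 (iv F161586)) (tt N15347 F153737) (tt N18956 (iv F161595)) (tt N18961 D34888) (tt N15345 F153738) (tt N18945 (iv F161532)) (tt N15344 (iv D33147)) (tt N18962 D34889))
theorem Q17222 : ∀ i, i < 17222 → P i := stepQ 17221 Q17221 (allL N17221 (tt N16331 F153739) (tt N18911 (iv F161320)) (tt N16760 F153740) (tt N15348 F153741) (tt N18958 (iv F161603)) (tt N15358 F153742) (tt N18962 (iv F161620)) (tt N15346 F153743) (tt N16756 F153744) (tt N15345 (iv D33148)))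
theorem Q17223 : ∀ i, i < 17223 → P i := stepQ 17222 Q17222 (allL N17222 (tt N16332 F153745) (tt N18912 (iv F161326)) (tt N15387 F153746) (tt N18961 (iv F161614)) (tt N18963 D34890) (tt N15347 (iv D33149)) (tt N15359 F153747) (tt N18947 (iv F161545)) (tt N16846 F153748) (tt N18964 D34891))
theorem Q17224 : ∀ i, i < 17224 → P i := stepQ 17223 Q17223 (allL N17223 (tt N16333 F153749) (tt N18913 (iv F161331)) (tt N15388 F153750) (tt N18962 (iv F161619)) (tt N18868 (iv F161043)) (tt N18964 (iv F161630)) (tt N15348 F153751) (tt N18948 (iv F161552)) (tt N16831 F153752) (tt N15347 (iv D33150)))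
theorem Q17225 : ∀ i, i < 17225 → P i := stepQ 17224 Q17224 (allL N17224 (tt N16336 F153753) (tt N16970 F153754) (tt N15353 F153755) (tt N17224 F153756) (tt N15351 F153757) (tt N18965 D34892) (tt N15349 (iv D33151)) (tt N17224 F153758) (tt N18966 D34893) (tt N15419 F153759))
theorem Q17226 : ∀ i, i < 17226 → P i := stepQ 17225 Q17225 (allL N17225 (tt N16337 F153760) (tt N16962 F153761) (tt N15354 F153762) (tt N17225 F153763) (tt N15352 F153764) (tt N18967 D34894) (tt N18966 (iv F161645)) (tt N15350 F153765) (tt N15349 (iv D33152)) (tt N16952 F153766))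
theorem Q17227 : ∀ i, i < 17227 → P i := stepQ 17226 Q17226 (allL N17226 (tt N16338 F153767) (tt N16964 F153768) (tt N15355 F153769) (tt N17226 F153770) (tt N18953 (iv F161581)) (tt N15350 (iv D33153)) (tt N18968 D34895) (tt N18967 (iv F161652)) (tt N15919 F153771) (tt N16953 F153772))
theorem Q17228 : ∀ i, i < 17228 → P i := stepQ 17227 Q17227 (allL N17227 (tt N16340 F153773) (tt N16966 F153774) (tt N15357 F153775) (tt N15389 F153776) (tt N18966 (iv F161644)) (tt N18969 D34896) (tt N15352 F153777) (tt N17227 F153778) (tt N15351 (iv D33154)) (tt N16954 F153779))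
theorem Q17229 : ∀ i, i < 17229 → P i := stepQ 17228 Q17228 (allL N17228 (tt N16334 F153780) (tt N16090 F153781) (tt N18965 (iv F161634)) (tt N15361 F153782) (tt N16959 F153783) (tt N15353 (iv D33155)) (tt N15922 F153784) (tt N17228 F153785) (tt N18970 D34897) (tt N15420 F153786))
theorem Q17230 : ∀ i, i < 17230 → P i := stepQ 17229 Q17229 (allL N17229 (tt N16342 F153787) (tt N18916 (iv F161353)) (tt N18966 (iv F161642)) (tt N15362 F153788) (tt N15357 F153789) (tt N18971 D34898) (tt N15354 F153790) (tt N17229 F153791) (tt N15353 (iv D33156)) (tt N18972 D34899))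
theorem Q17231 : ∀ i, i < 17231 → P i := stepQ 17230 Q17230 (allL N17230 (tt N16343 F153792) (tt N18917 (iv F161360)) (tt N18967 (iv F161650)) (tt N15363 F153793) (tt N18957 (iv F161598)) (tt N15354 (iv D33157)) (tt N18973 D34900) (tt N15355 F153794) (tt N15923 F153795) (tt N18974 D34901))
theorem Q17232 : ∀ i, i < 17232 → P i := stepQ 17231 Q17231 (allL N17231 (tt N16344 F153796) (tt N18896 (iv F161232)) (tt N16952 F153797) (tt N15364 F153798) (tt N15358 F153799) (tt N18974 (iv F161693)) (tt N18972 (iv F161684)) (tt N15356 F153800) (tt N15422 F153801) (tt N15354 (iv D33158)))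
theorem Q17233 : ∀ i, i < 17233 → P i := stepQ 17232 Q17232 (allL N17232 (tt N16345 F153802) (tt N18918 (iv F161365)) (tt N18968 (iv F161657)) (tt N15365 F153803) (tt N18959 (iv F161607)) (tt N17232 F153804) (tt N15355 (iv D33159)) (tt N18975 D34902) (tt N15924 F153805) (tt N18976 D34903))
theorem Q17234 : ∀ i, i < 17234 → P i := stepQ 17233 Q17233 (allL N17233 (tt N16346 F153806) (tt N18888 (iv F161182)) (tt N16953 F153807) (tt N15366 F153808) (tt N18960 (iv F161611)) (tt N15356 F153809) (tt N18976 (iv F161704)) (tt N18974 (iv F161694)) (tt N18884 (iv F161161)) (tt N15355 (iv D33160)))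
theorem Q17235 : ∀ i, i < 17235 → P i := stepQ 17234 Q17234 (allL N17234 (tt N16347 F153810) (tt N18919 (iv F161371)) (tt N18969 (iv F161664)) (tt N15359 F153811) (tt N18977 D34904) (tt N15357 (iv D33161)) (tt N18961 (iv F161615)) (tt N17234 F153812) (tt N16965 F153813) (tt N18978 D34905))
theorem Q17236 : ∀ i, i < 17236 → P i := stepQ 17235 Q17235 (allL N17235 (tt N16348 F153814) (tt N18920 (iv F161375)) (tt N16954 F153815) (tt N15360 F153816) (tt N18972 (iv F161683)) (tt N18978 (iv F161712)) (tt N15358 F153817) (tt N17235 F153818) (tt N15423 F153819) (tt N15357 (iv D33162)))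
theorem Q17237 : ∀ i, i < 17237 → P i := stepQ 17236 Q17236 (allL N17236 (tt N16349 F153820) (tt N18883 (iv F161150)) (tt N15391 F153821) (tt N18979 D34906) (tt N15359 (iv D33163)) (tt N15369 F153822) (tt N18963 (iv F161625)) (tt N17236 F153823) (tt N16967 F153824) (tt N18980 D34907))
theorem Q17238 : ∀ i, i < 17238 → P i := stepQ 17237 Q17237 (allL N17237 (tt N16350 F153825) (tt N18921 (iv F161382)) (tt N15392 F153826) (tt N18978 (iv F161711)) (tt N18980 (iv F161721)) (tt N15360 F153827) (tt N18964 (iv F161631)) (tt N17237 F153828) (tt N18981 D34908) (tt N15359 (iv D33164)))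
theorem Q17239 : ∀ i, i < 17239 → P i := stepQ 17238 Q17238 (allL N17238 (tt N16351 F153829) (tt N16085 F153830) (tt N17238 F153831) (tt N18970 (iv F161671)) (tt N17238 F153832) (tt N18982 D34909) (tt N15927 F153833) (tt N17238 F153834) (tt N15361 (iv D33165)) (tt N16071 F153835))
theorem Q17240 : ∀ i, i < 17240 → P i := stepQ 17239 Q17239 (allL N17239 (tt N16352 F153836) (tt N18922 (iv F161389)) (tt N17239 F153837) (tt N18971 (iv F161677)) (tt N18983 D34910) (tt N15362 (iv D33166)) (tt N18984 D34911) (tt N17239 F153838) (tt N18982 (iv F161736)) (tt N18985 D34912))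
theorem Q17241 : ∀ i, i < 17241 → P i := stepQ 17240 Q17240 (allL N17240 (tt N16353 F153839) (tt N16419 F153840) (tt N17240 F153841) (tt N18972 (iv F161682)) (tt N15368 F153842) (tt N18985 (iv F161749)) (tt N15364 F153843) (tt N17240 F153844) (tt N15425 F153845) (tt N15362 (iv D33167)))
theorem Q17242 : ∀ i, i < 17242 → P i := stepQ 17241 Q17241 (allL N17241 (tt N16354 F153846) (tt N18923 (iv F161396)) (tt N17241 F153847) (tt N18973 (iv F161688)) (tt N18873 (iv F161078)) (tt N18984 (iv F161745)) (tt N15363 (iv D33168)) (tt N18986 D34913) (tt N15928 F153848) (tt N18987 D34914))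
theorem Q17243 : ∀ i, i < 17243 → P i := stepQ 17242 Q17242 (allL N17242 (tt N16355 F153849) (tt N18924 (iv F161401)) (tt N17242 F153850) (tt N18974 (iv F161692)) (tt N18874 (iv F161084)) (tt N15364 F153851) (tt N18987 (iv F161758)) (tt N15366 F153852) (tt N18988 D34915) (tt N15363 (iv D33169)))
theorem Q17244 : ∀ i, i < 17244 → P i := stepQ 17243 Q17243 (allL N17243 (tt N16356 F153853) (tt N18925 (iv F161408)) (tt N17243 F153854) (tt N18975 (iv F161696)) (tt N18875 (iv F161090)) (tt N17243 F153855) (tt N18986 (iv F161754)) (tt N15365 (iv D33170)) (tt N15929 F153856) (tt N18989 D34916))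
theorem Q17245 : ∀ i, i < 17245 → P i := stepQ 17244 Q17244 (allL N17244 (tt N16357 F153857) (tt N15974 F153858) (tt N17244 F153859) (tt N18976 (iv F161702)) (tt N16995 F153860) (tt N17244 F153861) (tt N15366 F153862) (tt N18989 (iv F161770)) (tt N15970 F153863) (tt N15365 (iv D33171)))
theorem Q17246 : ∀ i, i < 17246 → P i := stepQ 17245 Q17245 (allL N17245 (tt N16004 F153864) (tt N15933 F153865) (tt N17245 F153866) (tt N18884 (iv F161159)) (tt N18876 (iv F161097)) (tt N15427 F153867) (tt N15970 F153868) (tt N18988 (iv F161763)) (tt N15366 (iv D33172)) (tt N15931 F153869))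
theorem Q17247 : ∀ i, i < 17247 → P i := stepQ 17246 Q17246 (allL N17246 (tt N16358 F153870) (tt N15704 F153871) (tt N17246 F153872) (tt N18990 D34917) (tt N15367 (iv D33173)) (tt N18983 (iv F161741)) (tt N15702 F153873) (tt N17246 F153874) (tt N17246 F153875) (tt N18991 D34918))
theorem Q17248 : ∀ i, i < 17248 → P i := stepQ 17247 Q17247 (allL N17247 (tt N16359 F153876) (tt N15693 F153877) (tt N17247 F153878) (tt N15370 F153879) (tt N18991 (iv F161781)) (tt N15368 F153880) (tt N15688 F153881) (tt N17247 F153882) (tt N18992 D34919) (tt N15367 (iv D33174)))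
theorem Q17249 : ∀ i, i < 17249 → P i := stepQ 17248 Q17248 (allL N17248 (tt N16360 F153883) (tt N18882 (iv F161142)) (tt N18993 D34920) (tt N15369 (iv D33175)) (tt N18990 (iv F161774)) (tt N18979 (iv F161715)) (tt N18877 (iv F161106)) (tt N17248 F153884) (tt N17248 F153885) (tt N18994 D34921))
theorem Q17250 : ∀ i, i < 17250 → P i := stepQ 17249 Q17249 (allL N17249 (tt N16361 F153886) (tt N16940 F153887) (tt N15394 F153888) (tt N18994 (iv F161802)) (tt N15370 F153889) (tt N18980 (iv F161722)) (tt N16938 F153890) (tt N17249 F153891) (tt N17022 (iv F153892)) (tt N15369 (iv D33176)))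
theorem Q17251 : ∀ i, i < 17251 → P i := stepQ 17250 Q17250 (allL N17250 (tt N16362 F153893) (tt N16941 F153894) (tt N15395 F153895) (tt N18992 (iv F161787)) (tt N17022 F153896) (tt N15430 F153897) (tt N16939 F153898) (tt N17250 F153899) (tt N15370 (iv D33177)) (tt N17250 F153900))
theorem Q17252 : ∀ i, i < 17252 → P i := stepQ 17251 Q17251 (allL N17251 (tt N16366 F153901) (tt N16515 F153902) (tt N16924 F153903) (tt N15371 (iv D33178)) (tt N18936 (iv F161476)) (tt N17251 F153904) (tt N15379 F153905) (tt N18995 D34922) (tt N16534 F153906) (tt N16442 F153907))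
theorem Q17253 : ∀ i, i < 17253 → P i := stepQ 17252 Q17252 (allL N17252 (tt N16367 F153908) (tt N16517 F153909) (tt N15374 F153910) (tt N18995 (iv F161809)) (tt N15372 F153911) (tt N17252 F153912) (tt N18996 D34923) (tt N15371 (iv D33179)) (tt N16536 F153913) (tt N16444 F153914))
theorem Q17254 : ∀ i, i < 17254 → P i := stepQ 17253 Q17253 (allL N17253 (tt N16368 F153915) (tt N16818 F153916) (tt N15375 F153917) (tt N18939 (iv F161495)) (tt N18996 (iv F161816)) (tt N16880 F153918) (tt N15372 (iv D33180)) (tt N15382 F153919) (tt N18997 D34924) (tt N16744 F153920))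
theorem Q17255 : ∀ i, i < 17255 → P i := stepQ 17254 Q17254 (allL N17254 (tt N16369 F153921) (tt N16802 F153922) (tt N15376 F153923) (tt N18940 (iv F161502)) (tt N16536 F153924) (tt N17254 F153925) (tt N18997 (iv F161824)) (tt N15373 F153926) (tt N15372 (iv D33181)) (tt N16524 F153927))
theorem Q17256 : ∀ i, i < 17256 → P i := stepQ 17255 Q17255 (allL N17255 (tt N16370 F153928) (tt N17028 F153929) (tt N18996 (iv F161815)) (tt N16912 F153930) (tt N15375 F153931) (tt N18998 D34925) (tt N15374 (iv D33182)) (tt N15384 F153932) (tt N16663 F153933) (tt N16654 F153934))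
theorem Q17257 : ∀ i, i < 17257 → P i := stepQ 17256 Q17256 (allL N17256 (tt N16371 F153935) (tt N17070 F153936) (tt N18997 (iv F161822)) (tt N15377 F153937) (tt N16663 F153938) (tt N18999 D34926) (tt N15376 F153939) (tt N15386 F153940) (tt N15375 (iv D33183)) (tt N16645 F153941))
theorem Q17258 : ∀ i, i < 17258 → P i := stepQ 17257 Q17257 (allL N17257 (tt N16372 F153942) (tt N17101 F153943) (tt N18947 (iv F161542)) (tt N18999 (iv F161836)) (tt N16933 F153944) (tt N15377 (iv D33184)) (tt N17257 F153945) (tt N15387 F153946) (tt N16887 F153947) (tt N19000 D34927))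
theorem Q17259 : ∀ i, i < 17259 → P i := stepQ 17258 Q17258 (allL N17258 (tt N16373 F153948) (tt N17068 F153949) (tt N18948 (iv F161549)) (tt N16645 F153950) (tt N16935 F153951) (tt N19000 (iv F161845)) (tt N15378 F153952) (tt N15388 F153953) (tt N16644 F153954) (tt N15377 (iv D33185)))
theorem Q17260 : ∀ i, i < 17260 → P i := stepQ 17259 Q17259 (allL N17259 (tt N16378 F153955) (tt N16566 F153956) (tt N18878 (iv F161112)) (tt N15380 F153957) (tt N18949 (iv F161557)) (tt N15396 F153958) (tt N19001 D34928) (tt N15379 (iv D33186)) (tt N19002 D34929) (tt N16473 F153959))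
theorem Q17261 : ∀ i, i < 17261 → P i := stepQ 17260 Q17260 (allL N17260 (tt N16379 F153960) (tt N16547 F153961) (tt N16889 F153962) (tt N15381 F153963) (tt N18950 (iv F161564)) (tt N17260 F153964) (tt N16534 F153965) (tt N19002 (iv F161858)) (tt N15379 (iv D33187)) (tt N16461 F153966))
theorem Q17262 : ∀ i, i < 17262 → P i := stepQ 17261 Q17261 (allL N17261 (tt N16380 F153967) (tt N16568 F153968) (tt N15384 F153969) (tt N19001 (iv F161851)) (tt N15382 F153970) (tt N19003 D34930) (tt N15380 (iv D33188)) (tt N18996 (iv F161817)) (tt N19004 D34931) (tt N16474 F153971))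
theorem Q17263 : ∀ i, i < 17263 → P i := stepQ 17262 Q17262 (allL N17262 (tt N16381 F153972) (tt N16549 F153973) (tt N15385 F153974) (tt N19002 (iv F161856)) (tt N15383 F153975) (tt N17262 F153976) (tt N19004 (iv F161870)) (tt N15381 F153977) (tt N15380 (iv D33189)) (tt N16463 F153978))
theorem Q17264 : ∀ i, i < 17264 → P i := stepQ 17263 Q17263 (allL N17263 (tt N16382 F153979) (tt N16847 F153980) (tt N15386 F153981) (tt N18954 (iv F161587)) (tt N19004 (iv F161869)) (tt N19005 D34932) (tt N15383 F153982) (tt N18997 (iv F161825)) (tt N15382 (iv D33190)) (tt N16761 F153983))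
theorem Q17265 : ∀ i, i < 17265 → P i := stepQ 17264 Q17264 (allL N17264 (tt N16384 F153984) (tt N17048 F153985) (tt N19003 (iv F161862)) (tt N18880 (iv F161126)) (tt N16917 F153986) (tt N15384 (iv D33191)) (tt N15398 F153987) (tt N18998 (iv F161832)) (tt N19006 D34933) (tt N16911 F153988))
theorem Q17266 : ∀ i, i < 17266 → P i := stepQ 17265 Q17265 (allL N17265 (tt N16385 F153989) (tt N17040 F153990) (tt N19004 (iv F161868)) (tt N16902 F153991) (tt N15386 F153992) (tt N19007 D34934) (tt N15385 F153993) (tt N16663 F153994) (tt N15384 (iv D33192)) (tt N16613 F153995))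
theorem Q17267 : ∀ i, i < 17267 → P i := stepQ 17266 Q17266 (allL N17266 (tt N16386 F153996) (tt N17106 F153997) (tt N19005 (iv F161875)) (tt N15387 F153998) (tt N19008 D34935) (tt N15386 (iv D33193)) (tt N15390 F153999) (tt N18999 (iv F161838)) (tt N16920 F154000) (tt N17099 F154001))
theorem Q17268 : ∀ i, i < 17268 → P i := stepQ 17267 Q17267 (allL N17267 (tt N16388 F154002) (tt N17111 F154003) (tt N18963 (iv F161623)) (tt N19009 D34936) (tt N15387 (iv D33194)) (tt N16899 F154004) (tt N15391 F154005) (tt N16933 F154006) (tt N16922 F154007) (tt N19010 D34937))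
theorem Q17269 : ∀ i, i < 17269 → P i := stepQ 17268 Q17268 (allL N17268 (tt N16389 F154008) (tt N17104 F154009) (tt N18964 (iv F161629)) (tt N17099 F154010) (tt N19010 (iv F161905)) (tt N15388 F154011) (tt N15392 F154012) (tt N19000 (iv F161847)) (tt N19011 D34938) (tt N15387 (iv D33195)))
theorem Q17270 : ∀ i, i < 17270 → P i := stepQ 17269 Q17269 (allL N17269 (tt N16390 F154013) (tt N16968 F154014) (tt N15390 F154015) (tt N18969 (iv F161665)) (tt N19012 D34939) (tt N15389 (iv D33196)) (tt N19005 (iv F161876)) (tt N17269 F154016) (tt N16971 F154017) (tt N16955 F154018))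
theorem Q17271 : ∀ i, i < 17271 → P i := stepQ 17270 Q17270 (allL N17270 (tt N16392 F154019) (tt N17098 F154020) (tt N19012 (iv F161920)) (tt N19013 D34940) (tt N15390 (iv D33197)) (tt N17270 F154021) (tt N19008 (iv F161892)) (tt N17270 F154022) (tt N16974 F154023) (tt N17116 F154024))
theorem Q17272 : ∀ i, i < 17272 → P i := stepQ 17271 Q17271 (allL N17271 (tt N16394 F154025) (tt N17094 F154026) (tt N19014 D34941) (tt N15391 (iv D33198)) (tt N19013 (iv F161927)) (tt N15393 F154027) (tt N19009 (iv F161898)) (tt N17271 F154028) (tt N16950 F154029) (tt N16947 (iv F154030)))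
theorem Q17273 : ∀ i, i < 17273 → P i := stepQ 17272 Q17272 (allL N17272 (tt N16395 F154031) (tt N17052 F154032) (tt N18980 (iv F161720)) (tt N16947 F154033) (tt N15392 F154034) (tt N15394 F154035) (tt N19010 (iv F161907)) (tt N17272 F154036) (tt N16724 F154037) (tt N15391 (iv D33199)))
theorem Q17274 : ∀ i, i < 17274 → P i := stepQ 17273 Q17273 (allL N17273 (tt N16396 F154038) (tt N17095 F154039) (tt N18981 (iv F161727)) (tt N17115 F154040) (tt N16724 F154041) (tt N15432 F154042) (tt N19011 (iv F161915)) (tt N17273 F154043) (tt N15392 (iv D33200)) (tt N16713 F154044))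
theorem Q17275 : ∀ i, i < 17275 → P i := stepQ 17274 Q17274 (allL N17274 (tt N16397 F154045) (tt N16705 F154046) (tt N15393 (iv D33201)) (tt N18993 (iv F161794)) (tt N17274 F154047) (tt N19014 (iv F161934)) (tt N16703 F154048) (tt N17274 F154049) (tt N17274 F154050) (tt N16702 F154051))
theorem Q17276 : ∀ i, i < 17276 → P i := stepQ 17275 Q17275 (allL N17275 (tt N16403 F154052) (tt N16595 F154053) (tt N18882 (iv F161143)) (tt N15397 F154054) (tt N16046 F154055) (tt N19015 D34942) (tt N15396 (iv D33202)) (tt N17275 F154056) (tt N17275 F154057) (tt N16494 F154058))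
theorem Q17277 : ∀ i, i < 17277 → P i := stepQ 17276 Q17276 (allL N17276 (tt N16404 F154059) (tt N16597 F154060) (tt N15398 F154061) (tt N19015 (iv F161940)) (tt N16946 F154062) (tt N15397 (iv D33203)) (tt N19003 (iv F161864)) (tt N17276 F154063) (tt N19016 D34943) (tt N16495 F154064))
theorem Q17278 : ∀ i, i < 17278 → P i := stepQ 17277 Q17277 (allL N17277 (tt N16405 F154065) (tt N17055 F154066) (tt N19016 (iv F161945)) (tt N17116 F154067) (tt N16947 F154068) (tt N17277 F154069) (tt N19006 (iv F161883)) (tt N17277 F154070) (tt N15398 (iv D33204)) (tt N19013 (iv F161931)))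
theorem Q17279 : ∀ i, i < 17279 → P i := stepQ 17278 Q17278 (allL N17278 (tt N15411 F154071) (tt N16406 F154072) (tt N15410 F154073) (tt N15403 F154074) (tt N15409 F154075) (tt N16086 F154076) (tt N15402 F154077) (tt N17278 F154078) (tt N15401 (iv D33205)) (tt N18914 (iv F161344)))
theorem Q17280 : ∀ i, i < 17280 → P i := stepQ 17279 Q17279 (allL N17279 (tt N15413 F154079) (tt N16408 F154080) (tt N16103 F154081) (tt N18914 (iv F161340)) (tt N15408 F154082) (tt N16100 F154083) (tt N15404 F154084) (tt N17279 F154085) (tt N18900 (iv F161265)) (tt N15403 (iv D33206)))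
theorem Q17281 : ∀ i, i < 17281 → P i := stepQ 17280 Q17280 (allL N17280 (tt N15416 F154086) (tt N16409 F154087) (tt N15431 F154088) (tt N15408 F154089) (tt N15424 F154090) (tt N15429 F154091) (tt N15406 F154092) (tt N17280 F154093) (tt N16710 F154094) (tt N15405 (iv D33207)))
theorem Q17282 : ∀ i, i < 17282 → P i := stepQ 17281 Q17281 (allL N17281 (tt N15418 F154095) (tt N16410 F154096) (tt N18858 (iv F160971)) (tt N15429 F154097) (tt N16412 F154098) (tt N15408 F154099) (tt N17281 F154100) (tt N17281 F154101) (tt N19017 D34944) (tt N15407 (iv D33208)))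
theorem Q17283 : ∀ i, i < 17283 → P i := stepQ 17282 Q17282 (allL N17282 (tt N18914 (iv F161337)) (tt N15423 F154102) (tt N16956 F154103) (tt N15413 F154104) (tt N16418 F154105) (tt N16969 F154106) (tt N15412 F154107) (tt N17282 F154108) (tt N18920 (iv F161381)) (tt N15411 (iv D33209)))
theorem Q17284 : ∀ i, i < 17284 → P i := stepQ 17283 Q17283 (allL N17283 (tt N16412 F154109) (tt N15429 F154110) (tt N16976 F154111) (tt N16410 F154112) (tt N15418 F154113) (tt N16409 F154114) (tt N17283 F154115) (tt N17283 F154116) (tt N19018 D34945) (tt N15417 (iv D33210)))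
theorem Q17285 : ∀ i, i < 17285 → P i := stepQ 17284 Q17284 (allL N17284 (tt N19017 (iv F161949)) (tt N15430 F154117) (tt N16943 F154118) (tt N16421 F154119) (tt N19018 (iv F161962)) (tt N16941 F154120) (tt N17284 F154121) (tt N17284 F154122) (tt N15418 (iv D33211)) (tt N17284 F154123))
theorem Q17286 : ∀ i, i < 17286 → P i := stepQ 17285 Q17285 (allL N17285 (tt N16073 F154124) (tt N16414 F154125) (tt N15420 F154126) (tt N17285 F154127) (tt N16058 F154128) (tt N15419 (iv D33212)) (tt N16057 F154129) (tt N17285 F154130) (tt N16072 F154131) (tt N18965 (iv F161639)))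
theorem Q17287 : ∀ i, i < 17287 → P i := stepQ 17286 Q17286 (allL N17286 (tt N16417 F154132) (tt N16418 F154133) (tt N16951 F154134) (tt N15425 F154135) (tt N15423 F154136) (tt N16411 F154137) (tt N15422 F154138) (tt N17286 F154139) (tt N18972 (iv F161686)) (tt N15421 (iv D33213)))
theorem Q17288 : ∀ i, i < 17288 → P i := stepQ 17287 Q17287 (allL N17287 (tt N16419 F154140) (tt N16972 F154141) (tt N15432 F154142) (tt N18915 (iv F161348)) (tt N16710 F154143) (tt N18981 (iv F161729)) (tt N16709 F154144) (tt N17287 F154145) (tt N15424 (iv D33214)) (tt N16712 F154146))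
theorem Q17289 : ∀ i, i < 17289 → P i := stepQ 17288 Q17288 (allL N17288 (tt N16020 F154147) (tt N15910 F154148) (tt N17288 F154149) (tt N18885 (iv F161166)) (tt N17288 F154150) (tt N18988 (iv F161762)) (tt N15802 F154151) (tt N15427 F154152) (tt N15426 (iv D33215)) (tt N15801 F154153))
theorem Q17290 : ∀ i, i < 17290 → P i := stepQ 17289 Q17289 (allL N17289 (tt N16420 F154154) (tt N16421 F154155) (tt N17289 F154156) (tt N15430 F154157) (tt N16413 F154158) (tt N18992 (iv F161788)) (tt N17289 F154159) (tt N17289 F154160) (tt N15428 (iv D33216)) (tt N17289 F154161))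
theorem Q17291 : ∀ i, i < 17291 → P i := stepQ 17290 Q17290 (allL N17290 (tt N16421 F154162) (tt N19018 (iv F161959)) (tt N15435 F154163) (tt N19017 (iv F161952)) (tt N15430 F154164) (tt N16723 F154165) (tt N17290 F154166) (tt N17290 F154167) (tt N15429 (iv D33217)) (tt N17290 F154168))
theorem Q17292 : ∀ i, i < 17292 → P i := stepQ 17291 Q17291 (allL N17291 (tt N16422 F154169) (tt N17291 F154170) (tt N15434 F154171) (tt N18858 (iv F160972)) (tt N17291 F154172) (tt N15680 F154173) (tt N17291 F154174) (tt N17291 F154175) (tt N16035 (iv F154176)) (tt N15433 (iv D33218)))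
theorem Q17293 : ∀ i, i < 17293 → P i := stepQ 17292 Q17292 (allL N17292 (tt N16133 F154177) (tt N15437 F154178) (tt N16423 F154179) (tt N17292 F154180) (tt N15828 F154181) (tt N19019 D34946) (tt N15436 (iv D33219)) (tt N19020 D34947) (tt N15442 F154182) (tt N16296 F154183))
theorem Q17294 : ∀ i, i < 17294 → P i := stepQ 17293 Q17293 (allL N17293 (tt N15455 F154184) (tt N19019 (iv F161968)) (tt N15438 F154185) (tt N17293 F154186) (tt N19021 D34948) (tt N15437 (iv D33220)) (tt N16769 F154187) (tt N19022 D34949) (tt N16573 F154188) (tt N16297 F154189))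
theorem Q17295 : ∀ i, i < 17295 → P i := stepQ 17294 Q17294 (allL N17294 (tt N15456 F154190) (tt N19020 (iv F161975)) (tt N15439 F154191) (tt N17294 F154192) (tt N15830 F154193) (tt N19022 (iv F161991)) (tt N15821 F154194) (tt N15437 (iv D33221)) (tt N15443 F154195) (tt N16298 F154196))
theorem Q17296 : ∀ i, i < 17296 → P i := stepQ 17295 Q17295 (allL N17295 (tt N15457 F154197) (tt N16426 F154198) (tt N19021 (iv F161983)) (tt N15728 F154199) (tt N15438 (iv D33222)) (tt N15831 F154200) (tt N16771 F154201) (tt N19023 D34950) (tt N19024 D34951) (tt N16299 F154202))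
theorem Q17297 : ∀ i, i < 17297 → P i := stepQ 17296 Q17296 (allL N17296 (tt N15458 F154203) (tt N16427 F154204) (tt N19022 (iv F161989)) (tt N15440 F154205) (tt N19023 (iv F161997)) (tt N15439 F154206) (tt N19025 D34952) (tt N15438 (iv D33223)) (tt N19026 D34953) (tt N16300 F154207))
theorem Q17298 : ∀ i, i < 17298 → P i := stepQ 17297 Q17297 (allL N17297 (tt N15459 F154208) (tt N15980 F154209) (tt N16573 F154210) (tt N15441 F154211) (tt N19024 (iv F162004)) (tt N15445 F154212) (tt N16773 F154213) (tt N19026 (iv F162019)) (tt N15438 (iv D33224)) (tt N16374 (iv F154214)))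
theorem Q17299 : ∀ i, i < 17299 → P i := stepQ 17298 Q17298 (allL N17298 (tt N15460 F154215) (tt N16428 F154216) (tt N17298 F154217) (tt N19025 (iv F162010)) (tt N15731 F154218) (tt N15825 F154219) (tt N15440 (iv D33225)) (tt N16774 F154220) (tt N19027 D34954) (tt N16302 F154221))
theorem Q17300 : ∀ i, i < 17300 → P i := stepQ 17299 Q17299 (allL N17299 (tt N15461 F154222) (tt N15981 F154223) (tt N17299 F154224) (tt N19026 (iv F162017)) (tt N15732 F154225) (tt N15447 F154226) (tt N19027 (iv F162025)) (tt N15441 F154227) (tt N15440 (iv D33226)) (tt N16375 (iv F154228)))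
theorem Q17301 : ∀ i, i < 17301 → P i := stepQ 17300 Q17300 (allL N17300 (tt N16132 F154229) (tt N15443 F154230) (tt N16430 F154231) (tt N17300 F154232) (tt N16108 F154233) (tt N16478 F154234) (tt N16148 F154235) (tt N15442 (iv D33227)) (tt N19020 (iv F161980)) (tt N17300 F154236))
theorem Q17302 : ∀ i, i < 17302 → P i := stepQ 17301 Q17301 (allL N17301 (tt N15467 F154237) (tt N16434 F154238) (tt N16571 F154239) (tt N15446 F154240) (tt N16569 F154241) (tt N16153 F154242) (tt N15444 (iv D33228)) (tt N17301 F154243) (tt N19028 D34955) (tt N17301 F154244))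
theorem Q17303 : ∀ i, i < 17303 → P i := stepQ 17302 Q17302 (allL N17302 (tt N15468 F154245) (tt N16036 F154246) (tt N16572 F154247) (tt N15447 F154248) (tt N16570 F154249) (tt N19026 (iv F162018)) (tt N19028 (iv F162033)) (tt N15445 F154250) (tt N15444 (iv D33229)) (tt N16401 (iv F154251)))
theorem Q17304 : ∀ i, i < 17304 → P i := stepQ 17303 Q17303 (allL N17303 (tt N15470 F154252) (tt N16037 F154253) (tt N17303 F154254) (tt N19028 (iv F162031)) (tt N15449 F154255) (tt N19029 D34956) (tt N15447 F154256) (tt N17303 F154257) (tt N15446 (iv D33230)) (tt N16402 (iv F154258)))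
theorem Q17305 : ∀ i, i < 17305 → P i := stepQ 17304 Q17304 (allL N17304 (tt N16769 F154259) (tt N16990 F154260) (tt N15451 F154261) (tt N17304 F154262) (tt N19030 D34957) (tt N15450 (iv D33231)) (tt N15455 F154263) (tt N19031 D34958) (tt N19032 D34959) (tt N15820 F154264))
theorem Q17306 : ∀ i, i < 17306 → P i := stepQ 17305 Q17305 (allL N17305 (tt N16770 F154265) (tt N16992 F154266) (tt N15452 F154267) (tt N17305 F154268) (tt N15837 F154269) (tt N19031 (iv F162053)) (tt N16298 F154270) (tt N15450 (iv D33232)) (tt N17305 F154271) (tt N15821 F154272))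
theorem Q17307 : ∀ i, i < 17307 → P i := stepQ 17306 Q17306 (allL N17306 (tt N16771 F154273) (tt N15500 F154274) (tt N19030 (iv F162045)) (tt N15755 F154275) (tt N15451 (iv D33233)) (tt N15838 F154276) (tt N15457 F154277) (tt N19033 D34960) (tt N19034 D34961) (tt N15822 F154278))
theorem Q17308 : ∀ i, i < 17308 → P i := stepQ 17307 Q17307 (allL N17307 (tt N16772 F154279) (tt N15501 F154280) (tt N19031 (iv F162051)) (tt N15453 F154281) (tt N19033 (iv F162064)) (tt N15452 F154282) (tt N19035 D34962) (tt N15451 (iv D33234)) (tt N19036 D34963) (tt N15823 F154283))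
theorem Q17309 : ∀ i, i < 17309 → P i := stepQ 17308 Q17308 (allL N17308 (tt N16773 F154284) (tt N15502 F154285) (tt N19032 (iv F162057)) (tt N15454 F154286) (tt N19034 (iv F162070)) (tt N17308 F154287) (tt N15459 F154288) (tt N19036 (iv F162082)) (tt N15451 (iv D33235)) (tt N19037 D34964))
theorem Q17310 : ∀ i, i < 17310 → P i := stepQ 17309 Q17309 (allL N17309 (tt N16774 F154289) (tt N15503 F154290) (tt N17309 F154291) (tt N19035 (iv F162074)) (tt N15758 F154292) (tt N16302 F154293) (tt N15453 (iv D33236)) (tt N15460 F154294) (tt N19038 D34965) (tt N15825 F154295))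
theorem Q17311 : ∀ i, i < 17311 → P i := stepQ 17310 Q17310 (allL N17310 (tt N16775 F154296) (tt N15504 F154297) (tt N17310 F154298) (tt N19036 (iv F162080)) (tt N15759 F154299) (tt N17310 F154300) (tt N19038 (iv F162093)) (tt N15454 F154301) (tt N15453 (iv D33237)) (tt N19039 D34966))
theorem Q17312 : ∀ i, i < 17312 → P i := stepQ 17311 Q17311 (allL N17311 (tt N16363 F154302) (tt N15505 F154303) (tt N17311 F154304) (tt N19037 (iv F162085)) (tt N15760 F154305) (tt N17311 F154306) (tt N15462 F154307) (tt N19039 (iv F162100)) (tt N15827 F154308) (tt N15454 (iv D33238)))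
theorem Q17313 : ∀ i, i < 17313 → P i := stepQ 17312 Q17312 (allL N17312 (tt N19021 (iv F161982)) (tt N16813 F154309) (tt N15457 F154310) (tt N19040 D34967) (tt N15455 (iv D33239)) (tt N16741 F154311) (tt N19030 (iv F162047)) (tt N19041 D34968) (tt N19042 D34969) (tt N18926 (iv F161419)))
theorem Q17314 : ∀ i, i < 17314 → P i := stepQ 17313 Q17313 (allL N17313 (tt N19022 (iv F161988)) (tt N16988 F154312) (tt N15458 F154313) (tt N17313 F154314) (tt N19041 (iv F162108)) (tt N15456 F154315) (tt N19043 D34970) (tt N15455 (iv D33240)) (tt N19044 D34971) (tt N18927 (iv F161425)))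
theorem Q17315 : ∀ i, i < 17315 → P i := stepQ 17314 Q17314 (allL N17314 (tt N16573 F154316) (tt N16982 F154317) (tt N15459 F154318) (tt N17314 F154319) (tt N19042 (iv F162113)) (tt N15464 F154320) (tt N19032 (iv F162060)) (tt N19044 (iv F162124)) (tt N15455 (iv D33241)) (tt N19045 D34972))
theorem Q17316 : ∀ i, i < 17316 → P i := stepQ 17315 Q17315 (allL N17315 (tt N19023 (iv F161994)) (tt N15543 F154321) (tt N19041 (iv F162107)) (tt N15789 F154322) (tt N15458 F154323) (tt N16788 F154324) (tt N19046 D34973) (tt N15457 (iv D33242)) (tt N19047 D34974) (tt N18929 (iv F161437)))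
theorem Q17317 : ∀ i, i < 17317 → P i := stepQ 17316 Q17316 (allL N17316 (tt N19024 (iv F162000)) (tt N15544 F154325) (tt N19042 (iv F162112)) (tt N15790 F154326) (tt N15459 F154327) (tt N19048 D34975) (tt N19034 (iv F162071)) (tt N19047 (iv F162136)) (tt N15457 (iv D33243)) (tt N19049 D34976))
theorem Q17318 : ∀ i, i < 17318 → P i := stepQ 17317 Q17317 (allL N17317 (tt N19025 (iv F162008)) (tt N15545 F154328) (tt N19043 (iv F162116)) (tt N15460 F154329) (tt N19046 (iv F162132)) (tt N16783 F154330) (tt N15458 (iv D33244)) (tt N19035 (iv F162076)) (tt N19050 D34977) (tt N18931 (iv F161448)))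
theorem Q17319 : ∀ i, i < 17319 → P i := stepQ 17318 Q17318 (allL N17318 (tt N19026 (iv F162014)) (tt N15546 F154331) (tt N19044 (iv F162121)) (tt N15461 F154332) (tt N19047 (iv F162135)) (tt N15468 F154333) (tt N19050 (iv F162151)) (tt N15459 F154334) (tt N15458 (iv D33245)) (tt N19051 D34978))
theorem Q17320 : ∀ i, i < 17320 → P i := stepQ 17319 Q17319 (allL N17319 (tt N16374 F154335) (tt N15547 F154336) (tt N19045 (iv F162127)) (tt N15462 F154337) (tt N19049 (iv F162147)) (tt N15469 F154338) (tt N19037 (iv F162087)) (tt N19051 (iv F162156)) (tt N18933 (iv F161459)) (tt N15459 (iv D33246)))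
theorem Q17321 : ∀ i, i < 17321 → P i := stepQ 17320 Q17320 (allL N17320 (tt N19027 (iv F162021)) (tt N15548 F154339) (tt N17320 F154340) (tt N19050 (iv F162150)) (tt N15794 F154341) (tt N19052 D34979) (tt N15461 F154342) (tt N19038 (iv F162094)) (tt N15460 (iv D33247)) (tt N19053 D34980))
theorem Q17322 : ∀ i, i < 17322 → P i := stepQ 17321 Q17321 (allL N17321 (tt N16375 F154343) (tt N15549 F154344) (tt N17321 F154345) (tt N19051 (iv F162154)) (tt N15795 F154346) (tt N15471 F154347) (tt N19053 (iv F162165)) (tt N15462 F154348) (tt N18935 (iv F161472)) (tt N15461 (iv D33248)))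
theorem Q17323 : ∀ i, i < 17323 → P i := stepQ 17322 Q17322 (allL N17322 (tt N16571 F154349) (tt N16980 F154350) (tt N15467 F154351) (tt N17322 F154352) (tt N15550 F154353) (tt N16977 F154354) (tt N15463 (iv D33249)) (tt N17322 F154355) (tt N19054 D34981) (tt N17322 F154356))
theorem Q17324 : ∀ i, i < 17324 → P i := stepQ 17323 Q17323 (allL N17323 (tt N16572 F154357) (tt N16981 F154358) (tt N15468 F154359) (tt N17323 F154360) (tt N15551 F154361) (tt N19044 (iv F162123)) (tt N19054 (iv F162171)) (tt N15464 F154362) (tt N15463 (iv D33250)) (tt N19055 D34982))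
theorem Q17325 : ∀ i, i < 17325 → P i := stepQ 17324 Q17324 (allL N17324 (tt N16400 F154363) (tt N16983 F154364) (tt N15469 F154365) (tt N17324 F154366) (tt N15552 F154367) (tt N19045 (iv F162129)) (tt N17324 F154368) (tt N19055 (iv F162178)) (tt N17324 F154369) (tt N15464 (iv D33251)))
theorem Q17326 : ∀ i, i < 17326 → P i := stepQ 17325 Q17325 (allL N17325 (tt N16569 F154370) (tt N15564 F154371) (tt N15550 F154372) (tt N15473 F154373) (tt N15467 F154374) (tt N15561 F154375) (tt N15465 (iv D33252)) (tt N17325 F154376) (tt N19056 D34983) (tt N17325 F154377))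
theorem Q17327 : ∀ i, i < 17327 → P i := stepQ 17326 Q17326 (allL N17326 (tt N16570 F154378) (tt N15565 F154379) (tt N15551 F154380) (tt N15474 F154381) (tt N15468 F154382) (tt N19057 D34984) (tt N19056 (iv F162185)) (tt N15466 F154383) (tt N15465 (iv D33253)) (tt N15932 (iv F154384)))
theorem Q17328 : ∀ i, i < 17328 → P i := stepQ 17327 Q17327 (allL N17327 (tt N16529 F154385) (tt N15566 F154386) (tt N15523 F154387) (tt N15475 F154388) (tt N19048 (iv F162141)) (tt N15466 (iv D33254)) (tt N19058 D34985) (tt N19057 (iv F162192)) (tt N15519 F154389) (tt N16181 F154390))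
theorem Q17329 : ∀ i, i < 17329 → P i := stepQ 17328 Q17328 (allL N17328 (tt N19028 (iv F162028)) (tt N15568 F154391) (tt N19054 (iv F162168)) (tt N15470 F154392) (tt N19056 (iv F162184)) (tt N19059 D34986) (tt N15468 F154393) (tt N17328 F154394) (tt N15467 (iv D33255)) (tt N19060 D34987))
theorem Q17330 : ∀ i, i < 17330 → P i := stepQ 17329 Q17329 (allL N17329 (tt N16401 F154395) (tt N15569 F154396) (tt N19055 (iv F162175)) (tt N15471 F154397) (tt N15932 F154398) (tt N19051 (iv F162155)) (tt N19060 (iv F162210)) (tt N15469 F154399) (tt N17329 F154400) (tt N15468 (iv D33256)))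
theorem Q17331 : ∀ i, i < 17331 → P i := stepQ 17330 Q17330 (allL N17330 (tt N19029 (iv F162036)) (tt N15570 F154401) (tt N17330 F154402) (tt N19059 (iv F162203)) (tt N19061 D34988) (tt N15470 (iv D33257)) (tt N19052 (iv F162159)) (tt N17330 F154403) (tt N16986 F154404) (tt N19062 D34989))
theorem Q17332 : ∀ i, i < 17332 → P i := stepQ 17331 Q17331 (allL N17331 (tt N16402 F154405) (tt N15571 F154406) (tt N17331 F154407) (tt N19060 (iv F162208)) (tt N15478 F154408) (tt N19062 (iv F162224)) (tt N15471 F154409) (tt N17331 F154410) (tt N17331 F154411) (tt N15470 (iv D33258)))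
theorem Q17333 : ∀ i, i < 17333 → P i := stepQ 17332 Q17332 (allL N17332 (tt N16603 F154412) (tt N15573 F154413) (tt N15664 F154414) (tt N19056 (iv F162183)) (tt N15476 F154415) (tt N19063 D34990) (tt N15474 F154416) (tt N17332 F154417) (tt N15473 (iv D33259)) (tt N15578 (iv F154418)))
theorem Q17334 : ∀ i, i < 17334 → P i := stepQ 17333 Q17333 (allL N17333 (tt N16659 F154419) (tt N15574 F154420) (tt N15630 F154421) (tt N19057 (iv F162191)) (tt N15816 F154422) (tt N15474 (iv D33260)) (tt N19064 D34991) (tt N15475 F154423) (tt N15627 F154424) (tt N15926 F154425))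
theorem Q17335 : ∀ i, i < 17335 → P i := stepQ 17334 Q17334 (allL N17334 (tt N16609 F154426) (tt N15576 F154427) (tt N15585 F154428) (tt N19058 (iv F162198)) (tt N15817 F154429) (tt N17334 F154430) (tt N15475 (iv D33261)) (tt N19065 D34992) (tt N15581 F154431) (tt N16173 F154432))
theorem Q17336 : ∀ i, i < 17336 → P i := stepQ 17335 Q17335 (allL N17335 (tt N16045 F154433) (tt N15578 F154434) (tt N17335 F154435) (tt N19066 D34993) (tt N15477 (iv D33262)) (tt N19061 (iv F162216)) (tt N15575 F154436) (tt N17335 F154437) (tt N17335 F154438) (tt N15573 F154439))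
theorem Q17337 : ∀ i, i < 17337 → P i := stepQ 17336 Q17336 (allL N17336 (tt N16498 F154440) (tt N16870 F154441) (tt N15480 F154442) (tt N17336 F154443) (tt N19067 D34994) (tt N15479 (iv D33263)) (tt N15775 F154444) (tt N19068 D34995) (tt N19069 D34996) (tt N15753 F154445))
theorem Q17338 : ∀ i, i < 17338 → P i := stepQ 17337 Q17337 (allL N17337 (tt N16499 F154446) (tt N16993 F154447) (tt N15481 F154448) (tt N17337 F154449) (tt N15499 F154450) (tt N19068 (iv F162263)) (tt N16270 F154451) (tt N15479 (iv D33264)) (tt N17337 F154452) (tt N15754 F154453))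
theorem Q17339 : ∀ i, i < 17339 → P i := stepQ 17338 Q17338 (allL N17338 (tt N16500 F154454) (tt N15838 F154455) (tt N19067 (iv F162255)) (tt N15822 F154456) (tt N15480 (iv D33265)) (tt N15500 F154457) (tt N15777 F154458) (tt N19070 D34997) (tt N19071 D34998) (tt N15755 F154459))
theorem Q17340 : ∀ i, i < 17340 → P i := stepQ 17339 Q17339 (allL N17339 (tt N16501 F154460) (tt N15839 F154461) (tt N19068 (iv F162261)) (tt N15482 F154462) (tt N19070 (iv F162274)) (tt N15481 F154463) (tt N19072 D34999) (tt N15480 (iv D33266)) (tt N19073 D35000) (tt N15756 F154464))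
theorem Q17341 : ∀ i, i < 17341 → P i := stepQ 17340 Q17340 (allL N17340 (tt N16502 F154465) (tt N15840 F154466) (tt N19069 (iv F162267)) (tt N15483 F154467) (tt N19071 (iv F162280)) (tt N17340 F154468) (tt N15779 F154469) (tt N19073 (iv F162292)) (tt N15480 (iv D33267)) (tt N19074 D35001))
theorem Q17342 : ∀ i, i < 17342 → P i := stepQ 17341 Q17341 (allL N17341 (tt N16503 F154470) (tt N15841 F154471) (tt N17341 F154472) (tt N19072 (iv F162284)) (tt N15825 F154473) (tt N16274 F154474) (tt N15482 (iv D33268)) (tt N15780 F154475) (tt N19075 D35002) (tt N15758 F154476))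
theorem Q17343 : ∀ i, i < 17343 → P i := stepQ 17342 Q17342 (allL N17342 (tt N16504 F154477) (tt N15842 F154478) (tt N17342 F154479) (tt N19073 (iv F162290)) (tt N15826 F154480) (tt N17342 F154481) (tt N19075 (iv F162303)) (tt N15483 F154482) (tt N15482 (iv D33269)) (tt N19076 D35003))
theorem Q17344 : ∀ i, i < 17344 → P i := stepQ 17343 Q17343 (allL N17343 (tt N16365 F154483) (tt N15843 F154484) (tt N17343 F154485) (tt N19074 (iv F162295)) (tt N15827 F154486) (tt N17343 F154487) (tt N15782 F154488) (tt N19076 (iv F162310)) (tt N15760 F154489) (tt N15483 (iv D33270)))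
theorem Q17345 : ∀ i, i < 17345 → P i := stepQ 17344 Q17344 (allL N17344 (tt N15484 (iv D33271)) (tt N16455 F154490) (tt N16143 F154491) (tt N15579 F154492) (tt N16140 F154493) (tt N15518 F154494) (tt N19077 D35004) (tt N15496 F154495) (tt N17344 F154496) (tt N16139 F154497))
theorem Q17346 : ∀ i, i < 17346 → P i := stepQ 17345 Q17345 (allL N17345 (tt N19077 (iv F162312)) (tt N15485 F154498) (tt N16296 F154499) (tt N15580 F154500) (tt N16268 F154501) (tt N18871 (iv F161066)) (tt N15484 (iv D33272)) (tt N19078 D35005) (tt N17345 F154502) (tt N16423 F154503))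
theorem Q17347 : ∀ i, i < 17347 → P i := stepQ 17346 Q17346 (allL N17346 (tt N16457 F154504) (tt N18871 (iv F161063)) (tt N15486 F154505) (tt N15581 F154506) (tt N19079 D35006) (tt N15485 (iv D33273)) (tt N15519 F154507) (tt N19080 D35007) (tt N19058 (iv F162200)) (tt N16424 F154508))
theorem Q17348 : ∀ i, i < 17348 → P i := stepQ 17347 Q17347 (allL N17347 (tt N16458 F154509) (tt N19078 (iv F162320)) (tt N15487 F154510) (tt N15582 F154511) (tt N16270 F154512) (tt N19080 (iv F162335)) (tt N15499 F154513) (tt N15485 (iv D33274)) (tt N17347 F154514) (tt N16425 F154515))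
theorem Q17349 : ∀ i, i < 17349 → P i := stepQ 17348 Q17348 (allL N17348 (tt N16459 F154516) (tt N16299 F154517) (tt N19079 (iv F162328)) (tt N16733 F154518) (tt N15486 (iv D33275)) (tt N16271 F154519) (tt N15521 F154520) (tt N19081 D35008) (tt N19082 D35009) (tt N16426 F154521))
theorem Q17350 : ∀ i, i < 17350 → P i := stepQ 17349 Q17349 (allL N17349 (tt N16460 F154522) (tt N16300 F154523) (tt N19080 (iv F162333)) (tt N15488 F154524) (tt N19081 (iv F162340)) (tt N15487 F154525) (tt N19083 D35010) (tt N15486 (iv D33276)) (tt N19084 D35011) (tt N16427 F154526))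
theorem Q17351 : ∀ i, i < 17351 → P i := stepQ 17350 Q17350 (allL N17350 (tt N16461 F154527) (tt N16301 F154528) (tt N19058 (iv F162197)) (tt N15489 F154529) (tt N19082 (iv F162346)) (tt N17350 F154530) (tt N15523 F154531) (tt N19084 (iv F162359)) (tt N15486 (iv D33277)) (tt N16379 F154532))
theorem Q17352 : ∀ i, i < 17352 → P i := stepQ 17351 Q17351 (allL N17351 (tt N16462 F154533) (tt N16302 F154534) (tt N15586 F154535) (tt N19083 (iv F162351)) (tt N16735 F154536) (tt N15503 F154537) (tt N15488 (iv D33278)) (tt N15524 F154538) (tt N19085 D35012) (tt N16428 F154539))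
theorem Q17353 : ∀ i, i < 17353 → P i := stepQ 17352 Q17352 (allL N17352 (tt N16463 F154540) (tt N16303 F154541) (tt N15587 F154542) (tt N19084 (iv F162357)) (tt N16383 F154543) (tt N17352 F154544) (tt N19085 (iv F162365)) (tt N15489 F154545) (tt N15488 (iv D33279)) (tt N16381 F154546))
theorem Q17354 : ∀ i, i < 17354 → P i := stepQ 17353 Q17353 (allL N17353 (tt N15490 (iv D33280)) (tt N16445 F154547) (tt N15818 F154548) (tt N15588 F154549) (tt N15751 F154550) (tt N15527 F154551) (tt N19086 D35013) (tt N16139 F154552) (tt N16112 F154553) (tt N15496 F154554))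
theorem Q17355 : ∀ i, i < 17355 → P i := stepQ 17354 Q17354 (allL N17354 (tt N19086 (iv F162368)) (tt N15491 F154555) (tt N15819 F154556) (tt N15589 F154557) (tt N15752 F154558) (tt N19087 D35014) (tt N15490 (iv D33281)) (tt N19088 D35015) (tt N16113 F154559) (tt N15497 F154560))
theorem Q17356 : ∀ i, i < 17356 → P i := stepQ 17355 Q17355 (allL N17355 (tt N16447 F154561) (tt N19087 (iv F162375)) (tt N15492 F154562) (tt N15590 F154563) (tt N19089 D35016) (tt N15491 (iv D33282)) (tt N15529 F154564) (tt N19090 D35017) (tt N19091 D35018) (tt N15498 F154565))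
theorem Q17357 : ∀ i, i < 17357 → P i := stepQ 17356 Q17356 (allL N17356 (tt N16448 F154566) (tt N19088 (iv F162380)) (tt N15493 F154567) (tt N15591 F154568) (tt N15754 F154569) (tt N19090 (iv F162395)) (tt N16425 F154570) (tt N15491 (iv D33283)) (tt N16115 F154571) (tt N15499 F154572))
theorem Q17358 : ∀ i, i < 17358 → P i := stepQ 17357 Q17357 (allL N17357 (tt N16449 F154573) (tt N15822 F154574) (tt N19089 (iv F162388)) (tt N15838 F154575) (tt N15492 (iv D33284)) (tt N15755 F154576) (tt N15531 F154577) (tt N19092 D35019) (tt N19093 D35020) (tt N15500 F154578))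
theorem Q17359 : ∀ i, i < 17359 → P i := stepQ 17358 Q17358 (allL N17358 (tt N16450 F154579) (tt N15823 F154580) (tt N19090 (iv F162393)) (tt N15494 F154581) (tt N19092 (iv F162406)) (tt N15493 F154582) (tt N19094 D35021) (tt N15492 (iv D33285)) (tt N19095 D35022) (tt N15501 F154583))
theorem Q17360 : ∀ i, i < 17360 → P i := stepQ 17359 Q17359 (allL N17359 (tt N16451 F154584) (tt N15824 F154585) (tt N19091 (iv F162398)) (tt N15495 F154586) (tt N19093 (iv F162412)) (tt N16118 F154587) (tt N15533 F154588) (tt N19095 (iv F162424)) (tt N15492 (iv D33286)) (tt N19096 D35023))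
theorem Q17361 : ∀ i, i < 17361 → P i := stepQ 17360 Q17360 (allL N17360 (tt N16452 F154589) (tt N15825 F154590) (tt N15595 F154591) (tt N19094 (iv F162416)) (tt N15841 F154592) (tt N16428 F154593) (tt N15494 (iv D33287)) (tt N15534 F154594) (tt N19097 D35024) (tt N15503 F154595))
theorem Q17362 : ∀ i, i < 17362 → P i := stepQ 17361 Q17361 (allL N17361 (tt N16453 F154596) (tt N15826 F154597) (tt N15596 F154598) (tt N19095 (iv F162422)) (tt N15842 F154599) (tt N16120 F154600) (tt N19097 (iv F162436)) (tt N15495 F154601) (tt N15494 (iv D33288)) (tt N19098 D35025))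
theorem Q17363 : ∀ i, i < 17363 → P i := stepQ 17362 Q17362 (allL N17362 (tt N16454 F154602) (tt N15827 F154603) (tt N15597 F154604) (tt N19096 (iv F162428)) (tt N15843 F154605) (tt N16121 F154606) (tt N15536 F154607) (tt N19098 (iv F162443)) (tt N15505 F154608) (tt N15495 (iv D33289)))
theorem Q17364 : ∀ i, i < 17364 → P i := stepQ 17363 Q17363 (allL N17363 (tt N15497 F154609) (tt N16505 F154610) (tt N16171 F154611) (tt N15598 F154612) (tt N16177 F154613) (tt N19099 D35026) (tt N15496 (iv D33290)) (tt N19100 D35027) (tt N17363 F154614) (tt N19086 (iv F162374)))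
theorem Q17365 : ∀ i, i < 17365 → P i := stepQ 17364 Q17364 (allL N17364 (tt N19099 (iv F162445)) (tt N15498 F154615) (tt N16990 F154616) (tt N15599 F154617) (tt N19101 D35028) (tt N15497 (iv D33291)) (tt N15538 F154618) (tt N19102 D35029) (tt N19103 D35030) (tt N19087 (iv F162379)))
theorem Q17366 : ∀ i, i < 17366 → P i := stepQ 17365 Q17365 (allL N17365 (tt N19100 (iv F162450)) (tt N15499 F154619) (tt N16992 F154620) (tt N15600 F154621) (tt N16993 F154622) (tt N19102 (iv F162463)) (tt N19078 (iv F162324)) (tt N15497 (iv D33292)) (tt N17365 F154623) (tt N19088 (iv F162386)))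
theorem Q17367 : ∀ i, i < 17367 → P i := stepQ 17366 Q17366 (allL N17366 (tt N16508 F154624) (tt N19101 (iv F162456)) (tt N15500 F154625) (tt N19104 D35031) (tt N15498 (iv D33293)) (tt N19067 (iv F162256)) (tt N15540 F154626) (tt N19105 D35032) (tt N19106 D35033) (tt N19089 (iv F162391)))
theorem Q17368 : ∀ i, i < 17368 → P i := stepQ 17367 Q17367 (allL N17367 (tt N16509 F154627) (tt N19102 (iv F162460)) (tt N15501 F154628) (tt N15602 F154629) (tt N19105 (iv F162475)) (tt N15499 F154630) (tt N19107 D35034) (tt N15498 (iv D33294)) (tt N19108 D35035) (tt N19090 (iv F162396)))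
theorem Q17369 : ∀ i, i < 17369 → P i := stepQ 17368 Q17368 (allL N17368 (tt N16510 F154631) (tt N19103 (iv F162464)) (tt N15502 F154632) (tt N15603 F154633) (tt N19106 (iv F162478)) (tt N17368 F154634) (tt N15542 F154635) (tt N19108 (iv F162488)) (tt N15498 (iv D33295)) (tt N19109 D35036))
theorem Q17370 : ∀ i, i < 17370 → P i := stepQ 17369 Q17369 (allL N17369 (tt N16511 F154636) (tt N19033 (iv F162062)) (tt N19105 (iv F162474)) (tt N15850 F154637) (tt N15501 F154638) (tt N19070 (iv F162275)) (tt N19110 D35037) (tt N15500 (iv D33296)) (tt N19111 D35038) (tt N19092 (iv F162408)))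
theorem Q17371 : ∀ i, i < 17371 → P i := stepQ 17370 Q17370 (allL N17370 (tt N16512 F154639) (tt N19034 (iv F162068)) (tt N19106 (iv F162477)) (tt N15851 F154640) (tt N15502 F154641) (tt N19112 D35039) (tt N15544 F154642) (tt N19111 (iv F162502)) (tt N15500 (iv D33297)) (tt N19113 D35040))
theorem Q17372 : ∀ i, i < 17372 → P i := stepQ 17371 Q17371 (allL N17371 (tt N16513 F154643) (tt N19035 (iv F162073)) (tt N19107 (iv F162481)) (tt N15503 F154644) (tt N19110 (iv F162497)) (tt N19083 (iv F162352)) (tt N15501 (iv D33298)) (tt N15545 F154645) (tt N19114 D35041) (tt N19094 (iv F162419)))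
theorem Q17373 : ∀ i, i < 17373 → P i := stepQ 17372 Q17372 (allL N17372 (tt N16514 F154646) (tt N19036 (iv F162079)) (tt N19108 (iv F162485)) (tt N15504 F154647) (tt N19111 (iv F162501)) (tt N17372 F154648) (tt N19114 (iv F162512)) (tt N15502 F154649) (tt N15501 (iv D33299)) (tt N19115 D35042))
theorem Q17374 : ∀ i, i < 17374 → P i := stepQ 17373 Q17373 (allL N17373 (tt N16515 F154650) (tt N19037 (iv F162084)) (tt N19109 (iv F162490)) (tt N15505 F154651) (tt N19113 (iv F162508)) (tt N17373 F154652) (tt N15547 F154653) (tt N19115 (iv F162517)) (tt N19096 (iv F162431)) (tt N15502 (iv D33300)))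
theorem Q17375 : ∀ i, i < 17375 → P i := stepQ 17374 Q17374 (allL N17374 (tt N16516 F154654) (tt N19038 (iv F162090)) (tt N15609 F154655) (tt N19114 (iv F162511)) (tt N15855 F154656) (tt N19116 D35043) (tt N15504 F154657) (tt N15548 F154658) (tt N15503 (iv D33301)) (tt N19117 D35044))
theorem Q17376 : ∀ i, i < 17376 → P i := stepQ 17375 Q17375 (allL N17375 (tt N16517 F154659) (tt N19039 (iv F162096)) (tt N15610 F154660) (tt N19115 (iv F162515)) (tt N15856 F154661) (tt N17375 F154662) (tt N19117 (iv F162525)) (tt N15505 F154663) (tt N19098 (iv F162444)) (tt N15504 (iv D33302)))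
theorem Q17377 : ∀ i, i < 17377 → P i := stepQ 17376 Q17376 (allL N17376 (tt N15506 (iv D33303)) (tt N16144 F154664) (tt N16176 F154665) (tt N15611 F154666) (tt N16436 F154667) (tt N16111 F154668) (tt N16203 (iv F154672)) (tt N15857 F154669) (tt N17376 F154670) (tt N16109 F154671))
theorem Q17378 : ∀ i, i < 17378 → P i := stepQ 17377 Q17377 (allL N17377 (tt N16203 F154673) (tt N15507 F154674) (tt N16497 F154675) (tt N15612 F154676) (tt N16437 F154677) (tt N19118 D35045) (tt N15506 (iv D33304)) (tt N19119 D35046) (tt N17377 F154678) (tt N16124 F154679))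
theorem Q17379 : ∀ i, i < 17379 → P i := stepQ 17378 Q17378 (allL N17378 (tt N16518 F154680) (tt N19118 (iv F162528)) (tt N15508 F154681) (tt N15613 F154682) (tt N19120 D35047) (tt N15507 (iv D33305)) (tt N15873 F154683) (tt N19121 D35048) (tt N16314 (iv F154685)) (tt N15833 F154684))
theorem Q17380 : ∀ i, i < 17380 → P i := stepQ 17379 Q17379 (allL N17379 (tt N16519 F154686) (tt N19119 (iv F162535)) (tt N15509 F154687) (tt N15614 F154688) (tt N16439 F154689) (tt N19121 (iv F162551)) (tt N15860 F154690) (tt N15507 (iv D33306)) (tt N17379 F154691) (tt N16158 F154692))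
theorem Q17381 : ∀ i, i < 17381 → P i := stepQ 17380 Q17380 (allL N17380 (tt N16520 F154693) (tt N16500 F154694) (tt N19120 (iv F162543)) (tt N15521 F154695) (tt N15508 (iv D33307)) (tt N16440 F154696) (tt N16733 F154697) (tt N19122 D35049) (tt N19123 D35050) (tt N16212 F154698))
theorem Q17382 : ∀ i, i < 17382 → P i := stepQ 17381 Q17381 (allL N17381 (tt N16521 F154699) (tt N16501 F154700) (tt N19121 (iv F162549)) (tt N15510 F154701) (tt N19122 (iv F162557)) (tt N15509 F154702) (tt N19124 D35051) (tt N15508 (iv D33308)) (tt N19125 D35052) (tt N16213 F154703))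
theorem Q17383 : ∀ i, i < 17383 → P i := stepQ 17382 Q17382 (allL N17382 (tt N16522 F154704) (tt N16502 F154705) (tt N16314 F154706) (tt N15511 F154707) (tt N19123 (iv F162564)) (tt N17382 F154708) (tt N16325 F154709) (tt N19125 (iv F162578)) (tt N15508 (iv D33309)) (tt N16309 F154710))
theorem Q17384 : ∀ i, i < 17384 → P i := stepQ 17383 Q17383 (allL N17383 (tt N16523 F154711) (tt N16503 F154712) (tt N15617 F154713) (tt N19124 (iv F162569)) (tt N15524 F154714) (tt N15864 F154715) (tt N15510 (iv D33310)) (tt N16735 F154716) (tt N19126 D35053) (tt N16214 F154717))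
theorem Q17385 : ∀ i, i < 17385 → P i := stepQ 17384 Q17384 (allL N17384 (tt N16524 F154718) (tt N16504 F154719) (tt N15618 F154720) (tt N19125 (iv F162576)) (tt N15525 F154721) (tt N17384 F154722) (tt N19126 (iv F162584)) (tt N15511 F154723) (tt N15510 (iv D33311)) (tt N16369 F154724))
theorem Q17386 : ∀ i, i < 17386 → P i := stepQ 17385 Q17385 (allL N17385 (tt N15512 (iv D33312)) (tt N16436 F154725) (tt N16142 F154726) (tt N15619 F154727) (tt N16144 F154728) (tt N16139 F154729) (tt N16228 F154730) (tt N15527 F154731) (tt N17385 F154732) (tt N15518 F154733))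
theorem Q17387 : ∀ i, i < 17387 → P i := stepQ 17386 Q17386 (allL N17386 (tt N16438 F154734) (tt N18872 (iv F161070)) (tt N15514 F154735) (tt N15620 F154736) (tt N19127 D35054) (tt N15513 (iv D33313)) (tt N16424 F154737) (tt N19128 D35055) (tt N19129 D35056) (tt N15519 F154738))
theorem Q17388 : ∀ i, i < 17388 → P i := stepQ 17387 Q17387 (allL N17387 (tt N16439 F154739) (tt N18870 (iv F161055)) (tt N15515 F154740) (tt N15621 F154741) (tt N16519 F154742) (tt N19128 (iv F162595)) (tt N15530 F154743) (tt N15513 (iv D33314)) (tt N17387 F154744) (tt N15520 F154745))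
theorem Q17389 : ∀ i, i < 17389 → P i := stepQ 17388 Q17388 (allL N17388 (tt N16440 F154746) (tt N16771 F154747) (tt N19127 (iv F162588)) (tt N16212 F154748) (tt N15514 (iv D33315)) (tt N16520 F154749) (tt N16426 F154750) (tt N19130 D35057) (tt N19131 D35058) (tt N15521 F154751))
theorem Q17390 : ∀ i, i < 17390 → P i := stepQ 17389 Q17389 (allL N17389 (tt N16441 F154752) (tt N16772 F154753) (tt N19128 (iv F162593)) (tt N15516 F154754) (tt N19130 (iv F162606)) (tt N15515 F154755) (tt N19132 D35059) (tt N15514 (iv D33316)) (tt N19133 D35060) (tt N15522 F154756))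
theorem Q17391 : ∀ i, i < 17391 → P i := stepQ 17390 Q17390 (allL N17390 (tt N16442 F154757) (tt N16773 F154758) (tt N19129 (iv F162598)) (tt N15517 F154759) (tt N19131 (iv F162612)) (tt N17390 F154760) (tt N15980 F154761) (tt N19133 (iv F162625)) (tt N15514 (iv D33317)) (tt N16366 (iv F154762)))
theorem Q17392 : ∀ i, i < 17392 → P i := stepQ 17391 Q17391 (allL N17391 (tt N16443 F154763) (tt N16774 F154764) (tt N15625 F154765) (tt N19132 (iv F162617)) (tt N16214 F154766) (tt N15534 F154767) (tt N15516 (iv D33318)) (tt N16428 F154768) (tt N19134 D35061) (tt N15524 F154769))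
theorem Q17393 : ∀ i, i < 17393 → P i := stepQ 17392 Q17392 (allL N17392 (tt N16444 F154770) (tt N16775 F154771) (tt N15626 F154772) (tt N19133 (iv F162623)) (tt N15938 F154773) (tt N17392 F154774) (tt N19134 (iv F162631)) (tt N15517 F154775) (tt N15516 (iv D33319)) (tt N16367 (iv F154776)))
theorem Q17394 : ∀ i, i < 17394 → P i := stepQ 17393 Q17393 (allL N17393 (tt N16527 F154777) (tt N18864 (iv F161014)) (tt N15521 F154778) (tt N18908 (iv F161307)) (tt N15519 (iv D33320)) (tt N16738 F154779) (tt N19079 (iv F162330)) (tt N19135 D35062) (tt N19048 (iv F162142)) (tt N19127 (iv F162591)))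
theorem Q17395 : ∀ i, i < 17395 → P i := stepQ 17394 Q17394 (allL N17394 (tt N16528 F154780) (tt N18869 (iv F161049)) (tt N15522 F154781) (tt N15627 F154782) (tt N19135 (iv F162636)) (tt N15520 F154783) (tt N19136 D35063) (tt N15519 (iv D33321)) (tt N19057 (iv F162193)) (tt N19128 (iv F162596)))
theorem Q17396 : ∀ i, i < 17396 → P i := stepQ 17395 Q17395 (allL N17395 (tt N16530 F154784) (tt N16781 F154785) (tt N19135 (iv F162635)) (tt N19122 (iv F162556)) (tt N15522 F154786) (tt N16740 F154787) (tt N19137 D35064) (tt N15521 (iv D33322)) (tt N19138 D35065) (tt N19130 (iv F162608)))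
theorem Q17397 : ∀ i, i < 17397 → P i := stepQ 17396 Q17396 (allL N17396 (tt N16531 F154788) (tt N16782 F154789) (tt N19048 (iv F162139)) (tt N19123 (iv F162563)) (tt N15523 F154790) (tt N19042 (iv F162114)) (tt N19082 (iv F162347)) (tt N19138 (iv F162648)) (tt N15521 (iv D33323)) (tt N19139 D35066))
theorem Q17398 : ∀ i, i < 17398 → P i := stepQ 17397 Q17397 (allL N17397 (tt N16532 F154791) (tt N16783 F154792) (tt N19136 (iv F162639)) (tt N15524 F154793) (tt N19137 (iv F162644)) (tt N15545 F154794) (tt N15522 (iv D33324)) (tt N19083 (iv F162353)) (tt N19140 D35067) (tt N19132 (iv F162620)))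
theorem Q17399 : ∀ i, i < 17399 → P i := stepQ 17398 Q17398 (allL N17398 (tt N16533 F154795) (tt N16784 F154796) (tt N19057 (iv F162190)) (tt N15525 F154797) (tt N19138 (iv F162647)) (tt N15551 F154798) (tt N19140 (iv F162659)) (tt N15523 F154799) (tt N15522 (iv D33325)) (tt N19141 D35068))
theorem Q17400 : ∀ i, i < 17400 → P i := stepQ 17399 Q17399 (allL N17399 (tt N16534 F154800) (tt N16785 F154801) (tt N16181 F154802) (tt N15526 F154803) (tt N19139 (iv F162653)) (tt N15552 F154804) (tt N16379 F154805) (tt N19141 (iv F162665)) (tt N16366 F154806) (tt N15523 (iv D33326)))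
theorem Q17401 : ∀ i, i < 17401 → P i := stepQ 17400 Q17400 (allL N17400 (tt N16535 F154807) (tt N16786 F154808) (tt N15631 F154809) (tt N19140 (iv F162658)) (tt N19126 (iv F162583)) (tt N19142 D35069) (tt N15525 F154810) (tt N19085 (iv F162366)) (tt N15524 (iv D33327)) (tt N19143 D35070))
theorem Q17402 : ∀ i, i < 17402 → P i := stepQ 17401 Q17401 (allL N17401 (tt N16536 F154811) (tt N16787 F154812) (tt N15632 F154813) (tt N19141 (iv F162663)) (tt N16369 F154814) (tt N15554 F154815) (tt N19143 (iv F162676)) (tt N15526 F154816) (tt N16367 F154817) (tt N15525 (iv D33328)))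
theorem Q17403 : ∀ i, i < 17403 → P i := stepQ 17402 Q17402 (allL N17402 (tt N15528 F154818) (tt N16537 F154819) (tt N16166 F154820) (tt N15633 F154821) (tt N16162 F154822) (tt N19144 D35071) (tt N15527 (iv D33329)) (tt N19145 D35072) (tt N17402 F154823) (tt N15537 F154824))
theorem Q17404 : ∀ i, i < 17404 → P i := stepQ 17403 Q17403 (allL N17403 (tt N19144 (iv F162679)) (tt N15529 F154825) (tt N16991 F154826) (tt N15634 F154827) (tt N19146 D35073) (tt N15528 (iv D33330)) (tt N19087 (iv F162378)) (tt N19147 D35074) (tt N19148 D35075) (tt N15538 F154828))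
theorem Q17405 : ∀ i, i < 17405 → P i := stepQ 17404 Q17404 (allL N17404 (tt N19145 (iv F162684)) (tt N15530 F154829) (tt N16989 F154830) (tt N15635 F154831) (tt N16819 F154832) (tt N19147 (iv F162699)) (tt N18870 (iv F161059)) (tt N15528 (iv D33331)) (tt N17404 F154833) (tt N15539 F154834))
theorem Q17406 : ∀ i, i < 17406 → P i := stepQ 17405 Q17405 (allL N17405 (tt N16540 F154835) (tt N19146 (iv F162692)) (tt N15531 F154836) (tt N19149 D35076) (tt N15529 (iv D33332)) (tt N16820 F154837) (tt N19089 (iv F162390)) (tt N19150 D35077) (tt N19151 D35078) (tt N15540 F154838))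
theorem Q17407 : ∀ i, i < 17407 → P i := stepQ 17406 Q17406 (allL N17406 (tt N16541 F154839) (tt N19147 (iv F162696)) (tt N15532 F154840) (tt N15637 F154841) (tt N19150 (iv F162712)) (tt N15530 F154842) (tt N19152 D35079) (tt N15529 (iv D33333)) (tt N19153 D35080) (tt N15541 F154843))
theorem Q17408 : ∀ i, i < 17408 → P i := stepQ 17407 Q17407 (allL N17407 (tt N16542 F154844) (tt N19148 (iv F162701)) (tt N15533 F154845) (tt N15638 F154846) (tt N19151 (iv F162717)) (tt N17407 F154847) (tt N19091 (iv F162401)) (tt N19153 (iv F162726)) (tt N15529 (iv D33334)) (tt N19154 D35081))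
theorem Q17409 : ∀ i, i < 17409 → P i := stepQ 17408 Q17408 (allL N17408 (tt N16543 F154848) (tt N18929 (iv F161433)) (tt N19150 (iv F162711)) (tt N15879 F154849) (tt N15532 F154850) (tt N16823 F154851) (tt N19155 D35082) (tt N15531 (iv D33335)) (tt N19156 D35083) (tt N15543 F154852))
theorem Q17410 : ∀ i, i < 17410 → P i := stepQ 17409 Q17409 (allL N17409 (tt N16544 F154853) (tt N18930 (iv F161439)) (tt N19151 (iv F162716)) (tt N15880 F154854) (tt N15533 F154855) (tt N19157 D35084) (tt N19093 (iv F162413)) (tt N19156 (iv F162740)) (tt N15531 (iv D33336)) (tt N19158 D35085))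
theorem Q17411 : ∀ i, i < 17411 → P i := stepQ 17410 Q17410 (allL N17410 (tt N16545 F154856) (tt N18931 (iv F161444)) (tt N19152 (iv F162719)) (tt N15534 F154857) (tt N19155 (iv F162735)) (tt N19132 (iv F162618)) (tt N15532 (iv D33337)) (tt N19094 (iv F162418)) (tt N19159 D35086) (tt N15545 F154858))
theorem Q17412 : ∀ i, i < 17412 → P i := stepQ 17411 Q17411 (allL N17411 (tt N16546 F154859) (tt N18932 (iv F161450)) (tt N19153 (iv F162723)) (tt N15535 F154860) (tt N19156 (iv F162739)) (tt N17411 F154861) (tt N19159 (iv F162751)) (tt N15533 F154862) (tt N15532 (iv D33338)) (tt N19160 D35087))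
theorem Q17413 : ∀ i, i < 17413 → P i := stepQ 17412 Q17412 (allL N17412 (tt N16547 F154863) (tt N18933 (iv F161455)) (tt N19154 (iv F162728)) (tt N15536 F154864) (tt N19158 (iv F162747)) (tt N17412 F154865) (tt N19096 (iv F162430)) (tt N19160 (iv F162755)) (tt N15547 F154866) (tt N15533 (iv D33339)))
theorem Q17414 : ∀ i, i < 17414 → P i := stepQ 17413 Q17413 (allL N17413 (tt N16548 F154867) (tt N18934 (iv F161461)) (tt N15644 F154868) (tt N19159 (iv F162750)) (tt N15884 F154869) (tt N19161 D35088) (tt N15535 F154870) (tt N19097 (iv F162437)) (tt N15534 (iv D33340)) (tt N19162 D35089))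
theorem Q17415 : ∀ i, i < 17415 → P i := stepQ 17414 Q17414 (allL N17414 (tt N16549 F154871) (tt N18935 (iv F161467)) (tt N15645 F154872) (tt N19160 (iv F162753)) (tt N15885 F154873) (tt N17414 F154874) (tt N19162 (iv F162763)) (tt N15536 F154875) (tt N15549 F154876) (tt N15535 (iv D33341)))
theorem Q17416 : ∀ i, i < 17416 → P i := stepQ 17415 Q17415 (allL N17415 (tt N15538 F154877) (tt N16550 F154878) (tt N16165 F154879) (tt N15646 F154880) (tt N19163 D35090) (tt N15537 (iv D33342)) (tt N19099 (iv F162449)) (tt N19164 D35091) (tt N19165 D35092) (tt N19144 (iv F162683)))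
theorem Q17417 : ∀ i, i < 17417 → P i := stepQ 17416 Q17416 (allL N17416 (tt N15539 F154881) (tt N16551 F154882) (tt N16164 F154883) (tt N15647 F154884) (tt N16161 F154885) (tt N19164 (iv F162773)) (tt N16226 F154886) (tt N15537 (iv D33343)) (tt N15556 F154887) (tt N19145 (iv F162691)))
theorem Q17418 : ∀ i, i < 17418 → P i := stepQ 17417 Q17417 (allL N17417 (tt N19163 (iv F162765)) (tt N15540 F154888) (tt N16813 F154889) (tt N19166 D35093) (tt N15538 (iv D33344)) (tt N16807 F154890) (tt N19101 (iv F162459)) (tt N19167 D35094) (tt N19168 D35095) (tt N19146 (iv F162695)))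
theorem Q17419 : ∀ i, i < 17419 → P i := stepQ 17418 Q17418 (allL N17418 (tt N19164 (iv F162769)) (tt N15541 F154891) (tt N16988 F154892) (tt N15649 F154893) (tt N19167 (iv F162784)) (tt N15539 F154894) (tt N19169 D35096) (tt N15538 (iv D33345)) (tt N19170 D35097) (tt N19147 (iv F162700)))
theorem Q17420 : ∀ i, i < 17420 → P i := stepQ 17419 Q17419 (allL N17419 (tt N19165 (iv F162774)) (tt N15542 F154895) (tt N16982 F154896) (tt N15650 F154897) (tt N19168 (iv F162788)) (tt N15558 F154898) (tt N19103 (iv F162468)) (tt N19170 (iv F162797)) (tt N15538 (iv D33346)) (tt N19171 D35098))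
theorem Q17421 : ∀ i, i < 17421 → P i := stepQ 17420 Q17420 (allL N17420 (tt N16555 F154899) (tt N19166 (iv F162779)) (tt N15890 F154900) (tt N15540 (iv D33347)) (tt N15651 F154901) (tt N18859 (iv F160982)) (tt N19104 (iv F162472)) (tt N19172 D35099) (tt N19173 D35100) (tt N19149 (iv F162709)))
theorem Q17422 : ∀ i, i < 17422 → P i := stepQ 17421 Q17421 (allL N17421 (tt N16556 F154902) (tt N19167 (iv F162782)) (tt N15543 F154903) (tt N19172 (iv F162804)) (tt N15541 F154904) (tt N18860 (iv F160990)) (tt N19174 D35101) (tt N15540 (iv D33348)) (tt N19175 D35102) (tt N19150 (iv F162714)))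
theorem Q17423 : ∀ i, i < 17423 → P i := stepQ 17422 Q17422 (allL N17422 (tt N16557 F154905) (tt N19168 (iv F162786)) (tt N15544 F154906) (tt N19173 (iv F162808)) (tt N15542 F154907) (tt N19176 D35103) (tt N19106 (iv F162479)) (tt N19175 (iv F162816)) (tt N15540 (iv D33349)) (tt N19177 D35104))
theorem Q17424 : ∀ i, i < 17424 → P i := stepQ 17423 Q17423 (allL N17423 (tt N16558 F154908) (tt N19169 (iv F162790)) (tt N15545 F154909) (tt N15654 F154910) (tt N19174 (iv F162812)) (tt N19136 (iv F162641)) (tt N15541 (iv D33350)) (tt N19107 (iv F162483)) (tt N19178 D35105) (tt N19152 (iv F162721)))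
theorem Q17425 : ∀ i, i < 17425 → P i := stepQ 17424 Q17424 (allL N17424 (tt N16559 F154911) (tt N19170 (iv F162793)) (tt N15546 F154912) (tt N15655 F154913) (tt N19175 (iv F162815)) (tt N15562 F154914) (tt N19178 (iv F162828)) (tt N15542 F154915) (tt N15541 (iv D33351)) (tt N19179 D35106))
theorem Q17426 : ∀ i, i < 17426 → P i := stepQ 17425 Q17425 (allL N17425 (tt N16560 F154916) (tt N19171 (iv F162798)) (tt N15547 F154917) (tt N15656 F154918) (tt N19177 (iv F162824)) (tt N15563 F154919) (tt N19109 (iv F162493)) (tt N19179 (iv F162833)) (tt N19154 (iv F162732)) (tt N15542 (iv D33352)))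
theorem Q17427 : ∀ i, i < 17427 → P i := stepQ 17426 Q17426 (allL N17426 (tt N16561 F154920) (tt N19046 (iv F162130)) (tt N19174 (iv F162811)) (tt N15896 F154921) (tt N15545 F154922) (tt N19180 D35107) (tt N15543 (iv D33353)) (tt N19110 (iv F162498)) (tt N19181 D35108) (tt N19155 (iv F162736)))
theorem Q17428 : ∀ i, i < 17428 → P i := stepQ 17427 Q17427 (allL N17427 (tt N16562 F154923) (tt N19047 (iv F162133)) (tt N19175 (iv F162814)) (tt N15897 F154924) (tt N15546 F154925) (tt N19182 D35109) (tt N19181 (iv F162839)) (tt N15544 F154926) (tt N15543 (iv D33354)) (tt N19183 D35110))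
theorem Q17429 : ∀ i, i < 17429 → P i := stepQ 17428 Q17428 (allL N17428 (tt N16563 F154927) (tt N19048 (iv F162138)) (tt N19176 (iv F162819)) (tt N15898 F154928) (tt N15566 F154929) (tt N15544 (iv D33355)) (tt N19184 D35111) (tt N19182 (iv F162843)) (tt N18864 (iv F161018)) (tt N19185 D35112))
theorem Q17430 : ∀ i, i < 17430 → P i := stepQ 17429 Q17429 (allL N17429 (tt N16564 F154930) (tt N19049 (iv F162145)) (tt N19177 (iv F162823)) (tt N15899 F154931) (tt N15547 F154932) (tt N19185 (iv F162855)) (tt N19113 (iv F162509)) (tt N19183 (iv F162847)) (tt N19158 (iv F162748)) (tt N15544 (iv D33356)))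
theorem Q17431 : ∀ i, i < 17431 → P i := stepQ 17430 Q17430 (allL N17430 (tt N16565 F154933) (tt N19050 (iv F162149)) (tt N19178 (iv F162826)) (tt N15548 F154934) (tt N19181 (iv F162838)) (tt N19186 D35113) (tt N15546 F154935) (tt N19114 (iv F162513)) (tt N15545 (iv D33357)) (tt N19187 D35114))
theorem Q17432 : ∀ i, i < 17432 → P i := stepQ 17431 Q17431 (allL N17431 (tt N16566 F154936) (tt N19051 (iv F162153)) (tt N19179 (iv F162830)) (tt N15549 F154937) (tt N19183 (iv F162846)) (tt N15569 F154938) (tt N19187 (iv F162861)) (tt N15547 F154939) (tt N19160 (iv F162756)) (tt N15546 (iv D33358)))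
theorem Q17433 : ∀ i, i < 17433 → P i := stepQ 17432 Q17432 (allL N17432 (tt N16567 F154940) (tt N19052 (iv F162157)) (tt N15662 F154941) (tt N19186 (iv F162857)) (tt N19188 D35115) (tt N15548 (iv D33359)) (tt N15570 F154942) (tt N19116 (iv F162521)) (tt N19142 (iv F162671)) (tt N19189 D35116))
theorem Q17434 : ∀ i, i < 17434 → P i := stepQ 17433 Q17433 (allL N17433 (tt N16568 F154943) (tt N19053 (iv F162162)) (tt N15663 F154944) (tt N19187 (iv F162860)) (tt N15903 F154945) (tt N19189 (iv F162868)) (tt N15549 F154946) (tt N19117 (iv F162526)) (tt N19162 (iv F162764)) (tt N15548 (iv D33360)))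
theorem Q17435 : ∀ i, i < 17435 → P i := stepQ 17434 Q17434 (allL N17434 (tt N16574 F154947) (tt N16984 F154948) (tt N19056 (iv F162182)) (tt N15553 F154949) (tt N19054 (iv F162170)) (tt N19190 D35117) (tt N15551 F154950) (tt N17434 F154951) (tt N15550 (iv D33361)) (tt N19191 D35118))
theorem Q17436 : ∀ i, i < 17436 → P i := stepQ 17435 Q17435 (allL N17435 (tt N16575 F154952) (tt N16985 F154953) (tt N15932 F154954) (tt N15554 F154955) (tt N19055 (iv F162177)) (tt N19141 (iv F162664)) (tt N19191 (iv F162879)) (tt N15552 F154956) (tt N17435 F154957) (tt N15551 (iv D33362)))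
theorem Q17437 : ∀ i, i < 17437 → P i := stepQ 17436 Q17436 (allL N17436 (tt N16576 F154958) (tt N16986 F154959) (tt N15665 F154960) (tt N19190 (iv F162872)) (tt N19192 D35119) (tt N15553 (iv D33363)) (tt N19142 (iv F162670)) (tt N17436 F154961) (tt N15570 F154962) (tt N19193 D35120))
theorem Q17438 : ∀ i, i < 17438 → P i := stepQ 17437 Q17437 (allL N17437 (tt N16577 F154963) (tt N16987 F154964) (tt N15666 F154965) (tt N19191 (iv F162878)) (tt N17437 F154966) (tt N19193 (iv F162891)) (tt N15554 F154967) (tt N17437 F154968) (tt N17437 F154969) (tt N15553 (iv D33364)))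
theorem Q17439 : ∀ i, i < 17439 → P i := stepQ 17438 Q17438 (allL N17438 (tt N15557 F154970) (tt N16578 F154971) (tt N16151 F154972) (tt N15667 F154973) (tt N16149 F154974) (tt N15556 F154975) (tt N16590 (iv F154977)) (tt N15555 (iv D33365)) (tt N19194 D35121) (tt N17438 F154976))
theorem Q17440 : ∀ i, i < 17440 → P i := stepQ 17439 Q17439 (allL N17439 (tt N15558 F154978) (tt N16579 F154979) (tt N16152 F154980) (tt N15668 F154981) (tt N16150 F154982) (tt N19165 (iv F162778)) (tt N17439 F154983) (tt N19194 (iv F162899)) (tt N15555 (iv D33366)) (tt N19195 D35122))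
theorem Q17441 : ∀ i, i < 17441 → P i := stepQ 17440 Q17440 (allL N17440 (tt N16590 F154984) (tt N15561 F154985) (tt N16980 F154986) (tt N15572 F154987) (tt N16977 F154988) (tt N15564 F154989) (tt N15557 (iv D33367)) (tt N17440 F154990) (tt N19196 D35123) (tt N17440 F154991))
theorem Q17442 : ∀ i, i < 17442 → P i := stepQ 17441 Q17441 (allL N17441 (tt N19194 (iv F162893)) (tt N15562 F154992) (tt N16981 F154993) (tt N15669 F154994) (tt N16978 F154995) (tt N19170 (iv F162796)) (tt N19196 (iv F162912)) (tt N15558 F154996) (tt N15557 (iv D33368)) (tt N19197 D35124))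
theorem Q17443 : ∀ i, i < 17443 → P i := stepQ 17442 Q17442 (allL N17442 (tt N19195 (iv F162900)) (tt N15563 F154997) (tt N16983 F154998) (tt N15670 F154999) (tt N16979 F155000) (tt N19171 (iv F162801)) (tt N17442 F155001) (tt N19197 (iv F162918)) (tt N17442 F155002) (tt N15558 (iv D33369)))
theorem Q17444 : ∀ i, i < 17444 → P i := stepQ 17443 Q17443 (allL N17443 (tt N16585 F155003) (tt N16977 F155004) (tt N15564 F155005) (tt N17443 F155006) (tt N15561 F155007) (tt N16980 F155008) (tt N15559 (iv D33370)) (tt N17443 F155009) (tt N19198 D35125) (tt N17443 F155010))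
theorem Q17445 : ∀ i, i < 17445 → P i := stepQ 17444 Q17444 (allL N17444 (tt N16586 F155011) (tt N16978 F155012) (tt N15565 F155013) (tt N17444 F155014) (tt N15562 F155015) (tt N19199 D35126) (tt N19198 (iv F162925)) (tt N15560 F155016) (tt N15559 (iv D33371)) (tt N19200 D35127))
theorem Q17446 : ∀ i, i < 17446 → P i := stepQ 17445 Q17445 (allL N17445 (tt N16587 F155017) (tt N16780 F155018) (tt N15566 F155019) (tt N17445 F155020) (tt N19176 (iv F162820)) (tt N15560 (iv D33372)) (tt N19201 D35128) (tt N19199 (iv F162931)) (tt N16776 F155021) (tt N19202 D35129))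
theorem Q17447 : ∀ i, i < 17447 → P i := stepQ 17446 Q17446 (allL N17446 (tt N16043 F155022) (tt N16979 F155023) (tt N15567 F155024) (tt N17446 F155025) (tt N15563 F155026) (tt N19202 (iv F162950)) (tt N17446 F155027) (tt N19200 (iv F162938)) (tt N17446 F155028) (tt N15560 (iv D33373)))
theorem Q17448 : ∀ i, i < 17448 → P i := stepQ 17447 Q17447 (allL N17447 (tt N16588 F155029) (tt N19196 (iv F162908)) (tt N15568 F155030) (tt N15671 F155031) (tt N19198 (iv F162924)) (tt N19203 D35130) (tt N15562 F155032) (tt N17447 F155033) (tt N15561 (iv D33374)) (tt N19204 D35131))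
theorem Q17449 : ∀ i, i < 17449 → P i := stepQ 17448 Q17448 (allL N17448 (tt N16589 F155034) (tt N19197 (iv F162914)) (tt N15569 F155035) (tt N15672 F155036) (tt N19200 (iv F162937)) (tt N19179 (iv F162832)) (tt N19204 (iv F162958)) (tt N15563 F155037) (tt N17448 F155038) (tt N15562 (iv D33375)))
theorem Q17450 : ∀ i, i < 17450 → P i := stepQ 17449 Q17449 (allL N17449 (tt N16591 F155039) (tt N19056 (iv F162181)) (tt N19198 (iv F162922)) (tt N15573 F155040) (tt N15568 F155041) (tt N19205 D35132) (tt N15565 F155042) (tt N17449 F155043) (tt N15564 (iv D33376)) (tt N19066 (iv F162252)))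
theorem Q17451 : ∀ i, i < 17451 → P i := stepQ 17450 Q17450 (allL N17450 (tt N16592 F155044) (tt N19057 (iv F162189)) (tt N19199 (iv F162929)) (tt N15574 F155045) (tt N19182 (iv F162842)) (tt N15565 (iv D33377)) (tt N19206 D35133) (tt N15566 F155046) (tt N18869 (iv F161053)) (tt N19207 D35134))
theorem Q17452 : ∀ i, i < 17452 → P i := stepQ 17451 Q17451 (allL N17451 (tt N16044 F155047) (tt N15932 F155048) (tt N19200 (iv F162935)) (tt N15575 F155049) (tt N15569 F155050) (tt N19207 (iv F162969)) (tt N19066 (iv F162249)) (tt N15567 F155051) (tt N17451 F155052) (tt N15565 (iv D33378)))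
theorem Q17453 : ∀ i, i < 17453 → P i := stepQ 17452 Q17452 (allL N17452 (tt N16593 F155053) (tt N19058 (iv F162196)) (tt N19201 (iv F162942)) (tt N15576 F155054) (tt N19184 (iv F162850)) (tt N17452 F155055) (tt N15566 (iv D33379)) (tt N19208 D35135) (tt N18871 (iv F161067)) (tt N19209 D35136))
theorem Q17454 : ∀ i, i < 17454 → P i := stepQ 17453 Q17453 (allL N17453 (tt N15999 F155056) (tt N16181 F155057) (tt N19202 (iv F162948)) (tt N15577 F155058) (tt N19185 (iv F162854)) (tt N15567 F155059) (tt N19209 (iv F162978)) (tt N19207 (iv F162970)) (tt N19210 D35137) (tt N15566 (iv D33380)))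
theorem Q17455 : ∀ i, i < 17455 → P i := stepQ 17454 Q17454 (allL N17454 (tt N16594 F155060) (tt N19059 (iv F162202)) (tt N19203 (iv F162952)) (tt N15570 F155061) (tt N19211 D35138) (tt N15568 (iv D33381)) (tt N19186 (iv F162858)) (tt N17454 F155062) (tt N19190 (iv F162874)) (tt N19212 D35139))
theorem Q17456 : ∀ i, i < 17456 → P i := stepQ 17455 Q17455 (allL N17455 (tt N16595 F155063) (tt N19060 (iv F162207)) (tt N19204 (iv F162956)) (tt N15571 F155064) (tt N19066 (iv F162248)) (tt N19212 (iv F162989)) (tt N15569 F155065) (tt N17455 F155066) (tt N17455 F155067) (tt N15568 (iv D33382)))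
theorem Q17457 : ∀ i, i < 17457 → P i := stepQ 17456 Q17456 (allL N17456 (tt N16596 F155068) (tt N19061 (iv F162214)) (tt N15675 F155069) (tt N19213 D35140) (tt N15570 (iv D33383)) (tt N15578 F155070) (tt N19188 (iv F162865)) (tt N17456 F155071) (tt N19192 (iv F162887)) (tt N19063 (iv F162232)))
theorem Q17458 : ∀ i, i < 17458 → P i := stepQ 17457 Q17457 (allL N17457 (tt N16597 F155072) (tt N19062 (iv F162221)) (tt N15676 F155073) (tt N19212 (iv F162988)) (tt N19063 (iv F162229)) (tt N15571 F155074) (tt N19189 (iv F162869)) (tt N17457 F155075) (tt N19214 D35141) (tt N15570 (iv D33384)))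
theorem Q17459 : ∀ i, i < 17459 → P i := stepQ 17458 Q17458 (allL N17458 (tt N16598 F155076) (tt N15671 F155077) (tt N17458 F155078) (tt N19196 (iv F162910)) (tt N17458 F155079) (tt N19215 D35142) (tt N15669 F155080) (tt N17458 F155081) (tt N15572 (iv D33385)) (tt N19216 D35143))
theorem Q17460 : ∀ i, i < 17460 → P i := stepQ 17459 Q17459 (allL N17459 (tt N16599 F155082) (tt N19063 (iv F162227)) (tt N17459 F155083) (tt N19205 (iv F162962)) (tt N19062 (iv F162223)) (tt N15573 (iv D33386)) (tt N19217 D35144) (tt N17459 F155084) (tt N19215 (iv F163003)) (tt N19061 F162219))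
theorem Q17461 : ∀ i, i < 17461 → P i := stepQ 17460 Q17460 (allL N17460 (tt N16600 F155085) (tt N19064 (iv F162234)) (tt N17460 F155086) (tt N19206 (iv F162965)) (tt N15928 F155087) (tt N19217 (iv F163013)) (tt N15574 (iv D33387)) (tt N19218 D35145) (tt N18873 (iv F161080)) (tt N19219 D35146))
theorem Q17462 : ∀ i, i < 17462 → P i := stepQ 17461 Q17461 (allL N17461 (tt N16000 F155088) (tt N15926 F155089) (tt N17461 F155090) (tt N19207 (iv F162968)) (tt N15815 F155091) (tt N15575 F155092) (tt N19219 (iv F163022)) (tt N15577 F155093) (tt N19220 D35147) (tt N15574 (iv D33388)))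
theorem Q17463 : ∀ i, i < 17463 → P i := stepQ 17462 Q17462 (allL N17462 (tt N16601 F155094) (tt N19065 (iv F162240)) (tt N17462 F155095) (tt N19208 (iv F162972)) (tt N15929 F155096) (tt N17462 F155097) (tt N19218 (iv F163017)) (tt N15576 (iv D33389)) (tt N18875 (iv F161092)) (tt N19221 D35148))
theorem Q17464 : ∀ i, i < 17464 → P i := stepQ 17463 Q17463 (allL N17463 (tt N15952 F155098) (tt N16173 F155099) (tt N17463 F155100) (tt N19209 (iv F162976)) (tt N15930 F155101) (tt N17463 F155102) (tt N15577 F155103) (tt N19221 (iv F163034)) (tt N16236 (iv F155104)) (tt N15576 (iv D33390)))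
theorem Q17465 : ∀ i, i < 17465 → P i := stepQ 17464 Q17464 (allL N17464 (tt N16001 F155105) (tt N16175 F155106) (tt N17464 F155107) (tt N19210 (iv F162982)) (tt N15931 F155108) (tt N17464 F155109) (tt N16236 F155110) (tt N19220 (iv F163028)) (tt N15577 (iv D33391)) (tt N18876 (iv F161100)))
theorem Q17466 : ∀ i, i < 17466 → P i := stepQ 17465 Q17465 (allL N17465 (tt N16602 F155111) (tt N19066 (iv F162247)) (tt N19191 (iv F162877)) (tt N15578 (iv D33392)) (tt N19060 (iv F162209)) (tt N19213 (iv F162992)) (tt N15932 F155112) (tt N17465 F155113) (tt N17465 F155114) (tt N19056 F162187))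
theorem Q17467 : ∀ i, i < 17467 → P i := stepQ 17466 Q17466 (allL N17466 (tt N15580 F155115) (tt N16604 F155116) (tt N17466 F155117) (tt N19077 (iv F162315)) (tt N17466 F155118) (tt N16232 F155119) (tt N15579 (iv D33393)) (tt N19222 D35149) (tt N17466 F155120) (tt N16994 F155121))
theorem Q17468 : ∀ i, i < 17468 → P i := stepQ 17467 Q17467 (allL N17467 (tt N19222 (iv F163036)) (tt N15582 F155122) (tt N17467 F155123) (tt N19078 (iv F162322)) (tt N17467 F155124) (tt N18875 (iv F161091)) (tt N15600 F155125) (tt N15580 (iv D33394)) (tt N17467 F155126) (tt N16996 F155127))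
theorem Q17469 : ∀ i, i < 17469 → P i := stepQ 17468 Q17468 (allL N17468 (tt N16608 F155128) (tt N18875 (iv F161088)) (tt N15584 F155129) (tt N19080 (iv F162334)) (tt N18925 (iv F161410)) (tt N15582 F155130) (tt N19223 D35150) (tt N15581 (iv D33395)) (tt N19065 (iv F162244)) (tt N16997 F155131))
theorem Q17470 : ∀ i, i < 17470 → P i := stepQ 17469 Q17469 (allL N17469 (tt N16610 F155132) (tt N17469 F155133) (tt N18925 (iv F161409)) (tt N15979 F155134) (tt N15584 F155135) (tt N17469 F155136) (tt N19224 D35151) (tt N15583 (iv D33396)) (tt N16185 F155137) (tt N15977 F155138))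
theorem Q17471 : ∀ i, i < 17471 → P i := stepQ 17470 Q17470 (allL N17470 (tt N16611 F155139) (tt N17470 F155140) (tt N19223 (iv F163045)) (tt N15586 F155141) (tt N19224 (iv F163052)) (tt N15606 F155142) (tt N15584 (iv D33397)) (tt N15629 F155143) (tt N19225 D35152) (tt N16998 F155144))
theorem Q17472 : ∀ i, i < 17472 → P i := stepQ 17471 Q17471 (allL N17471 (tt N16612 F155145) (tt N17471 F155146) (tt N19065 (iv F162241)) (tt N15587 F155147) (tt N16185 F155148) (tt N17471 F155149) (tt N19225 (iv F163060)) (tt N15585 F155150) (tt N15584 (iv D33398)) (tt N16184 F155151))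
theorem Q17473 : ∀ i, i < 17473 → P i := stepQ 17472 Q17472 (allL N17472 (tt N16613 F155152) (tt N17472 F155153) (tt N19085 (iv F162363)) (tt N19225 (iv F163058)) (tt N16387 F155154) (tt N19226 D35153) (tt N15587 F155155) (tt N15631 F155156) (tt N15586 (iv D33399)) (tt N16385 F155157))
theorem Q17474 : ∀ i, i < 17474 → P i := stepQ 17473 Q17473 (allL N17473 (tt N15589 F155158) (tt N16614 F155159) (tt N17473 F155160) (tt N19086 (iv F162371)) (tt N17473 F155161) (tt N19227 D35154) (tt N15588 (iv D33400)) (tt N19228 D35155) (tt N16999 F155162) (tt N15598 F155163))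
theorem Q17475 : ∀ i, i < 17475 → P i := stepQ 17474 Q17474 (allL N17474 (tt N19227 (iv F163069)) (tt N15590 F155164) (tt N17474 F155165) (tt N19087 (iv F162377)) (tt N19229 D35156) (tt N15589 (iv D33401)) (tt N15634 F155166) (tt N19230 D35157) (tt N19231 D35158) (tt N15599 F155167))
theorem Q17476 : ∀ i, i < 17476 → P i := stepQ 17475 Q17475 (allL N17475 (tt N19228 (iv F163076)) (tt N15591 F155168) (tt N17475 F155169) (tt N19088 (iv F162382)) (tt N17475 F155170) (tt N19230 (iv F163092)) (tt N16996 F155171) (tt N15589 (iv D33402)) (tt N17001 F155172) (tt N15600 F155173))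
theorem Q17477 : ∀ i, i < 17477 → P i := stepQ 17476 Q17476 (allL N17476 (tt N16617 F155174) (tt N19229 (iv F163084)) (tt N15592 F155175) (tt N19232 D35159) (tt N15590 (iv D33403)) (tt N17476 F155176) (tt N15636 F155177) (tt N19233 D35160) (tt N16664 (iv F155179)) (tt N15601 F155178))
theorem Q17478 : ∀ i, i < 17478 → P i := stepQ 17477 Q17477 (allL N17477 (tt N16618 F155180) (tt N19230 (iv F163090)) (tt N15593 F155181) (tt N19090 (iv F162394)) (tt N19233 (iv F163109)) (tt N15591 F155182) (tt N19234 D35161) (tt N15590 (iv D33404)) (tt N19235 D35162) (tt N15602 F155183))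
theorem Q17479 : ∀ i, i < 17479 → P i := stepQ 17478 Q17478 (allL N17478 (tt N16619 F155184) (tt N19231 (iv F163095)) (tt N15594 F155185) (tt N19091 (iv F162399)) (tt N16664 F155186) (tt N16714 F155187) (tt N15638 F155188) (tt N19235 (iv F163122)) (tt N15590 (iv D33405)) (tt N16677 (iv F155189)))
theorem Q17480 : ∀ i, i < 17480 → P i := stepQ 17479 Q17479 (allL N17479 (tt N16620 F155190) (tt N17479 F155191) (tt N19233 (iv F163108)) (tt N15944 F155192) (tt N15593 F155193) (tt N17479 F155194) (tt N19236 D35163) (tt N15592 (iv D33406)) (tt N17075 F155195) (tt N15604 F155196))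
theorem Q17481 : ∀ i, i < 17481 → P i := stepQ 17480 Q17480 (allL N17480 (tt N16621 F155197) (tt N17480 F155198) (tt N19234 (iv F163114)) (tt N15595 F155199) (tt N19236 (iv F163127)) (tt N16998 F155200) (tt N15593 (iv D33407)) (tt N15641 F155201) (tt N19237 D35164) (tt N15606 F155202))
theorem Q17482 : ∀ i, i < 17482 → P i := stepQ 17481 Q17481 (allL N17481 (tt N16622 F155203) (tt N17481 F155204) (tt N19235 (iv F163119)) (tt N15596 F155205) (tt N17075 F155206) (tt N17005 F155207) (tt N19237 (iv F163135)) (tt N15594 F155208) (tt N15593 (iv D33408)) (tt N17081 (iv F155209)))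
theorem Q17483 : ∀ i, i < 17483 → P i := stepQ 17482 Q17482 (allL N17482 (tt N16623 F155210) (tt N17482 F155211) (tt N19097 (iv F162434)) (tt N19237 (iv F163133)) (tt N15949 F155212) (tt N19238 D35165) (tt N15596 F155213) (tt N15644 F155214) (tt N15595 (iv D33409)) (tt N19239 D35166))
theorem Q17484 : ∀ i, i < 17484 → P i := stepQ 17483 Q17483 (allL N17483 (tt N16624 F155215) (tt N17483 F155216) (tt N19098 (iv F162440)) (tt N17081 F155217) (tt N15950 F155218) (tt N17007 F155219) (tt N19239 (iv F163148)) (tt N15597 F155220) (tt N15610 F155221) (tt N15596 (iv D33410)))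
theorem Q17485 : ∀ i, i < 17485 → P i := stepQ 17484 Q17484 (allL N17484 (tt N15599 F155222) (tt N16625 F155223) (tt N17484 F155224) (tt N19099 (iv F162448)) (tt N19240 D35167) (tt N15598 (iv D33411)) (tt N15646 F155225) (tt N19241 D35168) (tt N19242 D35169) (tt N19227 (iv F163074)))
theorem Q17486 : ∀ i, i < 17486 → P i := stepQ 17485 Q17485 (allL N17485 (tt N15600 F155226) (tt N16626 F155227) (tt N17485 F155228) (tt N19100 (iv F162453)) (tt N17485 F155229) (tt N19241 (iv F163161)) (tt N19222 (iv F163041)) (tt N15598 (iv D33412)) (tt N17485 F155230) (tt N19228 (iv F163082)))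
theorem Q17487 : ∀ i, i < 17487 → P i := stepQ 17486 Q17486 (allL N17486 (tt N19240 (iv F163151)) (tt N15601 F155231) (tt N17486 F155232) (tt N19243 D35170) (tt N15599 (iv D33413)) (tt N17486 F155233) (tt N15648 F155234) (tt N19244 D35171) (tt N19245 D35172) (tt N19229 (iv F163088)))
theorem Q17488 : ∀ i, i < 17488 → P i := stepQ 17487 Q17487 (allL N17487 (tt N19241 (iv F163158)) (tt N15602 F155235) (tt N17487 F155236) (tt N19102 (iv F162462)) (tt N19244 (iv F163174)) (tt N15600 F155237) (tt N19246 D35173) (tt N15599 (iv D33414)) (tt N19247 D35174) (tt N19230 (iv F163093)))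
theorem Q17489 : ∀ i, i < 17489 → P i := stepQ 17488 Q17488 (allL N17488 (tt N19242 (iv F163162)) (tt N15603 F155238) (tt N17488 F155239) (tt N19103 (iv F162466)) (tt N19245 (iv F163179)) (tt N17488 F155240) (tt N15650 F155241) (tt N19247 (iv F163189)) (tt N15599 (iv D33415)) (tt N19248 D35175))
theorem Q17490 : ∀ i, i < 17490 → P i := stepQ 17489 Q17489 (allL N17489 (tt N16630 F155242) (tt N19243 (iv F163169)) (tt N15955 F155243) (tt N15601 (iv D33416)) (tt N19104 (iv F162471)) (tt N17489 F155244) (tt N15651 F155245) (tt N19249 D35176) (tt N19250 D35177) (tt N19232 (iv F163106)))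
theorem Q17491 : ∀ i, i < 17491 → P i := stepQ 17490 Q17490 (allL N17490 (tt N16631 F155246) (tt N19244 (iv F163172)) (tt N15604 F155247) (tt N19249 (iv F163199)) (tt N15602 F155248) (tt N17490 F155249) (tt N19251 D35178) (tt N15601 (iv D33417)) (tt N19252 D35179) (tt N19233 (iv F163112)))
theorem Q17492 : ∀ i, i < 17492 → P i := stepQ 17491 Q17491 (allL N17491 (tt N16632 F155250) (tt N19245 (iv F163177)) (tt N15605 F155251) (tt N19250 (iv F163203)) (tt N15603 F155252) (tt N16701 (iv F155255)) (tt N15653 F155253) (tt N19252 (iv F163214)) (tt N15601 (iv D33418)) (tt N16679 F155254))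
theorem Q17493 : ∀ i, i < 17493 → P i := stepQ 17492 Q17492 (allL N17492 (tt N16633 F155256) (tt N19246 (iv F163183)) (tt N15606 F155257) (tt N19107 (iv F162482)) (tt N19251 (iv F163209)) (tt N19223 (iv F163046)) (tt N15602 (iv D33419)) (tt N15654 F155258) (tt N19253 D35180) (tt N19234 (iv F163117)))
theorem Q17494 : ∀ i, i < 17494 → P i := stepQ 17493 Q17493 (allL N17493 (tt N16634 F155259) (tt N19247 (iv F163186)) (tt N15607 F155260) (tt N19108 (iv F162486)) (tt N19252 (iv F163213)) (tt N17493 F155261) (tt N19253 (iv F163219)) (tt N15603 F155262) (tt N15602 (iv D33420)) (tt N19254 D35181))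
theorem Q17495 : ∀ i, i < 17495 → P i := stepQ 17494 Q17494 (allL N17494 (tt N16635 F155263) (tt N19248 (iv F163191)) (tt N15608 F155264) (tt N19109 (iv F162491)) (tt N16679 F155265) (tt N17494 F155266) (tt N15656 F155267) (tt N19254 (iv F163225)) (tt N16677 F155268) (tt N15603 (iv D33421)))
theorem Q17496 : ∀ i, i < 17496 → P i := stepQ 17495 Q17495 (allL N17495 (tt N16636 F155269) (tt N17495 F155270) (tt N19251 (iv F163208)) (tt N15961 F155271) (tt N15606 F155272) (tt N19255 D35182) (tt N15604 (iv D33422)) (tt N15657 F155273) (tt N19256 D35183) (tt N19236 (iv F163130)))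
theorem Q17497 : ∀ i, i < 17497 → P i := stepQ 17496 Q17496 (allL N17496 (tt N16637 F155274) (tt N17496 F155275) (tt N19252 (iv F163212)) (tt N15962 F155276) (tt N15607 F155277) (tt N16243 (iv F155280)) (tt N19256 (iv F163236)) (tt N15605 F155278) (tt N15604 (iv D33423)) (tt N17083 F155279))
theorem Q17498 : ∀ i, i < 17498 → P i := stepQ 17497 Q17497 (allL N17497 (tt N16638 F155281) (tt N17497 F155282) (tt N19253 (iv F163218)) (tt N15609 F155283) (tt N19256 (iv F163235)) (tt N19257 D35184) (tt N15607 F155284) (tt N15660 F155285) (tt N15606 (iv D33424)) (tt N19258 D35185))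
theorem Q17499 : ∀ i, i < 17499 → P i := stepQ 17498 Q17498 (allL N17498 (tt N16639 F155286) (tt N17498 F155287) (tt N19254 (iv F163222)) (tt N15610 F155288) (tt N17083 F155289) (tt N17498 F155290) (tt N19258 (iv F163249)) (tt N15608 F155291) (tt N17081 F155292) (tt N15607 (iv D33425)))
theorem Q17500 : ∀ i, i < 17500 → P i := stepQ 17499 Q17499 (allL N17499 (tt N16640 F155293) (tt N17499 F155294) (tt N19116 (iv F162519)) (tt N19257 (iv F163242)) (tt N19259 D35186) (tt N15609 (iv D33426)) (tt N17499 F155295) (tt N15662 F155296) (tt N19226 (iv F163067)) (tt N19260 D35187))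
theorem Q17501 : ∀ i, i < 17501 → P i := stepQ 17500 Q17500 (allL N17500 (tt N16641 F155297) (tt N17500 F155298) (tt N19117 (iv F162523)) (tt N19258 (iv F163247)) (tt N15968 F155299) (tt N19260 (iv F163260)) (tt N15610 F155300) (tt N15663 F155301) (tt N19239 (iv F163150)) (tt N15609 (iv D33427)))
theorem Q17502 : ∀ i, i < 17502 → P i := stepQ 17501 Q17501 (allL N17501 (tt N16195 F155302) (tt N15613 F155303) (tt N17501 F155304) (tt N19118 (iv F162530)) (tt N16259 F155305) (tt N15612 (iv D33428)) (tt N15774 F155306) (tt N19261 D35188) (tt N16276 (iv F155308)) (tt N15750 F155307))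
theorem Q17503 : ∀ i, i < 17503 → P i := stepQ 17502 Q17502 (allL N17502 (tt N16204 F155309) (tt N15614 F155310) (tt N17502 F155311) (tt N19119 (iv F162537)) (tt N15677 F155312) (tt N19261 (iv F163267)) (tt N15971 F155313) (tt N15612 (iv D33429)) (tt N17502 F155314) (tt N16125 F155315))
theorem Q17504 : ∀ i, i < 17504 → P i := stepQ 17503 Q17503 (allL N17503 (tt N16642 F155316) (tt N19261 (iv F163264)) (tt N15616 F155317) (tt N19121 (iv F162550)) (tt N18895 (iv F161227)) (tt N15614 F155318) (tt N19262 D35189) (tt N15613 (iv D33430)) (tt N16316 F155319) (tt N15835 F155320))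
theorem Q17505 : ∀ i, i < 17505 → P i := stepQ 17504 Q17504 (allL N17504 (tt N16643 F155321) (tt N17504 F155322) (tt N18895 (iv F161226)) (tt N15628 F155323) (tt N15616 F155324) (tt N15678 F155325) (tt N19263 D35190) (tt N15615 (iv D33431)) (tt N16023 F155326) (tt N15936 F155327))
theorem Q17506 : ∀ i, i < 17506 → P i := stepQ 17505 Q17505 (allL N17505 (tt N16644 F155328) (tt N17505 F155329) (tt N19262 (iv F163271)) (tt N15617 F155330) (tt N19263 (iv F163279)) (tt N15976 F155331) (tt N15616 (iv D33432)) (tt N15985 F155332) (tt N16373 F155333) (tt N15940 F155334))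
theorem Q17507 : ∀ i, i < 17507 → P i := stepQ 17506 Q17506 (allL N17506 (tt N16645 F155335) (tt N17506 F155336) (tt N19126 (iv F162582)) (tt N16373 F155337) (tt N15631 F155338) (tt N19264 D35191) (tt N15618 F155339) (tt N16387 F155340) (tt N15617 (iv D33433)) (tt N16371 F155341))
theorem Q17508 : ∀ i, i < 17508 → P i := stepQ 17507 Q17507 (allL N17507 (tt N16649 F155342) (tt N18874 (iv F161082)) (tt N15623 F155343) (tt N19128 (iv F162594)) (tt N18924 (iv F161403)) (tt N15621 F155344) (tt N19265 D35192) (tt N15620 (iv D33434)) (tt N19266 D35193) (tt N15627 F155345))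
theorem Q17509 : ∀ i, i < 17509 → P i := stepQ 17508 Q17508 (allL N17508 (tt N16650 F155346) (tt N18876 (iv F161095)) (tt N15624 F155347) (tt N19129 (iv F162599)) (tt N15933 F155348) (tt N17508 F155349) (tt N15972 F155350) (tt N19266 (iv F163299)) (tt N15620 (iv D33435)) (tt N16175 F155351))
theorem Q17510 : ∀ i, i < 17510 → P i := stepQ 17509 Q17509 (allL N17509 (tt N16651 F155352) (tt N17509 F155353) (tt N18924 (iv F161402)) (tt N15936 F155354) (tt N15623 F155355) (tt N15681 F155356) (tt N19267 D35194) (tt N15622 (iv D33436)) (tt N15934 F155357) (tt N15628 F155358))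
theorem Q17511 : ∀ i, i < 17511 → P i := stepQ 17510 Q17510 (allL N17510 (tt N16652 F155359) (tt N17510 F155360) (tt N19265 (iv F163291)) (tt N15625 F155361) (tt N19267 (iv F163304)) (tt N15641 F155362) (tt N15623 (iv D33437)) (tt N16998 F155363) (tt N19268 D35195) (tt N15629 F155364))
theorem Q17512 : ∀ i, i < 17512 → P i := stepQ 17511 Q17511 (allL N17511 (tt N16653 F155365) (tt N17511 F155366) (tt N19266 (iv F163296)) (tt N15626 F155367) (tt N15934 F155368) (tt N17511 F155369) (tt N19268 (iv F163313)) (tt N15624 F155370) (tt N15623 (iv D33438)) (tt N16019 F155371))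
theorem Q17513 : ∀ i, i < 17513 → P i := stepQ 17512 Q17512 (allL N17512 (tt N16654 F155372) (tt N17512 F155373) (tt N19134 (iv F162629)) (tt N19268 (iv F163311)) (tt N15939 F155374) (tt N19269 D35196) (tt N15626 F155375) (tt N15983 F155376) (tt N15625 (iv D33439)) (tt N16370 (iv F155377)))
theorem Q17514 : ∀ i, i < 17514 → P i := stepQ 17513 Q17513 (allL N17513 (tt N16658 F155378) (tt N18873 (iv F161076)) (tt N15629 F155379) (tt N19136 (iv F162640)) (tt N18923 (iv F161398)) (tt N15654 F155380) (tt N15627 (iv D33440)) (tt N19223 (iv F163047)) (tt N19064 (iv F162237)) (tt N19265 (iv F163294)))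
theorem Q17515 : ∀ i, i < 17515 → P i := stepQ 17514 Q17514 (allL N17514 (tt N16660 F155381) (tt N17514 F155382) (tt N18923 (iv F161397)) (tt N19263 (iv F163278)) (tt N15629 F155383) (tt N19270 D35197) (tt N15628 (iv D33441)) (tt N19224 (iv F163053)) (tt N16018 F155384) (tt N19267 (iv F163308)))
theorem Q17516 : ∀ i, i < 17516 → P i := stepQ 17515 Q17515 (allL N17515 (tt N16661 F155385) (tt N17515 F155386) (tt N19064 (iv F162235)) (tt N15631 F155387) (tt N16018 F155388) (tt N19271 D35198) (tt N15630 F155389) (tt N19225 (iv F163061)) (tt N15629 (iv D33442)) (tt N16017 (iv F155390)))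
theorem Q17517 : ∀ i, i < 17517 → P i := stepQ 17516 Q17516 (allL N17516 (tt N16662 F155391) (tt N17516 F155392) (tt N19142 (iv F162669)) (tt N19271 (iv F163331)) (tt N19272 D35199) (tt N15631 (iv D33443)) (tt N15665 F155393) (tt N19226 (iv F163066)) (tt N15662 F155394) (tt N19273 D35200))
theorem Q17518 : ∀ i, i < 17518 → P i := stepQ 17517 Q17517 (allL N17517 (tt N16663 F155395) (tt N17517 F155396) (tt N19143 (iv F162674)) (tt N16017 F155397) (tt N16371 F155398) (tt N19273 (iv F163343)) (tt N15632 F155399) (tt N16385 F155400) (tt N16370 F155401) (tt N15631 (iv D33444)))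
theorem Q17519 : ∀ i, i < 17519 → P i := stepQ 17518 Q17518 (allL N17518 (tt N15634 F155402) (tt N16664 F155403) (tt N17518 F155404) (tt N19144 (iv F162682)) (tt N19231 (iv F163097)) (tt N15633 (iv D33445)) (tt N19227 (iv F163072)) (tt N19274 D35201) (tt N19229 F163089) (tt N15646 F155405))
theorem Q17520 : ∀ i, i < 17520 → P i := stepQ 17519 Q17519 (allL N17519 (tt N15635 F155406) (tt N16665 F155407) (tt N17519 F155408) (tt N19145 (iv F162687)) (tt N15686 F155409) (tt N19274 (iv F163349)) (tt N16231 F155410) (tt N15633 (iv D33446)) (tt N17519 F155411) (tt N15647 F155412))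
theorem Q17521 : ∀ i, i < 17521 → P i := stepQ 17520 Q17520 (allL N17520 (tt N19231 (iv F163094)) (tt N15636 F155413) (tt N17520 F155414) (tt N19275 D35202) (tt N15634 (iv D33447)) (tt N15687 F155415) (tt N19229 (iv F163087)) (tt N19276 D35203) (tt N19227 (iv F163073)) (tt N15648 F155416))
theorem Q17522 : ∀ i, i < 17522 → P i := stepQ 17521 Q17521 (allL N17521 (tt N19274 (iv F163346)) (tt N15637 F155417) (tt N17521 F155418) (tt N19147 (iv F162698)) (tt N19276 (iv F163357)) (tt N15635 F155419) (tt N19277 D35204) (tt N15634 (iv D33448)) (tt N19278 D35205) (tt N15649 F155420))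
theorem Q17523 : ∀ i, i < 17523 → P i := stepQ 17522 Q17522 (allL N17522 (tt N19229 (iv F163083)) (tt N15638 F155421) (tt N17522 F155422) (tt N19148 (iv F162703)) (tt N19227 F163075) (tt N17522 F155423) (tt N19231 (iv F163099)) (tt N19278 (iv F163366)) (tt N15634 (iv D33449)) (tt N19240 (iv F163156)))
theorem Q17524 : ∀ i, i < 17524 → P i := stepQ 17523 Q17523 (allL N17523 (tt N16667 F155424) (tt N19275 (iv F163351)) (tt N15986 F155425) (tt N15636 (iv D33450)) (tt N19149 (iv F162707)) (tt N15690 F155426) (tt N19232 (iv F163104)) (tt N19279 D35206) (tt N19280 D35207) (tt N15651 F155427))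
theorem Q17525 : ∀ i, i < 17525 → P i := stepQ 17524 Q17524 (allL N17524 (tt N16668 F155428) (tt N19276 (iv F163355)) (tt N15639 F155429) (tt N19279 (iv F163369)) (tt N15637 F155430) (tt N15691 F155431) (tt N19281 D35208) (tt N15636 (iv D33451)) (tt N19282 D35209) (tt N15652 F155432))
theorem Q17526 : ∀ i, i < 17526 → P i := stepQ 17525 Q17525 (allL N17525 (tt N16615 F155433) (tt N19227 (iv F163070)) (tt N15640 F155434) (tt N19280 (iv F163374)) (tt N15638 F155435) (tt N16614 F155436) (tt N16664 F155437) (tt N19282 (iv F163386)) (tt N15636 (iv D33452)) (tt N16625 (iv F155438)))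
theorem Q17527 : ∀ i, i < 17527 → P i := stepQ 17526 Q17526 (allL N17526 (tt N16669 F155439) (tt N19277 (iv F163360)) (tt N15641 F155440) (tt N19152 (iv F162720)) (tt N19281 (iv F163380)) (tt N19265 (iv F163292)) (tt N15637 (iv D33453)) (tt N19234 (iv F163116)) (tt N19283 D35210) (tt N15654 F155441))
theorem Q17528 : ∀ i, i < 17528 → P i := stepQ 17527 Q17527 (allL N17527 (tt N16670 F155442) (tt N19278 (iv F163363)) (tt N15642 F155443) (tt N19153 (iv F162724)) (tt N19282 (iv F163384)) (tt N17527 F155444) (tt N19283 (iv F163390)) (tt N15638 F155445) (tt N15637 (iv D33454)) (tt N19284 D35211))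
theorem Q17529 : ∀ i, i < 17529 → P i := stepQ 17528 Q17528 (allL N17528 (tt N16627 F155446) (tt N19240 (iv F163152)) (tt N15643 F155447) (tt N19154 (iv F162729)) (tt N16625 F155448) (tt N17528 F155449) (tt N16677 F155450) (tt N19284 (iv F163395)) (tt N15656 F155451) (tt N15638 (iv D33455)))
theorem Q17530 : ∀ i, i < 17530 → P i := stepQ 17529 Q17529 (allL N17529 (tt N16671 F155452) (tt N17529 F155453) (tt N19281 (iv F163379)) (tt N15992 F155454) (tt N15641 F155455) (tt N19285 D35212) (tt N15639 (iv D33456)) (tt N19236 (iv F163128)) (tt N19286 D35213) (tt N15657 F155456))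
theorem Q17531 : ∀ i, i < 17531 → P i := stepQ 17530 Q17530 (allL N17530 (tt N16672 F155457) (tt N17530 F155458) (tt N19282 (iv F163383)) (tt N15993 F155459) (tt N15642 F155460) (tt N17029 F155461) (tt N19286 (iv F163408)) (tt N15640 F155462) (tt N15639 (iv D33457)) (tt N17056 (iv F155463)))
theorem Q17532 : ∀ i, i < 17532 → P i := stepQ 17531 Q17531 (allL N17531 (tt N16673 F155464) (tt N17531 F155465) (tt N19283 (iv F163389)) (tt N15644 F155466) (tt N19286 (iv F163407)) (tt N19287 D35214) (tt N15642 F155467) (tt N19237 (iv F163136)) (tt N15641 (iv D33458)) (tt N19288 D35215))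
theorem Q17533 : ∀ i, i < 17533 → P i := stepQ 17532 Q17532 (allL N17532 (tt N16674 F155468) (tt N17532 F155469) (tt N19284 (iv F163392)) (tt N15645 F155470) (tt N17056 F155471) (tt N17532 F155472) (tt N19288 (iv F163420)) (tt N15643 F155473) (tt N15661 F155474) (tt N15642 (iv D33459)))
theorem Q17534 : ∀ i, i < 17534 → P i := stepQ 17533 Q17533 (allL N17533 (tt N16675 F155475) (tt N17533 F155476) (tt N19161 (iv F162758)) (tt N19287 (iv F163414)) (tt N19289 D35216) (tt N15644 (iv D33460)) (tt N17533 F155477) (tt N19238 (iv F163141)) (tt N19269 (iv F163321)) (tt N19290 D35217))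
theorem Q17535 : ∀ i, i < 17535 → P i := stepQ 17534 Q17534 (allL N17534 (tt N16676 F155478) (tt N17534 F155479) (tt N19162 (iv F162761)) (tt N19288 (iv F163418)) (tt N15998 F155480) (tt N19290 (iv F163431)) (tt N15645 F155481) (tt N19239 (iv F163149)) (tt N15663 F155482) (tt N15644 (iv D33461)))
theorem Q17536 : ∀ i, i < 17536 → P i := stepQ 17535 Q17535 (allL N17535 (tt N15648 F155483) (tt N16677 F155484) (tt N17535 F155485) (tt N19291 D35218) (tt N15646 (iv D33462)) (tt N15699 F155486) (tt N19240 (iv F163155)) (tt N19292 D35219) (tt N19248 (iv F163196)) (tt N19231 F163100))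
theorem Q17537 : ∀ i, i < 17537 → P i := stepQ 17536 Q17536 (allL N17536 (tt N15649 F155487) (tt N16678 F155488) (tt N17536 F155489) (tt N19164 (iv F162772)) (tt N19292 (iv F163439)) (tt N15647 F155490) (tt N19293 D35220) (tt N15646 (iv D33463)) (tt N19294 D35221) (tt N19274 (iv F163350)))
theorem Q17538 : ∀ i, i < 17538 → P i := stepQ 17537 Q17537 (allL N17537 (tt N15650 F155491) (tt N16679 F155492) (tt N17537 F155493) (tt N19165 (iv F162777)) (tt N19248 (iv F163193)) (tt N15668 F155494) (tt N19242 (iv F163167)) (tt N19294 (iv F163449)) (tt N15646 (iv D33464)) (tt N19245 (iv F163181)))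
theorem Q17539 : ∀ i, i < 17539 → P i := stepQ 17538 Q17538 (allL N17538 (tt N19291 (iv F163433)) (tt N15651 F155495) (tt N19295 D35222) (tt N15648 (iv D33465)) (tt N19166 (iv F162780)) (tt N15701 F155496) (tt N19243 (iv F163171)) (tt N19296 D35223) (tt N19297 D35224) (tt N19275 (iv F163353)))
theorem Q17540 : ∀ i, i < 17540 → P i := stepQ 17539 Q17539 (allL N17539 (tt N19292 (iv F163436)) (tt N15652 F155497) (tt N17539 F155498) (tt N19296 (iv F163455)) (tt N15649 F155499) (tt N15702 F155500) (tt N19298 D35225) (tt N15648 (iv D33466)) (tt N19299 D35226) (tt N19276 (iv F163359)))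
theorem Q17541 : ∀ i, i < 17541 → P i := stepQ 17540 Q17540 (allL N17540 (tt N19248 (iv F163190)) (tt N15653 F155501) (tt N17540 F155502) (tt N19297 (iv F163458)) (tt N15650 F155503) (tt N17540 F155504) (tt N19245 (iv F163180)) (tt N19299 (iv F163467)) (tt N15648 (iv D33467)) (tt N19242 (iv F163168)))
theorem Q17542 : ∀ i, i < 17542 → P i := stepQ 17541 Q17541 (allL N17541 (tt N19293 (iv F163441)) (tt N15654 F155505) (tt N17541 F155506) (tt N19169 (iv F162792)) (tt N19298 (iv F163462)) (tt N18873 (iv F161079)) (tt N15649 (iv D33468)) (tt N19246 (iv F163185)) (tt N19300 D35227) (tt N19277 (iv F163362)))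
theorem Q17543 : ∀ i, i < 17543 → P i := stepQ 17542 Q17542 (allL N17542 (tt N19294 (iv F163445)) (tt N15655 F155507) (tt N17542 F155508) (tt N19170 (iv F162795)) (tt N19299 (iv F163465)) (tt N15669 F155509) (tt N19300 (iv F163470)) (tt N15650 F155510) (tt N15649 (iv D33469)) (tt N19301 D35228))
theorem Q17544 : ∀ i, i < 17544 → P i := stepQ 17543 Q17543 (allL N17543 (tt N19245 (iv F163176)) (tt N15656 F155511) (tt N17543 F155512) (tt N19171 (iv F162800)) (tt N19242 (iv F163165)) (tt N15670 F155513) (tt N19248 (iv F163195)) (tt N19301 (iv F163474)) (tt N19240 F163157) (tt N15650 (iv D33470)))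
theorem Q17545 : ∀ i, i < 17545 → P i := stepQ 17544 Q17544 (allL N17544 (tt N16684 F155514) (tt N19296 (iv F163454)) (tt N16005 F155515) (tt N15652 F155516) (tt N19172 (iv F162805)) (tt N15703 F155517) (tt N19302 D35229) (tt N15651 (iv D33471)) (tt N19303 D35230) (tt N19279 (iv F163371)))
theorem Q17546 : ∀ i, i < 17546 → P i := stepQ 17545 Q17545 (allL N17545 (tt N16685 F155518) (tt N19297 (iv F163457)) (tt N16006 F155519) (tt N15653 F155520) (tt N19173 (iv F162809)) (tt N17545 F155521) (tt N19250 (iv F163204)) (tt N19303 (iv F163482)) (tt N15651 (iv D33472)) (tt N19304 D35231))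
theorem Q17547 : ∀ i, i < 17547 → P i := stepQ 17546 Q17546 (allL N17546 (tt N16686 F155522) (tt N19298 (iv F163460)) (tt N15657 F155523) (tt N19302 (iv F163477)) (tt N15654 F155524) (tt N19305 D35232) (tt N15652 (iv D33473)) (tt N19251 (iv F163210)) (tt N19306 D35233) (tt N19281 (iv F163381)))
theorem Q17548 : ∀ i, i < 17548 → P i := stepQ 17547 Q17547 (allL N17547 (tt N16687 F155525) (tt N19299 (iv F163463)) (tt N15658 F155526) (tt N19303 (iv F163480)) (tt N15655 F155527) (tt N17547 F155528) (tt N19306 (iv F163495)) (tt N15653 F155529) (tt N15652 (iv D33474)) (tt N19307 D35234))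
theorem Q17549 : ∀ i, i < 17549 → P i := stepQ 17548 Q17548 (allL N17548 (tt N16629 F155530) (tt N19242 (iv F163163)) (tt N15659 F155531) (tt N19304 (iv F163485)) (tt N15656 F155532) (tt N17548 F155533) (tt N16679 F155534) (tt N19307 (iv F163500)) (tt N16625 F155535) (tt N15653 (iv D33475)))
theorem Q17550 : ∀ i, i < 17550 → P i := stepQ 17549 Q17549 (allL N17549 (tt N16688 F155536) (tt N19300 (iv F163468)) (tt N15660 F155537) (tt N19178 (iv F162827)) (tt N19306 (iv F163494)) (tt N19308 D35235) (tt N15655 F155538) (tt N19253 (iv F163220)) (tt N15654 (iv D33476)) (tt N19309 D35236))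
theorem Q17551 : ∀ i, i < 17551 → P i := stepQ 17550 Q17550 (allL N17550 (tt N16689 F155539) (tt N19301 (iv F163471)) (tt N15661 F155540) (tt N19179 (iv F162831)) (tt N19307 (iv F163498)) (tt N15672 F155541) (tt N19309 (iv F163507)) (tt N15656 F155542) (tt N19284 (iv F163396)) (tt N15655 (iv D33477)))
theorem Q17552 : ∀ i, i < 17552 → P i := stepQ 17551 Q17551 (allL N17551 (tt N16690 F155543) (tt N17551 F155544) (tt N19305 (iv F163490)) (tt N16012 F155545) (tt N19270 (iv F163325)) (tt N15657 (iv D33478)) (tt N15705 F155546) (tt N19255 (iv F163231)) (tt N19310 D35237) (tt N19285 (iv F163402)))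
theorem Q17553 : ∀ i, i < 17553 → P i := stepQ 17552 Q17552 (allL N17552 (tt N16691 F155547) (tt N17552 F155548) (tt N19306 (iv F163493)) (tt N16013 F155549) (tt N15660 F155550) (tt N19311 D35238) (tt N15658 F155551) (tt N19256 (iv F163237)) (tt N15657 (iv D33479)) (tt N19312 D35239))
theorem Q17554 : ∀ i, i < 17554 → P i := stepQ 17553 Q17553 (allL N17553 (tt N16692 F155552) (tt N17553 F155553) (tt N19307 (iv F163497)) (tt N16014 F155554) (tt N15661 F155555) (tt N17553 F155556) (tt N19312 (iv F163523)) (tt N15659 F155557) (tt N17056 F155558) (tt N15658 (iv D33480)))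
theorem Q17555 : ∀ i, i < 17555 → P i := stepQ 17554 Q17554 (allL N17554 (tt N16693 F155559) (tt N17554 F155560) (tt N19308 (iv F163503)) (tt N15662 F155561) (tt N19313 D35240) (tt N15660 (iv D33481)) (tt N15673 F155562) (tt N19257 (iv F163244)) (tt N19271 (iv F163334)) (tt N19314 D35241))
theorem Q17556 : ∀ i, i < 17556 → P i := stepQ 17555 Q17555 (allL N17555 (tt N16694 F155563) (tt N17555 F155564) (tt N19309 (iv F163506)) (tt N15663 F155565) (tt N19312 (iv F163522)) (tt N19314 (iv F163533)) (tt N15661 F155566) (tt N19258 (iv F163250)) (tt N19288 (iv F163422)) (tt N15660 (iv D33482)))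
theorem Q17557 : ∀ i, i < 17557 → P i := stepQ 17556 Q17556 (allL N17556 (tt N16695 F155567) (tt N17556 F155568) (tt N19188 (iv F162863)) (tt N19273 (iv F163342)) (tt N15662 (iv D33483)) (tt N16017 F155569) (tt N15675 F155570) (tt N19259 (iv F163256)) (tt N19272 (iv F163339)) (tt N19271 (iv F163335)))
theorem Q17558 : ∀ i, i < 17558 → P i := stepQ 17557 Q17557 (allL N17557 (tt N16696 F155571) (tt N17557 F155572) (tt N19189 (iv F162867)) (tt N19314 (iv F163532)) (tt N19271 (iv F163332)) (tt N15663 F155573) (tt N15676 F155574) (tt N19260 (iv F163262)) (tt N19313 (iv F163529)) (tt N15662 (iv D33484)))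
theorem Q17559 : ∀ i, i < 17559 → P i := stepQ 17558 Q17558 (allL N17558 (tt N16697 F155575) (tt N17558 F155576) (tt N19063 (iv F162228)) (tt N15665 F155577) (tt N15676 F155578) (tt N15664 (iv D33485)) (tt N19271 (iv F163333)) (tt N17558 F155579) (tt N15673 F155580) (tt N15675 F155581))
theorem Q17560 : ∀ i, i < 17560 → P i := stepQ 17559 Q17559 (allL N17559 (tt N16698 F155582) (tt N17559 F155583) (tt N19192 (iv F162884)) (tt N19315 D35242) (tt N15665 (iv D33486)) (tt N17559 F155584) (tt N19272 (iv F163338)) (tt N17559 F155585) (tt N15675 F155586) (tt N19316 D35243))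
theorem Q17561 : ∀ i, i < 17561 → P i := stepQ 17560 Q17560 (allL N17560 (tt N16699 F155587) (tt N17560 F155588) (tt N19193 (iv F162890)) (tt N15675 F155589) (tt N19316 (iv F163545)) (tt N15666 F155590) (tt N19273 (iv F163344)) (tt N17560 F155591) (tt N19315 (iv F163540)) (tt N15665 (iv D33487)))
theorem Q17562 : ∀ i, i < 17562 → P i := stepQ 17561 Q17561 (allL N17561 (tt N15669 F155592) (tt N16700 F155593) (tt N17561 F155594) (tt N19194 (iv F162896)) (tt N17561 F155595) (tt N19294 (iv F163448)) (tt N16598 F155596) (tt N15668 F155597) (tt N15667 (iv D33488)) (tt N19317 D35244))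
theorem Q17563 : ∀ i, i < 17563 → P i := stepQ 17562 Q17562 (allL N17562 (tt N15670 F155598) (tt N16701 F155599) (tt N17562 F155600) (tt N19195 (iv F162903)) (tt N17562 F155601) (tt N19245 F163182) (tt N17562 F155602) (tt N19317 (iv F163554)) (tt N17562 F155603) (tt N15668 (iv D33489)))
theorem Q17564 : ∀ i, i < 17564 → P i := stepQ 17563 Q17563 (allL N17563 (tt N19317 (iv F163549)) (tt N15672 F155604) (tt N17563 F155605) (tt N19197 (iv F162916)) (tt N17563 F155606) (tt N19301 (iv F163473)) (tt N19216 (iv F163008)) (tt N15670 F155607) (tt N17563 F155608) (tt N15669 (iv D33490)))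
theorem Q17565 : ∀ i, i < 17565 → P i := stepQ 17564 Q17564 (allL N17564 (tt N16704 F155609) (tt N19215 (iv F163000)) (tt N15673 F155610) (tt N19203 (iv F162953)) (tt N19214 (iv F162996)) (tt N15671 (iv D33491)) (tt N19308 (iv F163504)) (tt N17564 F155611) (tt N19063 (iv F162231)) (tt N19318 D35245))
theorem Q17566 : ∀ i, i < 17566 → P i := stepQ 17565 Q17565 (allL N17565 (tt N16705 F155612) (tt N19216 (iv F163005)) (tt N15674 F155613) (tt N19204 (iv F162957)) (tt N17565 F155614) (tt N19318 (iv F163558)) (tt N15672 F155615) (tt N17565 F155616) (tt N17565 F155617) (tt N15671 (iv D33492)))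
theorem Q17567 : ∀ i, i < 17567 → P i := stepQ 17566 Q17566 (allL N17566 (tt N16706 F155618) (tt N17566 F155619) (tt N19214 (iv F162995)) (tt N19316 (iv F163544)) (tt N15673 (iv D33493)) (tt N17566 F155620) (tt N19313 (iv F163528)) (tt N17566 F155621) (tt N15676 F155622) (tt N19315 F163541))
theorem Q17568 : ∀ i, i < 17568 → P i := stepQ 17567 Q17567 (allL N17567 (tt N16707 F155623) (tt N17567 F155624) (tt N19318 (iv F163557)) (tt N15676 F155625) (tt N19315 (iv F163537)) (tt N15674 F155626) (tt N19314 (iv F163534)) (tt N17567 F155627) (tt N19316 (iv F163548)) (tt N15673 (iv D33494)))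
theorem Q17569 : ∀ i, i < 17569 → P i := stepQ 17568 Q17568 (allL N17568 (tt N16708 F155628) (tt N17568 F155629) (tt N18900 (iv F161261)) (tt N15684 F155630) (tt N15679 F155631) (tt N19319 D35246) (tt N15678 (iv D33495)) (tt N17568 F155632) (tt N16103 F155633) (tt N16246 F155634))
theorem Q17570 : ∀ i, i < 17570 → P i := stepQ 17569 Q17569 (allL N17569 (tt N16713 F155635) (tt N17569 F155636) (tt N18922 (iv F161390)) (tt N19319 (iv F163562)) (tt N15705 F155637) (tt N15684 (iv D33496)) (tt N19270 (iv F163326)) (tt N17569 F155638) (tt N16099 F155639) (tt N16396 F155640))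
theorem Q17571 : ∀ i, i < 17571 → P i := stepQ 17570 Q17570 (allL N17570 (tt N15687 F155641) (tt N16714 F155642) (tt N17570 F155643) (tt N19320 D35247) (tt N15685 (iv D33497)) (tt N19231 (iv F163098)) (tt N17570 F155644) (tt N19321 D35248) (tt N17000 (iv F155646)) (tt N15699 F155645))
theorem Q17572 : ∀ i, i < 17572 → P i := stepQ 17571 Q17571 (allL N17571 (tt N15688 F155647) (tt N16715 F155648) (tt N17571 F155649) (tt N16235 F155650) (tt N19321 (iv F163577)) (tt N15686 F155651) (tt N16359 (iv F155653)) (tt N15685 (iv D33498)) (tt N19322 D35249) (tt N15700 F155652))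
theorem Q17573 : ∀ i, i < 17573 → P i := stepQ 17572 Q17572 (allL N17572 (tt N15689 F155654) (tt N16716 F155655) (tt N17572 F155656) (tt N16937 F155657) (tt N17000 F155658) (tt N17572 F155659) (tt N17572 F155660) (tt N19322 (iv F163588)) (tt N15685 (iv D33499)) (tt N17572 F155661))
theorem Q17574 : ∀ i, i < 17574 → P i := stepQ 17573 Q17573 (allL N17573 (tt N19320 (iv F163567)) (tt N15690 F155662) (tt N16581 (iv F155666)) (tt N15687 (iv D33500)) (tt N16489 F155663) (tt N19275 (iv F163352)) (tt N17573 F155664) (tt N19323 D35250) (tt N16487 (iv F155667)) (tt N15701 F155665))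
theorem Q17575 : ∀ i, i < 17575 → P i := stepQ 17574 Q17574 (allL N17574 (tt N19321 (iv F163574)) (tt N15691 F155668) (tt N17574 F155669) (tt N19323 (iv F163592)) (tt N15688 F155670) (tt N19276 (iv F163358)) (tt N18991 (iv F161782)) (tt N15687 (iv D33501)) (tt N19324 D35251) (tt N15702 F155671))
theorem Q17576 : ∀ i, i < 17576 → P i := stepQ 17575 Q17575 (allL N17575 (tt N17000 F155672) (tt N15692 F155673) (tt N17575 F155674) (tt N16487 F155675) (tt N15689 F155676) (tt N16999 F155679) (tt N17575 F155677) (tt N19324 (iv F163601)) (tt N15687 (iv D33502)) (tt N17575 F155678))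
theorem Q17577 : ∀ i, i < 17577 → P i := stepQ 17576 Q17576 (allL N17576 (tt N19322 (iv F163581)) (tt N15694 F155680) (tt N17576 F155681) (tt N16939 F155682) (tt N19324 (iv F163600)) (tt N17576 F155683) (tt N18992 (iv F161789)) (tt N15689 F155684) (tt N15688 (iv D33503)) (tt N17576 F155685))
theorem Q17578 : ∀ i, i < 17578 → P i := stepQ 17577 Q17577 (allL N17577 (tt N16720 F155686) (tt N19323 (iv F163590)) (tt N16039 F155687) (tt N15691 F155688) (tt N16492 F155689) (tt N19279 (iv F163370)) (tt N19325 D35252) (tt N15690 (iv D33504)) (tt N16490 F155690) (tt N15703 F155691))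
theorem Q17579 : ∀ i, i < 17579 → P i := stepQ 17578 Q17578 (allL N17578 (tt N16721 F155692) (tt N18991 (iv F161779)) (tt N15695 F155693) (tt N19325 (iv F163606)) (tt N15693 F155694) (tt N19326 D35253) (tt N15691 (iv D33505)) (tt N17578 F155695) (tt N19327 D35254) (tt N15704 F155696))
theorem Q17580 : ∀ i, i < 17580 → P i := stepQ 17579 Q17579 (allL N17579 (tt N16722 F155697) (tt N19324 (iv F163597)) (tt N15696 F155698) (tt N16490 F155699) (tt N15694 F155700) (tt N17016 (iv F155703)) (tt N19327 (iv F163622)) (tt N15692 F155701) (tt N15691 (iv D33506)) (tt N17579 F155702))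
theorem Q17581 : ∀ i, i < 17581 → P i := stepQ 17580 Q17580 (allL N17580 (tt N16723 F155704) (tt N18992 (iv F161785)) (tt N15697 F155705) (tt N16941 F155706) (tt N19327 (iv F163620)) (tt N16421 F155707) (tt N15694 F155708) (tt N17580 F155709) (tt N15693 (iv D33507)) (tt N17580 F155710))
theorem Q17582 : ∀ i, i < 17582 → P i := stepQ 17581 Q17581 (allL N17581 (tt N16724 F155711) (tt N17581 F155712) (tt N19326 (iv F163612)) (tt N16041 F155713) (tt N16396 F155714) (tt N15695 (iv D33508)) (tt N19285 (iv F163401)) (tt N17581 F155715) (tt N16395 (iv F155717)) (tt N15705 F155716))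
theorem Q17583 : ∀ i, i < 17583 → P i := stepQ 17582 Q17582 (allL N17582 (tt N16725 F155718) (tt N17582 F155719) (tt N19327 (iv F163618)) (tt N16042 F155720) (tt N15697 F155721) (tt N16399 F155722) (tt N15696 F155723) (tt N17582 F155724) (tt N15695 (iv D33509)) (tt N17582 F155725))
theorem Q17584 : ∀ i, i < 17584 → P i := stepQ 17583 Q17583 (allL N17583 (tt N15701 F155726) (tt N16726 F155727) (tt N19328 D35255) (tt N15699 (iv D33510)) (tt N18881 (iv F161135)) (tt N19291 (iv F163435)) (tt N17583 F155728) (tt N19329 D35256) (tt N17583 F155729) (tt N19320 (iv F163572)))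
theorem Q17585 : ∀ i, i < 17585 → P i := stepQ 17584 Q17584 (allL N17584 (tt N15702 F155730) (tt N16727 F155731) (tt N17584 F155732) (tt N19329 (iv F163634)) (tt N15700 F155733) (tt N19292 (iv F163440)) (tt N16358 (iv F155735)) (tt N15699 (iv D33511)) (tt N17584 F155734) (tt N19321 (iv F163579)))
theorem Q17586 : ∀ i, i < 17586 → P i := stepQ 17585 Q17585 (allL N17585 (tt N19328 (iv F163625)) (tt N16043 F155736) (tt N15701 (iv D33512)) (tt N17585 F155737) (tt N16584 F155738) (tt N19295 (iv F163452)) (tt N17585 F155739) (tt N19330 D35257) (tt N17585 F155740) (tt N16581 F155741))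
theorem Q17587 : ∀ i, i < 17587 → P i := stepQ 17586 Q17586 (allL N17586 (tt N19329 (iv F163632)) (tt N15703 F155742) (tt N19330 (iv F163639)) (tt N15702 F155743) (tt N18877 (iv F161104)) (tt N19296 (iv F163456)) (tt N18990 (iv F161775)) (tt N15701 (iv D33513)) (tt N17586 F155744) (tt N19323 (iv F163595)))
theorem Q17588 : ∀ i, i < 17588 → P i := stepQ 17587 Q17587 (allL N17587 (tt N16730 F155745) (tt N18990 (iv F161773)) (tt N16046 F155746) (tt N15704 F155747) (tt N18882 (iv F161145)) (tt N19331 D35258) (tt N15703 (iv D33514)) (tt N17587 F155748) (tt N17587 F155749) (tt N19325 (iv F163610)))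
theorem Q17589 : ∀ i, i < 17589 → P i := stepQ 17588 Q17588 (allL N17588 (tt N16731 F155750) (tt N18983 (iv F161739)) (tt N15705 F155751) (tt N19331 (iv F163646)) (tt N18922 (iv F161391)) (tt N15704 (iv D33515)) (tt N19305 (iv F163491)) (tt N17588 F155752) (tt N19332 D35259) (tt N19326 (iv F163615)))
theorem Q17590 : ∀ i, i < 17590 → P i := stepQ 17589 Q17589 (allL N17589 (tt N16732 F155753) (tt N17589 F155754) (tt N19332 (iv F163649)) (tt N16048 F155755) (tt N16099 F155756) (tt N17589 F155757) (tt N19310 (iv F163512)) (tt N17589 F155758) (tt N15705 (iv D33516)) (tt N16098 F155759))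
theorem Q17591 : ∀ i, i < 17591 → P i := stepQ 17590 Q17590 (allL N17590 (tt N15706 (iv D33517)) (tt N15751 F155760) (tt N16109 F155761) (tt N17590 F155762) (tt N16445 F155763) (tt N15724 F155764) (tt N16199 (iv F155768)) (tt N16138 F155765) (tt N16104 F155766) (tt N16176 F155767))
theorem Q17592 : ∀ i, i < 17592 → P i := stepQ 17591 Q17591 (allL N17591 (tt N16199 F155769) (tt N15707 F155770) (tt N16124 F155771) (tt N17591 F155772) (tt N16446 F155773) (tt N19333 D35260) (tt N15706 (iv D33518)) (tt N19334 D35261) (tt N16105 F155774) (tt N16497 F155775))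
theorem Q17593 : ∀ i, i < 17593 → P i := stepQ 17592 Q17592 (allL N17592 (tt N15753 F155776) (tt N19333 (iv F163655)) (tt N15708 F155777) (tt N17592 F155778) (tt N19335 D35262) (tt N15707 (iv D33519)) (tt N15726 F155779) (tt N19336 D35263) (tt N19337 D35264) (tt N16498 F155780))
theorem Q17594 : ∀ i, i < 17594 → P i := stepQ 17593 Q17593 (allL N17593 (tt N15754 F155781) (tt N19334 (iv F163662)) (tt N15709 F155782) (tt N17593 F155783) (tt N16448 F155784) (tt N19336 (iv F163677)) (tt N16189 F155785) (tt N15707 (iv D33520)) (tt N16107 F155786) (tt N16499 F155787))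
theorem Q17595 : ∀ i, i < 17595 → P i := stepQ 17594 Q17594 (allL N17594 (tt N15755 F155788) (tt N16212 F155789) (tt N19335 (iv F163670)) (tt N16771 F155790) (tt N15708 (iv D33521)) (tt N16449 F155791) (tt N15728 F155792) (tt N19338 D35265) (tt N19339 D35266) (tt N16500 F155793))
theorem Q17596 : ∀ i, i < 17596 → P i := stepQ 17595 Q17595 (allL N17595 (tt N15756 F155794) (tt N16213 F155795) (tt N19336 (iv F163675)) (tt N15710 F155796) (tt N19338 (iv F163689)) (tt N15709 F155797) (tt N19340 D35267) (tt N15708 (iv D33522)) (tt N19341 D35268) (tt N16501 F155798))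
theorem Q17597 : ∀ i, i < 17597 → P i := stepQ 17596 Q17596 (allL N17596 (tt N15757 F155799) (tt N15829 F155800) (tt N19337 (iv F163681)) (tt N15711 F155801) (tt N19339 (iv F163695)) (tt N15828 F155802) (tt N15730 F155803) (tt N19341 (iv F163708)) (tt N15708 (iv D33523)) (tt N16305 (iv F155804)))
theorem Q17598 : ∀ i, i < 17598 → P i := stepQ 17597 Q17597 (allL N17597 (tt N15758 F155805) (tt N16214 F155806) (tt N17597 F155807) (tt N19340 (iv F163700)) (tt N16774 F155808) (tt N16193 F155809) (tt N15710 (iv D33524)) (tt N15731 F155810) (tt N19342 D35269) (tt N16503 F155811))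
theorem Q17599 : ∀ i, i < 17599 → P i := stepQ 17598 Q17598 (allL N17598 (tt N15759 F155812) (tt N15938 F155813) (tt N17598 F155814) (tt N19341 (iv F163706)) (tt N16775 F155815) (tt N15937 F155816) (tt N19342 (iv F163714)) (tt N15711 F155817) (tt N15710 (iv D33525)) (tt N16364 (iv F155818)))
theorem Q17600 : ∀ i, i < 17600 → P i := stepQ 17599 Q17599 (allL N17599 (tt N15806 F155819) (tt N15713 F155820) (tt N15912 F155821) (tt N17599 F155822) (tt N15800 F155823) (tt N19343 D35270) (tt N15712 (iv D33526)) (tt N19344 D35271) (tt N15733 F155824) (tt N15797 F155825))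
theorem Q17601 : ∀ i, i < 17601 → P i := stepQ 17600 Q17600 (allL N17600 (tt N15767 F155826) (tt N19343 (iv F163719)) (tt N15714 F155827) (tt N17600 F155828) (tt N19345 D35272) (tt N15713 (iv D33527)) (tt N16188 F155829) (tt N19346 D35273) (tt N19347 D35274) (tt N15906 F155830))
theorem Q17602 : ∀ i, i < 17602 → P i := stepQ 17601 Q17601 (allL N17601 (tt N15768 F155831) (tt N19344 (iv F163726)) (tt N15715 F155832) (tt N17601 F155833) (tt N15908 F155834) (tt N19346 (iv F163741)) (tt N15727 F155835) (tt N15713 (iv D33528)) (tt N15735 F155836) (tt N15905 F155837))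
theorem Q17603 : ∀ i, i < 17603 → P i := stepQ 17602 Q17602 (allL N17602 (tt N15769 F155838) (tt N16209 F155839) (tt N19345 (iv F163734)) (tt N16271 F155840) (tt N15714 (iv D33529)) (tt N16733 F155841) (tt N16190 F155842) (tt N19348 D35275) (tt N19349 D35276) (tt N16254 F155843))
theorem Q17604 : ∀ i, i < 17604 → P i := stepQ 17603 Q17603 (allL N17603 (tt N15770 F155844) (tt N16210 F155845) (tt N19346 (iv F163739)) (tt N15716 F155846) (tt N19348 (iv F163753)) (tt N15715 F155847) (tt N19350 D35277) (tt N15714 (iv D33530)) (tt N19351 D35278) (tt N16255 F155848))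
theorem Q17605 : ∀ i, i < 17605 → P i := stepQ 17604 Q17604 (allL N17604 (tt N15771 F155849) (tt N16178 F155850) (tt N19347 (iv F163745)) (tt N15717 F155851) (tt N19349 (iv F163759)) (tt N15738 F155852) (tt N16192 F155853) (tt N19351 (iv F163771)) (tt N15714 (iv D33531)) (tt N19352 D35279))
theorem Q17606 : ∀ i, i < 17606 → P i := stepQ 17605 Q17605 (allL N17605 (tt N15772 F155854) (tt N16211 F155855) (tt N17605 F155856) (tt N19350 (iv F163763)) (tt N16274 F155857) (tt N15731 F155858) (tt N15716 (iv D33532)) (tt N16193 F155859) (tt N19353 D35280) (tt N16257 F155860))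
theorem Q17607 : ∀ i, i < 17607 → P i := stepQ 17606 Q17606 (allL N17606 (tt N15773 F155861) (tt N16021 F155862) (tt N17606 F155863) (tt N19351 (iv F163769)) (tt N16275 F155864) (tt N15739 F155865) (tt N19353 (iv F163784)) (tt N15717 F155866) (tt N15716 (iv D33533)) (tt N19354 D35281))
theorem Q17608 : ∀ i, i < 17608 → P i := stepQ 17607 Q17607 (allL N17607 (tt N15774 F155867) (tt N16186 F155868) (tt N17607 F155869) (tt N19352 (iv F163775)) (tt N16276 F155870) (tt N15740 F155871) (tt N16195 F155872) (tt N19354 (iv F163791)) (tt N16259 F155873) (tt N15717 (iv D33534)))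
theorem Q17609 : ∀ i, i < 17609 → P i := stepQ 17608 Q17608 (allL N17608 (tt N15914 F155874) (tt N15719 F155875) (tt N15800 F155876) (tt N17608 F155877) (tt N15912 F155878) (tt N19355 D35282) (tt N15718 (iv D33535)) (tt N19356 D35283) (tt N15911 F155879) (tt N15725 F155880))
theorem Q17610 : ∀ i, i < 17610 → P i := stepQ 17609 Q17609 (allL N17609 (tt N15775 F155881) (tt N19355 (iv F163794)) (tt N15720 F155882) (tt N17609 F155883) (tt N19357 D35284) (tt N15719 (iv D33536)) (tt N16498 F155884) (tt N19358 D35285) (tt N19359 D35286) (tt N15726 F155885))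
theorem Q17611 : ∀ i, i < 17611 → P i := stepQ 17610 Q17610 (allL N17610 (tt N15776 F155886) (tt N19356 (iv F163801)) (tt N15721 F155887) (tt N17610 F155888) (tt N15907 F155889) (tt N19358 (iv F163816)) (tt N15905 F155890) (tt N15719 (iv D33537)) (tt N15904 F155891) (tt N15727 F155892))
theorem Q17612 : ∀ i, i < 17612 → P i := stepQ 17611 Q17611 (allL N17611 (tt N15777 F155893) (tt N16733 F155894) (tt N19357 (iv F163809)) (tt N16299 F155895) (tt N15720 (iv D33538)) (tt N16209 F155896) (tt N16500 F155897) (tt N19360 D35287) (tt N19361 D35288) (tt N15728 F155898))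
theorem Q17613 : ∀ i, i < 17613 → P i := stepQ 17612 Q17612 (allL N17612 (tt N15778 F155899) (tt N16734 F155900) (tt N19358 (iv F163814)) (tt N15722 F155901) (tt N19360 (iv F163828)) (tt N15721 F155902) (tt N19362 D35289) (tt N15720 (iv D33539)) (tt N19363 D35290) (tt N15729 F155903))
theorem Q17614 : ∀ i, i < 17614 → P i := stepQ 17613 Q17613 (allL N17613 (tt N15779 F155904) (tt N16325 F155905) (tt N19359 (iv F163820)) (tt N15723 F155906) (tt N19361 (iv F163834)) (tt N16052 F155907) (tt N16502 F155908) (tt N19363 (iv F163847)) (tt N15720 (iv D33540)) (tt N16319 F155909))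
theorem Q17615 : ∀ i, i < 17615 → P i := stepQ 17614 Q17614 (allL N17614 (tt N15780 F155910) (tt N16735 F155911) (tt N17614 F155912) (tt N19362 (iv F163839)) (tt N16302 F155913) (tt N16257 F155914) (tt N15722 (iv D33541)) (tt N16503 F155915) (tt N19364 D35291) (tt N15731 F155916))
theorem Q17616 : ∀ i, i < 17616 → P i := stepQ 17615 Q17615 (allL N17615 (tt N15781 F155917) (tt N16383 F155918) (tt N17615 F155919) (tt N19363 (iv F163845)) (tt N16303 F155920) (tt N16054 F155921) (tt N19364 (iv F163853)) (tt N15723 F155922) (tt N15722 (iv D33542)) (tt N16377 F155923))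
theorem Q17617 : ∀ i, i < 17617 → P i := stepQ 17616 Q17616 (allL N17616 (tt N15725 F155924) (tt N15783 F155925) (tt N15738 F155926) (tt N17616 F155927) (tt N15916 F155928) (tt N19347 (iv F163747)) (tt N15724 (iv D33543)) (tt N19365 D35292) (tt N15734 F155929) (tt N15914 F155930))
theorem Q17618 : ∀ i, i < 17618 → P i := stepQ 17617 Q17617 (allL N17617 (tt N19347 (iv F163743)) (tt N15726 F155931) (tt N15771 F155932) (tt N17617 F155933) (tt N19366 D35293) (tt N15725 (iv D33544)) (tt N19333 (iv F163658)) (tt N19367 D35294) (tt N15767 F155934) (tt N19355 (iv F163799)))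
theorem Q17619 : ∀ i, i < 17619 → P i := stepQ 17618 Q17618 (allL N17618 (tt N19365 (iv F163856)) (tt N15727 F155935) (tt N15799 F155936) (tt N17618 F155937) (tt N18885 (iv F161167)) (tt N19367 (iv F163870)) (tt N19344 (iv F163730)) (tt N15725 (iv D33545)) (tt N15741 F155938) (tt N19356 (iv F163807)))
theorem Q17620 : ∀ i, i < 17620 → P i := stepQ 17619 Q17619 (allL N17619 (tt N15786 F155939) (tt N19366 (iv F163864)) (tt N15728 F155940) (tt N19368 D35295) (tt N15726 (iv D33546)) (tt N18886 (iv F161173)) (tt N19335 (iv F163672)) (tt N19369 D35296) (tt N19370 D35297) (tt N19357 (iv F163812)))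
theorem Q17621 : ∀ i, i < 17621 → P i := stepQ 17620 Q17620 (allL N17620 (tt N15787 F155941) (tt N19367 (iv F163867)) (tt N15729 F155942) (tt N17620 F155943) (tt N19369 (iv F163876)) (tt N15727 F155944) (tt N19371 D35298) (tt N15726 (iv D33547)) (tt N19372 D35299) (tt N19358 (iv F163817)))
theorem Q17622 : ∀ i, i < 17622 → P i := stepQ 17621 Q17621 (allL N17621 (tt N15788 F155945) (tt N15767 F155946) (tt N15730 F155947) (tt N17621 F155948) (tt N19370 (iv F163880)) (tt N15743 F155949) (tt N19337 (iv F163684)) (tt N19372 (iv F163891)) (tt N15726 (iv D33548)) (tt N16277 (iv F155950)))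
theorem Q17623 : ∀ i, i < 17623 → P i := stepQ 17622 Q17622 (allL N17622 (tt N15789 F155951) (tt N16736 F155952) (tt N19369 (iv F163875)) (tt N19023 (iv F161996)) (tt N15729 F155953) (tt N18889 (iv F161192)) (tt N19373 D35300) (tt N15728 (iv D33549)) (tt N19374 D35301) (tt N19360 (iv F163830)))
theorem Q17624 : ∀ i, i < 17624 → P i := stepQ 17623 Q17623 (allL N17623 (tt N15790 F155954) (tt N15867 F155955) (tt N19370 (iv F163879)) (tt N19024 (iv F162003)) (tt N15730 F155956) (tt N16832 (iv F155957)) (tt N19339 (iv F163696)) (tt N19374 (iv F163899)) (tt N15728 (iv D33550)) (tt N16317 (iv F155958)))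
theorem Q17625 : ∀ i, i < 17625 → P i := stepQ 17624 Q17624 (allL N17624 (tt N15791 F155959) (tt N16737 F155960) (tt N19371 (iv F163884)) (tt N15731 F155961) (tt N19373 (iv F163895)) (tt N19350 (iv F163764)) (tt N15729 (iv D33551)) (tt N19340 (iv F163702)) (tt N19375 D35302) (tt N19362 (iv F163842)))
theorem Q17626 : ∀ i, i < 17626 → P i := stepQ 17625 Q17625 (allL N17625 (tt N15792 F155962) (tt N15868 F155963) (tt N19372 (iv F163888)) (tt N15732 F155964) (tt N19374 (iv F163898)) (tt N15744 F155965) (tt N19375 (iv F163905)) (tt N15730 F155966) (tt N15729 (iv D33552)) (tt N16318 (iv F155967)))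
theorem Q17627 : ∀ i, i < 17627 → P i := stepQ 17626 Q17626 (allL N17626 (tt N15794 F155968) (tt N15982 F155969) (tt N17626 F155970) (tt N19375 (iv F163904)) (tt N19027 (iv F162024)) (tt N16002 (iv F155972)) (tt N15732 F155971) (tt N19342 (iv F163715)) (tt N15731 (iv D33553)) (tt N16376 (iv F155973)))
theorem Q17628 : ∀ i, i < 17628 → P i := stepQ 17627 Q17627 (allL N17627 (tt N15805 F155974) (tt N15735 F155975) (tt N15798 F155976) (tt N17627 F155977) (tt N16074 F155978) (tt N15803 F155979) (tt N15741 F155980) (tt N15733 (iv D33554)) (tt N19344 (iv F163731)) (tt N16059 F155981))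
theorem Q17629 : ∀ i, i < 17629 → P i := stepQ 17628 Q17628 (allL N17628 (tt N15741 F155982) (tt N15803 F155983) (tt N15737 F155984) (tt N17628 F155985) (tt N16091 F155986) (tt N15735 F155987) (tt N15805 F155988) (tt N15734 (iv D33555)) (tt N19365 (iv F163862)) (tt N16060 F155989))
theorem Q17630 : ∀ i, i < 17630 → P i := stepQ 17629 Q17629 (allL N17629 (tt N15796 F155990) (tt N15917 F155991) (tt N16091 F155992) (tt N17629 F155993) (tt N15737 F155994) (tt N16415 F155995) (tt N15913 F155996) (tt N15736 (iv D33556)) (tt N19376 D35303) (tt N16061 F155997))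
theorem Q17631 : ∀ i, i < 17631 → P i := stepQ 17630 Q17630 (allL N17630 (tt N15797 F155998) (tt N15810 F155999) (tt N15916 F156000) (tt N17630 F156001) (tt N15738 F156002) (tt N19377 D35304) (tt N16110 F156003) (tt N19376 (iv F163914)) (tt N15736 (iv D33557)) (tt N15806 F156004))
theorem Q17632 : ∀ i, i < 17632 → P i := stepQ 17631 Q17631 (allL N17631 (tt N15799 F156005) (tt N15920 F156006) (tt N19365 (iv F163858)) (tt N15739 F156007) (tt N19376 (iv F163912)) (tt N19351 (iv F163770)) (tt N15915 F156008) (tt N15738 F156009) (tt N15737 (iv D33558)) (tt N19378 D35305))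
theorem Q17633 : ∀ i, i < 17633 → P i := stepQ 17632 Q17632 (allL N17632 (tt N15800 F156010) (tt N15808 F156011) (tt N15914 F156012) (tt N15740 F156013) (tt N15806 F156014) (tt N19352 (iv F163776)) (tt N16111 F156015) (tt N19378 (iv F163928)) (tt N15804 F156016) (tt N15738 (iv D33559)))
theorem Q17634 : ∀ i, i < 17634 → P i := stepQ 17633 Q17633 (allL N17633 (tt N15802 F156017) (tt N16022 F156018) (tt N17633 F156019) (tt N19378 (iv F163925)) (tt N17633 F156020) (tt N19354 (iv F163790)) (tt N16020 F156021) (tt N15740 F156022) (tt N16063 F156023) (tt N15739 (iv D33560)))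
theorem Q17635 : ∀ i, i < 17635 → P i := stepQ 17634 Q17634 (allL N17634 (tt N15809 F156024) (tt N15768 F156025) (tt N15744 F156026) (tt N17634 F156027) (tt N16754 F156028) (tt N19372 (iv F163890)) (tt N15785 F156029) (tt N15743 F156030) (tt N15742 (iv D33561)) (tt N16278 F156031))
theorem Q17636 : ∀ i, i < 17636 → P i := stepQ 17635 Q17635 (allL N17635 (tt N16131 F156032) (tt N15746 F156033) (tt N15828 F156034) (tt N17635 F156035) (tt N16423 F156036) (tt N19337 (iv F163683)) (tt N15745 (iv D33562)) (tt N19379 D35306) (tt N16106 F156037) (tt N16268 F156038))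
theorem Q17637 : ∀ i, i < 17637 → P i := stepQ 17636 Q17636 (allL N17636 (tt N16188 F156039) (tt N19337 (iv F163680)) (tt N15747 F156040) (tt N17636 F156041) (tt N19380 D35307) (tt N15746 (iv D33563)) (tt N15767 F156042) (tt N19381 D35308) (tt N19333 (iv F163659)) (tt N16269 F156043))
theorem Q17638 : ∀ i, i < 17638 → P i := stepQ 17637 Q17637 (allL N17637 (tt N16189 F156044) (tt N19379 (iv F163931)) (tt N15748 F156045) (tt N17637 F156046) (tt N16425 F156047) (tt N19381 (iv F163946)) (tt N15754 F156048) (tt N15746 (iv D33564)) (tt N16122 F156049) (tt N16270 F156050))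
theorem Q17639 : ∀ i, i < 17639 → P i := stepQ 17638 Q17638 (allL N17638 (tt N16190 F156051) (tt N15831 F156052) (tt N19380 (iv F163939)) (tt N16254 F156053) (tt N15747 (iv D33565)) (tt N16426 F156054) (tt N15769 F156055) (tt N19382 D35309) (tt N19383 D35310) (tt N16271 F156056))
theorem Q17640 : ∀ i, i < 17640 → P i := stepQ 17639 Q17639 (allL N17639 (tt N16191 F156057) (tt N15832 F156058) (tt N19381 (iv F163944)) (tt N15749 F156059) (tt N19382 (iv F163951)) (tt N15748 F156060) (tt N19384 D35311) (tt N15747 (iv D33566)) (tt N19385 D35312) (tt N16272 F156061))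
theorem Q17641 : ∀ i, i < 17641 → P i := stepQ 17640 Q17640 (allL N17640 (tt N16192 F156062) (tt N15833 F156063) (tt N19333 (iv F163656)) (tt N15750 F156064) (tt N19383 (iv F163957)) (tt N16124 F156065) (tt N15771 F156066) (tt N19385 (iv F163970)) (tt N15747 (iv D33567)) (tt N19118 (iv F162532)))
theorem Q17642 : ∀ i, i < 17642 → P i := stepQ 17641 Q17641 (allL N17641 (tt N16193 F156067) (tt N15834 F156068) (tt N17641 F156069) (tt N19384 (iv F163962)) (tt N16257 F156070) (tt N15758 F156071) (tt N15749 (iv D33568)) (tt N15772 F156072) (tt N19386 D35313) (tt N16274 F156073))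
theorem Q17643 : ∀ i, i < 17643 → P i := stepQ 17642 Q17642 (allL N17642 (tt N16194 F156074) (tt N15835 F156075) (tt N17642 F156076) (tt N19385 (iv F163968)) (tt N16258 F156077) (tt N16125 F156078) (tt N19386 (iv F163975)) (tt N15750 F156079) (tt N15749 (iv D33569)) (tt N19261 (iv F163269)))
theorem Q17644 : ∀ i, i < 17644 → P i := stepQ 17643 Q17643 (allL N17643 (tt N15752 F156080) (tt N16199 F156081) (tt N15844 F156082) (tt N17643 F156083) (tt N19086 (iv F162372)) (tt N19387 D35314) (tt N15751 (iv D33570)) (tt N19388 D35315) (tt N16126 F156084) (tt N16177 F156085))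
theorem Q17645 : ∀ i, i < 17645 → P i := stepQ 17644 Q17644 (allL N17644 (tt N19387 (iv F163978)) (tt N15753 F156086) (tt N15845 F156087) (tt N17644 F156088) (tt N19389 D35316) (tt N15752 (iv D33571)) (tt N15784 F156089) (tt N19390 D35317) (tt N19391 D35318) (tt N16870 F156090))
theorem Q17646 : ∀ i, i < 17646 → P i := stepQ 17645 Q17645 (allL N17645 (tt N19388 (iv F163985)) (tt N15754 F156091) (tt N15846 F156092) (tt N17645 F156093) (tt N19088 (iv F162383)) (tt N19390 (iv F163999)) (tt N19379 (iv F163935)) (tt N15752 (iv D33572)) (tt N16128 F156094) (tt N16993 F156095))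
theorem Q17647 : ∀ i, i < 17647 → P i := stepQ 17646 Q17646 (allL N17646 (tt N19335 (iv F163669)) (tt N19389 (iv F163992)) (tt N15755 F156096) (tt N19392 D35319) (tt N15753 (iv D33573)) (tt N19089 (iv F162389)) (tt N15786 F156097) (tt N19393 D35320) (tt N19394 D35321) (tt N19067 (iv F162258)))
theorem Q17648 : ∀ i, i < 17648 → P i := stepQ 17647 Q17647 (allL N17647 (tt N19336 (iv F163674)) (tt N19390 (iv F163996)) (tt N15756 F156098) (tt N17647 F156099) (tt N19393 (iv F164010)) (tt N15754 F156100) (tt N19395 D35322) (tt N15753 (iv D33574)) (tt N19396 D35323) (tt N19068 (iv F162264)))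
theorem Q17649 : ∀ i, i < 17649 → P i := stepQ 17648 Q17648 (allL N17648 (tt N19337 (iv F163679)) (tt N19391 (iv F164002)) (tt N15757 F156101) (tt N17648 F156102) (tt N19394 (iv F164012)) (tt N16131 F156103) (tt N15788 F156104) (tt N19396 (iv F164020)) (tt N15753 (iv D33575)) (tt N19397 D35324))
theorem Q17650 : ∀ i, i < 17650 → P i := stepQ 17649 Q17649 (allL N17649 (tt N19338 (iv F163686)) (tt N15850 F156105) (tt N19393 (iv F164009)) (tt N19033 (iv F162063)) (tt N15756 F156106) (tt N19092 (iv F162407)) (tt N19398 D35325) (tt N15755 (iv D33576)) (tt N19399 D35326) (tt N19070 (iv F162276)))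
theorem Q17651 : ∀ i, i < 17651 → P i := stepQ 17650 Q17650 (allL N17650 (tt N19339 (iv F163692)) (tt N15851 F156107) (tt N19394 (iv F164011)) (tt N19034 (iv F162069)) (tt N15757 F156108) (tt N19400 D35327) (tt N15790 F156109) (tt N19399 (iv F164031)) (tt N15755 (iv D33577)) (tt N19401 D35328))
theorem Q17652 : ∀ i, i < 17652 → P i := stepQ 17651 Q17651 (allL N17651 (tt N19340 (iv F163698)) (tt N15852 F156110) (tt N19395 (iv F164014)) (tt N15758 F156111) (tt N19398 (iv F164027)) (tt N19384 (iv F163963)) (tt N15756 (iv D33578)) (tt N15791 F156112) (tt N19402 D35329) (tt N19072 (iv F162287)))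
theorem Q17653 : ∀ i, i < 17653 → P i := stepQ 17652 Q17652 (allL N17652 (tt N19341 (iv F163704)) (tt N15853 F156113) (tt N19396 (iv F164017)) (tt N15759 F156114) (tt N19399 (iv F164030)) (tt N16135 F156115) (tt N19402 (iv F164040)) (tt N15757 F156116) (tt N15756 (iv D33579)) (tt N19403 D35330))
theorem Q17654 : ∀ i, i < 17654 → P i := stepQ 17653 Q17653 (allL N17653 (tt N16305 F156117) (tt N15854 F156118) (tt N19397 (iv F164022)) (tt N15760 F156119) (tt N19401 (iv F164036)) (tt N16136 F156120) (tt N15793 F156121) (tt N19403 (iv F164046)) (tt N19074 (iv F162298)) (tt N15757 (iv D33580)))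
theorem Q17655 : ∀ i, i < 17655 → P i := stepQ 17654 Q17654 (allL N17654 (tt N19342 (iv F163710)) (tt N15855 F156122) (tt N17654 F156123) (tt N19402 (iv F164039)) (tt N19038 (iv F162092)) (tt N19404 D35331) (tt N15759 F156124) (tt N15794 F156125) (tt N15758 (iv D33581)) (tt N19405 D35332))
theorem Q17656 : ∀ i, i < 17656 → P i := stepQ 17655 Q17655 (allL N17655 (tt N16364 F156126) (tt N15856 F156127) (tt N17655 F156128) (tt N19403 (iv F164044)) (tt N19039 (iv F162098)) (tt N16137 F156129) (tt N19405 (iv F164058)) (tt N15760 F156130) (tt N19076 (iv F162311)) (tt N15759 (iv D33582)))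
theorem Q17657 : ∀ i, i < 17657 → P i := stepQ 17656 Q17656 (allL N17656 (tt N15761 (iv D33583)) (tt N16140 F156131) (tt N15857 F156132) (tt N17656 F156133) (tt N16455 F156134) (tt N16110 F156135) (tt N19406 D35333) (tt N16176 F156136) (tt N17656 F156137) (tt N16138 F156138))
theorem Q17658 : ∀ i, i < 17658 → P i := stepQ 17657 Q17657 (allL N17657 (tt N19406 (iv F164060)) (tt N15762 F156139) (tt N15858 F156140) (tt N17657 F156141) (tt N16456 F156142) (tt N19407 D35334) (tt N15761 (iv D33584)) (tt N19408 D35335) (tt N17657 F156143) (tt N16187 F156144))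
theorem Q17659 : ∀ i, i < 17659 → P i := stepQ 17658 Q17658 (allL N17658 (tt N16269 F156145) (tt N19407 (iv F164067)) (tt N15763 F156146) (tt N17658 F156147) (tt N19409 D35336) (tt N15762 (iv D33585)) (tt N15906 F156148) (tt N19410 D35337) (tt N16963 (iv F156150)) (tt N16188 F156149))
theorem Q17660 : ∀ i, i < 17660 → P i := stepQ 17659 Q17659 (allL N17659 (tt N16270 F156151) (tt N19408 (iv F164073)) (tt N15764 F156152) (tt N17659 F156153) (tt N16458 F156154) (tt N19410 (iv F164089)) (tt N16499 F156155) (tt N15762 (iv D33586)) (tt N17659 F156156) (tt N16189 F156157))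
theorem Q17661 : ∀ i, i < 17661 → P i := stepQ 17660 Q17660 (allL N17660 (tt N16271 F156158) (tt N15861 F156159) (tt N19409 (iv F164081)) (tt N15769 F156160) (tt N15763 (iv D33587)) (tt N16459 F156161) (tt N16254 F156162) (tt N19411 D35338) (tt N19412 D35339) (tt N16190 F156163))
theorem Q17662 : ∀ i, i < 17662 → P i := stepQ 17661 Q17661 (allL N17661 (tt N16272 F156164) (tt N15862 F156165) (tt N19410 (iv F164087)) (tt N15765 F156166) (tt N19411 (iv F164095)) (tt N15764 F156167) (tt N19413 D35340) (tt N15763 (iv D33588)) (tt N19414 D35341) (tt N16191 F156168))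
theorem Q17663 : ∀ i, i < 17663 → P i := stepQ 17662 Q17662 (allL N17662 (tt N16273 F156169) (tt N15863 F156170) (tt N16963 F156171) (tt N15766 F156172) (tt N19412 (iv F164102)) (tt N17662 F156173) (tt N16256 F156174) (tt N19414 (iv F164115)) (tt N15763 (iv D33589)) (tt N19415 D35342))
theorem Q17664 : ∀ i, i < 17664 → P i := stepQ 17663 Q17663 (allL N17663 (tt N16274 F156175) (tt N15864 F156176) (tt N17663 F156177) (tt N19413 (iv F164106)) (tt N15772 F156178) (tt N16503 F156179) (tt N15765 (iv D33590)) (tt N16257 F156180) (tt N19416 D35343) (tt N16193 F156181))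
theorem Q17665 : ∀ i, i < 17665 → P i := stepQ 17664 Q17664 (allL N17664 (tt N16275 F156182) (tt N15865 F156183) (tt N17664 F156184) (tt N19414 (iv F164113)) (tt N15773 F156185) (tt N17664 F156186) (tt N19416 (iv F164127)) (tt N15766 F156187) (tt N15765 (iv D33591)) (tt N19417 D35344))
theorem Q17666 : ∀ i, i < 17666 → P i := stepQ 17665 Q17665 (allL N17665 (tt N16276 F156188) (tt N15866 F156189) (tt N17665 F156190) (tt N19415 (iv F164119)) (tt N15774 F156191) (tt N17665 F156192) (tt N16259 F156193) (tt N19417 (iv F164134)) (tt N16195 F156194) (tt N15766 (iv D33592)))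
theorem Q17667 : ∀ i, i < 17667 → P i := stepQ 17666 Q17666 (allL N17666 (tt N19345 (iv F163733)) (tt N19370 (iv F163878)) (tt N15769 F156195) (tt N19418 D35345) (tt N15767 (iv D33593)) (tt N16755 F156196) (tt N19380 (iv F163941)) (tt N19419 D35346) (tt N19366 (iv F163866)) (tt N16279 F156197))
theorem Q17668 : ∀ i, i < 17668 → P i := stepQ 17667 Q17667 (allL N17667 (tt N19346 (iv F163738)) (tt N19372 (iv F163887)) (tt N15770 F156198) (tt N17667 F156199) (tt N19419 (iv F164140)) (tt N15768 F156200) (tt N19420 D35347) (tt N15767 (iv D33594)) (tt N19367 (iv F163871)) (tt N16280 F156201))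
theorem Q17669 : ∀ i, i < 17669 → P i := stepQ 17668 Q17668 (allL N17668 (tt N19348 (iv F163750)) (tt N15869 F156202) (tt N19419 (iv F164139)) (tt N19411 (iv F164094)) (tt N15770 F156203) (tt N16757 F156204) (tt N19421 D35348) (tt N15769 (iv D33595)) (tt N19422 D35349) (tt N16281 F156205))
theorem Q17670 : ∀ i, i < 17670 → P i := stepQ 17669 Q17669 (allL N17669 (tt N19349 (iv F163756)) (tt N15870 F156206) (tt N19366 (iv F163865)) (tt N19412 (iv F164101)) (tt N15771 F156207) (tt N19423 D35350) (tt N19383 (iv F163959)) (tt N19422 (iv F164152)) (tt N15769 (iv D33596)) (tt N19424 D35351))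
theorem Q17671 : ∀ i, i < 17671 → P i := stepQ 17670 Q17670 (allL N17670 (tt N19350 (iv F163761)) (tt N15871 F156208) (tt N19420 (iv F164143)) (tt N15772 F156209) (tt N19421 (iv F164148)) (tt N15791 F156210) (tt N15770 (iv D33597)) (tt N19384 (iv F163964)) (tt N19425 D35352) (tt N16283 F156211))
theorem Q17672 : ∀ i, i < 17672 → P i := stepQ 17671 Q17671 (allL N17671 (tt N19351 (iv F163767)) (tt N15872 F156212) (tt N19367 (iv F163868)) (tt N15773 F156213) (tt N19422 (iv F164151)) (tt N15799 F156214) (tt N19425 (iv F164161)) (tt N15771 F156215) (tt N15770 (iv D33598)) (tt N19426 D35353))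
theorem Q17673 : ∀ i, i < 17673 → P i := stepQ 17672 Q17672 (allL N17672 (tt N19352 (iv F163772)) (tt N15873 F156216) (tt N19355 (iv F163795)) (tt N15774 F156217) (tt N19424 (iv F164157)) (tt N15800 F156218) (tt N19118 (iv F162531)) (tt N19426 (iv F164165)) (tt N16285 F156219) (tt N15771 (iv D33599)))
theorem Q17674 : ∀ i, i < 17674 → P i := stepQ 17673 Q17673 (allL N17673 (tt N19353 (iv F163779)) (tt N15874 F156220) (tt N17673 F156221) (tt N19425 (iv F164160)) (tt N19416 (iv F164126)) (tt N19427 D35354) (tt N15773 F156222) (tt N19386 (iv F163976)) (tt N15772 (iv D33600)) (tt N19428 D35355))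
theorem Q17675 : ∀ i, i < 17675 → P i := stepQ 17674 Q17674 (allL N17674 (tt N19354 (iv F163786)) (tt N15875 F156223) (tt N17674 F156224) (tt N19426 (iv F164163)) (tt N19417 (iv F164132)) (tt N15802 F156225) (tt N19428 (iv F164175)) (tt N15774 F156226) (tt N16287 F156227) (tt N15773 (iv D33601)))
theorem Q17676 : ∀ i, i < 17676 → P i := stepQ 17675 Q17675 (allL N17675 (tt N19357 (iv F163808)) (tt N16855 F156228) (tt N15777 F156229) (tt N19429 D35356) (tt N15775 (iv D33602)) (tt N16745 F156230) (tt N19067 (iv F162257)) (tt N19430 D35357) (tt N19431 D35358) (tt N15786 F156231))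
theorem Q17677 : ∀ i, i < 17677 → P i := stepQ 17676 Q17676 (allL N17676 (tt N19358 (iv F163813)) (tt N16869 F156232) (tt N15778 F156233) (tt N17676 F156234) (tt N19430 (iv F164183)) (tt N15776 F156235) (tt N19432 D35359) (tt N15775 (iv D33603)) (tt N19433 D35360) (tt N15787 F156236))
theorem Q17678 : ∀ i, i < 17678 → P i := stepQ 17677 Q17677 (allL N17677 (tt N19359 (iv F163818)) (tt N16338 F156237) (tt N15779 F156238) (tt N17677 F156239) (tt N19431 (iv F164188)) (tt N16065 F156240) (tt N19069 (iv F162270)) (tt N19433 (iv F164199)) (tt N15775 (iv D33604)) (tt N19434 D35361))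
theorem Q17679 : ∀ i, i < 17679 → P i := stepQ 17678 Q17678 (allL N17678 (tt N19360 (iv F163825)) (tt N15879 F156241) (tt N19430 (iv F164182)) (tt N18929 (iv F161434)) (tt N15778 F156242) (tt N16747 F156243) (tt N19435 D35362) (tt N15777 (iv D33605)) (tt N19436 D35363) (tt N15789 F156244))
theorem Q17680 : ∀ i, i < 17680 → P i := stepQ 17679 Q17679 (allL N17679 (tt N19361 (iv F163831)) (tt N15880 F156245) (tt N19431 (iv F164187)) (tt N18930 (iv F161440)) (tt N15779 F156246) (tt N19437 D35364) (tt N19071 (iv F162281)) (tt N19436 (iv F164211)) (tt N15777 (iv D33606)) (tt N19438 D35365))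
theorem Q17681 : ∀ i, i < 17681 → P i := stepQ 17680 Q17680 (allL N17680 (tt N19362 (iv F163837)) (tt N15881 F156247) (tt N19432 (iv F164191)) (tt N15780 F156248) (tt N19435 (iv F164207)) (tt N16283 F156249) (tt N15778 (iv D33607)) (tt N19072 (iv F162286)) (tt N19439 D35366) (tt N15791 F156250))
theorem Q17682 : ∀ i, i < 17682 → P i := stepQ 17681 Q17681 (allL N17681 (tt N19363 (iv F163843)) (tt N15882 F156251) (tt N19433 (iv F164196)) (tt N15781 F156252) (tt N19436 (iv F164210)) (tt N16069 F156253) (tt N19439 (iv F164222)) (tt N15779 F156254) (tt N15778 (iv D33608)) (tt N19440 D35367))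
theorem Q17683 : ∀ i, i < 17683 → P i := stepQ 17682 Q17682 (allL N17682 (tt N16319 F156255) (tt N15883 F156256) (tt N19434 (iv F164202)) (tt N15782 F156257) (tt N19438 (iv F164218)) (tt N16070 F156258) (tt N19074 (iv F162297)) (tt N19440 (iv F164227)) (tt N15793 F156259) (tt N15779 (iv D33609)))
theorem Q17684 : ∀ i, i < 17684 → P i := stepQ 17683 Q17683 (allL N17683 (tt N19364 (iv F163849)) (tt N15884 F156260) (tt N17683 F156261) (tt N19439 (iv F164221)) (tt N18934 (iv F161463)) (tt N19441 D35368) (tt N15781 F156262) (tt N19075 (iv F162304)) (tt N15780 (iv D33610)) (tt N19442 D35369))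
theorem Q17685 : ∀ i, i < 17685 → P i := stepQ 17684 Q17684 (allL N17684 (tt N16377 F156263) (tt N15885 F156264) (tt N17684 F156265) (tt N19440 (iv F164225)) (tt N18935 (iv F161469)) (tt N15927 F156266) (tt N19442 (iv F164236)) (tt N15782 F156267) (tt N15795 F156268) (tt N15781 (iv D33611)))
theorem Q17686 : ∀ i, i < 17686 → P i := stepQ 17685 Q17685 (allL N17685 (tt N15784 F156269) (tt N19347 (iv F163744)) (tt N15886 F156270) (tt N17685 F156271) (tt N19443 D35370) (tt N15783 (iv D33612)) (tt N19387 (iv F163982)) (tt N19444 D35371) (tt N19343 (iv F163723)) (tt N15919 F156272))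
theorem Q17687 : ∀ i, i < 17687 → P i := stepQ 17686 Q17686 (allL N17686 (tt N15785 F156273) (tt N19365 (iv F163857)) (tt N15813 F156274) (tt N17686 F156275) (tt N15921 F156276) (tt N19444 (iv F164245)) (tt N15809 F156277) (tt N15783 (iv D33613)) (tt N15803 F156278) (tt N15918 F156279))
theorem Q17688 : ∀ i, i < 17688 → P i := stepQ 17687 Q17687 (allL N17687 (tt N19443 (iv F164238)) (tt N15786 F156280) (tt N15887 F156281) (tt N19445 D35372) (tt N15784 (iv D33614)) (tt N16856 F156282) (tt N19389 (iv F163994)) (tt N19446 D35373) (tt N19447 D35374) (tt N16855 F156283))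
theorem Q17689 : ∀ i, i < 17689 → P i := stepQ 17688 Q17688 (allL N17688 (tt N19444 (iv F164242)) (tt N15787 F156284) (tt N15888 F156285) (tt N17688 F156286) (tt N19446 (iv F164253)) (tt N15785 F156287) (tt N19448 D35375) (tt N15784 (iv D33615)) (tt N19449 D35376) (tt N16869 F156288))
theorem Q17690 : ∀ i, i < 17690 → P i := stepQ 17689 Q17689 (allL N17689 (tt N19343 (iv F163718)) (tt N15788 F156289) (tt N15889 F156290) (tt N17689 F156291) (tt N19447 (iv F164258)) (tt N15806 F156292) (tt N19391 (iv F164006)) (tt N19449 (iv F164267)) (tt N15784 (iv D33616)) (tt N19377 (iv F163921)))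
theorem Q17691 : ∀ i, i < 17691 → P i := stepQ 17690 Q17690 (allL N17690 (tt N19368 (iv F163872)) (tt N19445 (iv F164247)) (tt N19040 (iv F162103)) (tt N15786 (iv D33617)) (tt N17690 F156293) (tt N18901 (iv F161269)) (tt N19392 (iv F164008)) (tt N19450 D35377) (tt N19451 D35378) (tt N19429 (iv F164180)))
theorem Q17692 : ∀ i, i < 17692 → P i := stepQ 17691 Q17691 (allL N17691 (tt N19369 (iv F163874)) (tt N19446 (iv F164251)) (tt N15789 F156294) (tt N19450 (iv F164268)) (tt N15787 F156295) (tt N18902 (iv F161276)) (tt N19452 D35379) (tt N15786 (iv D33618)) (tt N19453 D35380) (tt N19430 (iv F164185)))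
theorem Q17693 : ∀ i, i < 17693 → P i := stepQ 17692 Q17692 (allL N17692 (tt N19370 (iv F163877)) (tt N19447 (iv F164256)) (tt N15790 F156296) (tt N19451 (iv F164270)) (tt N15788 F156297) (tt N19454 D35381) (tt N19394 (iv F164013)) (tt N19453 (iv F164278)) (tt N15786 (iv D33619)) (tt N19455 D35382))
theorem Q17694 : ∀ i, i < 17694 → P i := stepQ 17693 Q17693 (allL N17693 (tt N19371 (iv F163883)) (tt N19448 (iv F164259)) (tt N15791 F156298) (tt N17693 F156299) (tt N19452 (iv F164275)) (tt N19420 (iv F164145)) (tt N15787 (iv D33620)) (tt N19395 (iv F164016)) (tt N19456 D35383) (tt N19432 (iv F164194)))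
theorem Q17695 : ∀ i, i < 17695 → P i := stepQ 17694 Q17694 (allL N17694 (tt N19372 (iv F163886)) (tt N19449 (iv F164263)) (tt N15792 F156300) (tt N17694 F156301) (tt N19453 (iv F164277)) (tt N15809 F156302) (tt N19456 (iv F164292)) (tt N15788 F156303) (tt N15787 (iv D33621)) (tt N19457 D35384))
theorem Q17696 : ∀ i, i < 17696 → P i := stepQ 17695 Q17695 (allL N17695 (tt N16277 F156304) (tt N19377 (iv F163917)) (tt N15793 F156305) (tt N17695 F156306) (tt N19455 (iv F164288)) (tt N15810 F156307) (tt N19397 (iv F164025)) (tt N19457 (iv F164297)) (tt N19434 (iv F164205)) (tt N15788 (iv D33622)))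
theorem Q17697 : ∀ i, i < 17697 → P i := stepQ 17696 Q17696 (allL N17696 (tt N19373 (iv F163893)) (tt N15896 F156308) (tt N19452 (iv F164274)) (tt N19046 (iv F162131)) (tt N15791 F156309) (tt N19458 D35385) (tt N15789 (iv D33623)) (tt N19398 (iv F164028)) (tt N19459 D35386) (tt N19435 (iv F164208)))
theorem Q17698 : ∀ i, i < 17698 → P i := stepQ 17697 Q17697 (allL N17697 (tt N19374 (iv F163896)) (tt N15897 F156310) (tt N19453 (iv F164276)) (tt N19047 (iv F162134)) (tt N15792 F156311) (tt N19460 D35387) (tt N19459 (iv F164301)) (tt N15790 F156312) (tt N15789 (iv D33624)) (tt N19461 D35388))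
theorem Q17699 : ∀ i, i < 17699 → P i := stepQ 17698 Q17698 (allL N17698 (tt N16832 F156313) (tt N15898 F156314) (tt N19454 (iv F164280)) (tt N19048 (iv F162140)) (tt N15812 F156315) (tt N15790 (iv D33625)) (tt N19462 D35389) (tt N19460 (iv F164305)) (tt N18908 (iv F161309)) (tt N16180 (iv F156316)))
theorem Q17700 : ∀ i, i < 17700 → P i := stepQ 17699 Q17699 (allL N17699 (tt N16317 F156317) (tt N15899 F156318) (tt N19455 (iv F164286)) (tt N19049 (iv F162146)) (tt N15793 F156319) (tt N16180 F156320) (tt N19401 (iv F164037)) (tt N19461 (iv F164311)) (tt N19438 (iv F164219)) (tt N15790 (iv D33626)))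
theorem Q17701 : ∀ i, i < 17701 → P i := stepQ 17700 Q17700 (allL N17700 (tt N19375 (iv F163902)) (tt N15900 F156321) (tt N19456 (iv F164290)) (tt N15794 F156322) (tt N19459 (iv F164300)) (tt N19463 D35390) (tt N15792 F156323) (tt N19402 (iv F164041)) (tt N15791 (iv D33627)) (tt N19464 D35391))
theorem Q17702 : ∀ i, i < 17702 → P i := stepQ 17701 Q17701 (allL N17701 (tt N16318 F156324) (tt N15901 F156325) (tt N19457 (iv F164294)) (tt N15795 F156326) (tt N19461 (iv F164309)) (tt N15814 F156327) (tt N19464 (iv F164326)) (tt N15793 F156328) (tt N19440 (iv F164228)) (tt N15792 (iv D33628)))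
theorem Q17703 : ∀ i, i < 17703 → P i := stepQ 17702 Q17702 (allL N17702 (tt N16002 F156329) (tt N15902 F156330) (tt N17702 F156331) (tt N19463 (iv F164319)) (tt N19219 (iv F163021)) (tt N15794 (iv D33629)) (tt N15815 F156332) (tt N19404 (iv F164051)) (tt N19427 (iv F164172)) (tt N15928 (iv F156333)))
theorem Q17704 : ∀ i, i < 17704 → P i := stepQ 17703 Q17703 (allL N17703 (tt N16376 F156334) (tt N15903 F156335) (tt N17703 F156336) (tt N19464 (iv F164324)) (tt N19053 (iv F162164)) (tt N15928 F156337) (tt N15795 F156338) (tt N19405 (iv F164059)) (tt N19442 (iv F164237)) (tt N15794 (iv D33630)))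
theorem Q17705 : ∀ i, i < 17705 → P i := stepQ 17704 Q17704 (allL N17704 (tt N15913 F156339) (tt N15904 F156340) (tt N16074 F156341) (tt N17704 F156342) (tt N15798 F156343) (tt N16089 (iv F156346)) (tt N15796 (iv D33631)) (tt N15911 F156344) (tt N19356 (iv F163806)) (tt N16055 F156345))
theorem Q17706 : ∀ i, i < 17706 → P i := stepQ 17705 Q17705 (allL N17705 (tt N19376 (iv F163908)) (tt N15905 F156347) (tt N18885 (iv F161165)) (tt N17705 F156348) (tt N15799 F156349) (tt N19465 D35392) (tt N19356 (iv F163805)) (tt N15797 F156350) (tt N15796 (iv D33632)) (tt N19344 (iv F163732)))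
theorem Q17707 : ∀ i, i < 17707 → P i := stepQ 17706 Q17706 (allL N17706 (tt N19377 (iv F163916)) (tt N15906 F156351) (tt N18884 (iv F161158)) (tt N17706 F156352) (tt N19423 (iv F164154)) (tt N15797 (iv D33633)) (tt N19407 (iv F164070)) (tt N19465 (iv F164329)) (tt N16953 F156353) (tt N19343 (iv F163724)))
theorem Q17708 : ∀ i, i < 17708 → P i := stepQ 17707 Q17707 (allL N17707 (tt N15915 F156354) (tt N15907 F156355) (tt N19344 (iv F163727)) (tt N15801 F156356) (tt N19356 (iv F163804)) (tt N19466 D35393) (tt N15799 F156357) (tt N15912 F156358) (tt N15798 (iv D33634)) (tt N18885 (iv F161170)))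
theorem Q17709 : ∀ i, i < 17709 → P i := stepQ 17708 Q17708 (allL N17708 (tt N19378 (iv F163922)) (tt N15908 F156359) (tt N19356 (iv F163802)) (tt N15802 F156360) (tt N19344 (iv F163729)) (tt N19426 (iv F164164)) (tt N18885 (iv F161168)) (tt N15800 F156361) (tt N16074 F156362) (tt N15799 (iv D33635)))
theorem Q17710 : ∀ i, i < 17710 → P i := stepQ 17709 Q17709 (allL N17709 (tt N16003 F156363) (tt N15909 F156364) (tt N17709 F156365) (tt N19466 (iv F164333)) (tt N19220 (iv F163026)) (tt N15801 (iv D33636)) (tt N19427 (iv F164170)) (tt N15931 F156366) (tt N15815 F156367) (tt N18988 (iv F161764)))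
theorem Q17711 : ∀ i, i < 17711 → P i := stepQ 17710 Q17710 (allL N17710 (tt N16074 F156368) (tt N15807 F156369) (tt N15913 F156370) (tt N16063 F156371) (tt N15805 F156372) (tt N16407 F156373) (tt N16091 F156374) (tt N15804 (iv D33637)) (tt N19378 (iv F163929)) (tt N16062 F156375))
theorem Q17712 : ∀ i, i < 17712 → P i := stepQ 17711 Q17711 (allL N17711 (tt N19344 (iv F163725)) (tt N15809 F156376) (tt N15915 F156377) (tt N17711 F156378) (tt N19378 (iv F163926)) (tt N19449 (iv F164266)) (tt N19365 (iv F163861)) (tt N15806 F156379) (tt N15805 (iv D33638)) (tt N19376 (iv F163915)))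
theorem Q17713 : ∀ i, i < 17713 → P i := stepQ 17712 Q17712 (allL N17712 (tt N16754 F156380) (tt N19378 (iv F163923)) (tt N15811 F156381) (tt N16022 F156382) (tt N15809 F156383) (tt N19467 D35394) (tt N15921 F156384) (tt N15808 F156385) (tt N15807 (iv D33639)) (tt N15920 F156386))
theorem Q17714 : ∀ i, i < 17714 → P i := stepQ 17713 Q17713 (allL N17713 (tt N16751 F156387) (tt N19352 (iv F163773)) (tt N15812 F156388) (tt N16186 F156389) (tt N19454 (iv F164282)) (tt N15808 (iv D33640)) (tt N16223 F156390) (tt N19467 (iv F164339)) (tt N18893 (iv F161217)) (tt N16178 F156391))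
theorem Q17715 : ∀ i, i < 17715 → P i := stepQ 17714 Q17714 (allL N17714 (tt N16278 F156392) (tt N19376 (iv F163909)) (tt N15814 F156393) (tt N17714 F156394) (tt N15920 F156395) (tt N19457 (iv F164296)) (tt N15918 F156396) (tt N15810 F156397) (tt N15917 F156398) (tt N15809 (iv D33641)))
theorem Q17716 : ∀ i, i < 17716 → P i := stepQ 17715 Q17715 (allL N17715 (tt N16833 F156399) (tt N15923 F156400) (tt N19467 (iv F164337)) (tt N15816 F156401) (tt N19460 (iv F164304)) (tt N15811 (iv D33642)) (tt N19468 D35395) (tt N15812 F156402) (tt N18917 (iv F161363)) (tt N15925 F156403))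
theorem Q17717 : ∀ i, i < 17717 → P i := stepQ 17716 Q17716 (allL N17716 (tt N16791 F156404) (tt N15924 F156405) (tt N16223 F156406) (tt N15817 F156407) (tt N19462 (iv F164315)) (tt N16145 F156408) (tt N15812 (iv D33643)) (tt N19469 D35396) (tt N18918 (iv F161369)) (tt N16172 F156409))
theorem Q17718 : ∀ i, i < 17718 → P i := stepQ 17717 Q17717 (allL N17717 (tt N15888 F156410) (tt N15925 F156411) (tt N19444 (iv F164243)) (tt N15815 F156412) (tt N19470 D35397) (tt N15813 (iv D33644)) (tt N19463 (iv F164320)) (tt N15886 F156413) (tt N19466 (iv F164335)) (tt N15923 F156414))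
theorem Q17719 : ∀ i, i < 17719 → P i := stepQ 17718 Q17718 (allL N17718 (tt N16866 F156415) (tt N15928 F156416) (tt N16018 F156417) (tt N19468 (iv F164343)) (tt N19064 (iv F162236)) (tt N15903 F156418) (tt N15816 (iv D33645)) (tt N19471 D35398) (tt N18923 (iv F161399)) (tt N15902 F156419))
theorem Q17720 : ∀ i, i < 17720 → P i := stepQ 17719 Q17719 (allL N17719 (tt N16877 F156420) (tt N15929 F156421) (tt N16185 F156422) (tt N19469 (iv F164349)) (tt N19065 (iv F162242)) (tt N16146 F156423) (tt N19471 (iv F164361)) (tt N15817 (iv D33646)) (tt N18925 (iv F161412)) (tt N16169 F156424))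
theorem Q17721 : ∀ i, i < 17721 → P i := stepQ 17720 Q17720 (allL N17720 (tt N15819 F156425) (tt N16170 F156426) (tt N19086 (iv F162370)) (tt N17720 F156427) (tt N15844 F156428) (tt N19472 D35399) (tt N15818 (iv D33647)) (tt N19473 D35400) (tt N16141 F156429) (tt N16171 F156430))
theorem Q17722 : ∀ i, i < 17722 → P i := stepQ 17721 Q17721 (allL N17721 (tt N19472 (iv F164363)) (tt N15820 F156431) (tt N19087 (iv F162376)) (tt N17721 F156432) (tt N19474 D35401) (tt N15819 (iv D33648)) (tt N16991 F156433) (tt N19475 D35402) (tt N19476 D35403) (tt N16990 F156434))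
theorem Q17723 : ∀ i, i < 17723 → P i := stepQ 17722 Q17722 (allL N17722 (tt N19473 (iv F164369)) (tt N15821 F156435) (tt N19088 (iv F162381)) (tt N17722 F156436) (tt N15846 F156437) (tt N19475 (iv F164382)) (tt N19020 (iv F161979)) (tt N15819 (iv D33649)) (tt N16148 F156438) (tt N16992 F156439))
theorem Q17724 : ∀ i, i < 17724 → P i := stepQ 17723 Q17723 (allL N17723 (tt N16778 F156440) (tt N19474 (iv F164376)) (tt N15822 F156441) (tt N19477 D35404) (tt N15820 (iv D33650)) (tt N15847 F156442) (tt N18926 (iv F161418)) (tt N19478 D35405) (tt N19479 D35406) (tt N19030 (iv F162048)))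
theorem Q17725 : ∀ i, i < 17725 → P i := stepQ 17724 Q17724 (allL N17724 (tt N16779 F156443) (tt N19475 (iv F164380)) (tt N15823 F156444) (tt N17724 F156445) (tt N19478 (iv F164394)) (tt N15821 F156446) (tt N19480 D35407) (tt N15820 (iv D33651)) (tt N19481 D35408) (tt N19031 (iv F162054)))
theorem Q17726 : ∀ i, i < 17726 → P i := stepQ 17725 Q17725 (allL N17725 (tt N16780 F156447) (tt N19476 (iv F164385)) (tt N15824 F156448) (tt N17725 F156449) (tt N19479 (iv F164398)) (tt N16150 F156450) (tt N18928 (iv F161431)) (tt N19481 (iv F164406)) (tt N15820 (iv D33652)) (tt N19482 D35409))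
theorem Q17727 : ∀ i, i < 17727 → P i := stepQ 17726 Q17726 (allL N17726 (tt N16781 F156451) (tt N19092 (iv F162404)) (tt N19478 (iv F164393)) (tt N19070 (iv F162273)) (tt N15823 F156452) (tt N15850 F156453) (tt N19483 D35410) (tt N15822 (iv D33653)) (tt N19484 D35411) (tt N19033 (iv F162066)))
theorem Q17728 : ∀ i, i < 17728 → P i := stepQ 17727 Q17727 (allL N17727 (tt N16782 F156454) (tt N19093 (iv F162410)) (tt N19479 (iv F164397)) (tt N19071 (iv F162279)) (tt N15824 F156455) (tt N19485 D35412) (tt N18930 (iv F161442)) (tt N19484 (iv F164415)) (tt N15822 (iv D33654)) (tt N19486 D35413))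
theorem Q17729 : ∀ i, i < 17729 → P i := stepQ 17728 Q17728 (allL N17728 (tt N16783 F156456) (tt N19094 (iv F162415)) (tt N19480 (iv F164400)) (tt N15825 F156457) (tt N19483 (iv F164412)) (tt N19025 (iv F162011)) (tt N15823 (iv D33655)) (tt N18931 (iv F161447)) (tt N19487 D35414) (tt N19035 (iv F162077)))
theorem Q17730 : ∀ i, i < 17730 → P i := stepQ 17729 Q17729 (allL N17729 (tt N16784 F156458) (tt N19095 (iv F162421)) (tt N19481 (iv F164403)) (tt N15826 F156459) (tt N19484 (iv F164414)) (tt N16154 F156460) (tt N19487 (iv F164423)) (tt N15824 F156461) (tt N15823 (iv D33656)) (tt N19488 D35415))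
theorem Q17731 : ∀ i, i < 17731 → P i := stepQ 17730 Q17730 (allL N17730 (tt N16785 F156462) (tt N19096 (iv F162426)) (tt N19482 (iv F164408)) (tt N15827 F156463) (tt N19486 (iv F164420)) (tt N16155 F156464) (tt N18933 (iv F161458)) (tt N19488 (iv F164427)) (tt N19037 (iv F162088)) (tt N15824 (iv D33657)))
theorem Q17732 : ∀ i, i < 17732 → P i := stepQ 17731 Q17731 (allL N17731 (tt N16786 F156465) (tt N19097 (iv F162433)) (tt N17731 F156466) (tt N19487 (iv F164422)) (tt N19075 (iv F162302)) (tt N19489 D35416) (tt N15826 F156467) (tt N18934 (iv F161465)) (tt N15825 (iv D33658)) (tt N19490 D35417))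
theorem Q17733 : ∀ i, i < 17733 → P i := stepQ 17732 Q17732 (allL N17732 (tt N16787 F156468) (tt N19098 (iv F162439)) (tt N17732 F156469) (tt N19488 (iv F164425)) (tt N19076 (iv F162308)) (tt N16157 F156470) (tt N19490 (iv F164433)) (tt N15827 F156471) (tt N19039 (iv F162101)) (tt N15826 (iv D33659)))
theorem Q17734 : ∀ i, i < 17734 → P i := stepQ 17733 Q17733 (allL N17733 (tt N16135 F156472) (tt N15830 F156473) (tt N19379 (iv F163932)) (tt N15937 F156474) (tt N19020 (iv F161978)) (tt N19341 (iv F163707)) (tt N15846 F156475) (tt N15828 (iv D33660)) (tt N16108 F156476) (tt N16306 F156477))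
theorem Q17735 : ∀ i, i < 17735 → P i := stepQ 17734 Q17734 (allL N17734 (tt N16741 F156478) (tt N19339 (iv F163693)) (tt N15831 F156479) (tt N19131 (iv F162611)) (tt N15829 (iv D33661)) (tt N19021 (iv F161984)) (tt N15867 F156480) (tt N19491 D35418) (tt N16212 F156481) (tt N16307 F156482))
theorem Q17736 : ∀ i, i < 17736 → P i := stepQ 17735 Q17735 (allL N17735 (tt N16743 F156483) (tt N19341 (iv F163705)) (tt N15832 F156484) (tt N15938 F156485) (tt N19491 (iv F164436)) (tt N15830 F156486) (tt N19492 D35419) (tt N15829 (iv D33662)) (tt N16213 F156487) (tt N16308 F156488))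
theorem Q17737 : ∀ i, i < 17737 → P i := stepQ 17736 Q17736 (allL N17736 (tt N16788 F156489) (tt N19382 (iv F163949)) (tt N19491 (iv F164435)) (tt N18889 (iv F161190)) (tt N15832 F156490) (tt N19023 (iv F161998)) (tt N19493 D35420) (tt N15831 (iv D33663)) (tt N19494 D35421) (tt N16310 F156491))
theorem Q17738 : ∀ i, i < 17738 → P i := stepQ 17737 Q17737 (allL N17737 (tt N16738 F156492) (tt N19383 (iv F163955)) (tt N16212 F156493) (tt N18890 (iv F161196)) (tt N15833 F156494) (tt N16527 (iv F156496)) (tt N15870 F156495) (tt N19494 (iv F164453)) (tt N15831 (iv D33664)) (tt N19120 (iv F162547)))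
theorem Q17739 : ∀ i, i < 17739 → P i := stepQ 17738 Q17738 (allL N17738 (tt N16789 F156497) (tt N19384 (iv F163961)) (tt N19492 (iv F164440)) (tt N15834 F156498) (tt N19493 (iv F164447)) (tt N15852 F156499) (tt N15832 (iv D33665)) (tt N15871 F156500) (tt N19495 D35422) (tt N16312 F156501))
theorem Q17740 : ∀ i, i < 17740 → P i := stepQ 17739 Q17739 (allL N17739 (tt N16739 F156502) (tt N19385 (iv F163967)) (tt N16213 F156503) (tt N15835 F156504) (tt N19494 (iv F164452)) (tt N16158 F156505) (tt N19495 (iv F164458)) (tt N15833 F156506) (tt N15832 (iv D33666)) (tt N19121 (iv F162553)))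
theorem Q17741 : ∀ i, i < 17741 → P i := stepQ 17740 Q17740 (allL N17740 (tt N16790 F156507) (tt N19386 (iv F163972)) (tt N15940 F156508) (tt N19495 (iv F164457)) (tt N18894 (iv F161221)) (tt N16240 (iv F156511)) (tt N15835 F156509) (tt N15874 F156510) (tt N15834 (iv D33667)) (tt N19262 (iv F163275)))
theorem Q17742 : ∀ i, i < 17742 → P i := stepQ 17741 Q17741 (allL N17741 (tt N16793 F156512) (tt N16863 F156513) (tt N15838 F156514) (tt N19496 D35423) (tt N15836 (iv D33668)) (tt N19030 (iv F162046)) (tt N15876 F156515) (tt N19497 D35424) (tt N19498 D35425) (tt N15847 F156516))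
theorem Q17743 : ∀ i, i < 17743 → P i := stepQ 17742 Q17742 (allL N17742 (tt N16794 F156517) (tt N16872 F156518) (tt N15839 F156519) (tt N15942 F156520) (tt N19497 (iv F164469)) (tt N15837 F156521) (tt N19499 D35426) (tt N15836 (iv D33669)) (tt N19500 D35427) (tt N15848 F156522))
theorem Q17744 : ∀ i, i < 17744 → P i := stepQ 17743 Q17743 (allL N17743 (tt N16795 F156523) (tt N16345 F156524) (tt N15840 F156525) (tt N15943 F156526) (tt N19498 (iv F164474)) (tt N17743 F156527) (tt N15878 F156528) (tt N19500 (iv F164488)) (tt N15836 (iv D33670)) (tt N19501 D35428))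
theorem Q17745 : ∀ i, i < 17745 → P i := stepQ 17744 Q17744 (allL N17744 (tt N16796 F156529) (tt N19070 (iv F162272)) (tt N19497 (iv F164468)) (tt N19092 (iv F162405)) (tt N15839 F156530) (tt N19033 (iv F162065)) (tt N19502 D35429) (tt N15838 (iv D33671)) (tt N19503 D35430) (tt N15850 F156531))
theorem Q17746 : ∀ i, i < 17746 → P i := stepQ 17745 Q17745 (allL N17745 (tt N16797 F156532) (tt N19071 (iv F162278)) (tt N19498 (iv F164473)) (tt N19093 (iv F162411)) (tt N15840 F156533) (tt N19504 D35431) (tt N15880 F156534) (tt N19503 (iv F164502)) (tt N15838 (iv D33672)) (tt N19505 D35432))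
theorem Q17747 : ∀ i, i < 17747 → P i := stepQ 17746 Q17746 (allL N17746 (tt N16798 F156535) (tt N19072 (iv F162283)) (tt N19499 (iv F164478)) (tt N15841 F156536) (tt N19502 (iv F164497)) (tt N16312 F156537) (tt N15839 (iv D33673)) (tt N15881 F156538) (tt N19506 D35433) (tt N15852 F156539))
theorem Q17748 : ∀ i, i < 17748 → P i := stepQ 17747 Q17747 (allL N17747 (tt N16799 F156540) (tt N19073 (iv F162289)) (tt N19500 (iv F164485)) (tt N15842 F156541) (tt N19503 (iv F164501)) (tt N17747 F156542) (tt N19506 (iv F164511)) (tt N15840 F156543) (tt N15839 (iv D33674)) (tt N19507 D35434))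
theorem Q17749 : ∀ i, i < 17749 → P i := stepQ 17748 Q17748 (allL N17748 (tt N16800 F156544) (tt N19074 (iv F162294)) (tt N19501 (iv F164491)) (tt N15843 F156545) (tt N19505 (iv F164506)) (tt N17748 F156546) (tt N15883 F156547) (tt N19507 (iv F164516)) (tt N15854 F156548) (tt N15840 (iv D33675)))
theorem Q17750 : ∀ i, i < 17750 → P i := stepQ 17749 Q17749 (allL N17749 (tt N16801 F156549) (tt N19075 (iv F162300)) (tt N15949 F156550) (tt N19506 (iv F164510)) (tt N19097 (iv F162435)) (tt N19508 D35435) (tt N15842 F156551) (tt N15884 F156552) (tt N15841 (iv D33676)) (tt N19509 D35436))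
theorem Q17751 : ∀ i, i < 17751 → P i := stepQ 17750 Q17750 (allL N17750 (tt N16802 F156553) (tt N19076 (iv F162306)) (tt N15950 F156554) (tt N19507 (iv F164514)) (tt N19098 (iv F162441)) (tt N17750 F156555) (tt N19509 (iv F164525)) (tt N15843 F156556) (tt N15856 F156557) (tt N15842 (iv D33677)))
theorem Q17752 : ∀ i, i < 17752 → P i := stepQ 17751 Q17751 (allL N17751 (tt N15845 F156558) (tt N16172 F156559) (tt N19387 (iv F163980)) (tt N15930 F156560) (tt N19510 D35437) (tt N15844 (iv D33678)) (tt N15886 F156561) (tt N19511 D35438) (tt N16215 F156562) (tt N15924 F156563))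
theorem Q17753 : ∀ i, i < 17753 → P i := stepQ 17752 Q17752 (allL N17752 (tt N15846 F156564) (tt N16167 F156565) (tt N19388 (iv F163987)) (tt N15951 F156566) (tt N19473 (iv F164372)) (tt N19511 (iv F164536)) (tt N16135 F156567) (tt N15844 (iv D33679)) (tt N16134 F156568) (tt N16179 F156569))
theorem Q17754 : ∀ i, i < 17754 → P i := stepQ 17753 Q17753 (allL N17753 (tt N19510 (iv F164528)) (tt N15847 F156570) (tt N19389 (iv F163993)) (tt N19512 D35439) (tt N15845 (iv D33680)) (tt N19474 (iv F164377)) (tt N15887 F156571) (tt N19513 D35440) (tt N19514 D35441) (tt N16863 F156572))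
theorem Q17755 : ∀ i, i < 17755 → P i := stepQ 17754 Q17754 (allL N17754 (tt N19511 (iv F164533)) (tt N15848 F156573) (tt N19390 (iv F163997)) (tt N15953 F156574) (tt N19513 (iv F164544)) (tt N15846 F156575) (tt N19515 D35442) (tt N15845 (iv D33681)) (tt N19516 D35443) (tt N16872 F156576))
theorem Q17756 : ∀ i, i < 17756 → P i := stepQ 17755 Q17755 (allL N17755 (tt N16215 F156577) (tt N15849 F156578) (tt N19391 (iv F164003)) (tt N15954 F156579) (tt N19514 (iv F164548)) (tt N16160 F156580) (tt N15889 F156581) (tt N19516 (iv F164559)) (tt N15845 (iv D33682)) (tt N19517 D35444))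
theorem Q17757 : ∀ i, i < 17757 → P i := stepQ 17756 Q17756 (allL N17756 (tt N16805 F156582) (tt N19512 (iv F164539)) (tt N19104 (iv F162470)) (tt N15847 (iv D33683)) (tt N15955 F156583) (tt N19477 (iv F164391)) (tt N15890 F156584) (tt N19518 D35445) (tt N19519 D35446) (tt N19496 (iv F164465)))
theorem Q17758 : ∀ i, i < 17758 → P i := stepQ 17757 Q17757 (allL N17757 (tt N16806 F156585) (tt N19513 (iv F164543)) (tt N15850 F156586) (tt N19518 (iv F164567)) (tt N15848 F156587) (tt N19478 (iv F164395)) (tt N19520 D35447) (tt N15847 (iv D33684)) (tt N19521 D35448) (tt N19497 (iv F164470)))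
theorem Q17759 : ∀ i, i < 17759 → P i := stepQ 17758 Q17758 (allL N17758 (tt N16807 F156588) (tt N19514 (iv F164547)) (tt N15851 F156589) (tt N19519 (iv F164570)) (tt N15849 F156590) (tt N19163 (iv F162768)) (tt N15892 F156591) (tt N19521 (iv F164580)) (tt N15847 (iv D33685)) (tt N19522 D35449))
theorem Q17760 : ∀ i, i < 17760 → P i := stepQ 17759 Q17759 (allL N17759 (tt N16808 F156592) (tt N19515 (iv F164551)) (tt N15852 F156593) (tt N15958 F156594) (tt N19520 (iv F164575)) (tt N19492 (iv F164442)) (tt N15848 (iv D33686)) (tt N15893 F156595) (tt N19523 D35450) (tt N19499 (iv F164482)))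
theorem Q17761 : ∀ i, i < 17761 → P i := stepQ 17760 Q17760 (allL N17760 (tt N16809 F156596) (tt N19516 (iv F164556)) (tt N15853 F156597) (tt N15959 F156598) (tt N19521 (iv F164579)) (tt N16161 F156599) (tt N19523 (iv F164589)) (tt N15849 F156600) (tt N15848 (iv D33687)) (tt N19524 D35451))
theorem Q17762 : ∀ i, i < 17762 → P i := stepQ 17761 Q17761 (allL N17761 (tt N16810 F156601) (tt N19517 (iv F164561)) (tt N15854 F156602) (tt N15960 F156603) (tt N19522 (iv F164583)) (tt N16162 F156604) (tt N15895 F156605) (tt N19524 (iv F164595)) (tt N19501 (iv F164495)) (tt N15849 (iv D33688)))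
theorem Q17763 : ∀ i, i < 17763 → P i := stepQ 17762 Q17762 (allL N17762 (tt N16811 F156606) (tt N19398 (iv F164026)) (tt N19520 (iv F164574)) (tt N19110 (iv F162496)) (tt N15852 F156607) (tt N19525 D35452) (tt N15850 (iv D33689)) (tt N15896 F156608) (tt N19526 D35453) (tt N19502 (iv F164499)))
theorem Q17764 : ∀ i, i < 17764 → P i := stepQ 17763 Q17763 (allL N17763 (tt N16812 F156609) (tt N19399 (iv F164029)) (tt N19521 (iv F164578)) (tt N19111 (iv F162500)) (tt N15853 F156610) (tt N19527 D35454) (tt N19526 (iv F164600)) (tt N15851 F156611) (tt N15850 (iv D33690)) (tt N19528 D35455))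
theorem Q17765 : ∀ i, i < 17765 → P i := stepQ 17764 Q17764 (allL N17764 (tt N16813 F156612) (tt N19400 (iv F164032)) (tt N19163 (iv F162767)) (tt N19112 (iv F162504)) (tt N16165 F156613) (tt N15851 (iv D33691)) (tt N19529 D35456) (tt N19527 (iv F164604)) (tt N19485 (iv F164418)) (tt N19530 D35457))
theorem Q17766 : ∀ i, i < 17766 → P i := stepQ 17765 Q17765 (allL N17765 (tt N16814 F156614) (tt N19401 (iv F164035)) (tt N19522 (iv F164582)) (tt N19113 (iv F162507)) (tt N15854 F156615) (tt N19530 (iv F164613)) (tt N15899 F156616) (tt N19528 (iv F164607)) (tt N19505 (iv F164508)) (tt N15851 (iv D33692)))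
theorem Q17767 : ∀ i, i < 17767 → P i := stepQ 17766 Q17766 (allL N17766 (tt N16815 F156617) (tt N19402 (iv F164038)) (tt N19523 (iv F164586)) (tt N15855 F156618) (tt N19526 (iv F164599)) (tt N19531 D35458) (tt N15853 F156619) (tt N15900 F156620) (tt N15852 (iv D33693)) (tt N19532 D35459))
theorem Q17768 : ∀ i, i < 17768 → P i := stepQ 17767 Q17767 (allL N17767 (tt N16816 F156621) (tt N19403 (iv F164043)) (tt N19524 (iv F164592)) (tt N15856 F156622) (tt N19528 (iv F164606)) (tt N16168 F156623) (tt N19532 (iv F164622)) (tt N15854 F156624) (tt N19507 (iv F164517)) (tt N15853 (iv D33694)))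
theorem Q17769 : ∀ i, i < 17769 → P i := stepQ 17768 Q17768 (allL N17768 (tt N16817 F156625) (tt N19404 (iv F164048)) (tt N15967 F156626) (tt N19531 (iv F164616)) (tt N19533 D35460) (tt N15855 (iv D33695)) (tt N16169 F156627) (tt N15902 F156628) (tt N16240 F156629) (tt N19471 (iv F164362)))
theorem Q17770 : ∀ i, i < 17770 → P i := stepQ 17769 Q17769 (allL N17769 (tt N16818 F156630) (tt N19405 (iv F164055)) (tt N15968 F156631) (tt N19532 (iv F164621)) (tt N19117 (iv F162524)) (tt N19471 (iv F164360)) (tt N15856 F156632) (tt N15903 F156633) (tt N19509 (iv F164527)) (tt N15855 (iv D33696)))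
theorem Q17771 : ∀ i, i < 17771 → P i := stepQ 17770 Q17770 (allL N17770 (tt N15858 F156634) (tt N16162 F156635) (tt N19406 (iv F164062)) (tt N15969 F156636) (tt N16537 F156637) (tt N19517 (iv F164563)) (tt N15857 (iv D33697)) (tt N19534 D35461) (tt N17770 F156638) (tt N16160 F156639))
theorem Q17772 : ∀ i, i < 17772 → P i := stepQ 17771 Q17771 (allL N17771 (tt N19517 (iv F164560)) (tt N15859 F156640) (tt N19407 (iv F164068)) (tt N15970 F156641) (tt N19535 D35462) (tt N15858 (iv D33698)) (tt N18884 (iv F161160)) (tt N19536 D35463) (tt N18976 (iv F161705)) (tt N16215 F156642))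
theorem Q17773 : ∀ i, i < 17773 → P i := stepQ 17772 Q17772 (allL N17772 (tt N19534 (iv F164629)) (tt N15860 F156643) (tt N19408 (iv F164074)) (tt N15971 F156644) (tt N16539 F156645) (tt N19536 (iv F164641)) (tt N19119 (iv F162539)) (tt N15858 (iv D33699)) (tt N17772 F156646) (tt N16216 F156647))
theorem Q17774 : ∀ i, i < 17774 → P i := stepQ 17773 Q17773 (allL N17773 (tt N16820 F156648) (tt N19535 (iv F164636)) (tt N15861 F156649) (tt N19537 D35464) (tt N15859 (iv D33700)) (tt N16540 F156650) (tt N18886 (iv F161174)) (tt N19538 D35465) (tt N19539 D35466) (tt N16217 F156651))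
theorem Q17775 : ∀ i, i < 17775 → P i := stepQ 17774 Q17774 (allL N17774 (tt N16821 F156652) (tt N19536 (iv F164639)) (tt N15862 F156653) (tt N15973 F156654) (tt N19538 (iv F164651)) (tt N15860 F156655) (tt N19540 D35467) (tt N15859 (iv D33701)) (tt N19541 D35468) (tt N16218 F156656))
theorem Q17776 : ∀ i, i < 17776 → P i := stepQ 17775 Q17775 (allL N17775 (tt N16822 F156657) (tt N18976 (iv F161700)) (tt N15863 F156658) (tt N15974 F156659) (tt N19539 (iv F164657)) (tt N17775 F156660) (tt N18888 (iv F161186)) (tt N19541 (iv F164666)) (tt N15859 (iv D33702)) (tt N18918 (iv F161370)))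
theorem Q17777 : ∀ i, i < 17777 → P i := stepQ 17776 Q17776 (allL N17776 (tt N16823 F156661) (tt N19411 (iv F164093)) (tt N19538 (iv F164650)) (tt N15869 F156662) (tt N15862 F156663) (tt N16543 F156664) (tt N19542 D35469) (tt N15861 (iv D33703)) (tt N19543 D35470) (tt N16219 F156665))
theorem Q17778 : ∀ i, i < 17778 → P i := stepQ 17777 Q17777 (allL N17777 (tt N16762 F156666) (tt N19412 (iv F164099)) (tt N19539 (iv F164655)) (tt N15870 F156667) (tt N15863 F156668) (tt N19544 D35471) (tt N18890 (iv F161199)) (tt N19543 (iv F164674)) (tt N15861 (iv D33704)) (tt N19545 D35472))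
theorem Q17779 : ∀ i, i < 17779 → P i := stepQ 17778 Q17778 (allL N17778 (tt N16824 F156669) (tt N19413 (iv F164105)) (tt N19540 (iv F164659)) (tt N15864 F156670) (tt N19542 (iv F164669)) (tt N19124 (iv F162570)) (tt N15862 (iv D33705)) (tt N18891 (iv F161204)) (tt N19546 D35473) (tt N16221 F156671))
theorem Q17780 : ∀ i, i < 17780 → P i := stepQ 17779 Q17779 (allL N17779 (tt N16825 F156672) (tt N19414 (iv F164111)) (tt N19541 (iv F164663)) (tt N15865 F156673) (tt N19543 (iv F164673)) (tt N17779 F156674) (tt N19546 (iv F164685)) (tt N15863 F156675) (tt N15862 (iv D33706)) (tt N19547 D35474))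
theorem Q17781 : ∀ i, i < 17781 → P i := stepQ 17780 Q17780 (allL N17780 (tt N16826 F156676) (tt N19415 (iv F164117)) (tt N18918 (iv F161366)) (tt N15866 F156677) (tt N19545 (iv F164681)) (tt N17780 F156678) (tt N18893 (iv F161216)) (tt N19547 (iv F164689)) (tt N16223 F156679) (tt N15863 (iv D33707)))
theorem Q17782 : ∀ i, i < 17782 → P i := stepQ 17781 Q17781 (allL N17781 (tt N16827 F156680) (tt N19416 (iv F164124)) (tt N15978 F156681) (tt N19546 (iv F164684)) (tt N15874 F156682) (tt N19548 D35475) (tt N15865 F156683) (tt N18894 (iv F161223)) (tt N15864 (iv D33708)) (tt N19549 D35476))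
theorem Q17783 : ∀ i, i < 17783 → P i := stepQ 17782 Q17782 (allL N17782 (tt N16828 F156684) (tt N19417 (iv F164130)) (tt N15979 F156685) (tt N19547 (iv F164687)) (tt N15875 F156686) (tt N17782 F156687) (tt N19549 (iv F164697)) (tt N15866 F156688) (tt N16225 F156689) (tt N15865 (iv D33709)))
theorem Q17784 : ∀ i, i < 17784 → P i := stepQ 17783 Q17783 (allL N17783 (tt N16471 F156690) (tt N19024 (iv F162001)) (tt N19537 (iv F164644)) (tt N15867 (iv D33710)) (tt N15980 F156691) (tt N16834 F156692) (tt N19131 (iv F162613)) (tt N19550 D35477) (tt N16426 F156693) (tt N16320 F156694))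
theorem Q17785 : ∀ i, i < 17785 → P i := stepQ 17784 Q17784 (allL N17784 (tt N16766 F156695) (tt N19374 (iv F163897)) (tt N15869 F156696) (tt N19550 (iv F164700)) (tt N15868 F156697) (tt N16835 F156698) (tt N19551 D35478) (tt N15867 (iv D33711)) (tt N16736 F156699) (tt N16321 F156700))
theorem Q17786 : ∀ i, i < 17786 → P i := stepQ 17785 Q17785 (allL N17785 (tt N16767 F156701) (tt N19375 (iv F163903)) (tt N15871 F156702) (tt N15982 F156703) (tt N19551 (iv F164707)) (tt N15893 F156704) (tt N15868 (iv D33712)) (tt N19492 (iv F164443)) (tt N16737 F156705) (tt N16323 F156706))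
theorem Q17787 : ∀ i, i < 17787 → P i := stepQ 17786 Q17786 (allL N17786 (tt N16829 F156707) (tt N19421 (iv F164147)) (tt N19551 (iv F164706)) (tt N19542 (iv F164668)) (tt N15871 F156708) (tt N19552 D35479) (tt N15869 (iv D33713)) (tt N19493 (iv F164448)) (tt N19553 D35480) (tt N16326 F156709))
theorem Q17788 : ∀ i, i < 17788 → P i := stepQ 17787 Q17787 (allL N17787 (tt N16763 F156710) (tt N19422 (iv F164150)) (tt N16736 F156711) (tt N19543 (iv F164672)) (tt N15872 F156712) (tt N19554 D35481) (tt N19553 (iv F164717)) (tt N15870 F156713) (tt N15869 (iv D33714)) (tt N19555 D35482))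
theorem Q17789 : ∀ i, i < 17789 → P i := stepQ 17788 Q17788 (allL N17788 (tt N16279 F156714) (tt N19423 (iv F164153)) (tt N16254 F156715) (tt N19544 (iv F164676)) (tt N15906 F156716) (tt N15870 (iv D33715)) (tt N19409 (iv F164083)) (tt N19554 (iv F164721)) (tt N16842 F156717) (tt N19345 (iv F163737)))
theorem Q17790 : ∀ i, i < 17790 → P i := stepQ 17789 Q17789 (allL N17789 (tt N16755 F156718) (tt N19424 (iv F164156)) (tt N16733 F156719) (tt N19545 (iv F164680)) (tt N15873 F156720) (tt N19345 (iv F163735)) (tt N19120 (iv F162545)) (tt N19555 (iv F164726)) (tt N16329 F156721) (tt N15870 (iv D33716)))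
theorem Q17791 : ∀ i, i < 17791 → P i := stepQ 17790 Q17790 (allL N17790 (tt N16764 F156722) (tt N19425 (iv F164159)) (tt N16737 F156723) (tt N15874 F156724) (tt N19553 (iv F164716)) (tt N19556 D35483) (tt N15872 F156725) (tt N19495 (iv F164459)) (tt N15871 (iv D33717)) (tt N19557 D35484))
theorem Q17792 : ∀ i, i < 17792 → P i := stepQ 17791 Q17791 (allL N17791 (tt N16756 F156726) (tt N19426 (iv F164162)) (tt N16734 F156727) (tt N15875 F156728) (tt N19555 (iv F164725)) (tt N15908 F156729) (tt N19557 (iv F164737)) (tt N15873 F156730) (tt N16331 F156731) (tt N15872 (iv D33718)))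
theorem Q17793 : ∀ i, i < 17793 → P i := stepQ 17792 Q17792 (allL N17792 (tt N16830 F156732) (tt N19427 (iv F164168)) (tt N15984 F156733) (tt N19556 (iv F164730)) (tt N19558 D35485) (tt N15874 (iv D33719)) (tt N15909 F156734) (tt N16240 F156735) (tt N15902 F156736) (tt N19559 D35486))
theorem Q17794 : ∀ i, i < 17794 → P i := stepQ 17793 Q17793 (allL N17793 (tt N16831 F156737) (tt N19428 (iv F164173)) (tt N15985 F156738) (tt N19557 (iv F164736)) (tt N19549 (iv F164696)) (tt N19559 (iv F164746)) (tt N15875 F156739) (tt N19262 (iv F163273)) (tt N16333 F156740) (tt N15874 (iv D33720)))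
theorem Q17795 : ∀ i, i < 17795 → P i := stepQ 17794 Q17794 (allL N17794 (tt N16834 F156741) (tt N16563 F156742) (tt N19149 (iv F162706)) (tt N15876 (iv D33721)) (tt N15986 F156743) (tt N16471 F156744) (tt N19496 (iv F164464)) (tt N19560 D35487) (tt N19561 D35488) (tt N15890 F156745))
theorem Q17796 : ∀ i, i < 17796 → P i := stepQ 17795 Q17795 (allL N17795 (tt N16835 F156746) (tt N16861 F156747) (tt N15879 F156748) (tt N19560 (iv F164751)) (tt N15877 F156749) (tt N16766 F156750) (tt N19562 D35489) (tt N15876 (iv D33722)) (tt N19563 D35490) (tt N15891 F156751))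
theorem Q17797 : ∀ i, i < 17797 → P i := stepQ 17796 Q17796 (allL N17796 (tt N16836 F156752) (tt N16328 F156753) (tt N15880 F156754) (tt N19561 (iv F164757)) (tt N15878 F156755) (tt N16282 F156756) (tt N19498 (iv F164475)) (tt N19563 (iv F164770)) (tt N15876 (iv D33723)) (tt N19564 D35491))
theorem Q17798 : ∀ i, i < 17798 → P i := stepQ 17797 Q17797 (allL N17797 (tt N16837 F156757) (tt N16871 F156758) (tt N15881 F156759) (tt N15989 F156760) (tt N19562 (iv F164763)) (tt N16323 F156761) (tt N15877 (iv D33724)) (tt N19499 (iv F164481)) (tt N19565 D35492) (tt N15893 F156762))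
theorem Q17799 : ∀ i, i < 17799 → P i := stepQ 17798 Q17798 (allL N17798 (tt N16838 F156763) (tt N16343 F156764) (tt N15882 F156765) (tt N15990 F156766) (tt N19563 (iv F164768)) (tt N16076 F156767) (tt N19565 (iv F164781)) (tt N15878 F156768) (tt N15877 (iv D33725)) (tt N19566 D35493))
theorem Q17800 : ∀ i, i < 17800 → P i := stepQ 17799 Q17799 (allL N17799 (tt N16839 F156769) (tt N16346 F156770) (tt N15883 F156771) (tt N15991 F156772) (tt N19564 (iv F164774)) (tt N16077 F156773) (tt N19501 (iv F164494)) (tt N19566 (iv F164787)) (tt N15895 F156774) (tt N15878 (iv D33726)))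
theorem Q17801 : ∀ i, i < 17801 → P i := stepQ 17800 Q17800 (allL N17800 (tt N16840 F156775) (tt N19435 (iv F164206)) (tt N19562 (iv F164762)) (tt N19155 (iv F162734)) (tt N15881 F156776) (tt N19567 D35494) (tt N15879 (iv D33727)) (tt N19502 (iv F164498)) (tt N19568 D35495) (tt N15896 F156777))
theorem Q17802 : ∀ i, i < 17802 → P i := stepQ 17801 Q17801 (allL N17801 (tt N16841 F156778) (tt N19436 (iv F164209)) (tt N19563 (iv F164767)) (tt N19156 (iv F162738)) (tt N15882 F156779) (tt N19569 D35496) (tt N19568 (iv F164795)) (tt N15880 F156780) (tt N15879 (iv D33728)) (tt N19570 D35497))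
theorem Q17803 : ∀ i, i < 17803 → P i := stepQ 17802 Q17802 (allL N17802 (tt N16842 F156781) (tt N19437 (iv F164212)) (tt N16282 F156782) (tt N19157 (iv F162742)) (tt N16080 F156783) (tt N15880 (iv D33729)) (tt N19571 D35498) (tt N19569 (iv F164799)) (tt N16279 F156784) (tt N19572 D35499))
theorem Q17804 : ∀ i, i < 17804 → P i := stepQ 17803 Q17803 (allL N17803 (tt N16843 F156785) (tt N19438 (iv F164217)) (tt N19564 (iv F164773)) (tt N19158 (iv F162746)) (tt N15883 F156786) (tt N19572 (iv F164812)) (tt N19505 (iv F164507)) (tt N19570 (iv F164803)) (tt N15899 F156787) (tt N15880 (iv D33730)))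
theorem Q17805 : ∀ i, i < 17805 → P i := stepQ 17804 Q17804 (allL N17804 (tt N16844 F156788) (tt N19439 (iv F164220)) (tt N19565 (iv F164779)) (tt N15884 F156789) (tt N19568 (iv F164794)) (tt N19573 D35500) (tt N15882 F156790) (tt N19506 (iv F164512)) (tt N15881 (iv D33731)) (tt N19574 D35501))
theorem Q17806 : ∀ i, i < 17806 → P i := stepQ 17805 Q17805 (allL N17805 (tt N16845 F156791) (tt N19440 (iv F164224)) (tt N19566 (iv F164784)) (tt N15885 F156792) (tt N19570 (iv F164802)) (tt N16083 F156793) (tt N19574 (iv F164819)) (tt N15883 F156794) (tt N15901 F156795) (tt N15882 (iv D33732)))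
theorem Q17807 : ∀ i, i < 17807 → P i := stepQ 17806 Q17806 (allL N17806 (tt N16846 F156796) (tt N19441 (iv F164229)) (tt N15997 F156797) (tt N19573 (iv F164814)) (tt N19575 D35502) (tt N15884 (iv D33733)) (tt N16084 F156798) (tt N19508 (iv F164521)) (tt N16332 F156799) (tt N19576 D35503))
theorem Q17808 : ∀ i, i < 17808 → P i := stepQ 17807 Q17807 (allL N17807 (tt N16847 F156800) (tt N19442 (iv F164234)) (tt N15998 F156801) (tt N19574 (iv F164818)) (tt N19162 (iv F162762)) (tt N19576 (iv F164827)) (tt N15885 F156802) (tt N19509 (iv F164526)) (tt N15903 F156803) (tt N15884 (iv D33734)))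
theorem Q17809 : ∀ i, i < 17809 → P i := stepQ 17808 Q17808 (allL N17808 (tt N15887 F156804) (tt N16180 F156805) (tt N19443 (iv F164239)) (tt N19185 (iv F162853)) (tt N15886 (iv D33735)) (tt N15899 F156806) (tt N19510 (iv F164530)) (tt N19470 (iv F164355)) (tt N19577 D35504) (tt N15898 F156807))
theorem Q17810 : ∀ i, i < 17810 → P i := stepQ 17809 Q17809 (allL N17809 (tt N15889 F156808) (tt N16174 F156809) (tt N19343 (iv F163720)) (tt N15931 F156810) (tt N19577 (iv F164831)) (tt N15912 F156811) (tt N16215 F156812) (tt N19466 (iv F164334)) (tt N15886 (iv D33736)) (tt N18884 (iv F161162)))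
theorem Q17811 : ∀ i, i < 17811 → P i := stepQ 17810 Q17810 (allL N17810 (tt N19185 (iv F162851)) (tt N15890 F156813) (tt N19578 D35505) (tt N15887 (iv D33737)) (tt N15999 F156814) (tt N16564 F156815) (tt N19512 (iv F164541)) (tt N19579 D35506) (tt N19580 D35507) (tt N16563 F156816))
theorem Q17812 : ∀ i, i < 17812 → P i := stepQ 17811 Q17811 (allL N17811 (tt N19470 (iv F164352)) (tt N15891 F156817) (tt N19446 (iv F164252)) (tt N19579 (iv F164837)) (tt N15888 F156818) (tt N16862 F156819) (tt N19581 D35508) (tt N15887 (iv D33738)) (tt N19582 D35509) (tt N16861 F156820))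
theorem Q17813 : ∀ i, i < 17813 → P i := stepQ 17812 Q17812 (allL N17812 (tt N19577 (iv F164829)) (tt N15892 F156821) (tt N19447 (iv F164257)) (tt N19580 (iv F164842)) (tt N15889 F156822) (tt N19583 D35510) (tt N19514 (iv F164549)) (tt N19582 (iv F164849)) (tt N15887 (iv D33739)) (tt N19584 D35511))
theorem Q17814 : ∀ i, i < 17814 → P i := stepQ 17813 Q17813 (allL N17813 (tt N19463 (iv F164317)) (tt N15893 F156823) (tt N19448 (iv F164260)) (tt N16002 F156824) (tt N19581 (iv F164845)) (tt N19375 F163906) (tt N15888 (iv D33740)) (tt N19515 (iv F164553)) (tt N19585 D35512) (tt N16871 F156825))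
theorem Q17815 : ∀ i, i < 17815 → P i := stepQ 17814 Q17814 (allL N17814 (tt N19466 (iv F164331)) (tt N15894 F156826) (tt N19449 (iv F164264)) (tt N16003 F156827) (tt N19582 (iv F164848)) (tt N15915 F156828) (tt N19585 (iv F164858)) (tt N15889 F156829) (tt N15888 (iv D33741)) (tt N19586 D35513))
theorem Q17816 : ∀ i, i < 17816 → P i := stepQ 17815 Q17815 (allL N17815 (tt N18884 (iv F161156)) (tt N15895 F156830) (tt N19377 (iv F163918)) (tt N16004 F156831) (tt N19584 (iv F164854)) (tt N15916 F156832) (tt N19517 (iv F164564)) (tt N19586 (iv F164862)) (tt N16346 F156833) (tt N15889 (iv D33742)))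
theorem Q17817 : ∀ i, i < 17817 → P i := stepQ 17816 Q17816 (allL N17816 (tt N16851 F156834) (tt N19579 (iv F164836)) (tt N19172 (iv F162803)) (tt N15891 F156835) (tt N16005 F156836) (tt N18949 (iv F161558)) (tt N19587 D35514) (tt N15890 (iv D33743)) (tt N19588 D35515) (tt N19560 (iv F164754)))
theorem Q17818 : ∀ i, i < 17818 → P i := stepQ 17817 Q17817 (allL N17817 (tt N16852 F156837) (tt N19580 (iv F164841)) (tt N19173 (iv F162807)) (tt N15892 F156838) (tt N16006 F156839) (tt N19589 D35516) (tt N19519 (iv F164572)) (tt N19588 (iv F164870)) (tt N15890 (iv D33744)) (tt N19590 D35517))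
theorem Q17819 : ∀ i, i < 17819 → P i := stepQ 17818 Q17818 (allL N17818 (tt N16853 F156840) (tt N19581 (iv F164844)) (tt N15896 F156841) (tt N19587 (iv F164865)) (tt N15893 F156842) (tt N19591 D35518) (tt N15891 (iv D33745)) (tt N19520 (iv F164576)) (tt N19592 D35519) (tt N19562 (iv F164764)))
theorem Q17820 : ∀ i, i < 17820 → P i := stepQ 17819 Q17819 (allL N17819 (tt N16854 F156843) (tt N19582 (iv F164847)) (tt N15897 F156844) (tt N19588 (iv F164868)) (tt N15894 F156845) (tt N19593 D35520) (tt N19592 (iv F164882)) (tt N15892 F156846) (tt N15891 (iv D33746)) (tt N19594 D35521))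
theorem Q17821 : ∀ i, i < 17821 → P i := stepQ 17820 Q17820 (allL N17820 (tt N16855 F156847) (tt N19583 (iv F164850)) (tt N15898 F156848) (tt N19589 (iv F164872)) (tt N15919 F156849) (tt N15892 (iv D33747)) (tt N19595 D35522) (tt N19593 (iv F164886)) (tt N18953 (iv F161582)) (tt N19443 (iv F164241)))
theorem Q17822 : ∀ i, i < 17822 → P i := stepQ 17821 Q17821 (allL N17821 (tt N16856 F156850) (tt N19584 (iv F164853)) (tt N15899 F156851) (tt N19590 (iv F164875)) (tt N15895 F156852) (tt N19443 (iv F164240)) (tt N19522 (iv F164584)) (tt N19594 (iv F164890)) (tt N19564 (iv F164776)) (tt N15892 (iv D33748)))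
theorem Q17823 : ∀ i, i < 17823 → P i := stepQ 17822 Q17822 (allL N17822 (tt N16857 F156853) (tt N19585 (iv F164856)) (tt N15900 F156854) (tt N16010 F156855) (tt N19592 (iv F164881)) (tt N19596 D35523) (tt N15894 F156856) (tt N19523 (iv F164590)) (tt N15893 (iv D33749)) (tt N19597 D35524))
theorem Q17824 : ∀ i, i < 17824 → P i := stepQ 17823 Q17823 (allL N17823 (tt N16858 F156857) (tt N19586 (iv F164859)) (tt N15901 F156858) (tt N16011 F156859) (tt N19594 (iv F164889)) (tt N15921 F156860) (tt N19597 (iv F164903)) (tt N15895 F156861) (tt N19566 (iv F164788)) (tt N15894 (iv D33750)))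
theorem Q17825 : ∀ i, i < 17825 → P i := stepQ 17824 Q17824 (allL N17824 (tt N16859 F156862) (tt N19458 (iv F164298)) (tt N19591 (iv F164878)) (tt N19180 (iv F162835)) (tt N19552 (iv F164711)) (tt N15896 (iv D33751)) (tt N18955 (iv F161592)) (tt N19525 (iv F164597)) (tt N19598 D35525) (tt N19567 (iv F164792)))
theorem Q17826 : ∀ i, i < 17826 → P i := stepQ 17825 Q17825 (allL N17825 (tt N16860 F156863) (tt N19459 (iv F164299)) (tt N19592 (iv F164880)) (tt N19181 (iv F162837)) (tt N15900 F156864) (tt N19599 D35526) (tt N15897 F156865) (tt N19526 (iv F164601)) (tt N15896 (iv D33752)) (tt N19600 D35527))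
theorem Q17827 : ∀ i, i < 17827 → P i := stepQ 17826 Q17826 (allL N17826 (tt N16861 F156866) (tt N19460 (iv F164303)) (tt N19593 (iv F164884)) (tt N19182 (iv F162841)) (tt N15923 F156867) (tt N15897 (iv D33753)) (tt N19601 D35528) (tt N15898 F156868) (tt N18957 (iv F161600)) (tt N19470 (iv F164356)))
theorem Q17828 : ∀ i, i < 17828 → P i := stepQ 17827 Q17827 (allL N17827 (tt N16862 F156869) (tt N19461 (iv F164308)) (tt N19594 (iv F164888)) (tt N19183 (iv F162845)) (tt N15901 F156870) (tt N19470 (iv F164354)) (tt N19600 (iv F164908)) (tt N15899 F156871) (tt N19570 (iv F164804)) (tt N15897 (iv D33754)))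
theorem Q17829 : ∀ i, i < 17829 → P i := stepQ 17828 Q17828 (allL N17828 (tt N16863 F156872) (tt N19462 (iv F164313)) (tt N19595 (iv F164892)) (tt N19184 (iv F162849)) (tt N15924 F156873) (tt N19529 (iv F164610)) (tt N15898 (iv D33755)) (tt N19602 D35529) (tt N18959 (iv F161608)) (tt N19510 (iv F164532)))
theorem Q17830 : ∀ i, i < 17830 → P i := stepQ 17829 Q17829 (allL N17829 (tt N16850 F156874) (tt N19463 (iv F164318)) (tt N19596 (iv F164895)) (tt N15902 F156875) (tt N19603 D35530) (tt N15900 (iv D33756)) (tt N15925 F156876) (tt N19531 (iv F164618)) (tt N19556 (iv F164733)) (tt N19468 (iv F164345)))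
theorem Q17831 : ∀ i, i < 17831 → P i := stepQ 17830 Q17830 (allL N17830 (tt N16864 F156877) (tt N19464 (iv F164323)) (tt N19597 (iv F164901)) (tt N15903 F156878) (tt N19600 (iv F164907)) (tt N19468 (iv F164344)) (tt N15901 F156879) (tt N19532 (iv F164623)) (tt N19574 (iv F164820)) (tt N15900 (iv D33757)))
theorem Q17832 : ∀ i, i < 17832 → P i := stepQ 17831 Q17831 (allL N17831 (tt N16865 F156880) (tt N19219 (iv F163019)) (tt N16017 F156881) (tt N19604 D35531) (tt N15902 (iv D33758)) (tt N19188 (iv F162864)) (tt N15926 F156882) (tt N19533 (iv F164627)) (tt N19558 (iv F164743)) (tt N19064 (iv F162238)))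
theorem Q17833 : ∀ i, i < 17833 → P i := stepQ 17832 Q17832 (allL N17832 (tt N16064 F156883) (tt N16089 F156884) (tt N16051 F156885) (tt N17832 F156886) (tt N15922 F156887) (tt N15904 (iv D33759)) (tt N16959 F156888) (tt N16049 F156889) (tt N19605 D35532) (tt N16056 F156890))
theorem Q17834 : ∀ i, i < 17834 → P i := stepQ 17833 Q17833 (allL N17833 (tt N16280 F156891) (tt N19465 (iv F164327)) (tt N16255 F156892) (tt N17833 F156893) (tt N19554 (iv F164720)) (tt N15905 (iv D33760)) (tt N19606 D35533) (tt N15906 F156894) (tt N16961 F156895) (tt N19346 (iv F163742)))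
theorem Q17835 : ∀ i, i < 17835 → P i := stepQ 17834 Q17834 (allL N17834 (tt N16746 F156896) (tt N19466 (iv F164332)) (tt N16210 F156897) (tt N15909 F156898) (tt N19607 D35534) (tt N15907 (iv D33761)) (tt N19556 (iv F164731)) (tt N16174 F156899) (tt N15925 F156900) (tt N18887 (iv F161180)))
theorem Q17836 : ∀ i, i < 17836 → P i := stepQ 17835 Q17835 (allL N17835 (tt N16867 F156901) (tt N19220 (iv F163024)) (tt N16019 F156902) (tt N19608 D35535) (tt N15909 (iv D33762)) (tt N17835 F156903) (tt N19558 (iv F164741)) (tt N16175 F156904) (tt N15926 F156905) (tt N19266 (iv F163300)))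
theorem Q17837 : ∀ i, i < 17837 → P i := stepQ 17836 Q17836 (allL N17836 (tt N16868 F156906) (tt N18988 (iv F161760)) (tt N15934 F156907) (tt N18887 (iv F161178)) (tt N19266 (iv F163297)) (tt N15910 F156908) (tt N19559 (iv F164747)) (tt N15933 F156909) (tt N18924 (iv F161406)) (tt N15909 (iv D33763)))
theorem Q17838 : ∀ i, i < 17838 → P i := stepQ 17837 Q17837 (allL N17837 (tt N19356 (iv F163800)) (tt N15918 F156910) (tt N19378 (iv F163924)) (tt N17837 F156911) (tt N15915 F156912) (tt N19609 D35536) (tt N19376 (iv F163913)) (tt N15914 F156913) (tt N15913 (iv D33764)) (tt N19365 (iv F163863)))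
theorem Q17839 : ∀ i, i < 17839 → P i := stepQ 17838 Q17838 (allL N17838 (tt N19355 (iv F163793)) (tt N15919 F156914) (tt N19352 (iv F163774)) (tt N17838 F156915) (tt N19583 (iv F164851)) (tt N15914 (iv D33765)) (tt N19610 D35537) (tt N19609 (iv F164940)) (tt N16964 F156916) (tt N19347 (iv F163749)))
theorem Q17840 : ∀ i, i < 17840 → P i := stepQ 17839 Q17839 (allL N17839 (tt N18885 (iv F161163)) (tt N15921 F156917) (tt N19376 (iv F163910)) (tt N16020 F156918) (tt N19365 (iv F163860)) (tt N19586 (iv F164861)) (tt N19378 (iv F163927)) (tt N15916 F156919) (tt N16091 F156920) (tt N15915 (iv D33766)))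
theorem Q17841 : ∀ i, i < 17841 → P i := stepQ 17840 Q17840 (allL N17840 (tt N16066 F156921) (tt N16415 F156922) (tt N15922 F156923) (tt N17840 F156924) (tt N16051 F156925) (tt N15917 (iv D33767)) (tt N18965 (iv F161637)) (tt N16050 F156926) (tt N19611 D35538) (tt N16057 F156927))
theorem Q17842 : ∀ i, i < 17842 → P i := stepQ 17841 Q17841 (allL N17841 (tt N16869 F156928) (tt N19609 (iv F164938)) (tt N15923 F156929) (tt N17841 F156930) (tt N19593 (iv F164885)) (tt N15918 (iv D33768)) (tt N19612 D35539) (tt N15919 F156931) (tt N18967 (iv F161653)) (tt N19444 (iv F164246)))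
theorem Q17843 : ∀ i, i < 17843 → P i := stepQ 17842 Q17842 (allL N17842 (tt N16870 F156932) (tt N19610 (iv F164943)) (tt N15924 F156933) (tt N17842 F156934) (tt N19595 (iv F164893)) (tt N16177 F156935) (tt N15919 (iv D33769)) (tt N19613 D35540) (tt N18968 (iv F161660)) (tt N19387 (iv F163984)))
theorem Q17844 : ∀ i, i < 17844 → P i := stepQ 17843 Q17843 (allL N17843 (tt N16750 F156936) (tt N19351 (iv F163768)) (tt N15925 F156937) (tt N16021 F156938) (tt N19614 D35541) (tt N15920 (iv D33770)) (tt N19596 (iv F164897)) (tt N16178 F156939) (tt N16210 F156940) (tt N19467 (iv F164340)))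
theorem Q17845 : ∀ i, i < 17845 → P i := stepQ 17844 Q17844 (allL N17844 (tt N16335 F156941) (tt N16083 F156942) (tt N19611 (iv F164951)) (tt N15927 F156943) (tt N19605 (iv F164921)) (tt N19440 (iv F164226)) (tt N18970 (iv F161673)) (tt N16070 F156944) (tt N15922 (iv D33771)) (tt N16069 F156945))
theorem Q17846 : ∀ i, i < 17846 → P i := stepQ 17845 Q17845 (allL N17845 (tt N16871 F156946) (tt N19468 (iv F164342)) (tt N19612 (iv F164957)) (tt N15928 F156947) (tt N19601 (iv F164910)) (tt N19464 (iv F164325)) (tt N15923 (iv D33772)) (tt N19615 D35542) (tt N18973 (iv F161689)) (tt N19463 F164321))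
theorem Q17847 : ∀ i, i < 17847 → P i := stepQ 17846 Q17846 (allL N17846 (tt N16872 F156948) (tt N19469 (iv F164347)) (tt N19613 (iv F164960)) (tt N15929 F156949) (tt N19602 (iv F164912)) (tt N16179 F156950) (tt N19615 (iv F164970)) (tt N15924 (iv D33773)) (tt N18975 (iv F161698)) (tt N19511 (iv F164538)))
theorem Q17848 : ∀ i, i < 17848 → P i := stepQ 17847 Q17847 (allL N17847 (tt N16849 F156951) (tt N19470 (iv F164353)) (tt N19614 (iv F164964)) (tt N19616 D35543) (tt N15925 (iv D33774)) (tt N19461 (iv F164310)) (tt N19603 (iv F164914)) (tt N16180 F156952) (tt N19607 (iv F164932)) (tt N19460 F164306))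
theorem Q17849 : ∀ i, i < 17849 → P i := stepQ 17848 Q17848 (allL N17848 (tt N16873 F156953) (tt N19207 (iv F162967)) (tt N19141 (iv F162662)) (tt N15926 (iv D33775)) (tt N19616 (iv F164972)) (tt N15932 F156954) (tt N19604 (iv F164916)) (tt N16181 F156955) (tt N19608 (iv F164937)) (tt N19057 (iv F162194)))
theorem Q17850 : ∀ i, i < 17850 → P i := stepQ 17849 Q17849 (allL N17849 (tt N16874 F156956) (tt N19471 (iv F164358)) (tt N17849 F156957) (tt N19615 (iv F164969)) (tt N19218 (iv F163016)) (tt N19405 (iv F164057)) (tt N15929 F156958) (tt N15928 (iv D33776)) (tt N18986 (iv F161755)) (tt N19404 F164053))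
theorem Q17851 : ∀ i, i < 17851 → P i := stepQ 17850 Q17850 (allL N17850 (tt N15953 F156959) (tt N16169 F156960) (tt N17850 F156961) (tt N19511 (iv F164535)) (tt N19221 (iv F163032)) (tt N15951 F156962) (tt N19404 (iv F164050)) (tt N15930 F156963) (tt N16237 (iv F156964)) (tt N15929 (iv D33777)))
theorem Q17852 : ∀ i, i < 17852 → P i := stepQ 17851 Q17851 (allL N17851 (tt N16875 F156965) (tt N17851 F156966) (tt N19559 (iv F164745)) (tt N15935 F156967) (tt N19268 (iv F163312)) (tt N15985 F156968) (tt N15934 (iv D33778)) (tt N15976 F156969) (tt N19267 (iv F163307)) (tt N15984 F156970))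
theorem Q17853 : ∀ i, i < 17853 → P i := stepQ 17852 Q17852 (allL N17852 (tt N16876 F156971) (tt N17852 F156972) (tt N18894 (iv F161220)) (tt N19267 (iv F163303)) (tt N15940 F156973) (tt N19617 D35544) (tt N15936 F156974) (tt N15978 F156975) (tt N15935 (iv D33779)) (tt N19263 (iv F163282)))
theorem Q17854 : ∀ i, i < 17854 → P i := stepQ 17853 Q17853 (allL N17853 (tt N16744 F156976) (tt N19342 (iv F163711)) (tt N15939 F156977) (tt N19492 (iv F164441)) (tt N19134 (iv F162630)) (tt N15958 F156978) (tt N15938 (iv D33780)) (tt N15982 F156979) (tt N16214 F156980) (tt N16368 F156981))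
theorem Q17855 : ∀ i, i < 17855 → P i := stepQ 17854 Q17854 (allL N17854 (tt N16878 F156982) (tt N16593 F156983) (tt N19232 (iv F163102)) (tt N15941 (iv D33781)) (tt N19496 (iv F164463)) (tt N17854 F156984) (tt N15986 F156985) (tt N19618 D35545) (tt N19619 D35546) (tt N15955 F156986))
theorem Q17856 : ∀ i, i < 17856 → P i := stepQ 17855 Q17855 (allL N17855 (tt N16879 F156987) (tt N16601 F156988) (tt N15944 F156989) (tt N19618 (iv F164983)) (tt N15942 F156990) (tt N17855 F156991) (tt N19620 D35547) (tt N15941 (iv D33782)) (tt N19621 D35548) (tt N15956 F156992))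
theorem Q17857 : ∀ i, i < 17857 → P i := stepQ 17856 Q17856 (allL N17856 (tt N16605 F156993) (tt N16232 F156994) (tt N15945 F156995) (tt N19619 (iv F164989)) (tt N15943 F156996) (tt N16604 (iv F156998)) (tt N15988 F156997) (tt N19621 (iv F165003)) (tt N15941 (iv D33783)) (tt N17012 F156999))
theorem Q17858 : ∀ i, i < 17858 → P i := stepQ 17857 Q17857 (allL N17857 (tt N16880 F157000) (tt N16874 F157001) (tt N15946 F157002) (tt N19499 (iv F164479)) (tt N19620 (iv F164996)) (tt N16368 F157003) (tt N15942 (iv D33784)) (tt N15989 F157004) (tt N19622 D35549) (tt N15958 F157005))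
theorem Q17859 : ∀ i, i < 17859 → P i := stepQ 17858 Q17858 (allL N17858 (tt N16881 F157006) (tt N16356 F157007) (tt N15947 F157008) (tt N19500 (iv F164486)) (tt N19621 (iv F165002)) (tt N17858 F157009) (tt N19622 (iv F165009)) (tt N15943 F157010) (tt N15942 (iv D33785)) (tt N19623 D35550))
theorem Q17860 : ∀ i, i < 17860 → P i := stepQ 17859 Q17859 (allL N17859 (tt N16882 F157011) (tt N16357 F157012) (tt N15948 F157013) (tt N19501 (iv F164492)) (tt N17012 F157014) (tt N17859 F157015) (tt N15991 F157016) (tt N19623 (iv F165016)) (tt N15960 F157017) (tt N15943 (iv D33786)))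
theorem Q17861 : ∀ i, i < 17861 → P i := stepQ 17860 Q17860 (allL N17860 (tt N16883 F157018) (tt N17860 F157019) (tt N19620 (iv F164995)) (tt N19236 (iv F163126)) (tt N15946 F157020) (tt N19624 D35551) (tt N15944 (iv D33787)) (tt N15992 F157021) (tt N19625 D35552) (tt N15961 F157022))
theorem Q17862 : ∀ i, i < 17862 → P i := stepQ 17861 Q17861 (allL N17861 (tt N16884 F157023) (tt N17861 F157024) (tt N19621 (iv F165001)) (tt N17075 F157025) (tt N15947 F157026) (tt N17035 (iv F157028)) (tt N19625 (iv F165028)) (tt N15945 F157027) (tt N15944 (iv D33788)) (tt N17041 (iv F157029)))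
theorem Q17863 : ∀ i, i < 17863 → P i := stepQ 17862 Q17862 (allL N17862 (tt N16885 F157030) (tt N17862 F157031) (tt N19622 (iv F165008)) (tt N15949 F157032) (tt N19625 (iv F165027)) (tt N19626 D35553) (tt N15947 F157033) (tt N15995 F157034) (tt N15946 (iv D33789)) (tt N19627 D35554))
theorem Q17864 : ∀ i, i < 17864 → P i := stepQ 17863 Q17863 (allL N17863 (tt N16886 F157035) (tt N17863 F157036) (tt N19623 (iv F165013)) (tt N15950 F157037) (tt N17041 F157038) (tt N17863 F157039) (tt N19627 (iv F165042)) (tt N15948 F157040) (tt N15966 F157041) (tt N15947 (iv D33790)))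
theorem Q17865 : ∀ i, i < 17865 → P i := stepQ 17864 Q17864 (allL N17864 (tt N16887 F157042) (tt N17864 F157043) (tt N19508 (iv F164519)) (tt N19626 (iv F165034)) (tt N19628 D35555) (tt N15949 (iv D33791)) (tt N17864 F157044) (tt N15997 F157045) (tt N16372 F157046) (tt N19629 D35556))
theorem Q17866 : ∀ i, i < 17866 → P i := stepQ 17865 Q17865 (allL N17865 (tt N16888 F157047) (tt N17865 F157048) (tt N19509 (iv F164524)) (tt N19627 (iv F165040)) (tt N19239 (iv F163147)) (tt N19629 (iv F165053)) (tt N15950 F157049) (tt N15998 F157050) (tt N15968 F157051) (tt N15949 (iv D33792)))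
theorem Q17867 : ∀ i, i < 17867 → P i := stepQ 17866 Q17866 (allL N17866 (tt N19209 (iv F162974)) (tt N15955 F157052) (tt N19630 D35557) (tt N15952 (iv D33793)) (tt N19512 (iv F164540)) (tt N17866 F157053) (tt N15999 F157054) (tt N19631 D35558) (tt N19632 D35559) (tt N16593 F157055))
theorem Q17868 : ∀ i, i < 17868 → P i := stepQ 17867 Q17867 (allL N17867 (tt N19221 (iv F163029)) (tt N15956 F157056) (tt N17867 F157057) (tt N19631 (iv F165061)) (tt N15953 F157058) (tt N17867 F157059) (tt N19633 D35560) (tt N15952 (iv D33794)) (tt N19634 D35561) (tt N16601 F157060))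
theorem Q17869 : ∀ i, i < 17869 → P i := stepQ 17868 Q17868 (allL N17868 (tt N16236 F157061) (tt N15957 F157062) (tt N17868 F157063) (tt N19632 (iv F165066)) (tt N15954 F157064) (tt N16247 (iv F157066)) (tt N16001 F157065) (tt N19634 (iv F165078)) (tt N15952 (iv D33795)) (tt N19635 D35562))
theorem Q17870 : ∀ i, i < 17870 → P i := stepQ 17869 Q17869 (allL N17869 (tt N19404 (iv F164047)) (tt N15958 F157067) (tt N17869 F157068) (tt N19515 (iv F164552)) (tt N19633 (iv F165071)) (tt N19342 F163716) (tt N15953 (iv D33796)) (tt N16002 F157069) (tt N19636 D35563) (tt N16874 F157070))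
theorem Q17871 : ∀ i, i < 17871 → P i := stepQ 17870 Q17870 (allL N17870 (tt N16237 F157071) (tt N15959 F157072) (tt N17870 F157073) (tt N19516 (iv F164557)) (tt N19634 (iv F165077)) (tt N16182 F157074) (tt N19636 (iv F165091)) (tt N15954 F157075) (tt N15953 (iv D33797)) (tt N19637 D35564))
theorem Q17872 : ∀ i, i < 17872 → P i := stepQ 17871 Q17871 (allL N17871 (tt N15970 F157076) (tt N15960 F157077) (tt N17871 F157078) (tt N19517 (iv F164562)) (tt N19635 (iv F165083)) (tt N15969 F157079) (tt N16004 F157080) (tt N19637 (iv F165097)) (tt N16357 F157081) (tt N15954 (iv D33798)))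
theorem Q17873 : ∀ i, i < 17873 → P i := stepQ 17872 Q17872 (allL N17872 (tt N16891 F157082) (tt N19631 (iv F165060)) (tt N19249 (iv F163198)) (tt N15956 F157083) (tt N19518 (iv F164568)) (tt N17872 F157084) (tt N19638 D35565) (tt N15955 (iv D33799)) (tt N19639 D35566) (tt N19618 (iv F164985)))
theorem Q17874 : ∀ i, i < 17874 → P i := stepQ 17873 Q17873 (allL N17873 (tt N16892 F157085) (tt N19632 (iv F165065)) (tt N19250 (iv F163202)) (tt N15957 F157086) (tt N19519 (iv F164571)) (tt N18881 (iv F161136)) (tt N16006 F157087) (tt N19639 (iv F165104)) (tt N15955 (iv D33800)) (tt N19640 D35567))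
theorem Q17875 : ∀ i, i < 17875 → P i := stepQ 17874 Q17874 (allL N17874 (tt N16893 F157088) (tt N19633 (iv F165069)) (tt N15961 F157089) (tt N19638 (iv F165100)) (tt N15958 F157090) (tt N19641 D35568) (tt N15956 (iv D33801)) (tt N16007 F157091) (tt N19642 D35569) (tt N19620 (iv F164998)))
theorem Q17876 : ∀ i, i < 17876 → P i := stepQ 17875 Q17875 (allL N17875 (tt N16894 F157092) (tt N19634 (iv F165075)) (tt N15962 F157093) (tt N19639 (iv F165103)) (tt N15959 F157094) (tt N16234 (iv F157096)) (tt N19642 (iv F165119)) (tt N15957 F157095) (tt N15956 (iv D33802)) (tt N19643 D35570))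
theorem Q17877 : ∀ i, i < 17877 → P i := stepQ 17876 Q17876 (allL N17876 (tt N16895 F157097) (tt N19635 (iv F165081)) (tt N15964 F157098) (tt N19640 (iv F165108)) (tt N15960 F157099) (tt N16936 F157100) (tt N16009 F157101) (tt N19643 (iv F165126)) (tt N17012 F157102) (tt N15957 (iv D33803)))
theorem Q17878 : ∀ i, i < 17878 → P i := stepQ 17877 Q17877 (allL N17877 (tt N16896 F157103) (tt N19636 (iv F165088)) (tt N15965 F157104) (tt N19523 (iv F164587)) (tt N19642 (iv F165118)) (tt N16224 F157105) (tt N15959 F157106) (tt N16010 F157107) (tt N15958 (iv D33804)) (tt N19644 D35571))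
theorem Q17879 : ∀ i, i < 17879 → P i := stepQ 17878 Q17878 (allL N17878 (tt N16897 F157108) (tt N19637 (iv F165094)) (tt N15966 F157109) (tt N19524 (iv F164593)) (tt N19643 (iv F165124)) (tt N16183 F157110) (tt N19644 (iv F165131)) (tt N15960 F157111) (tt N19623 (iv F165017)) (tt N15959 (iv D33805)))
theorem Q17880 : ∀ i, i < 17880 → P i := stepQ 17879 Q17879 (allL N17879 (tt N16898 F157112) (tt N17879 F157113) (tt N19641 (iv F165113)) (tt N19255 (iv F163229)) (tt N19269 (iv F163318)) (tt N15961 (iv D33806)) (tt N17879 F157114) (tt N16012 F157115) (tt N19289 (iv F163428)) (tt N19624 (iv F165023)))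
theorem Q17881 : ∀ i, i < 17881 → P i := stepQ 17880 Q17880 (allL N17880 (tt N16899 F157116) (tt N17880 F157117) (tt N19642 (iv F165117)) (tt N19256 (iv F163234)) (tt N15965 F157118) (tt N16388 (iv F157121)) (tt N15962 F157119) (tt N16013 F157120) (tt N15961 (iv D33807)) (tt N19645 D35572))
theorem Q17882 : ∀ i, i < 17882 → P i := stepQ 17881 Q17881 (allL N17881 (tt N16900 F157122) (tt N17881 F157123) (tt N19643 (iv F165123)) (tt N17083 F157124) (tt N15966 F157125) (tt N16244 F157126) (tt N19645 (iv F165138)) (tt N15964 F157127) (tt N17041 F157128) (tt N15962 (iv D33808)))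
theorem Q17883 : ∀ i, i < 17883 → P i := stepQ 17882 Q17882 (allL N17882 (tt N16901 F157129) (tt N17882 F157130) (tt N19644 (iv F165129)) (tt N15968 F157131) (tt N19645 (iv F165136)) (tt N16242 F157132) (tt N15966 F157133) (tt N16016 F157134) (tt N19627 (iv F165044)) (tt N15965 (iv D33809)))
theorem Q17884 : ∀ i, i < 17884 → P i := stepQ 17883 Q17883 (allL N17883 (tt N16902 F157135) (tt N17883 F157136) (tt N19533 (iv F164625)) (tt N16385 F157137) (tt N15967 (iv D33810)) (tt N19259 (iv F163254)) (tt N16184 F157138) (tt N16017 F157139) (tt N16241 F157140) (tt N19225 (iv F163062)))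
theorem Q17885 : ∀ i, i < 17885 → P i := stepQ 17884 Q17884 (allL N17884 (tt N16903 F157141) (tt N17884 F157142) (tt N19471 (iv F164359)) (tt N16242 F157143) (tt N19225 (iv F163059)) (tt N15968 F157144) (tt N16185 F157145) (tt N16018 F157146) (tt N19224 (iv F163054)) (tt N15967 (iv D33811)))
theorem Q17886 : ∀ i, i < 17886 → P i := stepQ 17885 Q17885 (allL N17885 (tt N15971 F157147) (tt N16183 F157148) (tt N17885 F157149) (tt N19534 (iv F164631)) (tt N16025 F157150) (tt N19637 (iv F165096)) (tt N16204 F157151) (tt N15969 (iv D33812)) (tt N17885 F157152) (tt N16182 F157153))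
theorem Q17887 : ∀ i, i < 17887 → P i := stepQ 17886 Q17886 (allL N17886 (tt N19635 (iv F165080)) (tt N15972 F157154) (tt N17886 F157155) (tt N19646 D35573) (tt N15970 (iv D33813)) (tt N16026 F157156) (tt N18876 (iv F161099)) (tt N19647 D35574) (tt N16995 F157157) (tt N16236 F157158))
theorem Q17888 : ∀ i, i < 17888 → P i := stepQ 17887 Q17887 (allL N17887 (tt N19637 (iv F165093)) (tt N15973 F157159) (tt N17887 F157160) (tt N19536 (iv F164640)) (tt N19647 (iv F165148)) (tt N15971 F157161) (tt N19648 D35575) (tt N15970 (iv D33814)) (tt N18989 (iv F161771)) (tt N16237 F157162))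
theorem Q17889 : ∀ i, i < 17889 → P i := stepQ 17888 Q17888 (allL N17888 (tt N16469 F157163) (tt N19646 (iv F165141)) (tt N15980 F157164) (tt N15972 (iv D33815)) (tt N19537 (iv F164645)) (tt N16029 F157165) (tt N19129 (iv F162601)) (tt N19649 D35576) (tt N16424 F157166) (tt N16238 F157167))
theorem Q17890 : ∀ i, i < 17890 → P i := stepQ 17889 Q17889 (allL N17889 (tt N16904 F157168) (tt N19647 (iv F165146)) (tt N15975 F157169) (tt N19649 (iv F165157)) (tt N15973 F157170) (tt N16030 F157171) (tt N19650 D35577) (tt N15972 (iv D33816)) (tt N16997 F157172) (tt N16239 F157173))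
theorem Q17891 : ∀ i, i < 17891 → P i := stepQ 17890 Q17890 (allL N17890 (tt N16905 F157174) (tt N19648 (iv F165152)) (tt N15976 F157175) (tt N19540 (iv F164660)) (tt N19650 (iv F165163)) (tt N19262 (iv F163272)) (tt N15973 (iv D33817)) (tt N19559 (iv F164748)) (tt N19651 D35578) (tt N16240 F157176))
theorem Q17892 : ∀ i, i < 17892 → P i := stepQ 17891 Q17891 (allL N17891 (tt N16906 F157177) (tt N18989 (iv F161766)) (tt N15977 F157178) (tt N19541 (iv F164664)) (tt N16997 F157179) (tt N17891 F157180) (tt N19651 (iv F165169)) (tt N15974 F157181) (tt N15973 (iv D33818)) (tt N18925 (iv F161413)))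
theorem Q17893 : ∀ i, i < 17893 → P i := stepQ 17892 Q17892 (allL N17892 (tt N16907 F157182) (tt N17892 F157183) (tt N19650 (iv F165162)) (tt N15983 F157184) (tt N15976 F157185) (tt N19652 D35579) (tt N15975 (iv D33819)) (tt N19268 (iv F163314)) (tt N16998 F157186) (tt N16241 F157187))
theorem Q17894 : ∀ i, i < 17894 → P i := stepQ 17893 Q17893 (allL N17893 (tt N16908 F157188) (tt N17893 F157189) (tt N19651 (iv F165167)) (tt N15978 F157190) (tt N16998 F157191) (tt N19653 D35580) (tt N15977 F157192) (tt N19267 (iv F163306)) (tt N15976 (iv D33820)) (tt N19224 (iv F163055)))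
theorem Q17895 : ∀ i, i < 17895 → P i := stepQ 17894 Q17894 (allL N17894 (tt N16909 F157193) (tt N17894 F157194) (tt N19548 (iv F164692)) (tt N19653 (iv F165177)) (tt N19654 D35581) (tt N15978 (iv D33821)) (tt N17894 F157195) (tt N19617 (iv F164979)) (tt N19264 (iv F163288)) (tt N19655 D35582))
theorem Q17896 : ∀ i, i < 17896 → P i := stepQ 17895 Q17895 (allL N17895 (tt N16910 F157196) (tt N17895 F157197) (tt N19549 (iv F164695)) (tt N19224 (iv F163051)) (tt N15985 F157198) (tt N19655 (iv F165189)) (tt N15979 F157199) (tt N19263 (iv F163280)) (tt N16242 F157200) (tt N15978 (iv D33822)))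
theorem Q17897 : ∀ i, i < 17897 → P i := stepQ 17896 Q17896 (allL N17896 (tt N16473 F157201) (tt N19026 (iv F162015)) (tt N19649 (iv F165156)) (tt N15981 F157202) (tt N19550 (iv F164701)) (tt N16036 F157203) (tt N19656 D35583) (tt N15980 (iv D33823)) (tt N16427 F157204) (tt N16378 F157205))
theorem Q17898 : ∀ i, i < 17898 → P i := stepQ 17897 Q17897 (allL N17897 (tt N16474 F157206) (tt N19027 (iv F162022)) (tt N15983 F157207) (tt N19656 (iv F165192)) (tt N15982 F157208) (tt N19657 D35584) (tt N15981 (iv D33824)) (tt N19134 (iv F162632)) (tt N16428 F157209) (tt N16380 F157210))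
theorem Q17899 : ∀ i, i < 17899 → P i := stepQ 17898 Q17898 (allL N17898 (tt N16911 F157211) (tt N17898 F157212) (tt N19657 (iv F165196)) (tt N19652 (iv F165172)) (tt N16012 F157213) (tt N15983 (iv D33825)) (tt N16038 F157214) (tt N19269 (iv F163320)) (tt N19238 (iv F163142)) (tt N16384 F157215))
theorem Q17900 : ∀ i, i < 17900 → P i := stepQ 17899 Q17899 (allL N17899 (tt N16912 F157216) (tt N17899 F157217) (tt N19558 (iv F164740)) (tt N16370 F157218) (tt N15984 (iv D33826)) (tt N19654 (iv F165183)) (tt N16019 F157219) (tt N16241 F157220) (tt N16017 F157221) (tt N19268 (iv F163315)))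
theorem Q17901 : ∀ i, i < 17901 → P i := stepQ 17900 Q17900 (allL N17900 (tt N16913 F157222) (tt N16592 F157223) (tt N19279 (iv F163368)) (tt N15987 F157224) (tt N19560 (iv F164752)) (tt N16039 F157225) (tt N19658 D35585) (tt N15986 (iv D33827)) (tt N19659 D35586) (tt N16005 F157226))
theorem Q17902 : ∀ i, i < 17902 → P i := stepQ 17901 Q17901 (allL N17901 (tt N16525 F157227) (tt N16227 F157228) (tt N19280 (iv F163373)) (tt N15988 F157229) (tt N19561 (iv F164758)) (tt N16201 F157230) (tt N19619 (iv F164990)) (tt N19659 (iv F165208)) (tt N15986 (iv D33828)) (tt N19660 D35587))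
theorem Q17903 : ∀ i, i < 17903 → P i := stepQ 17902 Q17902 (allL N17902 (tt N16914 F157231) (tt N16600 F157232) (tt N15992 F157233) (tt N19658 (iv F165202)) (tt N15989 F157234) (tt N19661 D35588) (tt N15987 (iv D33829)) (tt N19620 (iv F164997)) (tt N19662 D35589) (tt N16007 F157235))
theorem Q17904 : ∀ i, i < 17904 → P i := stepQ 17903 Q17903 (allL N17903 (tt N16655 F157236) (tt N16230 F157237) (tt N15993 F157238) (tt N19659 (iv F165206)) (tt N15990 F157239) (tt N16205 F157240) (tt N19662 (iv F165226)) (tt N15988 F157241) (tt N15987 (iv D33830)) (tt N19663 D35590))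
theorem Q17905 : ∀ i, i < 17905 → P i := stepQ 17904 Q17904 (allL N17904 (tt N16646 F157242) (tt N16233 F157243) (tt N15994 F157244) (tt N19660 (iv F165212)) (tt N15991 F157245) (tt N16206 F157246) (tt N17012 F157247) (tt N19663 (iv F165233)) (tt N16009 F157248) (tt N15988 (iv D33831)))
theorem Q17906 : ∀ i, i < 17906 → P i := stepQ 17905 Q17905 (allL N17905 (tt N16915 F157249) (tt N16354 F157250) (tt N15995 F157251) (tt N19565 (iv F164780)) (tt N19662 (iv F165225)) (tt N19664 D35591) (tt N15990 F157252) (tt N19622 (iv F165010)) (tt N15989 (iv D33832)) (tt N19665 D35592))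
theorem Q17907 : ∀ i, i < 17907 → P i := stepQ 17906 Q17906 (allL N17906 (tt N16916 F157253) (tt N16355 F157254) (tt N15996 F157255) (tt N19566 (iv F164785)) (tt N19663 (iv F165231)) (tt N16093 F157256) (tt N19665 (iv F165243)) (tt N15991 F157257) (tt N16011 F157258) (tt N15990 (iv D33833)))
theorem Q17908 : ∀ i, i < 17908 → P i := stepQ 17907 Q17907 (allL N17907 (tt N16917 F157259) (tt N17907 F157260) (tt N19661 (iv F165218)) (tt N19285 (iv F163399)) (tt N16384 F157261) (tt N15992 (iv D33834)) (tt N16041 F157262) (tt N19624 (iv F165022)) (tt N19666 D35593) (tt N16012 F157263))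
theorem Q17909 : ∀ i, i < 17909 → P i := stepQ 17908 Q17908 (allL N17908 (tt N16918 F157264) (tt N17908 F157265) (tt N19662 (iv F165224)) (tt N19286 (iv F163406)) (tt N15995 F157266) (tt N17082 (iv F157268)) (tt N15993 F157267) (tt N19625 (iv F165029)) (tt N15992 (iv D33835)) (tt N19667 D35594))
theorem Q17910 : ∀ i, i < 17910 → P i := stepQ 17909 Q17909 (allL N17909 (tt N16919 F157269) (tt N17909 F157270) (tt N19663 (iv F165230)) (tt N17056 F157271) (tt N15996 F157272) (tt N17023 F157273) (tt N19667 (iv F165257)) (tt N15994 F157274) (tt N16014 F157275) (tt N15993 (iv D33836)))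
theorem Q17911 : ∀ i, i < 17911 → P i := stepQ 17910 Q17910 (allL N17910 (tt N16920 F157276) (tt N17910 F157277) (tt N19664 (iv F165237)) (tt N15997 F157278) (tt N19668 D35595) (tt N15995 (iv D33837)) (tt N16096 F157279) (tt N19626 (iv F165036)) (tt N16386 F157280) (tt N19669 D35596))
theorem Q17912 : ∀ i, i < 17912 → P i := stepQ 17911 Q17911 (allL N17911 (tt N16921 F157281) (tt N17911 F157282) (tt N19665 (iv F165242)) (tt N15998 F157283) (tt N19667 (iv F165255)) (tt N19669 (iv F165268)) (tt N15996 F157284) (tt N19627 (iv F165043)) (tt N16016 F157285) (tt N15995 (iv D33838)))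
theorem Q17913 : ∀ i, i < 17913 → P i := stepQ 17912 Q17912 (allL N17912 (tt N16922 F157286) (tt N17912 F157287) (tt N19575 (iv F164822)) (tt N19670 D35597) (tt N15997 (iv D33839)) (tt N19289 (iv F163425)) (tt N16098 F157288) (tt N19628 (iv F165049)) (tt N16388 F157289) (tt N19310 (iv F163513)))
theorem Q17914 : ∀ i, i < 17914 → P i := stepQ 17913 Q17913 (allL N17913 (tt N16923 F157290) (tt N17913 F157291) (tt N19576 (iv F164826)) (tt N19669 (iv F165267)) (tt N19310 (iv F163511)) (tt N15998 F157292) (tt N16099 F157293) (tt N19629 (iv F165055)) (tt N19270 (iv F163327)) (tt N15997 (iv D33840)))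
theorem Q17915 : ∀ i, i < 17915 → P i := stepQ 17914 Q17914 (allL N17914 (tt N19202 (iv F162946)) (tt N19295 (iv F163450)) (tt N15999 (iv D33841)) (tt N17914 F157294) (tt N19578 (iv F164833)) (tt N16043 F157295) (tt N19630 (iv F165058)) (tt N19671 D35598) (tt N19672 D35599) (tt N16587 F157296))
theorem Q17916 : ∀ i, i < 17916 → P i := stepQ 17915 Q17915 (allL N17915 (tt N19207 (iv F162966)) (tt N16005 F157297) (tt N19671 (iv F165275)) (tt N16000 F157298) (tt N19579 (iv F164838)) (tt N16044 F157299) (tt N19673 D35600) (tt N15999 (iv D33842)) (tt N19674 D35601) (tt N16592 F157300))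
theorem Q17917 : ∀ i, i < 17917 → P i := stepQ 17916 Q17916 (allL N17916 (tt N19210 (iv F162980)) (tt N16006 F157301) (tt N19672 (iv F165279)) (tt N16001 F157302) (tt N19580 (iv F164843)) (tt N17916 F157303) (tt N19632 (iv F165067)) (tt N19674 (iv F165288)) (tt N15999 (iv D33843)) (tt N19675 D35602))
theorem Q17918 : ∀ i, i < 17918 → P i := stepQ 17917 Q17917 (allL N17917 (tt N19219 (iv F163018)) (tt N16007 F157304) (tt N17917 F157305) (tt N19673 (iv F165283)) (tt N16002 F157306) (tt N19676 D35603) (tt N16000 (iv D33844)) (tt N19633 (iv F165072)) (tt N19677 D35604) (tt N16600 F157307))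
theorem Q17919 : ∀ i, i < 17919 → P i := stepQ 17918 Q17918 (allL N17918 (tt N19220 (iv F163023)) (tt N16008 F157308) (tt N17918 F157309) (tt N19674 (iv F165286)) (tt N16003 F157310) (tt N17918 F157311) (tt N19677 (iv F165300)) (tt N16001 F157312) (tt N16000 (iv D33845)) (tt N19678 D35605))
theorem Q17920 : ∀ i, i < 17920 → P i := stepQ 17919 Q17919 (allL N17919 (tt N18876 (iv F161094)) (tt N16009 F157313) (tt N17919 F157314) (tt N19675 (iv F165290)) (tt N16004 F157315) (tt N17919 F157316) (tt N19635 (iv F165085)) (tt N19678 (iv F165305)) (tt N16233 F157317) (tt N16001 (iv D33846)))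
theorem Q17921 : ∀ i, i < 17921 → P i := stepQ 17920 Q17920 (allL N17920 (tt N19427 (iv F164167)) (tt N16010 F157318) (tt N17920 F157319) (tt N19585 (iv F164857)) (tt N19677 (iv F165299)) (tt N19353 (iv F163783)) (tt N16003 F157320) (tt N19636 (iv F165092)) (tt N16002 (iv D33847)) (tt N19679 D35606))
theorem Q17922 : ∀ i, i < 17922 → P i := stepQ 17921 Q17921 (allL N17921 (tt N18988 (iv F161759)) (tt N16011 F157321) (tt N17921 F157322) (tt N19586 (iv F164860)) (tt N19678 (iv F165303)) (tt N16020 F157323) (tt N19679 (iv F165309)) (tt N16004 F157324) (tt N16355 F157325) (tt N16003 (iv D33848)))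
theorem Q17923 : ∀ i, i < 17923 → P i := stepQ 17922 Q17922 (allL N17922 (tt N16925 F157326) (tt N19673 (iv F165282)) (tt N19302 (iv F163476)) (tt N16007 F157327) (tt N19587 (iv F164866)) (tt N19680 D35607) (tt N16005 (iv D33849)) (tt N19638 (iv F165101)) (tt N19681 D35608) (tt N19658 (iv F165203)))
theorem Q17924 : ∀ i, i < 17924 → P i := stepQ 17923 Q17923 (allL N17923 (tt N16926 F157328) (tt N19674 (iv F165285)) (tt N19303 (iv F163479)) (tt N16008 F157329) (tt N19588 (iv F164869)) (tt N17923 F157330) (tt N19681 (iv F165316)) (tt N16006 F157331) (tt N16005 (iv D33850)) (tt N19682 D35609))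
theorem Q17925 : ∀ i, i < 17925 → P i := stepQ 17924 Q17924 (allL N17924 (tt N16927 F157332) (tt N19675 (iv F165289)) (tt N19304 (iv F163484)) (tt N16009 F157333) (tt N19590 (iv F164876)) (tt N17924 F157334) (tt N19640 (iv F165110)) (tt N19682 (iv F165320)) (tt N19660 (iv F165215)) (tt N16006 (iv D33851)))
theorem Q17926 : ∀ i, i < 17926 → P i := stepQ 17925 Q17925 (allL N17925 (tt N16928 F157335) (tt N19676 (iv F165293)) (tt N16012 F157336) (tt N19680 (iv F165312)) (tt N19657 (iv F165197)) (tt N16007 (iv D33852)) (tt N16047 F157337) (tt N19641 (iv F165115)) (tt N19683 D35610) (tt N19661 (iv F165221)))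
theorem Q17927 : ∀ i, i < 17927 → P i := stepQ 17926 Q17926 (allL N17926 (tt N16929 F157338) (tt N19677 (iv F165297)) (tt N16013 F157339) (tt N19681 (iv F165315)) (tt N16010 F157340) (tt N19684 D35611) (tt N16008 F157341) (tt N19642 (iv F165120)) (tt N16007 (iv D33853)) (tt N19685 D35612))
theorem Q17928 : ∀ i, i < 17928 → P i := stepQ 17927 Q17927 (allL N17927 (tt N16930 F157342) (tt N19678 (iv F165301)) (tt N16014 F157343) (tt N19682 (iv F165318)) (tt N16011 F157344) (tt N17927 F157345) (tt N19685 (iv F165332)) (tt N16009 F157346) (tt N19663 (iv F165234)) (tt N16008 (iv D33854)))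
theorem Q17929 : ∀ i, i < 17929 → P i := stepQ 17928 Q17928 (allL N17928 (tt N16752 F157347) (tt N19353 (iv F163780)) (tt N16015 F157348) (tt N19596 (iv F164896)) (tt N16315 (iv F157352)) (tt N16010 (iv D33855)) (tt N16021 F157349) (tt N16224 F157350) (tt N16211 F157351) (tt N19686 D35613))
theorem Q17930 : ∀ i, i < 17930 → P i := stepQ 17929 Q17929 (allL N17929 (tt N16931 F157353) (tt N19679 (iv F165307)) (tt N16016 F157354) (tt N19597 (iv F164902)) (tt N19685 (iv F165331)) (tt N19686 (iv F165336)) (tt N16011 F157355) (tt N19644 (iv F165132)) (tt N19665 (iv F165244)) (tt N16010 (iv D33856)))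
theorem Q17931 : ∀ i, i < 17931 → P i := stepQ 17930 Q17930 (allL N17930 (tt N16932 F157356) (tt N17930 F157357) (tt N19683 (iv F165322)) (tt N19310 (iv F163510)) (tt N19238 F163143) (tt N19628 (iv F165047)) (tt N16048 F157358) (tt N19289 (iv F163427)) (tt N16012 (iv D33857)) (tt N19670 (iv F165274)))
theorem Q17932 : ∀ i, i < 17932 → P i := stepQ 17931 Q17931 (allL N17931 (tt N16933 F157359) (tt N17931 F157360) (tt N19684 (iv F165325)) (tt N19311 (iv F163516)) (tt N16372 F157361) (tt N16013 (iv D33858)) (tt N17931 F157362) (tt N16388 F157363) (tt N19628 (iv F165050)) (tt N19687 D35614))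
theorem Q17933 : ∀ i, i < 17933 → P i := stepQ 17932 Q17932 (allL N17932 (tt N16934 F157364) (tt N17932 F157365) (tt N19685 (iv F165330)) (tt N19312 (iv F163521)) (tt N16016 F157366) (tt N19687 (iv F165342)) (tt N16014 F157367) (tt N19645 (iv F165139)) (tt N19667 (iv F165259)) (tt N16013 (iv D33859)))
theorem Q17934 : ∀ i, i < 17934 → P i := stepQ 17933 Q17933 (allL N17933 (tt N16935 F157368) (tt N17933 F157369) (tt N19686 (iv F165334)) (tt N16018 F157370) (tt N16373 F157371) (tt N16016 F157372) (tt N16023 F157373) (tt N16242 F157374) (tt N19263 (iv F163281)) (tt N16015 (iv D33860)))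
theorem Q17935 : ∀ i, i < 17935 → P i := stepQ 17934 Q17934 (allL N17934 (tt N16753 F157375) (tt N19354 (iv F163787)) (tt N16023 F157376) (tt N19467 (iv F164338)) (tt N16316 F157377) (tt N16022 F157378) (tt N19686 (iv F165337)) (tt N16186 F157379) (tt N18895 (iv F161230)) (tt N16021 (iv D33861)))
theorem Q17936 : ∀ i, i < 17936 → P i := stepQ 17935 Q17935 (allL N17935 (tt N16026 F157380) (tt N16936 F157381) (tt N17935 F157382) (tt N19688 D35615) (tt N16024 (iv D33862)) (tt N19635 (iv F165084)) (tt N17935 F157383) (tt N19689 D35616) (tt N17008 (iv F157385)) (tt N16247 F157384))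
theorem Q17937 : ∀ i, i < 17937 → P i := stepQ 17936 Q17936 (allL N17936 (tt N16027 F157386) (tt N16235 F157387) (tt N17936 F157388) (tt N16715 F157389) (tt N19689 (iv F165355)) (tt N16025 F157390) (tt N16295 (iv F157392)) (tt N16024 (iv D33863)) (tt N19690 D35617) (tt N16208 F157391))
theorem Q17938 : ∀ i, i < 17938 → P i := stepQ 17937 Q17937 (allL N17937 (tt N16028 F157393) (tt N16937 F157394) (tt N17937 F157395) (tt N16716 F157396) (tt N17008 F157397) (tt N17937 F157398) (tt N17937 F157399) (tt N19690 (iv F165366)) (tt N16024 (iv D33864)) (tt N17937 F157400))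
theorem Q17939 : ∀ i, i < 17939 → P i := stepQ 17938 Q17938 (allL N17938 (tt N19688 (iv F165345)) (tt N16029 F157401) (tt N16479 (iv F157406)) (tt N16026 (iv D33865)) (tt N16477 F157402) (tt N19646 (iv F165142)) (tt N17938 F157403) (tt N19691 D35618) (tt N16429 F157404) (tt N16248 F157405))
theorem Q17940 : ∀ i, i < 17940 → P i := stepQ 17939 Q17939 (allL N17939 (tt N19689 (iv F165352)) (tt N16030 F157407) (tt N17939 F157408) (tt N19691 (iv F165370)) (tt N16027 F157409) (tt N19647 (iv F165149)) (tt N19692 D35619) (tt N16026 (iv D33866)) (tt N17010 F157410) (tt N16249 F157411))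
theorem Q17941 : ∀ i, i < 17941 → P i := stepQ 17940 Q17940 (allL N17940 (tt N16295 F157412) (tt N16031 F157413) (tt N17940 F157414) (tt N16718 F157415) (tt N19692 (iv F165377)) (tt N16267 F157416) (tt N16027 (iv D33867)) (tt N17940 F157417) (tt N19693 D35620) (tt N16250 F157418))
theorem Q17942 : ∀ i, i < 17942 → P i := stepQ 17941 Q17941 (allL N17941 (tt N19690 (iv F165359)) (tt N16032 F157419) (tt N17941 F157420) (tt N16719 F157421) (tt N17010 F157422) (tt N17941 F157423) (tt N19693 (iv F165387)) (tt N16028 F157424) (tt N16027 (iv D33868)) (tt N17941 F157425))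
theorem Q17943 : ∀ i, i < 17943 → P i := stepQ 17942 Q17942 (allL N17942 (tt N16492 F157426) (tt N19691 (iv F165368)) (tt N16036 F157427) (tt N16030 F157428) (tt N16720 F157429) (tt N19649 (iv F165158)) (tt N19694 D35621) (tt N16029 (iv D33869)) (tt N16432 F157430) (tt N16251 F157431))
theorem Q17944 : ∀ i, i < 17944 → P i := stepQ 17943 Q17943 (allL N17943 (tt N16940 F157432) (tt N19692 (iv F165375)) (tt N16033 F157433) (tt N19694 (iv F165392)) (tt N16031 F157434) (tt N19695 D35622) (tt N16030 (iv D33870)) (tt N17943 F157435) (tt N17011 F157436) (tt N16252 F157437))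
theorem Q17945 : ∀ i, i < 17945 → P i := stepQ 17944 Q17944 (allL N17944 (tt N16941 F157438) (tt N19693 (iv F165382)) (tt N16034 F157439) (tt N16723 F157440) (tt N17011 F157441) (tt N19017 (iv F161954)) (tt N16032 F157442) (tt N17944 F157443) (tt N16031 (iv D33871)) (tt N17944 F157444))
theorem Q17946 : ∀ i, i < 17946 → P i := stepQ 17945 Q17945 (allL N17945 (tt N16942 F157445) (tt N17945 F157446) (tt N19695 (iv F165398)) (tt N16038 F157447) (tt N19319 (iv F163563)) (tt N16033 (iv D33872)) (tt N19652 (iv F165173)) (tt N17945 F157448) (tt N19696 D35623) (tt N16253 F157449))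
theorem Q17947 : ∀ i, i < 17947 → P i := stepQ 17946 Q17946 (allL N17946 (tt N16943 F157450) (tt N17946 F157451) (tt N19017 (iv F161951)) (tt N16035 F157452) (tt N19697 D35624) (tt N16034 (iv D33873)) (tt N17946 F157453) (tt N17946 F157454) (tt N18858 F160977) (tt N17946 F157455))
theorem Q17948 : ∀ i, i < 17948 → P i := stepQ 17947 Q17947 (allL N17947 (tt N16494 F157456) (tt N19028 (iv F162029)) (tt N19694 (iv F165391)) (tt N16037 F157457) (tt N16945 F157458) (tt N19698 D35625) (tt N16036 (iv D33874)) (tt N17947 F157459) (tt N16434 F157460) (tt N16403 F157461))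
theorem Q17949 : ∀ i, i < 17949 → P i := stepQ 17948 Q17948 (allL N17948 (tt N16495 F157462) (tt N19029 (iv F162037)) (tt N16038 F157463) (tt N19698 (iv F165418)) (tt N16047 F157464) (tt N16037 (iv D33875)) (tt N19657 (iv F165198)) (tt N17948 F157465) (tt N19699 D35626) (tt N16404 F157466))
theorem Q17950 : ∀ i, i < 17950 → P i := stepQ 17949 Q17949 (allL N17949 (tt N16944 F157467) (tt N17949 F157468) (tt N19699 (iv F165423)) (tt N19696 (iv F165403)) (tt N16048 F157469) (tt N17006 F157470) (tt N19238 (iv F163140)) (tt N17949 F157471) (tt N16038 (iv D33876)) (tt N19700 D35627))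
theorem Q17951 : ∀ i, i < 17951 → P i := stepQ 17950 Q17950 (allL N17950 (tt N16945 F157472) (tt N16591 F157473) (tt N19325 (iv F163605)) (tt N16040 F157474) (tt N16494 F157475) (tt N19701 D35628) (tt N16039 (iv D33877)) (tt N17950 F157476) (tt N16493 F157477) (tt N16046 F157478))
theorem Q17952 : ∀ i, i < 17952 → P i := stepQ 17951 Q17951 (allL N17951 (tt N16946 F157479) (tt N16599 F157480) (tt N16041 F157481) (tt N19701 (iv F165436)) (tt N16404 F157482) (tt N16040 (iv D33878)) (tt N19661 (iv F165220)) (tt N17951 F157483) (tt N19702 D35629) (tt N16047 F157484))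
theorem Q17953 : ∀ i, i < 17953 → P i := stepQ 17952 Q17952 (allL N17952 (tt N16947 F157485) (tt N17952 F157486) (tt N19702 (iv F165441)) (tt N16395 F157487) (tt N16405 F157488) (tt N16398 F157489) (tt N19666 (iv F165250)) (tt N17952 F157490) (tt N16041 (iv D33879)) (tt N16394 (iv F157491)))
theorem Q17954 : ∀ i, i < 17954 → P i := stepQ 17953 Q17953 (allL N17953 (tt N19200 (iv F162933)) (tt N19330 (iv F163638)) (tt N16044 F157492) (tt N17953 F157493) (tt N16589 F157494) (tt N19671 (iv F165277)) (tt N19703 D35630) (tt N16043 (iv D33880)) (tt N17953 F157495) (tt N16586 F157496))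
theorem Q17955 : ∀ i, i < 17955 → P i := stepQ 17954 Q17954 (allL N17954 (tt N19066 (iv F162246)) (tt N16046 F157497) (tt N19703 (iv F165446)) (tt N16045 F157498) (tt N16595 F157499) (tt N19704 D35631) (tt N16044 (iv D33881)) (tt N17954 F157500) (tt N17954 F157501) (tt N16591 F157502))
theorem Q17956 : ∀ i, i < 17956 → P i := stepQ 17955 Q17955 (allL N17955 (tt N19061 (iv F162213)) (tt N16047 F157503) (tt N17955 F157504) (tt N19704 (iv F165453)) (tt N19029 (iv F162039)) (tt N16045 (iv D33882)) (tt N19676 (iv F165295)) (tt N17955 F157505) (tt N19705 D35632) (tt N16599 F157506))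
theorem Q17957 : ∀ i, i < 17957 → P i := stepQ 17956 Q17956 (allL N17956 (tt N16948 F157507) (tt N19704 (iv F165452)) (tt N19331 (iv F163645)) (tt N16047 F157508) (tt N19706 D35633) (tt N16046 (iv D33883)) (tt N19680 (iv F165313)) (tt N17956 F157509) (tt N19707 D35634) (tt N19701 (iv F165438)))
theorem Q17958 : ∀ i, i < 17958 → P i := stepQ 17957 Q17957 (allL N17957 (tt N16949 F157510) (tt N19705 (iv F165457)) (tt N16048 F157511) (tt N19707 (iv F165465)) (tt N19699 (iv F165424)) (tt N17957 F157512) (tt N19683 (iv F165323)) (tt N17957 F157513) (tt N16047 (iv D33884)) (tt N19708 D35635))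
theorem Q17959 : ∀ i, i < 17959 → P i := stepQ 17958 Q17958 (allL N17958 (tt N16950 F157514) (tt N17958 F157515) (tt N19708 (iv F165469)) (tt N16098 F157516) (tt N19700 (iv F165430)) (tt N17958 F157517) (tt N19670 (iv F165272)) (tt N17958 F157518) (tt N16394 F157519) (tt N16048 (iv D33885)))
theorem Q17960 : ∀ i, i < 17960 → P i := stepQ 17959 Q17959 (allL N17959 (tt N16065 F157520) (tt N16081 F157521) (tt N16052 F157522) (tt N17959 F157523) (tt N16070 F157524) (tt N19359 (iv F163822)) (tt N17959 F157525) (tt N19605 (iv F164923)) (tt N16049 (iv D33886)) (tt N16067 F157526))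
theorem Q17961 : ∀ i, i < 17961 → P i := stepQ 17960 Q17960 (allL N17960 (tt N16067 F157527) (tt N16339 F157528) (tt N16070 F157529) (tt N17960 F157530) (tt N16052 F157531) (tt N19434 (iv F164204)) (tt N17960 F157532) (tt N19611 (iv F164954)) (tt N16050 (iv D33887)) (tt N16065 F157533))
theorem Q17962 : ∀ i, i < 17962 → P i := stepQ 17961 Q17961 (allL N17961 (tt N16068 F157534) (tt N16416 F157535) (tt N16959 F157536) (tt N16053 F157537) (tt N18965 (iv F161636)) (tt N16260 F157538) (tt N16051 (iv D33888)) (tt N17961 F157539) (tt N19709 D35636) (tt N16058 F157540))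
theorem Q17963 : ∀ i, i < 17963 → P i := stepQ 17962 Q17962 (allL N17962 (tt N16069 F157541) (tt N16341 F157542) (tt N19605 (iv F164919)) (tt N16054 F157543) (tt N19611 (iv F164953)) (tt N19363 (iv F163846)) (tt N19709 (iv F165477)) (tt N16052 F157544) (tt N16051 (iv D33889)) (tt N16335 F157545))
theorem Q17964 : ∀ i, i < 17964 → P i := stepQ 17963 Q17963 (allL N17963 (tt N16071 F157546) (tt N16391 F157547) (tt N17963 F157548) (tt N19709 (iv F165476)) (tt N17963 F157549) (tt N19710 D35637) (tt N16054 F157550) (tt N17963 F157551) (tt N16053 (iv D33890)) (tt N16351 F157552))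
theorem Q17965 : ∀ i, i < 17965 → P i := stepQ 17964 Q17964 (allL N17964 (tt N16959 F157553) (tt N16336 F157554) (tt N16068 F157555) (tt N17964 F157556) (tt N16334 F157557) (tt N16078 F157558) (tt N16064 (iv D33891)) (tt N17964 F157559) (tt N19711 D35638) (tt N16072 F157560))
theorem Q17966 : ∀ i, i < 17966 → P i := stepQ 17965 Q17965 (allL N17965 (tt N19605 (iv F164917)) (tt N16337 F157561) (tt N16069 F157562) (tt N17965 F157563) (tt N16335 F157564) (tt N19433 (iv F164198)) (tt N19711 (iv F165491)) (tt N16065 F157565) (tt N16064 (iv D33892)) (tt N19611 (iv F164955)))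
theorem Q17967 : ∀ i, i < 17967 → P i := stepQ 17966 Q17966 (allL N17966 (tt N18965 (iv F161632)) (tt N16078 F157566) (tt N16334 F157567) (tt N17966 F157568) (tt N16068 F157569) (tt N16336 F157570) (tt N16066 (iv D33893)) (tt N17966 F157571) (tt N19712 D35639) (tt N16073 F157572))
theorem Q17968 : ∀ i, i < 17968 → P i := stepQ 17967 Q17967 (allL N17967 (tt N19611 (iv F164949)) (tt N16079 F157573) (tt N16335 F157574) (tt N17967 F157575) (tt N16069 F157576) (tt N19713 D35640) (tt N19712 (iv F165497)) (tt N16067 F157577) (tt N16066 (iv D33894)) (tt N19605 (iv F164924)))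
theorem Q17969 : ∀ i, i < 17969 → P i := stepQ 17968 Q17968 (allL N17968 (tt N19434 (iv F164200)) (tt N16080 F157578) (tt N16319 F157579) (tt N17968 F157580) (tt N19437 (iv F164214)) (tt N16067 (iv D33895)) (tt N19714 D35641) (tt N19713 (iv F165503)) (tt N16277 F157581) (tt N19359 (iv F163824)))
theorem Q17970 : ∀ i, i < 17970 → P i := stepQ 17969 Q17969 (allL N17969 (tt N19709 (iv F165473)) (tt N16082 F157582) (tt N19711 (iv F165488)) (tt N16071 F157583) (tt N19712 (iv F165496)) (tt N19715 D35642) (tt N16069 F157584) (tt N17969 F157585) (tt N16068 (iv D33896)) (tt N18970 (iv F161675)))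
theorem Q17971 : ∀ i, i < 17971 → P i := stepQ 17970 Q17970 (allL N17970 (tt N19710 (iv F165480)) (tt N16084 F157586) (tt N17970 F157587) (tt N19715 (iv F165512)) (tt N19716 D35643) (tt N16071 (iv D33897)) (tt N19441 (iv F164231)) (tt N17970 F157588) (tt N16290 F157589) (tt N18982 (iv F161737)))
theorem Q17972 : ∀ i, i < 17972 → P i := stepQ 17971 Q17971 (allL N17971 (tt N16957 F157590) (tt N16342 F157591) (tt N16082 F157592) (tt N16092 F157593) (tt N16288 F157594) (tt N19717 D35644) (tt N16076 F157595) (tt N17971 F157596) (tt N16075 (iv D33898)) (tt N19718 D35645))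
theorem Q17973 : ∀ i, i < 17973 → P i := stepQ 17972 Q17972 (allL N17972 (tt N16958 F157597) (tt N16344 F157598) (tt N16083 F157599) (tt N16093 F157600) (tt N16289 F157601) (tt N19566 (iv F164786)) (tt N19718 (iv F165531)) (tt N16077 F157602) (tt N16087 F157603) (tt N16076 (iv D33899)))
theorem Q17974 : ∀ i, i < 17974 → P i := stepQ 17973 Q17973 (allL N17973 (tt N16960 F157604) (tt N19712 (iv F165493)) (tt N16288 F157605) (tt N17973 F157606) (tt N16082 F157607) (tt N19719 D35646) (tt N16079 F157608) (tt N17973 F157609) (tt N16078 (iv D33900)) (tt N19720 D35647))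
theorem Q17975 : ∀ i, i < 17975 → P i := stepQ 17974 Q17974 (allL N17974 (tt N16961 F157610) (tt N19713 (iv F165500)) (tt N16284 F157611) (tt N17974 F157612) (tt N19569 (iv F164798)) (tt N16079 (iv D33901)) (tt N19721 D35648) (tt N16080 F157613) (tt N16280 F157614) (tt N19722 D35649))
theorem Q17976 : ∀ i, i < 17976 → P i := stepQ 17975 Q17975 (allL N17975 (tt N16962 F157615) (tt N19605 (iv F164918)) (tt N16289 F157616) (tt N17975 F157617) (tt N16083 F157618) (tt N19722 (iv F165553)) (tt N19720 (iv F165543)) (tt N16081 F157619) (tt N16089 F157620) (tt N16079 (iv D33902)))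
theorem Q17977 : ∀ i, i < 17977 → P i := stepQ 17976 Q17976 (allL N17976 (tt N16963 F157621) (tt N19714 (iv F165505)) (tt N16273 F157622) (tt N17976 F157623) (tt N19571 (iv F164807)) (tt N17976 F157624) (tt N16080 (iv D33903)) (tt N19723 D35650) (tt N16269 F157625) (tt N19724 D35651))
theorem Q17978 : ∀ i, i < 17978 → P i := stepQ 17977 Q17977 (allL N17977 (tt N16964 F157626) (tt N19359 (iv F163819)) (tt N16285 F157627) (tt N17977 F157628) (tt N19572 (iv F164811)) (tt N16081 F157629) (tt N19724 (iv F165565)) (tt N19722 (iv F165554)) (tt N19355 (iv F163798)) (tt N16080 (iv D33904)))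
theorem Q17979 : ∀ i, i < 17979 → P i := stepQ 17978 Q17978 (allL N17978 (tt N16965 F157630) (tt N19715 (iv F165511)) (tt N19717 (iv F165522)) (tt N16084 F157631) (tt N19725 D35652) (tt N16082 (iv D33905)) (tt N19573 (iv F164815)) (tt N17978 F157632) (tt N16347 F157633) (tt N19726 D35653))
theorem Q17980 : ∀ i, i < 17980 → P i := stepQ 17979 Q17979 (allL N17979 (tt N16966 F157634) (tt N18970 (iv F161670)) (tt N19718 (iv F165528)) (tt N16085 F157635) (tt N19720 (iv F165542)) (tt N19726 (iv F165572)) (tt N16083 F157636) (tt N17979 F157637) (tt N16090 F157638) (tt N16082 (iv D33906)))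
theorem Q17981 : ∀ i, i < 17981 → P i := stepQ 17980 Q17980 (allL N17980 (tt N16967 F157639) (tt N19716 (iv F165515)) (tt N16098 F157640) (tt N19727 D35654) (tt N16084 (iv D33907)) (tt N17980 F157641) (tt N19575 (iv F164823)) (tt N17980 F157642) (tt N16349 F157643) (tt N19332 (iv F163653)))
theorem Q17982 : ∀ i, i < 17982 → P i := stepQ 17981 Q17981 (allL N17981 (tt N16968 F157644) (tt N18982 (iv F161733)) (tt N16099 F157645) (tt N19726 (iv F165571)) (tt N19332 (iv F163650)) (tt N16085 F157646) (tt N19576 (iv F164828)) (tt N17981 F157647) (tt N18922 (iv F161393)) (tt N16084 (iv D33908)))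
theorem Q17983 : ∀ i, i < 17983 → P i := stepQ 17982 Q17982 (allL N17982 (tt N16969 F157648) (tt N16417 F157649) (tt N16090 F157650) (tt N16100 F157651) (tt N16411 F157652) (tt N18914 (iv F161342)) (tt N16087 F157653) (tt N17982 F157654) (tt N19718 (iv F165533)) (tt N16086 (iv D33909)))
theorem Q17984 : ∀ i, i < 17984 → P i := stepQ 17983 Q17983 (allL N17983 (tt N16970 F157655) (tt N16959 F157656) (tt N16411 F157657) (tt N17983 F157658) (tt N16090 F157659) (tt N16951 F157660) (tt N16089 F157661) (tt N17983 F157662) (tt N19720 (iv F165545)) (tt N16088 (iv D33910)))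
theorem Q17985 : ∀ i, i < 17985 → P i := stepQ 17984 Q17984 (allL N17984 (tt N16971 F157663) (tt N16352 F157664) (tt N16096 F157665) (tt N19717 (iv F165523)) (tt N19728 D35655) (tt N16092 (iv D33911)) (tt N19664 (iv F165238)) (tt N17984 F157666) (tt N16390 F157667) (tt N19729 D35656))
theorem Q17986 : ∀ i, i < 17986 → P i := stepQ 17985 Q17985 (allL N17985 (tt N16972 F157668) (tt N16353 F157669) (tt N16097 F157670) (tt N19718 (iv F165529)) (tt N16293 F157671) (tt N19729 (iv F165587)) (tt N16093 F157672) (tt N17985 F157673) (tt N16100 F157674) (tt N16092 (iv D33912)))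
theorem Q17987 : ∀ i, i < 17987 → P i := stepQ 17986 Q17986 (allL N17986 (tt N16973 F157675) (tt N17986 F157676) (tt N16293 F157677) (tt N17986 F157678) (tt N16097 F157679) (tt N17096 F157680) (tt N16095 F157681) (tt N17986 F157682) (tt N16102 F157683) (tt N16094 (iv D33913)))
theorem Q17988 : ∀ i, i < 17988 → P i := stepQ 17987 Q17987 (allL N17987 (tt N16974 F157684) (tt N17987 F157685) (tt N19728 (iv F165580)) (tt N19700 (iv F165429)) (tt N16096 (iv D33914)) (tt N17097 F157686) (tt N19668 (iv F165263)) (tt N17987 F157687) (tt N16392 F157688) (tt N19696 (iv F165407)))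
theorem Q17989 : ∀ i, i < 17989 → P i := stepQ 17988 Q17988 (allL N17988 (tt N16975 F157689) (tt N17988 F157690) (tt N19729 (iv F165586)) (tt N16099 F157691) (tt N19696 (iv F165404)) (tt N16097 F157692) (tt N19669 (iv F165269)) (tt N17988 F157693) (tt N19319 (iv F163565)) (tt N16096 (iv D33915)))
theorem Q17990 : ∀ i, i < 17990 → P i := stepQ 17989 Q17989 (allL N17989 (tt N16976 F157694) (tt N17989 F157695) (tt N16412 F157696) (tt N17989 F157697) (tt N18858 (iv F160973)) (tt N16102 F157698) (tt N17989 F157699) (tt N17989 F157700) (tt N19697 (iv F165415)) (tt N16101 (iv D33916)))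
theorem Q17991 : ∀ i, i < 17991 → P i := stepQ 17990 Q17990 (allL N17990 (tt N16198 F157701) (tt N16107 F157702) (tt N16123 F157703) (tt N17990 F157704) (tt N16475 F157705) (tt N16122 F157706) (tt N16196 F157707) (tt N16105 (iv D33917)) (tt N19334 (iv F163667)) (tt N17990 F157708))
theorem Q17992 : ∀ i, i < 17992 → P i := stepQ 17991 Q17991 (allL N17991 (tt N16130 F157709) (tt N16122 F157710) (tt N16108 F157711) (tt N17991 F157712) (tt N16430 F157713) (tt N16107 F157714) (tt N16128 F157715) (tt N16106 (iv D33918)) (tt N19379 (iv F163936)) (tt N17991 F157716))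
theorem Q17993 : ∀ i, i < 17993 → P i := stepQ 17992 Q17992 (allL N17992 (tt N16113 F157717) (tt N16197 F157718) (tt N16141 F157719) (tt N16999 F157720) (tt N16126 F157721) (tt N16487 (iv F157723)) (tt N16112 (iv D33919)) (tt N19730 D35657) (tt N19086 (iv F162373)) (tt N17992 F157722))
theorem Q17994 : ∀ i, i < 17994 → P i := stepQ 17993 Q17993 (allL N17993 (tt N16487 F157724) (tt N16114 F157725) (tt N16147 F157726) (tt N17000 F157727) (tt N16485 F157728) (tt N16113 (iv D33920)) (tt N17993 F157729) (tt N19731 D35658) (tt N19320 (iv F163571)) (tt N17993 F157730))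
theorem Q17995 : ∀ i, i < 17995 → P i := stepQ 17994 Q17994 (allL N17994 (tt N19730 (iv F165589)) (tt N16115 F157731) (tt N16148 F157732) (tt N17001 F157733) (tt N16128 F157734) (tt N19731 (iv F165602)) (tt N16430 F157735) (tt N16113 (iv D33921)) (tt N19088 (iv F162385)) (tt N17994 F157736))
theorem Q17996 : ∀ i, i < 17996 → P i := stepQ 17995 Q17995 (allL N17995 (tt N16429 F157737) (tt N16485 F157738) (tt N16116 F157739) (tt N17008 F157740) (tt N16114 (iv D33922)) (tt N16129 F157741) (tt N17995 F157742) (tt N19732 D35659) (tt N19688 (iv F165349)) (tt N17995 F157743))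
theorem Q17997 : ∀ i, i < 17997 → P i := stepQ 17996 Q17996 (allL N17996 (tt N16476 F157744) (tt N19731 (iv F165598)) (tt N16117 F157745) (tt N17002 F157746) (tt N19732 (iv F165608)) (tt N16115 F157747) (tt N19733 D35660) (tt N16114 (iv D33923)) (tt N19734 D35661) (tt N17996 F157748))
theorem Q17998 : ∀ i, i < 17998 → P i := stepQ 17997 Q17997 (allL N17997 (tt N16477 F157749) (tt N19320 (iv F163568)) (tt N16118 F157750) (tt N16714 F157751) (tt N19688 (iv F165347)) (tt N19091 (iv F162400)) (tt N17997 F157752) (tt N19734 (iv F165620)) (tt N16114 (iv D33924)) (tt N16726 (iv F157753)))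
theorem Q17999 : ∀ i, i < 17999 → P i := stepQ 17998 Q17998 (allL N17998 (tt N16478 F157754) (tt N16151 F157755) (tt N19732 (iv F165606)) (tt N17998 F157756) (tt N16117 F157757) (tt N16132 F157758) (tt N19735 D35662) (tt N16116 (iv D33925)) (tt N19736 D35663) (tt N17998 F157759))
theorem Q18000 : ∀ i, i < 18000 → P i := stepQ 17999 Q17999 (allL N17999 (tt N16479 F157760) (tt N16152 F157761) (tt N19688 F165351) (tt N17999 F157762) (tt N16118 F157763) (tt N19737 D35664) (tt N17999 F157764) (tt N19736 (iv F165633)) (tt N16116 (iv D33926)) (tt N19738 D35665))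
theorem Q18001 : ∀ i, i < 18001 → P i := stepQ 18000 Q18000 (allL N18000 (tt N16480 F157765) (tt N16153 F157766) (tt N19733 (iv F165612)) (tt N16119 F157767) (tt N19735 (iv F165625)) (tt N16434 F157768) (tt N16117 (iv D33927)) (tt N18000 F157769) (tt N19739 D35666) (tt N18000 F157770))
theorem Q18002 : ∀ i, i < 18002 → P i := stepQ 18001 Q18001 (allL N18001 (tt N16481 F157771) (tt N16154 F157772) (tt N19734 (iv F165618)) (tt N16120 F157773) (tt N19736 (iv F165632)) (tt N19095 (iv F162423)) (tt N19739 (iv F165648)) (tt N16118 F157774) (tt N16117 (iv D33928)) (tt N19740 D35667))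
theorem Q18003 : ∀ i, i < 18003 → P i := stepQ 18002 Q18002 (allL N18002 (tt N16482 F157775) (tt N16155 F157776) (tt N16726 F157777) (tt N16121 F157778) (tt N19738 (iv F165642)) (tt N19096 (iv F162429)) (tt N18002 F157779) (tt N19740 (iv F165654)) (tt N18002 F157780) (tt N16118 (iv D33929)))
theorem Q18004 : ∀ i, i < 18004 → P i := stepQ 18003 Q18003 (allL N18003 (tt N16483 F157781) (tt N16156 F157782) (tt N17006 F157783) (tt N19739 (iv F165647)) (tt N18003 F157784) (tt N19699 (iv F165425)) (tt N16120 F157785) (tt N18003 F157786) (tt N16119 (iv D33930)) (tt N19741 D35668))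
theorem Q18005 : ∀ i, i < 18005 → P i := stepQ 18004 Q18004 (allL N18004 (tt N16484 F157787) (tt N16157 F157788) (tt N17007 F157789) (tt N19740 (iv F165653)) (tt N18004 F157790) (tt N19098 (iv F162442)) (tt N19741 (iv F165660)) (tt N16121 F157791) (tt N18004 F157792) (tt N16120 (iv D33931)))
theorem Q18006 : ∀ i, i < 18006 → P i := stepQ 18005 Q18005 (allL N18005 (tt N16202 F157793) (tt N16158 F157794) (tt N19334 (iv F163663)) (tt N16125 F157795) (tt N16526 F157796) (tt N19385 (iv F163969)) (tt N16216 F157797) (tt N16124 F157798) (tt N16123 (iv D33932)) (tt N19119 (iv F162541)))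
theorem Q18007 : ∀ i, i < 18007 → P i := stepQ 18006 Q18006 (allL N18006 (tt N16128 F157799) (tt N16198 F157800) (tt N16134 F157801) (tt N18006 F157802) (tt N19730 (iv F165593)) (tt N16196 F157803) (tt N16130 F157804) (tt N16126 (iv D33933)) (tt N19388 (iv F163990)) (tt N18006 F157805))
theorem Q18008 : ∀ i, i < 18008 → P i := stepQ 18007 Q18007 (allL N18007 (tt N16196 F157806) (tt N16130 F157807) (tt N16159 F157808) (tt N18007 F157809) (tt N16486 F157810) (tt N16128 F157811) (tt N16198 F157812) (tt N16127 (iv D33934)) (tt N19742 D35669) (tt N18007 F157813))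
theorem Q18009 : ∀ i, i < 18009 → P i := stepQ 18008 Q18008 (allL N18008 (tt N16187 F157814) (tt N16131 F157815) (tt N16160 F157816) (tt N18008 F157817) (tt N16464 F157818) (tt N19391 (iv F164005)) (tt N16138 F157819) (tt N19742 (iv F165669)) (tt N16127 (iv D33935)) (tt N19406 (iv F164066)))
theorem Q18010 : ∀ i, i < 18010 → P i := stepQ 18009 Q18009 (allL N18009 (tt N16430 F157820) (tt N16486 F157821) (tt N16132 F157822) (tt N17009 F157823) (tt N16130 F157824) (tt N19732 (iv F165609)) (tt N19730 (iv F165595)) (tt N16129 (iv D33936)) (tt N19743 D35670) (tt N18009 F157825))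
theorem Q18011 : ∀ i, i < 18011 → P i := stepQ 18010 Q18010 (allL N18010 (tt N16423 F157826) (tt N16464 F157827) (tt N16133 F157828) (tt N16994 F157829) (tt N16131 F157830) (tt N19744 D35671) (tt N16139 F157831) (tt N19743 (iv F165675)) (tt N16129 (iv D33937)) (tt N19077 (iv F162319)))
theorem Q18012 : ∀ i, i < 18012 → P i := stepQ 18011 Q18011 (allL N18011 (tt N19379 (iv F163930)) (tt N19742 (iv F165664)) (tt N16135 F157832) (tt N18011 F157833) (tt N19743 (iv F165674)) (tt N19396 (iv F164019)) (tt N19388 (iv F163989)) (tt N16131 F157834) (tt N16130 (iv D33938)) (tt N19745 D35672))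
theorem Q18013 : ∀ i, i < 18013 → P i := stepQ 18012 Q18012 (allL N18012 (tt N16268 F157835) (tt N19406 (iv F164061)) (tt N16136 F157836) (tt N18012 F157837) (tt N19077 (iv F162316)) (tt N19397 (iv F164024)) (tt N16140 F157838) (tt N19745 (iv F165686)) (tt N18012 F157839) (tt N16131 (iv D33939)))
theorem Q18014 : ∀ i, i < 18014 → P i := stepQ 18013 Q18013 (allL N18013 (tt N16148 F157840) (tt N16163 F157841) (tt N19730 (iv F165591)) (tt N18013 F157842) (tt N16134 F157843) (tt N16580 (iv F157846)) (tt N16132 (iv D33940)) (tt N16141 F157844) (tt N19473 (iv F164374)) (tt N18013 F157845))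
theorem Q18015 : ∀ i, i < 18015 → P i := stepQ 18014 Q18014 (allL N18014 (tt N19020 (iv F161974)) (tt N16164 F157847) (tt N19743 (iv F165672)) (tt N18014 F157848) (tt N16135 F157849) (tt N19746 D35673) (tt N19473 (iv F164373)) (tt N16133 F157850) (tt N16132 (iv D33941)) (tt N19747 D35674))
theorem Q18016 : ∀ i, i < 18016 → P i := stepQ 18015 Q18015 (allL N18015 (tt N19019 (iv F161967)) (tt N16165 F157851) (tt N19744 (iv F165678)) (tt N18015 F157852) (tt N19400 (iv F164033)) (tt N16133 (iv D33942)) (tt N19748 D35675) (tt N19746 (iv F165690)) (tt N19737 (iv F165637)) (tt N19749 D35676))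
theorem Q18017 : ∀ i, i < 18017 → P i := stepQ 18016 Q18016 (allL N18016 (tt N16296 F157853) (tt N16166 F157854) (tt N19077 (iv F162314)) (tt N18016 F157855) (tt N16136 F157856) (tt N19749 (iv F165708)) (tt N16143 F157857) (tt N19747 (iv F165696)) (tt N18016 F157858) (tt N16133 (iv D33943)))
theorem Q18018 : ∀ i, i < 18018 → P i := stepQ 18017 Q18017 (allL N18017 (tt N16306 F157859) (tt N16168 F157860) (tt N19745 (iv F165683)) (tt N16137 F157861) (tt N19747 (iv F165694)) (tt N19403 (iv F164045)) (tt N16179 F157862) (tt N16136 F157863) (tt N18017 F157864) (tt N16135 (iv D33944)))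
theorem Q18019 : ∀ i, i < 18019 → P i := stepQ 18018 Q18018 (allL N18018 (tt N16768 F157865) (tt N16171 F157866) (tt N16228 F157867) (tt N18018 F157868) (tt N16145 F157869) (tt N19748 (iv F165702)) (tt N16142 (iv D33945)) (tt N19750 D35677) (tt N18018 F157870) (tt N16170 F157871))
theorem Q18020 : ∀ i, i < 18020 → P i := stepQ 18019 Q18019 (allL N18019 (tt N16792 F157872) (tt N16179 F157873) (tt N16229 F157874) (tt N16146 F157875) (tt N19750 (iv F165715)) (tt N19469 (iv F164350)) (tt N16168 F157876) (tt N16145 (iv D33946)) (tt N18019 F157877) (tt N16167 F157878))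
theorem Q18021 : ∀ i, i < 18021 → P i := stepQ 18020 Q18020 (allL N18020 (tt N16580 F157879) (tt N16149 F157880) (tt N19731 (iv F165599)) (tt N18020 F157881) (tt N16578 F157882) (tt N16148 F157883) (tt N19751 D35678) (tt N16147 (iv D33947)) (tt N19752 D35679) (tt N18020 F157884))
theorem Q18022 : ∀ i, i < 18022 → P i := stepQ 18021 Q18021 (allL N18021 (tt N16581 F157885) (tt N16150 F157886) (tt N19320 F163573) (tt N18021 F157887) (tt N16579 F157888) (tt N19476 (iv F164387)) (tt N18021 F157889) (tt N19752 (iv F165730)) (tt N16147 (iv D33948)) (tt N19328 (iv F163631)))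
theorem Q18023 : ∀ i, i < 18023 → P i := stepQ 18022 Q18022 (allL N18022 (tt N16977 F157890) (tt N19751 (iv F165720)) (tt N16153 F157891) (tt N18022 F157892) (tt N16590 F157893) (tt N16571 F157894) (tt N16149 (iv D33949)) (tt N18022 F157895) (tt N19753 D35680) (tt N18022 F157896))
theorem Q18024 : ∀ i, i < 18024 → P i := stepQ 18023 Q18023 (allL N18023 (tt N16978 F157897) (tt N19752 (iv F165727)) (tt N16154 F157898) (tt N18023 F157899) (tt N19194 (iv F162897)) (tt N19481 (iv F164405)) (tt N19753 (iv F165735)) (tt N16150 F157900) (tt N16149 (iv D33950)) (tt N19754 D35681))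
theorem Q18025 : ∀ i, i < 18025 → P i := stepQ 18024 Q18024 (allL N18024 (tt N16979 F157901) (tt N19328 (iv F163626)) (tt N16155 F157902) (tt N18024 F157903) (tt N19195 (iv F162904)) (tt N19482 (iv F164410)) (tt N18024 F157904) (tt N19754 (iv F165740)) (tt N18024 F157905) (tt N16150 (iv D33951)))
theorem Q18026 : ∀ i, i < 18026 → P i := stepQ 18025 Q18025 (allL N18025 (tt N16980 F157906) (tt N19735 (iv F165623)) (tt N16590 F157907) (tt N18025 F157908) (tt N16153 F157909) (tt N16585 F157910) (tt N16151 (iv D33952)) (tt N18025 F157911) (tt N19755 D35682) (tt N18025 F157912))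
theorem Q18027 : ∀ i, i < 18027 → P i := stepQ 18026 Q18026 (allL N18026 (tt N16981 F157913) (tt N19736 (iv F165630)) (tt N19194 (iv F162895)) (tt N18026 F157914) (tt N16154 F157915) (tt N19756 D35683) (tt N19755 (iv F165746)) (tt N16152 F157916) (tt N16151 (iv D33953)) (tt N19757 D35684))
theorem Q18028 : ∀ i, i < 18028 → P i := stepQ 18027 Q18027 (allL N18027 (tt N16982 F157917) (tt N19737 (iv F165635)) (tt N19165 (iv F162776)) (tt N18027 F157918) (tt N19485 (iv F164417)) (tt N16152 (iv D33954)) (tt N19758 D35685) (tt N19756 (iv F165750)) (tt N16165 F157919) (tt N19759 D35686))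
theorem Q18029 : ∀ i, i < 18029 → P i := stepQ 18028 Q18028 (allL N18028 (tt N16983 F157920) (tt N19738 (iv F165639)) (tt N19195 (iv F162902)) (tt N18028 F157921) (tt N16155 F157922) (tt N19759 (iv F165763)) (tt N18028 F157923) (tt N19757 (iv F165755)) (tt N18028 F157924) (tt N16152 (iv D33955)))
theorem Q18030 : ∀ i, i < 18030 → P i := stepQ 18029 Q18029 (allL N18029 (tt N16984 F157925) (tt N19739 (iv F165646)) (tt N19753 (iv F165732)) (tt N16156 F157926) (tt N19755 (iv F165745)) (tt N19760 D35687) (tt N16154 F157927) (tt N18029 F157928) (tt N16153 (iv D33956)) (tt N19761 D35688))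
theorem Q18031 : ∀ i, i < 18031 → P i := stepQ 18030 Q18030 (allL N18030 (tt N16985 F157929) (tt N19740 (iv F165651)) (tt N19754 (iv F165738)) (tt N16157 F157930) (tt N19757 (iv F165754)) (tt N19488 (iv F164426)) (tt N19761 (iv F165769)) (tt N16155 F157931) (tt N18030 F157932) (tt N16154 (iv D33957)))
theorem Q18032 : ∀ i, i < 18032 → P i := stepQ 18031 Q18031 (allL N18031 (tt N16986 F157933) (tt N19699 (iv F165422)) (tt N18031 F157934) (tt N19760 (iv F165765)) (tt N19705 (iv F165459)) (tt N16156 (iv D33958)) (tt N19489 (iv F164430)) (tt N18031 F157935) (tt N19029 (iv F162041)) (tt N19762 D35689))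
theorem Q18033 : ∀ i, i < 18033 → P i := stepQ 18032 Q18032 (allL N18032 (tt N16987 F157936) (tt N19741 (iv F165657)) (tt N18032 F157937) (tt N19761 (iv F165768)) (tt N18032 F157938) (tt N19762 (iv F165774)) (tt N16157 F157939) (tt N18032 F157940) (tt N18032 F157941) (tt N16156 (iv D33959)))
theorem Q18034 : ∀ i, i < 18034 → P i := stepQ 18033 Q18033 (allL N18033 (tt N16216 F157942) (tt N16161 F157943) (tt N19742 (iv F165665)) (tt N16182 F157944) (tt N16551 F157945) (tt N19516 (iv F164558)) (tt N16202 F157946) (tt N16160 F157947) (tt N16159 (iv D33960)) (tt N19534 (iv F164635)))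
theorem Q18035 : ∀ i, i < 18035 → P i := stepQ 18034 Q18034 (allL N18034 (tt N16819 F157948) (tt N19534 (iv F164630)) (tt N16168 F157949) (tt N16183 F157950) (tt N19145 (iv F162688)) (tt N19524 (iv F164594)) (tt N16229 F157951) (tt N16162 F157952) (tt N18034 F157953) (tt N16161 (iv D33961)))
theorem Q18036 : ∀ i, i < 18036 → P i := stepQ 18035 Q18035 (allL N18035 (tt N16777 F157954) (tt N19473 (iv F164370)) (tt N16226 F157955) (tt N18035 F157956) (tt N16167 F157957) (tt N19763 D35690) (tt N16164 F157958) (tt N16170 F157959) (tt N16163 (iv D33962)) (tt N19750 (iv F165718)))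
theorem Q18037 : ∀ i, i < 18037 → P i := stepQ 18036 Q18036 (allL N18036 (tt N16988 F157960) (tt N19746 (iv F165688)) (tt N19164 (iv F162771)) (tt N18036 F157961) (tt N19527 (iv F164603)) (tt N16164 (iv D33963)) (tt N19764 D35691) (tt N16165 F157962) (tt N19756 (iv F165751)) (tt N19765 D35692))
theorem Q18038 : ∀ i, i < 18038 → P i := stepQ 18037 Q18037 (allL N18037 (tt N16989 F157963) (tt N19747 (iv F165692)) (tt N19145 (iv F162686)) (tt N18037 F157964) (tt N16168 F157965) (tt N19765 (iv F165785)) (tt N19750 (iv F165716)) (tt N16166 F157966) (tt N18037 F157967) (tt N16164 (iv D33964)))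
theorem Q18039 : ∀ i, i < 18039 → P i := stepQ 18038 Q18038 (allL N18038 (tt N16990 F157968) (tt N19748 (iv F165699)) (tt N19099 (iv F162447)) (tt N18038 F157969) (tt N19529 (iv F164609)) (tt N16171 F157970) (tt N16165 (iv D33965)) (tt N19766 D35693) (tt N19758 (iv F165760)) (tt N19472 (iv F164368)))
theorem Q18040 : ∀ i, i < 18040 → P i := stepQ 18039 Q18039 (allL N18039 (tt N16991 F157971) (tt N19749 (iv F165705)) (tt N19144 (iv F162681)) (tt N18039 F157972) (tt N19530 (iv F164612)) (tt N16166 F157973) (tt N19472 (iv F164366)) (tt N19765 (iv F165786)) (tt N19767 D35694) (tt N16165 (iv D33966)))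
theorem Q18041 : ∀ i, i < 18041 → P i := stepQ 18040 Q18040 (allL N18040 (tt N16804 F157974) (tt N19511 (iv F164534)) (tt N16222 F157975) (tt N16169 F157976) (tt N19768 D35695) (tt N16167 (iv D33967)) (tt N19531 (iv F164617)) (tt N16172 F157977) (tt N16218 F157978) (tt N19469 (iv F164351)))
theorem Q18042 : ∀ i, i < 18042 → P i := stepQ 18041 Q18041 (allL N18041 (tt N16890 F157979) (tt N19221 (iv F163030)) (tt N16184 F157980) (tt N19769 D35696) (tt N16169 (iv D33968)) (tt N18041 F157981) (tt N19533 (iv F164626)) (tt N16173 F157982) (tt N16239 F157983) (tt N19065 (iv F162245)))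
theorem Q18043 : ∀ i, i < 18043 → P i := stepQ 18042 Q18042 (allL N18042 (tt N16776 F157984) (tt N19472 (iv F164364)) (tt N16227 F157985) (tt N18042 F157986) (tt N19770 D35697) (tt N16170 (iv D33969)) (tt N19749 (iv F165709)) (tt N19763 (iv F165779)) (tt N16587 F157987) (tt N19748 F165703))
theorem Q18044 : ∀ i, i < 18044 → P i := stepQ 18043 Q18043 (allL N18043 (tt N16992 F157988) (tt N19750 (iv F165712)) (tt N19100 (iv F162452)) (tt N18043 F157989) (tt N16179 F157990) (tt N19766 (iv F165789)) (tt N19747 (iv F165695)) (tt N16171 (iv D33970)) (tt N18043 F157991) (tt N19473 (iv F164375)))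
theorem Q18045 : ∀ i, i < 18045 → P i := stepQ 18044 Q18044 (allL N18044 (tt N16803 F157992) (tt N19510 (iv F164529)) (tt N16220 F157993) (tt N19771 D35698) (tt N16172 (iv D33971)) (tt N19770 (iv F165806)) (tt N16180 F157994) (tt N19768 (iv F165797)) (tt N16217 F157995) (tt N19462 (iv F164316)))
theorem Q18046 : ∀ i, i < 18046 → P i := stepQ 18045 Q18045 (allL N18045 (tt N16889 F157996) (tt N19209 (iv F162975)) (tt N16379 F157997) (tt N16173 (iv D33972)) (tt N19771 (iv F165810)) (tt N18045 F157998) (tt N16181 F157999) (tt N19769 (iv F165802)) (tt N16238 F158000) (tt N19058 (iv F162201)))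
theorem Q18047 : ∀ i, i < 18047 → P i := stepQ 18046 Q18046 (allL N18046 (tt N16745 F158001) (tt N19577 (iv F164830)) (tt N16209 F158002) (tt N19772 D35699) (tt N16174 (iv D33973)) (tt N19357 (iv F163810)) (tt N16217 F158003) (tt N19607 (iv F164931)) (tt N16180 F158004) (tt N18886 (iv F161175)))
theorem Q18048 : ∀ i, i < 18048 → P i := stepQ 18047 Q18047 (allL N18047 (tt N16924 F158005) (tt N19210 (iv F162981)) (tt N16366 F158006) (tt N16175 (iv D33974)) (tt N19772 (iv F165815)) (tt N18047 F158007) (tt N16238 F158008) (tt N19608 (iv F164936)) (tt N16181 F158009) (tt N19129 (iv F162602)))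
theorem Q18049 : ∀ i, i < 18049 → P i := stepQ 18048 Q18048 (allL N18048 (tt N16497 F158010) (tt N16177 F158011) (tt N16203 F158012) (tt N18048 F158013) (tt N16505 F158014) (tt N19610 (iv F164946)) (tt N16176 (iv D33975)) (tt N19773 D35700) (tt N18048 F158015) (tt N16199 F158016))
theorem Q18050 : ∀ i, i < 18050 → P i := stepQ 18049 Q18049 (allL N18049 (tt N16993 F158017) (tt N19773 (iv F165819)) (tt N16179 F158018) (tt N18049 F158019) (tt N19100 (iv F162454)) (tt N19613 (iv F164962)) (tt N19745 (iv F165685)) (tt N16177 (iv D33976)) (tt N18049 F158020) (tt N19388 (iv F163991)))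
theorem Q18051 : ∀ i, i < 18051 → P i := stepQ 18050 Q18050 (allL N18050 (tt N16748 F158021) (tt N19349 (iv F163757)) (tt N16180 F158022) (tt N16311 F158023) (tt N16178 (iv D33977)) (tt N19455 (iv F164289)) (tt N16220 F158024) (tt N19614 (iv F164966)) (tt N16209 F158025) (tt N19454 F164284))
theorem Q18052 : ∀ i, i < 18052 → P i := stepQ 18051 Q18051 (allL N18051 (tt N16848 F158026) (tt N19185 (iv F162852)) (tt N19139 (iv F162651)) (tt N16180 (iv D33978)) (tt N16181 F158027) (tt N19049 (iv F162148)) (tt N19771 (iv F165811)) (tt N19616 (iv F164973)) (tt N19772 (iv F165817)) (tt N19048 F162143))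
theorem Q18053 : ∀ i, i < 18053 → P i := stepQ 18052 Q18052 (allL N18052 (tt N19391 (iv F164001)) (tt N16188 F158028) (tt N16215 F158029) (tt N18052 F158030) (tt N19774 D35701) (tt N16187 (iv D33979)) (tt N19343 (iv F163722)) (tt N19775 D35702) (tt N19387 (iv F163983)) (tt N19407 (iv F164071)))
theorem Q18054 : ∀ i, i < 18054 → P i := stepQ 18053 Q18053 (allL N18053 (tt N19742 (iv F165663)) (tt N16189 F158031) (tt N16216 F158032) (tt N18053 F158033) (tt N16466 F158034) (tt N19775 (iv F165831)) (tt N19334 (iv F163666)) (tt N16187 (iv D33980)) (tt N16196 F158035) (tt N19408 (iv F164079)))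
theorem Q18055 : ∀ i, i < 18055 → P i := stepQ 18054 Q18054 (allL N18054 (tt N19380 (iv F163938)) (tt N19774 (iv F165825)) (tt N16190 F158036) (tt N19776 D35703) (tt N16188 (iv D33981)) (tt N16467 F158037) (tt N19345 (iv F163736)) (tt N19777 D35704) (tt N19778 D35705) (tt N19409 (iv F164085)))
theorem Q18056 : ∀ i, i < 18056 → P i := stepQ 18055 Q18055 (allL N18055 (tt N19381 (iv F163943)) (tt N19775 (iv F165828)) (tt N16191 F158038) (tt N18055 F158039) (tt N19777 (iv F165836)) (tt N16189 F158040) (tt N19779 D35706) (tt N16188 (iv D33982)) (tt N19780 D35707) (tt N19410 (iv F164091)))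
theorem Q18057 : ∀ i, i < 18057 → P i := stepQ 18056 Q18056 (allL N18056 (tt N19333 (iv F163654)) (tt N19387 (iv F163979)) (tt N16192 F158041) (tt N18056 F158042) (tt N19778 (iv F165839)) (tt N16199 F158043) (tt N19347 (iv F163748)) (tt N19780 (iv F165845)) (tt N16188 (iv D33983)) (tt N19610 (iv F164948)))
theorem Q18058 : ∀ i, i < 18058 → P i := stepQ 18057 Q18057 (allL N18057 (tt N19382 (iv F163948)) (tt N16219 F158044) (tt N19777 (iv F165835)) (tt N16281 F158045) (tt N16191 F158046) (tt N16470 F158047) (tt N19781 D35708) (tt N16190 (iv D33984)) (tt N19782 D35709) (tt N19411 (iv F164097)))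
theorem Q18059 : ∀ i, i < 18059 → P i := stepQ 18058 Q18058 (allL N18058 (tt N19383 (iv F163954)) (tt N16220 F158048) (tt N19778 (iv F165838)) (tt N16282 F158049) (tt N16192 F158050) (tt N19561 (iv F164759)) (tt N19349 (iv F163760)) (tt N19782 (iv F165852)) (tt N16190 (iv D33985)) (tt N19783 D35710))
theorem Q18060 : ∀ i, i < 18060 → P i := stepQ 18059 Q18059 (allL N18059 (tt N19384 (iv F163960)) (tt N16221 F158051) (tt N19779 (iv F165840)) (tt N16193 F158052) (tt N19781 (iv F165848)) (tt N19340 (iv F163701)) (tt N16191 (iv D33986)) (tt N19350 (iv F163765)) (tt N19784 D35711) (tt N19413 (iv F164109)))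
theorem Q18061 : ∀ i, i < 18061 → P i := stepQ 18060 Q18060 (allL N18060 (tt N19385 (iv F163966)) (tt N16222 F158053) (tt N19780 (iv F165842)) (tt N16194 F158054) (tt N19782 (iv F165851)) (tt N16202 F158055) (tt N19784 (iv F165858)) (tt N16192 F158056) (tt N16191 (iv D33987)) (tt N19785 D35712))
theorem Q18062 : ∀ i, i < 18062 → P i := stepQ 18061 Q18061 (allL N18061 (tt N19118 (iv F162527)) (tt N16223 F158057) (tt N19610 (iv F164944)) (tt N16195 F158058) (tt N19783 (iv F165855)) (tt N16203 F158059) (tt N19352 (iv F163777)) (tt N19785 (iv F165862)) (tt N19415 (iv F164122)) (tt N16192 (iv D33988)))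
theorem Q18063 : ∀ i, i < 18063 → P i := stepQ 18062 Q18062 (allL N18062 (tt N19386 (iv F163971)) (tt N16224 F158060) (tt N18062 F158061) (tt N19784 (iv F165857)) (tt N16286 F158062) (tt N19636 (iv F165090)) (tt N16194 F158063) (tt N19353 (iv F163785)) (tt N16193 (iv D33989)) (tt N19786 D35713))
theorem Q18064 : ∀ i, i < 18064 → P i := stepQ 18063 Q18063 (allL N18063 (tt N19261 (iv F163263)) (tt N16225 F158064) (tt N18063 F158065) (tt N19785 (iv F165860)) (tt N16287 F158066) (tt N16204 F158067) (tt N19786 (iv F165866)) (tt N16195 F158068) (tt N19417 (iv F164135)) (tt N16194 (iv D33990)))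
theorem Q18065 : ∀ i, i < 18065 → P i := stepQ 18064 Q18064 (allL N18064 (tt N16475 F158069) (tt N19730 (iv F165590)) (tt N16200 F158070) (tt N17016 F158071) (tt N16198 F158072) (tt N16490 F158073) (tt N16486 F158074) (tt N16197 (iv D33991)) (tt N19787 D35714) (tt N18064 F158075))
theorem Q18066 : ∀ i, i < 18066 → P i := stepQ 18065 Q18065 (allL N18065 (tt N16446 F158076) (tt N19086 (iv F162369)) (tt N16201 F158077) (tt N16614 F158078) (tt N16199 F158079) (tt N19280 (iv F163375)) (tt N16445 F158080) (tt N19787 (iv F165872)) (tt N16197 (iv D33992)) (tt N16505 (iv F158081)))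
theorem Q18067 : ∀ i, i < 18067 → P i := stepQ 18066 Q18066 (allL N18066 (tt N19334 (iv F163661)) (tt N19388 (iv F163986)) (tt N16202 F158082) (tt N18066 F158083) (tt N19787 (iv F165870)) (tt N19780 (iv F165844)) (tt N19742 (iv F165668)) (tt N16199 F158084) (tt N16198 (iv D33993)) (tt N19773 (iv F165824)))
theorem Q18068 : ∀ i, i < 18068 → P i := stepQ 18067 Q18067 (allL N18067 (tt N16526 F158085) (tt N16226 F158086) (tt N19787 (iv F165868)) (tt N16205 F158087) (tt N16202 F158088) (tt N19659 (iv F165207)) (tt N16551 F158089) (tt N16201 F158090) (tt N16200 (iv D33994)) (tt N19788 D35715))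
theorem Q18069 : ∀ i, i < 18069 → P i := stepQ 18068 Q18068 (allL N18068 (tt N16437 F158091) (tt N16228 F158092) (tt N16505 F158093) (tt N16206 F158094) (tt N16203 F158095) (tt N19660 (iv F165213)) (tt N16436 F158096) (tt N19788 (iv F165880)) (tt N18068 F158097) (tt N16201 (iv D33995)))
theorem Q18070 : ∀ i, i < 18070 → P i := stepQ 18069 Q18069 (allL N18069 (tt N19119 (iv F162534)) (tt N16229 F158098) (tt N19773 (iv F165820)) (tt N16204 F158099) (tt N19788 (iv F165878)) (tt N19785 (iv F165861)) (tt N19534 (iv F164633)) (tt N16203 F158100) (tt N18069 F158101) (tt N16202 (iv D33996)))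
theorem Q18071 : ∀ i, i < 18071 → P i := stepQ 18070 Q18070 (allL N18070 (tt N16647 F158102) (tt N16231 F158103) (tt N17023 F158104) (tt N19788 (iv F165877)) (tt N16207 F158105) (tt N19663 (iv F165232)) (tt N16665 F158106) (tt N16206 F158107) (tt N18070 F158108) (tt N16205 (iv D33997)))
theorem Q18072 : ∀ i, i < 18072 → P i := stepQ 18071 Q18071 (allL N18071 (tt N16249 F158109) (tt N16234 F158110) (tt N18071 F158111) (tt N19789 D35716) (tt N16208 (iv D33998)) (tt N19634 F165079) (tt N16294 F158112) (tt N16247 F158113) (tt N18071 F158114) (tt N19689 (iv F165357)))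
theorem Q18073 : ∀ i, i < 18073 → P i := stepQ 18072 Q18072 (allL N18072 (tt N16747 F158115) (tt N19348 (iv F163751)) (tt N19607 (iv F164930)) (tt N16310 F158116) (tt N16210 F158117) (tt N19360 (iv F163829)) (tt N19790 D35717) (tt N16209 (iv D33999)) (tt N19614 (iv F164967)) (tt N18889 (iv F161193)))
theorem Q18074 : ∀ i, i < 18074 → P i := stepQ 18073 Q18073 (allL N18073 (tt N16749 F158118) (tt N19350 (iv F163762)) (tt N19556 (iv F164729)) (tt N16211 F158119) (tt N19790 (iv F165890)) (tt N16737 F158120) (tt N16210 (iv D34000)) (tt N16221 F158121) (tt N19596 (iv F164899)) (tt N18891 (iv F161205)))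
theorem Q18075 : ∀ i, i < 18075 → P i := stepQ 18074 Q18074 (allL N18074 (tt N16740 F158122) (tt N19338 (iv F163687)) (tt N19494 (iv F164451)) (tt N19130 (iv F162605)) (tt N16213 F158123) (tt N16530 F158124) (tt N19791 D35718) (tt N16212 (iv D34001)) (tt N19491 (iv F164437)) (tt N19122 (iv F162559)))
theorem Q18076 : ∀ i, i < 18076 → P i := stepQ 18075 Q18075 (allL N18075 (tt N16742 F158125) (tt N19340 (iv F163699)) (tt N19495 (iv F164456)) (tt N16214 F158126) (tt N19791 (iv F165893)) (tt N16221 F158127) (tt N16213 (iv D34002)) (tt N16737 F158128) (tt N19492 (iv F164444)) (tt N19124 (iv F162572)))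
theorem Q18077 : ∀ i, i < 18077 → P i := stepQ 18076 Q18076 (allL N18076 (tt N19514 (iv F164546)) (tt N16217 F158129) (tt N19774 (iv F165826)) (tt N19792 D35719) (tt N16215 (iv D34003)) (tt N16552 F158130) (tt N19577 (iv F164832)) (tt N19793 D35720) (tt N19510 (iv F164531)) (tt N19535 (iv F164638)))
theorem Q18078 : ∀ i, i < 18078 → P i := stepQ 18077 Q18077 (allL N18077 (tt N19516 (iv F164555)) (tt N16218 F158131) (tt N19775 (iv F165829)) (tt N16237 F158132) (tt N19793 (iv F165899)) (tt N16216 F158133) (tt N19794 D35721) (tt N16215 (iv D34004)) (tt N19511 (iv F164537)) (tt N19536 (iv F164642)))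
theorem Q18079 : ∀ i, i < 18079 → P i := stepQ 18078 Q18078 (allL N18078 (tt N18859 (iv F160978)) (tt N19792 (iv F165895)) (tt N16320 F158134) (tt N16217 (iv D34005)) (tt N16238 F158135) (tt N16555 F158136) (tt N19772 (iv F165816)) (tt N19795 D35722) (tt N19771 (iv F165812)) (tt N19537 (iv F164647)))
theorem Q18080 : ∀ i, i < 18080 → P i := stepQ 18079 Q18079 (allL N18079 (tt N18860 (iv F160986)) (tt N19793 (iv F165898)) (tt N16219 F158137) (tt N19795 (iv F165904)) (tt N16218 F158138) (tt N16556 F158139) (tt N19796 D35723) (tt N16217 (iv D34006)) (tt N19768 (iv F165798)) (tt N19538 (iv F164653)))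
theorem Q18081 : ∀ i, i < 18081 → P i := stepQ 18080 Q18080 (allL N18080 (tt N18861 (iv F160993)) (tt N19794 (iv F165901)) (tt N16221 F158140) (tt N16240 F158141) (tt N19796 (iv F165908)) (tt N19495 F164460) (tt N16218 (iv D34007)) (tt N19556 (iv F164732)) (tt N19531 (iv F164619)) (tt N19540 (iv F164661)))
theorem Q18082 : ∀ i, i < 18082 → P i := stepQ 18081 Q18081 (allL N18081 (tt N18862 (iv F161001)) (tt N19781 (iv F165846)) (tt N19796 (iv F165907)) (tt N16326 F158142) (tt N16221 F158143) (tt N19797 D35724) (tt N16219 (iv D34008)) (tt N19790 (iv F165891)) (tt N19798 D35725) (tt N19542 (iv F164670)))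
theorem Q18083 : ∀ i, i < 18083 → P i := stepQ 18082 Q18082 (allL N18082 (tt N18863 (iv F161007)) (tt N19782 (iv F165849)) (tt N19768 (iv F165796)) (tt N16327 F158144) (tt N16222 F158145) (tt N19799 D35726) (tt N19798 (iv F165913)) (tt N16220 F158146) (tt N16219 (iv D34009)) (tt N19800 D35727))
theorem Q18084 : ∀ i, i < 18084 → P i := stepQ 18083 Q18083 (allL N18083 (tt N18864 (iv F161013)) (tt N19561 (iv F164756)) (tt N19770 (iv F165805)) (tt N16328 F158147) (tt N16227 F158148) (tt N16220 (iv D34010)) (tt N19801 D35728) (tt N19799 (iv F165916)) (tt N16563 F158149) (tt N19802 D35729))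
theorem Q18085 : ∀ i, i < 18085 → P i := stepQ 18084 Q18084 (allL N18084 (tt N18865 (iv F161019)) (tt N19783 (iv F165853)) (tt N19462 (iv F164314)) (tt N16329 F158150) (tt N16223 F158151) (tt N19802 (iv F165926)) (tt N19454 F164283) (tt N19800 (iv F165920)) (tt N19545 (iv F164682)) (tt N16220 (iv D34011)))
theorem Q18086 : ∀ i, i < 18086 → P i := stepQ 18085 Q18085 (allL N18085 (tt N18866 (iv F161026)) (tt N19784 (iv F165856)) (tt N19531 (iv F164615)) (tt N16224 F158152) (tt N19798 (iv F165912)) (tt N19523 (iv F164588)) (tt N16222 F158153) (tt N19596 (iv F164898)) (tt N16221 (iv D34012)) (tt N19803 D35730))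
theorem Q18087 : ∀ i, i < 18087 → P i := stepQ 18086 Q18086 (allL N18086 (tt N18867 (iv F161033)) (tt N19785 (iv F165859)) (tt N19469 (iv F164348)) (tt N16225 F158154) (tt N19800 (iv F165919)) (tt N16229 F158155) (tt N19803 (iv F165928)) (tt N16223 F158156) (tt N19547 (iv F164690)) (tt N16222 (iv D34013)))
theorem Q18088 : ∀ i, i < 18088 → P i := stepQ 18087 Q18087 (allL N18087 (tt N18868 (iv F161040)) (tt N19786 (iv F165863)) (tt N16242 F158157) (tt N19803 (iv F165927)) (tt N16333 F158158) (tt N19644 (iv F165130)) (tt N16225 F158159) (tt N19686 (iv F165338)) (tt N19549 (iv F164698)) (tt N16224 (iv D34014)))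
theorem Q18089 : ∀ i, i < 18089 → P i := stepQ 18088 Q18088 (allL N18088 (tt N18869 (iv F161048)) (tt N19659 (iv F165205)) (tt N19763 (iv F165777)) (tt N16230 F158160) (tt N19799 (iv F165915)) (tt N16226 (iv D34015)) (tt N19804 D35731) (tt N16227 F158161) (tt N16592 F158162) (tt N19805 D35732))
theorem Q18090 : ∀ i, i < 18090 → P i := stepQ 18089 Q18089 (allL N18089 (tt N18870 (iv F161054)) (tt N19788 (iv F165875)) (tt N19750 (iv F165713)) (tt N16231 F158163) (tt N16229 F158164) (tt N19805 (iv F165932)) (tt N19145 (iv F162689)) (tt N16228 F158165) (tt N18089 F158166) (tt N16226 (iv D34016)))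
theorem Q18091 : ∀ i, i < 18091 → P i := stepQ 18090 Q18090 (allL N18090 (tt N18871 (iv F161062)) (tt N19619 (iv F164987)) (tt N19749 (iv F165706)) (tt N16232 F158167) (tt N19801 (iv F165922)) (tt N19077 (iv F162317)) (tt N16227 (iv D34017)) (tt N19806 D35733) (tt N16593 F158168) (tt N19744 (iv F165681)))
theorem Q18092 : ∀ i, i < 18092 → P i := stepQ 18091 Q18091 (allL N18091 (tt N18872 (iv F161069)) (tt N19660 (iv F165210)) (tt N19748 (iv F165700)) (tt N16233 F158169) (tt N19802 (iv F165925)) (tt N16228 F158170) (tt N19744 (iv F165680)) (tt N19805 (iv F165933)) (tt N19675 (iv F165292)) (tt N16227 (iv D34018)))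
theorem Q18093 : ∀ i, i < 18093 → P i := stepQ 18092 Q18092 (allL N18092 (tt N18873 (iv F161075)) (tt N19662 (iv F165223)) (tt N18092 F158171) (tt N19804 (iv F165929)) (tt N16354 F158172) (tt N19293 (iv F163444)) (tt N16230 (iv D34019)) (tt N19807 D35734) (tt N16600 F158173) (tt N19808 D35735))
theorem Q18094 : ∀ i, i < 18094 → P i := stepQ 18093 Q18093 (allL N18093 (tt N18874 (iv F161081)) (tt N19663 (iv F165229)) (tt N18093 F158174) (tt N19805 (iv F165931)) (tt N16355 F158175) (tt N16231 F158176) (tt N19808 (iv F165942)) (tt N16233 F158177) (tt N19678 (iv F165306)) (tt N16230 (iv D34020)))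
theorem Q18095 : ∀ i, i < 18095 → P i := stepQ 18094 Q18094 (allL N18094 (tt N18875 (iv F161087)) (tt N19621 (iv F165000)) (tt N18094 F158178) (tt N19806 (iv F165934)) (tt N16356 F158179) (tt N19222 (iv F163040)) (tt N19807 (iv F165938)) (tt N16232 (iv D34021)) (tt N16601 F158180) (tt N19809 D35736))
theorem Q18096 : ∀ i, i < 18096 → P i := stepQ 18095 Q18095 (allL N18095 (tt N16995 F158181) (tt N17012 F158182) (tt N18095 F158183) (tt N19744 (iv F165679)) (tt N16357 F158184) (tt N16994 F158185) (tt N16233 F158186) (tt N19809 (iv F165948)) (tt N19635 (iv F165086)) (tt N16232 (iv D34022)))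
theorem Q18097 : ∀ i, i < 18097 → P i := stepQ 18096 Q18096 (allL N18096 (tt N18877 (iv F161101)) (tt N19789 (iv F165883)) (tt N19810 D35737) (tt N16234 (iv D34023)) (tt N19329 (iv F163635)) (tt N19639 F165105) (tt N16360 F158187) (tt N18881 (iv F161138)) (tt N18096 F158188) (tt N19811 D35738))
theorem Q18098 : ∀ i, i < 18098 → P i := stepQ 18097 Q18097 (allL N18097 (tt N16938 F158189) (tt N19689 (iv F165353)) (tt N16244 F158190) (tt N19811 (iv F165957)) (tt N16235 F158191) (tt N19643 (iv F165125)) (tt N16361 F158192) (tt N16936 F158193) (tt N17021 (iv F158194)) (tt N16234 (iv D34024)))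
theorem Q18099 : ∀ i, i < 18099 → P i := stepQ 18098 Q18098 (allL N18098 (tt N16939 F158195) (tt N19690 (iv F165360)) (tt N16245 F158196) (tt N19322 (iv F163584)) (tt N17021 F158197) (tt N18098 F158198) (tt N16362 F158199) (tt N16937 F158200) (tt N16235 (iv D34025)) (tt N18098 F158201))
theorem Q18100 : ∀ i, i < 18100 → P i := stepQ 18099 Q18099 (allL N18099 (tt N19632 (iv F165064)) (tt N16238 F158202) (tt N19812 D35739) (tt N16236 (iv D34026)) (tt N19792 (iv F165896)) (tt N16248 F158203) (tt N19210 (iv F162984)) (tt N19813 D35740) (tt N19209 F162979) (tt N19646 (iv F165144)))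
theorem Q18101 : ∀ i, i < 18101 → P i := stepQ 18100 Q18100 (allL N18100 (tt N19634 (iv F165074)) (tt N16239 F158204) (tt N18100 F158205) (tt N19813 (iv F165966)) (tt N16237 F158206) (tt N16249 F158207) (tt N19814 D35741) (tt N16236 (iv D34027)) (tt N19221 F163035) (tt N19647 (iv F165151)))
theorem Q18102 : ∀ i, i < 18102 → P i := stepQ 18101 Q18101 (allL N18101 (tt N19636 (iv F165087)) (tt N16240 F158208) (tt N18101 F158209) (tt N19794 (iv F165902)) (tt N19814 (iv F165970)) (tt N19386 F163977) (tt N16237 (iv D34028)) (tt N19427 (iv F164171)) (tt N19404 (iv F164052)) (tt N19648 (iv F165154)))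
theorem Q18103 : ∀ i, i < 18103 → P i := stepQ 18102 Q18102 (allL N18102 (tt N18878 (iv F161110)) (tt N19813 (iv F165965)) (tt N16378 F158210) (tt N16239 F158211) (tt N19795 (iv F165905)) (tt N16251 F158212) (tt N19815 D35742) (tt N16238 (iv D34029)) (tt N19769 (iv F165803)) (tt N19649 (iv F165160)))
theorem Q18104 : ∀ i, i < 18104 → P i := stepQ 18103 Q18103 (allL N18103 (tt N18879 (iv F161117)) (tt N19814 (iv F165968)) (tt N16241 F158213) (tt N19815 (iv F165972)) (tt N16240 F158214) (tt N19816 D35743) (tt N16239 (iv D34030)) (tt N19558 (iv F164742)) (tt N19533 (iv F164628)) (tt N19650 (iv F165165)))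
theorem Q18105 : ∀ i, i < 18105 → P i := stepQ 18104 Q18104 (allL N18104 (tt N18880 (iv F161124)) (tt N18104 F158215) (tt N19816 (iv F165973)) (tt N16384 F158216) (tt N19617 (iv F164977)) (tt N16241 (iv D34031)) (tt N16253 F158217) (tt N19654 (iv F165185)) (tt N19817 D35744) (tt N19652 (iv F165174)))
theorem Q18106 : ∀ i, i < 18106 → P i := stepQ 18105 Q18105 (allL N18105 (tt N16703 F158218) (tt N19317 (iv F163550)) (tt N16243 (iv D34032)) (tt N19810 (iv F165950)) (tt N18105 F158219) (tt N19252 F163216) (tt N16397 F158220) (tt N16701 F158221) (tt N18105 F158222) (tt N16700 F158223))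
theorem Q18107 : ∀ i, i < 18107 → P i := stepQ 18106 Q18106 (allL N18106 (tt N17115 F158224) (tt N18106 F158225) (tt N18899 (iv F161255)) (tt N16396 F158226) (tt N16253 F158227) (tt N16246 (iv D34033)) (tt N19617 (iv F164978)) (tt N18106 F158228) (tt N16393 F158229) (tt N19319 (iv F163566)))
theorem Q18108 : ∀ i, i < 18108 → P i := stepQ 18107 Q18107 (allL N18107 (tt N16248 F158230) (tt N18881 (iv F161133)) (tt N19738 (iv F165640)) (tt N16247 (iv D34034)) (tt N16726 F158231) (tt N19632 F165068) (tt N18107 F158232) (tt N19789 (iv F165886)) (tt N18107 F158233) (tt N19688 (iv F165350)))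
theorem Q18109 : ∀ i, i < 18109 → P i := stepQ 18108 Q18108 (allL N18108 (tt N19738 (iv F165638)) (tt N16400 F158234) (tt N16248 (iv D34035)) (tt N18108 F158235) (tt N16482 F158236) (tt N19812 (iv F165963)) (tt N18108 F158237) (tt N19818 D35745) (tt N18108 F158238) (tt N16479 F158239))
theorem Q18110 : ∀ i, i < 18110 → P i := stepQ 18109 Q18109 (allL N18109 (tt N19789 (iv F165882)) (tt N16251 F158240) (tt N19818 (iv F165982)) (tt N16249 F158241) (tt N16728 F158242) (tt N19813 (iv F165967)) (tt N19819 D35746) (tt N16248 (iv D34036)) (tt N18109 F158243) (tt N19691 (iv F165373)))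
theorem Q18111 : ∀ i, i < 18111 → P i := stepQ 18110 Q18110 (allL N18110 (tt N16294 F158244) (tt N16252 F158245) (tt N18110 F158246) (tt N19819 (iv F165989)) (tt N16250 F158247) (tt N19820 D35747) (tt N16249 (iv D34037)) (tt N18110 F158248) (tt N18110 F158249) (tt N19692 (iv F165380)))
theorem Q18112 : ∀ i, i < 18112 → P i := stepQ 18111 Q18111 (allL N18111 (tt N18882 (iv F161141)) (tt N19819 (iv F165988)) (tt N16403 F158250) (tt N16252 F158251) (tt N16730 F158252) (tt N19821 D35748) (tt N16251 (iv D34038)) (tt N18111 F158253) (tt N18111 F158254) (tt N19694 (iv F165396)))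
theorem Q18113 : ∀ i, i < 18113 → P i := stepQ 18112 Q18112 (allL N18112 (tt N18883 (iv F161149)) (tt N19820 (iv F165994)) (tt N16253 F158255) (tt N19821 (iv F165999)) (tt N18899 (iv F161256)) (tt N16252 (iv D34039)) (tt N19816 (iv F165974)) (tt N18112 F158256) (tt N19822 D35749) (tt N19695 (iv F165400)))
theorem Q18114 : ∀ i, i < 18114 → P i := stepQ 18113 Q18113 (allL N18113 (tt N17116 F158257) (tt N18113 F158258) (tt N19822 (iv F166002)) (tt N16405 F158259) (tt N16393 F158260) (tt N18113 F158261) (tt N19817 (iv F165979)) (tt N18113 F158262) (tt N16253 (iv D34040)) (tt N16392 (iv F158263)))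
theorem Q18115 : ∀ i, i < 18115 → P i := stepQ 18114 Q18114 (allL N18114 (tt N16281 F158264) (tt N18889 (iv F161189)) (tt N19554 (iv F164719)) (tt N19382 (iv F163950)) (tt N16255 F158265) (tt N16736 F158266) (tt N19823 D35750) (tt N16254 (iv D34041)) (tt N19824 D35751) (tt N19348 (iv F163755)))
theorem Q18116 : ∀ i, i < 18116 → P i := stepQ 18115 Q18115 (allL N18115 (tt N16282 F158267) (tt N18890 (iv F161195)) (tt N16842 F158268) (tt N19383 (iv F163956)) (tt N16256 F158269) (tt N16836 F158270) (tt N19412 (iv F164103)) (tt N19824 (iv F166013)) (tt N16254 (iv D34042)) (tt N19825 D35752))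
theorem Q18117 : ∀ i, i < 18117 → P i := stepQ 18116 Q18116 (allL N18116 (tt N16283 F158271) (tt N18891 (iv F161201)) (tt N19606 (iv F164926)) (tt N16257 F158272) (tt N19823 (iv F166008)) (tt N19362 (iv F163840)) (tt N16255 (iv D34043)) (tt N19413 (iv F164108)) (tt N19826 D35753) (tt N19350 (iv F163766)))
theorem Q18118 : ∀ i, i < 18118 → P i := stepQ 18117 Q18117 (allL N18117 (tt N16284 F158273) (tt N18892 (iv F161207)) (tt N16961 F158274) (tt N16258 F158275) (tt N19824 (iv F166011)) (tt N16261 F158276) (tt N19826 (iv F166021)) (tt N16256 F158277) (tt N16255 (iv D34044)) (tt N19827 D35754))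
theorem Q18119 : ∀ i, i < 18119 → P i := stepQ 18118 Q18118 (allL N18118 (tt N16285 F158278) (tt N18893 (iv F161212)) (tt N16964 F158279) (tt N16259 F158280) (tt N19825 (iv F166016)) (tt N16262 F158281) (tt N19415 (iv F164121)) (tt N19827 (iv F166026)) (tt N19352 (iv F163778)) (tt N16256 (iv D34045)))
theorem Q18120 : ∀ i, i < 18120 → P i := stepQ 18119 Q18119 (allL N18119 (tt N16286 F158282) (tt N18894 (iv F161219)) (tt N18119 F158283) (tt N19826 (iv F166020)) (tt N19386 (iv F163974)) (tt N19828 D35755) (tt N16258 F158284) (tt N19416 (iv F164128)) (tt N16257 (iv D34046)) (tt N19829 D35756))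
theorem Q18121 : ∀ i, i < 18121 → P i := stepQ 18120 Q18120 (allL N18120 (tt N16287 F158285) (tt N18895 (iv F161225)) (tt N18120 F158286) (tt N19827 (iv F166024)) (tt N19261 (iv F163266)) (tt N16264 F158287) (tt N19829 (iv F166032)) (tt N16259 F158288) (tt N19354 (iv F163792)) (tt N16258 (iv D34047)))
theorem Q18122 : ∀ i, i < 18122 → P i := stepQ 18121 Q18121 (allL N18121 (tt N16288 F158289) (tt N18897 (iv F161240)) (tt N16960 F158290) (tt N16263 F158291) (tt N16957 F158292) (tt N19830 D35757) (tt N16261 F158293) (tt N18121 F158294) (tt N16260 (iv D34048)) (tt N19831 D35758))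
theorem Q18123 : ∀ i, i < 18123 → P i := stepQ 18122 Q18122 (allL N18122 (tt N16289 F158295) (tt N18898 (iv F161247)) (tt N16962 F158296) (tt N16264 F158297) (tt N16958 F158298) (tt N19827 (iv F166025)) (tt N19831 (iv F166041)) (tt N16262 F158299) (tt N16407 F158300) (tt N16261 (iv D34049)))
theorem Q18124 : ∀ i, i < 18124 → P i := stepQ 18123 Q18123 (allL N18123 (tt N16290 F158301) (tt N18899 (iv F161254)) (tt N18123 F158302) (tt N19830 (iv F166035)) (tt N19820 (iv F165996)) (tt N16263 (iv D34050)) (tt N19828 (iv F166029)) (tt N18123 F158303) (tt N19710 (iv F165484)) (tt N19832 D35759))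
theorem Q18125 : ∀ i, i < 18125 → P i := stepQ 18124 Q18124 (allL N18124 (tt N16291 F158304) (tt N18900 (iv F161260)) (tt N18124 F158305) (tt N19831 (iv F166039)) (tt N16267 F158306) (tt N19832 (iv F166046)) (tt N16264 F158307) (tt N18124 F158308) (tt N16408 F158309) (tt N16263 (iv D34051)))
theorem Q18126 : ∀ i, i < 18126 → P i := stepQ 18125 Q18125 (allL N18125 (tt N16293 F158310) (tt N16710 F158311) (tt N16973 F158312) (tt N16267 F158313) (tt N16972 F158314) (tt N16718 F158315) (tt N16266 F158316) (tt N18125 F158317) (tt N16409 F158318) (tt N16265 (iv D34052)))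
theorem Q18127 : ∀ i, i < 18127 → P i := stepQ 18126 Q18126 (allL N18126 (tt N19397 (iv F164021)) (tt N16269 F158319) (tt N16305 F158320) (tt N18126 F158321) (tt N19833 D35760) (tt N16268 (iv D34053)) (tt N16277 F158322) (tt N19834 D35761) (tt N19714 (iv F165509)) (tt N19337 F163685))
theorem Q18128 : ∀ i, i < 18128 → P i := stepQ 18127 Q18127 (allL N18127 (tt N19745 (iv F165682)) (tt N16270 F158323) (tt N16306 F158324) (tt N18127 F158325) (tt N19078 (iv F162323)) (tt N19834 (iv F166055)) (tt N16993 F158326) (tt N16268 (iv D34054)) (tt N18127 F158327) (tt N19379 (iv F163937)))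
theorem Q18129 : ∀ i, i < 18129 → P i := stepQ 18128 Q18128 (allL N18128 (tt N19409 (iv F164080)) (tt N19833 (iv F166049)) (tt N16271 F158328) (tt N19835 D35762) (tt N16269 (iv D34055)) (tt N19079 (iv F162329)) (tt N16279 F158329) (tt N19836 D35763) (tt N19571 (iv F164808)) (tt N19380 (iv F163942)))
theorem Q18130 : ∀ i, i < 18130 → P i := stepQ 18129 Q18129 (allL N18129 (tt N19410 (iv F164086)) (tt N19834 (iv F166052)) (tt N16272 F158330) (tt N18129 F158331) (tt N19836 (iv F166059)) (tt N16270 F158332) (tt N19837 D35764) (tt N16269 (iv D34056)) (tt N19723 (iv F165559)) (tt N19381 (iv F163947)))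
theorem Q18131 : ∀ i, i < 18131 → P i := stepQ 18130 Q18130 (allL N18130 (tt N19411 (iv F164092)) (tt N16310 F158333) (tt N19836 (iv F166058)) (tt N19348 (iv F163752)) (tt N16272 F158334) (tt N19081 (iv F162341)) (tt N19838 D35765) (tt N16271 (iv D34057)) (tt N19839 D35766) (tt N19382 (iv F163953)))
theorem Q18132 : ∀ i, i < 18132 → P i := stepQ 18131 Q18131 (allL N18131 (tt N19412 (iv F164098)) (tt N16311 F158335) (tt N19571 (iv F164806)) (tt N19349 (iv F163758)) (tt N16273 F158336) (tt N19840 D35767) (tt N16282 F158337) (tt N19839 (iv F166068)) (tt N16271 (iv D34058)) (tt N19841 D35768))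
theorem Q18133 : ∀ i, i < 18133 → P i := stepQ 18132 Q18132 (allL N18132 (tt N19413 (iv F164104)) (tt N16312 F158338) (tt N19837 (iv F166060)) (tt N16274 F158339) (tt N19838 (iv F166064)) (tt N19072 (iv F162285)) (tt N16272 (iv D34059)) (tt N16283 F158340) (tt N19842 D35769) (tt N19384 (iv F163965)))
theorem Q18134 : ∀ i, i < 18134 → P i := stepQ 18133 Q18133 (allL N18133 (tt N19414 (iv F164110)) (tt N16313 F158341) (tt N19723 (iv F165556)) (tt N16275 F158342) (tt N19839 (iv F166067)) (tt N18133 F158343) (tt N19842 (iv F166076)) (tt N16273 F158344) (tt N16272 (iv D34060)) (tt N19843 D35770))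
theorem Q18135 : ∀ i, i < 18135 → P i := stepQ 18134 Q18134 (allL N18134 (tt N19415 (iv F164116)) (tt N16314 F158345) (tt N19724 (iv F165562)) (tt N16276 F158346) (tt N19841 (iv F166072)) (tt N18134 F158347) (tt N16285 F158348) (tt N19843 (iv F166081)) (tt N19118 F162533) (tt N16273 (iv D34061)))
theorem Q18136 : ∀ i, i < 18136 → P i := stepQ 18135 Q18135 (allL N18135 (tt N19416 (iv F164123)) (tt N16315 F158349) (tt N18135 F158350) (tt N19842 (iv F166075)) (tt N19353 (iv F163782)) (tt N19844 D35771) (tt N16275 F158351) (tt N16286 F158352) (tt N16274 (iv D34062)) (tt N19845 D35772))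
theorem Q18137 : ∀ i, i < 18137 → P i := stepQ 18136 Q18136 (allL N18136 (tt N19417 (iv F164129)) (tt N16316 F158353) (tt N18136 F158354) (tt N19843 (iv F166079)) (tt N19354 (iv F163789)) (tt N18136 F158355) (tt N19845 (iv F166088)) (tt N16276 F158356) (tt N19261 (iv F163268)) (tt N16275 (iv D34063)))
theorem Q18138 : ∀ i, i < 18138 → P i := stepQ 18137 Q18137 (allL N18137 (tt N19455 (iv F164285)) (tt N16279 F158357) (tt N16317 F158358) (tt N18943 (iv F161519)) (tt N16277 (iv D34064)) (tt N16748 F158359) (tt N19833 (iv F166051)) (tt N19846 D35773) (tt N19437 (iv F164215)) (tt N19370 F163882))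
theorem Q18139 : ∀ i, i < 18139 → P i := stepQ 18138 Q18138 (allL N18138 (tt N19457 (iv F164293)) (tt N16280 F158360) (tt N16318 F158361) (tt N18138 F158362) (tt N19846 (iv F166092)) (tt N16278 F158363) (tt N19847 D35774) (tt N16277 (iv D34065)) (tt N19713 (iv F165504)) (tt N19372 F163892))
theorem Q18140 : ∀ i, i < 18140 → P i := stepQ 18139 Q18139 (allL N18139 (tt N19544 (iv F164675)) (tt N18943 (iv F161518)) (tt N19776 (iv F165832)) (tt N16279 (iv D34066)) (tt N18139 F158364) (tt N16762 F158365) (tt N19835 (iv F166057)) (tt N19848 D35775) (tt N19157 (iv F162744)) (tt N19418 (iv F164138)))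
theorem Q18141 : ∀ i, i < 18141 → P i := stepQ 18140 Q18140 (allL N18140 (tt N19554 (iv F164718)) (tt N19846 (iv F166090)) (tt N16281 F158366) (tt N19848 (iv F166098)) (tt N16280 F158367) (tt N16763 F158368) (tt N19849 D35776) (tt N16279 (iv D34067)) (tt N19569 (iv F164800)) (tt N19419 (iv F164142)))
theorem Q18142 : ∀ i, i < 18142 → P i := stepQ 18141 Q18141 (allL N18141 (tt N19606 (iv F164925)) (tt N19847 (iv F166094)) (tt N16283 F158369) (tt N18141 F158370) (tt N19849 (iv F166102)) (tt N19432 (iv F164193)) (tt N16280 (iv D34068)) (tt N19837 (iv F166062)) (tt N19721 (iv F165549)) (tt N19420 (iv F164146)))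
theorem Q18143 : ∀ i, i < 18143 → P i := stepQ 18142 Q18142 (allL N18142 (tt N19823 (iv F166007)) (tt N16326 F158371) (tt N19849 (iv F166101)) (tt N19781 (iv F165847)) (tt N16283 F158372) (tt N19850 D35777) (tt N16281 (iv D34069)) (tt N19838 (iv F166065)) (tt N19851 D35778) (tt N19421 (iv F164149)))
theorem Q18144 : ∀ i, i < 18144 → P i := stepQ 18143 Q18143 (allL N18143 (tt N19824 (iv F166009)) (tt N16327 F158373) (tt N19569 (iv F164797)) (tt N19782 (iv F165850)) (tt N16284 F158374) (tt N19563 (iv F164769)) (tt N19851 (iv F166107)) (tt N16282 F158375) (tt N16281 (iv D34070)) (tt N19852 D35779))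
theorem Q18145 : ∀ i, i < 18145 → P i := stepQ 18144 Q18144 (allL N18144 (tt N19825 (iv F166014)) (tt N16329 F158376) (tt N19572 (iv F164810)) (tt N19783 (iv F165854)) (tt N16285 F158377) (tt N19564 (iv F164775)) (tt N19841 (iv F166073)) (tt N19852 (iv F166110)) (tt N19424 (iv F164158)) (tt N16282 (iv D34071)))
theorem Q18146 : ∀ i, i < 18146 → P i := stepQ 18145 Q18145 (allL N18145 (tt N19826 (iv F166018)) (tt N16330 F158378) (tt N19721 (iv F165547)) (tt N16286 F158379) (tt N19851 (iv F166106)) (tt N19853 D35780) (tt N16284 F158380) (tt N19842 (iv F166077)) (tt N16283 (iv D34072)) (tt N19854 D35781))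
theorem Q18147 : ∀ i, i < 18147 → P i := stepQ 18146 Q18146 (allL N18146 (tt N19827 (iv F166022)) (tt N16331 F158381) (tt N19722 (iv F165551)) (tt N16287 F158382) (tt N19852 (iv F166109)) (tt N16289 F158383) (tt N19854 (iv F166116)) (tt N16285 F158384) (tt N19426 (iv F164166)) (tt N16284 (iv D34073)))
theorem Q18148 : ∀ i, i < 18148 → P i := stepQ 18147 Q18147 (allL N18147 (tt N19828 (iv F166027)) (tt N16332 F158385) (tt N18147 F158386) (tt N19853 (iv F166112)) (tt N19855 D35782) (tt N16286 (iv D34074)) (tt N16290 F158387) (tt N19844 (iv F166085)) (tt N19441 (iv F164232)) (tt N19856 D35783))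
theorem Q18149 : ∀ i, i < 18149 → P i := stepQ 18148 Q18148 (allL N18148 (tt N19829 (iv F166030)) (tt N16333 F158388) (tt N18148 F158389) (tt N19854 (iv F166115)) (tt N19786 (iv F165865)) (tt N19856 (iv F166122)) (tt N16287 F158390) (tt N19845 (iv F166089)) (tt N19428 (iv F164176)) (tt N16286 (iv D34075)))
theorem Q18150 : ∀ i, i < 18150 → P i := stepQ 18149 Q18149 (allL N18149 (tt N19830 (iv F166033)) (tt N16347 F158391) (tt N19719 (iv F165535)) (tt N16290 F158392) (tt N19857 D35784) (tt N16288 (iv D34076)) (tt N19853 (iv F166113)) (tt N18149 F158393) (tt N19715 (iv F165514)) (tt N19858 D35785))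
theorem Q18151 : ∀ i, i < 18151 → P i := stepQ 18150 Q18150 (allL N18150 (tt N19831 (iv F166037)) (tt N16348 F158394) (tt N19720 (iv F165540)) (tt N16291 F158395) (tt N19718 (iv F165530)) (tt N19858 (iv F166128)) (tt N16289 F158396) (tt N18150 F158397) (tt N16411 F158398) (tt N16288 (iv D34077)))
theorem Q18152 : ∀ i, i < 18152 → P i := stepQ 18151 Q18151 (allL N18151 (tt N19820 (iv F165993)) (tt N16349 F158399) (tt N18151 F158400) (tt N19859 D35786) (tt N16290 (iv D34078)) (tt N16294 F158401) (tt N19855 (iv F166119)) (tt N18151 F158402) (tt N19716 (iv F165519)) (tt N19860 D35787))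
theorem Q18153 : ∀ i, i < 18153 → P i := stepQ 18152 Q18152 (allL N18152 (tt N19832 (iv F166044)) (tt N16350 F158403) (tt N18152 F158404) (tt N19858 (iv F166127)) (tt N19860 (iv F166135)) (tt N16291 F158405) (tt N19856 (iv F166123)) (tt N18152 F158406) (tt N18985 (iv F161751)) (tt N16290 (iv D34079)))
theorem Q18154 : ∀ i, i < 18154 → P i := stepQ 18153 Q18153 (allL N18153 (tt N16729 F158407) (tt N16358 F158408) (tt N17097 F158409) (tt N19861 D35788) (tt N16292 (iv D34080)) (tt N19728 (iv F165581)) (tt N16727 F158410) (tt N18153 F158411) (tt N18153 F158412) (tt N19862 D35789))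
theorem Q18155 : ∀ i, i < 18155 → P i := stepQ 18154 Q18154 (allL N18154 (tt N16718 F158413) (tt N16359 F158414) (tt N17096 F158415) (tt N16295 F158416) (tt N19862 (iv F166147)) (tt N16293 F158417) (tt N16715 F158418) (tt N18154 F158419) (tt N19863 D35790) (tt N16292 (iv D34081)))
theorem Q18156 : ∀ i, i < 18156 → P i := stepQ 18155 Q18155 (allL N18155 (tt N19819 (iv F165987)) (tt N16360 F158420) (tt N19864 D35791) (tt N16294 (iv D34082)) (tt N19861 (iv F166140)) (tt N19859 (iv F166131)) (tt N19789 (iv F165885)) (tt N18155 F158421) (tt N18155 F158422) (tt N19865 D35792))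
theorem Q18157 : ∀ i, i < 18157 → P i := stepQ 18156 Q18156 (allL N18156 (tt N19692 (iv F165374)) (tt N16361 F158423) (tt N18156 F158424) (tt N19865 (iv F166164)) (tt N16295 F158425) (tt N19860 (iv F166136)) (tt N19689 F165358) (tt N18156 F158426) (tt N19866 D35793) (tt N16294 (iv D34083)))
theorem Q18158 : ∀ i, i < 18158 → P i := stepQ 18157 Q18157 (allL N18157 (tt N19693 (iv F165381)) (tt N16362 F158427) (tt N18157 F158428) (tt N19863 (iv F166154)) (tt N19866 (iv F166169)) (tt N16413 F158429) (tt N19690 (iv F165365)) (tt N18157 F158430) (tt N16295 (iv D34084)) (tt N18157 F158431))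
theorem Q18159 : ∀ i, i < 18159 → P i := stepQ 18158 Q18158 (allL N18158 (tt N19749 (iv F165704)) (tt N16297 F158432) (tt N18871 (iv F161064)) (tt N18158 F158433) (tt N19867 D35794) (tt N16296 (iv D34085)) (tt N16776 F158434) (tt N19868 D35795) (tt N19201 (iv F162945)) (tt N19019 (iv F161973)))
theorem Q18160 : ∀ i, i < 18160 → P i := stepQ 18159 Q18159 (allL N18159 (tt N19747 (iv F165691)) (tt N16298 F158435) (tt N19078 (iv F162321)) (tt N18159 F158436) (tt N16306 F158437) (tt N19868 (iv F166178)) (tt N16992 F158438) (tt N16296 (iv D34086)) (tt N18159 F158439) (tt N19020 (iv F161981)))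
theorem Q18161 : ∀ i, i < 18161 → P i := stepQ 18160 Q18160 (allL N18160 (tt N18926 (iv F161414)) (tt N19867 (iv F166173)) (tt N16299 F158440) (tt N19869 D35796) (tt N16297 (iv D34087)) (tt N16307 F158441) (tt N16778 F158442) (tt N19870 D35797) (tt N19871 D35798) (tt N19021 (iv F161987)))
theorem Q18162 : ∀ i, i < 18162 → P i := stepQ 18161 Q18161 (allL N18161 (tt N18927 (iv F161420)) (tt N19868 (iv F166176)) (tt N16300 F158443) (tt N18161 F158444) (tt N19870 (iv F166183)) (tt N16298 F158445) (tt N19872 D35799) (tt N16297 (iv D34088)) (tt N19873 D35800) (tt N19022 (iv F161993)))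
theorem Q18163 : ∀ i, i < 18163 → P i := stepQ 18162 Q18162 (allL N18162 (tt N18928 (iv F161426)) (tt N19201 (iv F162941)) (tt N16301 F158446) (tt N18162 F158447) (tt N19871 (iv F166186)) (tt N18162 F158448) (tt N16780 F158449) (tt N19873 (iv F166194)) (tt N16297 (iv D34089)) (tt N19874 D35801))
theorem Q18164 : ∀ i, i < 18164 → P i := stepQ 18163 Q18163 (allL N18163 (tt N18929 (iv F161432)) (tt N19081 (iv F162338)) (tt N19870 (iv F166182)) (tt N19360 (iv F163827)) (tt N16300 F158450) (tt N16310 F158451) (tt N19875 D35802) (tt N16299 (iv D34090)) (tt N19876 D35803) (tt N19023 (iv F161999)))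
theorem Q18165 : ∀ i, i < 18165 → P i := stepQ 18164 Q18164 (allL N18164 (tt N18930 (iv F161438)) (tt N19082 (iv F162344)) (tt N19871 (iv F166185)) (tt N19361 (iv F163833)) (tt N16301 F158452) (tt N19877 D35804) (tt N16782 F158453) (tt N19876 (iv F166203)) (tt N16299 (iv D34091)) (tt N19878 D35805))
theorem Q18166 : ∀ i, i < 18166 → P i := stepQ 18165 Q18165 (allL N18165 (tt N18931 (iv F161443)) (tt N19083 (iv F162350)) (tt N19872 (iv F166188)) (tt N16302 F158454) (tt N19875 (iv F166200)) (tt N19035 (iv F162075)) (tt N16300 (iv D34092)) (tt N16783 F158455) (tt N19879 D35806) (tt N19025 (iv F162013)))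
theorem Q18167 : ∀ i, i < 18167 → P i := stepQ 18166 Q18166 (allL N18166 (tt N18932 (iv F161449)) (tt N19084 (iv F162356)) (tt N19873 (iv F166191)) (tt N16303 F158456) (tt N19876 (iv F166202)) (tt N18166 F158457) (tt N19879 (iv F166212)) (tt N16301 F158458) (tt N16300 (iv D34093)) (tt N19880 D35807))
theorem Q18168 : ∀ i, i < 18168 → P i := stepQ 18167 Q18167 (allL N18167 (tt N18933 (iv F161454)) (tt N16379 F158459) (tt N19874 (iv F166195)) (tt N16304 F158460) (tt N19878 (iv F166208)) (tt N18167 F158461) (tt N16785 F158462) (tt N19880 (iv F166217)) (tt N16374 F158463) (tt N16301 (iv D34094)))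
theorem Q18169 : ∀ i, i < 18169 → P i := stepQ 18168 Q18168 (allL N18168 (tt N18934 (iv F161460)) (tt N19085 (iv F162362)) (tt N18168 F158464) (tt N19879 (iv F166211)) (tt N19364 (iv F163852)) (tt N19881 D35808) (tt N16303 F158465) (tt N16786 F158466) (tt N16302 (iv D34095)) (tt N19882 D35809))
theorem Q18170 : ∀ i, i < 18170 → P i := stepQ 18169 Q18169 (allL N18169 (tt N18935 (iv F161466)) (tt N16381 F158467) (tt N18169 F158468) (tt N19880 (iv F166215)) (tt N16377 F158469) (tt N18169 F158470) (tt N19882 (iv F166225)) (tt N16304 F158471) (tt N16375 F158472) (tt N16303 (iv D34096)))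
theorem Q18171 : ∀ i, i < 18171 → P i := stepQ 18170 Q18170 (allL N18170 (tt N19401 (iv F164034)) (tt N16307 F158473) (tt N19833 (iv F166050)) (tt N19883 D35810) (tt N16305 (iv D34097)) (tt N19867 (iv F166174)) (tt N16317 F158474) (tt N19884 D35811) (tt N19885 D35812) (tt N19339 F163697))
theorem Q18172 : ∀ i, i < 18172 → P i := stepQ 18171 Q18171 (allL N18171 (tt N19403 (iv F164042)) (tt N16308 F158475) (tt N19834 (iv F166053)) (tt N16364 F158476) (tt N19884 (iv F166234)) (tt N16306 F158477) (tt N19886 D35813) (tt N16305 (iv D34098)) (tt N19887 D35814) (tt N19341 F163709))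
theorem Q18173 : ∀ i, i < 18173 → P i := stepQ 18172 Q18172 (allL N18172 (tt N19074 (iv F162293)) (tt N16309 F158478) (tt N19714 (iv F165506)) (tt N16365 F158479) (tt N19885 (iv F166237)) (tt N18172 F158480) (tt N16319 F158481) (tt N19887 (iv F166247)) (tt N16305 (iv D34099)) (tt N16502 F158482))
theorem Q18174 : ∀ i, i < 18174 → P i := stepQ 18173 Q18173 (allL N18173 (tt N18936 (iv F161473)) (tt N19883 (iv F166228)) (tt N19772 (iv F165814)) (tt N16307 (iv D34100)) (tt N16366 F158483) (tt N19869 (iv F166180)) (tt N16320 F158484) (tt N19888 D35815) (tt N19139 (iv F162655)) (tt N19131 F162614))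
theorem Q18175 : ∀ i, i < 18175 → P i := stepQ 18174 Q18174 (allL N18174 (tt N18937 (iv F161480)) (tt N19884 (iv F166233)) (tt N16310 F158485) (tt N19888 (iv F166249)) (tt N16308 F158486) (tt N19870 (iv F166184)) (tt N19889 D35816) (tt N16307 (iv D34101)) (tt N19890 D35817) (tt N19491 (iv F164438)))
theorem Q18176 : ∀ i, i < 18176 → P i := stepQ 18175 Q18175 (allL N18175 (tt N18938 (iv F161485)) (tt N19885 (iv F166235)) (tt N16311 F158487) (tt N19139 (iv F162652)) (tt N16309 F158488) (tt N19891 D35818) (tt N16322 F158489) (tt N19890 (iv F166256)) (tt N16307 (iv D34102)) (tt N19123 (iv F162566)))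
theorem Q18177 : ∀ i, i < 18177 → P i := stepQ 18176 Q18176 (allL N18176 (tt N18939 (iv F161492)) (tt N19886 (iv F166240)) (tt N16312 F158490) (tt N16368 F158491) (tt N19889 (iv F166252)) (tt N19499 (iv F164480)) (tt N16308 (iv D34103)) (tt N16323 F158492) (tt N19892 D35819) (tt N19492 (iv F164445)))
theorem Q18178 : ∀ i, i < 18178 → P i := stepQ 18177 Q18177 (allL N18177 (tt N18940 (iv F161499)) (tt N19887 (iv F166244)) (tt N16313 F158493) (tt N16369 F158494) (tt N19890 (iv F166255)) (tt N18177 F158495) (tt N19892 (iv F166261)) (tt N16309 F158496) (tt N16308 (iv D34104)) (tt N19125 (iv F162579)))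
theorem Q18179 : ∀ i, i < 18179 → P i := stepQ 18178 Q18178 (allL N18178 (tt N18941 (iv F161506)) (tt N19838 (iv F166063)) (tt N19889 (iv F166251)) (tt N19790 (iv F165889)) (tt N16312 F158497) (tt N19893 D35820) (tt N16310 (iv D34105)) (tt N16326 F158498) (tt N19894 D35821) (tt N19493 (iv F164449)))
theorem Q18180 : ∀ i, i < 18180 → P i := stepQ 18179 Q18179 (allL N18179 (tt N18942 (iv F161512)) (tt N19839 (iv F166066)) (tt N19890 (iv F166254)) (tt N19614 (iv F164965)) (tt N16313 F158499) (tt N19895 D35822) (tt N19894 (iv F166265)) (tt N16311 F158500) (tt N16310 (iv D34106)) (tt N19896 D35823))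
theorem Q18181 : ∀ i, i < 18181 → P i := stepQ 18180 Q18180 (allL N18180 (tt N18943 (iv F161517)) (tt N19840 (iv F166069)) (tt N19891 (iv F166257)) (tt N19455 (iv F164287)) (tt N18180 F158501) (tt N16311 (iv D34107)) (tt N19897 D35824) (tt N19895 (iv F166268)) (tt N19877 (iv F166205)) (tt N19451 F164273))
theorem Q18182 : ∀ i, i < 18182 → P i := stepQ 18181 Q18181 (allL N18181 (tt N18944 (iv F161521)) (tt N19841 (iv F166071)) (tt N19123 (iv F162562)) (tt N19454 (iv F164281)) (tt N16314 F158502) (tt N19451 (iv F164272)) (tt N16329 F158503) (tt N19896 (iv F166270)) (tt N19120 (iv F162546)) (tt N16311 (iv D34108)))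
theorem Q18183 : ∀ i, i < 18183 → P i := stepQ 18182 Q18182 (allL N18182 (tt N18945 (iv F161528)) (tt N19842 (iv F166074)) (tt N19892 (iv F166259)) (tt N16315 F158504) (tt N19894 (iv F166264)) (tt N19898 D35825) (tt N16313 F158505) (tt N16330 F158506) (tt N16312 (iv D34109)) (tt N19899 D35826))
theorem Q18184 : ∀ i, i < 18184 → P i := stepQ 18183 Q18183 (allL N18183 (tt N18946 (iv F161533)) (tt N19843 (iv F166078)) (tt N19125 (iv F162575)) (tt N16316 F158507) (tt N19896 (iv F166269)) (tt N18183 F158508) (tt N19899 (iv F166277)) (tt N16314 F158509) (tt N19121 (iv F162552)) (tt N16313 (iv D34110)))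
theorem Q18185 : ∀ i, i < 18185 → P i := stepQ 18184 Q18184 (allL N18184 (tt N18947 (iv F161540)) (tt N19844 (iv F166082)) (tt N16372 F158510) (tt N19898 (iv F166273)) (tt N19684 (iv F165326)) (tt N16315 (iv D34111)) (tt N18184 F158511) (tt N16332 F158512) (tt N19508 (iv F164522)) (tt N19900 D35827))
theorem Q18186 : ∀ i, i < 18186 → P i := stepQ 18185 Q18185 (allL N18185 (tt N18948 (iv F161547)) (tt N19845 (iv F166086)) (tt N16373 F158513) (tt N19899 (iv F166276)) (tt N19686 (iv F165335)) (tt N19900 (iv F166280)) (tt N16316 F158514) (tt N16333 F158515) (tt N19262 (iv F163274)) (tt N16315 (iv D34112)))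
theorem Q18187 : ∀ i, i < 18187 → P i := stepQ 18186 Q18186 (allL N18186 (tt N19049 (iv F162144)) (tt N16320 F158516) (tt N19901 D35828) (tt N16317 (iv D34113)) (tt N16374 F158517) (tt N16848 F158518) (tt N19883 (iv F166230)) (tt N19902 D35829) (tt N19878 (iv F166210)) (tt N19024 F162007))
theorem Q18188 : ∀ i, i < 18188 → P i := stepQ 18187 Q18187 (allL N18187 (tt N19461 (iv F164307)) (tt N16321 F158519) (tt N19846 (iv F166091)) (tt N19902 (iv F166287)) (tt N16318 F158520) (tt N16849 F158521) (tt N19903 D35830) (tt N16317 (iv D34114)) (tt N19904 D35831) (tt N19374 F163901))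
theorem Q18189 : ∀ i, i < 18189 → P i := stepQ 18188 Q18188 (allL N18188 (tt N19438 (iv F164216)) (tt N16322 F158522) (tt N19437 (iv F164213)) (tt N19878 (iv F166207)) (tt N16319 F158523) (tt N19431 (iv F164189)) (tt N19885 (iv F166238)) (tt N19904 (iv F166294)) (tt N16317 (iv D34115)) (tt N19361 (iv F163836)))
theorem Q18190 : ∀ i, i < 18190 → P i := stepQ 18189 Q18189 (allL N18189 (tt N19464 (iv F164322)) (tt N16323 F158524) (tt N19847 (iv F166095)) (tt N16376 F158525) (tt N19903 (iv F166291)) (tt N16871 F158526) (tt N16318 (iv D34116)) (tt N19886 (iv F166243)) (tt N19905 D35832) (tt N19375 F163907))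
theorem Q18191 : ∀ i, i < 18191 → P i := stepQ 18190 Q18190 (allL N18190 (tt N19440 (iv F164223)) (tt N16324 F158527) (tt N19713 (iv F165501)) (tt N16377 F158528) (tt N19904 (iv F166293)) (tt N16335 F158529) (tt N19905 (iv F166297)) (tt N16319 F158530) (tt N16318 (iv D34117)) (tt N19363 (iv F163848)))
theorem Q18192 : ∀ i, i < 18192 → P i := stepQ 18191 Q18191 (allL N18191 (tt N18949 (iv F161554)) (tt N19902 (iv F166286)) (tt N19795 (iv F165903)) (tt N16321 F158531) (tt N16378 F158532) (tt N16851 F158533) (tt N19906 D35833) (tt N16320 (iv D34118)) (tt N19907 D35834) (tt N19550 (iv F164704)))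
theorem Q18193 : ∀ i, i < 18193 → P i := stepQ 18192 Q18192 (allL N18192 (tt N18950 (iv F161560)) (tt N19878 (iv F166206)) (tt N19771 (iv F165809)) (tt N16322 F158534) (tt N16379 F158535) (tt N19908 D35835) (tt N19139 (iv F162654)) (tt N19907 (iv F166302)) (tt N16320 (iv D34119)) (tt N19082 (iv F162348)))
theorem Q18194 : ∀ i, i < 18194 → P i := stepQ 18193 Q18193 (allL N18193 (tt N18951 (iv F161567)) (tt N19903 (iv F166290)) (tt N16326 F158536) (tt N19906 (iv F166298)) (tt N16323 F158537) (tt N19909 D35836) (tt N16321 (iv D34120)) (tt N19889 (iv F166253)) (tt N19910 D35837) (tt N19551 (iv F164709)))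
theorem Q18195 : ∀ i, i < 18195 → P i := stepQ 18194 Q18194 (allL N18194 (tt N18952 (iv F161572)) (tt N19904 (iv F166292)) (tt N16327 F158538) (tt N19907 (iv F166300)) (tt N16324 F158539) (tt N19911 D35838) (tt N19910 (iv F166310)) (tt N16322 F158540) (tt N16321 (iv D34121)) (tt N19912 D35839))
theorem Q18196 : ∀ i, i < 18196 → P i := stepQ 18195 Q18195 (allL N18195 (tt N18953 (iv F161578)) (tt N19431 (iv F164186)) (tt N16328 F158541) (tt N19908 (iv F166303)) (tt N16338 F158542) (tt N16322 (iv D34122)) (tt N19913 D35840) (tt N19911 (iv F166313)) (tt N16855 F158543) (tt N19914 D35841))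
theorem Q18197 : ∀ i, i < 18197 → P i := stepQ 18196 Q18196 (allL N18196 (tt N16758 F158544) (tt N19361 (iv F163832)) (tt N16329 F158545) (tt N19082 (iv F162345)) (tt N16325 F158546) (tt N19914 (iv F166326)) (tt N19123 (iv F162565)) (tt N19912 (iv F166318)) (tt N16733 F158547) (tt N16322 (iv D34123)))
theorem Q18198 : ∀ i, i < 18198 → P i := stepQ 18197 Q18197 (allL N18197 (tt N18954 (iv F161584)) (tt N19905 (iv F166295)) (tt N16330 F158548) (tt N16382 F158549) (tt N19910 (iv F166309)) (tt N19915 D35842) (tt N16324 F158550) (tt N19892 (iv F166262)) (tt N16323 (iv D34124)) (tt N19916 D35843))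
theorem Q18199 : ∀ i, i < 18199 → P i := stepQ 18198 Q18198 (allL N18198 (tt N16760 F158551) (tt N19363 (iv F163844)) (tt N16331 F158552) (tt N16383 F158553) (tt N19912 (iv F166317)) (tt N16341 F158554) (tt N19916 (iv F166333)) (tt N16325 F158555) (tt N16734 F158556) (tt N16324 (iv D34125)))
theorem Q18200 : ∀ i, i < 18200 → P i := stepQ 18199 Q18199 (allL N18199 (tt N18955 (iv F161590)) (tt N19850 (iv F166103)) (tt N19909 (iv F166306)) (tt N19797 (iv F165909)) (tt N19567 (iv F164790)) (tt N16326 (iv D34126)) (tt N16859 F158557) (tt N19893 (iv F166263)) (tt N19917 D35844) (tt N19552 (iv F164713)))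
theorem Q18201 : ∀ i, i < 18201 → P i := stepQ 18200 Q18200 (allL N18200 (tt N18956 (iv F161594)) (tt N19851 (iv F166105)) (tt N19910 (iv F166308)) (tt N19798 (iv F165911)) (tt N16330 F158558) (tt N19918 D35845) (tt N16327 F158559) (tt N19894 (iv F166266)) (tt N16326 (iv D34127)) (tt N19919 D35846))
theorem Q18202 : ∀ i, i < 18202 → P i := stepQ 18201 Q18201 (allL N18201 (tt N18957 (iv F161597)) (tt N19563 (iv F164766)) (tt N19911 (iv F166311)) (tt N19799 (iv F165914)) (tt N16343 F158560) (tt N16327 (iv D34128)) (tt N19920 D35847) (tt N16328 F158561) (tt N16861 F158562) (tt N19921 D35848))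
theorem Q18203 : ∀ i, i < 18203 → P i := stepQ 18202 Q18202 (allL N18202 (tt N18958 (iv F161601)) (tt N19852 (iv F166108)) (tt N19912 (iv F166316)) (tt N19800 (iv F165918)) (tt N16331 F158563) (tt N19921 (iv F166341)) (tt N19919 (iv F166337)) (tt N16329 F158564) (tt N19555 (iv F164727)) (tt N16327 (iv D34129)))
theorem Q18204 : ∀ i, i < 18204 → P i := stepQ 18203 Q18203 (allL N18203 (tt N18959 (iv F161606)) (tt N19498 (iv F164472)) (tt N19913 (iv F166320)) (tt N19801 (iv F165921)) (tt N16345 F158565) (tt N19897 (iv F166272)) (tt N16328 (iv D34130)) (tt N19922 D35849) (tt N16863 F158566) (tt N19923 D35850))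
theorem Q18205 : ∀ i, i < 18205 → P i := stepQ 18204 Q18204 (allL N18204 (tt N18960 (iv F161609)) (tt N19564 (iv F164772)) (tt N19914 (iv F166324)) (tt N19802 (iv F165924)) (tt N16346 F158567) (tt N16329 F158568) (tt N19923 (iv F166346)) (tt N19921 (iv F166342)) (tt N19584 (iv F164855)) (tt N16328 (iv D34131)))
theorem Q18206 : ∀ i, i < 18206 → P i := stepQ 18205 Q18205 (allL N18205 (tt N18961 (iv F161613)) (tt N19853 (iv F166111)) (tt N19915 (iv F166327)) (tt N16332 F158569) (tt N19924 D35851) (tt N16330 (iv D34132)) (tt N16347 F158570) (tt N19898 (iv F166275)) (tt N19573 (iv F164816)) (tt N19925 D35852))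
theorem Q18207 : ∀ i, i < 18207 → P i := stepQ 18206 Q18206 (allL N18206 (tt N18962 (iv F161617)) (tt N19854 (iv F166114)) (tt N19916 (iv F166331)) (tt N16333 F158571) (tt N19919 (iv F166336)) (tt N19925 (iv F166349)) (tt N16331 F158572) (tt N19899 (iv F166278)) (tt N19557 (iv F164738)) (tt N16330 (iv D34133)))
theorem Q18208 : ∀ i, i < 18208 → P i := stepQ 18207 Q18207 (allL N18207 (tt N18963 (iv F161622)) (tt N19855 (iv F166117)) (tt N16388 F158573) (tt N19926 D35853) (tt N16332 (iv D34134)) (tt N19642 F165121) (tt N16349 F158574) (tt N19684 (iv F165328)) (tt N19575 (iv F164824)) (tt N19927 D35854))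
theorem Q18209 : ∀ i, i < 18209 → P i := stepQ 18208 Q18208 (allL N18208 (tt N18964 (iv F161628)) (tt N19856 (iv F166120)) (tt N16389 F158575) (tt N19925 (iv F166348)) (tt N19927 (iv F166353)) (tt N16333 F158576) (tt N16350 F158577) (tt N19900 (iv F166282)) (tt N19928 D35855) (tt N16332 (iv D34135)))
theorem Q18210 : ∀ i, i < 18210 → P i := stepQ 18209 Q18209 (allL N18209 (tt N18970 (iv F161669)) (tt N16340 F158578) (tt N19712 (iv F165494)) (tt N16351 F158579) (tt N19711 (iv F165490)) (tt N19929 D35856) (tt N16335 F158580) (tt N18209 F158581) (tt N16334 (iv D34136)) (tt N19709 (iv F165479)))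
theorem Q18211 : ∀ i, i < 18211 → P i := stepQ 18210 Q18210 (allL N18210 (tt N18966 (iv F161640)) (tt N19711 (iv F165487)) (tt N16342 F158582) (tt N18210 F158583) (tt N16340 F158584) (tt N19930 D35857) (tt N16337 F158585) (tt N18210 F158586) (tt N16336 (iv D34137)) (tt N19931 D35858))
theorem Q18212 : ∀ i, i < 18212 → P i := stepQ 18211 Q18211 (allL N18211 (tt N18967 (iv F161648)) (tt N19433 (iv F164195)) (tt N16343 F158587) (tt N18211 F158588) (tt N19911 (iv F166312)) (tt N16337 (iv D34138)) (tt N19932 D35859) (tt N16338 F158589) (tt N16869 F158590) (tt N19933 D35860))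
theorem Q18213 : ∀ i, i < 18213 → P i := stepQ 18212 Q18212 (allL N18212 (tt N16952 F158591) (tt N19611 (iv F164950)) (tt N16344 F158592) (tt N18212 F158593) (tt N16341 F158594) (tt N19933 (iv F166377)) (tt N19931 (iv F166368)) (tt N16339 F158595) (tt N16415 F158596) (tt N16337 (iv D34139)))
theorem Q18214 : ∀ i, i < 18214 → P i := stepQ 18213 Q18213 (allL N18213 (tt N18968 (iv F161655)) (tt N19069 (iv F162266)) (tt N16345 F158597) (tt N18213 F158598) (tt N19913 (iv F166321)) (tt N18213 F158599) (tt N16338 (iv D34140)) (tt N19934 D35861) (tt N16870 F158600) (tt N19935 D35862))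
theorem Q18215 : ∀ i, i < 18215 → P i := stepQ 18214 Q18214 (allL N18214 (tt N16953 F158601) (tt N19434 (iv F164201)) (tt N16346 F158602) (tt N18214 F158603) (tt N19914 (iv F166325)) (tt N16339 F158604) (tt N19935 (iv F166387)) (tt N19933 (iv F166378)) (tt N19377 (iv F163920)) (tt N16338 (iv D34141)))
theorem Q18216 : ∀ i, i < 18216 → P i := stepQ 18215 Q18215 (allL N18215 (tt N18969 (iv F161662)) (tt N19929 (iv F166357)) (tt N16347 F158605) (tt N16390 F158606) (tt N19936 D35863) (tt N16340 (iv D34142)) (tt N19915 (iv F166329)) (tt N18215 F158607) (tt N19717 (iv F165525)) (tt N19937 D35864))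
theorem Q18217 : ∀ i, i < 18217 → P i := stepQ 18216 Q18216 (allL N18216 (tt N16954 F158608) (tt N19709 (iv F165474)) (tt N16348 F158609) (tt N16391 F158610) (tt N19931 (iv F166367)) (tt N19937 (iv F166393)) (tt N16341 F158611) (tt N18216 F158612) (tt N16416 F158613) (tt N16340 (iv D34143)))
theorem Q18218 : ∀ i, i < 18218 → P i := stepQ 18217 Q18217 (allL N18217 (tt N18971 (iv F161676)) (tt N19717 (iv F165521)) (tt N19930 (iv F166361)) (tt N16352 F158614) (tt N19938 D35865) (tt N16342 (iv D34144)) (tt N19939 D35866) (tt N18217 F158615) (tt N19929 (iv F166360)) (tt N19940 D35867))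
theorem Q18219 : ∀ i, i < 18219 → P i := stepQ 18218 Q18218 (allL N18218 (tt N18972 (iv F161679)) (tt N19718 (iv F165527)) (tt N19931 (iv F166365)) (tt N16353 F158616) (tt N16348 F158617) (tt N19940 (iv F166400)) (tt N16344 F158618) (tt N18218 F158619) (tt N16417 F158620) (tt N16342 (iv D34145)))
theorem Q18220 : ∀ i, i < 18220 → P i := stepQ 18219 Q18219 (allL N18219 (tt N18973 (iv F161687)) (tt N19565 (iv F164778)) (tt N19932 (iv F166371)) (tt N16354 F158621) (tt N19920 (iv F166338)) (tt N19939 (iv F166398)) (tt N16343 (iv D34146)) (tt N19941 D35868) (tt N16871 F158622) (tt N19942 D35869))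
theorem Q18221 : ∀ i, i < 18221 → P i := stepQ 18220 Q18220 (allL N18220 (tt N18974 (iv F161690)) (tt N19566 (iv F164783)) (tt N19933 (iv F166375)) (tt N16355 F158623) (tt N19921 (iv F166340)) (tt N16344 F158624) (tt N19942 (iv F166406)) (tt N16346 F158625) (tt N19586 (iv F164863)) (tt N16343 (iv D34147)))
theorem Q18222 : ∀ i, i < 18222 → P i := stepQ 18221 Q18221 (allL N18221 (tt N18975 (iv F161695)) (tt N19500 (iv F164484)) (tt N19934 (iv F166379)) (tt N16356 F158626) (tt N19922 (iv F166343)) (tt N18221 F158627) (tt N19941 (iv F166403)) (tt N16345 (iv D34148)) (tt N16872 F158628) (tt N19943 D35870))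
theorem Q18223 : ∀ i, i < 18223 → P i := stepQ 18222 Q18222 (allL N18222 (tt N18976 (iv F161699)) (tt N19501 (iv F164490)) (tt N19935 (iv F166384)) (tt N16357 F158629) (tt N19923 (iv F166345)) (tt N18222 F158630) (tt N16346 F158631) (tt N19943 (iv F166409)) (tt N19517 (iv F164565)) (tt N16345 (iv D34149)))
theorem Q18224 : ∀ i, i < 18224 → P i := stepQ 18223 Q18223 (allL N18223 (tt N18977 (iv F161706)) (tt N19857 (iv F166124)) (tt N19936 (iv F166388)) (tt N19944 D35871) (tt N16347 (iv D34150)) (tt N19938 (iv F166395)) (tt N19924 (iv F166347)) (tt N18223 F158632) (tt N19725 (iv F165569)) (tt N19945 D35872))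
theorem Q18225 : ∀ i, i < 18225 → P i := stepQ 18224 Q18224 (allL N18224 (tt N18978 (iv F161709)) (tt N19858 (iv F166126)) (tt N19937 (iv F166391)) (tt N16350 F158633) (tt N19945 (iv F166412)) (tt N16348 F158634) (tt N19925 (iv F166350)) (tt N18224 F158635) (tt N19946 D35873) (tt N16347 (iv D34151)))
theorem Q18226 : ∀ i, i < 18226 → P i := stepQ 18225 Q18225 (allL N18225 (tt N18979 (iv F161714)) (tt N19859 (iv F166130)) (tt N19947 D35874) (tt N16349 (iv D34152)) (tt N19944 (iv F166410)) (tt N16360 F158636) (tt N19926 (iv F166351)) (tt N18225 F158637) (tt N19727 (iv F165577)) (tt N19948 D35875))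
theorem Q18227 : ∀ i, i < 18227 → P i := stepQ 18226 Q18226 (allL N18226 (tt N18980 (iv F161718)) (tt N19860 (iv F166133)) (tt N16395 F158638) (tt N19948 (iv F166420)) (tt N16350 F158639) (tt N16361 F158640) (tt N19927 (iv F166354)) (tt N18226 F158641) (tt N19326 F163616) (tt N16349 (iv D34153)))
theorem Q18228 : ∀ i, i < 18228 → P i := stepQ 18227 Q18227 (allL N18227 (tt N18981 (iv F161725)) (tt N18985 (iv F161747)) (tt N16396 F158642) (tt N19946 (iv F166414)) (tt N19326 (iv F163613)) (tt N16419 F158643) (tt N19928 (iv F166356)) (tt N18227 F158644) (tt N16350 (iv D34154)) (tt N18922 (iv F161394)))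
theorem Q18229 : ∀ i, i < 18229 → P i := stepQ 18228 Q18228 (allL N18228 (tt N18982 (iv F161732)) (tt N16390 F158645) (tt N18228 F158646) (tt N19929 (iv F166358)) (tt N19949 D35876) (tt N16351 (iv D34155)) (tt N19950 D35877) (tt N18228 F158647) (tt N16352 F158648) (tt N19710 (iv F165485)))
theorem Q18230 : ∀ i, i < 18230 → P i := stepQ 18229 Q18229 (allL N18229 (tt N18983 (iv F161738)) (tt N19728 (iv F165579)) (tt N18229 F158649) (tt N19951 D35878) (tt N16352 (iv D34156)) (tt N16358 F158650) (tt N19952 D35879) (tt N18229 F158651) (tt N19949 (iv F166427)) (tt N19953 D35880))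
theorem Q18231 : ∀ i, i < 18231 → P i := stepQ 18230 Q18230 (allL N18230 (tt N18984 (iv F161743)) (tt N19664 (iv F165236)) (tt N18230 F158652) (tt N19939 (iv F166397)) (tt N19952 (iv F166435)) (tt N16354 F158653) (tt N16352 (iv D34157)) (tt N19954 D35881) (tt N19950 (iv F166431)) (tt N19955 D35882))
theorem Q18232 : ∀ i, i < 18232 → P i := stepQ 18231 Q18231 (allL N18231 (tt N18985 (iv F161746)) (tt N19729 (iv F165585)) (tt N18231 F158654) (tt N19940 (iv F166399)) (tt N19953 (iv F166437)) (tt N16353 F158655) (tt N19955 (iv F166445)) (tt N18231 F158656) (tt N19832 (iv F166048)) (tt N16352 (iv D34158)))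
theorem Q18233 : ∀ i, i < 18233 → P i := stepQ 18232 Q18232 (allL N18232 (tt N18986 (iv F161752)) (tt N19622 (iv F165007)) (tt N18232 F158657) (tt N19941 (iv F166402)) (tt N19807 (iv F165937)) (tt N19954 (iv F166441)) (tt N16356 F158658) (tt N16354 (iv D34159)) (tt N16874 F158659) (tt N19956 D35883))
theorem Q18234 : ∀ i, i < 18234 → P i := stepQ 18233 Q18233 (allL N18233 (tt N18987 (iv F161756)) (tt N19665 (iv F165241)) (tt N18233 F158660) (tt N19942 (iv F166405)) (tt N19808 (iv F165941)) (tt N19955 (iv F166444)) (tt N16355 F158661) (tt N19956 (iv F166448)) (tt N19679 (iv F165310)) (tt N16354 (iv D34160)))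
theorem Q18235 : ∀ i, i < 18235 → P i := stepQ 18234 Q18234 (allL N18234 (tt N18989 (iv F161765)) (tt N19623 (iv F165012)) (tt N18234 F158662) (tt N19943 (iv F166407)) (tt N19809 (iv F165946)) (tt N18234 F158663) (tt N19956 (iv F166447)) (tt N16357 F158664) (tt N19637 (iv F165098)) (tt N16356 (iv D34161)))
theorem Q18236 : ∀ i, i < 18236 → P i := stepQ 18235 Q18235 (allL N18235 (tt N18990 (iv F161772)) (tt N19861 (iv F166139)) (tt N19957 D35884) (tt N16358 (iv D34162)) (tt N16360 F158665) (tt N19951 (iv F166432)) (tt N19329 F163637) (tt N18235 F158666) (tt N18235 F158667) (tt N19958 D35885))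
theorem Q18237 : ∀ i, i < 18237 → P i := stepQ 18236 Q18236 (allL N18236 (tt N18991 (iv F161778)) (tt N19862 (iv F166145)) (tt N18236 F158668) (tt N19958 (iv F166453)) (tt N16359 F158669) (tt N19953 (iv F166438)) (tt N19321 F163580) (tt N18236 F158670) (tt N19959 D35886) (tt N16358 (iv D34163)))
theorem Q18238 : ∀ i, i < 18238 → P i := stepQ 18237 Q18237 (allL N18237 (tt N18992 (iv F161784)) (tt N19863 (iv F166152)) (tt N18237 F158671) (tt N16362 F158672) (tt N19959 (iv F166458)) (tt N16420 F158673) (tt N19322 (iv F163587)) (tt N18237 F158674) (tt N16359 (iv D34164)) (tt N18237 F158675))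
theorem Q18239 : ∀ i, i < 18239 → P i := stepQ 18238 Q18238 (allL N18238 (tt N18993 (iv F161792)) (tt N19960 D35887) (tt N16360 (iv D34165)) (tt N16397 F158676) (tt N19957 (iv F166450)) (tt N19947 (iv F166418)) (tt N19810 (iv F165951)) (tt N18238 F158677) (tt N18238 F158678) (tt N19961 D35888))
theorem Q18240 : ∀ i, i < 18240 → P i := stepQ 18239 Q18239 (allL N18239 (tt N18994 (iv F161799)) (tt N19865 (iv F166163)) (tt N19961 (iv F166469)) (tt N16361 F158679) (tt N19958 (iv F166454)) (tt N19948 (iv F166421)) (tt N19811 (iv F165958)) (tt N18239 F158680) (tt N19962 D35889) (tt N16360 (iv D34166)))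
theorem Q18241 : ∀ i, i < 18241 → P i := stepQ 18240 Q18240 (allL N18240 (tt N17022 F158681) (tt N19866 (iv F166167)) (tt N16399 F158682) (tt N19962 (iv F166476)) (tt N16362 F158683) (tt N19327 (iv F163621)) (tt N17021 F158684) (tt N18240 F158685) (tt N16361 (iv D34167)) (tt N18240 F158686))
theorem Q18242 : ∀ i, i < 18242 → P i := stepQ 18241 Q18241 (allL N18241 (tt N19037 (iv F162083)) (tt N16366 F158687) (tt N19963 D35890) (tt N16363 (iv D34168)) (tt N19883 (iv F166229)) (tt N18241 F158688) (tt N16374 F158689) (tt N19964 D35891) (tt N16785 F158690) (tt N16773 F158691))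
theorem Q18243 : ∀ i, i < 18243 → P i := stepQ 18242 Q18242 (allL N18242 (tt N19039 (iv F162095)) (tt N16367 F158692) (tt N18242 F158693) (tt N19964 (iv F166487)) (tt N16364 F158694) (tt N18242 F158695) (tt N19965 D35892) (tt N16363 (iv D34169)) (tt N16787 F158696) (tt N16775 F158697))
theorem Q18244 : ∀ i, i < 18244 → P i := stepQ 18243 Q18243 (allL N18243 (tt N19405 (iv F164054)) (tt N16368 F158698) (tt N18243 F158699) (tt N19886 (iv F166241)) (tt N19965 (iv F166493)) (tt N16874 F158700) (tt N16364 (iv D34170)) (tt N16376 F158701) (tt N19966 D35893) (tt N19342 F163717))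
theorem Q18245 : ∀ i, i < 18245 → P i := stepQ 18244 Q18244 (allL N18244 (tt N19076 (iv F162305)) (tt N16369 F158702) (tt N18244 F158703) (tt N19887 (iv F166245)) (tt N16787 F158704) (tt N18244 F158705) (tt N19966 (iv F166500)) (tt N16365 F158706) (tt N16364 (iv D34171)) (tt N16504 F158707))
theorem Q18246 : ∀ i, i < 18246 → P i := stepQ 18245 Q18245 (allL N18245 (tt N18995 (iv F161806)) (tt N19964 (iv F166486)) (tt N19608 (iv F164934)) (tt N16367 F158708) (tt N19888 (iv F166250)) (tt N18245 F158709) (tt N19967 D35894) (tt N16366 (iv D34172)) (tt N19141 (iv F162666)) (tt N19133 F162626))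
theorem Q18247 : ∀ i, i < 18247 → P i := stepQ 18246 Q18246 (allL N18246 (tt N18996 (iv F161813)) (tt N19965 (iv F166491)) (tt N16370 F158710) (tt N19967 (iv F166503)) (tt N16368 F158711) (tt N19968 D35895) (tt N16367 (iv D34173)) (tt N16380 F158712) (tt N19143 (iv F162678)) (tt N19134 F162633))
theorem Q18248 : ∀ i, i < 18248 → P i := stepQ 18247 Q18247 (allL N18247 (tt N18997 (iv F161820)) (tt N19966 (iv F166497)) (tt N16371 F158713) (tt N19892 (iv F166260)) (tt N19143 (iv F162675)) (tt N19969 D35896) (tt N16369 F158714) (tt N16382 F158715) (tt N16368 (iv D34174)) (tt N19126 (iv F162586)))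
theorem Q18249 : ∀ i, i < 18249 → P i := stepQ 18248 Q18248 (allL N18248 (tt N18998 (iv F161827)) (tt N18248 F158716) (tt N19968 (iv F166505)) (tt N19654 F165186) (tt N19624 (iv F165020)) (tt N16370 (iv D34175)) (tt N18248 F158717) (tt N16384 F158718) (tt N19970 D35897) (tt N19269 (iv F163322)))
theorem Q18250 : ∀ i, i < 18250 → P i := stepQ 18249 Q18249 (allL N18249 (tt N18999 (iv F161834)) (tt N18249 F158719) (tt N19969 (iv F166508)) (tt N16372 F158720) (tt N19971 D35898) (tt N16371 (iv D34176)) (tt N18249 F158721) (tt N16386 F158722) (tt N19626 (iv F165037)) (tt N19264 (iv F163289)))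
theorem Q18251 : ∀ i, i < 18251 → P i := stepQ 18250 Q18250 (allL N18250 (tt N19000 (iv F161841)) (tt N18250 F158723) (tt N19900 (iv F166279)) (tt N19264 (iv F163285)) (tt N19687 (iv F165341)) (tt N16373 F158724) (tt N18250 F158725) (tt N16389 F158726) (tt N19653 (iv F165180)) (tt N16372 (iv D34177)))
theorem Q18252 : ∀ i, i < 18252 → P i := stepQ 18251 Q18251 (allL N18251 (tt N19045 (iv F162125)) (tt N19812 (iv F165961)) (tt N16374 (iv D34178)) (tt N18251 F158727) (tt N19901 (iv F166283)) (tt N16400 F158728) (tt N19963 (iv F166483)) (tt N19972 D35899) (tt N19874 (iv F166199)) (tt N16573 F158729))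
theorem Q18253 : ∀ i, i < 18253 → P i := stepQ 18252 Q18252 (allL N18252 (tt N19051 (iv F162152)) (tt N16378 F158730) (tt N19972 (iv F166517)) (tt N16375 F158731) (tt N19902 (iv F166288)) (tt N16401 F158732) (tt N19973 D35900) (tt N16374 (iv D34179)) (tt N19880 (iv F166218)) (tt N19026 F162020))
theorem Q18254 : ∀ i, i < 18254 → P i := stepQ 18253 Q18253 (allL N18253 (tt N19053 (iv F162161)) (tt N16380 F158733) (tt N18253 F158734) (tt N19973 (iv F166522)) (tt N16376 F158735) (tt N19974 D35901) (tt N16375 (iv D34180)) (tt N19965 (iv F166494)) (tt N19882 (iv F166227)) (tt N19027 F162027))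
theorem Q18255 : ∀ i, i < 18255 → P i := stepQ 18254 Q18254 (allL N18254 (tt N19442 (iv F164233)) (tt N16382 F158736) (tt N18254 F158737) (tt N19905 (iv F166296)) (tt N19882 (iv F166224)) (tt N19950 (iv F166430)) (tt N16377 F158738) (tt N19966 (iv F166501)) (tt N16376 (iv D34181)) (tt N19364 (iv F163855)))
theorem Q18256 : ∀ i, i < 18256 → P i := stepQ 18255 Q18255 (allL N18255 (tt N19001 (iv F161849)) (tt N19973 (iv F166521)) (tt N19815 (iv F165971)) (tt N16380 F158739) (tt N19906 (iv F166299)) (tt N19975 D35902) (tt N16378 (iv D34182)) (tt N19967 (iv F166504)) (tt N19976 D35903) (tt N19656 (iv F165194)))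
theorem Q18257 : ∀ i, i < 18257 → P i := stepQ 18256 Q18256 (allL N18256 (tt N19002 (iv F161853)) (tt N19880 (iv F166214)) (tt N19769 (iv F165800)) (tt N16381 F158740) (tt N19907 (iv F166301)) (tt N18256 F158741) (tt N19976 (iv F166530)) (tt N16379 F158742) (tt N16378 (iv D34183)) (tt N19084 (iv F162360)))
theorem Q18258 : ∀ i, i < 18258 → P i := stepQ 18257 Q18257 (allL N18257 (tt N19003 (iv F161860)) (tt N19974 (iv F166523)) (tt N16384 F158743) (tt N19975 (iv F166527)) (tt N19661 (iv F165219)) (tt N16380 (iv D34184)) (tt N16404 F158744) (tt N19968 (iv F166507)) (tt N19977 D35904) (tt N19657 (iv F165199)))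
theorem Q18259 : ∀ i, i < 18259 → P i := stepQ 18258 Q18258 (allL N18258 (tt N19004 (iv F161866)) (tt N19882 (iv F166222)) (tt N16385 F158745) (tt N19976 (iv F166529)) (tt N16382 F158746) (tt N19978 D35905) (tt N16381 F158747) (tt N19143 (iv F162677)) (tt N16380 (iv D34185)) (tt N19085 (iv F162367)))
theorem Q18260 : ∀ i, i < 18260 → P i := stepQ 18259 Q18259 (allL N18259 (tt N19005 (iv F161873)) (tt N19950 (iv F166428)) (tt N16386 F158748) (tt N19915 (iv F166328)) (tt N19979 D35906) (tt N16382 (iv D34186)) (tt N16390 F158749) (tt N19969 (iv F166510)) (tt N19664 (iv F165239)) (tt N19980 D35907))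
theorem Q18261 : ∀ i, i < 18261 → P i := stepQ 18260 Q18260 (allL N18260 (tt N16761 F158750) (tt N19364 (iv F163850)) (tt N16387 F158751) (tt N19916 (iv F166332)) (tt N19085 (iv F162364)) (tt N19980 (iv F166539)) (tt N16383 F158752) (tt N19126 (iv F162585)) (tt N16735 F158753) (tt N16382 (iv D34187)))
theorem Q18262 : ∀ i, i < 18262 → P i := stepQ 18261 Q18261 (allL N18261 (tt N19006 (iv F161879)) (tt N18261 F158754) (tt N19977 (iv F166531)) (tt N19817 (iv F165977)) (tt N19666 (iv F165248)) (tt N19981 D35908) (tt N16405 F158755) (tt N19970 (iv F166513)) (tt N16384 (iv D34188)) (tt N19982 D35909))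
theorem Q18263 : ∀ i, i < 18263 → P i := stepQ 18262 Q18262 (allL N18262 (tt N19007 (iv F161884)) (tt N18262 F158756) (tt N19978 (iv F166533)) (tt N19259 F163257) (tt N19983 D35910) (tt N16385 (iv D34189)) (tt N18262 F158757) (tt N19273 (iv F163345)) (tt N19981 (iv F166543)) (tt N19226 (iv F163068)))
theorem Q18264 : ∀ i, i < 18264 → P i := stepQ 18263 Q18263 (allL N18263 (tt N19008 (iv F161890)) (tt N18263 F158758) (tt N19979 (iv F166535)) (tt N19982 (iv F166545)) (tt N16386 (iv D34190)) (tt N19983 (iv F166549)) (tt N16392 F158759) (tt N19971 (iv F166516)) (tt N19668 (iv F165264)) (tt N19817 F165980))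
theorem Q18265 : ∀ i, i < 18265 → P i := stepQ 18264 Q18264 (allL N18264 (tt N17099 F158760) (tt N18264 F158761) (tt N19980 (iv F166538)) (tt N16389 F158762) (tt N19817 (iv F165978)) (tt N16387 F158763) (tt N16393 F158764) (tt N19264 (iv F163287)) (tt N19617 (iv F164980)) (tt N16386 (iv D34191)))
theorem Q18266 : ∀ i, i < 18266 → P i := stepQ 18265 Q18265 (allL N18265 (tt N19009 (iv F161895)) (tt N18265 F158765) (tt N19984 D35911) (tt N16388 (iv D34192)) (tt N19982 (iv F166546)) (tt N19256 F163239) (tt N16394 F158766) (tt N19311 (iv F163518)) (tt N19670 (iv F165273)) (tt N19666 F165251))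
theorem Q18267 : ∀ i, i < 18267 → P i := stepQ 18266 Q18266 (allL N18266 (tt N19010 (iv F161902)) (tt N18266 F158767) (tt N19927 (iv F166352)) (tt N19666 (iv F165247)) (tt N16389 F158768) (tt N19645 (iv F165137)) (tt N16395 F158769) (tt N19687 (iv F165344)) (tt N19285 F163403) (tt N16388 (iv D34193)))
theorem Q18268 : ∀ i, i < 18268 → P i := stepQ 18267 Q18267 (allL N18267 (tt N19011 (iv F161910)) (tt N18267 F158770) (tt N19928 (iv F166355)) (tt N19617 (iv F164976)) (tt N19285 (iv F163400)) (tt N19267 (iv F163305)) (tt N16396 F158771) (tt N19653 (iv F165179)) (tt N16389 (iv D34194)) (tt N19270 (iv F163328)))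
theorem Q18269 : ∀ i, i < 18269 → P i := stepQ 18268 Q18268 (allL N18268 (tt N19012 (iv F161918)) (tt N19949 (iv F166423)) (tt N16392 F158772) (tt N19985 D35912) (tt N16390 (iv D34195)) (tt N18268 F158773) (tt N19979 (iv F166536)) (tt N18268 F158774) (tt N19728 (iv F165583)) (tt N19822 F166006))
theorem Q18270 : ∀ i, i < 18270 → P i := stepQ 18269 Q18269 (allL N18269 (tt N16955 F158775) (tt N19710 (iv F165481)) (tt N16393 F158776) (tt N19937 (iv F166392)) (tt N19822 (iv F166003)) (tt N16391 F158777) (tt N19980 (iv F166540)) (tt N18269 F158778) (tt N18899 (iv F161258)) (tt N16390 (iv D34196)))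
theorem Q18271 : ∀ i, i < 18271 → P i := stepQ 18270 Q18270 (allL N18270 (tt N19013 (iv F161925)) (tt N18270 F158779) (tt N19986 D35913) (tt N16392 (iv D34197)) (tt N16394 F158780) (tt N18270 F158781) (tt N19982 (iv F166547)) (tt N18270 F158782) (tt N19700 (iv F165433)) (tt N16405 F158783))
theorem Q18272 : ∀ i, i < 18272 → P i := stepQ 18271 Q18271 (allL N18271 (tt N19014 (iv F161932)) (tt N19987 D35914) (tt N16394 (iv D34198)) (tt N19947 (iv F166417)) (tt N19986 (iv F166554)) (tt N16397 F158784) (tt N19984 (iv F166551)) (tt N18271 F158785) (tt N19708 (iv F165472)) (tt N19702 F165445))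
theorem Q18273 : ∀ i, i < 18273 → P i := stepQ 18272 Q18272 (allL N18272 (tt N19216 (iv F163004)) (tt N16397 (iv D34199)) (tt N18272 F158786) (tt N19960 (iv F166463)) (tt N18272 F158787) (tt N19987 (iv F166559)) (tt N19317 (iv F163553)) (tt N18272 F158788) (tt N18272 F158789) (tt N16598 F158797))
theorem Q18274 : ∀ i, i < 18274 → P i := stepQ 18273 Q18273 (allL N18273 (tt N16702 F158790) (tt N16598 (iv F158795)) (tt N16398 F158791) (tt N19961 (iv F166470)) (tt N18273 F158792) (tt N19702 (iv F165443)) (tt N16700 F158793) (tt N18273 F158794) (tt N16496 (iv F158796)) (tt N16397 (iv D34200)))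
theorem Q18275 : ∀ i, i < 18275 → P i := stepQ 18274 Q18274 (allL N18274 (tt N19055 (iv F162173)) (tt N19818 (iv F165981)) (tt N16401 F158798) (tt N18274 F158799) (tt N16575 F158800) (tt N19972 (iv F166519)) (tt N19988 D35915) (tt N16400 (iv D34201)) (tt N18274 F158801) (tt N16572 F158802))
theorem Q18276 : ∀ i, i < 18276 → P i := stepQ 18275 Q18275 (allL N18275 (tt N19060 (iv F162206)) (tt N16403 F158803) (tt N19988 (iv F166562)) (tt N16402 F158804) (tt N16602 F158805) (tt N19989 D35916) (tt N16401 (iv D34202)) (tt N18275 F158806) (tt N18275 F158807) (tt N19028 F162035))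
theorem Q18277 : ∀ i, i < 18277 → P i := stepQ 18276 Q18276 (allL N18276 (tt N19062 (iv F162220)) (tt N16404 F158808) (tt N18276 F158809) (tt N19989 (iv F166569)) (tt N16599 F158810) (tt N16402 (iv D34203)) (tt N19974 (iv F166526)) (tt N18276 F158811) (tt N19990 D35917) (tt N19029 (iv F162042)))
theorem Q18278 : ∀ i, i < 18278 → P i := stepQ 18277 Q18277 (allL N18277 (tt N19015 (iv F161938)) (tt N19989 (iv F166568)) (tt N19821 (iv F165998)) (tt N16404 F158812) (tt N19991 D35918) (tt N16403 (iv D34204)) (tt N19975 (iv F166528)) (tt N18277 F158813) (tt N19992 D35919) (tt N19698 (iv F165420)))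
theorem Q18279 : ∀ i, i < 18279 → P i := stepQ 18278 Q18278 (allL N18278 (tt N19016 (iv F161943)) (tt N19990 (iv F166571)) (tt N16405 F158814) (tt N19992 (iv F166578)) (tt N19702 (iv F165442)) (tt N18278 F158815) (tt N19977 (iv F166532)) (tt N18278 F158816) (tt N16404 (iv D34205)) (tt N19986 (iv F166557)))
theorem Q18280 : ∀ i, i < 18280 → P i := stepQ 18279 Q18279 (allL N18279 (tt N16411 F158817) (tt N18914 (iv F161338)) (tt N16970 F158818) (tt N16408 F158819) (tt N16969 F158820) (tt N16417 F158821) (tt N16407 F158822) (tt N18279 F158823) (tt N19831 (iv F166043)) (tt N16406 (iv D34206)))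
theorem Q18281 : ∀ i, i < 18281 → P i := stepQ 18280 Q18280 (allL N18280 (tt N16413 F158824) (tt N19017 (iv F161950)) (tt N18280 F158825) (tt N19018 (iv F161961)) (tt N16420 F158826) (tt N19693 (iv F165386)) (tt N18280 F158827) (tt N18280 F158828) (tt N16410 (iv D34207)) (tt N18280 F158829))
theorem Q18282 : ∀ i, i < 18282 → P i := stepQ 18281 Q18281 (allL N18281 (tt N19018 (iv F161958)) (tt N16420 F158830) (tt N19697 (iv F165410)) (tt N16413 F158831) (tt N19017 (iv F161953)) (tt N19863 (iv F166156)) (tt N18281 F158832) (tt N18281 F158833) (tt N16412 (iv D34208)) (tt N18281 F158834))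
theorem Q18283 : ∀ i, i < 18283 → P i := stepQ 18282 Q18282 (allL N18282 (tt N16951 F158835) (tt N18965 (iv F161633)) (tt N16417 F158836) (tt N18282 F158837) (tt N16416 F158838) (tt N16970 F158839) (tt N16415 F158840) (tt N18282 F158841) (tt N19931 (iv F166370)) (tt N16414 (iv D34209)))
theorem Q18284 : ∀ i, i < 18284 → P i := stepQ 18283 Q18283 (allL N18283 (tt N18915 (iv F161345)) (tt N18972 (iv F161680)) (tt N18897 (iv F161241)) (tt N16419 F158842) (tt N18920 (iv F161378)) (tt N19946 (iv F166415)) (tt N18896 (iv F161236)) (tt N18283 F158843) (tt N16418 (iv D34210)) (tt N18916 (iv F161358)))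
theorem Q18285 : ∀ i, i < 18285 → P i := stepQ 18284 Q18284 (allL N18284 (tt N19744 (iv F165676)) (tt N16424 F158844) (tt N19019 (iv F161969)) (tt N16995 F158845) (tt N19993 D35920) (tt N16423 (iv D34211)) (tt N18872 (iv F161074)) (tt N19994 D35921) (tt N19646 (iv F165143)) (tt N18871 F161068))
theorem Q18286 : ∀ i, i < 18286 → P i := stepQ 18285 Q18285 (allL N18285 (tt N19743 (iv F165670)) (tt N16425 F158846) (tt N19020 (iv F161976)) (tt N16996 F158847) (tt N19379 (iv F163934)) (tt N19994 (iv F166584)) (tt N19088 (iv F162384)) (tt N16423 (iv D34212)) (tt N16430 F158848) (tt N19078 (iv F162326)))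
theorem Q18287 : ∀ i, i < 18287 → P i := stepQ 18286 Q18286 (allL N18286 (tt N16467 F158849) (tt N19993 (iv F166581)) (tt N16426 F158850) (tt N19539 (iv F164656)) (tt N16424 (iv D34213)) (tt N19380 (iv F163940)) (tt N19127 (iv F162590)) (tt N19995 D35922) (tt N19537 F164648) (tt N19079 (iv F162331)))
theorem Q18288 : ∀ i, i < 18288 → P i := stepQ 18287 Q18287 (allL N18287 (tt N16468 F158851) (tt N19994 (iv F166582)) (tt N16427 F158852) (tt N16997 F158853) (tt N19995 (iv F166587)) (tt N16425 F158854) (tt N19996 D35923) (tt N16424 (iv D34214)) (tt N19649 (iv F165159)) (tt N19080 (iv F162336)))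
theorem Q18289 : ∀ i, i < 18289 → P i := stepQ 18288 Q18288 (allL N18288 (tt N16470 F158855) (tt N19023 (iv F161995)) (tt N19995 (iv F166586)) (tt N16736 F158856) (tt N16427 F158857) (tt N19382 (iv F163952)) (tt N19997 D35924) (tt N16426 (iv D34215)) (tt N19550 (iv F164703)) (tt N19081 (iv F162342)))
theorem Q18290 : ∀ i, i < 18290 → P i := stepQ 18289 Q18289 (allL N18289 (tt N16472 F158858) (tt N19025 (iv F162009)) (tt N19996 (iv F166589)) (tt N16428 F158859) (tt N19997 (iv F166593)) (tt N19094 (iv F162417)) (tt N16427 (iv D34216)) (tt N19132 (iv F162619)) (tt N19656 (iv F165193)) (tt N19083 (iv F162354)))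
theorem Q18291 : ∀ i, i < 18291 → P i := stepQ 18290 Q18290 (allL N18290 (tt N19732 (iv F165604)) (tt N16432 F158860) (tt N16478 F158861) (tt N17010 F158862) (tt N16476 F158863) (tt N16430 F158864) (tt N19998 D35925) (tt N16429 (iv D34217)) (tt N19691 (iv F165372)) (tt N18290 F158865))
theorem Q18292 : ∀ i, i < 18292 → P i := stepQ 18291 Q18291 (allL N18291 (tt N16490 F158866) (tt N16476 F158867) (tt N16433 F158868) (tt N16722 F158869) (tt N16432 F158870) (tt N16475 F158871) (tt N19999 D35926) (tt N16431 (iv D34218)) (tt N16720 F158872) (tt N18291 F158873))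
theorem Q18293 : ∀ i, i < 18293 → P i := stepQ 18292 Q18292 (allL N18292 (tt N16491 F158874) (tt N19998 (iv F166594)) (tt N16434 F158875) (tt N17011 F158876) (tt N19999 (iv F166604)) (tt N19733 (iv F165614)) (tt N16432 (iv D34219)) (tt N18292 F158877) (tt N19694 (iv F165395)) (tt N18292 F158878))
theorem Q18294 : ∀ i, i < 18294 → P i := stepQ 18293 Q18293 (allL N18293 (tt N16493 F158879) (tt N16569 F158880) (tt N19999 (iv F166602)) (tt N16435 F158881) (tt N16434 F158882) (tt N16582 F158883) (tt N16433 (iv D34220)) (tt N18293 F158884) (tt N16945 F158885) (tt N18293 F158886))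
theorem Q18295 : ∀ i, i < 18295 → P i := stepQ 18294 Q18294 (allL N18294 (tt N19660 (iv F165209)) (tt N16438 F158887) (tt N16506 F158888) (tt N16646 F158889) (tt N20000 D35927) (tt N16437 (iv D34221)) (tt N16465 F158890) (tt N20001 D35928) (tt N16927 (iv F158892)) (tt N16525 F158891))
theorem Q18296 : ∀ i, i < 18296 → P i := stepQ 18295 Q18295 (allL N18295 (tt N19788 (iv F165874)) (tt N16439 F158893) (tt N16507 F158894) (tt N16647 F158895) (tt N19119 (iv F162538)) (tt N20001 (iv F166618)) (tt N16539 F158896) (tt N16437 (iv D34222)) (tt N18295 F158897) (tt N16526 F158898))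
theorem Q18297 : ∀ i, i < 18297 → P i := stepQ 18296 Q18296 (allL N18296 (tt N19127 (iv F162587)) (tt N20000 (iv F166609)) (tt N16440 F158899) (tt N18903 (iv F161280)) (tt N16438 (iv D34223)) (tt N19120 (iv F162544)) (tt N16467 F158900) (tt N20002 D35929) (tt N18901 F161272) (tt N16527 F158901))
theorem Q18298 : ∀ i, i < 18298 → P i := stepQ 18297 Q18297 (allL N18297 (tt N19128 (iv F162592)) (tt N20001 (iv F166615)) (tt N16441 F158902) (tt N16649 F158903) (tt N20002 (iv F166622)) (tt N16439 F158904) (tt N20003 D35930) (tt N16438 (iv D34224)) (tt N20004 D35931) (tt N16528 F158905))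
theorem Q18299 : ∀ i, i < 18299 → P i := stepQ 18298 Q18298 (allL N18298 (tt N19129 (iv F162597)) (tt N16927 F158906) (tt N16442 F158907) (tt N16650 F158908) (tt N18901 (iv F161268)) (tt N18298 F158909) (tt N16469 F158910) (tt N20004 (iv F166633)) (tt N16438 (iv D34225)) (tt N16924 F158911))
theorem Q18300 : ∀ i, i < 18300 → P i := stepQ 18299 Q18299 (allL N18299 (tt N19130 (iv F162603)) (tt N16511 F158912) (tt N20002 (iv F166621)) (tt N16740 F158913) (tt N16441 F158914) (tt N19122 (iv F162558)) (tt N20005 D35932) (tt N16440 (iv D34226)) (tt N20006 D35933) (tt N16530 F158915))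
theorem Q18301 : ∀ i, i < 18301 → P i := stepQ 18300 Q18300 (allL N18300 (tt N19131 (iv F162609)) (tt N16512 F158916) (tt N18901 (iv F161267)) (tt N16741 F158917) (tt N16442 F158918) (tt N19040 (iv F162105)) (tt N16471 F158919) (tt N20006 (iv F166643)) (tt N16440 (iv D34227)) (tt N18936 (iv F161478)))
theorem Q18302 : ∀ i, i < 18302 → P i := stepQ 18301 Q18301 (allL N18301 (tt N19132 (iv F162615)) (tt N16513 F158920) (tt N20003 (iv F166624)) (tt N16443 F158921) (tt N20005 (iv F166637)) (tt N16545 F158922) (tt N16441 (iv D34228)) (tt N16472 F158923) (tt N20007 D35934) (tt N16532 F158924))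
theorem Q18303 : ∀ i, i < 18303 → P i := stepQ 18302 Q18302 (allL N18302 (tt N19133 (iv F162621)) (tt N16514 F158925) (tt N20004 (iv F166630)) (tt N16444 F158926) (tt N20006 (iv F166642)) (tt N18302 F158927) (tt N20007 (iv F166646)) (tt N16442 F158928) (tt N16441 (iv D34229)) (tt N18995 (iv F161812)))
theorem Q18304 : ∀ i, i < 18304 → P i := stepQ 18303 Q18303 (allL N18303 (tt N19134 (iv F162627)) (tt N16516 F158929) (tt N16654 F158930) (tt N20007 (iv F166645)) (tt N16744 F158931) (tt N20008 D35935) (tt N16444 F158932) (tt N16474 F158933) (tt N16443 (iv D34230)) (tt N18996 (iv F161819)))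
theorem Q18305 : ∀ i, i < 18305 → P i := stepQ 18304 Q18304 (allL N18304 (tt N19280 (iv F163372)) (tt N16447 F158934) (tt N16525 F158935) (tt N16615 F158936) (tt N20009 D35936) (tt N16446 (iv D34231)) (tt N16538 F158937) (tt N20010 D35937) (tt N16667 F158938) (tt N16506 F158939))
theorem Q18306 : ∀ i, i < 18306 → P i := stepQ 18305 Q18305 (allL N18305 (tt N19787 (iv F165867)) (tt N16448 F158940) (tt N16526 F158941) (tt N16616 F158942) (tt N19334 (iv F163665)) (tt N20010 (iv F166663)) (tt N16466 F158943) (tt N16446 (iv D34232)) (tt N16475 F158944) (tt N16507 F158945))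
theorem Q18307 : ∀ i, i < 18307 → P i := stepQ 18306 Q18306 (allL N18306 (tt N19089 (iv F162387)) (tt N20009 (iv F166654)) (tt N16449 F158946) (tt N20011 D35938) (tt N16447 (iv D34233)) (tt N19335 (iv F163671)) (tt N16540 F158947) (tt N20012 D35939) (tt N20013 D35940) (tt N16508 F158948))
theorem Q18308 : ∀ i, i < 18308 → P i := stepQ 18307 Q18307 (allL N18307 (tt N19090 (iv F162392)) (tt N20010 (iv F166660)) (tt N16450 F158949) (tt N16618 F158950) (tt N20012 (iv F166673)) (tt N16448 F158951) (tt N20014 D35941) (tt N16447 (iv D34234)) (tt N20015 D35942) (tt N16509 F158952))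
theorem Q18309 : ∀ i, i < 18309 → P i := stepQ 18308 Q18308 (allL N18308 (tt N19091 (iv F162397)) (tt N16667 F158953) (tt N16451 F158954) (tt N16619 F158955) (tt N20013 (iv F166678)) (tt N16477 F158956) (tt N16542 F158957) (tt N20015 (iv F166690)) (tt N16447 (iv D34235)) (tt N16680 (iv F158958)))
theorem Q18310 : ∀ i, i < 18310 → P i := stepQ 18309 Q18309 (allL N18309 (tt N19092 (iv F162403)) (tt N16530 F158959) (tt N20012 (iv F166672)) (tt N16796 F158960) (tt N16450 F158961) (tt N19338 (iv F163690)) (tt N20016 D35943) (tt N16449 (iv D34236)) (tt N20017 D35944) (tt N16511 F158962))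
theorem Q18311 : ∀ i, i < 18311 → P i := stepQ 18310 Q18310 (allL N18310 (tt N19093 (iv F162409)) (tt N16531 F158963) (tt N20013 (iv F166676)) (tt N16797 F158964) (tt N16451 F158965) (tt N20018 D35945) (tt N16544 F158966) (tt N20017 (iv F166700)) (tt N16449 (iv D34237)) (tt N20019 D35946))
theorem Q18312 : ∀ i, i < 18312 → P i := stepQ 18311 Q18311 (allL N18311 (tt N19094 (iv F162414)) (tt N16532 F158967) (tt N20014 (iv F166681)) (tt N16452 F158968) (tt N20016 (iv F166694)) (tt N16472 F158969) (tt N16450 (iv D34238)) (tt N16545 F158970) (tt N20020 D35947) (tt N16513 F158971))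
theorem Q18313 : ∀ i, i < 18313 → P i := stepQ 18312 Q18312 (allL N18312 (tt N19095 (iv F162420)) (tt N16533 F158972) (tt N20015 (iv F166687)) (tt N16453 F158973) (tt N20017 (iv F166699)) (tt N16481 F158974) (tt N20020 (iv F166712)) (tt N16451 F158975) (tt N16450 (iv D34239)) (tt N20021 D35948))
theorem Q18314 : ∀ i, i < 18314 → P i := stepQ 18313 Q18313 (allL N18313 (tt N19096 (iv F162425)) (tt N16534 F158976) (tt N16680 F158977) (tt N16454 F158978) (tt N20019 (iv F166707)) (tt N16482 F158979) (tt N16547 F158980) (tt N20021 (iv F166718)) (tt N16515 F158981) (tt N16451 (iv D34240)))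
theorem Q18315 : ∀ i, i < 18315 → P i := stepQ 18314 Q18314 (allL N18314 (tt N19097 (iv F162432)) (tt N16535 F158982) (tt N16623 F158983) (tt N20020 (iv F166711)) (tt N16801 F158984) (tt N20022 D35949) (tt N16453 F158985) (tt N16548 F158986) (tt N16452 (iv D34241)) (tt N20023 D35950))
theorem Q18316 : ∀ i, i < 18316 → P i := stepQ 18315 Q18315 (allL N18315 (tt N19098 (iv F162438)) (tt N16536 F158987) (tt N16624 F158988) (tt N20021 (iv F166716)) (tt N16802 F158989) (tt N16484 F158990) (tt N20023 (iv F166729)) (tt N16454 F158991) (tt N16517 F158992) (tt N16453 (iv D34242)))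
theorem Q18317 : ∀ i, i < 18317 → P i := stepQ 18316 Q18316 (allL N18316 (tt N16456 F158993) (tt N19077 (iv F162313)) (tt N16537 F158994) (tt N16604 F158995) (tt N19406 (iv F164064)) (tt N19619 F164991) (tt N16455 (iv D34243)) (tt N20024 D35951) (tt N18316 F158996) (tt N16464 F158997))
theorem Q18318 : ∀ i, i < 18318 → P i := stepQ 18317 Q18317 (allL N18317 (tt N19619 (iv F164986)) (tt N16457 F158998) (tt N16538 F158999) (tt N16605 F159000) (tt N20025 D35952) (tt N16456 (iv D34244)) (tt N16525 F159001) (tt N20026 D35953) (tt N16878 (iv F159003)) (tt N16465 F159002))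
theorem Q18319 : ∀ i, i < 18319 → P i := stepQ 18318 Q18318 (allL N18318 (tt N20024 (iv F166732)) (tt N16458 F159004) (tt N16539 F159005) (tt N16606 F159006) (tt N19408 (iv F164076)) (tt N20026 (iv F166747)) (tt N16507 F159007) (tt N16456 (iv D34245)) (tt N18318 F159008) (tt N16466 F159009))
theorem Q18320 : ∀ i, i < 18320 → P i := stepQ 18319 Q18319 (allL N18319 (tt N19079 (iv F162327)) (tt N20025 (iv F166738)) (tt N16459 F159010) (tt N20027 D35954) (tt N16457 (iv D34246)) (tt N19409 (iv F164082)) (tt N16527 F159011) (tt N20028 D35955) (tt N20029 D35956) (tt N16467 F159012))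
theorem Q18321 : ∀ i, i < 18321 → P i := stepQ 18320 Q18320 (allL N18320 (tt N19080 (iv F162332)) (tt N20026 (iv F166744)) (tt N16460 F159013) (tt N16608 F159014) (tt N20028 (iv F166757)) (tt N16458 F159015) (tt N20030 D35957) (tt N16457 (iv D34247)) (tt N20031 D35958) (tt N16468 F159016))
theorem Q18322 : ∀ i, i < 18322 → P i := stepQ 18321 Q18321 (allL N18321 (tt N19058 (iv F162195)) (tt N16878 F159017) (tt N16461 F159018) (tt N16609 F159019) (tt N20029 (iv F166762)) (tt N18321 F159020) (tt N16529 F159021) (tt N20031 (iv F166774)) (tt N16457 (iv D34248)) (tt N16889 F159022))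
theorem Q18323 : ∀ i, i < 18323 → P i := stepQ 18322 Q18322 (allL N18322 (tt N19081 (iv F162337)) (tt N16543 F159023) (tt N20028 (iv F166756)) (tt N16757 F159024) (tt N16460 F159025) (tt N19411 (iv F164096)) (tt N20032 D35959) (tt N16459 (iv D34249)) (tt N20033 D35960) (tt N16470 F159026))
theorem Q18324 : ∀ i, i < 18324 → P i := stepQ 18323 Q18323 (allL N18323 (tt N19082 (iv F162343)) (tt N16544 F159027) (tt N20029 (iv F166760)) (tt N16758 F159028) (tt N16461 F159029) (tt N20034 D35961) (tt N16531 F159030) (tt N20033 (iv F166784)) (tt N16459 (iv D34250)) (tt N18950 (iv F161566)))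
theorem Q18325 : ∀ i, i < 18325 → P i := stepQ 18324 Q18324 (allL N18324 (tt N19083 (iv F162349)) (tt N16545 F159031) (tt N20030 (iv F166765)) (tt N16462 F159032) (tt N20032 (iv F166778)) (tt N16513 F159033) (tt N16460 (iv D34251)) (tt N16532 F159034) (tt N20035 D35962) (tt N16472 F159035))
theorem Q18326 : ∀ i, i < 18326 → P i := stepQ 18325 Q18325 (allL N18325 (tt N19084 (iv F162355)) (tt N16546 F159036) (tt N20031 (iv F166771)) (tt N16463 F159037) (tt N20033 (iv F166783)) (tt N18325 F159038) (tt N20035 (iv F166790)) (tt N16461 F159039) (tt N16460 (iv D34252)) (tt N19002 (iv F161859)))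
theorem Q18327 : ∀ i, i < 18327 → P i := stepQ 18326 Q18326 (allL N18326 (tt N19085 (iv F162361)) (tt N16548 F159040) (tt N16613 F159041) (tt N20035 (iv F166789)) (tt N16761 F159042) (tt N20036 D35963) (tt N16463 F159043) (tt N16535 F159044) (tt N16462 (iv D34253)) (tt N19004 (iv F161872)))
theorem Q18328 : ∀ i, i < 18328 → P i := stepQ 18327 Q18327 (allL N18327 (tt N16465 F159045) (tt N19744 (iv F165677)) (tt N16550 F159046) (tt N17012 F159047) (tt N20037 D35964) (tt N16464 (iv D34254)) (tt N19660 (iv F165214)) (tt N20038 D35965) (tt N19640 (iv F165111)) (tt N19619 (iv F164992)))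
theorem Q18329 : ∀ i, i < 18329 → P i := stepQ 18328 Q18328 (allL N18328 (tt N16466 F159048) (tt N19743 (iv F165671)) (tt N16551 F159049) (tt N17013 F159050) (tt N19742 (iv F165667)) (tt N20038 (iv F166802)) (tt N19787 (iv F165871)) (tt N16464 (iv D34255)) (tt N16486 F159051) (tt N20024 (iv F166737)))
theorem Q18330 : ∀ i, i < 18330 → P i := stepQ 18329 Q18329 (allL N18329 (tt N20037 (iv F166797)) (tt N16467 F159052) (tt N16552 F159053) (tt N20039 D35966) (tt N16465 (iv D34256)) (tt N19774 (iv F165827)) (tt N20000 (iv F166612)) (tt N20040 D35967) (tt N20041 D35968) (tt N20025 (iv F166743)))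
theorem Q18331 : ∀ i, i < 18331 → P i := stepQ 18330 Q18330 (allL N18330 (tt N20038 (iv F166799)) (tt N16468 F159054) (tt N16553 F159055) (tt N17014 F159056) (tt N20040 (iv F166811)) (tt N16466 F159057) (tt N20042 D35969) (tt N16465 (iv D34257)) (tt N20043 D35970) (tt N20026 (iv F166749)))
theorem Q18332 : ∀ i, i < 18332 → P i := stepQ 18331 Q18331 (allL N18331 (tt N19640 (iv F165106)) (tt N16469 F159058) (tt N16554 F159059) (tt N16895 F159060) (tt N20041 (iv F166815)) (tt N16489 F159061) (tt N16927 F159062) (tt N20043 (iv F166825)) (tt N16465 (iv D34258)) (tt N16892 F159063))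
theorem Q18333 : ∀ i, i < 18333 → P i := stepQ 18332 Q18332 (allL N18332 (tt N19539 (iv F164654)) (tt N20039 (iv F166803)) (tt N16762 F159064) (tt N16467 (iv D34259)) (tt N16822 F159065) (tt N19776 (iv F165834)) (tt N18903 (iv F161282)) (tt N20044 D35971) (tt N16820 (iv F159066)) (tt N20027 (iv F166754)))
theorem Q18334 : ∀ i, i < 18334 → P i := stepQ 18333 Q18333 (allL N18333 (tt N19995 (iv F166585)) (tt N20040 (iv F166809)) (tt N16470 F159067) (tt N20044 (iv F166828)) (tt N16468 F159068) (tt N19777 (iv F165837)) (tt N20045 D35972) (tt N16467 (iv D34260)) (tt N20046 D35973) (tt N20028 (iv F166758)))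
theorem Q18335 : ∀ i, i < 18335 → P i := stepQ 18334 Q18334 (allL N18334 (tt N19537 (iv F164643)) (tt N20041 (iv F166812)) (tt N16471 F159069) (tt N16820 F159070) (tt N16469 F159071) (tt N19149 (iv F162708)) (tt N18901 (iv F161270)) (tt N20046 (iv F166836)) (tt N16467 (iv D34261)) (tt N18859 (iv F160985)))
theorem Q18336 : ∀ i, i < 18336 → P i := stepQ 18335 Q18335 (allL N18335 (tt N19996 (iv F166588)) (tt N20042 (iv F166818)) (tt N16472 F159072) (tt N17015 F159073) (tt N20045 (iv F166832)) (tt N20014 (iv F166683)) (tt N16468 (iv D34262)) (tt N20003 (iv F166627)) (tt N20047 D35974) (tt N20030 (iv F166769)))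
theorem Q18337 : ∀ i, i < 18337 → P i := stepQ 18336 Q18336 (allL N18336 (tt N19649 (iv F165155)) (tt N20043 (iv F166821)) (tt N16473 F159074) (tt N16904 F159075) (tt N20046 (iv F166835)) (tt N16492 F159076) (tt N20047 (iv F166839)) (tt N16469 F159077) (tt N16468 (iv D34263)) (tt N18878 (iv F161116)))
theorem Q18338 : ∀ i, i < 18338 → P i := stepQ 18337 Q18337 (allL N18337 (tt N19997 (iv F166591)) (tt N16561 F159078) (tt N20045 (iv F166831)) (tt N16765 F159079) (tt N16472 F159080) (tt N20048 D35975) (tt N16470 (iv D34264)) (tt N20005 (iv F166638)) (tt N20049 D35976) (tt N20032 (iv F166780)))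
theorem Q18339 : ∀ i, i < 18339 → P i := stepQ 18338 Q18338 (allL N18338 (tt N19550 (iv F164699)) (tt N16562 F159081) (tt N20046 (iv F166833)) (tt N16766 F159082) (tt N16473 F159083) (tt N19560 (iv F164753)) (tt N20049 (iv F166845)) (tt N16471 F159084) (tt N16470 (iv D34265)) (tt N18949 (iv F161559)))
theorem Q18340 : ∀ i, i < 18340 → P i := stepQ 18339 Q18339 (allL N18339 (tt N19656 (iv F165191)) (tt N16565 F159085) (tt N20047 (iv F166837)) (tt N16474 F159086) (tt N20049 (iv F166844)) (tt N20050 D35977) (tt N16473 F159087) (tt N20007 (iv F166647)) (tt N16472 (iv D34266)) (tt N19001 (iv F161852)))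
theorem Q18341 : ∀ i, i < 18341 → P i := stepQ 18340 Q18340 (allL N18340 (tt N19657 (iv F165195)) (tt N16567 F159088) (tt N16911 F159089) (tt N20050 (iv F166847)) (tt N16928 F159090) (tt N16474 (iv D34267)) (tt N16495 F159091) (tt N20008 (iv F166652)) (tt N20022 (iv F166724)) (tt N19003 (iv F161865)))
theorem Q18342 : ∀ i, i < 18342 → P i := stepQ 18341 Q18341 (allL N18341 (tt N19733 (iv F165611)) (tt N19999 (iv F166601)) (tt N16480 F159092) (tt N17017 F159093) (tt N19998 (iv F166597)) (tt N16491 F159094) (tt N16476 (iv D34268)) (tt N18341 F159095) (tt N20051 D35978) (tt N18341 F159096))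
theorem Q18343 : ∀ i, i < 18343 → P i := stepQ 18342 Q18342 (allL N18342 (tt N19734 (iv F165617)) (tt N16720 F159097) (tt N16481 F159098) (tt N16717 F159099) (tt N19691 (iv F165371)) (tt N20015 (iv F166689)) (tt N20051 (iv F166852)) (tt N16477 F159100) (tt N16476 (iv D34269)) (tt N16728 (iv F159101)))
theorem Q18344 : ∀ i, i < 18344 → P i := stepQ 18343 Q18343 (allL N18343 (tt N19735 (iv F165622)) (tt N16571 F159102) (tt N19998 (iv F166595)) (tt N18343 F159103) (tt N16480 F159104) (tt N19751 (iv F165723)) (tt N16478 (iv D34270)) (tt N18343 F159105) (tt N20052 D35979) (tt N18343 F159106))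
theorem Q18345 : ∀ i, i < 18345 → P i := stepQ 18344 Q18344 (allL N18344 (tt N19736 (iv F165629)) (tt N16572 F159107) (tt N19691 (iv F165369)) (tt N18344 F159108) (tt N16481 F159109) (tt N20053 D35980) (tt N20052 (iv F166858)) (tt N16479 F159110) (tt N16478 (iv D34271)) (tt N19818 (iv F165986)))
theorem Q18346 : ∀ i, i < 18346 → P i := stepQ 18345 Q18345 (allL N18345 (tt N19737 (iv F165634)) (tt N16573 F159111) (tt N19646 F165145) (tt N18345 F159112) (tt N20018 (iv F166703)) (tt N16479 (iv D34272)) (tt N20054 D35981) (tt N20053 (iv F166862)) (tt N19019 (iv F161972)) (tt N19812 (iv F165964)))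
theorem Q18347 : ∀ i, i < 18347 → P i := stepQ 18346 Q18346 (allL N18346 (tt N19739 (iv F165645)) (tt N16574 F159113) (tt N20051 (iv F166850)) (tt N16483 F159114) (tt N20052 (iv F166857)) (tt N20055 D35982) (tt N16481 F159115) (tt N18346 F159116) (tt N16480 (iv D34273)) (tt N20056 D35983))
theorem Q18348 : ∀ i, i < 18348 → P i := stepQ 18347 Q18347 (allL N18347 (tt N19740 (iv F165650)) (tt N16575 F159117) (tt N16728 F159118) (tt N16484 F159119) (tt N19818 (iv F165984)) (tt N20021 (iv F166717)) (tt N20056 (iv F166874)) (tt N16482 F159120) (tt N18347 F159121) (tt N16481 (iv D34274)))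
theorem Q18349 : ∀ i, i < 18349 → P i := stepQ 18348 Q18348 (allL N18348 (tt N19699 (iv F165421)) (tt N16576 F159122) (tt N16944 F159123) (tt N20055 (iv F166868)) (tt N16949 (iv F159126)) (tt N16483 (iv D34275)) (tt N20022 (iv F166722)) (tt N18348 F159124) (tt N16495 F159125) (tt N20057 D35984))
theorem Q18350 : ∀ i, i < 18350 → P i := stepQ 18349 Q18349 (allL N18349 (tt N19741 (iv F165656)) (tt N16577 F159127) (tt N17020 F159128) (tt N20056 (iv F166873)) (tt N18349 F159129) (tt N20057 (iv F166880)) (tt N16484 F159130) (tt N18349 F159131) (tt N18349 F159132) (tt N16483 (iv D34276)))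
theorem Q18351 : ∀ i, i < 18351 → P i := stepQ 18350 Q18350 (allL N18350 (tt N16488 F159133) (tt N19732 (iv F165605)) (tt N16578 F159134) (tt N17021 F159135) (tt N19731 (iv F165601)) (tt N16486 F159136) (tt N19962 (iv F166477)) (tt N16485 (iv D34277)) (tt N19811 F165960) (tt N18350 F159137))
theorem Q18352 : ∀ i, i < 18352 → P i := stepQ 18351 Q18351 (allL N18351 (tt N16489 F159138) (tt N19688 (iv F165346)) (tt N16579 F159139) (tt N16936 F159140) (tt N19320 (iv F163569)) (tt N19640 (iv F165109)) (tt N18351 F159141) (tt N19811 (iv F165959)) (tt N16485 (iv D34278)) (tt N18881 (iv F161140)))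
theorem Q18353 : ∀ i, i < 18353 → P i := stepQ 18352 Q18352 (allL N18352 (tt N19731 (iv F165597)) (tt N16490 F159142) (tt N16580 F159143) (tt N19324 (iv F163599)) (tt N16488 F159144) (tt N19730 (iv F165594)) (tt N20058 D35985) (tt N16487 (iv D34279)) (tt N19323 (iv F163594)) (tt N18352 F159145))
theorem Q18354 : ∀ i, i < 18354 → P i := stepQ 18353 Q18353 (allL N18353 (tt N19962 (iv F166474)) (tt N16491 F159146) (tt N16582 F159147) (tt N17022 F159148) (tt N20058 (iv F166884)) (tt N19999 (iv F166605)) (tt N16488 (iv D34280)) (tt N18353 F159149) (tt N18994 F161805) (tt N18353 F159150))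
theorem Q18355 : ∀ i, i < 18355 → P i := stepQ 18354 Q18354 (allL N18354 (tt N19811 (iv F165955)) (tt N16492 F159151) (tt N16583 F159152) (tt N16938 F159153) (tt N19323 (iv F163593)) (tt N20043 (iv F166824)) (tt N18994 (iv F161803)) (tt N16489 F159154) (tt N16488 (iv D34281)) (tt N18877 (iv F161109)))
theorem Q18356 : ∀ i, i < 18356 → P i := stepQ 18355 Q18355 (allL N18355 (tt N19999 (iv F166600)) (tt N20058 (iv F166882)) (tt N16493 F159155) (tt N19327 (iv F163619)) (tt N16491 F159156) (tt N19962 F166480) (tt N16490 (iv D34282)) (tt N18355 F159157) (tt N19325 (iv F163609)) (tt N18355 F159158))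
theorem Q18357 : ∀ i, i < 18357 → P i := stepQ 18356 Q18356 (allL N18356 (tt N19694 (iv F165390)) (tt N18994 (iv F161800)) (tt N16494 F159159) (tt N16940 F159160) (tt N19325 (iv F163607)) (tt N20059 D35986) (tt N16492 F159161) (tt N18356 F159162) (tt N16491 (iv D34283)) (tt N18882 (iv F161148)))
theorem Q18358 : ∀ i, i < 18358 → P i := stepQ 18357 Q18357 (allL N18357 (tt N16582 F159163) (tt N16590 F159164) (tt N19962 (iv F166475)) (tt N16496 F159165) (tt N19751 (iv F165722)) (tt N16493 (iv D34284)) (tt N16578 F159166) (tt N18357 F159167) (tt N19961 F166473) (tt N18357 F159168))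
theorem Q18359 : ∀ i, i < 18359 → P i := stepQ 18358 Q18358 (allL N18358 (tt N19698 (iv F165417)) (tt N16594 F159169) (tt N20059 (iv F166887)) (tt N16495 F159170) (tt N20060 D35987) (tt N16494 (iv D34285)) (tt N20050 (iv F166848)) (tt N18358 F159171) (tt N20055 (iv F166870)) (tt N19015 (iv F161942)))
theorem Q18360 : ∀ i, i < 18360 → P i := stepQ 18359 Q18359 (allL N18359 (tt N19610 (iv F164942)) (tt N16498 F159172) (tt N19118 (iv F162529)) (tt N18359 F159173) (tt N20061 D35988) (tt N16497 (iv D34286)) (tt N19355 (iv F163797)) (tt N20062 D35989) (tt N19724 (iv F165566)) (tt N19333 (iv F163660)))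
theorem Q18361 : ∀ i, i < 18361 → P i := stepQ 18360 Q18360 (allL N18360 (tt N19773 (iv F165818)) (tt N16499 F159174) (tt N19119 (iv F162536)) (tt N18360 F159175) (tt N16507 F159176) (tt N20062 (iv F166897)) (tt N19408 (iv F164077)) (tt N16497 (iv D34287)) (tt N18360 F159177) (tt N19334 (iv F163668)))
theorem Q18362 : ∀ i, i < 18362 → P i := stepQ 18361 Q18361 (allL N18361 (tt N19067 (iv F162253)) (tt N20061 (iv F166893)) (tt N16500 F159178) (tt N20063 D35990) (tt N16498 (iv D34288)) (tt N16508 F159179) (tt N19357 (iv F163811)) (tt N20064 D35991) (tt N20065 D35992) (tt N19335 (iv F163673)))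
theorem Q18363 : ∀ i, i < 18363 → P i := stepQ 18362 Q18362 (allL N18362 (tt N19068 (iv F162259)) (tt N20062 (iv F166895)) (tt N16501 F159180) (tt N18362 F159181) (tt N20064 (iv F166902)) (tt N16499 F159182) (tt N20066 D35993) (tt N16498 (iv D34289)) (tt N20067 D35994) (tt N19336 (iv F163678)))
theorem Q18364 : ∀ i, i < 18364 → P i := stepQ 18363 Q18363 (allL N18363 (tt N19069 (iv F162265)) (tt N19724 (iv F165561)) (tt N16502 F159183) (tt N18363 F159184) (tt N20065 (iv F166905)) (tt N18363 F159185) (tt N19359 (iv F163823)) (tt N20067 (iv F166911)) (tt N16498 (iv D34290)) (tt N19714 (iv F165510)))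
theorem Q18365 : ∀ i, i < 18365 → P i := stepQ 18364 Q18364 (allL N18364 (tt N19070 (iv F162271)) (tt N19122 (iv F162555)) (tt N20064 (iv F166901)) (tt N16781 F159186) (tt N16501 F159187) (tt N16511 F159188) (tt N20068 D35995) (tt N16500 (iv D34291)) (tt N20069 D35996) (tt N19338 (iv F163691)))
theorem Q18366 : ∀ i, i < 18366 → P i := stepQ 18365 Q18365 (allL N18365 (tt N19071 (iv F162277)) (tt N19123 (iv F162561)) (tt N20065 (iv F166904)) (tt N16782 F159189) (tt N16502 F159190) (tt N20070 D35997) (tt N19361 (iv F163835)) (tt N20069 (iv F166916)) (tt N16500 (iv D34292)) (tt N19885 (iv F166239)))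
theorem Q18367 : ∀ i, i < 18367 → P i := stepQ 18366 Q18366 (allL N18366 (tt N19072 (iv F162282)) (tt N19124 (iv F162568)) (tt N20066 (iv F166906)) (tt N16503 F159191) (tt N20068 (iv F166913)) (tt N19413 (iv F164107)) (tt N16501 (iv D34293)) (tt N19362 (iv F163841)) (tt N20071 D35998) (tt N19340 (iv F163703)))
theorem Q18368 : ∀ i, i < 18368 → P i := stepQ 18367 Q18367 (allL N18367 (tt N19073 (iv F162288)) (tt N19125 (iv F162574)) (tt N20067 (iv F166908)) (tt N16504 F159192) (tt N20069 (iv F166915)) (tt N18367 F159193) (tt N20071 (iv F166921)) (tt N16502 F159194) (tt N16501 (iv D34294)) (tt N19887 (iv F166248)))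
theorem Q18369 : ∀ i, i < 18369 → P i := stepQ 18368 Q18368 (allL N18368 (tt N19075 (iv F162299)) (tt N19126 (iv F162581)) (tt N18368 F159195) (tt N20071 (iv F166920)) (tt N16786 F159196) (tt N20072 D35999) (tt N16504 F159197) (tt N19364 (iv F163854)) (tt N16503 (iv D34295)) (tt N19966 (iv F166502)))
theorem Q18370 : ∀ i, i < 18370 → P i := stepQ 18369 Q18369 (allL N18369 (tt N16506 F159198) (tt N19099 (iv F162446)) (tt N19660 (iv F165211)) (tt N16625 F159199) (tt N20073 D36000) (tt N16505 (iv D34296)) (tt N16550 F159200) (tt N20074 D36001) (tt N19304 (iv F163488)) (tt N19280 F163377))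
theorem Q18371 : ∀ i, i < 18371 → P i := stepQ 18370 Q18370 (allL N18370 (tt N16507 F159201) (tt N19100 (iv F162451)) (tt N19788 (iv F165876)) (tt N16626 F159202) (tt N19773 (iv F165822)) (tt N20074 (iv F166928)) (tt N20024 (iv F166735)) (tt N16505 (iv D34297)) (tt N18370 F159203) (tt N19787 F165873))
theorem Q18372 : ∀ i, i < 18372 → P i := stepQ 18371 Q18371 (allL N18371 (tt N20073 (iv F166924)) (tt N16508 F159204) (tt N20000 (iv F166610)) (tt N20075 D36002) (tt N16506 (iv D34298)) (tt N20061 (iv F166894)) (tt N16552 F159205) (tt N20076 D36003) (tt N20077 D36004) (tt N20009 (iv F166659)))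
theorem Q18373 : ∀ i, i < 18373 → P i := stepQ 18372 Q18372 (allL N18372 (tt N20074 (iv F166926)) (tt N16509 F159206) (tt N20001 (iv F166616)) (tt N16628 F159207) (tt N20076 (iv F166936)) (tt N16507 F159208) (tt N20078 D36005) (tt N16506 (iv D34299)) (tt N20079 D36006) (tt N20010 (iv F166665)))
theorem Q18374 : ∀ i, i < 18374 → P i := stepQ 18373 Q18373 (allL N18373 (tt N19304 (iv F163483)) (tt N16510 F159209) (tt N16927 F159210) (tt N16629 F159211) (tt N20077 (iv F166940)) (tt N18373 F159212) (tt N16554 F159213) (tt N20079 (iv F166950)) (tt N16506 (iv D34300)) (tt N16685 F159214))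
theorem Q18375 : ∀ i, i < 18375 → P i := stepQ 18374 Q18374 (allL N18374 (tt N19104 (iv F162469)) (tt N20075 (iv F166929)) (tt N16805 F159215) (tt N16508 (iv D34301)) (tt N16630 F159216) (tt N20063 (iv F166900)) (tt N16555 F159217) (tt N20080 D36007) (tt N20081 D36008) (tt N20011 (iv F166670)))
theorem Q18376 : ∀ i, i < 18376 → P i := stepQ 18375 Q18375 (allL N18375 (tt N19105 (iv F162473)) (tt N20076 (iv F166935)) (tt N16511 F159218) (tt N20080 (iv F166953)) (tt N16509 F159219) (tt N20064 (iv F166903)) (tt N20082 D36009) (tt N16508 (iv D34302)) (tt N20083 D36010) (tt N20012 (iv F166674)))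
theorem Q18377 : ∀ i, i < 18377 → P i := stepQ 18376 Q18376 (allL N18376 (tt N19106 (iv F162476)) (tt N20077 (iv F166937)) (tt N16512 F159220) (tt N20081 (iv F166957)) (tt N16510 F159221) (tt N20084 D36011) (tt N16557 F159222) (tt N20083 (iv F166966)) (tt N16508 (iv D34303)) (tt N20085 D36012))
theorem Q18378 : ∀ i, i < 18378 → P i := stepQ 18377 Q18377 (allL N18377 (tt N19107 (iv F162480)) (tt N20078 (iv F166943)) (tt N16513 F159223) (tt N16633 F159224) (tt N20082 (iv F166962)) (tt N20030 (iv F166767)) (tt N16509 (iv D34304)) (tt N16558 F159225) (tt N20086 D36013) (tt N20014 (iv F166685)))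
theorem Q18379 : ∀ i, i < 18379 → P i := stepQ 18378 Q18378 (allL N18378 (tt N19108 (iv F162484)) (tt N20079 (iv F166946)) (tt N16514 F159226) (tt N16634 F159227) (tt N20083 (iv F166965)) (tt N18378 F159228) (tt N20086 (iv F166977)) (tt N16510 F159229) (tt N16509 (iv D34305)) (tt N20087 D36014))
theorem Q18380 : ∀ i, i < 18380 → P i := stepQ 18379 Q18379 (allL N18379 (tt N19109 (iv F162489)) (tt N16685 F159230) (tt N16515 F159231) (tt N16635 F159232) (tt N20085 (iv F166972)) (tt N18379 F159233) (tt N16560 F159234) (tt N20087 (iv F166983)) (tt N16680 F159235) (tt N16510 (iv D34306)))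
theorem Q18381 : ∀ i, i < 18381 → P i := stepQ 18380 Q18380 (allL N18380 (tt N19110 (iv F162495)) (tt N20005 (iv F166635)) (tt N20082 (iv F166961)) (tt N16811 F159236) (tt N16513 F159237) (tt N20088 D36015) (tt N16511 (iv D34307)) (tt N16561 F159238) (tt N20089 D36016) (tt N20016 (iv F166696)))
theorem Q18382 : ∀ i, i < 18382 → P i := stepQ 18381 Q18381 (allL N18381 (tt N19111 (iv F162499)) (tt N20006 (iv F166640)) (tt N20083 (iv F166964)) (tt N16812 F159239) (tt N16514 F159240) (tt N20090 D36017) (tt N20089 (iv F166989)) (tt N16512 F159241) (tt N16511 (iv D34308)) (tt N20091 D36018))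
theorem Q18383 : ∀ i, i < 18383 → P i := stepQ 18382 Q18382 (allL N18382 (tt N19112 (iv F162503)) (tt N19040 (iv F162102)) (tt N20084 (iv F166967)) (tt N16813 F159242) (tt N18382 F159243) (tt N16512 (iv D34309)) (tt N20092 D36019) (tt N20090 (iv F166993)) (tt N20070 (iv F166919)) (tt N20093 D36020))
theorem Q18384 : ∀ i, i < 18384 → P i := stepQ 18383 Q18383 (allL N18383 (tt N19113 (iv F162506)) (tt N18936 (iv F161474)) (tt N20085 (iv F166970)) (tt N16814 F159244) (tt N16515 F159245) (tt N20093 (iv F167002)) (tt N16564 F159246) (tt N20091 (iv F166996)) (tt N20019 (iv F166709)) (tt N16512 (iv D34310)))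
theorem Q18385 : ∀ i, i < 18385 → P i := stepQ 18384 Q18384 (allL N18384 (tt N19114 (iv F162510)) (tt N20007 (iv F166644)) (tt N20086 (iv F166975)) (tt N16516 F159247) (tt N20089 (iv F166988)) (tt N20094 D36021) (tt N16514 F159248) (tt N16565 F159249) (tt N16513 (iv D34311)) (tt N20095 D36022))
theorem Q18386 : ∀ i, i < 18386 → P i := stepQ 18385 Q18385 (allL N18385 (tt N19115 (iv F162514)) (tt N18995 (iv F161807)) (tt N20087 (iv F166980)) (tt N16517 F159250) (tt N20091 (iv F166995)) (tt N18385 F159251) (tt N20095 (iv F167007)) (tt N16515 F159252) (tt N20021 (iv F166719)) (tt N16514 (iv D34312)))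
theorem Q18387 : ∀ i, i < 18387 → P i := stepQ 18386 Q18386 (allL N18386 (tt N19116 (iv F162518)) (tt N20008 (iv F166648)) (tt N16640 F159253) (tt N20094 (iv F167003)) (tt N20096 D36023) (tt N16516 (iv D34313)) (tt N18386 F159254) (tt N16567 F159255) (tt N20036 (iv F166796)) (tt N20097 D36024))
theorem Q18388 : ∀ i, i < 18388 → P i := stepQ 18387 Q18387 (allL N18387 (tt N19117 (iv F162522)) (tt N18996 (iv F161814)) (tt N16641 F159256) (tt N20095 (iv F167006)) (tt N16818 F159257) (tt N20097 (iv F167015)) (tt N16517 F159258) (tt N16568 F159259) (tt N20023 (iv F166731)) (tt N16516 (iv D34314)))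
theorem Q18389 : ∀ i, i < 18389 → P i := stepQ 18388 Q18388 (allL N18388 (tt N19120 (iv F162542)) (tt N18865 (iv F161020)) (tt N16520 F159260) (tt N18909 (iv F161312)) (tt N16518 (iv D34315)) (tt N19127 (iv F162589)) (tt N16755 F159261) (tt N20098 D36025) (tt N18944 (iv F161527)) (tt N16738 F159262))
theorem Q18390 : ∀ i, i < 18390 → P i := stepQ 18389 Q18389 (allL N18389 (tt N19121 (iv F162548)) (tt N18867 (iv F161034)) (tt N16521 F159263) (tt N16642 F159264) (tt N20098 (iv F167019)) (tt N16519 F159265) (tt N20099 D36026) (tt N16518 (iv D34316)) (tt N18946 (iv F161539)) (tt N16739 F159266))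
theorem Q18391 : ∀ i, i < 18391 → P i := stepQ 18390 Q18390 (allL N18390 (tt N19122 (iv F162554)) (tt N16796 F159267) (tt N20098 (iv F167018)) (tt N16530 F159268) (tt N16521 F159269) (tt N19130 (iv F162607)) (tt N20100 D36027) (tt N16520 (iv D34317)) (tt N20101 D36028) (tt N16740 F159270))
theorem Q18392 : ∀ i, i < 18392 → P i := stepQ 18391 Q18391 (allL N18391 (tt N19123 (iv F162560)) (tt N16797 F159271) (tt N18944 (iv F161523)) (tt N16531 F159272) (tt N16522 F159273) (tt N20102 D36029) (tt N16758 F159274) (tt N20101 (iv F167034)) (tt N16520 (iv D34318)) (tt N18938 (iv F161491)))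
theorem Q18393 : ∀ i, i < 18393 → P i := stepQ 18392 Q18392 (allL N18392 (tt N19124 (iv F162567)) (tt N16798 F159275) (tt N20099 (iv F167021)) (tt N16523 F159276) (tt N20100 (iv F167028)) (tt N16824 F159277) (tt N16521 (iv D34319)) (tt N16759 F159278) (tt N20103 D36030) (tt N16742 F159279))
theorem Q18394 : ∀ i, i < 18394 → P i := stepQ 18393 Q18393 (allL N18393 (tt N19125 (iv F162573)) (tt N16799 F159280) (tt N18946 (iv F161535)) (tt N16524 F159281) (tt N20101 (iv F167033)) (tt N18393 F159282) (tt N20103 (iv F167040)) (tt N16522 F159283) (tt N16521 (iv D34320)) (tt N18940 (iv F161505)))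
theorem Q18395 : ∀ i, i < 18395 → P i := stepQ 18394 Q18394 (allL N18394 (tt N19126 (iv F162580)) (tt N16801 F159284) (tt N16645 F159285) (tt N20103 (iv F167039)) (tt N16535 F159286) (tt N20104 D36031) (tt N16524 F159287) (tt N16761 F159288) (tt N16523 (iv D34321)) (tt N18997 (iv F161826)))
theorem Q18396 : ∀ i, i < 18396 → P i := stepQ 18395 Q18395 (allL N18395 (tt N19561 (iv F164755)) (tt N16527 F159289) (tt N20009 (iv F166655)) (tt N16836 F159290) (tt N16525 (iv D34322)) (tt N19383 (iv F163958)) (tt N20025 (iv F166741)) (tt N20105 D36032) (tt N16834 F159291) (tt N20000 (iv F166614)))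
theorem Q18397 : ∀ i, i < 18397 → P i := stepQ 18396 Q18396 (allL N18396 (tt N19659 (iv F165204)) (tt N16528 F159292) (tt N20010 (iv F166661)) (tt N16655 F159293) (tt N20105 (iv F167049)) (tt N16526 F159294) (tt N20106 D36033) (tt N16525 (iv D34323)) (tt N16913 F159295) (tt N20001 (iv F166620)))
theorem Q18398 : ∀ i, i < 18398 → P i := stepQ 18397 Q18397 (allL N18397 (tt N18908 (iv F161305)) (tt N16836 F159296) (tt N18909 (iv F161311)) (tt N16527 (iv D34324)) (tt N16656 F159297) (tt N18890 (iv F161198)) (tt N20027 (iv F166753)) (tt N20107 D36034) (tt N16832 (iv F159298)) (tt N18903 (iv F161283)))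
theorem Q18399 : ∀ i, i < 18399 → P i := stepQ 18398 Q18398 (allL N18398 (tt N19135 (iv F162634)) (tt N20105 (iv F167047)) (tt N16530 F159299) (tt N20107 (iv F167056)) (tt N16528 F159300) (tt N19494 F164454) (tt N20108 D36035) (tt N16527 (iv D34325)) (tt N20109 D36036) (tt N20002 (iv F166623)))
theorem Q18400 : ∀ i, i < 18400 → P i := stepQ 18399 Q18399 (allL N18399 (tt N19048 (iv F162137)) (tt N16834 F159301) (tt N16531 F159302) (tt N16832 F159303) (tt N16529 F159304) (tt N19024 (iv F162005)) (tt N20029 (iv F166763)) (tt N20109 (iv F167065)) (tt N16527 (iv D34326)) (tt N16848 (iv F159305)))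
theorem Q18401 : ∀ i, i < 18401 → P i := stepQ 18400 Q18400 (allL N18400 (tt N19136 (iv F162638)) (tt N20106 (iv F167051)) (tt N16532 F159306) (tt N16658 F159307) (tt N20108 (iv F167060)) (tt N16558 F159308) (tt N16528 (iv D34327)) (tt N20030 (iv F166768)) (tt N20110 D36037) (tt N20003 (iv F166628)))
theorem Q18402 : ∀ i, i < 18402 → P i := stepQ 18401 Q18401 (allL N18401 (tt N19057 (iv F162188)) (tt N16913 F159309) (tt N16533 F159310) (tt N16659 F159311) (tt N20109 (iv F167064)) (tt N16570 F159312) (tt N20110 (iv F167070)) (tt N16529 F159313) (tt N16528 (iv D34328)) (tt N16873 (iv F159314)))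
theorem Q18403 : ∀ i, i < 18403 → P i := stepQ 18402 Q18402 (allL N18402 (tt N19137 (iv F162642)) (tt N20016 (iv F166692)) (tt N20108 (iv F167059)) (tt N20100 (iv F167027)) (tt N16532 F159315) (tt N20111 D36038) (tt N16530 (iv D34329)) (tt N20032 (iv F166779)) (tt N20112 D36039) (tt N20005 (iv F166639)))
theorem Q18404 : ∀ i, i < 18404 → P i := stepQ 18403 Q18403 (allL N18403 (tt N19138 (iv F162645)) (tt N20017 (iv F166697)) (tt N20109 (iv F167062)) (tt N20101 (iv F167032)) (tt N16533 F159316) (tt N20113 D36040) (tt N20112 (iv F167074)) (tt N16531 F159317) (tt N16530 (iv D34330)) (tt N20114 D36041))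
theorem Q18405 : ∀ i, i < 18405 → P i := stepQ 18404 Q18404 (allL N18404 (tt N19042 (iv F162110)) (tt N20018 (iv F166701)) (tt N19024 (iv F162002)) (tt N20102 (iv F167036)) (tt N16573 F159318) (tt N16531 (iv D34331)) (tt N20115 D36042) (tt N20113 (iv F167076)) (tt N19021 (iv F161986)) (tt N19901 (iv F166285)))
theorem Q18406 : ∀ i, i < 18406 → P i := stepQ 18405 Q18405 (allL N18405 (tt N19139 (iv F162649)) (tt N20019 (iv F166704)) (tt N16848 F159319) (tt N18938 (iv F161488)) (tt N16534 F159320) (tt N19901 (iv F166284)) (tt N18950 (iv F161565)) (tt N20114 (iv F167079)) (tt N18936 F161479) (tt N16531 (iv D34332)))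
theorem Q18407 : ∀ i, i < 18407 → P i := stepQ 18406 Q18406 (allL N18406 (tt N19140 (iv F162656)) (tt N20020 (iv F166710)) (tt N20110 (iv F167068)) (tt N16535 F159321) (tt N20112 (iv F167073)) (tt N20116 D36043) (tt N16533 F159322) (tt N20035 (iv F166791)) (tt N16532 (iv D34333)) (tt N20117 D36044))
theorem Q18408 : ∀ i, i < 18408 → P i := stepQ 18407 Q18407 (allL N18407 (tt N19141 (iv F162660)) (tt N20021 (iv F166714)) (tt N16873 F159323) (tt N16536 F159324) (tt N20114 (iv F167078)) (tt N16575 F159325) (tt N20117 (iv F167088)) (tt N16534 F159326) (tt N18995 (iv F161811)) (tt N16533 (iv D34334)))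
theorem Q18409 : ∀ i, i < 18409 → P i := stepQ 18408 Q18408 (allL N18408 (tt N19142 (iv F162667)) (tt N20022 (iv F166720)) (tt N16662 F159327) (tt N20116 (iv F167083)) (tt N20118 D36045) (tt N16535 (iv D34335)) (tt N16576 F159328) (tt N20036 (iv F166795)) (tt N16567 F159329) (tt N20119 D36046))
theorem Q18410 : ∀ i, i < 18410 → P i := stepQ 18409 Q18409 (allL N18409 (tt N19143 (iv F162672)) (tt N20023 (iv F166726)) (tt N16663 F159330) (tt N20117 (iv F167087)) (tt N18997 (iv F161823)) (tt N20119 (iv F167094)) (tt N16536 F159331) (tt N19004 (iv F161871)) (tt N18996 (iv F161818)) (tt N16535 (iv D34336)))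
theorem Q18411 : ∀ i, i < 18411 → P i := stepQ 18410 Q18410 (allL N18410 (tt N16538 F159332) (tt N19144 (iv F162680)) (tt N19619 (iv F164988)) (tt N16664 F159333) (tt N20120 D36047) (tt N16537 (iv D34337)) (tt N19280 (iv F163376)) (tt N20121 D36048) (tt N19232 (iv F163105)) (tt N16550 F159334))
theorem Q18412 : ∀ i, i < 18412 → P i := stepQ 18411 Q18411 (allL N18411 (tt N16539 F159335) (tt N19145 (iv F162685)) (tt N20024 (iv F166733)) (tt N16665 F159336) (tt N19534 (iv F164632)) (tt N20121 (iv F167100)) (tt N19788 (iv F165879)) (tt N16537 (iv D34338)) (tt N18411 F159337) (tt N16551 F159338))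
theorem Q18413 : ∀ i, i < 18413 → P i := stepQ 18412 Q18412 (allL N18412 (tt N20120 (iv F167096)) (tt N16540 F159339) (tt N20025 (iv F166739)) (tt N20013 (iv F166677)) (tt N16538 (iv D34339)) (tt N19535 (iv F164637)) (tt N20009 (iv F166657)) (tt N20122 D36049) (tt N20011 F166671) (tt N16552 F159340))
theorem Q18414 : ∀ i, i < 18414 → P i := stepQ 18413 Q18413 (allL N18413 (tt N20121 (iv F167098)) (tt N16541 F159341) (tt N20026 (iv F166745)) (tt N16666 F159342) (tt N20122 (iv F167103)) (tt N16539 F159343) (tt N20123 D36050) (tt N16538 (iv D34340)) (tt N20124 D36051) (tt N16553 F159344))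
theorem Q18415 : ∀ i, i < 18415 → P i := stepQ 18414 Q18414 (allL N18414 (tt N19232 (iv F163101)) (tt N16542 F159345) (tt N16878 F159346) (tt N16617 F159347) (tt N20011 (iv F166668)) (tt N18414 F159348) (tt N16667 F159349) (tt N20124 (iv F167112)) (tt N16538 (iv D34341)) (tt N16630 (iv F159350)))
theorem Q18416 : ∀ i, i < 18416 → P i := stepQ 18415 Q18415 (allL N18415 (tt N19149 (iv F162705)) (tt N20013 (iv F166675)) (tt N16834 F159351) (tt N16540 (iv D34342)) (tt N16667 F159352) (tt N19537 (iv F164646)) (tt N20011 (iv F166669)) (tt N20125 D36052) (tt N20009 (iv F166658)) (tt N16555 F159353))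
theorem Q18417 : ∀ i, i < 18417 → P i := stepQ 18416 Q18416 (allL N18416 (tt N19150 (iv F162710)) (tt N20122 (iv F167102)) (tt N16543 F159354) (tt N20125 (iv F167115)) (tt N16541 F159355) (tt N19538 (iv F164652)) (tt N20126 D36053) (tt N16540 (iv D34343)) (tt N20127 D36054) (tt N16556 F159356))
theorem Q18418 : ∀ i, i < 18418 → P i := stepQ 18417 Q18417 (allL N18417 (tt N19151 (iv F162715)) (tt N20011 (iv F166666)) (tt N16544 F159357) (tt N20009 (iv F166656)) (tt N16542 F159358) (tt N20128 D36055) (tt N20013 (iv F166679)) (tt N20127 (iv F167123)) (tt N16540 (iv D34344)) (tt N20075 (iv F166933)))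
theorem Q18419 : ∀ i, i < 18419 → P i := stepQ 18418 Q18418 (allL N18418 (tt N19152 (iv F162718)) (tt N20123 (iv F167105)) (tt N16545 F159359) (tt N16669 F159360) (tt N20126 (iv F167119)) (tt N20003 (iv F166626)) (tt N16541 (iv D34345)) (tt N20014 (iv F166684)) (tt N20129 D36056) (tt N16558 F159361))
theorem Q18420 : ∀ i, i < 18420 → P i := stepQ 18419 Q18419 (allL N18419 (tt N19153 (iv F162722)) (tt N20124 (iv F167108)) (tt N16546 F159362) (tt N16670 F159363) (tt N20127 (iv F167122)) (tt N18419 F159364) (tt N20129 (iv F167128)) (tt N16542 F159365) (tt N16541 (iv D34346)) (tt N20130 D36057))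
theorem Q18421 : ∀ i, i < 18421 → P i := stepQ 18420 Q18420 (allL N18420 (tt N19154 (iv F162727)) (tt N16630 F159366) (tt N16547 F159367) (tt N16627 F159368) (tt N20075 (iv F166931)) (tt N18420 F159369) (tt N16680 F159370) (tt N20130 (iv F167133)) (tt N16560 F159371) (tt N16542 (iv D34347)))
theorem Q18422 : ∀ i, i < 18422 → P i := stepQ 18421 Q18421 (allL N18421 (tt N19155 (iv F162733)) (tt N20032 (iv F166776)) (tt N20126 (iv F167118)) (tt N16840 F159372) (tt N16545 F159373) (tt N20131 D36058) (tt N16543 (iv D34348)) (tt N20016 (iv F166695)) (tt N20132 D36059) (tt N16561 F159374))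
theorem Q18423 : ∀ i, i < 18423 → P i := stepQ 18422 Q18422 (allL N18422 (tt N19156 (iv F162737)) (tt N20033 (iv F166781)) (tt N20127 (iv F167121)) (tt N16841 F159375) (tt N16546 F159376) (tt N20133 D36060) (tt N20132 (iv F167139)) (tt N16544 F159377) (tt N16543 (iv D34349)) (tt N20134 D36061))
theorem Q18424 : ∀ i, i < 18424 → P i := stepQ 18423 Q18423 (allL N18423 (tt N19157 (iv F162741)) (tt N20034 (iv F166785)) (tt N20128 (iv F167124)) (tt N16842 F159378) (tt N18423 F159379) (tt N16544 (iv D34350)) (tt N20135 D36062) (tt N20133 (iv F167142)) (tt N19544 (iv F164678)) (tt N20136 D36063))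
theorem Q18425 : ∀ i, i < 18425 → P i := stepQ 18424 Q18424 (allL N18424 (tt N19158 (iv F162745)) (tt N18950 (iv F161561)) (tt N20075 (iv F166930)) (tt N16843 F159380) (tt N16547 F159381) (tt N20136 (iv F167151)) (tt N20019 (iv F166708)) (tt N20134 (iv F167145)) (tt N16564 F159382) (tt N16544 (iv D34351)))
theorem Q18426 : ∀ i, i < 18426 → P i := stepQ 18425 Q18425 (allL N18425 (tt N19159 (iv F162749)) (tt N20035 (iv F166788)) (tt N20129 (iv F167126)) (tt N16548 F159383) (tt N20132 (iv F167138)) (tt N20137 D36064) (tt N16546 F159384) (tt N20020 (iv F166713)) (tt N16545 (iv D34352)) (tt N20138 D36065))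
theorem Q18427 : ∀ i, i < 18427 → P i := stepQ 18426 Q18426 (allL N18426 (tt N19160 (iv F162752)) (tt N19002 (iv F161854)) (tt N20130 (iv F167130)) (tt N16549 F159385) (tt N20134 (iv F167144)) (tt N18426 F159386) (tt N20138 (iv F167155)) (tt N16547 F159387) (tt N16566 F159388) (tt N16546 (iv D34353)))
theorem Q18428 : ∀ i, i < 18428 → P i := stepQ 18427 Q18427 (allL N18427 (tt N19161 (iv F162757)) (tt N20036 (iv F166792)) (tt N16675 F159389) (tt N20137 (iv F167152)) (tt N20139 D36066) (tt N16548 (iv D34354)) (tt N18427 F159390) (tt N20022 (iv F166723)) (tt N20008 (iv F166653)) (tt N20140 D36067))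
theorem Q18429 : ∀ i, i < 18429 → P i := stepQ 18428 Q18428 (allL N18428 (tt N19162 (iv F162760)) (tt N19004 (iv F161867)) (tt N16676 F159391) (tt N20138 (iv F167154)) (tt N16847 F159392) (tt N20140 (iv F167163)) (tt N16549 F159393) (tt N20023 (iv F166730)) (tt N16568 F159394) (tt N16548 (iv D34355)))
theorem Q18430 : ∀ i, i < 18430 → P i := stepQ 18429 Q18429 (allL N18429 (tt N16552 F159395) (tt N19163 (iv F162766)) (tt N20037 (iv F166798)) (tt N20141 D36068) (tt N16550 (iv D34356)) (tt N19514 F164550) (tt N20073 (iv F166925)) (tt N20142 D36069) (tt N20143 D36070) (tt N20120 (iv F167097)))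
theorem Q18431 : ∀ i, i < 18431 → P i := stepQ 18430 Q18430 (allL N18430 (tt N16553 F159396) (tt N19164 (iv F162770)) (tt N20038 (iv F166800)) (tt N16678 F159397) (tt N20142 (iv F167168)) (tt N16551 F159398) (tt N20144 D36071) (tt N16550 (iv D34357)) (tt N20145 D36072) (tt N20121 (iv F167101)))
theorem Q18432 : ∀ i, i < 18432 → P i := stepQ 18431 Q18431 (allL N18431 (tt N16554 F159399) (tt N19165 (iv F162775)) (tt N19640 (iv F165107)) (tt N16679 F159400) (tt N20143 (iv F167170)) (tt N16579 F159401) (tt N19304 (iv F163487)) (tt N20145 (iv F167176)) (tt N16550 (iv D34358)) (tt N19250 (iv F163205)))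
theorem Q18433 : ∀ i, i < 18433 → P i := stepQ 18432 Q18432 (allL N18432 (tt N20141 (iv F167165)) (tt N16555 F159402) (tt N20019 (iv F166705)) (tt N16552 (iv D34359)) (tt N16680 F159403) (tt N19792 (iv F165897)) (tt N20075 (iv F166932)) (tt N20146 D36073) (tt N20085 (iv F166974)) (tt N20013 F166680))
theorem Q18434 : ∀ i, i < 18434 → P i := stepQ 18433 Q18433 (allL N18433 (tt N20142 (iv F167167)) (tt N16556 F159404) (tt N20040 (iv F166810)) (tt N20146 (iv F167178)) (tt N16553 F159405) (tt N19793 (iv F165900)) (tt N20147 D36074) (tt N16552 (iv D34360)) (tt N20148 D36075) (tt N20122 (iv F167104)))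
theorem Q18435 : ∀ i, i < 18435 → P i := stepQ 18434 Q18434 (allL N18434 (tt N20143 (iv F167169)) (tt N16557 F159406) (tt N20041 (iv F166813)) (tt N20085 (iv F166971)) (tt N16554 F159407) (tt N20149 D36076) (tt N20077 (iv F166941)) (tt N20148 (iv F167184)) (tt N16552 (iv D34361)) (tt N20081 (iv F166960)))
theorem Q18436 : ∀ i, i < 18436 → P i := stepQ 18435 Q18435 (allL N18435 (tt N20144 (iv F167171)) (tt N16558 F159408) (tt N20042 (iv F166819)) (tt N16682 F159409) (tt N20147 (iv F167181)) (tt N20106 (iv F167053)) (tt N16553 (iv D34362)) (tt N20078 (iv F166945)) (tt N20150 D36077) (tt N20123 (iv F167107)))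
theorem Q18437 : ∀ i, i < 18437 → P i := stepQ 18436 Q18436 (allL N18436 (tt N20145 (iv F167173)) (tt N16559 F159410) (tt N20043 (iv F166822)) (tt N16683 F159411) (tt N20148 (iv F167183)) (tt N16583 F159412) (tt N20150 (iv F167189)) (tt N16554 F159413) (tt N16553 (iv D34363)) (tt N20151 D36078))
theorem Q18438 : ∀ i, i < 18438 → P i := stepQ 18437 Q18437 (allL N18437 (tt N19250 (iv F163201)) (tt N16560 F159414) (tt N16892 F159415) (tt N16632 F159416) (tt N20081 (iv F166958)) (tt N16584 F159417) (tt N16685 F159418) (tt N20151 (iv F167194)) (tt N16630 F159419) (tt N16554 (iv D34364)))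
theorem Q18439 : ∀ i, i < 18439 → P i := stepQ 18438 Q18438 (allL N18438 (tt N19172 (iv F162802)) (tt N20146 (iv F167177)) (tt N16851 F159420) (tt N16556 F159421) (tt N16684 F159422) (tt N19795 (iv F165906)) (tt N20152 D36079) (tt N16555 (iv D34365)) (tt N20153 D36080) (tt N20125 (iv F167117)))
theorem Q18440 : ∀ i, i < 18440 → P i := stepQ 18439 Q18439 (allL N18439 (tt N19173 (iv F162806)) (tt N20085 (iv F166969)) (tt N16852 F159423) (tt N16557 F159424) (tt N16685 F159425) (tt N20154 D36081) (tt N20081 (iv F166959)) (tt N20153 (iv F167202)) (tt N16555 (iv D34366)) (tt N20077 (iv F166942)))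
theorem Q18441 : ∀ i, i < 18441 → P i := stepQ 18440 Q18440 (allL N18440 (tt N19174 (iv F162810)) (tt N20147 (iv F167180)) (tt N16561 F159426) (tt N20152 (iv F167197)) (tt N16558 F159427) (tt N20155 D36082) (tt N16556 (iv D34367)) (tt N20082 (iv F166963)) (tt N20156 D36083) (tt N20126 (iv F167120)))
theorem Q18442 : ∀ i, i < 18442 → P i := stepQ 18441 Q18441 (allL N18441 (tt N19175 (iv F162813)) (tt N20148 (iv F167182)) (tt N16562 F159428) (tt N20153 (iv F167200)) (tt N16559 F159429) (tt N20157 D36084) (tt N20156 (iv F167209)) (tt N16557 F159430) (tt N16556 (iv D34368)) (tt N20158 D36085))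
theorem Q18443 : ∀ i, i < 18443 → P i := stepQ 18442 Q18442 (allL N18442 (tt N19176 (iv F162817)) (tt N20149 (iv F167185)) (tt N16563 F159431) (tt N20154 (iv F167204)) (tt N16587 F159432) (tt N16557 (iv D34369)) (tt N20159 D36086) (tt N20157 (iv F167212)) (tt N19770 (iv F165807)) (tt N19578 (iv F164835)))
theorem Q18444 : ∀ i, i < 18444 → P i := stepQ 18443 Q18443 (allL N18443 (tt N19177 (iv F162822)) (tt N20081 (iv F166955)) (tt N16564 F159433) (tt N20077 (iv F166939)) (tt N16560 F159434) (tt N19578 (iv F164834)) (tt N20085 (iv F166973)) (tt N20158 (iv F167215)) (tt N20075 F166934) (tt N16557 (iv D34370)))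
theorem Q18445 : ∀ i, i < 18445 → P i := stepQ 18444 Q18444 (allL N18444 (tt N19178 (iv F162825)) (tt N20150 (iv F167187)) (tt N16565 F159435) (tt N16688 F159436) (tt N20156 (iv F167208)) (tt N20160 D36087) (tt N16559 F159437) (tt N20086 (iv F166978)) (tt N16558 (iv D34371)) (tt N20161 D36088))
theorem Q18446 : ∀ i, i < 18446 → P i := stepQ 18445 Q18445 (allL N18445 (tt N19179 (iv F162829)) (tt N20151 (iv F167190)) (tt N16566 F159438) (tt N16689 F159439) (tt N20158 (iv F167214)) (tt N16589 F159440) (tt N20161 (iv F167223)) (tt N16560 F159441) (tt N20130 (iv F167134)) (tt N16559 (iv D34372)))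
theorem Q18447 : ∀ i, i < 18447 → P i := stepQ 18446 Q18446 (allL N18446 (tt N19180 (iv F162834)) (tt N20048 (iv F166840)) (tt N20155 (iv F167206)) (tt N16859 F159442) (tt N20111 (iv F167072)) (tt N16561 (iv D34373)) (tt N19797 (iv F165910)) (tt N20088 (iv F166986)) (tt N20162 D36089) (tt N20131 (iv F167136)))
theorem Q18448 : ∀ i, i < 18448 → P i := stepQ 18447 Q18447 (allL N18447 (tt N19181 (iv F162836)) (tt N20049 (iv F166842)) (tt N20156 (iv F167207)) (tt N16860 F159443) (tt N16565 F159444) (tt N20163 D36090) (tt N16562 F159445) (tt N20089 (iv F166990)) (tt N16561 (iv D34374)) (tt N20164 D36091))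
theorem Q18449 : ∀ i, i < 18449 → P i := stepQ 18448 Q18448 (allL N18448 (tt N19182 (iv F162840)) (tt N19560 (iv F164750)) (tt N20157 (iv F167210)) (tt N16861 F159446) (tt N16592 F159447) (tt N16562 (iv D34375)) (tt N20165 D36092) (tt N16563 F159448) (tt N19799 (iv F165917)) (tt N19579 (iv F164840)))
theorem Q18450 : ∀ i, i < 18450 → P i := stepQ 18449 Q18449 (allL N18449 (tt N19183 (iv F162844)) (tt N18949 (iv F161555)) (tt N20158 (iv F167213)) (tt N16862 F159449) (tt N16566 F159450) (tt N19579 (iv F164839)) (tt N20164 (iv F167228)) (tt N16564 F159451) (tt N20134 (iv F167146)) (tt N16562 (iv D34376)))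
theorem Q18451 : ∀ i, i < 18451 → P i := stepQ 18450 Q18450 (allL N18450 (tt N19184 (iv F162848)) (tt N19496 (iv F164462)) (tt N20159 (iv F167216)) (tt N16863 F159452) (tt N16593 F159453) (tt N20092 (iv F166999)) (tt N16563 (iv D34377)) (tt N20166 D36093) (tt N19801 (iv F165923)) (tt N19512 (iv F164542)))
theorem Q18452 : ∀ i, i < 18452 → P i := stepQ 18451 Q18451 (allL N18451 (tt N19186 (iv F162856)) (tt N20050 (iv F166846)) (tt N20160 (iv F167218)) (tt N16567 F159454) (tt N20167 D36094) (tt N16565 (iv D34378)) (tt N16594 F159455) (tt N20094 (iv F167005)) (tt N20116 (iv F167085)) (tt N20168 D36095))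
theorem Q18453 : ∀ i, i < 18453 → P i := stepQ 18452 Q18452 (allL N18452 (tt N19187 (iv F162859)) (tt N19001 (iv F161850)) (tt N20161 (iv F167221)) (tt N16568 F159456) (tt N20164 (iv F167227)) (tt N20168 (iv F167235)) (tt N16566 F159457) (tt N20095 (iv F167008)) (tt N20138 (iv F167156)) (tt N16565 (iv D34379)))
theorem Q18454 : ∀ i, i < 18454 → P i := stepQ 18453 Q18453 (allL N18453 (tt N19188 (iv F162862)) (tt N16928 F159458) (tt N16695 F159459) (tt N20169 D36096) (tt N16567 (iv D34380)) (tt N16865 F159460) (tt N16596 F159461) (tt N20096 (iv F167013)) (tt N20118 (iv F167092)) (tt N20170 D36097))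
theorem Q18455 : ∀ i, i < 18455 → P i := stepQ 18454 Q18454 (allL N18454 (tt N19189 (iv F162866)) (tt N19003 (iv F161861)) (tt N16696 F159462) (tt N20168 (iv F167234)) (tt N20170 (iv F167242)) (tt N16568 F159463) (tt N16597 F159464) (tt N20097 (iv F167017)) (tt N20171 D36098) (tt N16567 (iv D34381)))
theorem Q18456 : ∀ i, i < 18456 → P i := stepQ 18455 Q18455 (allL N18455 (tt N19056 (iv F162180)) (tt N16945 F159465) (tt N16574 F159466) (tt N16603 F159467) (tt N19028 (iv F162032)) (tt N20172 D36099) (tt N16570 F159468) (tt N18455 F159469) (tt N16569 (iv D34382)) (tt N16602 (iv F159470)))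
theorem Q18457 : ∀ i, i < 18457 → P i := stepQ 18456 Q18456 (allL N18456 (tt N19054 (iv F162166)) (tt N20052 (iv F166855)) (tt N19028 (iv F162030)) (tt N18456 F159471) (tt N16574 F159472) (tt N20173 D36100) (tt N16572 F159473) (tt N18456 F159474) (tt N16571 (iv D34383)) (tt N19988 (iv F166567)))
theorem Q18458 : ∀ i, i < 18458 → P i := stepQ 18457 Q18457 (allL N18457 (tt N19044 (iv F162119)) (tt N20053 (iv F166860)) (tt N19026 (iv F162016)) (tt N18457 F159475) (tt N20113 (iv F167075)) (tt N16572 (iv D34384)) (tt N20174 D36101) (tt N16573 F159476) (tt N19022 (iv F161992)) (tt N19972 (iv F166520)))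
theorem Q18459 : ∀ i, i < 18459 → P i := stepQ 18458 Q18458 (allL N18458 (tt N19032 (iv F162055)) (tt N20054 (iv F166863)) (tt N16773 F159477) (tt N18458 F159478) (tt N20115 (iv F167081)) (tt N18458 F159479) (tt N16573 (iv D34385)) (tt N20175 D36102) (tt N16769 F159480) (tt N19963 (iv F166485)))
theorem Q18460 : ∀ i, i < 18460 → P i := stepQ 18459 Q18459 (allL N18459 (tt N19190 (iv F162870)) (tt N20055 (iv F166867)) (tt N20172 (iv F167250)) (tt N16576 F159481) (tt N20176 D36103) (tt N16574 (iv D34386)) (tt N20116 (iv F167084)) (tt N18459 F159482) (tt N16594 F159483) (tt N20177 D36104))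
theorem Q18461 : ∀ i, i < 18461 → P i := stepQ 18460 Q18460 (allL N18460 (tt N19191 (iv F162875)) (tt N20056 (iv F166871)) (tt N16602 F159484) (tt N16577 F159485) (tt N19988 (iv F166564)) (tt N20177 (iv F167266)) (tt N16575 F159486) (tt N18460 F159487) (tt N18460 F159488) (tt N16574 (iv D34387)))
theorem Q18462 : ∀ i, i < 18462 → P i := stepQ 18461 Q18461 (allL N18461 (tt N19192 (iv F162882)) (tt N16949 F159489) (tt N16698 F159490) (tt N20178 D36105) (tt N16576 (iv D34388)) (tt N18461 F159491) (tt N20118 (iv F167091)) (tt N18461 F159492) (tt N16596 F159493) (tt N20179 D36106))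
theorem Q18463 : ∀ i, i < 18463 → P i := stepQ 18462 Q18462 (allL N18462 (tt N19193 (iv F162888)) (tt N20057 (iv F166877)) (tt N16699 F159494) (tt N20177 (iv F167265)) (tt N20179 (iv F167274)) (tt N16577 F159495) (tt N20119 (iv F167095)) (tt N18462 F159496) (tt N20180 D36107) (tt N16576 (iv D34389)))
theorem Q18464 : ∀ i, i < 18464 → P i := stepQ 18463 Q18463 (allL N18463 (tt N16583 F159497) (tt N19194 (iv F162894)) (tt N19811 (iv F165956)) (tt N16700 F159498) (tt N19752 (iv F165729)) (tt N20145 (iv F167175)) (tt N19961 (iv F166471)) (tt N16579 F159499) (tt N16578 (iv D34390)) (tt N19810 F165954))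
theorem Q18465 : ∀ i, i < 18465 → P i := stepQ 18464 Q18464 (allL N18464 (tt N16584 F159500) (tt N19195 (iv F162901)) (tt N18881 (iv F161134)) (tt N16701 F159501) (tt N19328 (iv F163628)) (tt N19250 F163206) (tt N18464 F159502) (tt N19810 (iv F165952)) (tt N18464 F159503) (tt N16579 (iv D34391)))
theorem Q18466 : ∀ i, i < 18466 → P i := stepQ 18465 Q18465 (allL N18465 (tt N19751 (iv F165719)) (tt N16585 F159504) (tt N20058 (iv F166883)) (tt N18465 F159505) (tt N16582 F159506) (tt N19735 (iv F165626)) (tt N16580 (iv D34392)) (tt N18465 F159507) (tt N20181 D36108) (tt N18465 F159508))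
theorem Q18467 : ∀ i, i < 18467 → P i := stepQ 18466 Q18466 (allL N18466 (tt N19752 (iv F165726)) (tt N16586 F159509) (tt N19323 (iv F163591)) (tt N18466 F159510) (tt N16583 F159511) (tt N20182 D36109) (tt N20181 (iv F167286)) (tt N16581 F159512) (tt N16580 (iv D34393)) (tt N19330 (iv F163643)))
theorem Q18468 : ∀ i, i < 18468 → P i := stepQ 18467 Q18467 (allL N18467 (tt N19476 (iv F164384)) (tt N16587 F159513) (tt N19275 F163354) (tt N18467 F159514) (tt N20149 (iv F167186)) (tt N16581 (iv D34394)) (tt N19767 (iv F165794)) (tt N20182 (iv F167290)) (tt N19472 (iv F164367)) (tt N19295 (iv F163453)))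
theorem Q18469 : ∀ i, i < 18469 → P i := stepQ 18468 Q18468 (allL N18468 (tt N19961 (iv F166467)) (tt N16588 F159515) (tt N18994 (iv F161801)) (tt N16702 F159516) (tt N20181 (iv F167285)) (tt N20183 D36110) (tt N16583 F159517) (tt N18468 F159518) (tt N16582 (iv D34395)) (tt N18993 F161798))
theorem Q18470 : ∀ i, i < 18470 → P i := stepQ 18469 Q18469 (allL N18469 (tt N19810 (iv F165949)) (tt N16589 F159519) (tt N18877 (iv F161103)) (tt N16703 F159520) (tt N19330 (iv F163641)) (tt N20151 (iv F167193)) (tt N18993 (iv F161795)) (tt N16584 F159521) (tt N18469 F159522) (tt N16583 (iv D34396)))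
theorem Q18471 : ∀ i, i < 18471 → P i := stepQ 18470 Q18470 (allL N18470 (tt N19198 (iv F162920)) (tt N20181 (iv F167283)) (tt N16591 F159523) (tt N18470 F159524) (tt N16588 F159525) (tt N20184 D36111) (tt N16586 F159526) (tt N18470 F159527) (tt N16585 (iv D34397)) (tt N19703 (iv F165451)))
theorem Q18472 : ∀ i, i < 18472 → P i := stepQ 18471 Q18471 (allL N18471 (tt N19199 (iv F162927)) (tt N20182 (iv F167288)) (tt N16592 F159528) (tt N18471 F159529) (tt N20157 (iv F167211)) (tt N16586 (iv D34398)) (tt N20185 D36112) (tt N16587 F159530) (tt N19763 (iv F165780)) (tt N19671 (iv F165278)))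
theorem Q18473 : ∀ i, i < 18473 → P i := stepQ 18472 Q18472 (allL N18472 (tt N19201 (iv F162940)) (tt N19767 (iv F165791)) (tt N16593 F159531) (tt N18472 F159532) (tt N20159 (iv F167217)) (tt N18472 F159533) (tt N16587 (iv D34399)) (tt N20186 D36113) (tt N19749 F165710) (tt N19630 (iv F165059)))
theorem Q18474 : ∀ i, i < 18474 → P i := stepQ 18473 Q18473 (allL N18473 (tt N19203 (iv F162951)) (tt N20183 (iv F167291)) (tt N16594 F159534) (tt N16704 F159535) (tt N20187 D36114) (tt N16588 (iv D34400)) (tt N20160 (iv F167220)) (tt N18473 F159536) (tt N20172 (iv F167253)) (tt N20188 D36115))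
theorem Q18475 : ∀ i, i < 18475 → P i := stepQ 18474 Q18474 (allL N18474 (tt N19204 (iv F162955)) (tt N18993 (iv F161793)) (tt N16595 F159537) (tt N16705 F159538) (tt N19703 (iv F165448)) (tt N20188 (iv F167307)) (tt N16589 F159539) (tt N18474 F159540) (tt N18474 F159541) (tt N16588 (iv D34401)))
theorem Q18476 : ∀ i, i < 18476 → P i := stepQ 18475 Q18475 (allL N18475 (tt N19196 (iv F162907)) (tt N19961 (iv F166468)) (tt N19755 (iv F165743)) (tt N16598 F159542) (tt N19753 (iv F165734)) (tt N20189 D36116) (tt N19194 (iv F162898)) (tt N18475 F159543) (tt N16590 (iv D34402)) (tt N19960 F166466))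
theorem Q18477 : ∀ i, i < 18477 → P i := stepQ 18476 Q18476 (allL N18476 (tt N19205 (iv F162961)) (tt N19701 (iv F165435)) (tt N20184 (iv F167295)) (tt N16599 F159544) (tt N20190 D36117) (tt N16591 (iv D34403)) (tt N20191 D36118) (tt N18476 F159545) (tt N20189 (iv F167311)) (tt N19704 (iv F165455)))
theorem Q18478 : ∀ i, i < 18478 → P i := stepQ 18477 Q18477 (allL N18477 (tt N19206 (iv F162964)) (tt N19658 (iv F165201)) (tt N20185 (iv F167298)) (tt N16600 F159546) (tt N20165 (iv F167230)) (tt N20191 (iv F167315)) (tt N16592 (iv D34404)) (tt N20192 D36119) (tt N19804 (iv F165930)) (tt N19673 (iv F165284)))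
theorem Q18479 : ∀ i, i < 18479 → P i := stepQ 18478 Q18478 (allL N18478 (tt N19208 (iv F162971)) (tt N19618 (iv F164982)) (tt N20186 (iv F167300)) (tt N16601 F159547) (tt N20166 (iv F167232)) (tt N18478 F159548) (tt N20192 (iv F167317)) (tt N16593 (iv D34405)) (tt N19806 (iv F165935)) (tt N19631 (iv F165063)))
theorem Q18480 : ∀ i, i < 18480 → P i := stepQ 18479 Q18479 (allL N18479 (tt N19211 (iv F162985)) (tt N20060 (iv F166890)) (tt N20187 (iv F167303)) (tt N20193 D36120) (tt N16594 (iv D34406)) (tt N20190 (iv F167312)) (tt N20167 (iv F167233)) (tt N18479 F159549) (tt N20176 (iv F167263)) (tt N20194 D36121))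
theorem Q18481 : ∀ i, i < 18481 → P i := stepQ 18480 Q18480 (allL N18480 (tt N19212 (iv F162987)) (tt N19015 (iv F161939)) (tt N20188 (iv F167305)) (tt N16597 F159550) (tt N20194 (iv F167321)) (tt N16595 F159551) (tt N20168 (iv F167236)) (tt N18480 F159552) (tt N20195 D36122) (tt N16594 (iv D34407)))
theorem Q18482 : ∀ i, i < 18482 → P i := stepQ 18481 Q18481 (allL N18481 (tt N19213 (iv F162991)) (tt N16948 F159553) (tt N20177 (iv F167264)) (tt N16596 (iv D34408)) (tt N20193 (iv F167319)) (tt N16602 F159554) (tt N20169 (iv F167239)) (tt N18481 F159555) (tt N20178 (iv F167271)) (tt N20172 (iv F167254)))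
theorem Q18483 : ∀ i, i < 18483 → P i := stepQ 18482 Q18482 (allL N18482 (tt N19063 (iv F162226)) (tt N16946 F159556) (tt N16697 F159557) (tt N20172 (iv F167251)) (tt N16597 F159558) (tt N16603 F159559) (tt N20170 (iv F167244)) (tt N18482 F159560) (tt N16704 (iv F159561)) (tt N16596 (iv D34409)))
theorem Q18484 : ∀ i, i < 18484 → P i := stepQ 18483 Q18483 (allL N18483 (tt N19214 (iv F162994)) (tt N19016 (iv F161944)) (tt N16706 F159562) (tt N20195 (iv F167323)) (tt N16704 F159563) (tt N18483 F159564) (tt N20171 (iv F167248)) (tt N18483 F159565) (tt N16597 (iv D34410)) (tt N20180 (iv F167282)))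
theorem Q18485 : ∀ i, i < 18485 → P i := stepQ 18484 Q18484 (allL N18484 (tt N19215 (iv F162999)) (tt N19702 (iv F165440)) (tt N18484 F159566) (tt N20189 (iv F167309)) (tt N19990 (iv F166573)) (tt N16598 (iv D34411)) (tt N20196 D36123) (tt N18484 F159567) (tt N16599 F159568) (tt N19987 (iv F166561)))
theorem Q18486 : ∀ i, i < 18486 → P i := stepQ 18485 Q18485 (allL N18485 (tt N19217 (iv F163011)) (tt N19661 (iv F165217)) (tt N18485 F159569) (tt N20191 (iv F167314)) (tt N19974 (iv F166525)) (tt N16600 F159570) (tt N16599 (iv D34412)) (tt N20197 D36124) (tt N20196 (iv F167327)) (tt N19676 (iv F165296)))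
theorem Q18487 : ∀ i, i < 18487 → P i := stepQ 18486 Q18486 (allL N18486 (tt N19218 (iv F163014)) (tt N19620 (iv F164994)) (tt N18486 F159571) (tt N20192 (iv F167316)) (tt N16874 F159572) (tt N20197 (iv F167329)) (tt N16601 F159573) (tt N16600 (iv D34413)) (tt N19807 (iv F165939)) (tt N19633 (iv F165073)))
theorem Q18488 : ∀ i, i < 18488 → P i := stepQ 18487 Q18487 (allL N18487 (tt N16606 F159574) (tt N19222 (iv F163037)) (tt N17035 F159575) (tt N20024 (iv F166734)) (tt N18487 F159576) (tt N19621 F165004) (tt N16626 F159577) (tt N16604 (iv D34414)) (tt N18487 F159578) (tt N17013 F159579))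
theorem Q18489 : ∀ i, i < 18489 → P i := stepQ 18488 Q18488 (allL N18488 (tt N19621 (iv F164999)) (tt N16608 F159580) (tt N16884 F159581) (tt N20026 (iv F166746)) (tt N16881 F159582) (tt N16606 F159583) (tt N20198 D36125) (tt N16605 (iv D34415)) (tt N16879 F159584) (tt N17014 F159585))
theorem Q18490 : ∀ i, i < 18490 → P i := stepQ 18489 Q18489 (allL N18489 (tt N18918 (iv F161364)) (tt N16795 F159586) (tt N16826 F159587) (tt N16607 (iv D34416)) (tt N20027 (iv F166752)) (tt N18489 F159588) (tt N16656 F159589) (tt N20199 D36126) (tt N16791 F159590) (tt N16822 F159591))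
theorem Q18491 : ∀ i, i < 18491 → P i := stepQ 18490 Q18490 (allL N18490 (tt N18925 (iv F161407)) (tt N16881 F159592) (tt N16610 F159593) (tt N20199 (iv F167340)) (tt N16608 F159594) (tt N18490 F159595) (tt N20200 D36127) (tt N16607 (iv D34417)) (tt N16877 F159596) (tt N16906 F159597))
theorem Q18492 : ∀ i, i < 18492 → P i := stepQ 18491 Q18491 (allL N18491 (tt N19223 (iv F163044)) (tt N20198 (iv F167331)) (tt N16611 F159598) (tt N20030 (iv F166766)) (tt N20200 (iv F167346)) (tt N16633 F159599) (tt N16608 (iv D34418)) (tt N16658 F159600) (tt N20201 D36128) (tt N17015 F159601))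
theorem Q18493 : ∀ i, i < 18493 → P i := stepQ 18492 Q18492 (allL N18492 (tt N19065 (iv F162239)) (tt N16879 F159602) (tt N16612 F159603) (tt N20031 (iv F166772)) (tt N16877 F159604) (tt N18492 F159605) (tt N20201 (iv F167353)) (tt N16609 F159606) (tt N16608 (iv D34419)) (tt N16890 F159607))
theorem Q18494 : ∀ i, i < 18494 → P i := stepQ 18493 Q18493 (allL N18493 (tt N19224 (iv F163049)) (tt N17037 F159608) (tt N20200 (iv F167345)) (tt N16910 F159609) (tt N16611 F159610) (tt N20202 D36129) (tt N16610 (iv D34420)) (tt N16660 F159611) (tt N16903 F159612) (tt N16908 F159613))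
theorem Q18495 : ∀ i, i < 18495 → P i := stepQ 18494 Q18494 (allL N18494 (tt N19225 (iv F163056)) (tt N17038 F159614) (tt N20201 (iv F167351)) (tt N16613 F159615) (tt N16903 F159616) (tt N20203 D36130) (tt N16612 F159617) (tt N16661 F159618) (tt N16611 (iv D34421)) (tt N16902 F159619))
theorem Q18496 : ∀ i, i < 18496 → P i := stepQ 18495 Q18495 (allL N18495 (tt N19226 (iv F163063)) (tt N17039 F159620) (tt N20036 (iv F166793)) (tt N20203 (iv F167364)) (tt N20204 D36131) (tt N16613 (iv D34422)) (tt N18495 F159621) (tt N16662 F159622) (tt N16640 F159623) (tt N19007 (iv F161889)))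
theorem Q18497 : ∀ i, i < 18497 → P i := stepQ 18496 Q18496 (allL N18496 (tt N16616 F159624) (tt N19228 (iv F163077)) (tt N17029 F159625) (tt N19787 (iv F165869)) (tt N18496 F159626) (tt N19282 (iv F163385)) (tt N17013 F159627) (tt N16614 (iv D34423)) (tt N17016 F159628) (tt N16626 F159629))
theorem Q18498 : ∀ i, i < 18498 → P i := stepQ 18497 Q18497 (allL N18497 (tt N19282 (iv F163382)) (tt N16618 F159630) (tt N16672 F159631) (tt N20010 (iv F166662)) (tt N16670 F159632) (tt N16616 F159633) (tt N20205 D36132) (tt N16615 (iv D34424)) (tt N16668 F159634) (tt N16628 F159635))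
theorem Q18499 : ∀ i, i < 18499 → P i := stepQ 18498 Q18498 (allL N18498 (tt N19233 (iv F163107)) (tt N16670 F159636) (tt N16620 F159637) (tt N20124 (iv F167110)) (tt N16618 F159638) (tt N18498 F159639) (tt N20206 D36133) (tt N16617 (iv D34425)) (tt N16666 F159640) (tt N16631 F159641))
theorem Q18500 : ∀ i, i < 18500 → P i := stepQ 18499 Q18499 (allL N18499 (tt N19234 (iv F163113)) (tt N20205 (iv F167375)) (tt N16621 F159642) (tt N20014 (iv F166682)) (tt N20206 (iv F167384)) (tt N17015 F159643) (tt N16618 (iv D34426)) (tt N16669 F159644) (tt N20207 D36134) (tt N16633 F159645))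
theorem Q18501 : ∀ i, i < 18501 → P i := stepQ 18500 Q18500 (allL N18500 (tt N19235 (iv F163118)) (tt N16668 F159646) (tt N16622 F159647) (tt N20015 (iv F166688)) (tt N16666 F159648) (tt N16717 F159649) (tt N20207 (iv F167391)) (tt N16619 F159650) (tt N16618 (iv D34427)) (tt N16681 (iv F159651)))
theorem Q18502 : ∀ i, i < 18502 → P i := stepQ 18501 Q18501 (allL N18501 (tt N19236 (iv F163124)) (tt N17031 F159652) (tt N20206 (iv F167383)) (tt N16883 F159653) (tt N16621 F159654) (tt N20208 D36135) (tt N16620 (iv D34428)) (tt N16671 F159655) (tt N17076 F159656) (tt N16636 F159657))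
theorem Q18503 : ∀ i, i < 18503 → P i := stepQ 18502 Q18502 (allL N18502 (tt N19237 (iv F163131)) (tt N17032 F159658) (tt N20207 (iv F167389)) (tt N16623 F159659) (tt N17076 F159660) (tt N20209 D36136) (tt N16622 F159661) (tt N16673 F159662) (tt N16621 (iv D34429)) (tt N17084 (iv F159663)))
theorem Q18504 : ∀ i, i < 18504 → P i := stepQ 18503 Q18503 (allL N18503 (tt N19238 (iv F163138)) (tt N17033 F159664) (tt N20022 (iv F166721)) (tt N20209 (iv F167402)) (tt N16932 (iv F159668)) (tt N16623 (iv D34430)) (tt N16944 F159665) (tt N16675 F159666) (tt N16911 F159667) (tt N20210 D36137))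
theorem Q18505 : ∀ i, i < 18505 → P i := stepQ 18504 Q18504 (allL N18504 (tt N19239 (iv F163144)) (tt N17034 F159669) (tt N20023 (iv F166727)) (tt N17084 F159670) (tt N16888 F159671) (tt N20210 (iv F167411)) (tt N16624 F159672) (tt N16676 F159673) (tt N16641 F159674) (tt N16623 (iv D34431)))
theorem Q18506 : ∀ i, i < 18506 → P i := stepQ 18505 Q18505 (allL N18505 (tt N16628 F159675) (tt N19241 (iv F163159)) (tt N17056 F159676) (tt N20074 (iv F166927)) (tt N19284 (iv F163393)) (tt N16626 F159677) (tt N20211 D36138) (tt N16625 (iv D34432)) (tt N19307 (iv F163501)) (tt N19282 F163387))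
theorem Q18507 : ∀ i, i < 18507 → P i := stepQ 18506 Q18506 (allL N18506 (tt N19284 (iv F163391)) (tt N16631 F159678) (tt N16674 F159679) (tt N20130 (iv F167131)) (tt N16628 F159680) (tt N18506 F159681) (tt N20212 D36139) (tt N16627 (iv D34433)) (tt N16689 F159682) (tt N16670 F159683))
theorem Q18508 : ∀ i, i < 18508 → P i := stepQ 18507 Q18507 (allL N18507 (tt N20211 (iv F167414)) (tt N16633 F159684) (tt N17057 F159685) (tt N20078 (iv F166944)) (tt N20212 (iv F167419)) (tt N20198 (iv F167334)) (tt N16628 (iv D34434)) (tt N16682 F159686) (tt N20213 D36140) (tt N20205 (iv F167381)))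
theorem Q18509 : ∀ i, i < 18509 → P i := stepQ 18508 Q18508 (allL N18508 (tt N19307 (iv F163496)) (tt N16634 F159687) (tt N16692 F159688) (tt N20079 (iv F166948)) (tt N16689 F159689) (tt N18508 F159690) (tt N20213 (iv F167426)) (tt N16629 F159691) (tt N16628 (iv D34435)) (tt N16687 F159692))
theorem Q18510 : ∀ i, i < 18510 → P i := stepQ 18509 Q18509 (allL N18509 (tt N19249 (iv F163197)) (tt N20130 (iv F167129)) (tt N16891 F159693) (tt N16631 F159694) (tt N20080 (iv F166954)) (tt N18509 F159695) (tt N20214 D36141) (tt N16630 (iv D34436)) (tt N20151 (iv F167195)) (tt N20124 F167113))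
theorem Q18511 : ∀ i, i < 18511 → P i := stepQ 18510 Q18510 (allL N18510 (tt N19251 (iv F163207)) (tt N20212 (iv F167417)) (tt N16636 F159696) (tt N20214 (iv F167430)) (tt N16633 F159697) (tt N20215 D36142) (tt N16631 (iv D34437)) (tt N16686 F159698) (tt N20216 D36143) (tt N20206 (iv F167387)))
theorem Q18512 : ∀ i, i < 18512 → P i := stepQ 18511 Q18511 (allL N18511 (tt N19252 (iv F163211)) (tt N16689 F159699) (tt N16637 F159700) (tt N20151 (iv F167192)) (tt N16634 F159701) (tt N16703 (iv F159704)) (tt N20216 (iv F167438)) (tt N16632 F159702) (tt N16631 (iv D34438)) (tt N16683 F159703))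
theorem Q18513 : ∀ i, i < 18513 → P i := stepQ 18512 Q18512 (allL N18512 (tt N19253 (iv F163217)) (tt N20213 (iv F167423)) (tt N16638 F159705) (tt N20086 (iv F166976)) (tt N20216 (iv F167437)) (tt N20217 D36144) (tt N16634 F159706) (tt N16688 F159707) (tt N16633 (iv D34439)) (tt N20218 D36145))
theorem Q18514 : ∀ i, i < 18514 → P i := stepQ 18513 Q18513 (allL N18513 (tt N19254 (iv F163221)) (tt N16687 F159708) (tt N16639 F159709) (tt N20087 (iv F166981)) (tt N16683 F159710) (tt N18513 F159711) (tt N20218 (iv F167447)) (tt N16635 F159712) (tt N16681 F159713) (tt N16634 (iv D34440)))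
theorem Q18515 : ∀ i, i < 18515 → P i := stepQ 18514 Q18514 (allL N18514 (tt N19255 (iv F163227)) (tt N17060 F159714) (tt N20215 (iv F167432)) (tt N16898 F159715) (tt N20202 (iv F167358)) (tt N16636 (iv D34441)) (tt N18514 F159716) (tt N16690 F159717) (tt N20219 D36146) (tt N20208 (iv F167400)))
theorem Q18516 : ∀ i, i < 18516 → P i := stepQ 18515 Q18515 (allL N18515 (tt N19256 (iv F163232)) (tt N17061 F159718) (tt N20216 (iv F167436)) (tt N16899 F159719) (tt N16638 F159720) (tt N19009 (iv F161897)) (tt N16637 F159721) (tt N16691 F159722) (tt N16636 (iv D34442)) (tt N17085 F159723))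
theorem Q18517 : ∀ i, i < 18517 → P i := stepQ 18516 Q18516 (allL N18516 (tt N19257 (iv F163240)) (tt N17062 F159724) (tt N20217 (iv F167441)) (tt N16640 F159725) (tt N20220 D36147) (tt N16638 (iv D34443)) (tt N18516 F159726) (tt N16693 F159727) (tt N20203 (iv F167368)) (tt N20221 D36148))
theorem Q18518 : ∀ i, i < 18518 → P i := stepQ 18517 Q18517 (allL N18517 (tt N19258 (iv F163245)) (tt N17063 F159728) (tt N20218 (iv F167445)) (tt N16641 F159729) (tt N17085 F159730) (tt N20221 (iv F167463)) (tt N16639 F159731) (tt N16694 F159732) (tt N17084 F159733) (tt N16638 (iv D34444)))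
theorem Q18519 : ∀ i, i < 18519 → P i := stepQ 18518 Q18518 (allL N18518 (tt N19259 (iv F163252)) (tt N17064 F159734) (tt N20096 (iv F167010)) (tt N19007 (iv F161886)) (tt N16640 (iv D34445)) (tt N16902 F159735) (tt N18518 F159736) (tt N16695 F159737) (tt N20204 (iv F167374)) (tt N20203 (iv F167369)))
theorem Q18520 : ∀ i, i < 18520 → P i := stepQ 18519 Q18519 (allL N18519 (tt N19260 (iv F163258)) (tt N17065 F159738) (tt N20097 (iv F167014)) (tt N20221 (iv F167462)) (tt N20203 (iv F167365)) (tt N16641 F159739) (tt N18519 F159740) (tt N16696 F159741) (tt N20220 (iv F167460)) (tt N16640 (iv D34446)))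
theorem Q18521 : ∀ i, i < 18521 → P i := stepQ 18520 Q18520 (allL N18520 (tt N19262 (iv F163270)) (tt N18868 (iv F161041)) (tt N16644 F159742) (tt N20099 (iv F167022)) (tt N18913 (iv F161333)) (tt N16905 F159743) (tt N16642 (iv D34447)) (tt N16831 F159744) (tt N18948 (iv F161553)) (tt N16790 F159745))
theorem Q18522 : ∀ i, i < 18522 → P i := stepQ 18521 Q18521 (allL N18521 (tt N19263 (iv F163276)) (tt N17067 F159746) (tt N18913 (iv F161332)) (tt N16660 F159747) (tt N16644 F159748) (tt N20222 D36149) (tt N16643 (iv D34448)) (tt N16910 F159749) (tt N16935 F159750) (tt N16876 F159751))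
theorem Q18523 : ∀ i, i < 18523 → P i := stepQ 18522 Q18522 (allL N18522 (tt N19264 (iv F163283)) (tt N17069 F159752) (tt N20104 (iv F167043)) (tt N19000 (iv F161843)) (tt N20223 D36150) (tt N16645 (iv D34449)) (tt N18522 F159753) (tt N17099 F159754) (tt N16909 F159755) (tt N18999 (iv F161840)))
theorem Q18524 : ∀ i, i < 18524 → P i := stepQ 18523 Q18523 (allL N18523 (tt N19663 (iv F165228)) (tt N16649 F159756) (tt N16919 F159757) (tt N20001 (iv F166617)) (tt N16916 F159758) (tt N16647 F159759) (tt N20224 D36151) (tt N16646 (iv D34450)) (tt N16930 F159760) (tt N16655 F159761))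
theorem Q18525 : ∀ i, i < 18525 → P i := stepQ 18524 Q18524 (allL N18524 (tt N18924 (iv F161400)) (tt N16916 F159762) (tt N16651 F159763) (tt N18905 (iv F161292)) (tt N16649 F159764) (tt N16709 F159765) (tt N20225 D36152) (tt N16648 (iv D34451)) (tt N16868 F159766) (tt N16657 F159767))
theorem Q18526 : ∀ i, i < 18526 → P i := stepQ 18525 Q18525 (allL N18525 (tt N19265 (iv F163290)) (tt N20224 (iv F167478)) (tt N16652 F159768) (tt N20003 (iv F166625)) (tt N20225 (iv F167487)) (tt N16669 F159769) (tt N16649 (iv D34452)) (tt N17015 F159770) (tt N20226 D36153) (tt N16658 F159771))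
theorem Q18527 : ∀ i, i < 18527 → P i := stepQ 18526 Q18526 (allL N18526 (tt N19266 (iv F163295)) (tt N16930 F159772) (tt N16653 F159773) (tt N20004 (iv F166631)) (tt N16868 F159774) (tt N18526 F159775) (tt N20226 (iv F167494)) (tt N16650 F159776) (tt N16649 (iv D34453)) (tt N16867 F159777))
theorem Q18528 : ∀ i, i < 18528 → P i := stepQ 18527 Q18527 (allL N18527 (tt N19267 (iv F163301)) (tt N17025 F159778) (tt N20225 (iv F167486)) (tt N16876 F159779) (tt N16652 F159780) (tt N19011 (iv F161914)) (tt N16651 (iv D34454)) (tt N16908 F159781) (tt N16875 F159782) (tt N16660 F159783))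
theorem Q18529 : ∀ i, i < 18529 → P i := stepQ 18528 Q18528 (allL N18528 (tt N19268 (iv F163309)) (tt N17026 F159784) (tt N20226 (iv F167492)) (tt N16654 F159785) (tt N16875 F159786) (tt N20227 D36154) (tt N16653 F159787) (tt N16907 F159788) (tt N16652 (iv D34455)) (tt N16912 F159789))
theorem Q18530 : ∀ i, i < 18530 → P i := stepQ 18529 Q18529 (allL N18529 (tt N19269 (iv F163316)) (tt N17027 F159790) (tt N20008 (iv F166649)) (tt N20227 (iv F167498)) (tt N16898 F159791) (tt N16654 (iv D34456)) (tt N18529 F159792) (tt N16911 F159793) (tt N16675 F159794) (tt N18998 (iv F161833)))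
theorem Q18531 : ∀ i, i < 18531 → P i := stepQ 18530 Q18530 (allL N18530 (tt N19662 (iv F165222)) (tt N16658 F159795) (tt N16918 F159796) (tt N20106 (iv F167052)) (tt N16915 F159797) (tt N16682 F159798) (tt N16655 (iv D34457)) (tt N20198 (iv F167335)) (tt N16914 F159799) (tt N20224 (iv F167484)))
theorem Q18532 : ∀ i, i < 18532 → P i := stepQ 18531 Q18531 (allL N18531 (tt N18917 (iv F161359)) (tt N16838 F159800) (tt N18911 (iv F161321)) (tt N16657 F159801) (tt N20107 (iv F167057)) (tt N16711 F159802) (tt N20228 D36155) (tt N16656 (iv D34458)) (tt N16833 F159803) (tt N18905 (iv F161295)))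
theorem Q18533 : ∀ i, i < 18533 → P i := stepQ 18532 Q18532 (allL N18532 (tt N18923 (iv F161395)) (tt N16915 F159804) (tt N16660 F159805) (tt N20228 (iv F167505)) (tt N16658 F159806) (tt N20229 D36156) (tt N16657 (iv D34459)) (tt N20200 (iv F167347)) (tt N16866 F159807) (tt N20225 (iv F167490)))
theorem Q18534 : ∀ i, i < 18534 → P i := stepQ 18533 Q18533 (allL N18533 (tt N19064 (iv F162233)) (tt N16914 F159808) (tt N16661 F159809) (tt N20110 (iv F167069)) (tt N16866 F159810) (tt N20170 (iv F167243)) (tt N16659 F159811) (tt N20201 (iv F167354)) (tt N16658 (iv D34460)) (tt N16865 (iv F159812)))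
theorem Q18535 : ∀ i, i < 18535 → P i := stepQ 18534 Q18534 (allL N18534 (tt N19270 (iv F163323)) (tt N17071 F159813) (tt N20229 (iv F167508)) (tt N20222 (iv F167467)) (tt N16690 F159814) (tt N16660 (iv D34461)) (tt N16713 F159815) (tt N20202 (iv F167360)) (tt N16923 F159816) (tt N19011 (iv F161917)))
theorem Q18536 : ∀ i, i < 18536 → P i := stepQ 18535 Q18535 (allL N18535 (tt N19271 (iv F163329)) (tt N17072 F159817) (tt N20170 (iv F167241)) (tt N16662 F159818) (tt N16696 F159819) (tt N16661 (iv D34462)) (tt N16697 F159820) (tt N20203 (iv F167367)) (tt N16693 F159821) (tt N16695 F159822))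
theorem Q18537 : ∀ i, i < 18537 → P i := stepQ 18536 Q18536 (allL N18536 (tt N19272 (iv F163336)) (tt N17073 F159823) (tt N20118 (iv F167090)) (tt N20230 D36157) (tt N16662 (iv D34463)) (tt N20223 (iv F167474)) (tt N16698 F159824) (tt N20204 (iv F167373)) (tt N16695 F159825) (tt N20231 D36158))
theorem Q18538 : ∀ i, i < 18538 → P i := stepQ 18537 Q18537 (allL N18537 (tt N19273 (iv F163340)) (tt N17074 F159826) (tt N20119 (iv F167093)) (tt N16695 F159827) (tt N20231 (iv F167519)) (tt N16663 F159828) (tt N16699 F159829) (tt N19007 (iv F161888)) (tt N20230 (iv F167515)) (tt N16662 (iv D34464)))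
theorem Q18539 : ∀ i, i < 18539 → P i := stepQ 18538 Q18538 (allL N18538 (tt N16666 F159830) (tt N19274 (iv F163347)) (tt N17075 F159831) (tt N20121 (iv F167099)) (tt N19235 (iv F163120)) (tt N16665 F159832) (tt N20232 D36159) (tt N16664 (iv D34465)) (tt N19233 (iv F163111)) (tt N16678 F159833))
theorem Q18540 : ∀ i, i < 18540 → P i := stepQ 18539 Q18539 (allL N18539 (tt N20232 (iv F167522)) (tt N16669 F159834) (tt N17076 F159835) (tt N20123 (iv F167106)) (tt N20207 (iv F167390)) (tt N20224 (iv F167481)) (tt N16666 (iv D34466)) (tt N20205 (iv F167379)) (tt N20206 (iv F167386)) (tt N16682 F159836))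
theorem Q18541 : ∀ i, i < 18541 → P i := stepQ 18540 Q18540 (allL N18540 (tt N19279 (iv F163367)) (tt N20015 (iv F166686)) (tt N16913 F159837) (tt N16668 F159838) (tt N20125 (iv F167116)) (tt N16720 F159839) (tt N20233 D36160) (tt N16667 (iv D34467)) (tt N20010 (iv F166664)) (tt N16684 F159840))
theorem Q18542 : ∀ i, i < 18542 → P i := stepQ 18541 Q18541 (allL N18541 (tt N19281 (iv F163378)) (tt N20207 (iv F167388)) (tt N16671 F159841) (tt N20233 (iv F167526)) (tt N16669 F159842) (tt N20234 D36161) (tt N16668 (iv D34468)) (tt N20206 (iv F167385)) (tt N20205 (iv F167380)) (tt N16686 F159843))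
theorem Q18543 : ∀ i, i < 18543 → P i := stepQ 18542 Q18542 (allL N18542 (tt N19283 (iv F163388)) (tt N20206 (iv F167382)) (tt N16673 F159844) (tt N20129 (iv F167127)) (tt N20205 (iv F167377)) (tt N20235 D36162) (tt N16670 F159845) (tt N20207 (iv F167392)) (tt N16669 (iv D34469)) (tt N20212 (iv F167422)))
theorem Q18544 : ∀ i, i < 18544 → P i := stepQ 18543 Q18543 (allL N18543 (tt N19285 (iv F163397)) (tt N17077 F159846) (tt N20234 (iv F167528)) (tt N16917 F159847) (tt N19011 (iv F161913)) (tt N16671 (iv D34470)) (tt N16724 F159848) (tt N20208 (iv F167398)) (tt N19010 (iv F161909)) (tt N16690 F159849))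
theorem Q18545 : ∀ i, i < 18545 → P i := stepQ 18544 Q18544 (allL N18544 (tt N19286 (iv F163404)) (tt N17030 F159850) (tt N20205 (iv F167376)) (tt N16918 F159851) (tt N16673 F159852) (tt N17042 (iv F159856)) (tt N16672 F159853) (tt N17076 F159854) (tt N16671 (iv D34471)) (tt N17057 (iv F159855)))
theorem Q18546 : ∀ i, i < 18546 → P i := stepQ 18545 Q18545 (allL N18545 (tt N19287 (iv F163412)) (tt N17078 F159857) (tt N20235 (iv F167531)) (tt N16675 F159858) (tt N20236 D36163) (tt N16673 (iv D34472)) (tt N18545 F159859) (tt N20209 (iv F167405)) (tt N20227 (iv F167502)) (tt N20237 D36164))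
theorem Q18547 : ∀ i, i < 18547 → P i := stepQ 18546 Q18546 (allL N18546 (tt N19288 (iv F163416)) (tt N17058 F159860) (tt N20212 (iv F167418)) (tt N16676 F159861) (tt N17057 F159862) (tt N20237 (iv F167543)) (tt N16674 F159863) (tt N17084 F159864) (tt N16694 F159865) (tt N16673 (iv D34473)))
theorem Q18548 : ∀ i, i < 18548 → P i := stepQ 18547 Q18547 (allL N18547 (tt N19289 (iv F163423)) (tt N17079 F159866) (tt N20139 (iv F167157)) (tt N20219 (iv F167451)) (tt N16675 (iv D34474)) (tt N16922 F159867) (tt N18547 F159868) (tt N16932 F159869) (tt N16898 F159870) (tt N20238 D36165))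
theorem Q18549 : ∀ i, i < 18549 → P i := stepQ 18548 Q18548 (allL N18548 (tt N19290 (iv F163429)) (tt N17080 F159871) (tt N20140 (iv F167162)) (tt N20237 (iv F167541)) (tt N20238 (iv F167548)) (tt N16676 F159872) (tt N18548 F159873) (tt N20210 (iv F167413)) (tt N20239 D36166) (tt N16675 (iv D34475)))
theorem Q18550 : ∀ i, i < 18550 → P i := stepQ 18549 Q18549 (allL N18549 (tt N16680 F159874) (tt N19291 (iv F163434)) (tt N19096 (iv F162427)) (tt N16677 (iv D34476)) (tt N20141 (iv F167166)) (tt N16726 F159875) (tt N19154 (iv F162731)) (tt N20240 D36167) (tt N19109 (iv F162494)) (tt N19091 F162402))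
theorem Q18551 : ∀ i, i < 18551 → P i := stepQ 18550 Q18550 (allL N18550 (tt N16681 F159876) (tt N19292 (iv F163437)) (tt N17081 F159877) (tt N20240 (iv F167558)) (tt N16678 F159878) (tt N16727 F159879) (tt N20241 D36168) (tt N16677 (iv D34477)) (tt N19254 (iv F163226)) (tt N19235 F163123))
theorem Q18552 : ∀ i, i < 18552 → P i := stepQ 18551 Q18551 (allL N18551 (tt N16682 F159880) (tt N19293 (iv F163442)) (tt N17082 F159881) (tt N20144 (iv F167172)) (tt N20241 (iv F167562)) (tt N19662 F165227) (tt N16678 (iv D34478)) (tt N20211 (iv F167416)) (tt N20242 D36169) (tt N20232 (iv F167524)))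
theorem Q18553 : ∀ i, i < 18553 → P i := stepQ 18552 Q18552 (allL N18552 (tt N16683 F159882) (tt N19294 (iv F163446)) (tt N17083 F159883) (tt N20145 (iv F167174)) (tt N19254 (iv F163223)) (tt N16700 F159884) (tt N20242 (iv F167565)) (tt N16679 F159885) (tt N16678 (iv D34479)) (tt N19252 (iv F163215)))
theorem Q18554 : ∀ i, i < 18554 → P i := stepQ 18553 Q18553 (allL N18553 (tt N20240 (iv F167557)) (tt N16684 F159886) (tt N20021 (iv F166715)) (tt N16681 F159887) (tt N20146 (iv F167179)) (tt N16728 F159888) (tt N20243 D36170) (tt N16680 (iv D34480)) (tt N20087 (iv F166984)) (tt N20015 F166691))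
theorem Q18555 : ∀ i, i < 18555 → P i := stepQ 18554 Q18554 (allL N18554 (tt N20241 (iv F167560)) (tt N16686 F159889) (tt N17084 F159890) (tt N20243 (iv F167567)) (tt N16682 F159891) (tt N20244 D36171) (tt N16681 (iv D34481)) (tt N20212 (iv F167420)) (tt N20218 (iv F167449)) (tt N20207 F167393))
theorem Q18556 : ∀ i, i < 18556 → P i := stepQ 18555 Q18555 (allL N18555 (tt N20242 (iv F167563)) (tt N16688 F159892) (tt N17085 F159893) (tt N20150 (iv F167188)) (tt N20218 (iv F167446)) (tt N20245 D36172) (tt N16683 F159894) (tt N20213 (iv F167427)) (tt N16682 (iv D34482)) (tt N20216 (iv F167440)))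
theorem Q18557 : ∀ i, i < 18557 → P i := stepQ 18556 Q18556 (allL N18556 (tt N19302 (iv F163475)) (tt N20243 (iv F167566)) (tt N16925 F159895) (tt N16686 F159896) (tt N20152 (iv F167198)) (tt N20246 D36173) (tt N16684 (iv D34483)) (tt N20214 (iv F167431)) (tt N20247 D36174) (tt N20233 (iv F167527)))
theorem Q18558 : ∀ i, i < 18558 → P i := stepQ 18557 Q18557 (allL N18557 (tt N19303 (iv F163478)) (tt N20087 (iv F166979)) (tt N16926 F159897) (tt N16687 F159898) (tt N20153 (iv F167201)) (tt N18557 F159899) (tt N20247 (iv F167581)) (tt N16685 F159900) (tt N16684 (iv D34484)) (tt N20079 (iv F166951)))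
theorem Q18559 : ∀ i, i < 18559 → P i := stepQ 18558 Q18558 (allL N18558 (tt N19305 (iv F163489)) (tt N20244 (iv F167568)) (tt N16690 F159901) (tt N20246 (iv F167577)) (tt N20229 (iv F167509)) (tt N16686 (iv D34485)) (tt N16731 F159902) (tt N20215 (iv F167434)) (tt N20248 D36175) (tt N20234 (iv F167530)))
theorem Q18560 : ∀ i, i < 18560 → P i := stepQ 18559 Q18559 (allL N18559 (tt N19306 (iv F163492)) (tt N20218 (iv F167444)) (tt N16691 F159903) (tt N20247 (iv F167580)) (tt N16688 F159904) (tt N20249 D36176) (tt N16687 F159905) (tt N20216 (iv F167439)) (tt N16686 (iv D34486)) (tt N20213 (iv F167428)))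
theorem Q18561 : ∀ i, i < 18561 → P i := stepQ 18560 Q18560 (allL N18560 (tt N19308 (iv F163502)) (tt N20245 (iv F167572)) (tt N16693 F159906) (tt N20160 (iv F167219)) (tt N20171 (iv F167247)) (tt N16688 (iv D34487)) (tt N16704 F159907) (tt N20217 (iv F167443)) (tt N20170 F167245) (tt N20250 D36177))
theorem Q18562 : ∀ i, i < 18562 → P i := stepQ 18561 Q18561 (allL N18561 (tt N19309 (iv F163505)) (tt N20216 (iv F167435)) (tt N16694 F159908) (tt N20161 (iv F167222)) (tt N20213 (iv F167425)) (tt N20250 (iv F167589)) (tt N16689 F159909) (tt N20218 (iv F167448)) (tt N20212 (iv F167421)) (tt N16688 (iv D34488)))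
theorem Q18563 : ∀ i, i < 18563 → P i := stepQ 18562 Q18562 (allL N18562 (tt N19310 (iv F163508)) (tt N17088 F159910) (tt N20248 (iv F167582)) (tt N16932 F159911) (tt N16923 F159912) (tt N20238 (iv F167549)) (tt N16732 F159913) (tt N20219 (iv F167455)) (tt N16690 (iv D34489)) (tt N16922 (iv F159914)))
theorem Q18564 : ∀ i, i < 18564 → P i := stepQ 18563 Q18563 (allL N18563 (tt N19311 (iv F163514)) (tt N17089 F159915) (tt N20249 (iv F167586)) (tt N16933 F159916) (tt N20239 (iv F167554)) (tt N16691 (iv D34490)) (tt N18563 F159917) (tt N19009 (iv F161899)) (tt N20238 F167552) (tt N20251 D36178))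
theorem Q18565 : ∀ i, i < 18565 → P i := stepQ 18564 Q18564 (allL N18564 (tt N19312 (iv F163519)) (tt N17059 F159918) (tt N20213 (iv F167424)) (tt N16934 F159919) (tt N16694 F159920) (tt N20251 (iv F167593)) (tt N16692 F159921) (tt N17085 F159922) (tt N17057 F159923) (tt N16691 (iv D34491)))
theorem Q18566 : ∀ i, i < 18566 → P i := stepQ 18565 Q18565 (allL N18565 (tt N19313 (iv F163526)) (tt N17090 F159924) (tt N20171 (iv F167246)) (tt N20231 (iv F167518)) (tt N16693 (iv D34492)) (tt N20239 (iv F167555)) (tt N16706 F159925) (tt N20220 (iv F167459)) (tt N16696 F159926) (tt N20230 F167516))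
theorem Q18567 : ∀ i, i < 18567 → P i := stepQ 18566 Q18566 (allL N18566 (tt N19314 (iv F163530)) (tt N17091 F159927) (tt N20250 (iv F167588)) (tt N16696 F159928) (tt N20230 (iv F167513)) (tt N16694 F159929) (tt N16707 F159930) (tt N20221 (iv F167465)) (tt N20231 (iv F167521)) (tt N16693 (iv D34493)))
theorem Q18568 : ∀ i, i < 18568 → P i := stepQ 18567 Q18567 (allL N18567 (tt N19315 (iv F163535)) (tt N17092 F159931) (tt N20180 (iv F167278)) (tt N16698 (iv D34494)) (tt N16707 F159932) (tt N18567 F159933) (tt N20230 (iv F167514)) (tt N18567 F159934) (tt N16699 F159935) (tt N16706 (iv F159936)))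
theorem Q18569 : ∀ i, i < 18569 → P i := stepQ 18568 Q18568 (allL N18568 (tt N19316 (iv F163542)) (tt N17093 F159937) (tt N20179 (iv F167273)) (tt N16706 F159938) (tt N16699 F159939) (tt N18568 F159940) (tt N20231 (iv F167520)) (tt N18568 F159941) (tt N16707 F159942) (tt N16698 (iv D34495)))
theorem Q18570 : ∀ i, i < 18570 → P i := stepQ 18569 Q18569 (allL N18569 (tt N19702 (iv F165439)) (tt N16704 F159943) (tt N16947 F159944) (tt N20183 (iv F167292)) (tt N19016 (iv F161946)) (tt N16702 (iv D34496)) (tt N20245 (iv F167574)) (tt N18569 F159945) (tt N16946 F159946) (tt N19014 (iv F161937)))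
theorem Q18571 : ∀ i, i < 18571 → P i := stepQ 18570 Q18570 (allL N18570 (tt N19318 (iv F163556)) (tt N19014 (iv F161933)) (tt N16707 F159947) (tt N20188 (iv F167306)) (tt N20180 (iv F167279)) (tt N16705 F159948) (tt N20250 (iv F167590)) (tt N18570 F159949) (tt N20179 (iv F167277)) (tt N16704 (iv D34497)))
theorem Q18572 : ∀ i, i < 18572 → P i := stepQ 18571 Q18571 (allL N18571 (tt N19319 (iv F163560)) (tt N17053 F159950) (tt N18921 (iv F161383)) (tt N16713 F159951) (tt N16942 F159952) (tt N16708 (iv D34498)) (tt N20222 (iv F167469)) (tt N18571 F159953) (tt N16975 F159954) (tt N17115 F159955))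
theorem Q18573 : ∀ i, i < 18573 → P i := stepQ 18572 Q18572 (allL N18572 (tt N18916 (iv F161352)) (tt N16957 F159956) (tt N18920 (iv F161376)) (tt N16712 F159957) (tt N18897 (iv F161243)) (tt N20252 D36179) (tt N16711 (iv D34499)) (tt N18572 F159958) (tt N16956 F159959) (tt N18915 (iv F161351)))
theorem Q18574 : ∀ i, i < 18574 → P i := stepQ 18573 Q18573 (allL N18573 (tt N18922 (iv F161388)) (tt N16971 F159960) (tt N16713 F159961) (tt N20252 (iv F167598)) (tt N16731 F159962) (tt N16712 (iv D34500)) (tt N20229 (iv F167510)) (tt N18573 F159963) (tt N16968 F159964) (tt N18981 (iv F161731)))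
theorem Q18575 : ∀ i, i < 18575 → P i := stepQ 18574 Q18574 (allL N18574 (tt N16717 F159965) (tt N19321 (iv F163575)) (tt N17005 F159966) (tt N19734 (iv F165619)) (tt N16715 F159967) (tt N19235 (iv F163121)) (tt N19862 (iv F166148)) (tt N16714 (iv D34501)) (tt N17002 F159968) (tt N16727 F159969))
theorem Q18576 : ∀ i, i < 18576 → P i := stepQ 18575 Q18575 (allL N18575 (tt N16719 F159970) (tt N19322 (iv F163582)) (tt N17003 F159971) (tt N19690 (iv F165362)) (tt N17002 F159972) (tt N18575 F159973) (tt N19863 (iv F166157)) (tt N16716 F159974) (tt N16715 (iv D34502)) (tt N18575 F159975))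
theorem Q18577 : ∀ i, i < 18577 → P i := stepQ 18576 Q18576 (allL N18576 (tt N19862 (iv F166144)) (tt N16721 F159976) (tt N17019 F159977) (tt N20051 (iv F166851)) (tt N16718 F159978) (tt N20253 D36180) (tt N16717 (iv D34503)) (tt N18576 F159979) (tt N17017 F159980) (tt N16729 F159981))
theorem Q18578 : ∀ i, i < 18578 → P i := stepQ 18577 Q18577 (allL N18577 (tt N19863 (iv F166151)) (tt N16723 F159982) (tt N17018 F159983) (tt N19693 (iv F165384)) (tt N17017 F159984) (tt N19018 (iv F161963)) (tt N16719 F159985) (tt N18577 F159986) (tt N16718 (iv D34504)) (tt N18577 F159987))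
theorem Q18579 : ∀ i, i < 18579 → P i := stepQ 18578 Q18578 (allL N18578 (tt N19325 (iv F163604)) (tt N20051 (iv F166849)) (tt N16945 F159988) (tt N16721 F159989) (tt N19694 (iv F165393)) (tt N20254 D36181) (tt N16720 (iv D34505)) (tt N18578 F159990) (tt N19999 (iv F166607)) (tt N16730 F159991))
theorem Q18580 : ∀ i, i < 18580 → P i := stepQ 18579 Q18579 (allL N18579 (tt N19326 (iv F163611)) (tt N20253 (iv F167601)) (tt N16724 F159992) (tt N20254 (iv F167608)) (tt N18981 (iv F161728)) (tt N16721 (iv D34506)) (tt N20234 (iv F167529)) (tt N18579 F159993) (tt N18980 (iv F161724)) (tt N16731 F159994))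
theorem Q18581 : ∀ i, i < 18581 → P i := stepQ 18580 Q18580 (allL N18580 (tt N19327 (iv F163617)) (tt N17017 F159995) (tt N16725 F159996) (tt N19999 (iv F166603)) (tt N16723 F159997) (tt N17022 (iv F160001)) (tt N16722 F159998) (tt N18580 F159999) (tt N16721 (iv D34507)) (tt N18580 F160000))
theorem Q18582 : ∀ i, i < 18582 → P i := stepQ 18581 Q18581 (allL N18581 (tt N16728 F160002) (tt N19329 (iv F163633)) (tt N19740 (iv F165652)) (tt N16727 F160003) (tt N19789 (iv F165884)) (tt N20240 (iv F167559)) (tt N19861 (iv F166141)) (tt N16726 (iv D34508)) (tt N18581 F160004) (tt N19734 F165621))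
theorem Q18583 : ∀ i, i < 18583 → P i := stepQ 18582 Q18582 (allL N18582 (tt N19861 (iv F166138)) (tt N16730 F160005) (tt N20056 (iv F166872)) (tt N16729 F160006) (tt N19819 (iv F165990)) (tt N20255 D36182) (tt N16728 (iv D34509)) (tt N18582 F160007) (tt N18582 F160008) (tt N20051 F166854))
theorem Q18584 : ∀ i, i < 18584 → P i := stepQ 18583 Q18583 (allL N18583 (tt N19728 (iv F165578)) (tt N16731 F160009) (tt N16974 F160010) (tt N20255 (iv F167612)) (tt N16971 F160011) (tt N16729 (iv D34510)) (tt N20244 (iv F167571)) (tt N18583 F160012) (tt N19012 (iv F161923)) (tt N20253 (iv F167606)))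
theorem Q18585 : ∀ i, i < 18585 → P i := stepQ 18584 Q18584 (allL N18584 (tt N19331 (iv F163644)) (tt N20255 (iv F167611)) (tt N16948 F160013) (tt N16731 F160014) (tt N20256 D36183) (tt N16730 (iv D34511)) (tt N20246 (iv F167578)) (tt N18584 F160015) (tt N20257 D36184) (tt N20254 (iv F167610)))
theorem Q18586 : ∀ i, i < 18586 → P i := stepQ 18585 Q18585 (allL N18585 (tt N19332 (iv F163648)) (tt N19012 (iv F161919)) (tt N16732 F160016) (tt N20257 (iv F167617)) (tt N16968 F160017) (tt N18585 F160018) (tt N20248 (iv F167584)) (tt N18585 F160019) (tt N16731 (iv D34512)) (tt N16967 (iv F160020)))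
theorem Q18587 : ∀ i, i < 18587 → P i := stepQ 18586 Q18586 (allL N18586 (tt N16757 F160021) (tt N19360 (iv F163826)) (tt N19555 (iv F164724)) (tt N19081 (iv F162339)) (tt N16734 F160022) (tt N19348 (iv F163754)) (tt N20258 D36185) (tt N16733 (iv D34513)) (tt N19912 (iv F166319)) (tt N16736 F160023))
theorem Q18588 : ∀ i, i < 18588 → P i := stepQ 18587 Q18587 (allL N18587 (tt N16759 F160024) (tt N19362 (iv F163838)) (tt N19557 (iv F164735)) (tt N16735 F160025) (tt N20258 (iv F167622)) (tt N18891 (iv F161203)) (tt N16734 (iv D34514)) (tt N19124 (iv F162571)) (tt N19916 (iv F166334)) (tt N16737 F160026))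
theorem Q18589 : ∀ i, i < 18589 → P i := stepQ 18588 Q18588 (allL N18588 (tt N16765 F160027) (tt N19373 (iv F163894)) (tt N19553 (iv F164715)) (tt N19997 (iv F166592)) (tt N16737 F160028) (tt N20259 D36186) (tt N16736 (iv D34515)) (tt N19791 (iv F165894)) (tt N19551 (iv F164708)) (tt N20258 (iv F167623)))
theorem Q18590 : ∀ i, i < 18590 → P i := stepQ 18589 Q18589 (allL N18589 (tt N19494 (iv F164450)) (tt N18863 (iv F161008)) (tt N16740 F160029) (tt N18907 (iv F161302)) (tt N16739 F160030) (tt N19135 (iv F162637)) (tt N20260 D36187) (tt N16738 (iv D34516)) (tt N16788 F160031) (tt N20098 (iv F167020)))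
theorem Q18591 : ∀ i, i < 18591 → P i := stepQ 18590 Q18590 (allL N18590 (tt N19495 (iv F164455)) (tt N18866 (iv F161027)) (tt N16742 F160032) (tt N16790 F160033) (tt N20260 (iv F167626)) (tt N18861 (iv F160997)) (tt N16739 (iv D34517)) (tt N16764 F160034) (tt N16789 F160035) (tt N20099 (iv F167025)))
theorem Q18592 : ∀ i, i < 18592 → P i := stepQ 18591 Q18591 (allL N18591 (tt N19791 (iv F165892)) (tt N16811 F160036) (tt N20260 (iv F167625)) (tt N20005 (iv F166636)) (tt N16742 F160037) (tt N20261 D36188) (tt N16740 (iv D34518)) (tt N16765 F160038) (tt N20262 D36189) (tt N20100 (iv F167030)))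
theorem Q18593 : ∀ i, i < 18593 → P i := stepQ 18592 Q18592 (allL N18592 (tt N19491 (iv F164434)) (tt N16812 F160039) (tt N16788 F160040) (tt N20006 (iv F166641)) (tt N16743 F160041) (tt N19041 (iv F162109)) (tt N20262 (iv F167634)) (tt N16741 F160042) (tt N16740 (iv D34519)) (tt N18937 (iv F161484)))
theorem Q18594 : ∀ i, i < 18594 → P i := stepQ 18593 Q18593 (allL N18593 (tt N19492 (iv F164439)) (tt N16815 F160043) (tt N16789 F160044) (tt N16744 F160045) (tt N20262 (iv F167633)) (tt N16808 (iv F160048)) (tt N16743 F160046) (tt N16767 F160047) (tt N16742 (iv D34520)) (tt N18939 (iv F161498)))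
theorem Q18595 : ∀ i, i < 18595 → P i := stepQ 18594 Q18594 (allL N18594 (tt N19772 (iv F165813)) (tt N16852 F160049) (tt N18936 (iv F161475)) (tt N16745 (iv D34521)) (tt N16924 F160050) (tt N19429 (iv F164179)) (tt N18859 (iv F160983)) (tt N20263 D36190) (tt N16848 F160051) (tt N18901 (iv F161271)))
theorem Q18596 : ∀ i, i < 18596 → P i := stepQ 18595 Q18595 (allL N18595 (tt N19607 (iv F164929)) (tt N16854 F160052) (tt N16747 F160053) (tt N20263 (iv F167637)) (tt N16746 F160054) (tt N19430 (iv F164184)) (tt N20264 D36191) (tt N16745 (iv D34522)) (tt N16849 F160055) (tt N18902 (iv F161277)))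
theorem Q18597 : ∀ i, i < 18597 → P i := stepQ 18596 Q18596 (allL N18596 (tt N19556 (iv F164728)) (tt N16857 F160056) (tt N16749 F160057) (tt N16830 F160058) (tt N20264 (iv F167642)) (tt N16764 F160059) (tt N16746 (iv D34523)) (tt N18861 (iv F160998)) (tt N16850 F160060) (tt N18904 (iv F161289)))
theorem Q18598 : ∀ i, i < 18598 → P i := stepQ 18597 Q18597 (allL N18597 (tt N19790 (iv F165888)) (tt N16829 F160061) (tt N20264 (iv F167641)) (tt N18941 (iv F161508)) (tt N16749 F160062) (tt N20265 D36192) (tt N16747 (iv D34524)) (tt N18862 (iv F161005)) (tt N20266 D36193) (tt N18906 (iv F161300)))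
theorem Q18599 : ∀ i, i < 18599 → P i := stepQ 18598 Q18598 (allL N18598 (tt N19614 (iv F164963)) (tt N16763 F160063) (tt N16849 F160064) (tt N18942 (iv F161514)) (tt N16750 F160065) (tt N19846 (iv F166093)) (tt N20266 (iv F167649)) (tt N16748 F160066) (tt N16747 (iv D34525)) (tt N20267 D36194))
theorem Q18600 : ∀ i, i < 18600 → P i := stepQ 18599 Q18599 (allL N18599 (tt N19454 (iv F164279)) (tt N16755 F160067) (tt N16832 F160068) (tt N18944 (iv F161524)) (tt N16751 F160069) (tt N19370 F163881) (tt N18865 (iv F161024)) (tt N20267 (iv F167653)) (tt N18909 (iv F161315)) (tt N16748 (iv D34526)))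
theorem Q18601 : ∀ i, i < 18601 → P i := stepQ 18600 Q18600 (allL N18600 (tt N19596 (iv F164894)) (tt N16764 F160070) (tt N16850 F160071) (tt N16752 F160072) (tt N20266 (iv F167648)) (tt N16857 F160073) (tt N16750 F160074) (tt N18866 (iv F161032)) (tt N16749 (iv D34527)) (tt N20268 D36195))
theorem Q18602 : ∀ i, i < 18602 → P i := stepQ 18601 Q18601 (allL N18601 (tt N19467 (iv F164336)) (tt N16756 F160075) (tt N16833 F160076) (tt N16753 F160077) (tt N20267 (iv F167652)) (tt N16754 F160078) (tt N20268 (iv F167658)) (tt N16751 F160079) (tt N18911 (iv F161325)) (tt N16750 (iv D34528)))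
theorem Q18603 : ∀ i, i < 18603 → P i := stepQ 18602 Q18602 (allL N18602 (tt N19686 (iv F165333)) (tt N16831 F160080) (tt N16935 F160081) (tt N20268 (iv F167656)) (tt N18948 (iv F161550)) (tt N16931 F160082) (tt N16753 F160083) (tt N18868 (iv F161046)) (tt N18913 (iv F161336)) (tt N16752 (iv D34529)))
theorem Q18604 : ∀ i, i < 18604 → P i := stepQ 18603 Q18603 (allL N18603 (tt N19545 (iv F164679)) (tt N18944 (iv F161522)) (tt N20027 (iv F166751)) (tt N16755 (iv D34530)) (tt N16826 F160084) (tt N19418 (iv F164137)) (tt N18909 (iv F161314)) (tt N20269 D36196) (tt N18865 (iv F161025)) (tt N16762 F160085))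
theorem Q18605 : ∀ i, i < 18605 → P i := stepQ 18604 Q18604 (allL N18604 (tt N19555 (iv F164723)) (tt N20267 (iv F167650)) (tt N16757 F160086) (tt N20269 (iv F167659)) (tt N16756 F160087) (tt N19419 (iv F164141)) (tt N20270 D36197) (tt N16755 (iv D34531)) (tt N18958 (iv F161605)) (tt N16763 F160088))
theorem Q18606 : ∀ i, i < 18606 → P i := stepQ 18605 Q18605 (allL N18605 (tt N19557 (iv F164734)) (tt N20268 (iv F167654)) (tt N16759 F160089) (tt N16831 F160090) (tt N20270 (iv F167663)) (tt N18904 (iv F161287)) (tt N16756 (iv D34532)) (tt N20099 (iv F167024)) (tt N18962 (iv F161621)) (tt N16764 F160091))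
theorem Q18607 : ∀ i, i < 18607 → P i := stepQ 18606 Q18606 (allL N18606 (tt N20258 (iv F167621)) (tt N16840 F160092) (tt N20270 (iv F167662)) (tt N20032 (iv F166777)) (tt N16759 F160093) (tt N20271 D36198) (tt N16757 (iv D34533)) (tt N20100 (iv F167029)) (tt N20272 D36199) (tt N16765 F160094))
theorem Q18608 : ∀ i, i < 18608 → P i := stepQ 18607 Q18607 (allL N18607 (tt N19912 (iv F166315)) (tt N16841 F160095) (tt N18958 (iv F161602)) (tt N20033 (iv F166782)) (tt N16760 F160096) (tt N20273 D36200) (tt N20272 (iv F167669)) (tt N16758 F160097) (tt N16757 (iv D34534)) (tt N18952 (iv F161577)))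
theorem Q18609 : ∀ i, i < 18609 → P i := stepQ 18608 Q18608 (allL N18608 (tt N19914 (iv F166323)) (tt N16842 F160098) (tt N18960 (iv F161610)) (tt N20034 (iv F166786)) (tt N16953 F160099) (tt N16758 (iv D34535)) (tt N20274 D36201) (tt N20273 (iv F167672)) (tt N19423 (iv F164155)) (tt N18953 (iv F161583)))
theorem Q18610 : ∀ i, i < 18610 → P i := stepQ 18609 Q18609 (allL N18609 (tt N19916 (iv F166330)) (tt N16844 F160100) (tt N18962 (iv F161618)) (tt N16761 F160101) (tt N20272 (iv F167668)) (tt N20275 D36202) (tt N16760 F160102) (tt N20103 (iv F167041)) (tt N16759 (iv D34536)) (tt N18954 (iv F161589)))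
theorem Q18611 : ∀ i, i < 18611 → P i := stepQ 18610 Q18610 (allL N18610 (tt N19980 (iv F166537)) (tt N16846 F160103) (tt N17099 F160104) (tt N20275 (iv F167676)) (tt N20276 D36203) (tt N16761 (iv D34537)) (tt N16955 F160105) (tt N20104 (iv F167045)) (tt N18912 (iv F161330)) (tt N19005 (iv F161878)))
theorem Q18612 : ∀ i, i < 18612 → P i := stepQ 18611 Q18611 (allL N18611 (tt N19543 (iv F164671)) (tt N18942 (iv F161513)) (tt N20044 (iv F166827)) (tt N16763 F160106) (tt N16825 F160107) (tt N19848 (iv F166100)) (tt N20277 D36204) (tt N16762 (iv D34538)) (tt N16823 F160108) (tt N20269 (iv F167661)))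
theorem Q18613 : ∀ i, i < 18613 → P i := stepQ 18612 Q18612 (allL N18612 (tt N19553 (iv F164714)) (tt N20266 (iv F167646)) (tt N16765 F160109) (tt N20277 (iv F167681)) (tt N16764 F160110) (tt N20278 D36205) (tt N16763 (iv D34539)) (tt N20260 (iv F167627)) (tt N16829 F160111) (tt N20270 (iv F167664)))
theorem Q18614 : ∀ i, i < 18614 → P i := stepQ 18613 Q18613 (allL N18613 (tt N20259 (iv F167624)) (tt N16859 F160112) (tt N20278 (iv F167684)) (tt N20048 (iv F166841)) (tt N20265 (iv F167645)) (tt N16765 (iv D34540)) (tt N19850 (iv F166104)) (tt N20261 (iv F167630)) (tt N20279 D36206) (tt N20271 (iv F167666)))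
theorem Q18615 : ∀ i, i < 18615 → P i := stepQ 18614 Q18614 (allL N18614 (tt N19551 (iv F164705)) (tt N16860 F160113) (tt N16829 F160114) (tt N20049 (iv F166843)) (tt N16767 F160115) (tt N20280 D36207) (tt N16766 F160116) (tt N20262 (iv F167635)) (tt N16765 (iv D34541)) (tt N18951 (iv F161571)))
theorem Q18616 : ∀ i, i < 18616 → P i := stepQ 18615 Q18615 (allL N18615 (tt N19748 (iv F165698)) (tt N16769 F160117) (tt N18872 (iv F161071)) (tt N18615 F160118) (tt N20281 D36208) (tt N16768 (iv D34542)) (tt N19019 (iv F161971)) (tt N20282 D36209) (tt N20054 (iv F166866)) (tt N16776 F160119))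
theorem Q18617 : ∀ i, i < 18617 → P i := stepQ 18616 Q18616 (allL N18616 (tt N19750 (iv F165711)) (tt N16770 F160120) (tt N18870 (iv F161056)) (tt N18616 F160121) (tt N16792 F160122) (tt N20282 (iv F167694)) (tt N16989 F160123) (tt N16768 (iv D34543)) (tt N18616 F160124) (tt N16777 F160125))
theorem Q18618 : ∀ i, i < 18618 → P i := stepQ 18617 Q18617 (allL N18617 (tt N19030 (iv F162043)) (tt N20281 (iv F167689)) (tt N16771 F160126) (tt N20283 D36210) (tt N16769 (iv D34544)) (tt N16793 F160127) (tt N19021 (iv F161985)) (tt N20284 D36211) (tt N20115 (iv F167082)) (tt N16778 F160128))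
theorem Q18619 : ∀ i, i < 18619 → P i := stepQ 18618 Q18618 (allL N18618 (tt N19031 (iv F162049)) (tt N20282 (iv F167692)) (tt N16772 F160129) (tt N18618 F160130) (tt N20284 (iv F167700)) (tt N16770 F160131) (tt N20285 D36212) (tt N16769 (iv D34545)) (tt N20175 (iv F167261)) (tt N16779 F160132))
theorem Q18620 : ∀ i, i < 18620 → P i := stepQ 18619 Q18619 (allL N18619 (tt N19033 (iv F162061)) (tt N19130 (iv F162604)) (tt N20284 (iv F167699)) (tt N19338 (iv F163688)) (tt N16772 F160133) (tt N16796 F160134) (tt N20286 D36213) (tt N16771 (iv D34546)) (tt N20287 D36214) (tt N16781 F160135))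
theorem Q18621 : ∀ i, i < 18621 → P i := stepQ 18620 Q18620 (allL N18620 (tt N19034 (iv F162067)) (tt N19131 (iv F162610)) (tt N20115 (iv F167080)) (tt N19339 (iv F163694)) (tt N16773 F160136) (tt N20288 D36215) (tt N19024 (iv F162006)) (tt N20287 (iv F167709)) (tt N16771 (iv D34547)) (tt N19883 (iv F166231)))
theorem Q18622 : ∀ i, i < 18622 → P i := stepQ 18621 Q18621 (allL N18621 (tt N19035 (iv F162072)) (tt N19132 (iv F162616)) (tt N20285 (iv F167703)) (tt N16774 F160137) (tt N20286 (iv F167706)) (tt N18931 (iv F161446)) (tt N16772 (iv D34548)) (tt N19025 (iv F162012)) (tt N20289 D36216) (tt N16783 F160138))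
theorem Q18623 : ∀ i, i < 18623 → P i := stepQ 18622 Q18622 (allL N18622 (tt N19036 (iv F162078)) (tt N19133 (iv F162622)) (tt N20175 (iv F167258)) (tt N16775 F160139) (tt N20287 (iv F167708)) (tt N18622 F160140) (tt N20289 (iv F167713)) (tt N16773 F160141) (tt N16772 (iv D34549)) (tt N19964 (iv F166490)))
theorem Q18624 : ∀ i, i < 18624 → P i := stepQ 18623 Q18623 (allL N18623 (tt N19038 (iv F162089)) (tt N19134 (iv F162628)) (tt N18623 F160142) (tt N20289 (iv F167712)) (tt N19342 (iv F163713)) (tt N20290 D36217) (tt N16775 F160143) (tt N19027 (iv F162026)) (tt N16774 (iv D34550)) (tt N19965 (iv F166496)))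
theorem Q18625 : ∀ i, i < 18625 → P i := stepQ 18624 Q18624 (allL N18624 (tt N19770 (iv F165804)) (tt N16778 F160144) (tt N18864 (iv F161015)) (tt N20291 D36218) (tt N16776 (iv D34551)) (tt N16803 F160145) (tt N19867 (iv F166175)) (tt N20292 D36219) (tt N19176 (iv F162821)) (tt N20281 (iv F167691)))
theorem Q18626 : ∀ i, i < 18626 → P i := stepQ 18625 Q18625 (allL N18625 (tt N19763 (iv F165776)) (tt N16779 F160146) (tt N18869 (iv F161050)) (tt N18625 F160147) (tt N20292 (iv F167720)) (tt N16777 F160148) (tt N20293 D36220) (tt N16776 (iv D34552)) (tt N19199 (iv F162932)) (tt N20282 (iv F167695)))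
theorem Q18627 : ∀ i, i < 18627 → P i := stepQ 18626 Q18626 (allL N18626 (tt N19477 (iv F164389)) (tt N20291 (iv F167716)) (tt N20063 (iv F166898)) (tt N16778 (iv D34553)) (tt N18626 F160149) (tt N16805 F160150) (tt N19869 (iv F166181)) (tt N20294 D36221) (tt N20295 D36222) (tt N20283 (iv F167698)))
theorem Q18628 : ∀ i, i < 18628 → P i := stepQ 18627 Q18627 (allL N18627 (tt N19478 (iv F164392)) (tt N20292 (iv F167719)) (tt N16781 F160151) (tt N20294 (iv F167725)) (tt N16779 F160152) (tt N16806 F160153) (tt N20296 D36223) (tt N16778 (iv D34554)) (tt N20297 D36224) (tt N20284 (iv F167702)))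
theorem Q18629 : ∀ i, i < 18629 → P i := stepQ 18628 Q18628 (allL N18628 (tt N19479 (iv F164396)) (tt N19176 (iv F162818)) (tt N16782 F160154) (tt N20295 (iv F167728)) (tt N16780 F160155) (tt N19168 (iv F162789)) (tt N19871 (iv F166187)) (tt N20297 (iv F167734)) (tt N16778 (iv D34555)) (tt N20298 D36225))
theorem Q18630 : ∀ i, i < 18630 → P i := stepQ 18629 Q18629 (allL N18629 (tt N19480 (iv F164399)) (tt N20293 (iv F167722)) (tt N16783 F160156) (tt N18629 F160157) (tt N20296 (iv F167731)) (tt N19043 (iv F162118)) (tt N16779 (iv D34556)) (tt N19872 (iv F166190)) (tt N20299 D36226) (tt N20285 (iv F167705)))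
theorem Q18631 : ∀ i, i < 18631 → P i := stepQ 18630 Q18630 (allL N18630 (tt N19481 (iv F164402)) (tt N19199 (iv F162928)) (tt N16784 F160158) (tt N18630 F160159) (tt N20297 (iv F167733)) (tt N16978 F160160) (tt N20299 (iv F167739)) (tt N16780 F160161) (tt N16779 (iv D34557)) (tt N20300 D36227))
theorem Q18632 : ∀ i, i < 18632 → P i := stepQ 18631 Q18631 (allL N18631 (tt N19482 (iv F164407)) (tt N19202 (iv F162947)) (tt N16785 F160162) (tt N18631 F160163) (tt N20298 (iv F167736)) (tt N16979 F160164) (tt N19874 (iv F166198)) (tt N20300 (iv F167743)) (tt N19963 (iv F166484)) (tt N16780 (iv D34558)))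
theorem Q18633 : ∀ i, i < 18633 → P i := stepQ 18632 Q18632 (allL N18632 (tt N19483 (iv F164411)) (tt N19137 (iv F162643)) (tt N20296 (iv F167730)) (tt N20068 (iv F166912)) (tt N16783 F160165) (tt N20301 D36228) (tt N16781 (iv D34559)) (tt N19875 (iv F166201)) (tt N20302 D36229) (tt N20286 (iv F167707)))
theorem Q18634 : ∀ i, i < 18634 → P i := stepQ 18633 Q18633 (allL N18633 (tt N19484 (iv F164413)) (tt N19138 (iv F162646)) (tt N20297 (iv F167732)) (tt N20069 (iv F166914)) (tt N16784 F160166) (tt N20303 D36230) (tt N20302 (iv F167746)) (tt N16782 F160167) (tt N16781 (iv D34560)) (tt N20304 D36231))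
theorem Q18635 : ∀ i, i < 18635 → P i := stepQ 18634 Q18634 (allL N18634 (tt N19485 (iv F164416)) (tt N19042 (iv F162111)) (tt N19168 (iv F162787)) (tt N20070 (iv F166917)) (tt N16982 F160168) (tt N16782 (iv D34561)) (tt N20305 D36232) (tt N20303 (iv F167748)) (tt N16813 F160169) (tt N20306 D36233))
theorem Q18636 : ∀ i, i < 18636 → P i := stepQ 18635 Q18635 (allL N18635 (tt N19486 (iv F164419)) (tt N19139 (iv F162650)) (tt N20298 (iv F167735)) (tt N19885 (iv F166236)) (tt N16785 F160170) (tt N20306 (iv F167755)) (tt N19878 (iv F166209)) (tt N20304 (iv F167751)) (tt N19883 F166232) (tt N16782 (iv D34562)))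
theorem Q18637 : ∀ i, i < 18637 → P i := stepQ 18636 Q18636 (allL N18636 (tt N19487 (iv F164421)) (tt N19140 (iv F162657)) (tt N20299 (iv F167737)) (tt N16786 F160171) (tt N20302 (iv F167745)) (tt N20307 D36234) (tt N16784 F160172) (tt N19879 (iv F166213)) (tt N16783 (iv D34563)) (tt N20308 D36235))
theorem Q18638 : ∀ i, i < 18638 → P i := stepQ 18637 Q18637 (allL N18637 (tt N19488 (iv F164424)) (tt N19141 (iv F162661)) (tt N20300 (iv F167740)) (tt N16787 F160173) (tt N20304 (iv F167750)) (tt N16985 F160174) (tt N20308 (iv F167759)) (tt N16785 F160175) (tt N19964 (iv F166489)) (tt N16784 (iv D34564)))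
theorem Q18639 : ∀ i, i < 18639 → P i := stepQ 18638 Q18638 (allL N18638 (tt N19489 (iv F164428)) (tt N19142 (iv F162668)) (tt N18638 F160176) (tt N20307 (iv F167756)) (tt N20309 D36236) (tt N16786 (iv D34565)) (tt N16986 F160177) (tt N19881 (iv F166221)) (tt N19052 (iv F162160)) (tt N20310 D36237))
theorem Q18640 : ∀ i, i < 18640 → P i := stepQ 18639 Q18639 (allL N18639 (tt N19490 (iv F164431)) (tt N19143 (iv F162673)) (tt N18639 F160178) (tt N20308 (iv F167758)) (tt N19966 (iv F166499)) (tt N20310 (iv F167763)) (tt N16787 F160179) (tt N19882 (iv F166226)) (tt N19965 (iv F166495)) (tt N16786 (iv D34566)))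
theorem Q18641 : ∀ i, i < 18641 → P i := stepQ 18640 Q18640 (allL N18640 (tt N19493 (iv F164446)) (tt N18862 (iv F161002)) (tt N20262 (iv F167632)) (tt N18906 (iv F161297)) (tt N16789 F160180) (tt N20311 D36238) (tt N16788 (iv D34567)) (tt N16829 F160181) (tt N20260 (iv F167628)) (tt N18941 (iv F161511)))
theorem Q18642 : ∀ i, i < 18642 → P i := stepQ 18641 Q18641 (allL N18641 (tt N19462 (iv F164312)) (tt N16793 F160182) (tt N18865 (iv F161021)) (tt N20029 (iv F166761)) (tt N16791 (iv D34568)) (tt N20281 (iv F167690)) (tt N16832 F160183) (tt N20312 D36239) (tt N20027 F166755) (tt N16803 F160184))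
theorem Q18643 : ∀ i, i < 18643 → P i := stepQ 18642 Q18642 (allL N18642 (tt N19469 (iv F164346)) (tt N16794 F160185) (tt N18867 (iv F161035)) (tt N16877 F160186) (tt N20312 (iv F167768)) (tt N16792 F160187) (tt N20313 D36240) (tt N16791 (iv D34569)) (tt N20199 (iv F167342)) (tt N16804 F160188))
theorem Q18644 : ∀ i, i < 18644 → P i := stepQ 18643 Q18643 (allL N18643 (tt N19496 (iv F164461)) (tt N20029 (iv F166759)) (tt N20011 (iv F166667)) (tt N16793 (iv D34570)) (tt N16878 F160189) (tt N20283 (iv F167697)) (tt N16834 F160190) (tt N20314 D36241) (tt N20025 (iv F166742)) (tt N16805 F160191))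
theorem Q18645 : ∀ i, i < 18645 → P i := stepQ 18644 Q18644 (allL N18644 (tt N19497 (iv F164466)) (tt N20312 (iv F167767)) (tt N16796 F160192) (tt N20314 (iv F167775)) (tt N16794 F160193) (tt N20284 (iv F167701)) (tt N20315 D36242) (tt N16793 (iv D34571)) (tt N20316 D36243) (tt N16806 F160194))
theorem Q18646 : ∀ i, i < 18646 → P i := stepQ 18645 Q18645 (allL N18645 (tt N19498 (iv F164471)) (tt N20027 (iv F166750)) (tt N16797 F160195) (tt N20025 (iv F166740)) (tt N16795 F160196) (tt N20317 D36244) (tt N16836 F160197) (tt N20316 (iv F167784)) (tt N16793 (iv D34572)) (tt N20039 (iv F166807)))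
theorem Q18647 : ∀ i, i < 18647 → P i := stepQ 18646 Q18646 (allL N18646 (tt N19499 (iv F164476)) (tt N20313 (iv F167770)) (tt N16798 F160198) (tt N16880 F160199) (tt N20315 (iv F167779)) (tt N18939 (iv F161496)) (tt N16794 (iv D34573)) (tt N16837 F160200) (tt N20318 D36245) (tt N16808 F160201))
theorem Q18648 : ∀ i, i < 18648 → P i := stepQ 18647 Q18647 (allL N18647 (tt N19500 (iv F164483)) (tt N20199 (iv F167338)) (tt N16799 F160202) (tt N16881 F160203) (tt N20316 (iv F167783)) (tt N18647 F160204) (tt N20318 (iv F167789)) (tt N16795 F160205) (tt N16794 (iv D34574)) (tt N20319 D36246))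
theorem Q18649 : ∀ i, i < 18649 → P i := stepQ 18648 Q18648 (allL N18648 (tt N19501 (iv F164489)) (tt N16822 F160206) (tt N16800 F160207) (tt N16882 F160208) (tt N20039 (iv F166805)) (tt N18648 F160209) (tt N16839 F160210) (tt N20319 (iv F167795)) (tt N16810 F160211) (tt N16795 (iv D34575)))
theorem Q18650 : ∀ i, i < 18650 → P i := stepQ 18649 Q18649 (allL N18649 (tt N19502 (iv F164496)) (tt N20100 (iv F167026)) (tt N20315 (iv F167778)) (tt N20016 (iv F166693)) (tt N16798 F160212) (tt N20320 D36247) (tt N16796 (iv D34576)) (tt N16840 F160213) (tt N20321 D36248) (tt N16811 F160214))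
theorem Q18651 : ∀ i, i < 18651 → P i := stepQ 18650 Q18650 (allL N18650 (tt N19503 (iv F164500)) (tt N20101 (iv F167031)) (tt N20316 (iv F167782)) (tt N20017 (iv F166698)) (tt N16799 F160215) (tt N20322 D36249) (tt N20321 (iv F167800)) (tt N16797 F160216) (tt N16796 (iv D34577)) (tt N20323 D36250))
theorem Q18652 : ∀ i, i < 18652 → P i := stepQ 18651 Q18651 (allL N18651 (tt N19504 (iv F164503)) (tt N20102 (iv F167035)) (tt N20317 (iv F167785)) (tt N20018 (iv F166702)) (tt N18651 F160217) (tt N16797 (iv D34578)) (tt N20324 D36251) (tt N20322 (iv F167803)) (tt N20288 (iv F167711)) (tt N20325 D36252))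
theorem Q18653 : ∀ i, i < 18653 → P i := stepQ 18652 Q18652 (allL N18652 (tt N19505 (iv F164505)) (tt N18938 (iv F161486)) (tt N20039 (iv F166804)) (tt N20019 (iv F166706)) (tt N16800 F160218) (tt N20325 (iv F167810)) (tt N16843 F160219) (tt N20323 (iv F167805)) (tt N16814 F160220) (tt N16797 (iv D34579)))
theorem Q18654 : ∀ i, i < 18654 → P i := stepQ 18653 Q18653 (allL N18653 (tt N19506 (iv F164509)) (tt N20103 (iv F167038)) (tt N20318 (iv F167787)) (tt N16801 F160221) (tt N20321 (iv F167799)) (tt N20326 D36253) (tt N16799 F160222) (tt N16844 F160223) (tt N16798 (iv D34580)) (tt N20327 D36254))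
theorem Q18655 : ∀ i, i < 18655 → P i := stepQ 18654 Q18654 (allL N18654 (tt N19507 (iv F164513)) (tt N18940 (iv F161500)) (tt N20319 (iv F167792)) (tt N16802 F160224) (tt N20323 (iv F167804)) (tt N18654 F160225) (tt N20327 (iv F167815)) (tt N16800 F160226) (tt N16816 F160227) (tt N16799 (iv D34581)))
theorem Q18656 : ∀ i, i < 18656 → P i := stepQ 18655 Q18655 (allL N18655 (tt N19508 (iv F164518)) (tt N20104 (iv F167042)) (tt N16887 F160228) (tt N20326 (iv F167811)) (tt N20328 D36255) (tt N16801 (iv D34582)) (tt N18655 F160229) (tt N16846 F160230) (tt N18947 (iv F161546)) (tt N20329 D36256))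
theorem Q18657 : ∀ i, i < 18657 → P i := stepQ 18656 Q18656 (allL N18656 (tt N19509 (iv F164523)) (tt N18997 (iv F161821)) (tt N16888 F160231) (tt N20327 (iv F167814)) (tt N20023 (iv F166728)) (tt N20329 (iv F167824)) (tt N16802 F160232) (tt N16847 F160233) (tt N16818 F160234) (tt N16801 (iv D34583)))
theorem Q18658 : ∀ i, i < 18658 → P i := stepQ 18657 Q18657 (allL N18657 (tt N19771 (iv F165808)) (tt N16805 F160235) (tt N18950 (iv F161562)) (tt N16803 (iv D34584)) (tt N16889 F160236) (tt N20291 (iv F167718)) (tt N16848 F160237) (tt N20330 D36257) (tt N18859 (iv F160984)) (tt N20029 (iv F166764)))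
theorem Q18659 : ∀ i, i < 18659 → P i := stepQ 18658 Q18658 (allL N18658 (tt N19768 (iv F165795)) (tt N16806 F160238) (tt N18863 (iv F161009)) (tt N20330 (iv F167828)) (tt N16804 F160239) (tt N20292 (iv F167721)) (tt N20331 D36258) (tt N16803 (iv D34585)) (tt N18860 (iv F160991)) (tt N20312 (iv F167769)))
theorem Q18660 : ∀ i, i < 18660 → P i := stepQ 18659 Q18659 (allL N18659 (tt N19531 (iv F164614)) (tt N16808 F160240) (tt N18866 (iv F161028)) (tt N16817 F160241) (tt N20331 (iv F167831)) (tt N16815 F160242) (tt N16804 (iv D34586)) (tt N16850 F160243) (tt N18861 (iv F160999)) (tt N20313 (iv F167774)))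
theorem Q18661 : ∀ i, i < 18661 → P i := stepQ 18660 Q18660 (allL N18660 (tt N19518 (iv F164566)) (tt N20330 (iv F167827)) (tt N20080 (iv F166952)) (tt N16806 F160244) (tt N16891 F160245) (tt N20294 (iv F167727)) (tt N20332 D36259) (tt N16805 (iv D34587)) (tt N20333 D36260) (tt N20314 (iv F167777)))
theorem Q18662 : ∀ i, i < 18662 → P i := stepQ 18661 Q18661 (allL N18661 (tt N19519 (iv F164569)) (tt N18859 (iv F160979)) (tt N20081 (iv F166956)) (tt N16807 F160246) (tt N16892 F160247) (tt N19166 (iv F162781)) (tt N16852 F160248) (tt N20333 (iv F167838)) (tt N16805 (iv D34588)) (tt N20041 (iv F166817)))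
theorem Q18663 : ∀ i, i < 18663 → P i := stepQ 18662 Q18662 (allL N18662 (tt N19520 (iv F164573)) (tt N20331 (iv F167830)) (tt N16811 F160249) (tt N20332 (iv F167833)) (tt N16808 F160250) (tt N20334 D36261) (tt N16806 (iv D34589)) (tt N16853 F160251) (tt N20335 D36262) (tt N20315 (iv F167781)))
theorem Q18664 : ∀ i, i < 18664 → P i := stepQ 18663 Q18663 (allL N18663 (tt N19521 (iv F164577)) (tt N18860 (iv F160987)) (tt N16812 F160252) (tt N20333 (iv F167836)) (tt N16809 F160253) (tt N19167 (iv F162785)) (tt N20335 (iv F167843)) (tt N16807 F160254) (tt N16806 (iv D34590)) (tt N20336 D36263))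
theorem Q18665 : ∀ i, i < 18665 → P i := stepQ 18664 Q18664 (allL N18664 (tt N19522 (iv F164581)) (tt N16820 F160255) (tt N16814 F160256) (tt N20041 (iv F166814)) (tt N16810 F160257) (tt N19146 (iv F162694)) (tt N16856 F160258) (tt N20336 (iv F167848)) (tt N20039 F166808) (tt N16807 (iv D34591)))
theorem Q18666 : ∀ i, i < 18666 → P i := stepQ 18665 Q18665 (allL N18665 (tt N19523 (iv F164585)) (tt N18861 (iv F160994)) (tt N16815 F160259) (tt N16896 F160260) (tt N20335 (iv F167842)) (tt N18866 (iv F161030)) (tt N16809 F160261) (tt N16857 F160262) (tt N16808 (iv D34592)) (tt N20337 D36264))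
theorem Q18667 : ∀ i, i < 18667 → P i := stepQ 18666 Q18666 (allL N18666 (tt N19524 (iv F164591)) (tt N16821 F160263) (tt N16816 F160264) (tt N16897 F160265) (tt N20336 (iv F167847)) (tt N16819 F160266) (tt N20337 (iv F167852)) (tt N16810 F160267) (tt N20319 (iv F167796)) (tt N16809 (iv D34593)))
theorem Q18668 : ∀ i, i < 18668 → P i := stepQ 18667 Q18667 (allL N18667 (tt N19525 (iv F164596)) (tt N20261 (iv F167629)) (tt N20334 (iv F167839)) (tt N20088 (iv F166985)) (tt N20311 (iv F167765)) (tt N16811 (iv D34594)) (tt N20301 (iv F167744)) (tt N16859 F160268) (tt N20338 D36265) (tt N20320 (iv F167798)))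
theorem Q18669 : ∀ i, i < 18669 → P i := stepQ 18668 Q18668 (allL N18668 (tt N19526 (iv F164598)) (tt N20262 (iv F167631)) (tt N20335 (iv F167841)) (tt N20089 (iv F166987)) (tt N16815 F160269) (tt N20339 D36266) (tt N16812 F160270) (tt N16860 F160271) (tt N16811 (iv D34595)) (tt N20340 D36267))
theorem Q18670 : ∀ i, i < 18670 → P i := stepQ 18669 Q18669 (allL N18669 (tt N19527 (iv F164602)) (tt N19041 (iv F162106)) (tt N19167 (iv F162783)) (tt N20090 (iv F166991)) (tt N16988 F160272) (tt N16812 (iv D34596)) (tt N20341 D36268) (tt N16813 F160273) (tt N20303 (iv F167749)) (tt N20342 D36269))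
theorem Q18671 : ∀ i, i < 18671 → P i := stepQ 18670 Q18670 (allL N18670 (tt N19528 (iv F164605)) (tt N18937 (iv F161481)) (tt N20336 (iv F167846)) (tt N20091 (iv F166994)) (tt N16816 F160274) (tt N20342 (iv F167861)) (tt N20340 (iv F167857)) (tt N16814 F160275) (tt N20323 (iv F167806)) (tt N16812 (iv D34597)))
theorem Q18672 : ∀ i, i < 18672 → P i := stepQ 18671 Q18671 (allL N18671 (tt N19529 (iv F164608)) (tt N19030 (iv F162044)) (tt N19101 (iv F162457)) (tt N20092 (iv F166997)) (tt N16990 F160276) (tt N16863 F160277) (tt N16813 (iv D34598)) (tt N20343 D36270) (tt N20305 (iv F167753)) (tt N19474 (iv F164379)))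
theorem Q18673 : ∀ i, i < 18673 → P i := stepQ 18672 Q18672 (allL N18672 (tt N19530 (iv F164611)) (tt N18926 (iv F161415)) (tt N19146 (iv F162693)) (tt N20093 (iv F167000)) (tt N16991 F160278) (tt N16814 F160279) (tt N19474 (iv F164378)) (tt N20342 (iv F167862)) (tt N20344 D36271) (tt N16813 (iv D34599)))
theorem Q18674 : ∀ i, i < 18674 → P i := stepQ 18673 Q18673 (allL N18673 (tt N19532 (iv F164620)) (tt N18939 (iv F161493)) (tt N20337 (iv F167850)) (tt N16818 F160280) (tt N20340 (iv F167856)) (tt N20313 (iv F167772)) (tt N16816 F160281) (tt N16864 F160282) (tt N20327 (iv F167817)) (tt N16815 (iv D34600)))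
theorem Q18675 : ∀ i, i < 18675 → P i := stepQ 18674 Q18674 (allL N18674 (tt N19533 (iv F164624)) (tt N16893 F160283) (tt N16902 F160284) (tt N20345 D36272) (tt N16817 (iv D34601)) (tt N20096 (iv F167011)) (tt N16890 F160285) (tt N16865 F160286) (tt N18879 (iv F161122)) (tt N20201 (iv F167355)))
theorem Q18676 : ∀ i, i < 18676 → P i := stepQ 18675 Q18675 (allL N18675 (tt N19471 (iv F164357)) (tt N16880 F160287) (tt N16903 F160288) (tt N20313 (iv F167771)) (tt N20201 (iv F167352)) (tt N16818 F160289) (tt N16877 F160290) (tt N16866 F160291) (tt N20200 (iv F167348)) (tt N16817 (iv D34602)))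
theorem Q18677 : ∀ i, i < 18677 → P i := stepQ 18676 Q18676 (allL N18676 (tt N19538 (iv F164649)) (tt N20336 (iv F167845)) (tt N16823 F160292) (tt N20046 (iv F166834)) (tt N16821 F160293) (tt N19150 (iv F162713)) (tt N20346 D36273) (tt N16820 (iv D34603)) (tt N20044 (iv F166830)) (tt N18860 (iv F160992)))
theorem Q18678 : ∀ i, i < 18678 → P i := stepQ 18677 Q18677 (allL N18677 (tt N19540 (iv F164658)) (tt N20337 (iv F167849)) (tt N16824 F160294) (tt N16905 F160295) (tt N20346 (iv F167870)) (tt N20099 (iv F167023)) (tt N16821 (iv D34604)) (tt N18904 (iv F161288)) (tt N20347 D36274) (tt N18861 (iv F161000)))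
theorem Q18679 : ∀ i, i < 18679 → P i := stepQ 18678 Q18678 (allL N18678 (tt N19541 (iv F164662)) (tt N20319 (iv F167791)) (tt N16825 F160296) (tt N16906 F160297) (tt N20044 (iv F166829)) (tt N18678 F160298) (tt N20347 (iv F167873)) (tt N16822 F160299) (tt N16821 (iv D34605)) (tt N20199 (iv F167343)))
theorem Q18680 : ∀ i, i < 18680 → P i := stepQ 18679 Q18679 (allL N18679 (tt N19542 (iv F164667)) (tt N18941 (iv F161507)) (tt N20346 (iv F167869)) (tt N16829 F160300) (tt N16824 F160301) (tt N20348 D36275) (tt N16823 (iv D34606)) (tt N18906 (iv F161299)) (tt N20277 (iv F167683)) (tt N18862 (iv F161006)))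
theorem Q18681 : ∀ i, i < 18681 → P i := stepQ 18680 Q18680 (allL N18680 (tt N19546 (iv F164683)) (tt N18945 (iv F161529)) (tt N20347 (iv F167871)) (tt N16827 F160302) (tt N20277 (iv F167682)) (tt N20349 D36276) (tt N16825 F160303) (tt N18910 (iv F161319)) (tt N16824 (iv D34607)) (tt N20350 D36277))
theorem Q18682 : ∀ i, i < 18682 → P i := stepQ 18681 Q18681 (allL N18681 (tt N19547 (iv F164686)) (tt N18946 (iv F161534)) (tt N20199 (iv F167339)) (tt N16828 F160304) (tt N20269 (iv F167660)) (tt N18681 F160305) (tt N20350 (iv F167878)) (tt N16826 F160306) (tt N18867 (iv F161039)) (tt N16825 (iv D34608)))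
theorem Q18683 : ∀ i, i < 18683 → P i := stepQ 18682 Q18682 (allL N18682 (tt N19548 (iv F164691)) (tt N18947 (iv F161541)) (tt N16909 F160307) (tt N20349 (iv F167875)) (tt N20351 D36278) (tt N16827 (iv D34609)) (tt N18682 F160308) (tt N18912 (iv F161329)) (tt N20104 (iv F167046)) (tt N20352 D36279))
theorem Q18684 : ∀ i, i < 18684 → P i := stepQ 18683 Q18683 (allL N18683 (tt N19549 (iv F164694)) (tt N18948 (iv F161548)) (tt N16910 F160309) (tt N20350 (iv F167877)) (tt N16831 F160310) (tt N20352 (iv F167884)) (tt N16828 F160311) (tt N18913 (iv F161335)) (tt N18868 (iv F161047)) (tt N16827 (iv D34610)))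
theorem Q18685 : ∀ i, i < 18685 → P i := stepQ 18684 Q18684 (allL N18684 (tt N19552 (iv F164710)) (tt N20265 (iv F167644)) (tt N20280 (iv F167687)) (tt N20348 (iv F167874)) (tt N16859 F160312) (tt N16829 (iv D34611)) (tt N19567 (iv F164791)) (tt N20311 (iv F167766)) (tt N20353 D36280) (tt N18955 (iv F161593)))
theorem Q18686 : ∀ i, i < 18686 → P i := stepQ 18685 Q18685 (allL N18685 (tt N19558 (iv F164739)) (tt N16929 F160313) (tt N16912 F160314) (tt N20354 D36281) (tt N16830 (iv D34612)) (tt N20351 (iv F167881)) (tt N16867 F160315) (tt N18879 (iv F161121)) (tt N16865 F160316) (tt N20226 (iv F167496)))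
theorem Q18687 : ∀ i, i < 18687 → P i := stepQ 18686 Q18686 (allL N18686 (tt N19559 (iv F164744)) (tt N16931 F160317) (tt N16875 F160318) (tt N18904 (iv F161286)) (tt N20226 (iv F167493)) (tt N16831 F160319) (tt N16868 F160320) (tt N16905 F160321) (tt N20225 (iv F167489)) (tt N16830 (iv D34613)))
theorem Q18688 : ∀ i, i < 18688 → P i := stepQ 18687 Q18687 (allL N18687 (tt N19460 (iv F164302)) (tt N16835 F160322) (tt N20267 (iv F167651)) (tt N20109 (iv F167063)) (tt N16833 F160323) (tt N19374 F163900) (tt N20355 D36282) (tt N16832 (iv D34614)) (tt N20107 (iv F167058)) (tt N16849 F160324))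
theorem Q18689 : ∀ i, i < 18689 → P i := stepQ 18688 Q18688 (allL N18688 (tt N19468 (iv F164341)) (tt N16837 F160325) (tt N20268 (iv F167655)) (tt N16866 F160326) (tt N20355 (iv F167891)) (tt N16864 F160327) (tt N16833 (iv D34615)) (tt N20313 (iv F167773)) (tt N20228 (iv F167506)) (tt N16850 F160328))
theorem Q18690 : ∀ i, i < 18690 → P i := stepQ 18689 Q18689 (allL N18689 (tt N19560 (iv F164749)) (tt N20109 (iv F167061)) (tt N20125 (iv F167114)) (tt N16835 F160329) (tt N16913 F160330) (tt N19550 (iv F164702)) (tt N20356 D36283) (tt N16834 (iv D34616)) (tt N20105 (iv F167050)) (tt N16851 F160331))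
theorem Q18691 : ∀ i, i < 18691 → P i := stepQ 18690 Q18690 (allL N18690 (tt N19562 (iv F164760)) (tt N20355 (iv F167890)) (tt N16840 F160332) (tt N20356 (iv F167893)) (tt N16837 F160333) (tt N20357 D36284) (tt N16835 (iv D34617)) (tt N20315 (iv F167780)) (tt N20358 D36285) (tt N16853 F160334))
theorem Q18692 : ∀ i, i < 18692 → P i := stepQ 18691 Q18691 (allL N18691 (tt N19563 (iv F164765)) (tt N20107 (iv F167055)) (tt N16841 F160335) (tt N20105 (iv F167048)) (tt N16838 F160336) (tt N19824 (iv F166012)) (tt N20358 (iv F167900)) (tt N16836 F160337) (tt N16835 (iv D34618)) (tt N20359 D36286))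
theorem Q18693 : ∀ i, i < 18693 → P i := stepQ 18692 Q18692 (allL N18692 (tt N19564 (iv F164771)) (tt N18903 (iv F161278)) (tt N16843 F160338) (tt N20000 (iv F166611)) (tt N16839 F160339) (tt N19825 (iv F166017)) (tt N20039 (iv F166806)) (tt N20359 (iv F167903)) (tt N16856 F160340) (tt N16836 (iv D34619)))
theorem Q18694 : ∀ i, i < 18694 → P i := stepQ 18693 Q18693 (allL N18693 (tt N19565 (iv F164777)) (tt N20228 (iv F167504)) (tt N16844 F160341) (tt N16915 F160342) (tt N20358 (iv F167899)) (tt N20360 D36287) (tt N16838 F160343) (tt N20318 (iv F167790)) (tt N16837 (iv D34620)) (tt N20361 D36288))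
theorem Q18695 : ∀ i, i < 18695 → P i := stepQ 18694 Q18694 (allL N18694 (tt N19566 (iv F164782)) (tt N18905 (iv F161290)) (tt N16845 F160344) (tt N16916 F160345) (tt N20359 (iv F167902)) (tt N16958 F160346) (tt N20361 (iv F167910)) (tt N16839 F160347) (tt N16858 F160348) (tt N16838 (iv D34621)))
theorem Q18696 : ∀ i, i < 18696 → P i := stepQ 18695 Q18695 (allL N18695 (tt N19567 (iv F164789)) (tt N20271 (iv F167665)) (tt N20357 (iv F167896)) (tt N20131 (iv F167135)) (tt N18955 (iv F161591)) (tt N16840 (iv D34622)) (tt N19552 (iv F164712)) (tt N20320 (iv F167797)) (tt N20362 D36289) (tt N16859 F160349))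
theorem Q18697 : ∀ i, i < 18697 → P i := stepQ 18696 Q18696 (allL N18696 (tt N19568 (iv F164793)) (tt N20272 (iv F167667)) (tt N20358 (iv F167898)) (tt N20132 (iv F167137)) (tt N16844 F160350) (tt N20363 D36290) (tt N16841 F160351) (tt N20321 (iv F167801)) (tt N16840 (iv D34623)) (tt N20364 D36291))
theorem Q18698 : ∀ i, i < 18698 → P i := stepQ 18697 Q18697 (allL N18697 (tt N19569 (iv F164796)) (tt N20273 (iv F167670)) (tt N19824 (iv F166010)) (tt N20133 (iv F167140)) (tt N16961 F160352) (tt N16841 (iv D34624)) (tt N20365 D36292) (tt N16842 F160353) (tt N19554 (iv F164722)) (tt N20366 D36293))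
theorem Q18699 : ∀ i, i < 18699 → P i := stepQ 18698 Q18698 (allL N18698 (tt N19570 (iv F164801)) (tt N18952 (iv F161573)) (tt N20359 (iv F167901)) (tt N20134 (iv F167143)) (tt N16845 F160354) (tt N20366 (iv F167917)) (tt N20364 (iv F167913)) (tt N16843 F160355) (tt N16862 F160356) (tt N16841 (iv D34625)))
theorem Q18700 : ∀ i, i < 18700 → P i := stepQ 18699 Q18699 (allL N18699 (tt N19571 (iv F164805)) (tt N20274 (iv F167673)) (tt N19412 (iv F164100)) (tt N20135 (iv F167147)) (tt N16963 F160357) (tt N20324 (iv F167808)) (tt N16842 (iv D34626)) (tt N20367 D36294) (tt N19409 (iv F164084)) (tt N20368 D36295))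
theorem Q18701 : ∀ i, i < 18701 → P i := stepQ 18700 Q18700 (allL N18700 (tt N19572 (iv F164809)) (tt N18953 (iv F161579)) (tt N19825 (iv F166015)) (tt N20136 (iv F167149)) (tt N16964 F160358) (tt N16843 F160359) (tt N20368 (iv F167921)) (tt N20366 (iv F167918)) (tt N19583 (iv F164852)) (tt N16842 (iv D34627)))
theorem Q18702 : ∀ i, i < 18702 → P i := stepQ 18701 Q18701 (allL N18701 (tt N19573 (iv F164813)) (tt N20275 (iv F167675)) (tt N20360 (iv F167905)) (tt N16846 F160360) (tt N20369 D36296) (tt N16844 (iv D34628)) (tt N16965 F160361) (tt N20326 (iv F167813)) (tt N18961 (iv F161616)) (tt N20370 D36297))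
theorem Q18703 : ∀ i, i < 18703 → P i := stepQ 18702 Q18702 (allL N18702 (tt N19574 (iv F164817)) (tt N18954 (iv F161585)) (tt N20361 (iv F167908)) (tt N16847 F160362) (tt N20364 (iv F167912)) (tt N20370 (iv F167924)) (tt N16845 F160363) (tt N20327 (iv F167816)) (tt N16864 F160364) (tt N16844 (iv D34629)))
theorem Q18704 : ∀ i, i < 18704 → P i := stepQ 18703 Q18703 (allL N18703 (tt N19575 (iv F164821)) (tt N20276 (iv F167678)) (tt N16922 F160365) (tt N20371 D36298) (tt N16846 (iv D34630)) (tt N20139 (iv F167158)) (tt N16967 F160366) (tt N20328 (iv F167821)) (tt N18963 (iv F161627)) (tt N20248 F167585))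
theorem Q18705 : ∀ i, i < 18705 → P i := stepQ 18704 Q18704 (allL N18704 (tt N19576 (iv F164825)) (tt N19005 (iv F161874)) (tt N16923 F160367) (tt N20370 (iv F167923)) (tt N20248 (iv F167583)) (tt N16847 F160368) (tt N16968 F160369) (tt N20329 (iv F167826)) (tt N20229 (iv F167511)) (tt N16846 (iv D34631)))
theorem Q18706 : ∀ i, i < 18706 → P i := stepQ 18705 Q18705 (allL N18705 (tt N19616 (iv F164971)) (tt N16851 F160370) (tt N20114 (iv F167077)) (tt N16849 F160371) (tt N16873 F160372) (tt N19902 (iv F166289)) (tt N20372 D36299) (tt N16848 (iv D34632)) (tt N20263 (iv F167639)) (tt N20109 F167066))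
theorem Q18707 : ∀ i, i < 18707 → P i := stepQ 18706 Q18706 (allL N18706 (tt N19603 (iv F164913)) (tt N16853 F160373) (tt N20266 (iv F167647)) (tt N20372 (iv F167928)) (tt N16850 F160374) (tt N20373 D36300) (tt N16849 (iv D34633)) (tt N20331 (iv F167832)) (tt N20264 (iv F167643)) (tt N20355 (iv F167892)))
theorem Q18708 : ∀ i, i < 18708 → P i := stepQ 18707 Q18707 (allL N18707 (tt N19587 (iv F164864)) (tt N20372 (iv F167927)) (tt N20152 (iv F167196)) (tt N16853 F160375) (tt N16925 F160376) (tt N20374 D36301) (tt N16851 (iv D34634)) (tt N20332 (iv F167835)) (tt N20375 D36302) (tt N20356 (iv F167895)))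
theorem Q18709 : ∀ i, i < 18709 → P i := stepQ 18708 Q18708 (allL N18708 (tt N19588 (iv F164867)) (tt N20263 (iv F167636)) (tt N20153 (iv F167199)) (tt N16854 F160377) (tt N16926 F160378) (tt N20376 D36303) (tt N20375 (iv F167935)) (tt N16852 F160379) (tt N16851 (iv D34635)) (tt N20377 D36304))
theorem Q18710 : ∀ i, i < 18710 → P i := stepQ 18709 Q18709 (allL N18709 (tt N19589 (iv F164871)) (tt N19429 (iv F164177)) (tt N20154 (iv F167203)) (tt N16855 F160380) (tt N18709 F160381) (tt N16852 (iv D34636)) (tt N20378 D36305) (tt N20376 (iv F167938)) (tt N19908 (iv F166305)) (tt N19445 (iv F164250)))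
theorem Q18711 : ∀ i, i < 18711 → P i := stepQ 18710 Q18710 (allL N18710 (tt N19590 (iv F164874)) (tt N18901 (iv F161266)) (tt N20077 (iv F166938)) (tt N16856 F160382) (tt N16927 F160383) (tt N19445 (iv F164249)) (tt N20041 (iv F166816)) (tt N20377 (iv F167941)) (tt N20000 (iv F166613)) (tt N16852 (iv D34637)))
theorem Q18712 : ∀ i, i < 18712 → P i := stepQ 18711 Q18711 (allL N18711 (tt N19591 (iv F164877)) (tt N20373 (iv F167930)) (tt N16859 F160384) (tt N20374 (iv F167932)) (tt N20280 (iv F167688)) (tt N16853 (iv D34638)) (tt N19909 (iv F166307)) (tt N20334 (iv F167840)) (tt N20379 D36306) (tt N20357 (iv F167897)))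
theorem Q18713 : ∀ i, i < 18713 → P i := stepQ 18712 Q18712 (allL N18712 (tt N19592 (iv F164879)) (tt N20264 (iv F167640)) (tt N16860 F160385) (tt N20375 (iv F167933)) (tt N16857 F160386) (tt N20380 D36307) (tt N16854 F160387) (tt N20335 (iv F167844)) (tt N16853 (iv D34639)) (tt N20381 D36308))
theorem Q18714 : ∀ i, i < 18714 → P i := stepQ 18713 Q18713 (allL N18713 (tt N19593 (iv F164883)) (tt N19430 (iv F164181)) (tt N16861 F160388) (tt N20376 (iv F167936)) (tt N16869 F160389) (tt N16854 (iv D34640)) (tt N20382 D36309) (tt N16855 F160390) (tt N19911 (iv F166314)) (tt N19446 (iv F164255)))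
theorem Q18715 : ∀ i, i < 18715 → P i := stepQ 18714 Q18714 (allL N18714 (tt N19594 (iv F164887)) (tt N18902 (iv F161273)) (tt N16862 F160391) (tt N20377 (iv F167939)) (tt N16858 F160392) (tt N19446 (iv F164254)) (tt N20381 (iv F167948)) (tt N16856 F160393) (tt N20359 (iv F167904)) (tt N16854 (iv D34641)))
theorem Q18716 : ∀ i, i < 18716 → P i := stepQ 18715 Q18715 (allL N18715 (tt N19595 (iv F164891)) (tt N19067 (iv F162254)) (tt N16863 F160394) (tt N20378 (iv F167942)) (tt N16870 F160395) (tt N19101 (iv F162458)) (tt N16855 (iv D34642)) (tt N20383 D36310) (tt N19913 (iv F166322)) (tt N19389 (iv F163995)))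
theorem Q18717 : ∀ i, i < 18717 → P i := stepQ 18716 Q18716 (allL N18716 (tt N19597 (iv F164900)) (tt N18904 (iv F161284)) (tt N16864 F160396) (tt N16931 F160397) (tt N20381 (iv F167947)) (tt N20268 (iv F167657)) (tt N16858 F160398) (tt N20337 (iv F167853)) (tt N20361 (iv F167911)) (tt N16857 (iv D34643)))
theorem Q18718 : ∀ i, i < 18718 → P i := stepQ 18717 Q18717 (allL N18717 (tt N19598 (iv F164904)) (tt N20279 (iv F167685)) (tt N20379 (iv F167944)) (tt N20162 (iv F167224)) (tt N20353 (iv F167886)) (tt N20384 D36311) (tt N19917 (iv F166335)) (tt N20338 (iv F167854)) (tt N16859 (iv D34644)) (tt N20385 D36312))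
theorem Q18719 : ∀ i, i < 18719 → P i := stepQ 18718 Q18718 (allL N18718 (tt N19599 (iv F164905)) (tt N20280 (iv F167686)) (tt N20380 (iv F167945)) (tt N20163 (iv F167225)) (tt N20373 (iv F167931)) (tt N16860 (iv D34645)) (tt N20386 D36313) (tt N20339 (iv F167855)) (tt N20384 (iv F167953)) (tt N20387 D36314))
theorem Q18720 : ∀ i, i < 18720 → P i := stepQ 18719 Q18719 (allL N18719 (tt N19600 (iv F164906)) (tt N18951 (iv F161568)) (tt N20381 (iv F167946)) (tt N20164 (iv F167226)) (tt N16864 F160399) (tt N20387 (iv F167955)) (tt N16862 F160400) (tt N20340 (iv F167858)) (tt N20364 (iv F167914)) (tt N16860 (iv D34646)))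
theorem Q18721 : ∀ i, i < 18721 → P i := stepQ 18720 Q18720 (allL N18720 (tt N19601 (iv F164909)) (tt N19562 (iv F164761)) (tt N20382 (iv F167949)) (tt N20165 (iv F167229)) (tt N16871 F160401) (tt N20386 (iv F167954)) (tt N16861 (iv D34647)) (tt N20388 D36315) (tt N19920 (iv F166339)) (tt N19581 (iv F164846)))
theorem Q18722 : ∀ i, i < 18722 → P i := stepQ 18721 Q18721 (allL N18721 (tt N19602 (iv F164911)) (tt N19497 (iv F164467)) (tt N20383 (iv F167951)) (tt N20166 (iv F167231)) (tt N16872 F160402) (tt N20343 (iv F167864)) (tt N20388 (iv F167957)) (tt N16863 (iv D34648)) (tt N19922 (iv F166344)) (tt N19513 (iv F164545)))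
theorem Q18723 : ∀ i, i < 18723 → P i := stepQ 18722 Q18722 (allL N18722 (tt N19604 (iv F164915)) (tt N16925 F160403) (tt N20117 (iv F167086)) (tt N16865 (iv D34649)) (tt N20372 (iv F167929)) (tt N20169 (iv F167238)) (tt N16873 F160404) (tt N20345 (iv F167868)) (tt N20354 (iv F167889)) (tt N20110 F167071))
theorem Q18724 : ∀ i, i < 18724 → P i := stepQ 18723 Q18723 (allL N18723 (tt N19608 (iv F164933)) (tt N16926 F160405) (tt N18995 (iv F161808)) (tt N16867 (iv D34650)) (tt N20263 (iv F167638)) (tt N18723 F160406) (tt N20354 (iv F167888)) (tt N16924 F160407) (tt N16873 F160408) (tt N20004 (iv F166634)))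
theorem Q18725 : ∀ i, i < 18725 → P i := stepQ 18724 Q18724 (allL N18724 (tt N19612 (iv F164956)) (tt N19432 (iv F164190)) (tt N16871 F160409) (tt N18724 F160410) (tt N20382 (iv F167950)) (tt N19847 (iv F166097)) (tt N16869 (iv D34651)) (tt N20389 D36316) (tt N19932 (iv F166373)) (tt N19448 (iv F164262)))
theorem Q18726 : ∀ i, i < 18726 → P i := stepQ 18725 Q18725 (allL N18725 (tt N19613 (iv F164959)) (tt N19068 (iv F162260)) (tt N16872 F160411) (tt N18725 F160412) (tt N20383 (iv F167952)) (tt N16993 F160413) (tt N20389 (iv F167960)) (tt N16870 (iv D34652)) (tt N19934 (iv F166382)) (tt N19390 (iv F164000)))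
theorem Q18727 : ∀ i, i < 18727 → P i := stepQ 18726 Q18726 (allL N18726 (tt N19615 (iv F164968)) (tt N19499 (iv F164477)) (tt N20389 (iv F167958)) (tt N16874 F160414) (tt N20388 (iv F167956)) (tt N19886 (iv F166242)) (tt N16872 F160415) (tt N16871 (iv D34653)) (tt N19941 (iv F166404)) (tt N19515 (iv F164554)))
theorem Q18728 : ∀ i, i < 18728 → P i := stepQ 18727 Q18727 (allL N18727 (tt N19617 (iv F164974)) (tt N17100 F160416) (tt N18912 (iv F161327)) (tt N19011 (iv F161912)) (tt N18880 (iv F161127)) (tt N16876 (iv D34654)) (tt N17115 F160417) (tt N16909 F160418) (tt N17099 F160419) (tt N20222 (iv F167472)))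
theorem Q18729 : ∀ i, i < 18729 → P i := stepQ 18728 Q18728 (allL N18728 (tt N19618 (iv F164981)) (tt N20031 (iv F166770)) (tt N20124 (iv F167109)) (tt N16879 F160420) (tt N20314 (iv F167776)) (tt N18728 F160421) (tt N20390 D36317) (tt N16878 (iv D34655)) (tt N20026 (iv F166748)) (tt N16891 F160422))
theorem Q18730 : ∀ i, i < 18730 → P i := stepQ 18729 Q18729 (allL N18729 (tt N19620 (iv F164993)) (tt N20201 (iv F167350)) (tt N16883 F160423) (tt N20390 (iv F167961)) (tt N16880 F160424) (tt N20391 D36318) (tt N16879 (iv D34656)) (tt N16914 F160425) (tt N20198 (iv F167336)) (tt N16893 F160426))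
theorem Q18731 : ∀ i, i < 18731 → P i := stepQ 18730 Q18730 (allL N18730 (tt N19622 (iv F165006)) (tt N20200 (iv F167344)) (tt N16885 F160427) (tt N20318 (iv F167788)) (tt N20198 (iv F167333)) (tt N20392 D36319) (tt N16881 F160428) (tt N16915 F160429) (tt N16880 (iv D34657)) (tt N20393 D36320))
theorem Q18732 : ∀ i, i < 18732 → P i := stepQ 18731 Q18731 (allL N18731 (tt N19623 (iv F165011)) (tt N16906 F160430) (tt N16886 F160431) (tt N20319 (iv F167793)) (tt N17014 F160432) (tt N18731 F160433) (tt N20393 (iv F167974)) (tt N16882 F160434) (tt N16897 F160435) (tt N16881 (iv D34658)))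
theorem Q18733 : ∀ i, i < 18733 → P i := stepQ 18732 Q18732 (allL N18732 (tt N19624 (iv F165018)) (tt N17107 F160436) (tt N20391 (iv F167964)) (tt N20208 (iv F167395)) (tt N18998 (iv F161830)) (tt N16883 (iv D34659)) (tt N18732 F160437) (tt N16917 F160438) (tt N20251 (iv F167596)) (tt N16898 F160439))
theorem Q18734 : ∀ i, i < 18734 → P i := stepQ 18733 Q18733 (allL N18733 (tt N19625 (iv F165024)) (tt N17036 F160440) (tt N20198 (iv F167332)) (tt N17076 F160441) (tt N16885 F160442) (tt N17057 (iv F160445)) (tt N16884 F160443) (tt N16918 F160444) (tt N16883 (iv D34660)) (tt N17042 F160446))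
theorem Q18735 : ∀ i, i < 18735 → P i := stepQ 18734 Q18734 (allL N18734 (tt N19626 (iv F165032)) (tt N17108 F160447) (tt N20392 (iv F167968)) (tt N16887 F160448) (tt N20237 (iv F167542)) (tt N16885 (iv D34661)) (tt N18734 F160449) (tt N16920 F160450) (tt N18999 (iv F161839)) (tt N20236 F167539))
theorem Q18736 : ∀ i, i < 18736 → P i := stepQ 18735 Q18735 (allL N18735 (tt N19627 (iv F165038)) (tt N17043 F160451) (tt N20393 (iv F167972)) (tt N16888 F160452) (tt N17042 F160453) (tt N20236 (iv F167535)) (tt N16886 F160454) (tt N16921 F160455) (tt N16901 F160456) (tt N16885 (iv D34662)))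
theorem Q18737 : ∀ i, i < 18737 → P i := stepQ 18736 Q18736 (allL N18736 (tt N19628 (iv F165045)) (tt N17109 F160457) (tt N20328 (iv F167818)) (tt N20238 (iv F167547)) (tt N16887 (iv D34663)) (tt N16932 F160458) (tt N18736 F160459) (tt N16922 F160460) (tt N16933 F160461) (tt N20219 (iv F167456)))
theorem Q18738 : ∀ i, i < 18738 → P i := stepQ 18737 Q18737 (allL N18737 (tt N19629 (iv F165051)) (tt N17110 F160462) (tt N20329 (iv F167823)) (tt N20236 (iv F167534)) (tt N20219 (iv F167452)) (tt N16888 F160463) (tt N18737 F160464) (tt N16923 F160465) (tt N20202 (iv F167361)) (tt N16887 (iv D34664)))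
theorem Q18739 : ∀ i, i < 18739 → P i := stepQ 18738 Q18738 (allL N18738 (tt N19769 (iv F165799)) (tt N16891 F160466) (tt N19002 (iv F161855)) (tt N16890 F160467) (tt N20330 (iv F167829)) (tt N18738 F160468) (tt N20345 (iv F167867)) (tt N16889 (iv D34665)) (tt N18878 (iv F161115)) (tt N20031 (iv F166775)))
theorem Q18740 : ∀ i, i < 18740 → P i := stepQ 18739 Q18739 (allL N18739 (tt N19638 (iv F165099)) (tt N20345 (iv F167866)) (tt N20214 (iv F167429)) (tt N16893 F160469) (tt N20332 (iv F167834)) (tt N20394 D36321) (tt N16891 (iv D34666)) (tt N16925 F160470) (tt N20395 D36322) (tt N20390 (iv F167963)))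
theorem Q18741 : ∀ i, i < 18741 → P i := stepQ 18740 Q18740 (allL N18740 (tt N19639 (iv F165102)) (tt N18878 (iv F161111)) (tt N20151 (iv F167191)) (tt N16894 F160471) (tt N20333 (iv F167837)) (tt N18877 (iv F161105)) (tt N20395 (iv F167981)) (tt N16892 F160472) (tt N16891 (iv D34667)) (tt N20043 (iv F166826)))
theorem Q18742 : ∀ i, i < 18742 → P i := stepQ 18741 Q18741 (allL N18741 (tt N19641 (iv F165112)) (tt N20096 (iv F167009)) (tt N16898 F160473) (tt N20394 (iv F167977)) (tt N20008 (iv F166650)) (tt N16893 (iv D34668)) (tt N18741 F160474) (tt N16928 F160475) (tt N20139 (iv F167161)) (tt N20391 (iv F167967)))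
theorem Q18743 : ∀ i, i < 18743 → P i := stepQ 18742 Q18742 (allL N18742 (tt N19642 (iv F165116)) (tt N18879 (iv F161118)) (tt N16899 F160476) (tt N20395 (iv F167980)) (tt N16896 F160477) (tt N18963 (iv F161624)) (tt N16894 F160478) (tt N16929 F160479) (tt N16893 (iv D34669)) (tt N20396 D36323))
theorem Q18744 : ∀ i, i < 18744 → P i := stepQ 18743 Q18743 (allL N18743 (tt N19643 (iv F165122)) (tt N16904 F160480) (tt N16900 F160481) (tt N20043 (iv F166823)) (tt N16897 F160482) (tt N16938 F160483) (tt N20396 (iv F167986)) (tt N16895 F160484) (tt N17014 F160485) (tt N16894 (iv D34670)))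
theorem Q18745 : ∀ i, i < 18745 → P i := stepQ 18744 Q18744 (allL N18744 (tt N19644 (iv F165128)) (tt N16905 F160486) (tt N16901 F160487) (tt N20337 (iv F167851)) (tt N20396 (iv F167985)) (tt N18868 (iv F161044)) (tt N16897 F160488) (tt N16931 F160489) (tt N20393 (iv F167976)) (tt N16896 (iv D34671)))
theorem Q18746 : ∀ i, i < 18746 → P i := stepQ 18745 Q18745 (allL N18745 (tt N19645 (iv F165133)) (tt N17044 F160490) (tt N20396 (iv F167984)) (tt N17085 F160491) (tt N16901 F160492) (tt N19010 (iv F161906)) (tt N16900 F160493) (tt N16934 F160494) (tt N17042 F160495) (tt N16899 (iv D34672)))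
theorem Q18747 : ∀ i, i < 18747 → P i := stepQ 18746 Q18746 (allL N18746 (tt N19650 (iv F165161)) (tt N20396 (iv F167983)) (tt N16907 F160496) (tt N20047 (iv F166838)) (tt N16905 F160497) (tt N20397 D36324) (tt N16904 (iv D34673)) (tt N20226 (iv F167495)) (tt N17015 F160498) (tt N18879 (iv F161123)))
theorem Q18748 : ∀ i, i < 18748 → P i := stepQ 18747 Q18747 (allL N18747 (tt N19651 (iv F165166)) (tt N20393 (iv F167971)) (tt N16908 F160499) (tt N20347 (iv F167872)) (tt N17015 F160500) (tt N20398 D36325) (tt N16906 F160501) (tt N20225 (iv F167488)) (tt N16905 (iv D34674)) (tt N20200 (iv F167349)))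
theorem Q18749 : ∀ i, i < 18749 → P i := stepQ 18748 Q18748 (allL N18748 (tt N19652 (iv F165170)) (tt N17046 F160502) (tt N20397 (iv F167989)) (tt N16911 F160503) (tt N20222 (iv F167468)) (tt N16907 (iv D34675)) (tt N16942 F160504) (tt N20227 (iv F167501)) (tt N20209 (iv F167406)) (tt N18880 (iv F161130)))
theorem Q18750 : ∀ i, i < 18750 → P i := stepQ 18749 Q18749 (allL N18749 (tt N19653 (iv F165175)) (tt N17045 F160505) (tt N20398 (iv F167991)) (tt N16909 F160506) (tt N20208 (iv F167396)) (tt N16908 (iv D34676)) (tt N18749 F160507) (tt N19011 (iv F161916)) (tt N19000 F161848) (tt N20202 (iv F167362)))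
theorem Q18751 : ∀ i, i < 18751 → P i := stepQ 18750 Q18750 (allL N18750 (tt N19654 (iv F165181)) (tt N17102 F160508) (tt N20351 (iv F167880)) (tt N18998 (iv F161829)) (tt N16909 (iv D34677)) (tt N16912 F160509) (tt N18750 F160510) (tt N18880 (iv F161129)) (tt N20223 (iv F167477)) (tt N20227 (iv F167503)))
theorem Q18752 : ∀ i, i < 18752 → P i := stepQ 18751 Q18751 (allL N18751 (tt N19655 (iv F165187)) (tt N17103 F160511) (tt N20352 (iv F167883)) (tt N20202 (iv F167357)) (tt N20227 (iv F167499)) (tt N16910 F160512) (tt N18751 F160513) (tt N20222 (iv F167470)) (tt N20236 (iv F167538)) (tt N16909 (iv D34678)))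
theorem Q18753 : ∀ i, i < 18753 → P i := stepQ 18752 Q18752 (allL N18752 (tt N19658 (iv F165200)) (tt N20110 (iv F167067)) (tt N20233 (iv F167525)) (tt N16914 F160514) (tt N20356 (iv F167894)) (tt N20399 D36326) (tt N16913 (iv D34679)) (tt N20390 (iv F167962)) (tt N20106 (iv F167054)) (tt N16925 F160515))
theorem Q18754 : ∀ i, i < 18754 → P i := stepQ 18753 Q18753 (allL N18753 (tt N19661 (iv F165216)) (tt N20170 (iv F167240)) (tt N16917 F160516) (tt N20399 (iv F167993)) (tt N19003 (iv F161863)) (tt N16914 (iv D34680)) (tt N16946 F160517) (tt N20391 (iv F167966)) (tt N20245 (iv F167575)) (tt N16928 F160518))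
theorem Q18755 : ∀ i, i < 18755 → P i := stepQ 18754 Q18754 (allL N18754 (tt N19664 (iv F165235)) (tt N20229 (iv F167507)) (tt N16920 F160519) (tt N20360 (iv F167906)) (tt N20244 (iv F167570)) (tt N16915 (iv D34681)) (tt N16971 F160520) (tt N20392 (iv F167970)) (tt N19005 (iv F161877)) (tt N20400 D36327))
theorem Q18756 : ∀ i, i < 18756 → P i := stepQ 18755 Q18755 (allL N18755 (tt N19665 (iv F165240)) (tt N20225 (iv F167485)) (tt N16921 F160521) (tt N20361 (iv F167909)) (tt N20224 (iv F167480)) (tt N20400 (iv F167997)) (tt N16916 F160522) (tt N20393 (iv F167975)) (tt N16931 F160523) (tt N16915 (iv D34682)))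
theorem Q18757 : ∀ i, i < 18757 → P i := stepQ 18756 Q18756 (allL N18756 (tt N19666 (iv F165245)) (tt N17087 F160524) (tt N20245 (iv F167573)) (tt N19010 (iv F161904)) (tt N19006 (iv F161882)) (tt N17085 F160525) (tt N16947 F160526) (tt N20251 (iv F167595)) (tt N16917 (iv D34683)) (tt N19009 F161901))
theorem Q18758 : ∀ i, i < 18758 → P i := stepQ 18757 Q18757 (allL N18757 (tt N19667 (iv F165252)) (tt N17024 F160527) (tt N20224 (iv F167479)) (tt N17057 F160528) (tt N16921 F160529) (tt N17076 F160530) (tt N16919 F160531) (tt N17042 F160532) (tt N16934 F160533) (tt N16918 (iv D34684)))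
theorem Q18759 : ∀ i, i < 18759 → P i := stepQ 18758 Q18758 (allL N18758 (tt N19668 (iv F165260)) (tt N17086 F160534) (tt N20244 (iv F167569)) (tt N20210 (iv F167409)) (tt N16920 (iv D34685)) (tt N17084 F160535) (tt N16974 F160536) (tt N20237 (iv F167545)) (tt N19008 (iv F161893)) (tt N20209 (iv F167407)))
theorem Q18760 : ∀ i, i < 18760 → P i := stepQ 18759 Q18759 (allL N18759 (tt N19669 (iv F165265)) (tt N17112 F160537) (tt N20400 (iv F167996)) (tt N16923 F160538) (tt N20209 (iv F167403)) (tt N16921 F160539) (tt N16975 F160540) (tt N20236 (iv F167537)) (tt N20222 (iv F167471)) (tt N16920 (iv D34686)))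
theorem Q18761 : ∀ i, i < 18761 → P i := stepQ 18760 Q18760 (allL N18760 (tt N19670 (iv F165270)) (tt N17113 F160541) (tt N20401 D36328) (tt N16922 (iv D34687)) (tt N20210 (iv F167410)) (tt N20219 (iv F167453)) (tt N16950 F160542) (tt N20238 (iv F167551)) (tt N19009 (iv F161900)) (tt N16932 F160543))
theorem Q18762 : ∀ i, i < 18762 → P i := stepQ 18761 Q18761 (allL N18761 (tt N19680 (iv F165311)) (tt N20169 (iv F167237)) (tt N20246 (iv F167576)) (tt N16928 F160544) (tt N20402 D36329) (tt N16925 (iv D34688)) (tt N16948 F160545) (tt N20394 (iv F167979)) (tt N20403 D36330) (tt N20399 (iv F167995)))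
theorem Q18763 : ∀ i, i < 18763 → P i := stepQ 18762 Q18762 (allL N18762 (tt N19681 (iv F165314)) (tt N20354 (iv F167887)) (tt N20247 (iv F167579)) (tt N16929 F160546) (tt N20375 (iv F167934)) (tt N20404 D36331) (tt N16926 F160547) (tt N20395 (iv F167982)) (tt N16925 (iv D34689)) (tt N20405 D36332))
theorem Q18764 : ∀ i, i < 18764 → P i := stepQ 18763 Q18763 (allL N18763 (tt N19682 (iv F165317)) (tt N20004 (iv F166629)) (tt N20079 (iv F166947)) (tt N16930 F160548) (tt N20377 (iv F167940)) (tt N18763 F160549) (tt N20405 (iv F168007)) (tt N16927 F160550) (tt N20001 (iv F166619)) (tt N16926 (iv D34690)))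
theorem Q18765 : ∀ i, i < 18765 → P i := stepQ 18764 Q18764 (allL N18764 (tt N19683 (iv F165321)) (tt N20118 (iv F167089)) (tt N16932 F160551) (tt N20403 (iv F168002)) (tt N20022 F166725) (tt N20328 (iv F167819)) (tt N16949 F160552) (tt N20139 (iv F167160)) (tt N16928 (iv D34691)) (tt N20401 (iv F168000)))
theorem Q18766 : ∀ i, i < 18766 → P i := stepQ 18765 Q18765 (allL N18765 (tt N19684 (iv F165324)) (tt N20351 (iv F167879)) (tt N16933 F160553) (tt N20404 (iv F168004)) (tt N18947 (iv F161543)) (tt N16929 (iv D34692)) (tt N18765 F160554) (tt N18963 (iv F161626)) (tt N20328 (iv F167822)) (tt N20406 D36333))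
theorem Q18767 : ∀ i, i < 18767 → P i := stepQ 18766 Q18766 (allL N18766 (tt N19685 (iv F165329)) (tt N20226 (iv F167491)) (tt N16934 F160555) (tt N20405 (iv F168006)) (tt N16931 F160556) (tt N20406 (iv F168009)) (tt N16930 F160557) (tt N20396 (iv F167987)) (tt N20224 (iv F167483)) (tt N16929 (iv D34693)))
theorem Q18768 : ∀ i, i < 18768 → P i := stepQ 18767 Q18767 (allL N18767 (tt N19687 (iv F165339)) (tt N17114 F160558) (tt N20406 (iv F168008)) (tt N20251 (iv F167592)) (tt N19000 (iv F161844)) (tt N16934 F160559) (tt N18767 F160560) (tt N19010 (iv F161908)) (tt N20208 (iv F167399)) (tt N16933 (iv D34694)))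
theorem Q18769 : ∀ i, i < 18769 → P i := stepQ 18768 Q18768 (allL N18768 (tt N19695 (iv F165397)) (tt N18980 (iv F161719)) (tt N16942 F160561) (tt N20059 (iv F166888)) (tt N18921 (iv F161384)) (tt N16940 (iv D34695)) (tt N20397 (iv F167990)) (tt N18768 F160562) (tt N20253 (iv F167605)) (tt N18883 (iv F161154)))
theorem Q18770 : ∀ i, i < 18770 → P i := stepQ 18769 Q18769 (allL N18769 (tt N19696 (iv F165401)) (tt N17050 F160563) (tt N20253 (iv F167602)) (tt N16944 F160564) (tt N16975 F160565) (tt N17019 F160566) (tt N20209 (iv F167404)) (tt N18769 F160567) (tt N16942 (iv D34696)) (tt N16974 F160568))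
theorem Q18771 : ∀ i, i < 18771 → P i := stepQ 18770 Q18770 (allL N18770 (tt N19697 (iv F165408)) (tt N17049 F160569) (tt N19018 (iv F161960)) (tt N18770 F160570) (tt N16943 (iv D34697)) (tt N17018 F160571) (tt N18770 F160572) (tt N18770 F160573) (tt N16976 F160574) (tt N18770 F160575))
theorem Q18772 : ∀ i, i < 18772 → P i := stepQ 18771 Q18771 (allL N18771 (tt N19700 (iv F165427)) (tt N17051 F160576) (tt N20057 (iv F166878)) (tt N16974 F160577) (tt N16950 F160578) (tt N17020 F160579) (tt N20210 (iv F167412)) (tt N18771 F160580) (tt N19013 (iv F161930)) (tt N16944 (iv D34698)))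
theorem Q18773 : ∀ i, i < 18773 → P i := stepQ 18772 Q18772 (allL N18772 (tt N19701 (iv F165434)) (tt N20172 (iv F167249)) (tt N20254 (iv F167607)) (tt N16946 F160581) (tt N20407 D36334) (tt N16945 (iv D34699)) (tt N20399 (iv F167994)) (tt N18772 F160582) (tt N20183 (iv F167294)) (tt N16948 F160583))
theorem Q18774 : ∀ i, i < 18774 → P i := stepQ 18773 Q18773 (allL N18773 (tt N19706 (iv F165462)) (tt N20193 (iv F167318)) (tt N20256 (iv F167614)) (tt N20060 (iv F166891)) (tt N16948 (iv D34700)) (tt N19991 (iv F166576)) (tt N20402 (iv F168001)) (tt N18773 F160584) (tt N20408 D36335) (tt N20407 (iv F168012)))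
theorem Q18775 : ∀ i, i < 18775 → P i := stepQ 18774 Q18774 (allL N18774 (tt N19707 (iv F165464)) (tt N20178 (iv F167268)) (tt N20257 (iv F167616)) (tt N16949 F160585) (tt N20408 (iv F168013)) (tt N18774 F160586) (tt N20403 (iv F168003)) (tt N18774 F160587) (tt N16948 (iv D34701)) (tt N20409 D36336))
theorem Q18776 : ∀ i, i < 18776 → P i := stepQ 18775 Q18775 (allL N18775 (tt N19708 (iv F165468)) (tt N20179 (iv F167272)) (tt N16950 F160588) (tt N20409 (iv F168016)) (tt N20057 (iv F166879)) (tt N18775 F160589) (tt N20401 (iv F167999)) (tt N18775 F160590) (tt N19014 (iv F161936)) (tt N16949 (iv D34702)))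
theorem Q18777 : ∀ i, i < 18777 → P i := stepQ 18776 Q18776 (allL N18776 (tt N19931 (iv F166364)) (tt N16960 F160591) (tt N18972 (iv F161681)) (tt N18776 F160592) (tt N16954 F160593) (tt N20410 D36337) (tt N16952 F160594) (tt N18776 F160595) (tt N16951 (iv D34703)) (tt N18966 (iv F161647)))
theorem Q18778 : ∀ i, i < 18778 → P i := stepQ 18777 Q18777 (allL N18777 (tt N19933 (iv F166374)) (tt N16961 F160596) (tt N18974 (iv F161691)) (tt N18777 F160597) (tt N20273 (iv F167671)) (tt N16952 (iv D34704)) (tt N20411 D36338) (tt N16953 F160598) (tt N19465 (iv F164330)) (tt N18967 (iv F161654)))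
theorem Q18779 : ∀ i, i < 18779 → P i := stepQ 18778 Q18778 (allL N18778 (tt N19935 (iv F166383)) (tt N16963 F160599) (tt N18976 (iv F161701)) (tt N18778 F160600) (tt N20274 (iv F167674)) (tt N18778 F160601) (tt N16953 (iv D34705)) (tt N20412 D36339) (tt N19407 F164072) (tt N18968 (iv F161661)))
theorem Q18780 : ∀ i, i < 18780 → P i := stepQ 18779 Q18779 (allL N18779 (tt N19937 (iv F166390)) (tt N16965 F160602) (tt N18978 (iv F161710)) (tt N16955 F160603) (tt N20413 D36340) (tt N16954 (iv D34706)) (tt N20275 (iv F167677)) (tt N18779 F160604) (tt N18919 (iv F161374)) (tt N18969 (iv F161668)))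
theorem Q18781 : ∀ i, i < 18781 → P i := stepQ 18780 Q18780 (allL N18780 (tt N19822 (iv F166001)) (tt N16967 F160605) (tt N17116 F160606) (tt N20414 D36341) (tt N16955 (iv D34707)) (tt N18780 F160607) (tt N20276 (iv F167680)) (tt N18780 F160608) (tt N18883 F161155) (tt N19012 (iv F161924)))
theorem Q18782 : ∀ i, i < 18782 → P i := stepQ 18781 Q18781 (allL N18781 (tt N19717 (iv F165520)) (tt N20252 (iv F167597)) (tt N16965 F160609) (tt N16971 F160610) (tt N20415 D36342) (tt N16957 (iv D34708)) (tt N20360 (iv F167907)) (tt N18781 F160611) (tt N18969 (iv F161667)) (tt N20416 D36343))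
theorem Q18783 : ∀ i, i < 18783 → P i := stepQ 18782 Q18782 (allL N18782 (tt N19718 (iv F165526)) (tt N18915 (iv F161346)) (tt N16966 F160612) (tt N16972 F160613) (tt N19831 (iv F166040)) (tt N20416 (iv F168036)) (tt N16958 F160614) (tt N18782 F160615) (tt N16969 F160616) (tt N16957 (iv D34709)))
theorem Q18784 : ∀ i, i < 18784 → P i := stepQ 18783 Q18783 (allL N18783 (tt N19711 (iv F165486)) (tt N19720 (iv F165539)) (tt N19709 (iv F165475)) (tt N18783 F160617) (tt N18970 (iv F161672)) (tt N20417 D36344) (tt N19605 (iv F164922)) (tt N18783 F160618) (tt N16959 (iv D34710)) (tt N19712 (iv F165499)))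
theorem Q18785 : ∀ i, i < 18785 → P i := stepQ 18784 Q18784 (allL N18784 (tt N19719 (iv F165534)) (tt N20410 (iv F168019)) (tt N19830 (iv F166034)) (tt N18784 F160619) (tt N20418 D36345) (tt N16960 (iv D34711)) (tt N20419 D36346) (tt N18784 F160620) (tt N20417 (iv F168040)) (tt N20420 D36347))
theorem Q18786 : ∀ i, i < 18786 → P i := stepQ 18785 Q18785 (allL N18785 (tt N19720 (iv F165538)) (tt N18966 (iv F161641)) (tt N19831 (iv F166038)) (tt N18785 F160621) (tt N16966 F160622) (tt N20420 (iv F168046)) (tt N16962 F160623) (tt N18785 F160624) (tt N16970 F160625) (tt N16960 (iv D34712)))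
theorem Q18787 : ∀ i, i < 18787 → P i := stepQ 18786 Q18786 (allL N18786 (tt N19721 (iv F165546)) (tt N20411 (iv F168022)) (tt N19826 (iv F166019)) (tt N18786 F160626) (tt N20365 (iv F167915)) (tt N20419 (iv F168044)) (tt N16961 (iv D34713)) (tt N20421 D36348) (tt N19606 (iv F164928)) (tt N20422 D36349))
theorem Q18788 : ∀ i, i < 18788 → P i := stepQ 18787 Q18787 (allL N18787 (tt N19722 (iv F165550)) (tt N18967 (iv F161649)) (tt N19827 (iv F166023)) (tt N18787 F160627) (tt N20366 (iv F167916)) (tt N16962 F160628) (tt N20422 (iv F168051)) (tt N16964 F160629) (tt N19609 (iv F164941)) (tt N16961 (iv D34714)))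
theorem Q18789 : ∀ i, i < 18789 → P i := stepQ 18788 Q18788 (allL N18788 (tt N19723 (iv F165555)) (tt N20412 (iv F168024)) (tt N19414 (iv F164112)) (tt N18788 F160630) (tt N20367 (iv F167919)) (tt N18788 F160631) (tt N20421 (iv F168049)) (tt N16963 (iv D34715)) (tt N19410 (iv F164090)) (tt N20423 D36350))
theorem Q18790 : ∀ i, i < 18790 → P i := stepQ 18789 Q18789 (allL N18789 (tt N19724 (iv F165560)) (tt N18968 (iv F161656)) (tt N19415 (iv F164118)) (tt N18789 F160632) (tt N20368 (iv F167920)) (tt N18789 F160633) (tt N16964 F160634) (tt N20423 (iv F168054)) (tt N19610 (iv F164947)) (tt N16963 (iv D34716)))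
theorem Q18791 : ∀ i, i < 18791 → P i := stepQ 18790 Q18790 (allL N18790 (tt N19725 (iv F165567)) (tt N20413 (iv F168027)) (tt N20415 (iv F168032)) (tt N20424 D36351) (tt N16965 (iv D34717)) (tt N20418 (iv F168041)) (tt N20369 (iv F167922)) (tt N18790 F160635) (tt N18977 (iv F161708)) (tt N20425 D36352))
theorem Q18792 : ∀ i, i < 18792 → P i := stepQ 18791 Q18791 (allL N18791 (tt N19726 (iv F165570)) (tt N18969 (iv F161663)) (tt N20416 (iv F168034)) (tt N16968 F160636) (tt N20425 (iv F168057)) (tt N16966 F160637) (tt N20370 (iv F167925)) (tt N18791 F160638) (tt N20252 (iv F167600)) (tt N16965 (iv D34718)))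
theorem Q18793 : ∀ i, i < 18793 → P i := stepQ 18792 Q18792 (allL N18792 (tt N19727 (iv F165574)) (tt N20414 (iv F168029)) (tt N20409 (iv F168015)) (tt N16967 (iv D34719)) (tt N20424 (iv F168055)) (tt N18792 F160639) (tt N20371 (iv F167926)) (tt N18792 F160640) (tt N18979 (iv F161717)) (tt N20257 F167620))
theorem Q18794 : ∀ i, i < 18794 → P i := stepQ 18793 Q18793 (allL N18793 (tt N19729 (iv F165584)) (tt N18981 (iv F161726)) (tt N16975 F160641) (tt N20416 (iv F168035)) (tt N20253 (iv F167603)) (tt N16972 F160642) (tt N20400 (iv F167998)) (tt N18793 F160643) (tt N18921 (iv F161387)) (tt N16971 (iv D34720)))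
theorem Q18795 : ∀ i, i < 18795 → P i := stepQ 18794 Q18794 (allL N18794 (tt N19753 (iv F165731)) (tt N19198 (iv F162921)) (tt N16984 F160644) (tt N18794 F160645) (tt N19196 (iv F162911)) (tt N20426 D36353) (tt N16978 F160646) (tt N18794 F160647) (tt N16977 (iv D34721)) (tt N20427 D36354))
theorem Q18796 : ∀ i, i < 18796 → P i := stepQ 18795 Q18795 (allL N18795 (tt N19754 (iv F165737)) (tt N19200 (iv F162934)) (tt N16985 F160648) (tt N18795 F160649) (tt N19197 (iv F162917)) (tt N20300 (iv F167742)) (tt N20427 (iv F168064)) (tt N16979 F160650) (tt N18795 F160651) (tt N16978 (iv D34722)))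
theorem Q18797 : ∀ i, i < 18797 → P i := stepQ 18796 Q18796 (allL N18796 (tt N19755 (iv F165742)) (tt N19054 (iv F162167)) (tt N19196 (iv F162909)) (tt N18796 F160652) (tt N16984 F160653) (tt N20428 D36355) (tt N16981 F160654) (tt N18796 F160655) (tt N16980 (iv D34723)) (tt N20429 D36356))
theorem Q18798 : ∀ i, i < 18798 → P i := stepQ 18797 Q18797 (allL N18797 (tt N19756 (iv F165748)) (tt N19044 (iv F162120)) (tt N19170 (iv F162794)) (tt N18797 F160656) (tt N20303 (iv F167747)) (tt N16981 (iv D34724)) (tt N20430 D36357) (tt N16982 F160657) (tt N16988 F160658) (tt N20431 D36358))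
theorem Q18799 : ∀ i, i < 18799 → P i := stepQ 18798 Q18798 (allL N18798 (tt N19757 (iv F165752)) (tt N19055 (iv F162174)) (tt N19197 (iv F162915)) (tt N18798 F160659) (tt N16985 F160660) (tt N20431 (iv F168077)) (tt N20429 (iv F168071)) (tt N16983 F160661) (tt N18798 F160662) (tt N16981 (iv D34725)))
theorem Q18800 : ∀ i, i < 18800 → P i := stepQ 18799 Q18799 (allL N18799 (tt N19758 (iv F165757)) (tt N19032 (iv F162056)) (tt N19103 (iv F162465)) (tt N18799 F160663) (tt N20305 (iv F167752)) (tt N18799 F160664) (tt N16982 (iv D34726)) (tt N20432 D36359) (tt N16990 F160665) (tt N20433 D36360))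
theorem Q18801 : ∀ i, i < 18801 → P i := stepQ 18800 Q18800 (allL N18800 (tt N19759 (iv F165761)) (tt N19045 (iv F162126)) (tt N19171 (iv F162799)) (tt N18800 F160666) (tt N20306 (iv F167754)) (tt N16983 F160667) (tt N20433 (iv F168084)) (tt N20431 (iv F168078)) (tt N20434 D36361) (tt N16982 (iv D34727)))
theorem Q18802 : ∀ i, i < 18802 → P i := stepQ 18801 Q18801 (allL N18801 (tt N19760 (iv F165764)) (tt N19190 (iv F162871)) (tt N20426 (iv F168059)) (tt N16986 F160668) (tt N20435 D36362) (tt N16984 (iv D34728)) (tt N20307 (iv F167757)) (tt N18801 F160669) (tt N19059 (iv F162205)) (tt N20436 D36363))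
theorem Q18803 : ∀ i, i < 18803 → P i := stepQ 18802 Q18802 (allL N18802 (tt N19761 (iv F165767)) (tt N19191 (iv F162876)) (tt N20427 (iv F168062)) (tt N16987 F160670) (tt N20429 (iv F168070)) (tt N20436 (iv F168090)) (tt N16985 F160671) (tt N18802 F160672) (tt N18802 F160673) (tt N16984 (iv D34729)))
theorem Q18804 : ∀ i, i < 18804 → P i := stepQ 18803 Q18803 (allL N18803 (tt N19705 (iv F165456)) (tt N19192 (iv F162883)) (tt N18803 F160674) (tt N20437 D36364) (tt N16986 (iv D34730)) (tt N18803 F160675) (tt N20309 (iv F167761)) (tt N18803 F160676) (tt N19061 (iv F162218)) (tt N20438 D36365))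
theorem Q18805 : ∀ i, i < 18805 → P i := stepQ 18804 Q18804 (allL N18804 (tt N19762 (iv F165772)) (tt N19193 (iv F162889)) (tt N18804 F160677) (tt N20436 (iv F168089)) (tt N20438 (iv F168095)) (tt N16987 F160678) (tt N20310 (iv F167764)) (tt N18804 F160679) (tt N20439 D36366) (tt N16986 (iv D34731)))
theorem Q18806 : ∀ i, i < 18806 → P i := stepQ 18805 Q18805 (allL N18805 (tt N19764 (iv F165781)) (tt N19043 (iv F162115)) (tt N19169 (iv F162791)) (tt N18805 F160680) (tt N20341 (iv F167859)) (tt N20293 (iv F167724)) (tt N16988 (iv D34732)) (tt N20440 D36367) (tt N20430 (iv F168075)) (tt N20441 D36368))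
theorem Q18807 : ∀ i, i < 18807 → P i := stepQ 18806 Q18806 (allL N18806 (tt N19765 (iv F165783)) (tt N18927 (iv F161421)) (tt N19147 (iv F162697)) (tt N18806 F160681) (tt N20342 (iv F167860)) (tt N16989 F160682) (tt N20441 (iv F168104)) (tt N16991 F160683) (tt N20442 D36369) (tt N16988 (iv D34733)))
theorem Q18808 : ∀ i, i < 18808 → P i := stepQ 18807 Q18807 (allL N18807 (tt N19766 (iv F165787)) (tt N19031 (iv F162050)) (tt N19102 (iv F162461)) (tt N18807 F160684) (tt N20343 (iv F167863)) (tt N16992 F160685) (tt N20440 (iv F168102)) (tt N16990 (iv D34734)) (tt N20432 (iv F168081)) (tt N19475 (iv F164383)))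
theorem Q18809 : ∀ i, i < 18809 → P i := stepQ 18808 Q18808 (allL N18808 (tt N19767 (iv F165790)) (tt N18928 (iv F161427)) (tt N19148 (iv F162702)) (tt N18808 F160686) (tt N20344 (iv F167865)) (tt N18808 F160687) (tt N19476 (iv F164388)) (tt N20442 (iv F168107)) (tt N16991 (iv D34735)) (tt N20434 (iv F168087)))
theorem Q18810 : ∀ i, i < 18810 → P i := stepQ 18809 Q18809 (allL N18809 (tt N16996 F160688) (tt N17013 F160689) (tt N18809 F160690) (tt N19743 (iv F165673)) (tt N18809 F160691) (tt N19809 (iv F165947)) (tt N19228 (iv F163080)) (tt N16994 (iv D34736)) (tt N17009 F160692) (tt N19222 (iv F163043)))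
theorem Q18811 : ∀ i, i < 18811 → P i := stepQ 18810 Q18810 (allL N18810 (tt N19809 (iv F165943)) (tt N16997 F160693) (tt N18810 F160694) (tt N19994 (iv F166583)) (tt N18989 (iv F161768)) (tt N16996 F160695) (tt N20443 D36370) (tt N16995 (iv D34737)) (tt N19647 (iv F165150)) (tt N18875 (iv F161093)))
theorem Q18812 : ∀ i, i < 18812 → P i := stepQ 18811 Q18811 (allL N18811 (tt N17015 F160696) (tt N20443 (iv F168108)) (tt N16998 F160697) (tt N19996 (iv F166590)) (tt N19651 (iv F165168)) (tt N19234 (iv F163115)) (tt N16997 (iv D34738)) (tt N19265 (iv F163293)) (tt N19650 (iv F165164)) (tt N19223 (iv F163048)))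
theorem Q18813 : ∀ i, i < 18813 → P i := stepQ 18812 Q18812 (allL N18812 (tt N17001 F160698) (tt N17016 F160699) (tt N18812 F160700) (tt N19730 (iv F165592)) (tt N18812 F160701) (tt N19324 F163603) (tt N17009 F160702) (tt N16999 (iv D34739)) (tt N19228 (iv F163081)) (tt N18812 F160703))
theorem Q18814 : ∀ i, i < 18814 → P i := stepQ 18813 Q18813 (allL N18813 (tt N19324 (iv F163596)) (tt N17002 F160704) (tt N18813 F160705) (tt N19731 (iv F165600)) (tt N19322 (iv F163585)) (tt N17001 F160706) (tt N19959 (iv F166459)) (tt N17000 (iv D34740)) (tt N19321 (iv F163578)) (tt N18813 F160707))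
theorem Q18815 : ∀ i, i < 18815 → P i := stepQ 18814 Q18814 (allL N18814 (tt N17017 F160708) (tt N19959 (iv F166456)) (tt N17004 F160709) (tt N19733 (iv F165613)) (tt N19863 (iv F166155)) (tt N17011 F160710) (tt N17002 (iv D34741)) (tt N18814 F160711) (tt N19862 F166150) (tt N18814 F160712))
theorem Q18816 : ∀ i, i < 18816 → P i := stepQ 18815 Q18815 (allL N18815 (tt N17018 F160713) (tt N18815 F160714) (tt N19863 (iv F166153)) (tt N18815 F160715) (tt N17004 F160716) (tt N19697 (iv F165412)) (tt N17003 (iv D34742)) (tt N18815 F160717) (tt N17096 F160718) (tt N18815 F160719))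
theorem Q18817 : ∀ i, i < 18817 → P i := stepQ 18816 Q18816 (allL N18816 (tt N17019 F160720) (tt N18816 F160721) (tt N19862 (iv F166146)) (tt N17006 F160722) (tt N17096 F160723) (tt N19696 (iv F165405)) (tt N17005 F160724) (tt N18816 F160725) (tt N17004 (iv D34743)) (tt N17097 (iv F160726)))
theorem Q18818 : ∀ i, i < 18818 → P i := stepQ 18817 Q18817 (allL N18817 (tt N17020 F160727) (tt N18817 F160728) (tt N19741 (iv F165658)) (tt N17097 F160729) (tt N18817 F160730) (tt N19700 (iv F165431)) (tt N17007 F160731) (tt N18817 F160732) (tt N18817 F160733) (tt N17006 (iv D34744)))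
theorem Q18819 : ∀ i, i < 18819 → P i := stepQ 18818 Q18818 (allL N18818 (tt N17010 F160734) (tt N17021 F160735) (tt N18818 F160736) (tt N19732 (iv F165607)) (tt N19690 (iv F165363)) (tt N17009 F160737) (tt N19866 (iv F166170)) (tt N17008 (iv D34745)) (tt N19689 (iv F165356)) (tt N18818 F160738))
theorem Q18820 : ∀ i, i < 18820 → P i := stepQ 18819 Q18819 (allL N18819 (tt N19866 (iv F166166)) (tt N17011 F160739) (tt N18819 F160740) (tt N19998 (iv F166596)) (tt N19693 (iv F165385)) (tt N19959 F166462) (tt N17010 (iv D34746)) (tt N18819 F160741) (tt N19692 (iv F165379)) (tt N18819 F160742))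
theorem Q18821 : ∀ i, i < 18821 → P i := stepQ 18820 Q18820 (allL N18820 (tt N17014 F160743) (tt N19809 (iv F165944)) (tt N17041 F160744) (tt N20038 (iv F166801)) (tt N19623 (iv F165014)) (tt N17013 F160745) (tt N20444 D36371) (tt N17012 (iv D34747)) (tt N19643 (iv F165127)) (tt N19621 F165005))
theorem Q18822 : ∀ i, i < 18822 → P i := stepQ 18821 Q18821 (allL N18821 (tt N20444 (iv F168110)) (tt N17015 F160746) (tt N17042 F160747) (tt N20042 (iv F166820)) (tt N20393 (iv F167973)) (tt N20205 (iv F167378)) (tt N17014 (iv D34748)) (tt N20224 (iv F167482)) (tt N20396 (iv F167988)) (tt N20198 (iv F167337)))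
theorem Q18823 : ∀ i, i < 18823 → P i := stepQ 18822 Q18822 (allL N18822 (tt N18822 F160748) (tt N19011 (iv F161911)) (tt N17112 F160749) (tt N17100 F160750) (tt N17077 F160751) (tt N17025 (iv D34749)) (tt N17095 F160752) (tt N17045 F160753) (tt N17104 F160754) (tt N17071 F160755))
theorem Q18824 : ∀ i, i < 18824 → P i := stepQ 18823 Q18823 (allL N18823 (tt N18823 F160756) (tt N20227 (iv F167497)) (tt N17114 F160757) (tt N17027 F160758) (tt N17103 F160759) (tt N17026 (iv D34750)) (tt N18823 F160760) (tt N17046 F160761) (tt N17078 F160762) (tt N17102 F160763))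
theorem Q18825 : ∀ i, i < 18825 → P i := stepQ 18824 Q18824 (allL N18824 (tt N18824 F160764) (tt N18998 (iv F161828)) (tt N17065 F160765) (tt N17102 F160766) (tt N17107 F160767) (tt N17028 F160768) (tt N18824 F160769) (tt N17048 F160770) (tt N20445 D36372) (tt N17027 (iv D34751)))
theorem Q18826 : ∀ i, i < 18826 → P i := stepQ 18825 Q18825 (allL N18825 (tt N18825 F160771) (tt N20208 (iv F167394)) (tt N17078 F160772) (tt N17107 F160773) (tt N17045 F160774) (tt N17031 (iv D34752)) (tt N18825 F160775) (tt N17077 F160776) (tt N17114 F160777) (tt N17060 F160778))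
theorem Q18827 : ∀ i, i < 18827 → P i := stepQ 18826 Q18826 (allL N18826 (tt N18826 F160779) (tt N20209 (iv F167401)) (tt N17077 F160780) (tt N17033 F160781) (tt N17112 F160782) (tt N17032 (iv D34753)) (tt N17050 F160783) (tt N17078 F160784) (tt N17046 F160785) (tt N17086 F160786))
theorem Q18828 : ∀ i, i < 18828 → P i := stepQ 18827 Q18827 (allL N18827 (tt N18827 F160787) (tt N20210 (iv F167408)) (tt N17074 F160788) (tt N17086 F160789) (tt N17113 F160790) (tt N17034 F160791) (tt N17051 F160792) (tt N17080 F160793) (tt N20446 D36373) (tt N17033 (iv D34754)))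
theorem Q18829 : ∀ i, i < 18829 → P i := stepQ 18828 Q18828 (allL N18828 (tt N18828 F160794) (tt N20202 (iv F167356)) (tt N17108 F160795) (tt N17103 F160796) (tt N17060 F160797) (tt N17037 (iv D34755)) (tt N18828 F160798) (tt N17071 F160799) (tt N17110 F160800) (tt N17045 F160801))
theorem Q18830 : ∀ i, i < 18830 → P i := stepQ 18829 Q18829 (allL N18829 (tt N18829 F160802) (tt N20203 (iv F167363)) (tt N17107 F160803) (tt N17039 F160804) (tt N17065 F160805) (tt N17038 (iv D34756)) (tt N18829 F160806) (tt N17072 F160807) (tt N17062 F160808) (tt N17064 F160809))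
theorem Q18831 : ∀ i, i < 18831 → P i := stepQ 18830 Q18830 (allL N18830 (tt N18830 F160810) (tt N20204 (iv F167370)) (tt N17079 F160811) (tt N20447 D36374) (tt N17039 (iv D34757)) (tt N17105 F160812) (tt N18830 F160813) (tt N17073 F160814) (tt N17064 F160815) (tt N20448 D36375))
theorem Q18832 : ∀ i, i < 18832 → P i := stepQ 18831 Q18831 (allL N18831 (tt N18831 F160816) (tt N19007 (iv F161885)) (tt N17080 F160817) (tt N17064 F160818) (tt N20448 (iv F168139)) (tt N17040 F160819) (tt N18831 F160820) (tt N17074 F160821) (tt N20447 (iv F168133)) (tt N17039 (iv D34758)))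
theorem Q18833 : ∀ i, i < 18833 → P i := stepQ 18832 Q18832 (allL N18832 (tt N17042 F160822) (tt N18832 F160823) (tt N20444 (iv F168111)) (tt N17082 F160824) (tt N19627 (iv F165041)) (tt N19286 F163411) (tt N17041 (iv D34759)) (tt N19667 (iv F165258)) (tt N19645 (iv F165140)) (tt N19625 (iv F165031)))
theorem Q18834 : ∀ i, i < 18834 → P i := stepQ 18833 Q18833 (allL N18833 (tt N18833 F160825) (tt N20236 (iv F167533)) (tt N17045 F160826) (tt N17110 F160827) (tt N17078 F160828) (tt N17043 (iv D34760)) (tt N18833 F160829) (tt N17112 F160830) (tt N17103 F160831) (tt N17108 F160832))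
theorem Q18835 : ∀ i, i < 18835 → P i := stepQ 18834 Q18834 (allL N18834 (tt N18834 F160833) (tt N19010 (iv F161903)) (tt N17046 F160834) (tt N17087 F160835) (tt N17104 F160836) (tt N17044 (iv D34761)) (tt N17052 F160837) (tt N17114 F160838) (tt N17077 F160839) (tt N17111 F160840))
theorem Q18836 : ∀ i, i < 18836 → P i := stepQ 18835 Q18835 (allL N18835 (tt N18835 F160841) (tt N19000 (iv F161842)) (tt N17103 F160842) (tt N17069 F160843) (tt N17114 F160844) (tt N17068 F160845) (tt N18835 F160846) (tt N17104 F160847) (tt N17045 (iv D34762)) (tt N17101 F160848))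
theorem Q18837 : ∀ i, i < 18837 → P i := stepQ 18836 Q18836 (allL N18836 (tt N18836 F160849) (tt N20222 (iv F167466)) (tt N17104 F160850) (tt N17071 F160851) (tt N17046 (iv D34763)) (tt N17067 F160852) (tt N17053 F160853) (tt N17103 F160854) (tt N17112 F160855) (tt N17100 (iv F160856)))
theorem Q18838 : ∀ i, i < 18838 → P i := stepQ 18837 Q18837 (allL N18837 (tt N18837 F160857) (tt N18880 (iv F161125)) (tt N17111 F160858) (tt N17048 F160859) (tt N17100 F160860) (tt N17047 F160861) (tt N17054 F160862) (tt N17102 F160863) (tt N17105 F160864) (tt N17046 (iv D34764)))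
theorem Q18839 : ∀ i, i < 18839 → P i := stepQ 18838 Q18838 (allL N18838 (tt N18838 F160865) (tt N19006 (iv F161880)) (tt N17090 F160866) (tt N17105 F160867) (tt N17087 F160868) (tt N20447 (iv F168130)) (tt N17055 F160869) (tt N20445 (iv F168118)) (tt N17048 (iv D34765)) (tt N20446 (iv F168127)))
theorem Q18840 : ∀ i, i < 18840 → P i := stepQ 18839 Q18839 (allL N18839 (tt N18839 F160870) (tt N19013 (iv F161926)) (tt N17092 F160871) (tt N17098 F160872) (tt N17094 F160873) (tt N18839 F160874) (tt N20446 (iv F168125)) (tt N18839 F160875) (tt N17051 (iv D34766)) (tt N17055 F160876))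
theorem Q18841 : ∀ i, i < 18841 → P i := stepQ 18840 Q18840 (allL N18840 (tt N17057 F160877) (tt N18840 F160878) (tt N20211 (iv F167415)) (tt N19667 (iv F165254)) (tt N19288 (iv F163419)) (tt N19625 F165030) (tt N17056 (iv D34767)) (tt N17082 F160879) (tt N19312 (iv F163525)) (tt N19286 F163410))
theorem Q18842 : ∀ i, i < 18842 → P i := stepQ 18841 Q18841 (allL N18841 (tt N18841 F160880) (tt N20237 (iv F167540)) (tt N17060 F160881) (tt N17080 F160882) (tt N17108 F160883) (tt N17058 (iv D34768)) (tt N18841 F160884) (tt N17086 F160885) (tt N20449 D36376) (tt N17078 F160886))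
theorem Q18843 : ∀ i, i < 18843 → P i := stepQ 18842 Q18842 (allL N18842 (tt N18842 F160887) (tt N20251 (iv F167591)) (tt N17062 F160888) (tt N17114 F160889) (tt N20445 (iv F168115)) (tt N17059 (iv D34769)) (tt N18842 F160890) (tt N17087 F160891) (tt N17107 F160892) (tt N17089 F160893))
theorem Q18844 : ∀ i, i < 18844 → P i := stepQ 18843 Q18843 (allL N18843 (tt N18843 F160894) (tt N20219 (iv F167450)) (tt N20449 (iv F168145)) (tt N17079 F160895) (tt N17110 F160896) (tt N17113 (iv F160900)) (tt N18843 F160897) (tt N17088 F160898) (tt N17060 (iv D34770)) (tt N17109 F160899))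
theorem Q18845 : ∀ i, i < 18845 → P i := stepQ 18844 Q18844 (allL N18844 (tt N18844 F160901) (tt N19009 (iv F161896)) (tt N17091 F160902) (tt N17111 F160903) (tt N20446 (iv F168123)) (tt N17061 (iv D34771)) (tt N17094 F160904) (tt N17089 F160905) (tt N17113 F160906) (tt N17087 F160907))
theorem Q18846 : ∀ i, i < 18846 → P i := stepQ 18845 Q18845 (allL N18845 (tt N18845 F160908) (tt N20220 (iv F167457)) (tt N20445 (iv F168113)) (tt N20448 (iv F168138)) (tt N17062 (iv D34772)) (tt N20446 (iv F168124)) (tt N18845 F160909) (tt N17090 F160910) (tt N17065 F160911) (tt N20447 (iv F168135)))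
theorem Q18847 : ∀ i, i < 18847 → P i := stepQ 18846 Q18846 (allL N18846 (tt N18846 F160912) (tt N20221 (iv F167461)) (tt N17089 F160913) (tt N17065 F160914) (tt N20447 (iv F168129)) (tt N17063 F160915) (tt N18846 F160916) (tt N17091 F160917) (tt N20448 (iv F168143)) (tt N17062 (iv D34773)))
theorem Q18848 : ∀ i, i < 18848 → P i := stepQ 18847 Q18847 (allL N18847 (tt N18847 F160918) (tt N20223 (iv F167473)) (tt N17109 F160919) (tt N20445 (iv F168114)) (tt N17069 (iv D34774)) (tt N17073 F160920) (tt N18847 F160921) (tt N17105 F160922) (tt N17102 F160923) (tt N20449 (iv F168151)))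
theorem Q18849 : ∀ i, i < 18849 → P i := stepQ 18848 Q18848 (allL N18848 (tt N18848 F160924) (tt N18999 (iv F161835)) (tt N17110 F160925) (tt N17101 F160926) (tt N20449 (iv F168147)) (tt N17070 F160927) (tt N18848 F160928) (tt N17106 F160929) (tt N17108 F160930) (tt N17069 (iv D34775)))
theorem Q18850 : ∀ i, i < 18850 → P i := stepQ 18849 Q18849 (allL N18849 (tt N18849 F160931) (tt N20230 (iv F167512)) (tt N20446 (iv F168121)) (tt N17073 (iv D34776)) (tt N17091 F160932) (tt N20445 (iv F168116)) (tt N17092 F160933) (tt N20447 (iv F168132)) (tt N17074 F160934) (tt N17090 (iv F160935)))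
theorem Q18851 : ∀ i, i < 18851 → P i := stepQ 18850 Q18850 (allL N18850 (tt N18850 F160936) (tt N20231 (iv F167517)) (tt N17113 F160937) (tt N17090 F160938) (tt N17074 F160939) (tt N20449 (iv F168148)) (tt N17093 F160940) (tt N20448 (iv F168142)) (tt N17091 F160941) (tt N17073 (iv D34777)))
theorem Q18852 : ∀ i, i < 18852 → P i := stepQ 18851 Q18851 (allL N18851 (tt N17076 F160942) (tt N18851 F160943) (tt N20232 (iv F167523)) (tt N19625 (iv F165026)) (tt N19237 (iv F163134)) (tt N19667 (iv F165256)) (tt N17075 (iv D34778)) (tt N19286 (iv F163409)) (tt N19236 (iv F163129)) (tt N17082 F160944))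
theorem Q18853 : ∀ i, i < 18853 → P i := stepQ 18852 Q18852 (allL N18852 (tt N18852 F160945) (tt N20238 (iv F167546)) (tt N20448 (iv F168137)) (tt N17109 F160946) (tt N17080 F160947) (tt N17088 F160948) (tt N18852 F160949) (tt N17113 F160950) (tt N17089 F160951) (tt N17079 (iv D34779)))
theorem Q18854 : ∀ i, i < 18854 → P i := stepQ 18853 Q18853 (allL N18853 (tt N18853 F160952) (tt N20239 (iv F167553)) (tt N20447 F168134) (tt N20449 (iv F168146)) (tt N17089 F160953) (tt N17090 F160954) (tt N18853 F160955) (tt N20446 (iv F168126)) (tt N17080 (iv D34780)) (tt N20445 (iv F168119)))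
theorem Q18855 : ∀ i, i < 18855 → P i := stepQ 18854 Q18854 (allL N18854 (tt N17084 F160956) (tt N18854 F160957) (tt N20241 (iv F167561)) (tt N19239 (iv F163146)) (tt N17082 F160958) (tt N19668 (iv F165262)) (tt N17081 (iv D34781)) (tt N19288 (iv F163421)) (tt N19258 (iv F163251)) (tt N19237 F163137))
theorem Q18856 : ∀ i, i < 18856 → P i := stepQ 18855 Q18855 (allL N18855 (tt N17085 F160959) (tt N18855 F160960) (tt N20242 (iv F167564)) (tt N19645 (iv F165135)) (tt N19258 (iv F163248)) (tt N19666 (iv F165249)) (tt N17083 F160961) (tt N19312 (iv F163524)) (tt N17082 (iv D34782)) (tt N19256 (iv F163238)))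
theorem Q18857 : ∀ i, i < 18857 → P i := stepQ 18856 Q18856 (allL N18856 (tt N18856 F160962) (tt N19008 (iv F161891)) (tt N17088 F160963) (tt N20446 (iv F168122)) (tt N17106 F160964) (tt N20448 (iv F168140)) (tt N17098 F160965) (tt N20449 (iv F168150)) (tt N17086 (iv D34783)) (tt N17105 F160966))
theorem Q18858 : ∀ i, i < 18858 → P i := stepQ 18857 Q18857 (allL N18857 (tt N19817 (iv F165975)) (tt N17105 F160967) (tt N20276 (iv F167679)) (tt N19006 (iv F161881)) (tt N17099 (iv D34784)) (tt N20204 (iv F167371)) (tt N17116 F160968) (tt N20223 (iv F167476)) (tt N18880 F161131) (tt N19008 (iv F161894)))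
theorem Q18859 : ∀ i, i < 18859 → P i := stepQ 18858 Q18858 (allL N18858 (tt N17120 F160969) (tt N18858 F160970) (tt N17281 F160971) (tt N17291 F160972) (tt N17989 F160973) (tt N17119 F160974) (tt N18858 F160975) (tt N18858 F160976) (tt N17946 (iv F160977)) (tt N17118 (iv D34785)))
theorem Q18860 : ∀ i, i < 18860 → P i := stepQ 18859 Q18859 (allL N18859 (tt N18078 F160978) (tt N18661 F160979) (tt N17211 F160980) (tt N17121 (iv D34786)) (tt N17139 F160981) (tt N17420 F160982) (tt N18594 F160983) (tt N20450 D36377) (tt N18657 F160984) (tt N18334 F160985))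
theorem Q18861 : ∀ i, i < 18861 → P i := stepQ 18860 Q18860 (allL N18860 (tt N18079 F160986) (tt N18663 F160987) (tt N17123 F160988) (tt N20450 (iv F168155)) (tt N17122 F160989) (tt N17421 F160990) (tt N20451 D36378) (tt N17121 (iv D34787)) (tt N18658 F160991) (tt N18676 F160992))
theorem Q18862 : ∀ i, i < 18862 → P i := stepQ 18861 Q18861 (allL N18861 (tt N18080 F160993) (tt N18665 F160994) (tt N17125 F160995) (tt N17141 F160996) (tt N20451 (iv F168163)) (tt N18590 F160997) (tt N17122 (iv D34788)) (tt N18596 F160998) (tt N18659 F160999) (tt N18677 F161000))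
theorem Q18863 : ∀ i, i < 18863 → P i := stepQ 18862 Q18862 (allL N18862 (tt N18081 F161001) (tt N18640 F161002) (tt N20451 (iv F168162)) (tt N17216 F161003) (tt N17125 F161004) (tt N20452 D36379) (tt N17123 (iv D34789)) (tt N18597 F161005) (tt N20453 D36380) (tt N18679 F161006))
theorem Q18864 : ∀ i, i < 18864 → P i := stepQ 18863 Q18863 (allL N18863 (tt N18082 F161007) (tt N18589 F161008) (tt N18658 F161009) (tt N17217 F161010) (tt N17126 F161011) (tt N20454 D36381) (tt N20453 (iv F168179)) (tt N17124 F161012) (tt N17123 (iv D34790)) (tt N20455 D36382))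
theorem Q18865 : ∀ i, i < 18865 → P i := stepQ 18864 Q18864 (allL N18864 (tt N18083 F161013) (tt N17393 F161014) (tt N18624 F161015) (tt N17218 F161016) (tt N17131 F161017) (tt N17124 (iv D34791)) (tt N20456 D36383) (tt N20454 (iv F168186)) (tt N17428 F161018) (tt N20457 D36384))
theorem Q18866 : ∀ i, i < 18866 → P i := stepQ 18865 Q18865 (allL N18865 (tt N18084 F161019) (tt N18388 F161020) (tt N18641 F161021) (tt N17219 F161022) (tt N17127 F161023) (tt N20457 (iv F168208)) (tt N18599 F161024) (tt N20455 (iv F168193)) (tt N18603 F161025) (tt N17124 (iv D34792)))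
theorem Q18867 : ∀ i, i < 18867 → P i := stepQ 18866 Q18866 (allL N18866 (tt N18085 F161026) (tt N18590 F161027) (tt N18659 F161028) (tt N17128 F161029) (tt N20453 (iv F168178)) (tt N18665 F161030) (tt N17126 F161031) (tt N18600 F161032) (tt N17125 (iv D34793)) (tt N20458 D36385))
theorem Q18868 : ∀ i, i < 18868 → P i := stepQ 18867 Q18867 (allL N18867 (tt N18086 F161033) (tt N18389 F161034) (tt N18642 F161035) (tt N17129 F161036) (tt N20455 (iv F168192)) (tt N17133 F161037) (tt N20458 (iv F168215)) (tt N17127 F161038) (tt N18681 F161039) (tt N17126 (iv D34794)))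
theorem Q18869 : ∀ i, i < 18869 → P i := stepQ 18868 Q18868 (allL N18868 (tt N18087 F161040) (tt N18520 F161041) (tt N17143 F161042) (tt N20458 (iv F168213)) (tt N17223 F161043) (tt N18744 F161044) (tt N17129 F161045) (tt N18602 F161046) (tt N18683 F161047) (tt N17128 (iv D34795)))
theorem Q18870 : ∀ i, i < 18870 → P i := stepQ 18869 Q18869 (allL N18869 (tt N18088 F161048) (tt N17394 F161049) (tt N18625 F161050) (tt N17134 F161051) (tt N20454 (iv F168185)) (tt N17130 (iv D34796)) (tt N20459 D36386) (tt N17131 F161052) (tt N17450 F161053) (tt N20460 D36387))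
theorem Q18871 : ∀ i, i < 18871 → P i := stepQ 18870 Q18870 (allL N18870 (tt N18089 F161054) (tt N17387 F161055) (tt N18616 F161056) (tt N17135 F161057) (tt N17133 F161058) (tt N20460 (iv F168228)) (tt N17404 F161059) (tt N17132 F161060) (tt N18870 F161061) (tt N17130 (iv D34797)))
theorem Q18872 : ∀ i, i < 18872 → P i := stepQ 18871 Q18871 (allL N18871 (tt N18090 F161062) (tt N17346 F161063) (tt N18158 F161064) (tt N17136 F161065) (tt N20456 (iv F168199)) (tt N17345 F161066) (tt N17131 (iv D34798)) (tt N20461 D36388) (tt N17452 F161067) (tt N18284 (iv F161068)))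
theorem Q18873 : ∀ i, i < 18873 → P i := stepQ 18872 Q18872 (allL N18872 (tt N18091 F161069) (tt N17386 F161070) (tt N18615 F161071) (tt N17137 F161072) (tt N20457 (iv F168207)) (tt N17132 F161073) (tt N18284 F161074) (tt N20460 (iv F168229)) (tt N20462 D36389) (tt N17131 (iv D34799)))
theorem Q18874 : ∀ i, i < 18874 → P i := stepQ 18873 Q18873 (allL N18873 (tt N18092 F161075) (tt N17513 F161076) (tt N18873 F161077) (tt N20459 (iv F168221)) (tt N17241 F161078) (tt N17541 F161079) (tt N17134 (iv D34800)) (tt N20463 D36390) (tt N17460 F161080) (tt N20464 D36391))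
theorem Q18875 : ∀ i, i < 18875 → P i := stepQ 18874 Q18874 (allL N18874 (tt N18093 F161081) (tt N17507 F161082) (tt N18874 F161083) (tt N20460 (iv F168227)) (tt N17242 F161084) (tt N17135 F161085) (tt N20464 (iv F168257)) (tt N17137 F161086) (tt N20465 D36392) (tt N17134 (iv D34801)))
theorem Q18876 : ∀ i, i < 18876 → P i := stepQ 18875 Q18875 (allL N18875 (tt N18094 F161087) (tt N17468 F161088) (tt N18875 F161089) (tt N20461 (iv F168233)) (tt N17243 F161090) (tt N17467 F161091) (tt N20463 (iv F168249)) (tt N17136 (iv D34802)) (tt N17462 F161092) (tt N18810 F161093))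
theorem Q18877 : ∀ i, i < 18877 → P i := stepQ 18876 Q18876 (allL N18876 (tt N17919 F161094) (tt N17508 F161095) (tt N18876 F161096) (tt N20462 (iv F168240)) (tt N17245 F161097) (tt N18876 F161098) (tt N17886 F161099) (tt N20465 (iv F168264)) (tt N17137 (iv D34803)) (tt N17464 F161100))
theorem Q18878 : ∀ i, i < 18878 → P i := stepQ 18877 Q18877 (allL N18877 (tt N18096 F161101) (tt N17146 F161102) (tt N18469 F161103) (tt N17138 (iv D34804)) (tt N17586 F161104) (tt N18740 F161105) (tt N17248 F161106) (tt N17145 F161107) (tt N18877 F161108) (tt N18354 F161109))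
theorem Q18879 : ∀ i, i < 18879 → P i := stepQ 18878 Q18878 (allL N18878 (tt N18102 F161110) (tt N18740 F161111) (tt N17259 F161112) (tt N17140 F161113) (tt N20450 (iv F168156)) (tt N17146 F161114) (tt N20466 D36393) (tt N17139 (iv D34805)) (tt N18738 F161115) (tt N18336 F161116))
theorem Q18880 : ∀ i, i < 18880 → P i := stepQ 18879 Q18879 (allL N18879 (tt N18103 F161117) (tt N18742 F161118) (tt N17142 F161119) (tt N20466 (iv F168269)) (tt N17141 F161120) (tt N20467 D36394) (tt N17140 (iv D34806)) (tt N18685 F161121) (tt N18674 F161122) (tt N18746 F161123))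
theorem Q18881 : ∀ i, i < 18881 → P i := stepQ 18880 Q18880 (allL N18880 (tt N18104 F161124) (tt N18837 F161125) (tt N20467 (iv F168275)) (tt N17264 F161126) (tt N18727 F161127) (tt N17142 (iv D34807)) (tt N17148 F161128) (tt N18750 F161129) (tt N18857 (iv F161131)) (tt N18748 F161130))
theorem Q18882 : ∀ i, i < 18882 → P i := stepQ 18881 Q18881 (allL N18881 (tt N17145 F161132) (tt N18107 F161133) (tt N18464 F161134) (tt N17144 (iv D34808)) (tt N17583 F161135) (tt N17873 F161136) (tt N18881 F161137) (tt N18096 F161138) (tt N18881 F161139) (tt N18351 F161140))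
theorem Q18883 : ∀ i, i < 18883 → P i := stepQ 18882 Q18882 (allL N18882 (tt N18111 F161141) (tt N17248 F161142) (tt N17275 F161143) (tt N17147 F161144) (tt N17587 F161145) (tt N20468 D36395) (tt N17146 (iv D34809)) (tt N18882 F161146) (tt N18882 F161147) (tt N18356 F161148))
theorem Q18884 : ∀ i, i < 18884 → P i := stepQ 18883 Q18883 (allL N18883 (tt N18112 F161149) (tt N17236 F161150) (tt N17148 F161151) (tt N20468 (iv F168284)) (tt N17185 F161152) (tt N17147 (iv D34810)) (tt N20467 (iv F168277)) (tt N18883 F161153) (tt N18780 (iv F161155)) (tt N18768 F161154))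
theorem Q18885 : ∀ i, i < 18885 → P i := stepQ 18884 Q18884 (allL N18884 (tt N17815 F161156) (tt N17150 F161157) (tt N17706 F161158) (tt N17245 F161159) (tt N20469 D36396) (tt N17149 (iv D34811)) (tt N17771 F161160) (tt N20470 D36397) (tt N17233 F161161) (tt N17809 F161162))
theorem Q18886 : ∀ i, i < 18886 → P i := stepQ 18885 Q18885 (allL N18885 (tt N17839 F161163) (tt N17151 F161164) (tt N17705 F161165) (tt N17288 F161166) (tt N17618 F161167) (tt N20470 (iv F168299)) (tt N17708 F161168) (tt N17149 (iv D34812)) (tt N17158 F161169) (tt N17707 F161170))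
theorem Q18887 : ∀ i, i < 18887 → P i := stepQ 18886 Q18886 (allL N18886 (tt N17167 F161171) (tt N20469 (iv F168289)) (tt N17152 F161172) (tt N20471 D36398) (tt N17150 (iv D34813)) (tt N17619 F161173) (tt N17773 F161174) (tt N20472 D36399) (tt N20473 D36400) (tt N18046 F161175))
theorem Q18888 : ∀ i, i < 18888 → P i := stepQ 18887 Q18887 (allL N18887 (tt N17168 F161176) (tt N20470 (iv F168296)) (tt N17153 F161177) (tt N17836 F161178) (tt N20472 (iv F168311)) (tt N17151 F161179) (tt N20474 D36401) (tt N17150 (iv D34814)) (tt N20475 D36402) (tt N17834 F161180))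
theorem Q18889 : ∀ i, i < 18889 → P i := stepQ 18888 Q18888 (allL N18888 (tt N17169 F161181) (tt N17233 F161182) (tt N17154 F161183) (tt N17191 F161184) (tt N20473 (iv F168318)) (tt N17160 F161185) (tt N17775 F161186) (tt N20475 (iv F168333)) (tt N17150 (iv D34815)) (tt N17182 F161187))
theorem Q18890 : ∀ i, i < 18890 → P i := stepQ 18889 Q18889 (allL N18889 (tt N17170 F161188) (tt N18114 F161189) (tt N20472 (iv F168310)) (tt N17736 F161190) (tt N17153 F161191) (tt N17622 F161192) (tt N20476 D36403) (tt N17152 (iv D34816)) (tt N20477 D36404) (tt N18072 F161193))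
theorem Q18891 : ∀ i, i < 18891 → P i := stepQ 18890 Q18890 (allL N18890 (tt N17171 F161194) (tt N18115 F161195) (tt N20473 (iv F168316)) (tt N17737 F161196) (tt N17154 F161197) (tt N18397 F161198) (tt N17777 F161199) (tt N20477 (iv F168346)) (tt N17152 (iv D34817)) (tt N20478 D36405))
theorem Q18892 : ∀ i, i < 18892 → P i := stepQ 18891 Q18891 (allL N18891 (tt N17172 F161200) (tt N18116 F161201) (tt N20474 (iv F168323)) (tt N17155 F161202) (tt N20476 (iv F168338)) (tt N18587 F161203) (tt N17153 (iv D34818)) (tt N17778 F161204) (tt N20479 D36406) (tt N18073 F161205))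
theorem Q18893 : ∀ i, i < 18893 → P i := stepQ 18892 Q18892 (allL N18892 (tt N17173 F161206) (tt N18117 F161207) (tt N20475 (iv F168330)) (tt N17156 F161208) (tt N20477 (iv F168344)) (tt N17162 F161209) (tt N20479 (iv F168358)) (tt N17154 F161210) (tt N17153 (iv D34819)) (tt N20480 D36407))
theorem Q18894 : ∀ i, i < 18894 → P i := stepQ 18893 Q18893 (allL N18893 (tt N17174 F161211) (tt N18118 F161212) (tt N17182 F161213) (tt N17157 F161214) (tt N20478 (iv F168351)) (tt N17163 F161215) (tt N17780 F161216) (tt N20480 (iv F168365)) (tt N17713 F161217) (tt N17154 (iv D34820)))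
theorem Q18895 : ∀ i, i < 18895 → P i := stepQ 18894 Q18894 (allL N18894 (tt N17175 F161218) (tt N18119 F161219) (tt N17852 F161220) (tt N20479 (iv F168357)) (tt N17740 F161221) (tt N20481 D36408) (tt N17156 F161222) (tt N17781 F161223) (tt N17155 (iv D34821)) (tt N20482 D36409))
theorem Q18896 : ∀ i, i < 18896 → P i := stepQ 18895 Q18895 (allL N18895 (tt N17176 F161224) (tt N18120 F161225) (tt N17504 F161226) (tt N20480 (iv F168363)) (tt N17503 F161227) (tt N17165 F161228) (tt N20482 (iv F168378)) (tt N17157 F161229) (tt N17934 F161230) (tt N17156 (iv D34822)))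
theorem Q18897 : ∀ i, i < 18897 → P i := stepQ 18896 Q18896 (allL N18896 (tt N17179 F161231) (tt N17231 F161232) (tt N17162 F161233) (tt N17189 F161234) (tt N17184 F161235) (tt N20475 (iv F168332)) (tt N18283 F161236) (tt N17160 F161237) (tt N17159 (iv D34823)) (tt N17181 F161238))
theorem Q18898 : ∀ i, i < 18898 → P i := stepQ 18897 Q18897 (allL N18897 (tt N17183 F161239) (tt N18121 F161240) (tt N18283 F161241) (tt N17164 F161242) (tt N18572 F161243) (tt N20483 D36410) (tt N17162 F161244) (tt N18897 F161245) (tt N17161 (iv D34824)) (tt N20484 D36411))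
theorem Q18899 : ∀ i, i < 18899 → P i := stepQ 18898 Q18898 (allL N18898 (tt N17184 F161246) (tt N18122 F161247) (tt N17181 F161248) (tt N17165 F161249) (tt N17179 F161250) (tt N20480 (iv F168364)) (tt N20484 (iv F168392)) (tt N17163 F161251) (tt N17177 F161252) (tt N17162 (iv D34825)))
theorem Q18900 : ∀ i, i < 18900 → P i := stepQ 18899 Q18899 (allL N18899 (tt N17185 F161253) (tt N18123 F161254) (tt N18106 F161255) (tt N20483 (iv F168384)) (tt N18112 F161256) (tt N17164 (iv D34826)) (tt N20481 (iv F168371)) (tt N18899 F161257) (tt N18269 F161258) (tt N20485 D36412))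
theorem Q18901 : ∀ i, i < 18901 → P i := stepQ 18900 Q18900 (allL N18900 (tt N17186 F161259) (tt N18124 F161260) (tt N17568 F161261) (tt N20484 (iv F168390)) (tt N17166 F161262) (tt N20485 (iv F168399)) (tt N17165 F161263) (tt N18900 F161264) (tt N17279 F161265) (tt N17164 (iv D34827)))
theorem Q18902 : ∀ i, i < 18902 → P i := stepQ 18901 Q18901 (allL N18901 (tt N20471 (iv F168302)) (tt N18710 F161266) (tt N18300 F161267) (tt N17167 (iv D34828)) (tt N18298 F161268) (tt N17690 F161269) (tt N18334 F161270) (tt N20486 D36413) (tt N18296 (iv F161272)) (tt N18594 F161271))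
theorem Q18903 : ∀ i, i < 18903 → P i := stepQ 18902 Q18902 (allL N18902 (tt N20472 (iv F168309)) (tt N18714 F161273) (tt N17170 F161274) (tt N20486 (iv F168404)) (tt N17168 F161275) (tt N17691 F161276) (tt N20487 D36414) (tt N17167 (iv D34829)) (tt N20488 D36415) (tt N18595 F161277))
theorem Q18904 : ∀ i, i < 18904 → P i := stepQ 18903 Q18903 (allL N18903 (tt N20473 (iv F168314)) (tt N18692 F161278) (tt N17171 F161279) (tt N18296 F161280) (tt N17169 F161281) (tt N20478 (iv F168352)) (tt N18332 F161282) (tt N20488 (iv F168418)) (tt N17167 (iv D34830)) (tt N18397 F161283))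
theorem Q18905 : ∀ i, i < 18905 → P i := stepQ 18904 Q18904 (allL N18904 (tt N20474 (iv F168322)) (tt N18716 F161284) (tt N17172 F161285) (tt N18686 F161286) (tt N20487 (iv F168411)) (tt N18605 F161287) (tt N17168 (iv D34831)) (tt N18677 F161288) (tt N20489 D36416) (tt N18596 F161289))
theorem Q18906 : ∀ i, i < 18906 → P i := stepQ 18905 Q18905 (allL N18905 (tt N20475 (iv F168328)) (tt N18694 F161290) (tt N17173 F161291) (tt N18524 F161292) (tt N20488 (iv F168417)) (tt N17179 F161293) (tt N20489 (iv F168423)) (tt N17169 F161294) (tt N17168 (iv D34832)) (tt N18531 F161295))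
theorem Q18907 : ∀ i, i < 18907 → P i := stepQ 18906 Q18906 (allL N18906 (tt N20476 (iv F168335)) (tt N17216 F161296) (tt N20487 (iv F168410)) (tt N18640 F161297) (tt N17172 F161298) (tt N20490 D36417) (tt N17170 (iv D34833)) (tt N18679 F161299) (tt N20491 D36418) (tt N18597 F161300))
theorem Q18908 : ∀ i, i < 18908 → P i := stepQ 18907 Q18907 (allL N18907 (tt N20477 (iv F168341)) (tt N17217 F161301) (tt N20488 (iv F168415)) (tt N18589 F161302) (tt N17173 F161303) (tt N20492 D36419) (tt N20491 (iv F168435)) (tt N17171 F161304) (tt N17170 (iv D34834)) (tt N20493 D36420))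
theorem Q18909 : ∀ i, i < 18909 → P i := stepQ 18908 Q18908 (allL N18908 (tt N18397 F161305) (tt N17218 F161306) (tt N20478 (iv F168349)) (tt N17393 F161307) (tt N17182 F161308) (tt N17171 (iv D34835)) (tt N20494 D36421) (tt N20492 (iv F168441)) (tt N17698 F161309) (tt N20473 (iv F168321)))
theorem Q18910 : ∀ i, i < 18910 → P i := stepQ 18909 Q18909 (allL N18909 (tt N20478 (iv F168347)) (tt N17219 F161310) (tt N18397 F161311) (tt N18388 F161312) (tt N17174 F161313) (tt N20473 (iv F168319)) (tt N18603 F161314) (tt N20493 (iv F168447)) (tt N18599 F161315) (tt N17171 (iv D34836)))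
theorem Q18911 : ∀ i, i < 18911 → P i := stepQ 18910 Q18910 (allL N18910 (tt N20479 (iv F168355)) (tt N17220 F161316) (tt N20489 (iv F168421)) (tt N17175 F161317) (tt N20491 (iv F168434)) (tt N20495 D36422) (tt N17173 F161318) (tt N18680 F161319) (tt N17172 (iv D34837)) (tt N20496 D36423))
theorem Q18912 : ∀ i, i < 18912 → P i := stepQ 18911 Q18911 (allL N18911 (tt N20480 (iv F168360)) (tt N17221 F161320) (tt N18531 F161321) (tt N17176 F161322) (tt N20493 (iv F168446)) (tt N17184 F161323) (tt N20496 (iv F168465)) (tt N17174 F161324) (tt N18601 F161325) (tt N17173 (iv D34838)))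
theorem Q18913 : ∀ i, i < 18913 → P i := stepQ 18912 Q18912 (allL N18912 (tt N20481 (iv F168367)) (tt N17222 F161326) (tt N18727 F161327) (tt N20495 (iv F168458)) (tt N20467 (iv F168276)) (tt N17175 (iv D34839)) (tt N17185 F161328) (tt N18682 F161329) (tt N18610 F161330) (tt N20497 D36424))
theorem Q18914 : ∀ i, i < 18914 → P i := stepQ 18913 Q18913 (allL N18913 (tt N20482 (iv F168374)) (tt N17223 F161331) (tt N18521 F161332) (tt N20496 (iv F168464)) (tt N18520 F161333) (tt N20497 (iv F168471)) (tt N17176 F161334) (tt N18683 F161335) (tt N18602 F161336) (tt N17175 (iv D34840)))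
theorem Q18915 : ∀ i, i < 18915 → P i := stepQ 18914 Q18914 (allL N18914 (tt N17282 F161337) (tt N18279 F161338) (tt N17180 F161339) (tt N17279 F161340) (tt N17178 F161341) (tt N17982 F161342) (tt N17177 (iv D34841)) (tt N18914 F161343) (tt N20484 (iv F168394)) (tt N17278 F161344))
theorem Q18916 : ∀ i, i < 18916 → P i := stepQ 18915 Q18915 (allL N18915 (tt N18283 F161345) (tt N18782 F161346) (tt N17183 F161347) (tt N17287 F161348) (tt N20484 (iv F168391)) (tt N20498 D36425) (tt N17179 F161349) (tt N18915 F161350) (tt N17178 (iv D34842)) (tt N18572 F161351))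
theorem Q18917 : ∀ i, i < 18917 → P i := stepQ 18916 Q18916 (allL N18916 (tt N18572 F161352) (tt N17229 F161353) (tt N20484 (iv F168389)) (tt N17187 F161354) (tt N17183 F161355) (tt N20499 D36426) (tt N17181 F161356) (tt N18916 F161357) (tt N17180 (iv D34843)) (tt N18283 F161358))
theorem Q18918 : ∀ i, i < 18918 → P i := stepQ 18917 Q18917 (allL N18917 (tt N18531 F161359) (tt N17230 F161360) (tt N20480 (iv F168362)) (tt N17188 F161361) (tt N20492 (iv F168440)) (tt N17181 (iv D34844)) (tt N20500 D36427) (tt N17182 F161362) (tt N17715 F161363) (tt N20475 (iv F168334)))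
theorem Q18919 : ∀ i, i < 18919 → P i := stepQ 18918 Q18918 (allL N18918 (tt N18489 F161364) (tt N17232 F161365) (tt N17780 F161366) (tt N17190 F161367) (tt N20494 (iv F168453)) (tt N18918 F161368) (tt N17182 (iv D34845)) (tt N20501 D36428) (tt N17716 F161369) (tt N17775 F161370))
theorem Q18920 : ∀ i, i < 18920 → P i := stepQ 18919 Q18919 (allL N18919 (tt N20483 (iv F168381)) (tt N17234 F161371) (tt N20498 (iv F168477)) (tt N17185 F161372) (tt N20502 D36429) (tt N17183 (iv D34846)) (tt N20495 (iv F168459)) (tt N18919 F161373) (tt N18779 F161374) (tt N20503 D36430))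
theorem Q18921 : ∀ i, i < 18921 → P i := stepQ 18920 Q18920 (allL N18920 (tt N20484 (iv F168387)) (tt N17235 F161375) (tt N18572 F161376) (tt N17186 F161377) (tt N18283 F161378) (tt N20503 (iv F168505)) (tt N17184 F161379) (tt N18920 F161380) (tt N17282 F161381) (tt N17183 (iv D34847)))
theorem Q18922 : ∀ i, i < 18922 → P i := stepQ 18921 Q18921 (allL N18921 (tt N20485 (iv F168395)) (tt N17237 F161382) (tt N18571 F161383) (tt N20503 (iv F168504)) (tt N18768 F161384) (tt N17186 F161385) (tt N20497 (iv F168472)) (tt N18921 F161386) (tt N18793 F161387) (tt N17185 (iv D34848)))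
theorem Q18923 : ∀ i, i < 18923 → P i := stepQ 18922 Q18922 (allL N18922 (tt N18573 F161388) (tt N17239 F161389) (tt N17569 F161390) (tt N20499 (iv F168484)) (tt N17588 F161391) (tt N17187 (iv D34849)) (tt N20504 D36431) (tt N18922 F161392) (tt N17981 F161393) (tt N18227 F161394))
theorem Q18924 : ∀ i, i < 18924 → P i := stepQ 18923 Q18923 (allL N18923 (tt N18532 F161395) (tt N17241 F161396) (tt N17514 F161397) (tt N20500 (iv F168490)) (tt N17513 F161398) (tt N20504 (iv F168512)) (tt N17188 (iv D34850)) (tt N20505 D36432) (tt N17718 F161399) (tt N20506 D36433))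
theorem Q18925 : ∀ i, i < 18925 → P i := stepQ 18924 Q18924 (allL N18924 (tt N18524 F161400) (tt N17242 F161401) (tt N17509 F161402) (tt N20475 (iv F168331)) (tt N17507 F161403) (tt N17189 F161404) (tt N20506 (iv F168527)) (tt N17191 F161405) (tt N17836 F161406) (tt N17188 (iv D34851)))
theorem Q18926 : ∀ i, i < 18926 → P i := stepQ 18925 Q18925 (allL N18925 (tt N18490 F161407) (tt N17243 F161408) (tt N17469 F161409) (tt N20501 (iv F168495)) (tt N17468 F161410) (tt N18925 F161411) (tt N20505 (iv F168519)) (tt N17190 (iv D34852)) (tt N17719 F161412) (tt N17891 F161413))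
theorem Q18927 : ∀ i, i < 18927 → P i := stepQ 18926 Q18926 (allL N18926 (tt N18160 F161414) (tt N18672 F161415) (tt N17195 F161416) (tt N20507 D36434) (tt N17193 (iv D34853)) (tt N17201 F161417) (tt N17723 F161418) (tt N20508 D36435) (tt N20509 D36436) (tt N17312 F161419))
theorem Q18928 : ∀ i, i < 18928 → P i := stepQ 18927 Q18927 (allL N18927 (tt N18161 F161420) (tt N18806 F161421) (tt N17196 F161422) (tt N18927 F161423) (tt N20508 (iv F168540)) (tt N17194 F161424) (tt N20510 D36437) (tt N17193 (iv D34854)) (tt N20511 D36438) (tt N17313 F161425))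
theorem Q18929 : ∀ i, i < 18929 → P i := stepQ 18928 Q18928 (allL N18928 (tt N18162 F161426) (tt N18808 F161427) (tt N17197 F161428) (tt N18928 F161429) (tt N20509 (iv F168546)) (tt N18928 F161430) (tt N17725 F161431) (tt N20511 (iv F168560)) (tt N17193 (iv D34855)) (tt N20512 D36439))
theorem Q18930 : ∀ i, i < 18930 → P i := stepQ 18929 Q18929 (allL N18929 (tt N18163 F161432) (tt N17408 F161433) (tt N20508 (iv F168539)) (tt N17678 F161434) (tt N17196 F161435) (tt N17204 F161436) (tt N20513 D36440) (tt N17195 (iv D34856)) (tt N20514 D36441) (tt N17315 F161437))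
theorem Q18931 : ∀ i, i < 18931 → P i := stepQ 18930 Q18930 (allL N18930 (tt N18164 F161438) (tt N17409 F161439) (tt N20509 (iv F168545)) (tt N17679 F161440) (tt N17197 F161441) (tt N20515 D36442) (tt N17727 F161442) (tt N20514 (iv F168578)) (tt N17195 (iv D34857)) (tt N20516 D36443))
theorem Q18932 : ∀ i, i < 18932 → P i := stepQ 18931 Q18931 (allL N18931 (tt N18165 F161443) (tt N17410 F161444) (tt N20510 (iv F168550)) (tt N17198 F161445) (tt N20513 (iv F168571)) (tt N18621 F161446) (tt N17196 (iv D34858)) (tt N17728 F161447) (tt N20517 D36444) (tt N17317 F161448))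
theorem Q18933 : ∀ i, i < 18933 → P i := stepQ 18932 Q18932 (allL N18932 (tt N18166 F161449) (tt N17411 F161450) (tt N20511 (iv F168557)) (tt N17199 F161451) (tt N20514 (iv F168577)) (tt N18932 F161452) (tt N20517 (iv F168593)) (tt N17197 F161453) (tt N17196 (iv D34859)) (tt N20518 D36445))
theorem Q18934 : ∀ i, i < 18934 → P i := stepQ 18933 Q18933 (allL N18933 (tt N18167 F161454) (tt N17412 F161455) (tt N20512 (iv F168563)) (tt N17200 F161456) (tt N20516 (iv F168587)) (tt N18933 F161457) (tt N17730 F161458) (tt N20518 (iv F168599)) (tt N17319 F161459) (tt N17197 (iv D34860)))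
theorem Q18935 : ∀ i, i < 18935 → P i := stepQ 18934 Q18934 (allL N18934 (tt N18168 F161460) (tt N17413 F161461) (tt N18934 F161462) (tt N20517 (iv F168592)) (tt N17683 F161463) (tt N20519 D36446) (tt N17199 F161464) (tt N17731 F161465) (tt N17198 (iv D34861)) (tt N20520 D36447))
theorem Q18936 : ∀ i, i < 18936 → P i := stepQ 18935 Q18935 (allL N18935 (tt N18169 F161466) (tt N17414 F161467) (tt N18935 F161468) (tt N20518 (iv F168597)) (tt N17684 F161469) (tt N18935 F161470) (tt N20520 (iv F168611)) (tt N17200 F161471) (tt N17321 F161472) (tt N17199 (iv D34862)))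
theorem Q18937 : ∀ i, i < 18937 → P i := stepQ 18936 Q18936 (allL N18936 (tt N18173 F161473) (tt N18383 F161474) (tt N18594 F161475) (tt N17201 (iv D34863)) (tt N17251 F161476) (tt N20507 (iv F168534)) (tt N17211 F161477) (tt N20521 D36448) (tt N18405 (iv F161479)) (tt N18300 F161478))
theorem Q18938 : ∀ i, i < 18938 → P i := stepQ 18937 Q18937 (allL N18937 (tt N18174 F161480) (tt N18670 F161481) (tt N17204 F161482) (tt N20521 (iv F168617)) (tt N17202 F161483) (tt N20508 (iv F168541)) (tt N20522 D36449) (tt N17201 (iv D34864)) (tt N20523 D36450) (tt N18592 F161484))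
theorem Q18939 : ∀ i, i < 18939 → P i := stepQ 18938 Q18938 (allL N18938 (tt N18175 F161485) (tt N18652 F161486) (tt N17205 F161487) (tt N18405 F161488) (tt N17203 F161489) (tt N20524 D36451) (tt N17213 F161490) (tt N20523 (iv F168632)) (tt N17201 (iv D34865)) (tt N18391 F161491))
theorem Q18940 : ∀ i, i < 18940 → P i := stepQ 18939 Q18939 (allL N18939 (tt N18176 F161492) (tt N18673 F161493) (tt N17206 F161494) (tt N17253 F161495) (tt N20522 (iv F168624)) (tt N18646 F161496) (tt N17202 (iv D34866)) (tt N17214 F161497) (tt N20525 D36452) (tt N18593 F161498))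
theorem Q18941 : ∀ i, i < 18941 → P i := stepQ 18940 Q18940 (allL N18940 (tt N18177 F161499) (tt N18654 F161500) (tt N17207 F161501) (tt N17254 F161502) (tt N20523 (iv F168631)) (tt N18940 F161503) (tt N20525 (iv F168644)) (tt N17203 F161504) (tt N17202 (iv D34867)) (tt N18393 F161505))
theorem Q18942 : ∀ i, i < 18942 → P i := stepQ 18941 Q18941 (allL N18941 (tt N18178 F161506) (tt N18679 F161507) (tt N20522 (iv F168623)) (tt N18597 F161508) (tt N17206 F161509) (tt N20526 D36453) (tt N17204 (iv D34868)) (tt N17216 F161510) (tt N20527 D36454) (tt N18640 F161511))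
theorem Q18943 : ∀ i, i < 18943 → P i := stepQ 18942 Q18942 (allL N18942 (tt N18179 F161512) (tt N18611 F161513) (tt N20523 (iv F168629)) (tt N18598 F161514) (tt N17207 F161515) (tt N20528 D36455) (tt N20527 (iv F168657)) (tt N17205 F161516) (tt N17204 (iv D34869)) (tt N20529 D36456))
theorem Q18944 : ∀ i, i < 18944 → P i := stepQ 18943 Q18943 (allL N18943 (tt N18180 F161517) (tt N18139 F161518) (tt N20524 (iv F168636)) (tt N18137 F161519) (tt N18943 F161520) (tt N17205 (iv D34870)) (tt N20530 D36457) (tt N20528 (iv F168663)) (tt N20515 (iv F168583)) (tt N20531 D36458))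
theorem Q18945 : ∀ i, i < 18945 → P i := stepQ 18944 Q18944 (allL N18944 (tt N18181 F161521) (tt N18603 F161522) (tt N18391 F161523) (tt N18599 F161524) (tt N17208 F161525) (tt N20531 (iv F168681)) (tt N17219 F161526) (tt N20529 (iv F168669)) (tt N18388 F161527) (tt N17205 (iv D34871)))
theorem Q18946 : ∀ i, i < 18946 → P i := stepQ 18945 Q18945 (allL N18945 (tt N18182 F161528) (tt N18680 F161529) (tt N20525 (iv F168642)) (tt N17209 F161530) (tt N20527 (iv F168656)) (tt N20532 D36459) (tt N17207 F161531) (tt N17220 F161532) (tt N17206 (iv D34872)) (tt N20533 D36460))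
theorem Q18947 : ∀ i, i < 18947 → P i := stepQ 18946 Q18946 (allL N18946 (tt N18183 F161533) (tt N18681 F161534) (tt N18393 F161535) (tt N17210 F161536) (tt N20529 (iv F168668)) (tt N18946 F161537) (tt N20533 (iv F168693)) (tt N17208 F161538) (tt N18389 F161539) (tt N17207 (iv D34873)))
theorem Q18948 : ∀ i, i < 18948 → P i := stepQ 18947 Q18947 (allL N18947 (tt N18184 F161540) (tt N18682 F161541) (tt N17257 F161542) (tt N20532 (iv F168685)) (tt N18765 F161543) (tt N17209 (iv D34874)) (tt N18947 F161544) (tt N17222 F161545) (tt N18655 F161546) (tt N20534 D36461))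
theorem Q18949 : ∀ i, i < 18949 → P i := stepQ 18948 Q18948 (allL N18948 (tt N18185 F161547) (tt N18683 F161548) (tt N17258 F161549) (tt N20533 (iv F168692)) (tt N18602 F161550) (tt N20534 (iv F168700)) (tt N17210 F161551) (tt N17223 F161552) (tt N18520 F161553) (tt N17209 (iv D34875)))
theorem Q18950 : ∀ i, i < 18950 → P i := stepQ 18949 Q18949 (allL N18949 (tt N18191 F161554) (tt N18449 F161555) (tt N20450 (iv F168154)) (tt N17212 F161556) (tt N17259 F161557) (tt N17816 F161558) (tt N20535 D36462) (tt N17211 (iv D34876)) (tt N20536 D36463) (tt N18338 F161559))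
theorem Q18951 : ∀ i, i < 18951 → P i := stepQ 18950 Q18950 (allL N18950 (tt N18192 F161560) (tt N18424 F161561) (tt N18657 F161562) (tt N17213 F161563) (tt N17260 F161564) (tt N20537 D36464) (tt N18405 F161565) (tt N20536 (iv F168714)) (tt N17211 (iv D34877)) (tt N18323 F161566))
theorem Q18952 : ∀ i, i < 18952 → P i := stepQ 18951 Q18951 (allL N18951 (tt N18193 F161567) (tt N18719 F161568) (tt N17216 F161569) (tt N20535 (iv F168706)) (tt N17214 F161570) (tt N20538 D36465) (tt N17212 (iv D34878)) (tt N20522 (iv F168625)) (tt N20539 D36466) (tt N18614 F161571))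
theorem Q18953 : ∀ i, i < 18953 → P i := stepQ 18952 Q18952 (allL N18952 (tt N18194 F161572) (tt N18698 F161573) (tt N17217 F161574) (tt N20536 (iv F168712)) (tt N17215 F161575) (tt N20540 D36467) (tt N20539 (iv F168733)) (tt N17213 F161576) (tt N17212 (iv D34879)) (tt N18607 F161577))
theorem Q18954 : ∀ i, i < 18954 → P i := stepQ 18953 Q18953 (allL N18953 (tt N18195 F161578) (tt N18700 F161579) (tt N17218 F161580) (tt N20537 (iv F168719)) (tt N17226 F161581) (tt N17213 (iv D34880)) (tt N20541 D36468) (tt N20540 (iv F168739)) (tt N17820 F161582) (tt N18608 F161583))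
theorem Q18955 : ∀ i, i < 18955 → P i := stepQ 18954 Q18954 (allL N18954 (tt N18197 F161584) (tt N18702 F161585) (tt N17220 F161586) (tt N17263 F161587) (tt N20539 (iv F168732)) (tt N20542 D36469) (tt N17215 F161588) (tt N20525 (iv F168645)) (tt N17214 (iv D34881)) (tt N18609 F161589))
theorem Q18956 : ∀ i, i < 18956 → P i := stepQ 18955 Q18955 (allL N18955 (tt N18199 F161590) (tt N20490 (iv F168426)) (tt N20538 (iv F168725)) (tt N20452 (iv F168169)) (tt N18695 F161591) (tt N17216 (iv D34882)) (tt N17824 F161592) (tt N20526 (iv F168651)) (tt N20543 D36470) (tt N18684 F161593))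
theorem Q18957 : ∀ i, i < 18957 → P i := stepQ 18956 Q18956 (allL N18956 (tt N18200 F161594) (tt N20491 (iv F168432)) (tt N20539 (iv F168731)) (tt N20453 (iv F168177)) (tt N17220 F161595) (tt N20544 D36471) (tt N17217 F161596) (tt N20527 (iv F168658)) (tt N17216 (iv D34883)) (tt N20545 D36472))
theorem Q18958 : ∀ i, i < 18958 → P i := stepQ 18957 Q18957 (allL N18957 (tt N18201 F161597) (tt N20492 (iv F168438)) (tt N20540 (iv F168737)) (tt N20454 (iv F168184)) (tt N17230 F161598) (tt N17217 (iv D34884)) (tt N20546 D36473) (tt N17218 F161599) (tt N17826 F161600) (tt N20547 D36474))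
theorem Q18959 : ∀ i, i < 18959 → P i := stepQ 18958 Q18958 (allL N18958 (tt N18202 F161601) (tt N20493 (iv F168443)) (tt N18607 F161602) (tt N20455 (iv F168191)) (tt N17221 F161603) (tt N20547 (iv F168770)) (tt N20545 (iv F168762)) (tt N17219 F161604) (tt N18604 F161605) (tt N17217 (iv D34885)))
theorem Q18960 : ∀ i, i < 18960 → P i := stepQ 18959 Q18959 (allL N18959 (tt N18203 F161606) (tt N20494 (iv F168450)) (tt N20541 (iv F168744)) (tt N20456 (iv F168198)) (tt N17232 F161607) (tt N20530 (iv F168675)) (tt N17218 (iv D34886)) (tt N20548 D36475) (tt N17828 F161608) (tt N20549 D36476))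
theorem Q18961 : ∀ i, i < 18961 → P i := stepQ 18960 Q18960 (allL N18960 (tt N18204 F161609) (tt N20473 (iv F168315)) (tt N18608 F161610) (tt N20457 (iv F168206)) (tt N17233 F161611) (tt N17219 F161612) (tt N20549 (iv F168780)) (tt N20547 (iv F168771)) (tt N20469 (iv F168293)) (tt N17218 (iv D34887)))
theorem Q18962 : ∀ i, i < 18962 → P i := stepQ 18961 Q18961 (allL N18961 (tt N18205 F161613) (tt N20495 (iv F168457)) (tt N20542 (iv F168750)) (tt N17222 F161614) (tt N20550 D36477) (tt N17220 (iv D34888)) (tt N17234 F161615) (tt N20532 (iv F168687)) (tt N18701 F161616) (tt N20551 D36478))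
theorem Q18963 : ∀ i, i < 18963 → P i := stepQ 18962 Q18962 (allL N18962 (tt N18206 F161617) (tt N20496 (iv F168462)) (tt N18609 F161618) (tt N17223 F161619) (tt N20545 (iv F168761)) (tt N20551 (iv F168788)) (tt N17221 F161620) (tt N20533 (iv F168694)) (tt N18605 F161621) (tt N17220 (iv D34889)))
theorem Q18964 : ∀ i, i < 18964 → P i := stepQ 18963 Q18963 (allL N18963 (tt N18207 F161622) (tt N20467 (iv F168274)) (tt N17267 F161623) (tt N20552 D36479) (tt N17222 (iv D34890)) (tt N18742 F161624) (tt N17236 F161625) (tt N18765 F161626) (tt N18703 F161627) (tt N20553 D36480))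
theorem Q18965 : ∀ i, i < 18965 → P i := stepQ 18964 Q18964 (allL N18964 (tt N18208 F161628) (tt N20497 (iv F168468)) (tt N17268 F161629) (tt N20551 (iv F168787)) (tt N20553 (iv F168798)) (tt N17223 F161630) (tt N17237 F161631) (tt N20534 (iv F168702)) (tt N20554 D36481) (tt N17222 (iv D34891)))
theorem Q18966 : ∀ i, i < 18966 → P i := stepQ 18965 Q18965 (allL N18965 (tt N17966 F161632) (tt N18282 F161633) (tt N17228 F161634) (tt N18965 F161635) (tt N17961 F161636) (tt N17224 (iv D34892)) (tt N17840 F161637) (tt N18965 F161638) (tt N20555 D36482) (tt N17285 F161639))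
theorem Q18967 : ∀ i, i < 18967 → P i := stepQ 18966 Q18966 (allL N18966 (tt N18210 F161640) (tt N18785 F161641) (tt N17229 F161642) (tt N18966 F161643) (tt N17227 F161644) (tt N20556 D36483) (tt N17225 F161645) (tt N18966 F161646) (tt N17224 (iv D34893)) (tt N18776 F161647))
theorem Q18968 : ∀ i, i < 18968 → P i := stepQ 18967 Q18967 (allL N18967 (tt N18211 F161648) (tt N18787 F161649) (tt N17230 F161650) (tt N18967 F161651) (tt N20540 (iv F168738)) (tt N17225 (iv D34894)) (tt N20557 D36484) (tt N17226 F161652) (tt N17841 F161653) (tt N18777 F161654))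
theorem Q18969 : ∀ i, i < 18969 → P i := stepQ 18968 Q18968 (allL N18968 (tt N18213 F161655) (tt N18789 F161656) (tt N17232 F161657) (tt N18968 F161658) (tt N20541 (iv F168745)) (tt N18968 F161659) (tt N17226 (iv D34895)) (tt N20558 D36485) (tt N17842 F161660) (tt N18778 F161661))
theorem Q18970 : ∀ i, i < 18970 → P i := stepQ 18969 Q18969 (allL N18969 (tt N18215 F161662) (tt N18791 F161663) (tt N17234 F161664) (tt N17269 F161665) (tt N20559 D36486) (tt N17227 (iv D34896)) (tt N20542 (iv F168752)) (tt N18969 F161666) (tt N18781 F161667) (tt N18779 F161668))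
theorem Q18971 : ∀ i, i < 18971 → P i := stepQ 18970 Q18970 (allL N18970 (tt N18209 F161669) (tt N17979 F161670) (tt N20555 (iv F168813)) (tt N17238 F161671) (tt N18783 F161672) (tt N20560 D36487) (tt N17844 F161673) (tt N18970 F161674) (tt N17228 (iv D34897)) (tt N17969 F161675))
theorem Q18972 : ∀ i, i < 18972 → P i := stepQ 18971 Q18971 (allL N18971 (tt N18217 F161676) (tt N20499 (iv F168483)) (tt N20556 (iv F168821)) (tt N17239 F161677) (tt N20561 D36488) (tt N17229 (iv D34898)) (tt N20562 D36489) (tt N18971 F161678) (tt N20560 (iv F168848)) (tt N20563 D36490))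
theorem Q18973 : ∀ i, i < 18973 → P i := stepQ 18972 Q18972 (allL N18972 (tt N18218 F161679) (tt N18283 F161680) (tt N18776 F161681) (tt N17240 F161682) (tt N17235 F161683) (tt N20563 (iv F168860)) (tt N17231 F161684) (tt N18972 F161685) (tt N17286 F161686) (tt N17229 (iv D34899)))
theorem Q18974 : ∀ i, i < 18974 → P i := stepQ 18973 Q18973 (allL N18973 (tt N18219 F161687) (tt N20500 (iv F168489)) (tt N20557 (iv F168827)) (tt N17241 F161688) (tt N20546 (iv F168765)) (tt N20562 (iv F168855)) (tt N17230 (iv D34900)) (tt N20564 D36491) (tt N17845 F161689) (tt N20565 D36492))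
theorem Q18975 : ∀ i, i < 18975 → P i := stepQ 18974 Q18974 (allL N18974 (tt N18220 F161690) (tt N20475 (iv F168329)) (tt N18777 F161691) (tt N17242 F161692) (tt N20547 (iv F168769)) (tt N17231 F161693) (tt N20565 (iv F168870)) (tt N17233 F161694) (tt N20470 (iv F168300)) (tt N17230 (iv D34901)))
theorem Q18976 : ∀ i, i < 18976 → P i := stepQ 18975 Q18975 (allL N18975 (tt N18221 F161695) (tt N20501 (iv F168493)) (tt N20558 (iv F168833)) (tt N17243 F161696) (tt N20548 (iv F168773)) (tt N18975 F161697) (tt N20564 (iv F168865)) (tt N17232 (iv D34902)) (tt N17846 F161698) (tt N20566 D36493))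
theorem Q18977 : ∀ i, i < 18977 → P i := stepQ 18976 Q18976 (allL N18976 (tt N18222 F161699) (tt N17775 F161700) (tt N18778 F161701) (tt N17244 F161702) (tt N20549 (iv F168779)) (tt N18976 F161703) (tt N17233 F161704) (tt N20566 (iv F168876)) (tt N17771 F161705) (tt N17232 (iv D34903)))
theorem Q18978 : ∀ i, i < 18978 → P i := stepQ 18977 Q18977 (allL N18977 (tt N18223 F161706) (tt N20502 (iv F168499)) (tt N20559 (iv F168840)) (tt N20567 D36494) (tt N17234 (iv D34904)) (tt N20561 (iv F168851)) (tt N20550 (iv F168783)) (tt N18977 F161707) (tt N18790 F161708) (tt N20568 D36495))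
theorem Q18979 : ∀ i, i < 18979 → P i := stepQ 18978 Q18978 (allL N18978 (tt N18224 F161709) (tt N20503 (iv F168502)) (tt N18779 F161710) (tt N17237 F161711) (tt N20568 (iv F168884)) (tt N17235 F161712) (tt N20551 (iv F168789)) (tt N18978 F161713) (tt N20498 (iv F168480)) (tt N17234 (iv D34905)))
theorem Q18980 : ∀ i, i < 18980 → P i := stepQ 18979 Q18979 (allL N18979 (tt N18225 F161714) (tt N20468 (iv F168282)) (tt N20569 D36496) (tt N17236 (iv D34906)) (tt N20567 (iv F168879)) (tt N17248 F161715) (tt N20552 (iv F168792)) (tt N18979 F161716) (tt N18792 F161717) (tt N20570 D36497))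
theorem Q18981 : ∀ i, i < 18981 → P i := stepQ 18980 Q18980 (allL N18980 (tt N18226 F161718) (tt N18768 F161719) (tt N17272 F161720) (tt N20570 (iv F168896)) (tt N17237 F161721) (tt N17249 F161722) (tt N20553 (iv F168800)) (tt N18980 F161723) (tt N18579 F161724) (tt N17236 (iv D34907)))
theorem Q18982 : ∀ i, i < 18982 → P i := stepQ 18981 Q18981 (allL N18981 (tt N18227 F161725) (tt N18793 F161726) (tt N17273 F161727) (tt N20498 (iv F168478)) (tt N18579 F161728) (tt N17287 F161729) (tt N20554 (iv F168808)) (tt N18981 F161730) (tt N17237 (iv D34908)) (tt N18573 F161731))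
theorem Q18983 : ∀ i, i < 18983 → P i := stepQ 18982 Q18982 (allL N18982 (tt N18228 F161732) (tt N17981 F161733) (tt N18982 F161734) (tt N20560 (iv F168846)) (tt N20571 D36498) (tt N17238 (iv D34909)) (tt N20572 D36499) (tt N18982 F161735) (tt N17239 F161736) (tt N17970 F161737))
theorem Q18984 : ∀ i, i < 18984 → P i := stepQ 18983 Q18983 (allL N18983 (tt N18229 F161738) (tt N17588 F161739) (tt N18983 F161740) (tt N20573 D36500) (tt N17239 (iv D34910)) (tt N17246 F161741) (tt N20574 D36501) (tt N18983 F161742) (tt N20571 (iv F168905)) (tt N20575 D36502))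
theorem Q18985 : ∀ i, i < 18985 → P i := stepQ 18984 Q18984 (allL N18984 (tt N18230 F161743) (tt N20504 (iv F168509)) (tt N18984 F161744) (tt N20562 (iv F168854)) (tt N20574 (iv F168920)) (tt N17241 F161745) (tt N17239 (iv D34911)) (tt N20576 D36503) (tt N20572 (iv F168911)) (tt N20577 D36504))
theorem Q18986 : ∀ i, i < 18986 → P i := stepQ 18985 Q18985 (allL N18985 (tt N18231 F161746) (tt N18227 F161747) (tt N18985 F161748) (tt N20563 (iv F168859)) (tt N20575 (iv F168925)) (tt N17240 F161749) (tt N20577 (iv F168937)) (tt N18985 F161750) (tt N18152 F161751) (tt N17239 (iv D34912)))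
theorem Q18987 : ∀ i, i < 18987 → P i := stepQ 18986 Q18986 (allL N18986 (tt N18232 F161752) (tt N20505 (iv F168516)) (tt N18986 F161753) (tt N20564 (iv F168864)) (tt N20463 (iv F168247)) (tt N20576 (iv F168931)) (tt N17243 F161754) (tt N17241 (iv D34913)) (tt N17849 F161755) (tt N20578 D36505))
theorem Q18988 : ∀ i, i < 18988 → P i := stepQ 18987 Q18987 (allL N18987 (tt N18233 F161756) (tt N20506 (iv F168523)) (tt N18987 F161757) (tt N20565 (iv F168869)) (tt N20464 (iv F168255)) (tt N20577 (iv F168936)) (tt N17242 F161758) (tt N20578 (iv F168944)) (tt N20579 D36506) (tt N17241 (iv D34914)))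
theorem Q18989 : ∀ i, i < 18989 → P i := stepQ 18988 Q18988 (allL N18988 (tt N17921 F161759) (tt N17836 F161760) (tt N18988 F161761) (tt N20470 (iv F168298)) (tt N20465 (iv F168262)) (tt N17288 F161762) (tt N20579 (iv F168950)) (tt N17245 F161763) (tt N17242 (iv D34915)) (tt N17709 F161764))
theorem Q18990 : ∀ i, i < 18990 → P i := stepQ 18989 Q18989 (allL N18989 (tt N18234 F161765) (tt N17891 F161766) (tt N18989 F161767) (tt N20566 (iv F168874)) (tt N18810 F161768) (tt N18989 F161769) (tt N20578 (iv F168943)) (tt N17244 F161770) (tt N17887 F161771) (tt N17243 (iv D34916)))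
theorem Q18991 : ∀ i, i < 18991 → P i := stepQ 18990 Q18990 (allL N18990 (tt N18235 F161772) (tt N17587 F161773) (tt N20580 D36507) (tt N17246 (iv D34917)) (tt N17248 F161774) (tt N20573 (iv F168915)) (tt N17586 F161775) (tt N18990 F161776) (tt N18990 F161777) (tt N20581 D36508))
theorem Q18992 : ∀ i, i < 18992 → P i := stepQ 18991 Q18991 (allL N18991 (tt N18236 F161778) (tt N17578 F161779) (tt N18991 F161780) (tt N20581 (iv F168964)) (tt N17247 F161781) (tt N20575 (iv F168926)) (tt N17574 F161782) (tt N18991 F161783) (tt N20582 D36509) (tt N17246 (iv D34918)))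
theorem Q18993 : ∀ i, i < 18993 → P i := stepQ 18992 Q18992 (allL N18992 (tt N18237 F161784) (tt N17580 F161785) (tt N18992 F161786) (tt N17250 F161787) (tt N20582 (iv F168973)) (tt N17289 F161788) (tt N17576 F161789) (tt N18992 F161790) (tt N17247 (iv D34919)) (tt N18992 F161791))
theorem Q18994 : ∀ i, i < 18994 → P i := stepQ 18993 Q18993 (allL N18993 (tt N18238 F161792) (tt N18474 F161793) (tt N17248 (iv D34920)) (tt N17274 F161794) (tt N20580 (iv F168956)) (tt N20569 (iv F168889)) (tt N18469 F161795) (tt N18993 F161796) (tt N18993 F161797) (tt N18468 (iv F161798)))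
theorem Q18995 : ∀ i, i < 18995 → P i := stepQ 18994 Q18994 (allL N18994 (tt N18239 F161799) (tt N18356 F161800) (tt N18468 F161801) (tt N17249 F161802) (tt N20581 (iv F168965)) (tt N20570 (iv F168897)) (tt N18354 F161803) (tt N18994 F161804) (tt N18353 (iv F161805)) (tt N17248 (iv D34921)))
theorem Q18996 : ∀ i, i < 18996 → P i := stepQ 18995 Q18995 (allL N18995 (tt N18245 F161806) (tt N18385 F161807) (tt N18723 F161808) (tt N17252 F161809) (tt N20521 (iv F168618)) (tt N18995 F161810) (tt N20583 D36510) (tt N17251 (iv D34922)) (tt N18407 F161811) (tt N18302 F161812))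
theorem Q18997 : ∀ i, i < 18997 → P i := stepQ 18996 Q18996 (allL N18996 (tt N18246 F161813) (tt N18387 F161814) (tt N17255 F161815) (tt N20583 (iv F168981)) (tt N17253 F161816) (tt N20584 D36511) (tt N17252 (iv D34923)) (tt N17261 F161817) (tt N18409 F161818) (tt N18303 F161819))
theorem Q18998 : ∀ i, i < 18998 → P i := stepQ 18997 Q18997 (allL N18997 (tt N18247 F161820) (tt N18656 F161821) (tt N17256 F161822) (tt N20525 (iv F168643)) (tt N18409 F161823) (tt N20585 D36512) (tt N17254 F161824) (tt N17263 F161825) (tt N17253 (iv D34924)) (tt N18394 F161826))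
theorem Q18999 : ∀ i, i < 18999 → P i := stepQ 18998 Q18998 (allL N18998 (tt N18248 F161827) (tt N18824 F161828) (tt N20584 (iv F168987)) (tt N18750 F161829) (tt N18732 F161830) (tt N17255 (iv D34925)) (tt N18998 F161831) (tt N17264 F161832) (tt N20586 D36513) (tt N18529 F161833))
theorem Q19000 : ∀ i, i < 19000 → P i := stepQ 18999 Q18999 (allL N18999 (tt N18249 F161834) (tt N18848 F161835) (tt N20585 (iv F168994)) (tt N17257 F161836) (tt N20587 D36514) (tt N17256 (iv D34926)) (tt N18999 F161837) (tt N17266 F161838) (tt N18734 F161839) (tt N18522 F161840))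
theorem Q19001 : ∀ i, i < 19001 → P i := stepQ 19000 Q19000 (allL N19000 (tt N18250 F161841) (tt N18835 F161842) (tt N20534 (iv F168698)) (tt N18522 F161843) (tt N18767 F161844) (tt N17258 F161845) (tt N19000 F161846) (tt N17268 F161847) (tt N18749 (iv F161848)) (tt N17257 (iv D34927)))
theorem Q19002 : ∀ i, i < 19002 → P i := stepQ 19001 Q19001 (allL N19001 (tt N18255 F161849) (tt N18452 F161850) (tt N20466 (iv F168268)) (tt N17261 F161851) (tt N20535 (iv F168707)) (tt N20588 D36515) (tt N17259 (iv D34928)) (tt N20583 (iv F168982)) (tt N20589 D36516) (tt N18339 F161852))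
theorem Q19003 : ∀ i, i < 19003 → P i := stepQ 19002 Q19002 (allL N19002 (tt N18256 F161853) (tt N18426 F161854) (tt N18738 F161855) (tt N17262 F161856) (tt N20536 (iv F168713)) (tt N19002 F161857) (tt N20589 (iv F169024)) (tt N17260 F161858) (tt N17259 (iv D34929)) (tt N18325 F161859))
theorem Q19004 : ∀ i, i < 19004 → P i := stepQ 19003 Q19003 (allL N19003 (tt N18257 F161860) (tt N18454 F161861) (tt N17264 F161862) (tt N20588 (iv F169017)) (tt N18753 F161863) (tt N17261 (iv D34930)) (tt N17276 F161864) (tt N20584 (iv F168990)) (tt N20590 D36517) (tt N18340 F161865))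
theorem Q19005 : ∀ i, i < 19005 → P i := stepQ 19004 Q19004 (allL N19004 (tt N18258 F161866) (tt N18428 F161867) (tt N17265 F161868) (tt N20589 (iv F169023)) (tt N17263 F161869) (tt N20591 D36518) (tt N17262 F161870) (tt N18409 F161871) (tt N17261 (iv D34931)) (tt N18326 F161872))
theorem Q19006 : ∀ i, i < 19006 → P i := stepQ 19005 Q19005 (allL N19005 (tt N18259 F161873) (tt N18704 F161874) (tt N17266 F161875) (tt N20542 (iv F168751)) (tt N20592 D36519) (tt N17263 (iv D34932)) (tt N17269 F161876) (tt N20585 (iv F168996)) (tt N18754 F161877) (tt N18610 F161878))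
theorem Q19007 : ∀ i, i < 19007 → P i := stepQ 19006 Q19006 (allL N19006 (tt N18261 F161879) (tt N18838 F161880) (tt N20590 (iv F169029)) (tt N18857 F161881) (tt N18756 F161882) (tt N20593 D36520) (tt N17277 F161883) (tt N20586 (iv F169005)) (tt N17264 (iv D34933)) (tt N20594 D36521))
theorem Q19008 : ∀ i, i < 19008 → P i := stepQ 19007 Q19007 (allL N19007 (tt N18262 F161884) (tt N18831 F161885) (tt N20591 (iv F169034)) (tt N18518 F161886) (tt N20595 D36522) (tt N17265 (iv D34934)) (tt N19007 F161887) (tt N18537 F161888) (tt N20593 (iv F169050)) (tt N18495 F161889))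
theorem Q19009 : ∀ i, i < 19009 → P i := stepQ 19008 Q19008 (allL N19008 (tt N18263 F161890) (tt N18856 F161891) (tt N20592 (iv F169040)) (tt N20594 (iv F169054)) (tt N17266 (iv D34935)) (tt N20595 (iv F169063)) (tt N17270 F161892) (tt N20587 (iv F169012)) (tt N18758 F161893) (tt N18857 F161894))
theorem Q19010 : ∀ i, i < 19010 → P i := stepQ 19009 Q19009 (allL N19009 (tt N18265 F161895) (tt N18844 F161896) (tt N20596 D36523) (tt N17267 (iv D34936)) (tt N20594 (iv F169055)) (tt N18515 F161897) (tt N17271 F161898) (tt N18563 F161899) (tt N18760 F161900) (tt N18756 (iv F161901)))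
theorem Q19011 : ∀ i, i < 19011 → P i := stepQ 19010 Q19010 (allL N19010 (tt N18266 F161902) (tt N18834 F161903) (tt N20553 (iv F168797)) (tt N18756 F161904) (tt N17268 F161905) (tt N18745 F161906) (tt N17272 F161907) (tt N18767 F161908) (tt N18543 F161909) (tt N17267 (iv D34937)))
theorem Q19012 : ∀ i, i < 19012 → P i := stepQ 19011 Q19011 (allL N19011 (tt N18267 F161910) (tt N18822 F161911) (tt N20554 (iv F168805)) (tt N18727 F161912) (tt N18543 F161913) (tt N18527 F161914) (tt N17273 F161915) (tt N18749 F161916) (tt N17268 (iv D34938)) (tt N18534 F161917))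
theorem Q19013 : ∀ i, i < 19013 → P i := stepQ 19012 Q19012 (allL N19012 (tt N18268 F161918) (tt N18585 F161919) (tt N17270 F161920) (tt N20597 D36524) (tt N17269 (iv D34939)) (tt N19012 F161921) (tt N20592 (iv F169041)) (tt N19012 F161922) (tt N18583 F161923) (tt N18780 F161924))
theorem Q19014 : ∀ i, i < 19014 → P i := stepQ 19013 Q19013 (allL N19013 (tt N18270 F161925) (tt N18839 F161926) (tt N20598 D36525) (tt N17270 (iv D34940)) (tt N17271 F161927) (tt N19013 F161928) (tt N20594 (iv F169057)) (tt N19013 F161929) (tt N18771 F161930) (tt N17277 F161931))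
theorem Q19015 : ∀ i, i < 19015 → P i := stepQ 19014 Q19014 (allL N19014 (tt N18271 F161932) (tt N18570 F161933) (tt N17271 (iv D34941)) (tt N20569 (iv F168888)) (tt N20598 (iv F169083)) (tt N17274 F161934) (tt N20596 (iv F169071)) (tt N19014 F161935) (tt N18775 F161936) (tt N18569 F161937))
theorem Q19016 : ∀ i, i < 19016 → P i := stepQ 19015 Q19015 (allL N19015 (tt N18277 F161938) (tt N18480 F161939) (tt N20468 (iv F168283)) (tt N17276 F161940) (tt N20599 D36526) (tt N17275 (iv D34942)) (tt N20588 (iv F169018)) (tt N19015 F161941) (tt N20600 D36527) (tt N18358 F161942))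
theorem Q19017 : ∀ i, i < 19017 → P i := stepQ 19016 Q19016 (allL N19016 (tt N18278 F161943) (tt N18483 F161944) (tt N17277 F161945) (tt N20600 (iv F169097)) (tt N18569 F161946) (tt N19016 F161947) (tt N20590 (iv F169031)) (tt N19016 F161948) (tt N17276 (iv D34943)) (tt N20598 (iv F169087)))
theorem Q19018 : ∀ i, i < 19018 → P i := stepQ 19017 Q19017 (allL N19017 (tt N17284 F161949) (tt N18280 F161950) (tt N17946 F161951) (tt N17290 F161952) (tt N18281 F161953) (tt N17944 F161954) (tt N19017 F161955) (tt N19017 F161956) (tt N17281 (iv D34944)) (tt N19017 F161957))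
theorem Q19019 : ∀ i, i < 19019 → P i := stepQ 19018 Q19018 (allL N19018 (tt N18281 F161958) (tt N17290 F161959) (tt N18770 F161960) (tt N18280 F161961) (tt N17284 F161962) (tt N18577 F161963) (tt N19018 F161964) (tt N19018 F161965) (tt N17283 (iv D34945)) (tt N19018 F161966))
theorem Q19020 : ∀ i, i < 19020 → P i := stepQ 19019 Q19019 (allL N19019 (tt N18015 F161967) (tt N17293 F161968) (tt N18284 F161969) (tt N19019 F161970) (tt N20601 D36528) (tt N17292 (iv D34946)) (tt N18615 F161971) (tt N20602 D36529) (tt N18345 F161972) (tt N18158 F161973))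
theorem Q19021 : ∀ i, i < 19021 → P i := stepQ 19020 Q19020 (allL N19020 (tt N18014 F161974) (tt N17294 F161975) (tt N18285 F161976) (tt N19020 F161977) (tt N17733 F161978) (tt N20602 (iv F169112)) (tt N17722 F161979) (tt N17292 (iv D34947)) (tt N17300 F161980) (tt N18159 F161981))
theorem Q19022 : ∀ i, i < 19022 → P i := stepQ 19021 Q19021 (allL N19021 (tt N17312 F161982) (tt N20601 (iv F169101)) (tt N17295 F161983) (tt N20603 D36530) (tt N17293 (iv D34948)) (tt N17734 F161984) (tt N18617 F161985) (tt N20604 D36531) (tt N18404 F161986) (tt N18160 F161987))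
theorem Q19023 : ∀ i, i < 19023 → P i := stepQ 19022 Q19022 (allL N19022 (tt N17313 F161988) (tt N20602 (iv F169109)) (tt N17296 F161989) (tt N19022 F161990) (tt N20604 (iv F169125)) (tt N17294 F161991) (tt N20605 D36532) (tt N17293 (iv D34949)) (tt N18457 F161992) (tt N18161 F161993))
theorem Q19024 : ∀ i, i < 19024 → P i := stepQ 19023 Q19023 (allL N19023 (tt N17315 F161994) (tt N18288 F161995) (tt N20604 (iv F169124)) (tt N17622 F161996) (tt N17296 F161997) (tt N17736 F161998) (tt N20606 D36533) (tt N17295 (iv D34950)) (tt N20607 D36534) (tt N18163 F161999))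
theorem Q19025 : ∀ i, i < 19025 → P i := stepQ 19024 Q19024 (allL N19024 (tt N17316 F162000) (tt N17783 F162001) (tt N18404 F162002) (tt N17623 F162003) (tt N17297 F162004) (tt N18399 F162005) (tt N18620 F162006) (tt N20607 (iv F169148)) (tt N17295 (iv D34951)) (tt N18186 (iv F162007)))
theorem Q19026 : ∀ i, i < 19026 → P i := stepQ 19025 Q19025 (allL N19025 (tt N17317 F162008) (tt N18289 F162009) (tt N20605 (iv F169130)) (tt N17298 F162010) (tt N20606 (iv F169139)) (tt N17728 F162011) (tt N17296 (iv D34952)) (tt N18621 F162012) (tt N20608 D36535) (tt N18165 F162013))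
theorem Q19027 : ∀ i, i < 19027 → P i := stepQ 19026 Q19026 (allL N19026 (tt N17318 F162014) (tt N17896 F162015) (tt N18457 F162016) (tt N17299 F162017) (tt N20607 (iv F169146)) (tt N17302 F162018) (tt N20608 (iv F169154)) (tt N17297 F162019) (tt N17296 (iv D34953)) (tt N18252 (iv F162020)))
theorem Q19028 : ∀ i, i < 19028 → P i := stepQ 19027 Q19027 (allL N19027 (tt N17320 F162021) (tt N17897 F162022) (tt N19027 F162023) (tt N20608 (iv F169153)) (tt N17626 F162024) (tt N20609 D36536) (tt N17299 F162025) (tt N18623 F162026) (tt N17298 (iv D34954)) (tt N18253 (iv F162027)))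
theorem Q19029 : ∀ i, i < 19029 → P i := stepQ 19028 Q19028 (allL N19028 (tt N17328 F162028) (tt N17947 F162029) (tt N18456 F162030) (tt N17303 F162031) (tt N18455 F162032) (tt N20610 D36537) (tt N17302 F162033) (tt N19028 F162034) (tt N17301 (iv D34955)) (tt N18275 (iv F162035)))
theorem Q19030 : ∀ i, i < 19030 → P i := stepQ 19029 Q19029 (allL N19029 (tt N17330 F162036) (tt N17948 F162037) (tt N19029 F162038) (tt N20610 (iv F169168)) (tt N17955 F162039) (tt N17303 (iv D34956)) (tt N20609 (iv F169161)) (tt N19029 F162040) (tt N18031 F162041) (tt N18276 F162042))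
theorem Q19031 : ∀ i, i < 19031 → P i := stepQ 19030 Q19030 (allL N19030 (tt N18617 F162043) (tt N18671 F162044) (tt N17306 F162045) (tt N20611 D36538) (tt N17304 (iv D34957)) (tt N17741 F162046) (tt N17312 F162047) (tt N20612 D36539) (tt N20613 D36540) (tt N17723 F162048))
theorem Q19032 : ∀ i, i < 19032 → P i := stepQ 19031 Q19031 (allL N19031 (tt N18618 F162049) (tt N18807 F162050) (tt N17307 F162051) (tt N19031 F162052) (tt N20612 (iv F169182)) (tt N17305 F162053) (tt N20614 D36541) (tt N17304 (iv D34958)) (tt N20615 D36542) (tt N17724 F162054))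
theorem Q19033 : ∀ i, i < 19033 → P i := stepQ 19032 Q19032 (allL N19032 (tt N18458 F162055) (tt N18799 F162056) (tt N17308 F162057) (tt N19032 F162058) (tt N20613 (iv F169188)) (tt N19032 F162059) (tt N17314 F162060) (tt N20615 (iv F169202)) (tt N17304 (iv D34959)) (tt N20616 D36543))
theorem Q19034 : ∀ i, i < 19034 → P i := stepQ 19033 Q19033 (allL N19033 (tt N18619 F162061) (tt N17369 F162062) (tt N20612 (iv F169181)) (tt N17649 F162063) (tt N17307 F162064) (tt N17744 F162065) (tt N20617 D36544) (tt N17306 (iv D34960)) (tt N20618 D36545) (tt N17726 F162066))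
theorem Q19035 : ∀ i, i < 19035 → P i := stepQ 19034 Q19034 (allL N19034 (tt N18620 F162067) (tt N17370 F162068) (tt N20613 (iv F169187)) (tt N17650 F162069) (tt N17308 F162070) (tt N20619 D36546) (tt N17316 F162071) (tt N20618 (iv F169220)) (tt N17306 (iv D34961)) (tt N20620 D36547))
theorem Q19036 : ∀ i, i < 19036 → P i := stepQ 19035 Q19035 (allL N19035 (tt N18621 F162072) (tt N17371 F162073) (tt N20614 (iv F169192)) (tt N17309 F162074) (tt N20617 (iv F169213)) (tt N18165 F162075) (tt N17307 (iv D34962)) (tt N17317 F162076) (tt N20621 D36548) (tt N17728 F162077))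
theorem Q19037 : ∀ i, i < 19037 → P i := stepQ 19036 Q19036 (allL N19036 (tt N18622 F162078) (tt N17372 F162079) (tt N20615 (iv F169199)) (tt N17310 F162080) (tt N20618 (iv F169219)) (tt N19036 F162081) (tt N20621 (iv F169235)) (tt N17308 F162082) (tt N17307 (iv D34963)) (tt N20622 D36549))
theorem Q19038 : ∀ i, i < 19038 → P i := stepQ 19037 Q19037 (allL N19037 (tt N18241 F162083) (tt N17373 F162084) (tt N20616 (iv F169205)) (tt N17311 F162085) (tt N20620 (iv F169229)) (tt N19037 F162086) (tt N17319 F162087) (tt N20622 (iv F169241)) (tt N17730 F162088) (tt N17308 (iv D34964)))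
theorem Q19039 : ∀ i, i < 19039 → P i := stepQ 19038 Q19038 (allL N19038 (tt N18623 F162089) (tt N17374 F162090) (tt N19038 F162091) (tt N20621 (iv F169234)) (tt N17654 F162092) (tt N20623 D36550) (tt N17310 F162093) (tt N17320 F162094) (tt N17309 (iv D34965)) (tt N20624 D36551))
theorem Q19040 : ∀ i, i < 19040 → P i := stepQ 19039 Q19039 (allL N19039 (tt N18242 F162095) (tt N17375 F162096) (tt N19039 F162097) (tt N20622 (iv F169239)) (tt N17655 F162098) (tt N19039 F162099) (tt N20624 (iv F169253)) (tt N17311 F162100) (tt N17732 F162101) (tt N17310 (iv D34966)))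
theorem Q19041 : ∀ i, i < 19041 → P i := stepQ 19040 Q19040 (allL N19040 (tt N20603 (iv F169115)) (tt N18382 F162102) (tt N17690 F162103) (tt N17312 (iv D34967)) (tt N19040 F162104) (tt N18300 F162105) (tt N20611 (iv F169177)) (tt N20625 D36552) (tt N20626 D36553) (tt N20507 (iv F168536)))
theorem Q19042 : ∀ i, i < 19042 → P i := stepQ 19041 Q19041 (allL N19041 (tt N20604 (iv F169123)) (tt N18669 F162106) (tt N17315 F162107) (tt N20625 (iv F169258)) (tt N17313 F162108) (tt N18592 F162109) (tt N20627 D36554) (tt N17312 (iv D34968)) (tt N20628 D36555) (tt N20508 (iv F168542)))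
theorem Q19043 : ∀ i, i < 19043 → P i := stepQ 19042 Q19042 (allL N19042 (tt N18404 F162110) (tt N18634 F162111) (tt N17316 F162112) (tt N20626 (iv F169264)) (tt N17314 F162113) (tt N17396 F162114) (tt N20613 (iv F169189)) (tt N20628 (iv F169276)) (tt N17312 (iv D34969)) (tt N20629 D36556))
theorem Q19044 : ∀ i, i < 19044 → P i := stepQ 19043 Q19043 (allL N19043 (tt N20605 (iv F169129)) (tt N18805 F162115) (tt N17317 F162116) (tt N19043 F162117) (tt N20627 (iv F169270)) (tt N18629 F162118) (tt N17313 (iv D34970)) (tt N20614 (iv F169195)) (tt N20630 D36557) (tt N20510 (iv F168554)))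
theorem Q19045 : ∀ i, i < 19045 → P i := stepQ 19044 Q19044 (allL N19044 (tt N18457 F162119) (tt N18797 F162120) (tt N17318 F162121) (tt N19044 F162122) (tt N20628 (iv F169274)) (tt N17323 F162123) (tt N20630 (iv F169287)) (tt N17314 F162124) (tt N17313 (iv D34971)) (tt N20631 D36558))
theorem Q19046 : ∀ i, i < 19046 → P i := stepQ 19045 Q19045 (allL N19045 (tt N18251 F162125) (tt N18800 F162126) (tt N17319 F162127) (tt N19045 F162128) (tt N20629 (iv F169281)) (tt N17324 F162129) (tt N20616 (iv F169208)) (tt N20631 (iv F169293)) (tt N20512 (iv F168567)) (tt N17314 (iv D34972)))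
theorem Q19047 : ∀ i, i < 19047 → P i := stepQ 19046 Q19046 (allL N19046 (tt N20606 (iv F169136)) (tt N17426 F162130) (tt N20627 (iv F169269)) (tt N17696 F162131) (tt N17317 F162132) (tt N20632 D36559) (tt N17315 (iv D34973)) (tt N20617 (iv F169214)) (tt N20633 D36560) (tt N20513 (iv F168573)))
theorem Q19048 : ∀ i, i < 19048 → P i := stepQ 19047 Q19047 (allL N19047 (tt N20607 (iv F169142)) (tt N17427 F162133) (tt N20628 (iv F169273)) (tt N17697 F162134) (tt N17318 F162135) (tt N20634 D36561) (tt N20633 (iv F169301)) (tt N17316 F162136) (tt N17315 (iv D34974)) (tt N20635 D36562))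
theorem Q19049 : ∀ i, i < 19049 → P i := stepQ 19048 Q19048 (allL N19048 (tt N18399 F162137) (tt N17428 F162138) (tt N17396 F162139) (tt N17698 F162140) (tt N17327 F162141) (tt N17316 (iv D34975)) (tt N20636 D36563) (tt N20634 (iv F169307)) (tt N17393 F162142) (tt N18051 (iv F162143)))
theorem Q19050 : ∀ i, i < 19050 → P i := stepQ 19049 Q19049 (allL N19049 (tt N18186 F162144) (tt N17429 F162145) (tt N20629 (iv F169279)) (tt N17699 F162146) (tt N17319 F162147) (tt N18051 F162148) (tt N20620 (iv F169230)) (tt N20635 (iv F169315)) (tt N20516 (iv F168589)) (tt N17316 (iv D34976)))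
theorem Q19051 : ∀ i, i < 19051 → P i := stepQ 19050 Q19050 (allL N19050 (tt N20608 (iv F169150)) (tt N17430 F162149) (tt N20630 (iv F169285)) (tt N17320 F162150) (tt N20633 (iv F169300)) (tt N20637 D36564) (tt N17318 F162151) (tt N20621 (iv F169236)) (tt N17317 (iv D34977)) (tt N20638 D36565))
theorem Q19052 : ∀ i, i < 19052 → P i := stepQ 19051 Q19051 (allL N19051 (tt N18252 F162152) (tt N17431 F162153) (tt N20631 (iv F169290)) (tt N17321 F162154) (tt N20635 (iv F169313)) (tt N17329 F162155) (tt N20638 (iv F169330)) (tt N17319 F162156) (tt N20518 (iv F168600)) (tt N17318 (iv D34978)))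
theorem Q19053 : ∀ i, i < 19053 → P i := stepQ 19052 Q19052 (allL N19052 (tt N20609 (iv F169157)) (tt N17432 F162157) (tt N19052 F162158) (tt N20637 (iv F169324)) (tt N20639 D36566) (tt N17320 (iv D34979)) (tt N17330 F162159) (tt N20623 (iv F169247)) (tt N18638 F162160) (tt N20640 D36567))
theorem Q19054 : ∀ i, i < 19054 → P i := stepQ 19053 Q19053 (allL N19053 (tt N18253 F162161) (tt N17433 F162162) (tt N19053 F162163) (tt N20638 (iv F169329)) (tt N17703 F162164) (tt N20640 (iv F169342)) (tt N17321 F162165) (tt N20624 (iv F169254)) (tt N20520 (iv F168613)) (tt N17320 (iv D34980)))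
theorem Q19055 : ∀ i, i < 19055 → P i := stepQ 19054 Q19054 (allL N19054 (tt N18456 F162166) (tt N18796 F162167) (tt N17328 F162168) (tt N19054 F162169) (tt N17434 F162170) (tt N20641 D36568) (tt N17323 F162171) (tt N19054 F162172) (tt N17322 (iv D34981)) (tt N20642 D36569))
theorem Q19056 : ∀ i, i < 19056 → P i := stepQ 19055 Q19055 (allL N19055 (tt N18274 F162173) (tt N18798 F162174) (tt N17329 F162175) (tt N19055 F162176) (tt N17435 F162177) (tt N20631 (iv F169292)) (tt N20642 (iv F169355)) (tt N17324 F162178) (tt N19055 F162179) (tt N17323 (iv D34982)))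
theorem Q19057 : ∀ i, i < 19057 → P i := stepQ 19056 Q19056 (allL N19056 (tt N18455 F162180) (tt N17449 F162181) (tt N17434 F162182) (tt N17332 F162183) (tt N17328 F162184) (tt N20643 D36570) (tt N17326 F162185) (tt N19056 F162186) (tt N17325 (iv D34983)) (tt N17465 (iv F162187)))
theorem Q19058 : ∀ i, i < 19058 → P i := stepQ 19057 Q19057 (allL N19057 (tt N18401 F162188) (tt N17450 F162189) (tt N17398 F162190) (tt N17333 F162191) (tt N20634 (iv F169306)) (tt N17326 (iv D34984)) (tt N20644 D36571) (tt N17327 F162192) (tt N17394 F162193) (tt N17848 F162194))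
theorem Q19059 : ∀ i, i < 19059 → P i := stepQ 19058 Q19058 (allL N19058 (tt N18321 F162195) (tt N17452 F162196) (tt N17350 F162197) (tt N17334 F162198) (tt N20636 (iv F169320)) (tt N19058 F162199) (tt N17327 (iv D34985)) (tt N20645 D36572) (tt N17346 F162200) (tt N18045 F162201))
theorem Q19060 : ∀ i, i < 19060 → P i := stepQ 19059 Q19059 (allL N19059 (tt N20610 (iv F169165)) (tt N17454 F162202) (tt N20641 (iv F169346)) (tt N17330 F162203) (tt N20646 D36573) (tt N17328 (iv D34986)) (tt N20637 (iv F169325)) (tt N19059 F162204) (tt N18801 F162205) (tt N20647 D36574))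
theorem Q19061 : ∀ i, i < 19061 → P i := stepQ 19060 Q19060 (allL N19060 (tt N18275 F162206) (tt N17455 F162207) (tt N20642 (iv F169352)) (tt N17331 F162208) (tt N17465 F162209) (tt N20647 (iv F169384)) (tt N17329 F162210) (tt N19060 F162211) (tt N19060 F162212) (tt N17328 (iv D34987)))
theorem Q19062 : ∀ i, i < 19062 → P i := stepQ 19061 Q19061 (allL N19061 (tt N17955 F162213) (tt N17456 F162214) (tt N19061 F162215) (tt N20648 D36575) (tt N17330 (iv D34988)) (tt N17335 F162216) (tt N20639 (iv F169335)) (tt N19061 F162217) (tt N18803 F162218) (tt N17459 (iv F162219)))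
theorem Q19063 : ∀ i, i < 19063 → P i := stepQ 19062 Q19062 (allL N19062 (tt N18276 F162220) (tt N17457 F162221) (tt N19062 F162222) (tt N20647 (iv F169383)) (tt N17459 F162223) (tt N17331 F162224) (tt N20640 (iv F169343)) (tt N19062 F162225) (tt N20649 D36576) (tt N17330 (iv D34989)))
theorem Q19064 : ∀ i, i < 19064 → P i := stepQ 19063 Q19063 (allL N19063 (tt N18482 F162226) (tt N17459 F162227) (tt N17558 F162228) (tt N20643 (iv F169361)) (tt N17457 F162229) (tt N17332 (iv D34990)) (tt N20650 D36577) (tt N19063 F162230) (tt N17564 F162231) (tt N17456 F162232))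
theorem Q19065 : ∀ i, i < 19065 → P i := stepQ 19064 Q19064 (allL N19064 (tt N18533 F162233) (tt N17460 F162234) (tt N17515 F162235) (tt N20644 (iv F169368)) (tt N17718 F162236) (tt N20650 (iv F169403)) (tt N17333 (iv D34991)) (tt N20651 D36578) (tt N17513 F162237) (tt N17831 F162238))
theorem Q19066 : ∀ i, i < 19066 → P i := stepQ 19065 Q19065 (allL N19065 (tt N18492 F162239) (tt N17462 F162240) (tt N17471 F162241) (tt N20645 (iv F169374)) (tt N17719 F162242) (tt N19065 F162243) (tt N20651 (iv F169410)) (tt N17334 (iv D34992)) (tt N17468 F162244) (tt N18041 F162245))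
theorem Q19067 : ∀ i, i < 19067 → P i := stepQ 19066 Q19066 (allL N19066 (tt N17954 F162246) (tt N17465 F162247) (tt N20652 D36579) (tt N17335 (iv D34993)) (tt N17455 F162248) (tt N20648 (iv F169388)) (tt N17451 F162249) (tt N19066 F162250) (tt N19066 F162251) (tt N17449 F162252))
theorem Q19068 : ∀ i, i < 19068 → P i := stepQ 19067 Q19067 (allL N19067 (tt N18361 F162253) (tt N18715 F162254) (tt N17338 F162255) (tt N20653 D36580) (tt N17336 (iv D34994)) (tt N17366 F162256) (tt N17675 F162257) (tt N20654 D36581) (tt N20655 D36582) (tt N17646 F162258))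
theorem Q19069 : ∀ i, i < 19069 → P i := stepQ 19068 Q19068 (allL N19068 (tt N18362 F162259) (tt N18725 F162260) (tt N17339 F162261) (tt N19068 F162262) (tt N20654 (iv F169431)) (tt N17337 F162263) (tt N20656 D36583) (tt N17336 (iv D34995)) (tt N20657 D36584) (tt N17647 F162264))
theorem Q19070 : ∀ i, i < 19070 → P i := stepQ 19069 Q19069 (allL N19069 (tt N18363 F162265) (tt N18213 F162266) (tt N17340 F162267) (tt N19069 F162268) (tt N20655 (iv F169437)) (tt N19069 F162269) (tt N17677 F162270) (tt N20657 (iv F169451)) (tt N17336 (iv D34996)) (tt N20658 D36585))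
theorem Q19071 : ∀ i, i < 19071 → P i := stepQ 19070 Q19070 (allL N19070 (tt N18364 F162271) (tt N17744 F162272) (tt N20654 (iv F169430)) (tt N17726 F162273) (tt N17339 F162274) (tt N17369 F162275) (tt N20659 D36586) (tt N17338 (iv D34997)) (tt N20660 D36587) (tt N17649 F162276))
theorem Q19072 : ∀ i, i < 19072 → P i := stepQ 19071 Q19071 (allL N19071 (tt N18365 F162277) (tt N17745 F162278) (tt N20655 (iv F169436)) (tt N17727 F162279) (tt N17340 F162280) (tt N20661 D36588) (tt N17679 F162281) (tt N20660 (iv F169469)) (tt N17338 (iv D34998)) (tt N20662 D36589))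
theorem Q19073 : ∀ i, i < 19073 → P i := stepQ 19072 Q19072 (allL N19072 (tt N18366 F162282) (tt N17746 F162283) (tt N20656 (iv F169441)) (tt N17341 F162284) (tt N20659 (iv F169462)) (tt N18132 F162285) (tt N17339 (iv D34999)) (tt N17680 F162286) (tt N20663 D36590) (tt N17651 F162287))
theorem Q19074 : ∀ i, i < 19074 → P i := stepQ 19073 Q19073 (allL N19073 (tt N18367 F162288) (tt N17747 F162289) (tt N20657 (iv F169448)) (tt N17342 F162290) (tt N20660 (iv F169468)) (tt N19073 F162291) (tt N20663 (iv F169484)) (tt N17340 F162292) (tt N17339 (iv D35000)) (tt N20664 D36591))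
theorem Q19075 : ∀ i, i < 19075 → P i := stepQ 19074 Q19074 (allL N19074 (tt N18172 F162293) (tt N17748 F162294) (tt N20658 (iv F169454)) (tt N17343 F162295) (tt N20662 (iv F169478)) (tt N19074 F162296) (tt N17682 F162297) (tt N20664 (iv F169490)) (tt N17653 F162298) (tt N17340 (iv D35001)))
theorem Q19076 : ∀ i, i < 19076 → P i := stepQ 19075 Q19075 (allL N19075 (tt N18368 F162299) (tt N17749 F162300) (tt N19075 F162301) (tt N20663 (iv F169483)) (tt N17731 F162302) (tt N20665 D36592) (tt N17342 F162303) (tt N17683 F162304) (tt N17341 (iv D35002)) (tt N20666 D36593))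
theorem Q19077 : ∀ i, i < 19077 → P i := stepQ 19076 Q19076 (allL N19076 (tt N18244 F162305) (tt N17750 F162306) (tt N19076 F162307) (tt N20664 (iv F169488)) (tt N17732 F162308) (tt N19076 F162309) (tt N20666 (iv F169502)) (tt N17343 F162310) (tt N17655 F162311) (tt N17342 (iv D35003)))
theorem Q19078 : ∀ i, i < 19078 → P i := stepQ 19077 Q19077 (allL N19077 (tt N17345 F162312) (tt N18316 F162313) (tt N18016 F162314) (tt N17466 F162315) (tt N18012 F162316) (tt N18090 F162317) (tt N17344 (iv D35004)) (tt N20667 D36594) (tt N19077 F162318) (tt N18010 F162319))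
theorem Q19079 : ∀ i, i < 19079 → P i := stepQ 19078 Q19078 (allL N19078 (tt N20667 (iv F169505)) (tt N17347 F162320) (tt N18159 F162321) (tt N17467 F162322) (tt N18127 F162323) (tt N20461 (iv F168234)) (tt N17365 F162324) (tt N17345 (iv D35005)) (tt N19078 F162325) (tt N18285 F162326))
theorem Q19080 : ∀ i, i < 19080 → P i := stepQ 19079 Q19079 (allL N19079 (tt N18319 F162327) (tt N20456 (iv F168196)) (tt N17348 F162328) (tt N20494 (iv F168452)) (tt N17346 (iv D35006)) (tt N18128 F162329) (tt N17393 F162330) (tt N20668 D36595) (tt N20636 (iv F169321)) (tt N18286 F162331))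
theorem Q19081 : ∀ i, i < 19081 → P i := stepQ 19080 Q19080 (allL N19080 (tt N18320 F162332) (tt N20461 (iv F168231)) (tt N17349 F162333) (tt N17468 F162334) (tt N20668 (iv F169516)) (tt N17347 F162335) (tt N20669 D36596) (tt N17346 (iv D35007)) (tt N20645 (iv F169376)) (tt N18287 F162336))
theorem Q19082 : ∀ i, i < 19082 → P i := stepQ 19081 Q19081 (allL N19081 (tt N18322 F162337) (tt N18163 F162338) (tt N20668 (iv F169515)) (tt N18586 F162339) (tt N17349 F162340) (tt N18130 F162341) (tt N20670 D36597) (tt N17348 (iv D35008)) (tt N20671 D36598) (tt N18288 F162342))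
theorem Q19083 : ∀ i, i < 19083 → P i := stepQ 19082 Q19082 (allL N19082 (tt N18323 F162343) (tt N18164 F162344) (tt N20636 (iv F169318)) (tt N18196 F162345) (tt N17350 F162346) (tt N20672 D36599) (tt N17396 F162347) (tt N20671 (iv F169535)) (tt N17348 (iv D35009)) (tt N18192 F162348))
theorem Q19084 : ∀ i, i < 19084 → P i := stepQ 19083 Q19083 (allL N19083 (tt N18324 F162349) (tt N18165 F162350) (tt N20669 (iv F169520)) (tt N17351 F162351) (tt N20670 (iv F169528)) (tt N17371 F162352) (tt N17349 (iv D35010)) (tt N17397 F162353) (tt N20673 D36600) (tt N18289 F162354))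
theorem Q19085 : ∀ i, i < 19085 → P i := stepQ 19084 Q19084 (allL N19084 (tt N18325 F162355) (tt N18166 F162356) (tt N20645 (iv F169373)) (tt N17352 F162357) (tt N20671 (iv F169534)) (tt N19084 F162358) (tt N20673 (iv F169546)) (tt N17350 F162359) (tt N17349 (iv D35011)) (tt N18256 F162360))
theorem Q19086 : ∀ i, i < 19086 → P i := stepQ 19085 Q19085 (allL N19085 (tt N18326 F162361) (tt N18168 F162362) (tt N17472 F162363) (tt N20673 (iv F169545)) (tt N18260 F162364) (tt N20674 D36601) (tt N17352 F162365) (tt N17400 F162366) (tt N17351 (iv D35012)) (tt N18258 F162367))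
theorem Q19087 : ∀ i, i < 19087 → P i := stepQ 19086 Q19086 (allL N19086 (tt N17354 F162368) (tt N18065 F162369) (tt N17720 F162370) (tt N17473 F162371) (tt N17643 F162372) (tt N20675 D36602) (tt N17353 (iv D35013)) (tt N20676 D36603) (tt N17992 F162373) (tt N17363 F162374))
theorem Q19088 : ∀ i, i < 19088 → P i := stepQ 19087 Q19087 (allL N19087 (tt N20675 (iv F169556)) (tt N17355 F162375) (tt N17721 F162376) (tt N17474 F162377) (tt N20677 D36604) (tt N17354 (iv D35014)) (tt N17403 F162378) (tt N20678 D36605) (tt N20679 D36606) (tt N17364 F162379))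
theorem Q19089 : ∀ i, i < 19089 → P i := stepQ 19088 Q19088 (allL N19088 (tt N20676 (iv F169563)) (tt N17356 F162380) (tt N17722 F162381) (tt N17475 F162382) (tt N17645 F162383) (tt N20678 (iv F169579)) (tt N18285 F162384) (tt N17354 (iv D35015)) (tt N17994 F162385) (tt N17365 F162386))
theorem Q19090 : ∀ i, i < 19090 → P i := stepQ 19089 Q19089 (allL N19089 (tt N18306 F162387) (tt N20677 (iv F169571)) (tt N17357 F162388) (tt N20680 D36607) (tt N17355 (iv D35016)) (tt N17646 F162389) (tt N17405 F162390) (tt N20681 D36608) (tt N20682 D36609) (tt N17366 F162391))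
theorem Q19091 : ∀ i, i < 19091 → P i := stepQ 19090 Q19090 (allL N19090 (tt N18307 F162392) (tt N20678 (iv F169576)) (tt N17358 F162393) (tt N17477 F162394) (tt N20681 (iv F169597)) (tt N17356 F162395) (tt N20683 D36610) (tt N17355 (iv D35017)) (tt N20684 D36611) (tt N17367 F162396))
theorem Q19092 : ∀ i, i < 19092 → P i := stepQ 19091 Q19091 (allL N19091 (tt N18308 F162397) (tt N20679 (iv F169582)) (tt N17359 F162398) (tt N17478 F162399) (tt N20682 (iv F169603)) (tt N17997 F162400) (tt N17407 F162401) (tt N20684 (iv F169616)) (tt N17355 (iv D35018)) (tt N18549 (iv F162402)))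
theorem Q19093 : ∀ i, i < 19093 → P i := stepQ 19092 Q19092 (allL N19092 (tt N18309 F162403) (tt N17726 F162404) (tt N20681 (iv F169596)) (tt N17744 F162405) (tt N17358 F162406) (tt N17649 F162407) (tt N20685 D36612) (tt N17357 (iv D35019)) (tt N20686 D36613) (tt N17369 F162408))
theorem Q19094 : ∀ i, i < 19094 → P i := stepQ 19093 Q19093 (allL N19093 (tt N18310 F162409) (tt N17727 F162410) (tt N20682 (iv F169601)) (tt N17745 F162411) (tt N17359 F162412) (tt N20687 D36614) (tt N17409 F162413) (tt N20686 (iv F169628)) (tt N17357 (iv D35020)) (tt N20688 D36615))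
theorem Q19095 : ∀ i, i < 19095 → P i := stepQ 19094 Q19094 (allL N19094 (tt N18311 F162414) (tt N17728 F162415) (tt N20683 (iv F169607)) (tt N17360 F162416) (tt N20685 (iv F169621)) (tt N18289 F162417) (tt N17358 (iv D35021)) (tt N17410 F162418) (tt N20689 D36616) (tt N17371 F162419))
theorem Q19096 : ∀ i, i < 19096 → P i := stepQ 19095 Q19095 (allL N19095 (tt N18312 F162420) (tt N17729 F162421) (tt N20684 (iv F169613)) (tt N17361 F162422) (tt N20686 (iv F169627)) (tt N18001 F162423) (tt N20689 (iv F169644)) (tt N17359 F162424) (tt N17358 (iv D35022)) (tt N20690 D36617))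
theorem Q19097 : ∀ i, i < 19097 → P i := stepQ 19096 Q19096 (allL N19096 (tt N18313 F162425) (tt N17730 F162426) (tt N18549 F162427) (tt N17362 F162428) (tt N20688 (iv F169638)) (tt N18002 F162429) (tt N17412 F162430) (tt N20690 (iv F169651)) (tt N17373 F162431) (tt N17359 (iv D35023)))
theorem Q19098 : ∀ i, i < 19098 → P i := stepQ 19097 Q19097 (allL N19097 (tt N18314 F162432) (tt N17731 F162433) (tt N17482 F162434) (tt N20689 (iv F169643)) (tt N17749 F162435) (tt N20691 D36618) (tt N17361 F162436) (tt N17413 F162437) (tt N17360 (iv D35024)) (tt N20692 D36619))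
theorem Q19099 : ∀ i, i < 19099 → P i := stepQ 19098 Q19098 (allL N19098 (tt N18315 F162438) (tt N17732 F162439) (tt N17483 F162440) (tt N20690 (iv F169649)) (tt N17750 F162441) (tt N18004 F162442) (tt N20692 (iv F169664)) (tt N17362 F162443) (tt N17375 F162444) (tt N17361 (iv D35025)))
theorem Q19100 : ∀ i, i < 19100 → P i := stepQ 19099 Q19099 (allL N19099 (tt N17364 F162445) (tt N18369 F162446) (tt N18038 F162447) (tt N17484 F162448) (tt N20693 D36620) (tt N17363 (iv D35026)) (tt N17415 F162449) (tt N20694 D36621) (tt N20695 D36622) (tt N20675 (iv F169562)))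
theorem Q19101 : ∀ i, i < 19101 → P i := stepQ 19100 Q19100 (allL N19100 (tt N17365 F162450) (tt N18370 F162451) (tt N18043 F162452) (tt N17485 F162453) (tt N18049 F162454) (tt N20694 (iv F169676)) (tt N20667 (iv F169511)) (tt N17363 (iv D35027)) (tt N19100 F162455) (tt N20676 (iv F169570)))
theorem Q19102 : ∀ i, i < 19102 → P i := stepQ 19101 Q19101 (allL N19101 (tt N20693 (iv F169667)) (tt N17366 F162456) (tt N18671 F162457) (tt N20696 D36623) (tt N17364 (iv D35028)) (tt N18715 F162458) (tt N17417 F162459) (tt N20697 D36624) (tt N20698 D36625) (tt N20677 (iv F169575)))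
theorem Q19103 : ∀ i, i < 19103 → P i := stepQ 19102 Q19102 (allL N19102 (tt N20694 (iv F169672)) (tt N17367 F162460) (tt N18807 F162461) (tt N17487 F162462) (tt N20697 (iv F169690)) (tt N17365 F162463) (tt N20699 D36626) (tt N17364 (iv D35029)) (tt N20700 D36627) (tt N20678 (iv F169580)))
theorem Q19104 : ∀ i, i < 19104 → P i := stepQ 19103 Q19103 (allL N19103 (tt N20695 (iv F169677)) (tt N17368 F162464) (tt N18799 F162465) (tt N17488 F162466) (tt N20698 (iv F169694)) (tt N19103 F162467) (tt N17419 F162468) (tt N20700 (iv F169704)) (tt N17364 (iv D35030)) (tt N20701 D36628))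
theorem Q19105 : ∀ i, i < 19105 → P i := stepQ 19104 Q19104 (allL N19104 (tt N18374 F162469) (tt N20696 (iv F169684)) (tt N17756 F162470) (tt N17366 (iv D35031)) (tt N17489 F162471) (tt N20653 (iv F169425)) (tt N17420 F162472) (tt N20702 D36629) (tt N20703 D36630) (tt N20680 (iv F169593)))
theorem Q19106 : ∀ i, i < 19106 → P i := stepQ 19105 Q19105 (allL N19105 (tt N18375 F162473) (tt N20697 (iv F169688)) (tt N17369 F162474) (tt N20702 (iv F169714)) (tt N17367 F162475) (tt N20654 (iv F169432)) (tt N20704 D36631) (tt N17366 (iv D35032)) (tt N20705 D36632) (tt N20681 (iv F169599)))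
theorem Q19107 : ∀ i, i < 19107 → P i := stepQ 19106 Q19106 (allL N19106 (tt N18376 F162476) (tt N20698 (iv F169692)) (tt N17370 F162477) (tt N20703 (iv F169718)) (tt N17368 F162478) (tt N20706 D36633) (tt N17422 F162479) (tt N20705 (iv F169729)) (tt N17366 (iv D35033)) (tt N20707 D36634))
theorem Q19108 : ∀ i, i < 19108 → P i := stepQ 19107 Q19107 (allL N19107 (tt N18377 F162480) (tt N20699 (iv F169696)) (tt N17371 F162481) (tt N17492 F162482) (tt N20704 (iv F169724)) (tt N20669 (iv F169522)) (tt N17367 (iv D35034)) (tt N17423 F162483) (tt N20708 D36635) (tt N20683 (iv F169611)))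
theorem Q19109 : ∀ i, i < 19109 → P i := stepQ 19108 Q19108 (allL N19108 (tt N18378 F162484) (tt N20700 (iv F169700)) (tt N17372 F162485) (tt N17493 F162486) (tt N20705 (iv F169728)) (tt N19108 F162487) (tt N20708 (iv F169742)) (tt N17368 F162488) (tt N17367 (iv D35035)) (tt N20709 D36636))
theorem Q19110 : ∀ i, i < 19110 → P i := stepQ 19109 Q19109 (allL N19109 (tt N18379 F162489) (tt N20701 (iv F169706)) (tt N17373 F162490) (tt N17494 F162491) (tt N20707 (iv F169736)) (tt N19109 F162492) (tt N17425 F162493) (tt N20709 (iv F169748)) (tt N18549 F162494) (tt N17368 (iv D35036)))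
theorem Q19111 : ∀ i, i < 19111 → P i := stepQ 19110 Q19110 (allL N19110 (tt N18380 F162495) (tt N20617 (iv F169211)) (tt N20704 (iv F169723)) (tt N17762 F162496) (tt N17371 F162497) (tt N20710 D36637) (tt N17369 (iv D35037)) (tt N17426 F162498) (tt N20711 D36638) (tt N20685 (iv F169623)))
theorem Q19112 : ∀ i, i < 19112 → P i := stepQ 19111 Q19111 (allL N19111 (tt N18381 F162499) (tt N20618 (iv F169217)) (tt N20705 (iv F169727)) (tt N17763 F162500) (tt N17372 F162501) (tt N20712 D36639) (tt N20711 (iv F169756)) (tt N17370 F162502) (tt N17369 (iv D35038)) (tt N20713 D36640))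
theorem Q19113 : ∀ i, i < 19113 → P i := stepQ 19112 Q19112 (allL N19112 (tt N18382 F162503) (tt N20619 (iv F169222)) (tt N20706 (iv F169731)) (tt N17764 F162504) (tt N19112 F162505) (tt N17370 (iv D35039)) (tt N20714 D36641) (tt N20712 (iv F169761)) (tt N20661 (iv F169474)) (tt N20715 D36642))
theorem Q19114 : ∀ i, i < 19114 → P i := stepQ 19113 Q19113 (allL N19113 (tt N18383 F162506) (tt N20620 (iv F169227)) (tt N20707 (iv F169734)) (tt N17765 F162507) (tt N17373 F162508) (tt N20715 (iv F169773)) (tt N17429 F162509) (tt N20713 (iv F169765)) (tt N20688 (iv F169640)) (tt N17370 (iv D35040)))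
theorem Q19115 : ∀ i, i < 19115 → P i := stepQ 19114 Q19114 (allL N19114 (tt N18384 F162510) (tt N20621 (iv F169233)) (tt N20708 (iv F169740)) (tt N17374 F162511) (tt N20711 (iv F169755)) (tt N20716 D36643) (tt N17372 F162512) (tt N17430 F162513) (tt N17371 (iv D35041)) (tt N20717 D36644))
theorem Q19116 : ∀ i, i < 19116 → P i := stepQ 19115 Q19115 (allL N19115 (tt N18385 F162514) (tt N20622 (iv F169238)) (tt N20709 (iv F169745)) (tt N17375 F162515) (tt N20713 (iv F169764)) (tt N19115 F162516) (tt N20717 (iv F169780)) (tt N17373 F162517) (tt N20690 (iv F169652)) (tt N17372 (iv D35042)))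
theorem Q19117 : ∀ i, i < 19117 → P i := stepQ 19116 Q19116 (allL N19116 (tt N18386 F162518) (tt N20623 (iv F169244)) (tt N17499 F162519) (tt N20716 (iv F169775)) (tt N20718 D36645) (tt N17374 (iv D35043)) (tt N19116 F162520) (tt N17432 F162521) (tt N20674 (iv F169554)) (tt N20719 D36646))
theorem Q19118 : ∀ i, i < 19118 → P i := stepQ 19117 Q19117 (allL N19117 (tt N18387 F162522) (tt N20624 (iv F169250)) (tt N17500 F162523) (tt N20717 (iv F169779)) (tt N17769 F162524) (tt N20719 (iv F169789)) (tt N17375 F162525) (tt N17433 F162526) (tt N20692 (iv F169666)) (tt N17374 (iv D35044)))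
theorem Q19119 : ∀ i, i < 19119 → P i := stepQ 19118 Q19118 (allL N19118 (tt N18061 F162527) (tt N17378 F162528) (tt N18359 F162529) (tt N17501 F162530) (tt N20720 D36647) (tt N17377 (iv D35045)) (tt N17672 F162531) (tt N20721 D36648) (tt N18134 (iv F162533)) (tt N17640 F162532))
theorem Q19120 : ∀ i, i < 19120 → P i := stepQ 19119 Q19119 (allL N19119 (tt N18069 F162534) (tt N17379 F162535) (tt N18360 F162536) (tt N17502 F162537) (tt N18295 F162538) (tt N20721 (iv F169804)) (tt N17772 F162539) (tt N17377 (iv D35046)) (tt N19119 F162540) (tt N18005 F162541))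
theorem Q19121 : ∀ i, i < 19121 → P i := stepQ 19120 Q19120 (allL N19120 (tt N18388 F162542) (tt N20720 (iv F169793)) (tt N17380 F162543) (tt N20478 (iv F168350)) (tt N17378 (iv D35047)) (tt N18296 F162544) (tt N17789 F162545) (tt N20722 D36649) (tt N18181 F162546) (tt N17737 F162547))
theorem Q19122 : ∀ i, i < 19122 → P i := stepQ 19121 Q19121 (allL N19121 (tt N18389 F162548) (tt N20721 (iv F169801)) (tt N17381 F162549) (tt N17503 F162550) (tt N20722 (iv F169809)) (tt N17379 F162551) (tt N20723 D36650) (tt N17378 (iv D35048)) (tt N18183 F162552) (tt N17739 F162553))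
theorem Q19123 : ∀ i, i < 19123 → P i := stepQ 19122 Q19122 (allL N19122 (tt N18390 F162554) (tt N18364 F162555) (tt N20722 (iv F169808)) (tt N17395 F162556) (tt N17381 F162557) (tt N18299 F162558) (tt N20724 D36651) (tt N17380 (iv D35049)) (tt N20725 D36652) (tt N18074 F162559))
theorem Q19124 : ∀ i, i < 19124 → P i := stepQ 19123 Q19123 (allL N19123 (tt N18391 F162560) (tt N18365 F162561) (tt N18181 F162562) (tt N17396 F162563) (tt N17382 F162564) (tt N20626 (iv F169266)) (tt N18196 F162565) (tt N20725 (iv F169831)) (tt N17380 (iv D35050)) (tt N18175 F162566))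
theorem Q19125 : ∀ i, i < 19125 → P i := stepQ 19124 Q19124 (allL N19124 (tt N18392 F162567) (tt N18366 F162568) (tt N20723 (iv F169814)) (tt N17383 F162569) (tt N20724 (iv F169823)) (tt N17778 F162570) (tt N17381 (iv D35051)) (tt N18587 F162571) (tt N20726 D36653) (tt N18075 F162572))
theorem Q19126 : ∀ i, i < 19126 → P i := stepQ 19125 Q19125 (allL N19125 (tt N18393 F162573) (tt N18367 F162574) (tt N18183 F162575) (tt N17384 F162576) (tt N20725 (iv F169830)) (tt N19125 F162577) (tt N20726 (iv F169837)) (tt N17382 F162578) (tt N17381 (iv D35052)) (tt N18177 F162579))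
theorem Q19127 : ∀ i, i < 19127 → P i := stepQ 19126 Q19126 (allL N19126 (tt N18394 F162580) (tt N18368 F162581) (tt N17506 F162582) (tt N20726 (iv F169836)) (tt N17400 F162583) (tt N20727 D36654) (tt N17384 F162584) (tt N18260 F162585) (tt N17383 (iv D35053)) (tt N18247 F162586))
theorem Q19128 : ∀ i, i < 19128 → P i := stepQ 19127 Q19127 (allL N19127 (tt N18296 F162587) (tt N20457 (iv F168204)) (tt N17388 F162588) (tt N20473 (iv F168317)) (tt N17386 (iv D35054)) (tt N18388 F162589) (tt N18286 F162590) (tt N20728 D36655) (tt N20471 F168308) (tt N17393 F162591))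
theorem Q19129 : ∀ i, i < 19129 → P i := stepQ 19128 Q19128 (allL N19128 (tt N18297 F162592) (tt N20460 (iv F168225)) (tt N17389 F162593) (tt N17507 F162594) (tt N20728 (iv F169849)) (tt N17387 F162595) (tt N20729 D36656) (tt N17386 (iv D35055)) (tt N20730 D36657) (tt N17394 F162596))
theorem Q19130 : ∀ i, i < 19130 → P i := stepQ 19129 Q19129 (allL N19129 (tt N18298 F162597) (tt N20462 (iv F168238)) (tt N17390 F162598) (tt N17508 F162599) (tt N20471 (iv F168304)) (tt N19129 F162600) (tt N17888 F162601) (tt N20730 (iv F169862)) (tt N17386 (iv D35056)) (tt N18047 F162602))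
theorem Q19131 : ∀ i, i < 19131 → P i := stepQ 19130 Q19130 (allL N19130 (tt N18299 F162603) (tt N18619 F162604) (tt N20728 (iv F169848)) (tt N18074 F162605) (tt N17389 F162606) (tt N18390 F162607) (tt N20731 D36658) (tt N17388 (iv D35057)) (tt N20732 D36659) (tt N17395 F162608))
theorem Q19132 : ∀ i, i < 19132 → P i := stepQ 19131 Q19131 (allL N19131 (tt N18300 F162609) (tt N18620 F162610) (tt N20471 (iv F168303)) (tt N17734 F162611) (tt N17390 F162612) (tt N20603 (iv F169119)) (tt N17783 F162613) (tt N20732 (iv F169874)) (tt N17388 (iv D35058)) (tt N18173 (iv F162614)))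
theorem Q19133 : ∀ i, i < 19133 → P i := stepQ 19132 Q19132 (allL N19132 (tt N18301 F162615) (tt N18621 F162616) (tt N20729 (iv F169853)) (tt N17391 F162617) (tt N20731 (iv F169867)) (tt N17410 F162618) (tt N17389 (iv D35059)) (tt N18289 F162619) (tt N20733 D36660) (tt N17397 F162620))
theorem Q19134 : ∀ i, i < 19134 → P i := stepQ 19133 Q19133 (allL N19133 (tt N18302 F162621) (tt N18622 F162622) (tt N20730 (iv F169859)) (tt N17392 F162623) (tt N20732 (iv F169873)) (tt N19133 F162624) (tt N20733 (iv F169879)) (tt N17390 F162625) (tt N17389 (iv D35060)) (tt N18245 (iv F162626)))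
theorem Q19135 : ∀ i, i < 19135 → P i := stepQ 19134 Q19134 (allL N19134 (tt N18303 F162627) (tt N18623 F162628) (tt N17512 F162629) (tt N20733 (iv F169878)) (tt N17853 F162630) (tt N20734 D36661) (tt N17392 F162631) (tt N17897 F162632) (tt N17391 (iv D35061)) (tt N18246 (iv F162633)))
theorem Q19136 : ∀ i, i < 19136 → P i := stepQ 19135 Q19135 (allL N19135 (tt N18398 F162634) (tt N20454 (iv F168182)) (tt N17395 F162635) (tt N20492 (iv F168439)) (tt N17394 F162636) (tt N18589 F162637) (tt N20735 D36662) (tt N17393 (iv D35062)) (tt N20634 (iv F169308)) (tt N20728 (iv F169851)))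
theorem Q19137 : ∀ i, i < 19137 → P i := stepQ 19136 Q19136 (allL N19136 (tt N18400 F162638) (tt N20459 (iv F168219)) (tt N17397 F162639) (tt N17513 F162640) (tt N20735 (iv F169892)) (tt N17423 F162641) (tt N17394 (iv D35063)) (tt N20669 (iv F169523)) (tt N20644 (iv F169369)) (tt N20729 (iv F169857)))
theorem Q19138 : ∀ i, i < 19138 → P i := stepQ 19137 Q19137 (allL N19137 (tt N18402 F162642) (tt N18632 F162643) (tt N20735 (iv F169891)) (tt N20724 (iv F169822)) (tt N17397 F162644) (tt N20736 D36663) (tt N17395 (iv D35064)) (tt N20670 (iv F169529)) (tt N20737 D36664) (tt N20731 (iv F169869)))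
theorem Q19139 : ∀ i, i < 19139 → P i := stepQ 19138 Q19138 (allL N19138 (tt N18403 F162645) (tt N18633 F162646) (tt N20634 (iv F169304)) (tt N20725 (iv F169829)) (tt N17398 F162647) (tt N20628 (iv F169275)) (tt N20737 (iv F169900)) (tt N17396 F162648) (tt N17395 (iv D35065)) (tt N20738 D36665))
theorem Q19140 : ∀ i, i < 19140 → P i := stepQ 19139 Q19139 (allL N19139 (tt N18405 F162649) (tt N18635 F162650) (tt N18051 F162651) (tt N18175 F162652) (tt N17399 F162653) (tt N20629 (iv F169282)) (tt N18192 F162654) (tt N20738 (iv F169906)) (tt N18173 F162655) (tt N17396 (iv D35066)))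
theorem Q19141 : ∀ i, i < 19141 → P i := stepQ 19140 Q19140 (allL N19140 (tt N18406 F162656) (tt N18636 F162657) (tt N20644 (iv F169367)) (tt N17400 F162658) (tt N20737 (iv F169899)) (tt N20739 D36666) (tt N17398 F162659) (tt N20673 (iv F169547)) (tt N17397 (iv D35067)) (tt N20740 D36667))
theorem Q19142 : ∀ i, i < 19142 → P i := stepQ 19141 Q19141 (allL N19141 (tt N18407 F162660) (tt N18637 F162661) (tt N17848 F162662) (tt N17401 F162663) (tt N20738 (iv F169905)) (tt N17435 F162664) (tt N20740 (iv F169917)) (tt N17399 F162665) (tt N18245 F162666) (tt N17398 (iv D35068)))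
theorem Q19143 : ∀ i, i < 19143 → P i := stepQ 19142 Q19142 (allL N19142 (tt N18408 F162667) (tt N18638 F162668) (tt N17516 F162669) (tt N20739 (iv F169910)) (tt N20741 D36668) (tt N17400 (iv D35069)) (tt N17436 F162670) (tt N20674 (iv F169553)) (tt N17432 F162671) (tt N20742 D36669))
theorem Q19144 : ∀ i, i < 19144 → P i := stepQ 19143 Q19143 (allL N19143 (tt N18409 F162672) (tt N18639 F162673) (tt N17517 F162674) (tt N20740 (iv F169916)) (tt N18247 F162675) (tt N20742 (iv F169928)) (tt N17401 F162676) (tt N18258 F162677) (tt N18246 F162678) (tt N17400 (iv D35070)))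
theorem Q19145 : ∀ i, i < 19145 → P i := stepQ 19144 Q19144 (allL N19144 (tt N17403 F162679) (tt N18410 F162680) (tt N18039 F162681) (tt N17518 F162682) (tt N20743 D36670) (tt N17402 (iv D35071)) (tt N20675 (iv F169560)) (tt N20744 D36671) (tt N20745 D36672) (tt N17415 F162683))
theorem Q19146 : ∀ i, i < 19146 → P i := stepQ 19145 Q19145 (allL N19145 (tt N17404 F162684) (tt N18411 F162685) (tt N18037 F162686) (tt N17519 F162687) (tt N18034 F162688) (tt N20744 (iv F169940)) (tt N18089 F162689) (tt N17402 (iv D35072)) (tt N19145 F162690) (tt N17416 F162691))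
theorem Q19147 : ∀ i, i < 19147 → P i := stepQ 19146 Q19146 (allL N19146 (tt N20743 (iv F169931)) (tt N17405 F162692) (tt N18672 F162693) (tt N20746 D36673) (tt N17403 (iv D35073)) (tt N18664 F162694) (tt N20677 (iv F169574)) (tt N20747 D36674) (tt N20748 D36675) (tt N17417 F162695))
theorem Q19148 : ∀ i, i < 19148 → P i := stepQ 19147 Q19147 (allL N19147 (tt N20744 (iv F169936)) (tt N17406 F162696) (tt N18806 F162697) (tt N17521 F162698) (tt N20747 (iv F169956)) (tt N17404 F162699) (tt N20749 D36676) (tt N17403 (iv D35074)) (tt N20750 D36677) (tt N17418 F162700))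
theorem Q19149 : ∀ i, i < 19149 → P i := stepQ 19148 Q19148 (allL N19148 (tt N20745 (iv F169942)) (tt N17407 F162701) (tt N18808 F162702) (tt N17522 F162703) (tt N20748 (iv F169961)) (tt N19148 F162704) (tt N20679 (iv F169586)) (tt N20750 (iv F169970)) (tt N17403 (iv D35075)) (tt N20751 D36678))
theorem Q19150 : ∀ i, i < 19150 → P i := stepQ 19149 Q19149 (allL N19149 (tt N18415 F162705) (tt N20746 (iv F169949)) (tt N17794 F162706) (tt N17405 (iv D35076)) (tt N17523 F162707) (tt N18334 F162708) (tt N20680 (iv F169592)) (tt N20752 D36679) (tt N20753 D36680) (tt N17420 F162709))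
theorem Q19151 : ∀ i, i < 19151 → P i := stepQ 19150 Q19150 (allL N19150 (tt N18416 F162710) (tt N20747 (iv F169954)) (tt N17408 F162711) (tt N20752 (iv F169980)) (tt N17406 F162712) (tt N18676 F162713) (tt N20754 D36681) (tt N17405 (iv D35077)) (tt N20755 D36682) (tt N17421 F162714))
theorem Q19152 : ∀ i, i < 19152 → P i := stepQ 19151 Q19151 (allL N19151 (tt N18417 F162715) (tt N20748 (iv F169959)) (tt N17409 F162716) (tt N20753 (iv F169986)) (tt N17407 F162717) (tt N20756 D36683) (tt N20682 (iv F169604)) (tt N20755 (iv F169998)) (tt N17405 (iv D35078)) (tt N20757 D36684))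
theorem Q19153 : ∀ i, i < 19153 → P i := stepQ 19152 Q19152 (allL N19152 (tt N18418 F162718) (tt N20749 (iv F169962)) (tt N17410 F162719) (tt N17526 F162720) (tt N20754 (iv F169993)) (tt N20729 (iv F169855)) (tt N17406 (iv D35079)) (tt N20683 (iv F169610)) (tt N20758 D36685) (tt N17423 F162721))
theorem Q19154 : ∀ i, i < 19154 → P i := stepQ 19153 Q19153 (allL N19153 (tt N18419 F162722) (tt N20750 (iv F169966)) (tt N17411 F162723) (tt N17527 F162724) (tt N20755 (iv F169997)) (tt N19153 F162725) (tt N20758 (iv F170013)) (tt N17407 F162726) (tt N17406 (iv D35080)) (tt N20759 D36686))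
theorem Q19155 : ∀ i, i < 19155 → P i := stepQ 19154 Q19154 (allL N19154 (tt N18420 F162727) (tt N20751 (iv F169972)) (tt N17412 F162728) (tt N17528 F162729) (tt N20757 (iv F170007)) (tt N19154 F162730) (tt N18549 F162731) (tt N20759 (iv F170018)) (tt N17425 F162732) (tt N17407 (iv D35081)))
theorem Q19156 : ∀ i, i < 19156 → P i := stepQ 19155 Q19155 (allL N19155 (tt N18421 F162733) (tt N20513 (iv F168569)) (tt N20754 (iv F169992)) (tt N17800 F162734) (tt N17410 F162735) (tt N20760 D36687) (tt N17408 (iv D35082)) (tt N20685 (iv F169622)) (tt N20761 D36688) (tt N17426 F162736))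
theorem Q19157 : ∀ i, i < 19157 → P i := stepQ 19156 Q19156 (allL N19156 (tt N18422 F162737) (tt N20514 (iv F168575)) (tt N20755 (iv F169996)) (tt N17801 F162738) (tt N17411 F162739) (tt N20762 D36689) (tt N20761 (iv F170027)) (tt N17409 F162740) (tt N17408 (iv D35083)) (tt N20763 D36690))
theorem Q19158 : ∀ i, i < 19158 → P i := stepQ 19157 Q19157 (allL N19157 (tt N18423 F162741) (tt N20515 (iv F168580)) (tt N20756 (iv F170000)) (tt N17802 F162742) (tt N19157 F162743) (tt N17409 (iv D35084)) (tt N20764 D36691) (tt N20762 (iv F170031)) (tt N18139 F162744) (tt N20765 D36692))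
theorem Q19159 : ∀ i, i < 19159 → P i := stepQ 19158 Q19158 (allL N19158 (tt N18424 F162745) (tt N20516 (iv F168585)) (tt N20757 (iv F170005)) (tt N17803 F162746) (tt N17412 F162747) (tt N20765 (iv F170045)) (tt N20688 (iv F169639)) (tt N20763 (iv F170036)) (tt N17429 F162748) (tt N17409 (iv D35085)))
theorem Q19160 : ∀ i, i < 19160 → P i := stepQ 19159 Q19159 (allL N19159 (tt N18425 F162749) (tt N20517 (iv F168591)) (tt N20758 (iv F170011)) (tt N17413 F162750) (tt N20761 (iv F170026)) (tt N20766 D36693) (tt N17411 F162751) (tt N20689 (iv F169645)) (tt N17410 (iv D35086)) (tt N20767 D36694))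
theorem Q19161 : ∀ i, i < 19161 → P i := stepQ 19160 Q19160 (allL N19160 (tt N18426 F162752) (tt N20518 (iv F168596)) (tt N20759 (iv F170015)) (tt N17414 F162753) (tt N20763 (iv F170035)) (tt N19160 F162754) (tt N20767 (iv F170051)) (tt N17412 F162755) (tt N17431 F162756) (tt N17411 (iv D35087)))
theorem Q19162 : ∀ i, i < 19162 → P i := stepQ 19161 Q19161 (allL N19161 (tt N18427 F162757) (tt N20519 (iv F168602)) (tt N17533 F162758) (tt N20766 (iv F170047)) (tt N20768 D36695) (tt N17413 (iv D35088)) (tt N19161 F162759) (tt N20691 (iv F169657)) (tt N20734 (iv F169888)) (tt N20769 D36696))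
theorem Q19163 : ∀ i, i < 19163 → P i := stepQ 19162 Q19162 (allL N19162 (tt N18428 F162760) (tt N20520 (iv F168608)) (tt N17534 F162761) (tt N20767 (iv F170050)) (tt N17807 F162762) (tt N20769 (iv F170061)) (tt N17414 F162763) (tt N20692 (iv F169665)) (tt N17433 F162764) (tt N17413 (iv D35089)))
theorem Q19164 : ∀ i, i < 19164 → P i := stepQ 19163 Q19163 (allL N19163 (tt N17417 F162765) (tt N18429 F162766) (tt N17764 F162767) (tt N20770 D36697) (tt N17415 (iv D35090)) (tt N17758 F162768) (tt N20693 (iv F169671)) (tt N20771 D36698) (tt N20772 D36699) (tt N20743 (iv F169935)))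
theorem Q19165 : ∀ i, i < 19165 → P i := stepQ 19164 Q19164 (allL N19164 (tt N17418 F162769) (tt N18430 F162770) (tt N18036 F162771) (tt N17536 F162772) (tt N20771 (iv F170070)) (tt N17416 F162773) (tt N20773 D36700) (tt N17415 (iv D35091)) (tt N20774 D36701) (tt N20744 (iv F169941)))
theorem Q19166 : ∀ i, i < 19166 → P i := stepQ 19165 Q19165 (allL N19165 (tt N17419 F162774) (tt N18431 F162775) (tt N18027 F162776) (tt N17537 F162777) (tt N20772 (iv F170075)) (tt N17439 F162778) (tt N20695 (iv F169682)) (tt N20774 (iv F170087)) (tt N17415 (iv D35092)) (tt N20775 D36702))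
theorem Q19167 : ∀ i, i < 19167 → P i := stepQ 19166 Q19166 (allL N19166 (tt N20770 (iv F170063)) (tt N17420 F162779) (tt N20776 D36703) (tt N17417 (iv D35093)) (tt N17538 F162780) (tt N18661 F162781) (tt N20696 (iv F169687)) (tt N20777 D36704) (tt N20778 D36705) (tt N20746 (iv F169952)))
theorem Q19168 : ∀ i, i < 19168 → P i := stepQ 19167 Q19167 (allL N19167 (tt N20771 (iv F170067)) (tt N17421 F162782) (tt N18669 F162783) (tt N20777 (iv F170101)) (tt N17418 F162784) (tt N18663 F162785) (tt N20779 D36706) (tt N17417 (iv D35094)) (tt N20780 D36707) (tt N20747 (iv F169958)))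
theorem Q19169 : ∀ i, i < 19169 → P i := stepQ 19168 Q19168 (allL N19168 (tt N20772 (iv F170072)) (tt N17422 F162786) (tt N18634 F162787) (tt N20778 (iv F170105)) (tt N17419 F162788) (tt N18628 F162789) (tt N20698 (iv F169695)) (tt N20780 (iv F170115)) (tt N17417 (iv D35095)) (tt N20781 D36708))
theorem Q19170 : ∀ i, i < 19170 → P i := stepQ 19169 Q19169 (allL N19169 (tt N20773 (iv F170077)) (tt N17423 F162790) (tt N18805 F162791) (tt N17541 F162792) (tt N20779 (iv F170110)) (tt N20459 (iv F168222)) (tt N17418 (iv D35096)) (tt N20699 (iv F169699)) (tt N20782 D36709) (tt N20749 (iv F169965)))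
theorem Q19171 : ∀ i, i < 19171 → P i := stepQ 19170 Q19170 (allL N19170 (tt N20774 (iv F170082)) (tt N17424 F162793) (tt N18797 F162794) (tt N17542 F162795) (tt N20780 (iv F170113)) (tt N17441 F162796) (tt N20782 (iv F170123)) (tt N17419 F162797) (tt N17418 (iv D35097)) (tt N20783 D36710))
theorem Q19172 : ∀ i, i < 19172 → P i := stepQ 19171 Q19171 (allL N19171 (tt N20775 (iv F170088)) (tt N17425 F162798) (tt N18800 F162799) (tt N17543 F162800) (tt N20781 (iv F170118)) (tt N17442 F162801) (tt N20701 (iv F169710)) (tt N20783 (iv F170128)) (tt N20751 (iv F169977)) (tt N17419 (iv D35098)))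
theorem Q19173 : ∀ i, i < 19173 → P i := stepQ 19172 Q19172 (allL N19172 (tt N18438 F162802) (tt N20777 (iv F170100)) (tt N17816 F162803) (tt N17421 F162804) (tt N17544 F162805) (tt N20450 (iv F168157)) (tt N20784 D36711) (tt N17420 (iv D35099)) (tt N20785 D36712) (tt N20752 (iv F169983)))
theorem Q19174 : ∀ i, i < 19174 → P i := stepQ 19173 Q19173 (allL N19173 (tt N18439 F162806) (tt N20778 (iv F170104)) (tt N17817 F162807) (tt N17422 F162808) (tt N17545 F162809) (tt N20786 D36713) (tt N20703 (iv F169720)) (tt N20785 (iv F170137)) (tt N17420 (iv D35100)) (tt N20787 D36714))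
theorem Q19175 : ∀ i, i < 19175 → P i := stepQ 19174 Q19174 (allL N19174 (tt N18440 F162810) (tt N20779 (iv F170108)) (tt N17426 F162811) (tt N20784 (iv F170131)) (tt N17423 F162812) (tt N20788 D36715) (tt N17421 (iv D35101)) (tt N20704 (iv F169725)) (tt N20789 D36716) (tt N20754 (iv F169994)))
theorem Q19176 : ∀ i, i < 19176 → P i := stepQ 19175 Q19175 (allL N19175 (tt N18441 F162813) (tt N20780 (iv F170111)) (tt N17427 F162814) (tt N20785 (iv F170135)) (tt N17424 F162815) (tt N20790 D36717) (tt N20789 (iv F170155)) (tt N17422 F162816) (tt N17421 (iv D35102)) (tt N20791 D36718))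
theorem Q19177 : ∀ i, i < 19177 → P i := stepQ 19176 Q19176 (allL N19176 (tt N18442 F162817) (tt N18628 F162818) (tt N17428 F162819) (tt N20786 (iv F170141)) (tt N17445 F162820) (tt N17422 (iv D35103)) (tt N20792 D36719) (tt N20790 (iv F170160)) (tt N18624 F162821) (tt N20793 D36720))
theorem Q19178 : ∀ i, i < 19178 → P i := stepQ 19177 Q19177 (allL N19177 (tt N18443 F162822) (tt N20781 (iv F170116)) (tt N17429 F162823) (tt N20787 (iv F170146)) (tt N17425 F162824) (tt N20793 (iv F170175)) (tt N20707 (iv F169737)) (tt N20791 (iv F170165)) (tt N20757 (iv F170009)) (tt N17422 (iv D35104)))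
theorem Q19179 : ∀ i, i < 19179 → P i := stepQ 19178 Q19178 (allL N19178 (tt N18444 F162825) (tt N20782 (iv F170120)) (tt N17430 F162826) (tt N17549 F162827) (tt N20789 (iv F170154)) (tt N20794 D36721) (tt N17424 F162828) (tt N20708 (iv F169743)) (tt N17423 (iv D35105)) (tt N20795 D36722))
theorem Q19180 : ∀ i, i < 19180 → P i := stepQ 19179 Q19179 (allL N19179 (tt N18445 F162829) (tt N20783 (iv F170124)) (tt N17431 F162830) (tt N17550 F162831) (tt N20791 (iv F170164)) (tt N17448 F162832) (tt N20795 (iv F170183)) (tt N17425 F162833) (tt N20759 (iv F170019)) (tt N17424 (iv D35106)))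
theorem Q19181 : ∀ i, i < 19181 → P i := stepQ 19180 Q19180 (allL N19180 (tt N18446 F162834) (tt N20632 (iv F169294)) (tt N20788 (iv F170151)) (tt N17824 F162835) (tt N20736 (iv F169895)) (tt N17426 (iv D35107)) (tt N20452 (iv F168171)) (tt N20710 (iv F169752)) (tt N20796 D36723) (tt N20760 (iv F170023)))
theorem Q19182 : ∀ i, i < 19182 → P i := stepQ 19181 Q19181 (allL N19181 (tt N18447 F162836) (tt N20633 (iv F169298)) (tt N20789 (iv F170153)) (tt N17825 F162837) (tt N17430 F162838) (tt N20797 D36724) (tt N17427 F162839) (tt N20711 (iv F169757)) (tt N17426 (iv D35108)) (tt N20798 D36725))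
theorem Q19183 : ∀ i, i < 19183 → P i := stepQ 19182 Q19182 (allL N19182 (tt N18448 F162840) (tt N20634 (iv F169303)) (tt N20790 (iv F170158)) (tt N17826 F162841) (tt N17450 F162842) (tt N17427 (iv D35109)) (tt N20799 D36726) (tt N17428 F162843) (tt N20454 (iv F168187)) (tt N20800 D36727))
theorem Q19184 : ∀ i, i < 19184 → P i := stepQ 19183 Q19183 (allL N19183 (tt N18449 F162844) (tt N20635 (iv F169311)) (tt N20791 (iv F170163)) (tt N17827 F162845) (tt N17431 F162846) (tt N20800 (iv F170199)) (tt N20798 (iv F170191)) (tt N17429 F162847) (tt N20763 (iv F170037)) (tt N17427 (iv D35110)))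
theorem Q19185 : ∀ i, i < 19185 → P i := stepQ 19184 Q19184 (allL N19184 (tt N18450 F162848) (tt N20636 (iv F169317)) (tt N20792 (iv F170168)) (tt N17828 F162849) (tt N17452 F162850) (tt N20714 (iv F169769)) (tt N17428 (iv D35111)) (tt N20801 D36728) (tt N20456 (iv F168201)) (tt N20802 D36729))
theorem Q19186 : ∀ i, i < 19186 → P i := stepQ 19185 Q19185 (allL N19185 (tt N17810 F162851) (tt N18051 F162852) (tt N20793 (iv F170173)) (tt N17808 F162853) (tt N17453 F162854) (tt N17429 F162855) (tt N20802 (iv F170208)) (tt N20800 (iv F170200)) (tt N20803 D36730) (tt N17428 (iv D35112)))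
theorem Q19187 : ∀ i, i < 19187 → P i := stepQ 19186 Q19186 (allL N19186 (tt N18451 F162856) (tt N20637 (iv F169323)) (tt N20794 (iv F170177)) (tt N17432 F162857) (tt N20804 D36731) (tt N17430 (iv D35113)) (tt N17454 F162858) (tt N20716 (iv F169777)) (tt N20739 (iv F169912)) (tt N20805 D36732))
theorem Q19188 : ∀ i, i < 19188 → P i := stepQ 19187 Q19187 (allL N19187 (tt N18452 F162859) (tt N20638 (iv F169328)) (tt N20795 (iv F170181)) (tt N17433 F162860) (tt N20798 (iv F170190)) (tt N20805 (iv F170219)) (tt N17431 F162861) (tt N20717 (iv F169781)) (tt N20767 (iv F170052)) (tt N17430 (iv D35114)))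
theorem Q19189 : ∀ i, i < 19189 → P i := stepQ 19188 Q19188 (allL N19188 (tt N18453 F162862) (tt N20639 (iv F169332)) (tt N17556 F162863) (tt N20806 D36733) (tt N17432 (iv D35115)) (tt N17831 F162864) (tt N17456 F162865) (tt N20718 (iv F169786)) (tt N20741 (iv F169924)) (tt N20650 (iv F169405)))
theorem Q19190 : ∀ i, i < 19190 → P i := stepQ 19189 Q19189 (allL N19189 (tt N18454 F162866) (tt N20640 (iv F169339)) (tt N17557 F162867) (tt N20805 (iv F170218)) (tt N20650 (iv F169402)) (tt N17433 F162868) (tt N17457 F162869) (tt N20719 (iv F169791)) (tt N20807 D36734) (tt N17432 (iv D35116)))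
theorem Q19191 : ∀ i, i < 19191 → P i := stepQ 19190 Q19190 (allL N19190 (tt N18459 F162870) (tt N18801 F162871) (tt N20643 (iv F169360)) (tt N17436 F162872) (tt N20808 D36735) (tt N17434 (iv D35117)) (tt N20739 (iv F169911)) (tt N19190 F162873) (tt N17454 F162874) (tt N20809 D36736))
theorem Q19192 : ∀ i, i < 19192 → P i := stepQ 19191 Q19191 (allL N19191 (tt N18460 F162875) (tt N18802 F162876) (tt N17465 F162877) (tt N17437 F162878) (tt N20642 (iv F169354)) (tt N20809 (iv F170236)) (tt N17435 F162879) (tt N19191 F162880) (tt N19191 F162881) (tt N17434 (iv D35118)))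
theorem Q19193 : ∀ i, i < 19193 → P i := stepQ 19192 Q19192 (allL N19192 (tt N18461 F162882) (tt N18803 F162883) (tt N17559 F162884) (tt N20810 D36737) (tt N17436 (iv D35119)) (tt N19192 F162885) (tt N20741 (iv F169923)) (tt N19192 F162886) (tt N17456 F162887) (tt N20811 D36738))
theorem Q19194 : ∀ i, i < 19194 → P i := stepQ 19193 Q19193 (allL N19193 (tt N18462 F162888) (tt N18804 F162889) (tt N17560 F162890) (tt N20809 (iv F170235)) (tt N20811 (iv F170246)) (tt N17437 F162891) (tt N20742 (iv F169929)) (tt N19193 F162892) (tt N20812 D36739) (tt N17436 (iv D35120)))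
theorem Q19195 : ∀ i, i < 19195 → P i := stepQ 19194 Q19194 (allL N19194 (tt N17441 F162893) (tt N18463 F162894) (tt N18026 F162895) (tt N17561 F162896) (tt N18023 F162897) (tt N20774 (iv F170086)) (tt N18475 F162898) (tt N17439 F162899) (tt N17438 (iv D35121)) (tt N20813 D36740))
theorem Q19196 : ∀ i, i < 19196 → P i := stepQ 19195 Q19195 (allL N19195 (tt N17442 F162900) (tt N18464 F162901) (tt N18028 F162902) (tt N17562 F162903) (tt N18024 F162904) (tt N20775 (iv F170092)) (tt N19195 F162905) (tt N20813 (iv F170263)) (tt N19195 F162906) (tt N17439 (iv D35122)))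
theorem Q19197 : ∀ i, i < 19197 → P i := stepQ 19196 Q19196 (allL N19196 (tt N18475 F162907) (tt N17447 F162908) (tt N18796 F162909) (tt N17458 F162910) (tt N18794 F162911) (tt N20814 D36741) (tt N17441 F162912) (tt N19196 F162913) (tt N17440 (iv D35123)) (tt N20815 D36742))
theorem Q19198 : ∀ i, i < 19198 → P i := stepQ 19197 Q19197 (allL N19197 (tt N20813 (iv F170257)) (tt N17448 F162914) (tt N18798 F162915) (tt N17563 F162916) (tt N18795 F162917) (tt N20783 (iv F170127)) (tt N20815 (iv F170276)) (tt N17442 F162918) (tt N19197 F162919) (tt N17441 (iv D35124)))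
theorem Q19199 : ∀ i, i < 19199 → P i := stepQ 19198 Q19198 (allL N19198 (tt N18470 F162920) (tt N18794 F162921) (tt N17449 F162922) (tt N19198 F162923) (tt N17447 F162924) (tt N20816 D36743) (tt N17444 F162925) (tt N19198 F162926) (tt N17443 (iv D35125)) (tt N20652 (iv F169420)))
theorem Q19200 : ∀ i, i < 19200 → P i := stepQ 19199 Q19199 (allL N19199 (tt N18471 F162927) (tt N18630 F162928) (tt N17450 F162929) (tt N19199 F162930) (tt N20790 (iv F170159)) (tt N17444 (iv D35126)) (tt N20817 D36744) (tt N17445 F162931) (tt N18625 F162932) (tt N20818 D36745))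
theorem Q19201 : ∀ i, i < 19201 → P i := stepQ 19200 Q19200 (allL N19200 (tt N17953 F162933) (tt N18795 F162934) (tt N17451 F162935) (tt N19200 F162936) (tt N17448 F162937) (tt N20818 (iv F170294)) (tt N20652 (iv F169417)) (tt N17446 F162938) (tt N19200 F162939) (tt N17444 (iv D35127)))
theorem Q19202 : ∀ i, i < 19202 → P i := stepQ 19201 Q19201 (allL N19201 (tt N18472 F162940) (tt N18162 F162941) (tt N17452 F162942) (tt N19201 F162943) (tt N20792 (iv F170169)) (tt N19201 F162944) (tt N17445 (iv D35128)) (tt N20819 D36746) (tt N18158 F162945) (tt N20820 D36747))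
theorem Q19203 : ∀ i, i < 19203 → P i := stepQ 19202 Q19202 (allL N19202 (tt N17914 F162946) (tt N18631 F162947) (tt N17453 F162948) (tt N19202 F162949) (tt N20793 (iv F170174)) (tt N17446 F162950) (tt N20820 (iv F170307)) (tt N20818 (iv F170295)) (tt N20821 D36748) (tt N17445 (iv D35129)))
theorem Q19204 : ∀ i, i < 19204 → P i := stepQ 19203 Q19203 (allL N19203 (tt N18473 F162951) (tt N20814 (iv F170266)) (tt N17454 F162952) (tt N17564 F162953) (tt N20822 D36749) (tt N17447 (iv D35130)) (tt N20794 (iv F170179)) (tt N19203 F162954) (tt N20643 (iv F169363)) (tt N20823 D36750))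
theorem Q19205 : ∀ i, i < 19205 → P i := stepQ 19204 Q19204 (allL N19204 (tt N18474 F162955) (tt N20815 (iv F170272)) (tt N17455 F162956) (tt N17565 F162957) (tt N20652 (iv F169416)) (tt N20823 (iv F170322)) (tt N17448 F162958) (tt N19204 F162959) (tt N19204 F162960) (tt N17447 (iv D35131)))
theorem Q19206 : ∀ i, i < 19206 → P i := stepQ 19205 Q19205 (allL N19205 (tt N18476 F162961) (tt N20643 (iv F169359)) (tt N20816 (iv F170281)) (tt N17459 F162962) (tt N20824 D36751) (tt N17449 (iv D35132)) (tt N20825 D36752) (tt N19205 F162963) (tt N20814 (iv F170270)) (tt N20648 (iv F169391)))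
theorem Q19207 : ∀ i, i < 19207 → P i := stepQ 19206 Q19206 (allL N19206 (tt N18477 F162964) (tt N20644 (iv F169366)) (tt N20817 (iv F170287)) (tt N17460 F162965) (tt N20799 (iv F170194)) (tt N20825 (iv F170329)) (tt N17450 (iv D35133)) (tt N20826 D36753) (tt N20459 (iv F168223)) (tt N20827 D36754))
theorem Q19208 : ∀ i, i < 19208 → P i := stepQ 19207 Q19207 (allL N19207 (tt N17915 F162966) (tt N17848 F162967) (tt N20818 (iv F170292)) (tt N17461 F162968) (tt N20800 (iv F170198)) (tt N17451 F162969) (tt N20827 (iv F170336)) (tt N17453 F162970) (tt N20828 D36755) (tt N17450 (iv D35134)))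
theorem Q19209 : ∀ i, i < 19209 → P i := stepQ 19208 Q19208 (allL N19208 (tt N18478 F162971) (tt N20645 (iv F169372)) (tt N20819 (iv F170298)) (tt N17462 F162972) (tt N20801 (iv F170203)) (tt N19208 F162973) (tt N20826 (iv F170332)) (tt N17452 (iv D35135)) (tt N20461 (iv F168235)) (tt N20829 D36756))
theorem Q19210 : ∀ i, i < 19210 → P i := stepQ 19209 Q19209 (allL N19209 (tt N17866 F162974) (tt N18045 F162975) (tt N20820 (iv F170304)) (tt N17463 F162976) (tt N20802 (iv F170207)) (tt N19209 F162977) (tt N17453 F162978) (tt N20829 (iv F170346)) (tt N18099 (iv F162979)) (tt N17452 (iv D35136)))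
theorem Q19211 : ∀ i, i < 19211 → P i := stepQ 19210 Q19210 (allL N19210 (tt N17916 F162980) (tt N18047 F162981) (tt N20821 (iv F170311)) (tt N17464 F162982) (tt N20803 (iv F170213)) (tt N19210 F162983) (tt N18099 F162984) (tt N20828 (iv F170341)) (tt N17453 (iv D35137)) (tt N20462 (iv F168243)))
theorem Q19212 : ∀ i, i < 19212 → P i := stepQ 19211 Q19211 (allL N19211 (tt N18479 F162985) (tt N20646 (iv F169378)) (tt N20822 (iv F170317)) (tt N20830 D36757) (tt N17454 (iv D35138)) (tt N20824 (iv F170325)) (tt N20804 (iv F170216)) (tt N19211 F162986) (tt N20808 (iv F170231)) (tt N20831 D36758))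
theorem Q19213 : ∀ i, i < 19213 → P i := stepQ 19212 Q19212 (allL N19212 (tt N18480 F162987) (tt N20647 (iv F169382)) (tt N20823 (iv F170320)) (tt N17457 F162988) (tt N20831 (iv F170352)) (tt N17455 F162989) (tt N20805 (iv F170220)) (tt N19212 F162990) (tt N20832 D36759) (tt N17454 (iv D35139)))
theorem Q19214 : ∀ i, i < 19214 → P i := stepQ 19213 Q19213 (allL N19213 (tt N18481 F162991) (tt N20648 (iv F169387)) (tt N20809 (iv F170234)) (tt N17456 (iv D35140)) (tt N20830 (iv F170349)) (tt N17465 F162992) (tt N20806 (iv F170223)) (tt N19213 F162993) (tt N20810 (iv F170242)) (tt N20643 (iv F169364)))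
theorem Q19215 : ∀ i, i < 19215 → P i := stepQ 19214 Q19214 (allL N19214 (tt N18483 F162994) (tt N20649 (iv F169393)) (tt N17566 F162995) (tt N20832 (iv F170355)) (tt N17564 F162996) (tt N19214 F162997) (tt N20807 (iv F170227)) (tt N19214 F162998) (tt N17457 (iv D35141)) (tt N20812 (iv F170256)))
theorem Q19216 : ∀ i, i < 19216 → P i := stepQ 19215 Q19215 (allL N19215 (tt N18484 F162999) (tt N17564 F163000) (tt N19215 F163001) (tt N20814 (iv F170268)) (tt N20649 (iv F169395)) (tt N17458 (iv D35142)) (tt N20833 D36760) (tt N19215 F163002) (tt N17459 F163003) (tt N20834 D36761))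
theorem Q19217 : ∀ i, i < 19217 → P i := stepQ 19216 Q19216 (allL N19216 (tt N18272 F163004) (tt N17565 F163005) (tt N19216 F163006) (tt N20815 (iv F170274)) (tt N19216 F163007) (tt N20834 (iv F170367)) (tt N17563 F163008) (tt N19216 F163009) (tt N19216 F163010) (tt N17458 (iv D35143)))
theorem Q19218 : ∀ i, i < 19218 → P i := stepQ 19217 Q19217 (allL N19217 (tt N18485 F163011) (tt N20650 (iv F169400)) (tt N19217 F163012) (tt N20825 (iv F170328)) (tt N20640 (iv F169341)) (tt N17460 F163013) (tt N17459 (iv D35144)) (tt N20835 D36762) (tt N20833 (iv F170362)) (tt N20639 F169337))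
theorem Q19219 : ∀ i, i < 19219 → P i := stepQ 19218 Q19218 (allL N19218 (tt N18486 F163014) (tt N20651 (iv F169407)) (tt N19218 F163015) (tt N20826 (iv F170331)) (tt N17849 F163016) (tt N20835 (iv F170372)) (tt N17462 F163017) (tt N17460 (iv D35145)) (tt N20463 (iv F168250)) (tt N20836 D36763))
theorem Q19220 : ∀ i, i < 19220 → P i := stepQ 19219 Q19219 (allL N19219 (tt N17917 F163018) (tt N17831 F163019) (tt N19219 F163020) (tt N20827 (iv F170335)) (tt N17702 F163021) (tt N20639 (iv F169334)) (tt N17461 F163022) (tt N20836 (iv F170379)) (tt N20837 D36764) (tt N17460 (iv D35146)))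
theorem Q19221 : ∀ i, i < 19221 → P i := stepQ 19220 Q19220 (allL N19220 (tt N17918 F163023) (tt N17835 F163024) (tt N19220 F163025) (tt N20828 (iv F170339)) (tt N17709 F163026) (tt N19220 F163027) (tt N20837 (iv F170385)) (tt N17464 F163028) (tt N17461 (iv D35147)) (tt N20465 (iv F168265)))
theorem Q19222 : ∀ i, i < 19222 → P i := stepQ 19221 Q19221 (allL N19221 (tt N17867 F163029) (tt N18041 F163030) (tt N19221 F163031) (tt N20829 (iv F170344)) (tt N17850 F163032) (tt N19221 F163033) (tt N20836 (iv F170378)) (tt N17463 F163034) (tt N18100 (iv F163035)) (tt N17462 (iv D35148)))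
theorem Q19223 : ∀ i, i < 19223 → P i := stepQ 19222 Q19222 (allL N19222 (tt N17467 F163036) (tt N18487 F163037) (tt N19222 F163038) (tt N20667 (iv F169508)) (tt N19222 F163039) (tt N18094 F163040) (tt N17485 F163041) (tt N17466 (iv D35149)) (tt N19222 F163042) (tt N18809 F163043))
theorem Q19224 : ∀ i, i < 19224 → P i := stepQ 19223 Q19223 (allL N19223 (tt N18491 F163044) (tt N20463 (iv F168245)) (tt N17470 F163045) (tt N20669 (iv F169521)) (tt N20505 (iv F168518)) (tt N17492 F163046) (tt N17468 (iv D35150)) (tt N17513 F163047) (tt N20651 (iv F169411)) (tt N18811 F163048))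
theorem Q19225 : ∀ i, i < 19225 → P i := stepQ 19224 Q19224 (allL N19224 (tt N18493 F163049) (tt N19224 F163050) (tt N20505 (iv F168517)) (tt N17895 F163051) (tt N17470 F163052) (tt N20838 D36765) (tt N17469 (iv D35151)) (tt N17514 F163053) (tt N17884 F163054) (tt N17893 F163055))
theorem Q19226 : ∀ i, i < 19226 → P i := stepQ 19225 Q19225 (allL N19225 (tt N18494 F163056) (tt N19225 F163057) (tt N20651 (iv F169408)) (tt N17472 F163058) (tt N17884 F163059) (tt N20839 D36766) (tt N17471 F163060) (tt N17515 F163061) (tt N17470 (iv D35152)) (tt N17883 F163062))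
theorem Q19227 : ∀ i, i < 19227 → P i := stepQ 19226 Q19226 (allL N19226 (tt N18495 F163063) (tt N19226 F163064) (tt N20674 (iv F169551)) (tt N20839 (iv F170397)) (tt N20840 D36767) (tt N17472 (iv D35153)) (tt N19226 F163065) (tt N17516 F163066) (tt N17499 F163067) (tt N18262 F163068))
theorem Q19228 : ∀ i, i < 19228 → P i := stepQ 19227 Q19227 (allL N19227 (tt N17474 F163069) (tt N17525 F163070) (tt N19227 F163071) (tt N20675 (iv F169559)) (tt N17522 (iv F163075)) (tt N17473 (iv D35154)) (tt N17518 F163072) (tt N20841 D36768) (tt N17520 F163073) (tt N17484 F163074))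
theorem Q19229 : ∀ i, i < 19229 → P i := stepQ 19228 Q19228 (allL N19228 (tt N17475 F163076) (tt N18496 F163077) (tt N19228 F163078) (tt N20676 (iv F169566)) (tt N19228 F163079) (tt N20841 (iv F170415)) (tt N18809 F163080) (tt N17473 (iv D35155)) (tt N18812 F163081) (tt N17485 F163082))
theorem Q19230 : ∀ i, i < 19230 → P i := stepQ 19229 Q19229 (allL N19229 (tt N17522 F163083) (tt N17476 F163084) (tt N19229 F163085) (tt N20745 (iv F169945)) (tt N17474 (iv D35156)) (tt N19229 F163086) (tt N17520 F163087) (tt N20842 D36769) (tt N17518 (iv F163089)) (tt N17486 F163088))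
theorem Q19231 : ∀ i, i < 19231 → P i := stepQ 19230 Q19230 (allL N19230 (tt N20841 (iv F170411)) (tt N17477 F163090) (tt N19230 F163091) (tt N20678 (iv F169578)) (tt N20842 (iv F170421)) (tt N17475 F163092) (tt N20843 D36770) (tt N17474 (iv D35157)) (tt N20844 D36771) (tt N17487 F163093))
theorem Q19232 : ∀ i, i < 19232 → P i := stepQ 19231 Q19231 (allL N19231 (tt N17520 F163094) (tt N17478 F163095) (tt N19231 F163096) (tt N20679 (iv F169584)) (tt N17518 F163097) (tt N17570 F163098) (tt N17522 F163099) (tt N20844 (iv F170435)) (tt N17474 (iv D35158)) (tt N17535 (iv F163100)))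
theorem Q19233 : ∀ i, i < 19233 → P i := stepQ 19232 Q19232 (allL N19232 (tt N18414 F163101) (tt N20745 (iv F169943)) (tt N17854 F163102) (tt N17476 (iv D35159)) (tt N20680 (iv F169590)) (tt N19232 F163103) (tt N17523 F163104) (tt N20845 D36772) (tt N18410 F163105) (tt N17489 F163106))
theorem Q19234 : ∀ i, i < 19234 → P i := stepQ 19233 Q19233 (allL N19233 (tt N18498 F163107) (tt N20842 (iv F170419)) (tt N17479 F163108) (tt N20845 (iv F170439)) (tt N17477 F163109) (tt N19233 F163110) (tt N20846 D36773) (tt N17476 (iv D35160)) (tt N18538 F163111) (tt N17490 F163112))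
theorem Q19235 : ∀ i, i < 19235 → P i := stepQ 19234 Q19234 (allL N19234 (tt N18499 F163113) (tt N20843 (iv F170425)) (tt N17480 F163114) (tt N20683 (iv F169608)) (tt N20846 (iv F170445)) (tt N18811 F163115) (tt N17477 (iv D35161)) (tt N17526 F163116) (tt N20847 D36774) (tt N17492 F163117))
theorem Q19236 : ∀ i, i < 19236 → P i := stepQ 19235 Q19235 (allL N19235 (tt N18500 F163118) (tt N20844 (iv F170431)) (tt N17481 F163119) (tt N20684 (iv F169614)) (tt N18538 F163120) (tt N18574 F163121) (tt N20847 (iv F170452)) (tt N17478 F163122) (tt N17477 (iv D35162)) (tt N18550 (iv F163123)))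
theorem Q19237 : ∀ i, i < 19237 → P i := stepQ 19236 Q19236 (allL N19236 (tt N18501 F163124) (tt N19236 F163125) (tt N20846 (iv F170444)) (tt N17860 F163126) (tt N17480 F163127) (tt N20848 D36775) (tt N17479 (iv D35163)) (tt N17529 F163128) (tt N18851 F163129) (tt N17495 F163130))
theorem Q19238 : ∀ i, i < 19238 → P i := stepQ 19237 Q19237 (allL N19237 (tt N18502 F163131) (tt N19237 F163132) (tt N20847 (iv F170450)) (tt N17482 F163133) (tt N18851 F163134) (tt N20849 D36776) (tt N17481 F163135) (tt N17531 F163136) (tt N17480 (iv D35164)) (tt N18854 (iv F163137)))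
theorem Q19239 : ∀ i, i < 19239 → P i := stepQ 19238 Q19238 (allL N19238 (tt N18503 F163138) (tt N19238 F163139) (tt N20691 (iv F169655)) (tt N20849 (iv F170465)) (tt N17930 (iv F163143)) (tt N17482 (iv D35165)) (tt N17949 F163140) (tt N17533 F163141) (tt N17898 F163142) (tt N20850 D36777))
theorem Q19240 : ∀ i, i < 19240 → P i := stepQ 19239 Q19239 (allL N19239 (tt N18504 F163144) (tt N19239 F163145) (tt N20692 (iv F169662)) (tt N18854 F163146) (tt N17865 F163147) (tt N20850 (iv F170475)) (tt N17483 F163148) (tt N17534 F163149) (tt N17500 F163150) (tt N17482 (iv D35166)))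
theorem Q19241 : ∀ i, i < 19241 → P i := stepQ 19240 Q19240 (allL N19240 (tt N17486 F163151) (tt N17528 F163152) (tt N19240 F163153) (tt N20751 (iv F169974)) (tt N17484 (iv D35167)) (tt N19240 F163154) (tt N17535 F163155) (tt N20851 D36778) (tt N17543 (iv F163157)) (tt N17522 F163156))
theorem Q19242 : ∀ i, i < 19242 → P i := stepQ 19241 Q19241 (allL N19241 (tt N17487 F163158) (tt N18505 F163159) (tt N19241 F163160) (tt N20694 (iv F169675)) (tt N20851 (iv F170482)) (tt N17485 F163161) (tt N20852 D36779) (tt N17484 (iv D35168)) (tt N20853 D36780) (tt N20841 (iv F170417)))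
theorem Q19243 : ∀ i, i < 19243 → P i := stepQ 19242 Q19242 (allL N19242 (tt N17488 F163162) (tt N17548 F163163) (tt N19242 F163164) (tt N20695 (iv F169680)) (tt N17543 F163165) (tt N19242 F163166) (tt N17537 F163167) (tt N20853 (iv F170496)) (tt N17484 (iv D35169)) (tt N17540 F163168))
theorem Q19244 : ∀ i, i < 19244 → P i := stepQ 19243 Q19243 (allL N19243 (tt N20751 (iv F169971)) (tt N17489 F163169) (tt N20854 D36781) (tt N17486 (iv D35170)) (tt N20696 (iv F169685)) (tt N19243 F163170) (tt N17538 F163171) (tt N20855 D36782) (tt N20775 (iv F170094)) (tt N20745 F169948))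
theorem Q19245 : ∀ i, i < 19245 → P i := stepQ 19244 Q19244 (allL N19244 (tt N20851 (iv F170479)) (tt N17490 F163172) (tt N19244 F163173) (tt N20855 (iv F170506)) (tt N17487 F163174) (tt N19244 F163175) (tt N20856 D36783) (tt N17486 (iv D35171)) (tt N20857 D36784) (tt N20842 (iv F170424)))
theorem Q19246 : ∀ i, i < 19246 → P i := stepQ 19245 Q19245 (allL N19245 (tt N17543 F163176) (tt N17491 F163177) (tt N19245 F163178) (tt N20775 (iv F170091)) (tt N17488 F163179) (tt N17562 (iv F163182)) (tt N17540 F163180) (tt N20857 (iv F170516)) (tt N17486 (iv D35172)) (tt N17537 F163181))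
theorem Q19247 : ∀ i, i < 19247 → P i := stepQ 19246 Q19246 (allL N19246 (tt N20852 (iv F170486)) (tt N17492 F163183) (tt N19246 F163184) (tt N20699 (iv F169698)) (tt N20856 (iv F170510)) (tt N20463 (iv F168248)) (tt N17487 (iv D35173)) (tt N17541 F163185) (tt N20858 D36785) (tt N20843 (iv F170429)))
theorem Q19248 : ∀ i, i < 19248 → P i := stepQ 19247 Q19247 (allL N19247 (tt N20853 (iv F170491)) (tt N17493 F163186) (tt N19247 F163187) (tt N20700 (iv F169702)) (tt N20857 (iv F170515)) (tt N19247 F163188) (tt N20858 (iv F170521)) (tt N17488 F163189) (tt N17487 (iv D35174)) (tt N20859 D36786))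
theorem Q19249 : ∀ i, i < 19249 → P i := stepQ 19248 Q19248 (allL N19248 (tt N17540 F163190) (tt N17494 F163191) (tt N19248 F163192) (tt N20701 (iv F169708)) (tt N17537 F163193) (tt N19248 F163194) (tt N17543 F163195) (tt N20859 (iv F170528)) (tt N17535 F163196) (tt N17488 (iv D35175)))
theorem Q19250 : ∀ i, i < 19250 → P i := stepQ 19249 Q19249 (allL N19249 (tt N18509 F163197) (tt N20855 (iv F170505)) (tt N17872 F163198) (tt N17490 F163199) (tt N20702 (iv F169715)) (tt N19249 F163200) (tt N20860 D36787) (tt N17489 (iv D35176)) (tt N20861 D36788) (tt N20845 (iv F170442)))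
theorem Q19251 : ∀ i, i < 19251 → P i := stepQ 19250 Q19250 (allL N19250 (tt N18437 F163201) (tt N20775 (iv F170089)) (tt N17873 F163202) (tt N17491 F163203) (tt N20703 (iv F169719)) (tt N18464 (iv F163206)) (tt N17545 F163204) (tt N20861 (iv F170537)) (tt N17489 (iv D35177)) (tt N18431 F163205))
theorem Q19252 : ∀ i, i < 19252 → P i := stepQ 19251 Q19251 (allL N19251 (tt N18510 F163207) (tt N20856 (iv F170508)) (tt N17495 F163208) (tt N20860 (iv F170532)) (tt N17492 F163209) (tt N20862 D36789) (tt N17490 (iv D35178)) (tt N17546 F163210) (tt N20863 D36790) (tt N20846 (iv F170448)))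
theorem Q19253 : ∀ i, i < 19253 → P i := stepQ 19252 Q19252 (allL N19252 (tt N18511 F163211) (tt N20857 (iv F170513)) (tt N17496 F163212) (tt N20861 (iv F170536)) (tt N17493 F163213) (tt N18105 (iv F163216)) (tt N20863 (iv F170547)) (tt N17491 F163214) (tt N17490 (iv D35179)) (tt N18552 F163215))
theorem Q19254 : ∀ i, i < 19254 → P i := stepQ 19253 Q19253 (allL N19253 (tt N18512 F163217) (tt N20858 (iv F170519)) (tt N17497 F163218) (tt N20708 (iv F169741)) (tt N20863 (iv F170546)) (tt N20864 D36791) (tt N17493 F163219) (tt N17549 F163220) (tt N17492 (iv D35180)) (tt N20865 D36792))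
theorem Q19255 : ∀ i, i < 19255 → P i := stepQ 19254 Q19254 (allL N19254 (tt N18513 F163221) (tt N20859 (iv F170524)) (tt N17498 F163222) (tt N20709 (iv F169746)) (tt N18552 F163223) (tt N19254 F163224) (tt N20865 (iv F170558)) (tt N17494 F163225) (tt N18550 F163226) (tt N17493 (iv D35181)))
theorem Q19256 : ∀ i, i < 19256 → P i := stepQ 19255 Q19255 (allL N19255 (tt N18514 F163227) (tt N19255 F163228) (tt N20862 (iv F170541)) (tt N17879 F163229) (tt N20838 (iv F170390)) (tt N17495 (iv D35182)) (tt N19255 F163230) (tt N17551 F163231) (tt N20866 D36793) (tt N20848 (iv F170462)))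
theorem Q19257 : ∀ i, i < 19257 → P i := stepQ 19256 Q19256 (allL N19256 (tt N18515 F163232) (tt N19256 F163233) (tt N20863 (iv F170545)) (tt N17880 F163234) (tt N17497 F163235) (tt N18265 (iv F163239)) (tt N17496 F163236) (tt N17552 F163237) (tt N17495 (iv D35183)) (tt N18855 F163238))
theorem Q19258 : ∀ i, i < 19258 → P i := stepQ 19257 Q19257 (allL N19257 (tt N18516 F163240) (tt N19257 F163241) (tt N20864 (iv F170552)) (tt N17499 F163242) (tt N20867 D36794) (tt N17497 (iv D35184)) (tt N19257 F163243) (tt N17554 F163244) (tt N20839 (iv F170401)) (tt N20868 D36795))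
theorem Q19259 : ∀ i, i < 19259 → P i := stepQ 19258 Q19258 (allL N19258 (tt N18517 F163245) (tt N19258 F163246) (tt N20865 (iv F170556)) (tt N17500 F163247) (tt N18855 F163248) (tt N20868 (iv F170581)) (tt N17498 F163249) (tt N17555 F163250) (tt N18854 F163251) (tt N17497 (iv D35185)))
theorem Q19260 : ∀ i, i < 19260 → P i := stepQ 19259 Q19259 (allL N19259 (tt N18518 F163252) (tt N19259 F163253) (tt N20718 (iv F169783)) (tt N18262 (iv F163257)) (tt N17499 (iv D35186)) (tt N17883 F163254) (tt N19259 F163255) (tt N17556 F163256) (tt N20840 (iv F170408)) (tt N20839 (iv F170402)))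
theorem Q19261 : ∀ i, i < 19261 → P i := stepQ 19260 Q19260 (allL N19260 (tt N18519 F163258) (tt N19260 F163259) (tt N20719 (iv F169788)) (tt N20868 (iv F170579)) (tt N20839 (iv F170398)) (tt N17500 F163260) (tt N19260 F163261) (tt N17557 F163262) (tt N20867 (iv F170575)) (tt N17499 (iv D35187)))
theorem Q19262 : ∀ i, i < 19262 → P i := stepQ 19261 Q19261 (allL N19261 (tt N18063 F163263) (tt N17503 F163264) (tt N19261 F163265) (tt N20721 (iv F169803)) (tt N18120 F163266) (tt N17502 F163267) (tt N20869 D36796) (tt N17501 (iv D35188)) (tt N18136 F163268) (tt N17642 F163269))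
theorem Q19263 : ∀ i, i < 19263 → P i := stepQ 19262 Q19262 (allL N19262 (tt N18520 F163270) (tt N20869 (iv F170586)) (tt N17505 F163271) (tt N20723 (iv F169815)) (tt N20482 (iv F168377)) (tt N17890 F163272) (tt N17503 (iv D35189)) (tt N17793 F163273) (tt N18185 F163274) (tt N17740 F163275))
theorem Q19264 : ∀ i, i < 19264 → P i := stepQ 19263 Q19263 (allL N19263 (tt N18521 F163276) (tt N19263 F163277) (tt N20482 (iv F168376)) (tt N17514 F163278) (tt N17505 F163279) (tt N20870 D36797) (tt N17504 (iv D35190)) (tt N17895 F163280) (tt N17933 F163281) (tt N17852 F163282))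
theorem Q19265 : ∀ i, i < 19265 → P i := stepQ 19264 Q19264 (allL N19264 (tt N18522 F163283) (tt N19264 F163284) (tt N20727 (iv F169842)) (tt N18250 F163285) (tt N20871 D36798) (tt N17506 (iv D35191)) (tt N19264 F163286) (tt N18264 F163287) (tt N17894 F163288) (tt N18249 F163289))
theorem Q19266 : ∀ i, i < 19266 → P i := stepQ 19265 Q19265 (allL N19265 (tt N18525 F163290) (tt N20464 (iv F168253)) (tt N17510 F163291) (tt N20729 (iv F169854)) (tt N20506 (iv F168525)) (tt N17526 F163292) (tt N17507 (iv D35192)) (tt N18811 F163293) (tt N20872 D36799) (tt N17513 F163294))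
theorem Q19267 : ∀ i, i < 19267 → P i := stepQ 19266 Q19266 (allL N19266 (tt N18526 F163295) (tt N20465 (iv F168260)) (tt N17511 F163296) (tt N20730 (iv F169860)) (tt N17836 F163297) (tt N19266 F163298) (tt N20872 (iv F170612)) (tt N17508 F163299) (tt N17507 (iv D35193)) (tt N17835 F163300))
theorem Q19268 : ∀ i, i < 19268 → P i := stepQ 19267 Q19267 (allL N19267 (tt N18527 F163301) (tt N19267 F163302) (tt N20506 (iv F168524)) (tt N17852 F163303) (tt N17510 F163304) (tt N18267 F163305) (tt N17509 (iv D35194)) (tt N17893 F163306) (tt N17851 F163307) (tt N17514 F163308))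
theorem Q19269 : ∀ i, i < 19269 → P i := stepQ 19268 Q19268 (allL N19268 (tt N18528 F163309) (tt N19268 F163310) (tt N20872 (iv F170610)) (tt N17512 F163311) (tt N17851 F163312) (tt N20873 D36800) (tt N17511 F163313) (tt N17892 F163314) (tt N17510 (iv D35195)) (tt N17899 F163315))
theorem Q19270 : ∀ i, i < 19270 → P i := stepQ 19269 Q19269 (allL N19269 (tt N18529 F163316) (tt N19269 F163317) (tt N20734 (iv F169884)) (tt N20873 (iv F170617)) (tt N17879 F163318) (tt N17512 (iv D35196)) (tt N19269 F163319) (tt N17898 F163320) (tt N17533 F163321) (tt N18248 F163322))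
theorem Q19271 : ∀ i, i < 19271 → P i := stepQ 19270 Q19270 (allL N19270 (tt N18534 F163323) (tt N19270 F163324) (tt N20504 (iv F168510)) (tt N20870 (iv F170595)) (tt N17551 F163325) (tt N17514 (iv D35197)) (tt N17569 F163326) (tt N20838 (iv F170392)) (tt N17913 F163327) (tt N18267 F163328))
theorem Q19272 : ∀ i, i < 19272 → P i := stepQ 19271 Q19271 (allL N19271 (tt N18535 F163329) (tt N19271 F163330) (tt N20650 (iv F169401)) (tt N17516 F163331) (tt N17557 F163332) (tt N17515 (iv D35198)) (tt N17558 F163333) (tt N20839 (iv F170400)) (tt N17554 F163334) (tt N17556 F163335))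
theorem Q19273 : ∀ i, i < 19273 → P i := stepQ 19272 Q19272 (allL N19272 (tt N18536 F163336) (tt N19272 F163337) (tt N20741 (iv F169922)) (tt N20874 D36801) (tt N17516 (iv D35199)) (tt N20871 (iv F170603)) (tt N17559 F163338) (tt N20840 (iv F170407)) (tt N17556 F163339) (tt N20875 D36802))
theorem Q19274 : ∀ i, i < 19274 → P i := stepQ 19273 Q19273 (allL N19273 (tt N18537 F163340) (tt N19273 F163341) (tt N20742 (iv F169927)) (tt N17556 F163342) (tt N20875 (iv F170634)) (tt N17517 F163343) (tt N17560 F163344) (tt N18262 F163345) (tt N20874 (iv F170629)) (tt N17516 (iv D35200)))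
theorem Q19275 : ∀ i, i < 19275 → P i := stepQ 19274 Q19274 (allL N19274 (tt N17521 F163346) (tt N18538 F163347) (tt N19274 F163348) (tt N20744 (iv F169939)) (tt N20844 (iv F170433)) (tt N17519 F163349) (tt N20876 D36803) (tt N17518 (iv D35201)) (tt N20842 (iv F170423)) (tt N17536 F163350))
theorem Q19276 : ∀ i, i < 19276 → P i := stepQ 19275 Q19275 (allL N19275 (tt N20679 (iv F169581)) (tt N17523 F163351) (tt N18467 (iv F163354)) (tt N17520 (iv D35202)) (tt N20746 (iv F169950)) (tt N17573 F163352) (tt N20745 (iv F169947)) (tt N20877 D36804) (tt N20675 (iv F169561)) (tt N17538 F163353))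
theorem Q19277 : ∀ i, i < 19277 → P i := stepQ 19276 Q19276 (allL N19276 (tt N20844 (iv F170430)) (tt N17524 F163355) (tt N19276 F163356) (tt N20877 (iv F170646)) (tt N17521 F163357) (tt N17574 F163358) (tt N20878 D36805) (tt N17520 (iv D35203)) (tt N20841 (iv F170416)) (tt N17539 F163359))
theorem Q19278 : ∀ i, i < 19278 → P i := stepQ 19277 Q19277 (allL N19277 (tt N20876 (iv F170639)) (tt N17526 F163360) (tt N19277 F163361) (tt N20749 (iv F169964)) (tt N20878 (iv F170651)) (tt N20464 (iv F168256)) (tt N17521 (iv D35204)) (tt N20843 (iv F170428)) (tt N20879 D36806) (tt N17541 F163362))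
theorem Q19279 : ∀ i, i < 19279 → P i := stepQ 19278 Q19278 (allL N19278 (tt N20842 (iv F170418)) (tt N17527 F163363) (tt N19278 F163364) (tt N20750 (iv F169968)) (tt N20841 (iv F170414)) (tt N19278 F163365) (tt N20879 (iv F170655)) (tt N17522 F163366) (tt N17521 (iv D35205)) (tt N20851 (iv F170485)))
theorem Q19280 : ∀ i, i < 19280 → P i := stepQ 19279 Q19279 (allL N19279 (tt N18540 F163367) (tt N20877 (iv F170644)) (tt N17900 F163368) (tt N17524 F163369) (tt N20752 (iv F169981)) (tt N17577 F163370) (tt N20880 D36807) (tt N17523 (iv D35206)) (tt N20881 D36808) (tt N17544 F163371))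
theorem Q19281 : ∀ i, i < 19281 → P i := stepQ 19280 Q19280 (allL N19280 (tt N18304 F163372) (tt N20675 (iv F169557)) (tt N17901 F163373) (tt N17525 F163374) (tt N20753 (iv F169987)) (tt N18065 F163375) (tt N18410 F163376) (tt N20881 (iv F170664)) (tt N17523 (iv D35207)) (tt N18369 (iv F163377)))
theorem Q19282 : ∀ i, i < 19282 → P i := stepQ 19281 Q19281 (allL N19281 (tt N18541 F163378) (tt N20878 (iv F170649)) (tt N17529 F163379) (tt N20880 (iv F170658)) (tt N17526 F163380) (tt N20882 D36809) (tt N17524 (iv D35208)) (tt N20846 (iv F170446)) (tt N20883 D36810) (tt N17546 F163381))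
theorem Q19283 : ∀ i, i < 19283 → P i := stepQ 19282 Q19282 (allL N19282 (tt N18497 F163382) (tt N20841 (iv F170412)) (tt N17530 F163383) (tt N20881 (iv F170662)) (tt N17527 F163384) (tt N18496 F163385) (tt N20883 (iv F170675)) (tt N17525 F163386) (tt N17524 (iv D35209)) (tt N18505 (iv F163387)))
theorem Q19284 : ∀ i, i < 19284 → P i := stepQ 19283 Q19283 (allL N19283 (tt N18542 F163388) (tt N20879 (iv F170653)) (tt N17531 F163389) (tt N20758 (iv F170012)) (tt N20883 (iv F170674)) (tt N20884 D36811) (tt N17527 F163390) (tt N20847 (iv F170453)) (tt N17526 (iv D35210)) (tt N20885 D36812))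
theorem Q19285 : ∀ i, i < 19285 → P i := stepQ 19284 Q19284 (allL N19284 (tt N18506 F163391) (tt N20851 (iv F170480)) (tt N17532 F163392) (tt N20759 (iv F170016)) (tt N18505 F163393) (tt N19284 F163394) (tt N20885 (iv F170685)) (tt N17528 F163395) (tt N17550 F163396) (tt N17527 (iv D35211)))
theorem Q19286 : ∀ i, i < 19286 → P i := stepQ 19285 Q19285 (allL N19285 (tt N18543 F163397) (tt N19285 F163398) (tt N20882 (iv F170667)) (tt N17907 F163399) (tt N18267 F163400) (tt N17529 (iv D35212)) (tt N17581 F163401) (tt N20848 (iv F170460)) (tt N18266 (iv F163403)) (tt N17551 F163402))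
theorem Q19287 : ∀ i, i < 19287 → P i := stepQ 19286 Q19286 (allL N19286 (tt N18544 F163404) (tt N19286 F163405) (tt N20883 (iv F170673)) (tt N17908 F163406) (tt N17531 F163407) (tt N18832 (iv F163411)) (tt N17530 F163408) (tt N18851 F163409) (tt N17529 (iv D35213)) (tt N18840 (iv F163410)))
theorem Q19288 : ∀ i, i < 19288 → P i := stepQ 19287 Q19287 (allL N19287 (tt N18545 F163412) (tt N19287 F163413) (tt N20884 (iv F170680)) (tt N17533 F163414) (tt N20886 D36813) (tt N17531 (iv D35214)) (tt N19287 F163415) (tt N20849 (iv F170468)) (tt N20873 (iv F170621)) (tt N20887 D36814))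
theorem Q19289 : ∀ i, i < 19289 → P i := stepQ 19288 Q19288 (allL N19288 (tt N18546 F163416) (tt N19288 F163417) (tt N20885 (iv F170683)) (tt N17534 F163418) (tt N18840 F163419) (tt N20887 (iv F170700)) (tt N17532 F163420) (tt N18854 F163421) (tt N17555 F163422) (tt N17531 (iv D35215)))
theorem Q19290 : ∀ i, i < 19290 → P i := stepQ 19289 Q19289 (allL N19289 (tt N18547 F163423) (tt N19289 F163424) (tt N20768 (iv F170054)) (tt N20866 (iv F170563)) (tt N17533 (iv D35216)) (tt N17912 F163425) (tt N19289 F163426) (tt N17930 F163427) (tt N17879 F163428) (tt N20888 D36815))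
theorem Q19291 : ∀ i, i < 19291 → P i := stepQ 19290 Q19290 (allL N19290 (tt N18548 F163429) (tt N19290 F163430) (tt N20769 (iv F170060)) (tt N20887 (iv F170698)) (tt N20888 (iv F170707)) (tt N17534 F163431) (tt N19290 F163432) (tt N20850 (iv F170477)) (tt N20889 D36816) (tt N17533 (iv D35217)))
theorem Q19292 : ∀ i, i < 19292 → P i := stepQ 19291 Q19291 (allL N19291 (tt N17538 F163433) (tt N18549 F163434) (tt N20890 D36817) (tt N17535 (iv D35218)) (tt N20770 (iv F170065)) (tt N17583 F163435) (tt N20751 (iv F169976)) (tt N20891 D36818) (tt N20701 (iv F169711)) (tt N20679 F169587))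
theorem Q19293 : ∀ i, i < 19293 → P i := stepQ 19292 Q19292 (allL N19292 (tt N17539 F163436) (tt N18550 F163437) (tt N19292 F163438) (tt N20891 (iv F170729)) (tt N17536 F163439) (tt N17584 F163440) (tt N20892 D36819) (tt N17535 (iv D35219)) (tt N20859 (iv F170529)) (tt N20844 F170436))
theorem Q19294 : ∀ i, i < 19294 → P i := stepQ 19293 Q19293 (allL N19293 (tt N17541 F163441) (tt N18551 F163442) (tt N19293 F163443) (tt N20773 (iv F170080)) (tt N20892 (iv F170734)) (tt N18092 F163444) (tt N17536 (iv D35220)) (tt N20852 (iv F170490)) (tt N20893 D36820) (tt N20876 (iv F170643)))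
theorem Q19295 : ∀ i, i < 19295 → P i := stepQ 19294 Q19294 (allL N19294 (tt N17542 F163445) (tt N18552 F163446) (tt N19294 F163447) (tt N20774 (iv F170085)) (tt N20859 (iv F170526)) (tt N17561 F163448) (tt N20893 (iv F170740)) (tt N17537 F163449) (tt N17536 (iv D35221)) (tt N20857 (iv F170517)))
theorem Q19296 : ∀ i, i < 19296 → P i := stepQ 19295 Q19295 (allL N19295 (tt N20890 (iv F170720)) (tt N17914 F163450) (tt N17538 (iv D35222)) (tt N19295 F163451) (tt N20776 (iv F170097)) (tt N17585 F163452) (tt N20854 (iv F170502)) (tt N20894 D36821) (tt N20895 D36822) (tt N18467 F163453))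
theorem Q19297 : ∀ i, i < 19297 → P i := stepQ 19296 Q19296 (allL N19296 (tt N20891 (iv F170727)) (tt N17544 F163454) (tt N20894 (iv F170742)) (tt N17539 F163455) (tt N20777 (iv F170102)) (tt N17586 F163456) (tt N20896 D36823) (tt N17538 (iv D35223)) (tt N20897 D36824) (tt N20877 (iv F170648)))
theorem Q19298 : ∀ i, i < 19298 → P i := stepQ 19297 Q19297 (allL N19297 (tt N20701 (iv F169705)) (tt N17545 F163457) (tt N20895 (iv F170748)) (tt N17540 F163458) (tt N20778 (iv F170106)) (tt N19297 F163459) (tt N20775 (iv F170093)) (tt N20897 (iv F170758)) (tt N17538 (iv D35224)) (tt N20695 (iv F169683)))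
theorem Q19299 : ∀ i, i < 19299 → P i := stepQ 19298 Q19298 (allL N19298 (tt N20892 (iv F170731)) (tt N17546 F163460) (tt N19298 F163461) (tt N20896 (iv F170754)) (tt N17541 F163462) (tt N20574 (iv F168921)) (tt N17539 (iv D35225)) (tt N20856 (iv F170511)) (tt N20898 D36825) (tt N20878 (iv F170652)))
theorem Q19300 : ∀ i, i < 19300 → P i := stepQ 19299 Q19299 (allL N19299 (tt N20859 (iv F170523)) (tt N17547 F163463) (tt N19299 F163464) (tt N20897 (iv F170756)) (tt N17542 F163465) (tt N19299 F163466) (tt N20898 (iv F170762)) (tt N17540 F163467) (tt N17539 (iv D35226)) (tt N20853 (iv F170497)))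
theorem Q19301 : ∀ i, i < 19301 → P i := stepQ 19300 Q19300 (allL N19300 (tt N20893 (iv F170736)) (tt N17549 F163468) (tt N19300 F163469) (tt N20782 (iv F170122)) (tt N20898 (iv F170761)) (tt N20833 (iv F170361)) (tt N17542 F163470) (tt N20858 (iv F170522)) (tt N17541 (iv D35227)) (tt N20899 D36826))
theorem Q19302 : ∀ i, i < 19302 → P i := stepQ 19301 Q19301 (allL N19301 (tt N20857 (iv F170512)) (tt N17550 F163471) (tt N19301 F163472) (tt N20783 (iv F170126)) (tt N20853 (iv F170494)) (tt N17563 F163473) (tt N20899 (iv F170765)) (tt N17543 F163474) (tt N20851 (iv F170484)) (tt N17542 (iv D35228)))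
theorem Q19303 : ∀ i, i < 19303 → P i := stepQ 19302 Q19302 (allL N19302 (tt N18556 F163475) (tt N20896 (iv F170753)) (tt N17922 F163476) (tt N17546 F163477) (tt N20784 (iv F170132)) (tt N20900 D36827) (tt N17544 (iv D35229)) (tt N20860 (iv F170533)) (tt N20901 D36828) (tt N20880 (iv F170659)))
theorem Q19304 : ∀ i, i < 19304 → P i := stepQ 19303 Q19303 (allL N19303 (tt N18557 F163478) (tt N20897 (iv F170755)) (tt N17923 F163479) (tt N17547 F163480) (tt N20785 (iv F170136)) (tt N19303 F163481) (tt N20901 (iv F170773)) (tt N17545 F163482) (tt N17544 (iv D35230)) (tt N20902 D36829))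
theorem Q19305 : ∀ i, i < 19305 → P i := stepQ 19304 Q19304 (allL N19304 (tt N18373 F163483) (tt N20695 (iv F169678)) (tt N17924 F163484) (tt N17548 F163485) (tt N20787 (iv F170147)) (tt N19304 F163486) (tt N18431 F163487) (tt N20902 (iv F170778)) (tt N18369 F163488) (tt N17545 (iv D35231)))
theorem Q19306 : ∀ i, i < 19306 → P i := stepQ 19305 Q19305 (allL N19305 (tt N18558 F163489) (tt N20574 (iv F168918)) (tt N17551 F163490) (tt N20900 (iv F170768)) (tt N20504 (iv F168511)) (tt N17546 (iv D35232)) (tt N17588 F163491) (tt N20862 (iv F170543)) (tt N20903 D36830) (tt N20882 (iv F170670)))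
theorem Q19307 : ∀ i, i < 19307 → P i := stepQ 19306 Q19306 (allL N19306 (tt N18559 F163492) (tt N20898 (iv F170759)) (tt N17552 F163493) (tt N20901 (iv F170772)) (tt N17549 F163494) (tt N20904 D36831) (tt N17547 F163495) (tt N20863 (iv F170548)) (tt N17546 (iv D35233)) (tt N20905 D36832))
theorem Q19308 : ∀ i, i < 19308 → P i := stepQ 19307 Q19307 (allL N19307 (tt N18508 F163496) (tt N20853 (iv F170492)) (tt N17553 F163497) (tt N20902 (iv F170776)) (tt N17550 F163498) (tt N19307 F163499) (tt N20905 (iv F170792)) (tt N17548 F163500) (tt N18505 F163501) (tt N17547 (iv D35234)))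
theorem Q19309 : ∀ i, i < 19309 → P i := stepQ 19308 Q19308 (allL N19308 (tt N18560 F163502) (tt N20833 (iv F170359)) (tt N17554 F163503) (tt N20794 (iv F170178)) (tt N20807 (iv F170226)) (tt N17549 (iv D35235)) (tt N17564 F163504) (tt N20864 (iv F170554)) (tt N20650 (iv F169404)) (tt N20906 D36833))
theorem Q19310 : ∀ i, i < 19310 → P i := stepQ 19309 Q19309 (allL N19309 (tt N18561 F163505) (tt N20899 (iv F170763)) (tt N17555 F163506) (tt N20795 (iv F170182)) (tt N20905 (iv F170791)) (tt N20906 (iv F170797)) (tt N17550 F163507) (tt N20865 (iv F170559)) (tt N20885 (iv F170687)) (tt N17549 (iv D35236)))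
theorem Q19311 : ∀ i, i < 19311 → P i := stepQ 19310 Q19310 (allL N19310 (tt N18562 F163508) (tt N19310 F163509) (tt N20903 (iv F170781)) (tt N17930 F163510) (tt N17913 F163511) (tt N20888 (iv F170708)) (tt N17589 F163512) (tt N20866 (iv F170567)) (tt N17551 (iv D35237)) (tt N17912 F163513))
theorem Q19312 : ∀ i, i < 19312 → P i := stepQ 19311 Q19311 (allL N19311 (tt N18563 F163514) (tt N19311 F163515) (tt N20904 (iv F170786)) (tt N17931 F163516) (tt N20889 (iv F170715)) (tt N17552 (iv D35238)) (tt N19311 F163517) (tt N18265 F163518) (tt N20888 F170711) (tt N20907 D36834))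
theorem Q19313 : ∀ i, i < 19313 → P i := stepQ 19312 Q19312 (allL N19312 (tt N18564 F163519) (tt N19312 F163520) (tt N20905 (iv F170790)) (tt N17932 F163521) (tt N17555 F163522) (tt N20907 (iv F170803)) (tt N17553 F163523) (tt N18855 F163524) (tt N18840 F163525) (tt N17552 (iv D35239)))
theorem Q19314 : ∀ i, i < 19314 → P i := stepQ 19313 Q19313 (allL N19313 (tt N18565 F163526) (tt N19313 F163527) (tt N20807 (iv F170225)) (tt N20875 (iv F170633)) (tt N17554 (iv D35240)) (tt N20889 (iv F170716)) (tt N17566 F163528) (tt N20867 (iv F170574)) (tt N17557 F163529) (tt N20874 F170630))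
theorem Q19315 : ∀ i, i < 19315 → P i := stepQ 19314 Q19314 (allL N19314 (tt N18566 F163530) (tt N19314 F163531) (tt N20906 (iv F170796)) (tt N17557 F163532) (tt N20874 (iv F170625)) (tt N17555 F163533) (tt N17567 F163534) (tt N20868 (iv F170583)) (tt N20875 (iv F170638)) (tt N17554 (iv D35241)))
theorem Q19316 : ∀ i, i < 19316 → P i := stepQ 19315 Q19315 (allL N19315 (tt N18567 F163535) (tt N19315 F163536) (tt N20812 (iv F170252)) (tt N17559 (iv D35242)) (tt N17567 F163537) (tt N19315 F163538) (tt N20874 (iv F170627)) (tt N19315 F163539) (tt N17560 F163540) (tt N17566 (iv F163541)))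
theorem Q19317 : ∀ i, i < 19317 → P i := stepQ 19316 Q19316 (allL N19316 (tt N18568 F163542) (tt N19316 F163543) (tt N20811 (iv F170245)) (tt N17566 F163544) (tt N17560 F163545) (tt N19316 F163546) (tt N20875 (iv F170636)) (tt N19316 F163547) (tt N17567 F163548) (tt N17559 (iv D35243)))
theorem Q19318 : ∀ i, i < 19318 → P i := stepQ 19317 Q19317 (allL N19317 (tt N17563 F163549) (tt N18105 F163550) (tt N19317 F163551) (tt N20813 (iv F170260)) (tt N19317 F163552) (tt N20857 F170518) (tt N18272 F163553) (tt N17562 F163554) (tt N19317 F163555) (tt N17561 (iv D35244)))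
theorem Q19319 : ∀ i, i < 19319 → P i := stepQ 19318 Q19318 (allL N19318 (tt N18570 F163556) (tt N20834 (iv F170364)) (tt N17567 F163557) (tt N20823 (iv F170321)) (tt N20812 (iv F170253)) (tt N17565 F163558) (tt N20906 (iv F170798)) (tt N19318 F163559) (tt N20811 (iv F170249)) (tt N17564 (iv D35245)))
theorem Q19320 : ∀ i, i < 19320 → P i := stepQ 19319 Q19319 (allL N19319 (tt N18571 F163560) (tt N19319 F163561) (tt N20485 (iv F168397)) (tt N17569 F163562) (tt N17945 F163563) (tt N17568 (iv D35246)) (tt N20870 (iv F170597)) (tt N19319 F163564) (tt N17988 F163565) (tt N18106 F163566))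
theorem Q19321 : ∀ i, i < 19321 → P i := stepQ 19320 Q19320 (allL N19320 (tt N17573 F163567) (tt N17997 F163568) (tt N18021 (iv F163573)) (tt N17570 (iv D35247)) (tt N18351 F163569) (tt N20679 (iv F169585)) (tt N19320 F163570) (tt N20908 D36835) (tt N17993 F163571) (tt N17583 F163572))
theorem Q19322 : ∀ i, i < 19322 → P i := stepQ 19321 Q19321 (allL N19321 (tt N17574 F163574) (tt N18574 F163575) (tt N19321 F163576) (tt N20908 (iv F170810)) (tt N17571 F163577) (tt N20844 (iv F170434)) (tt N18236 (iv F163580)) (tt N17570 (iv D35248)) (tt N18813 F163578) (tt N17584 F163579))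
theorem Q19323 : ∀ i, i < 19323 → P i := stepQ 19322 Q19322 (allL N19322 (tt N17576 F163581) (tt N18575 F163582) (tt N19322 F163583) (tt N18098 F163584) (tt N18813 F163585) (tt N19322 F163586) (tt N18237 F163587) (tt N17572 F163588) (tt N17571 (iv D35249)) (tt N19322 F163589))
theorem Q19324 : ∀ i, i < 19324 → P i := stepQ 19323 Q19323 (allL N19323 (tt N20908 (iv F170807)) (tt N17577 F163590) (tt N18466 F163591) (tt N17574 F163592) (tt N18354 F163593) (tt N20877 (iv F170647)) (tt N20581 (iv F168966)) (tt N17573 (iv D35250)) (tt N18352 F163594) (tt N17586 F163595))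
theorem Q19325 : ∀ i, i < 19325 → P i := stepQ 19324 Q19324 (allL N19324 (tt N18813 F163596) (tt N17579 F163597) (tt N19324 F163598) (tt N18352 F163599) (tt N17576 F163600) (tt N18812 (iv F163603)) (tt N20582 (iv F168975)) (tt N17575 F163601) (tt N17574 (iv D35251)) (tt N19324 F163602))
theorem Q19326 : ∀ i, i < 19326 → P i := stepQ 19325 Q19325 (allL N19325 (tt N18578 F163604) (tt N20581 (iv F168962)) (tt N17950 F163605) (tt N17578 F163606) (tt N18356 F163607) (tt N20909 D36836) (tt N17577 (iv D35252)) (tt N19325 F163608) (tt N18355 F163609) (tt N17587 F163610))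
theorem Q19327 : ∀ i, i < 19327 → P i := stepQ 19326 Q19326 (allL N19326 (tt N18579 F163611) (tt N20575 (iv F168923)) (tt N17581 F163612) (tt N20909 (iv F170817)) (tt N18227 F163613) (tt N17578 (iv D35253)) (tt N20882 (iv F170669)) (tt N19326 F163614) (tt N18226 (iv F163616)) (tt N17588 F163615))
theorem Q19328 : ∀ i, i < 19328 → P i := stepQ 19327 Q19327 (allL N19327 (tt N18580 F163617) (tt N20582 (iv F168970)) (tt N17582 F163618) (tt N18355 F163619) (tt N17580 F163620) (tt N18240 F163621) (tt N17579 F163622) (tt N19327 F163623) (tt N17578 (iv D35254)) (tt N19327 F163624))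
theorem Q19329 : ∀ i, i < 19329 → P i := stepQ 19328 Q19328 (allL N19328 (tt N17585 F163625) (tt N18024 F163626) (tt N17583 (iv D35255)) (tt N19328 F163627) (tt N18464 F163628) (tt N20890 (iv F170723)) (tt N19328 F163629) (tt N20910 D36837) (tt N19328 F163630) (tt N18021 F163631))
theorem Q19330 : ∀ i, i < 19330 → P i := stepQ 19329 Q19329 (allL N19329 (tt N17586 F163632) (tt N18581 F163633) (tt N20910 (iv F170823)) (tt N17584 F163634) (tt N18096 F163635) (tt N20891 (iv F170730)) (tt N18235 (iv F163637)) (tt N17583 (iv D35256)) (tt N19329 F163636) (tt N20908 (iv F170813)))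
theorem Q19331 : ∀ i, i < 19331 → P i := stepQ 19330 Q19330 (allL N19330 (tt N20910 (iv F170821)) (tt N17953 F163638) (tt N17586 F163639) (tt N19330 F163640) (tt N18469 F163641) (tt N20894 (iv F170744)) (tt N20580 (iv F168957)) (tt N17585 (iv D35257)) (tt N19330 F163642) (tt N18466 F163643))
theorem Q19332 : ∀ i, i < 19332 → P i := stepQ 19331 Q19331 (allL N19331 (tt N18584 F163644) (tt N20573 (iv F168914)) (tt N17956 F163645) (tt N17588 F163646) (tt N20911 D36838) (tt N17587 (iv D35258)) (tt N20900 (iv F170769)) (tt N19331 F163647) (tt N20912 D36839) (tt N20909 (iv F170820)))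
theorem Q19333 : ∀ i, i < 19333 → P i := stepQ 19332 Q19332 (allL N19332 (tt N18585 F163648) (tt N20571 (iv F168901)) (tt N17589 F163649) (tt N20912 (iv F170834)) (tt N17981 F163650) (tt N19332 F163651) (tt N20903 (iv F170783)) (tt N19332 F163652) (tt N17588 (iv D35259)) (tt N17980 F163653))
theorem Q19334 : ∀ i, i < 19334 → P i := stepQ 19333 Q19333 (allL N19333 (tt N18056 F163654) (tt N17592 F163655) (tt N17640 F163656) (tt N19333 F163657) (tt N20913 D36840) (tt N17591 (iv D35260)) (tt N17617 F163658) (tt N20914 D36841) (tt N17636 F163659) (tt N18359 F163660))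
theorem Q19335 : ∀ i, i < 19335 → P i := stepQ 19334 Q19334 (allL N19334 (tt N18066 F163661) (tt N17593 F163662) (tt N18005 F163663) (tt N19334 F163664) (tt N18305 F163665) (tt N20914 (iv F170850)) (tt N18053 F163666) (tt N17591 (iv D35261)) (tt N17990 F163667) (tt N18360 F163668))
theorem Q19336 : ∀ i, i < 19336 → P i := stepQ 19335 Q19335 (allL N19335 (tt N17646 F163669) (tt N20913 (iv F170839)) (tt N17594 F163670) (tt N20915 D36842) (tt N17592 (iv D35262)) (tt N18306 F163671) (tt N17619 F163672) (tt N20916 D36843) (tt N20917 D36844) (tt N18361 F163673))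
theorem Q19337 : ∀ i, i < 19337 → P i := stepQ 19336 Q19336 (allL N19336 (tt N17647 F163674) (tt N20914 (iv F170847)) (tt N17595 F163675) (tt N19336 F163676) (tt N20916 (iv F170862)) (tt N17593 F163677) (tt N20918 D36845) (tt N17592 (iv D35263)) (tt N20919 D36846) (tt N18362 F163678))
theorem Q19338 : ∀ i, i < 19338 → P i := stepQ 19337 Q19337 (allL N19337 (tt N17648 F163679) (tt N17636 F163680) (tt N17596 F163681) (tt N19337 F163682) (tt N20917 (iv F170868)) (tt N17635 F163683) (tt N17621 F163684) (tt N20919 (iv F170883)) (tt N17592 (iv D35264)) (tt N18126 (iv F163685)))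
theorem Q19339 : ∀ i, i < 19339 → P i := stepQ 19338 Q19338 (allL N19338 (tt N17649 F163686) (tt N18074 F163687) (tt N20916 (iv F170861)) (tt N18619 F163688) (tt N17595 F163689) (tt N18309 F163690) (tt N20920 D36847) (tt N17594 (iv D35265)) (tt N20921 D36848) (tt N18364 F163691))
theorem Q19340 : ∀ i, i < 19340 → P i := stepQ 19339 Q19339 (allL N19339 (tt N17650 F163692) (tt N17734 F163693) (tt N20917 (iv F170867)) (tt N18620 F163694) (tt N17596 F163695) (tt N20601 (iv F169103)) (tt N17623 F163696) (tt N20921 (iv F170895)) (tt N17594 (iv D35266)) (tt N18170 (iv F163697)))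
theorem Q19341 : ∀ i, i < 19341 → P i := stepQ 19340 Q19340 (allL N19340 (tt N17651 F163698) (tt N18075 F163699) (tt N20918 (iv F170873)) (tt N17597 F163700) (tt N20920 (iv F170888)) (tt N18059 F163701) (tt N17595 (iv D35267)) (tt N17624 F163702) (tt N20922 D36849) (tt N18366 F163703))
theorem Q19342 : ∀ i, i < 19342 → P i := stepQ 19341 Q19341 (allL N19341 (tt N17652 F163704) (tt N17735 F163705) (tt N20919 (iv F170880)) (tt N17598 F163706) (tt N20921 (iv F170894)) (tt N17733 F163707) (tt N20922 (iv F170900)) (tt N17596 F163708) (tt N17595 (iv D35268)) (tt N18171 (iv F163709)))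
theorem Q19343 : ∀ i, i < 19343 → P i := stepQ 19342 Q19342 (allL N19342 (tt N17654 F163710) (tt N17853 F163711) (tt N19342 F163712) (tt N20922 (iv F170899)) (tt N18623 F163713) (tt N17869 (iv F163716)) (tt N17598 F163714) (tt N17626 F163715) (tt N17597 (iv D35269)) (tt N18243 (iv F163717)))
theorem Q19344 : ∀ i, i < 19344 → P i := stepQ 19343 Q19343 (allL N19343 (tt N17689 F163718) (tt N17600 F163719) (tt N17809 F163720) (tt N19343 F163721) (tt N20923 D36850) (tt N17599 (iv D35270)) (tt N18052 F163722) (tt N20924 D36851) (tt N17685 F163723) (tt N17706 F163724))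
theorem Q19345 : ∀ i, i < 19345 → P i := stepQ 19344 Q19344 (allL N19344 (tt N17711 F163725) (tt N17601 F163726) (tt N17707 F163727) (tt N19344 F163728) (tt N17708 F163729) (tt N20924 (iv F170915)) (tt N17618 F163730) (tt N17599 (iv D35271)) (tt N17627 F163731) (tt N17705 F163732))
theorem Q19346 : ∀ i, i < 19346 → P i := stepQ 19345 Q19345 (allL N19345 (tt N17666 F163733) (tt N20923 (iv F170905)) (tt N17602 F163734) (tt N20925 D36852) (tt N17600 (iv D35272)) (tt N17789 F163735) (tt N18054 F163736) (tt N20926 D36853) (tt N20927 D36854) (tt N17788 F163737))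
theorem Q19347 : ∀ i, i < 19347 → P i := stepQ 19346 Q19346 (allL N19346 (tt N17667 F163738) (tt N20924 (iv F170912)) (tt N17603 F163739) (tt N19346 F163740) (tt N20926 (iv F170926)) (tt N17601 F163741) (tt N20928 D36855) (tt N17600 (iv D35273)) (tt N20929 D36856) (tt N17833 F163742))
theorem Q19348 : ∀ i, i < 19348 → P i := stepQ 19347 Q19347 (allL N19347 (tt N17617 F163743) (tt N17685 F163744) (tt N17604 F163745) (tt N19347 F163746) (tt N20927 (iv F170932)) (tt N17616 F163747) (tt N18056 F163748) (tt N20929 (iv F170947)) (tt N17600 (iv D35274)) (tt N17838 F163749))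
theorem Q19349 : ∀ i, i < 19349 → P i := stepQ 19348 Q19348 (allL N19348 (tt N17668 F163750) (tt N18072 F163751) (tt N20926 (iv F170925)) (tt N18130 F163752) (tt N17603 F163753) (tt N18586 F163754) (tt N20930 D36857) (tt N17602 (iv D35275)) (tt N20931 D36858) (tt N18114 F163755))
theorem Q19350 : ∀ i, i < 19350 → P i := stepQ 19349 Q19349 (allL N19349 (tt N17669 F163756) (tt N18050 F163757) (tt N20927 (iv F170931)) (tt N18131 F163758) (tt N17604 F163759) (tt N20932 D36859) (tt N18058 F163760) (tt N20931 (iv F170959)) (tt N17602 (iv D35276)) (tt N20933 D36860))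
theorem Q19351 : ∀ i, i < 19351 → P i := stepQ 19350 Q19350 (allL N19350 (tt N17670 F163761) (tt N18073 F163762) (tt N20928 (iv F170937)) (tt N17605 F163763) (tt N20930 (iv F170952)) (tt N17624 F163764) (tt N17603 (iv D35277)) (tt N18059 F163765) (tt N20934 D36861) (tt N18116 F163766))
theorem Q19352 : ∀ i, i < 19352 → P i := stepQ 19351 Q19351 (allL N19351 (tt N17671 F163767) (tt N17843 F163768) (tt N20929 (iv F170944)) (tt N17606 F163769) (tt N20931 (iv F170958)) (tt N17631 F163770) (tt N20934 (iv F170979)) (tt N17604 F163771) (tt N17603 (iv D35278)) (tt N20935 D36862))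
theorem Q19353 : ∀ i, i < 19353 → P i := stepQ 19352 Q19352 (allL N19352 (tt N17672 F163772) (tt N17713 F163773) (tt N17838 F163774) (tt N17607 F163775) (tt N20933 (iv F170971)) (tt N17632 F163776) (tt N18061 F163777) (tt N20935 (iv F170986)) (tt N18118 F163778) (tt N17604 (iv D35279)))
theorem Q19354 : ∀ i, i < 19354 → P i := stepQ 19353 Q19353 (allL N19353 (tt N17673 F163779) (tt N17928 F163780) (tt N19353 F163781) (tt N20934 (iv F170977)) (tt N18135 F163782) (tt N17920 F163783) (tt N17606 F163784) (tt N18062 F163785) (tt N17605 (iv D35280)) (tt N20936 D36863))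
theorem Q19355 : ∀ i, i < 19355 → P i := stepQ 19354 Q19354 (allL N19354 (tt N17674 F163786) (tt N17934 F163787) (tt N19354 F163788) (tt N20935 (iv F170984)) (tt N18136 F163789) (tt N17633 F163790) (tt N20936 (iv F170993)) (tt N17607 F163791) (tt N18120 F163792) (tt N17606 (iv D35281)))
theorem Q19356 : ∀ i, i < 19356 → P i := stepQ 19355 Q19355 (allL N19355 (tt N17838 F163793) (tt N17609 F163794) (tt N17672 F163795) (tt N19355 F163796) (tt N20937 D36864) (tt N17608 (iv D35282)) (tt N18359 F163797) (tt N20938 D36865) (tt N17977 F163798) (tt N17617 F163799))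
theorem Q19357 : ∀ i, i < 19357 → P i := stepQ 19356 Q19356 (allL N19356 (tt N17837 F163800) (tt N17610 F163801) (tt N17708 F163802) (tt N19356 F163803) (tt N17707 F163804) (tt N20938 (iv F171007)) (tt N17705 F163805) (tt N17608 (iv D35283)) (tt N17704 F163806) (tt N17618 F163807))
theorem Q19358 : ∀ i, i < 19358 → P i := stepQ 19357 Q19357 (allL N19357 (tt N17675 F163808) (tt N20937 (iv F170997)) (tt N17611 F163809) (tt N20939 D36866) (tt N17609 (iv D35284)) (tt N18046 F163810) (tt N18361 F163811) (tt N20940 D36867) (tt N20941 D36868) (tt N17619 F163812))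
theorem Q19359 : ∀ i, i < 19359 → P i := stepQ 19358 Q19358 (allL N19358 (tt N17676 F163813) (tt N20938 (iv F171004)) (tt N17612 F163814) (tt N19358 F163815) (tt N20940 (iv F171018)) (tt N17610 F163816) (tt N20942 D36869) (tt N17609 (iv D35285)) (tt N20943 D36870) (tt N17620 F163817))
theorem Q19360 : ∀ i, i < 19360 → P i := stepQ 19359 Q19359 (allL N19359 (tt N17677 F163818) (tt N17977 F163819) (tt N17613 F163820) (tt N19359 F163821) (tt N20941 (iv F171024)) (tt N17959 F163822) (tt N18363 F163823) (tt N20943 (iv F171039)) (tt N17609 (iv D35286)) (tt N17968 F163824))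
theorem Q19361 : ∀ i, i < 19361 → P i := stepQ 19360 Q19360 (allL N19360 (tt N17678 F163825) (tt N18586 F163826) (tt N20940 (iv F171017)) (tt N18163 F163827) (tt N17612 F163828) (tt N18072 F163829) (tt N20944 D36871) (tt N17611 (iv D35287)) (tt N20945 D36872) (tt N17622 F163830))
theorem Q19362 : ∀ i, i < 19362 → P i := stepQ 19361 Q19361 (allL N19361 (tt N17679 F163831) (tt N18196 F163832) (tt N20941 (iv F171023)) (tt N18164 F163833) (tt N17613 F163834) (tt N20946 D36873) (tt N18365 F163835) (tt N20945 (iv F171051)) (tt N17611 (iv D35288)) (tt N18188 F163836))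
theorem Q19363 : ∀ i, i < 19363 → P i := stepQ 19362 Q19362 (allL N19362 (tt N17680 F163837) (tt N18587 F163838) (tt N20942 (iv F171029)) (tt N17614 F163839) (tt N20944 (iv F171044)) (tt N18116 F163840) (tt N17612 (iv D35289)) (tt N18366 F163841) (tt N20947 D36874) (tt N17624 F163842))
theorem Q19364 : ∀ i, i < 19364 → P i := stepQ 19363 Q19363 (allL N19363 (tt N17681 F163843) (tt N18198 F163844) (tt N20943 (iv F171036)) (tt N17615 F163845) (tt N20945 (iv F171050)) (tt N17962 F163846) (tt N20947 (iv F171063)) (tt N17613 F163847) (tt N17612 (iv D35290)) (tt N18190 F163848))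
theorem Q19365 : ∀ i, i < 19365 → P i := stepQ 19364 Q19364 (allL N19364 (tt N17683 F163849) (tt N18260 F163850) (tt N19364 F163851) (tt N20947 (iv F171062)) (tt N18168 F163852) (tt N20948 D36875) (tt N17615 F163853) (tt N18368 F163854) (tt N17614 (iv D35291)) (tt N18254 F163855))
theorem Q19366 : ∀ i, i < 19366 → P i := stepQ 19365 Q19365 (allL N19365 (tt N17618 F163856) (tt N17686 F163857) (tt N17631 F163858) (tt N19365 F163859) (tt N17839 F163860) (tt N20929 (iv F170946)) (tt N17711 F163861) (tt N17616 (iv D35292)) (tt N17628 F163862) (tt N17837 F163863))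
theorem Q19367 : ∀ i, i < 19367 → P i := stepQ 19366 Q19366 (allL N19366 (tt N20927 (iv F170929)) (tt N17619 F163864) (tt N17669 F163865) (tt N20949 D36876) (tt N17617 (iv D35293)) (tt N20469 (iv F168291)) (tt N20913 (iv F170842)) (tt N20950 D36877) (tt N17666 F163866) (tt N20937 (iv F171002)))
theorem Q19368 : ∀ i, i < 19368 → P i := stepQ 19367 Q19367 (allL N19367 (tt N20929 (iv F170942)) (tt N17620 F163867) (tt N17671 F163868) (tt N19367 F163869) (tt N20950 (iv F171080)) (tt N17618 F163870) (tt N20951 D36878) (tt N17617 (iv D35294)) (tt N17667 F163871) (tt N20938 (iv F171009)))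
theorem Q19369 : ∀ i, i < 19369 → P i := stepQ 19368 Q19368 (allL N19368 (tt N17690 F163872) (tt N20949 (iv F171073)) (tt N20603 (iv F169117)) (tt N17619 (iv D35295)) (tt N19368 F163873) (tt N20471 (iv F168305)) (tt N20915 (iv F170858)) (tt N20952 D36879) (tt N20531 F168682) (tt N20939 (iv F171015)))
theorem Q19370 : ∀ i, i < 19370 → P i := stepQ 19369 Q19369 (allL N19369 (tt N17691 F163874) (tt N20950 (iv F171078)) (tt N17622 F163875) (tt N20952 (iv F171087)) (tt N17620 F163876) (tt N20472 (iv F168312)) (tt N20953 D36880) (tt N17619 (iv D35296)) (tt N20954 D36881) (tt N20940 (iv F171020)))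
theorem Q19371 : ∀ i, i < 19371 → P i := stepQ 19370 Q19370 (allL N19370 (tt N17692 F163877) (tt N17666 F163878) (tt N17623 F163879) (tt N20531 (iv F168679)) (tt N17621 F163880) (tt N18599 (iv F163881)) (tt N20917 (iv F170869)) (tt N20954 (iv F171096)) (tt N17619 (iv D35297)) (tt N18137 (iv F163882)))
theorem Q19372 : ∀ i, i < 19372 → P i := stepQ 19371 Q19371 (allL N19371 (tt N17693 F163883) (tt N20951 (iv F171082)) (tt N17624 F163884) (tt N19371 F163885) (tt N20953 (iv F171091)) (tt N20928 (iv F170939)) (tt N17620 (iv D35298)) (tt N20918 (iv F170876)) (tt N20955 D36882) (tt N20942 (iv F171033)))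
theorem Q19373 : ∀ i, i < 19373 → P i := stepQ 19372 Q19372 (allL N19372 (tt N17694 F163886) (tt N17667 F163887) (tt N17625 F163888) (tt N19372 F163889) (tt N20954 (iv F171095)) (tt N17634 F163890) (tt N20955 (iv F171103)) (tt N17621 F163891) (tt N17620 (iv D35299)) (tt N18138 (iv F163892)))
theorem Q19374 : ∀ i, i < 19374 → P i := stepQ 19373 Q19373 (allL N19373 (tt N17696 F163893) (tt N18588 F163894) (tt N20953 (iv F171090)) (tt N20606 (iv F169138)) (tt N17624 F163895) (tt N20956 D36883) (tt N17622 (iv D35300)) (tt N20920 (iv F170889)) (tt N20957 D36884) (tt N20944 (iv F171046)))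
theorem Q19375 : ∀ i, i < 19375 → P i := stepQ 19374 Q19374 (allL N19374 (tt N17697 F163896) (tt N17784 F163897) (tt N20954 (iv F171094)) (tt N20607 (iv F169145)) (tt N17625 F163898) (tt N18687 (iv F163900)) (tt N20957 (iv F171111)) (tt N17623 F163899) (tt N17622 (iv D35301)) (tt N18187 (iv F163901)))
theorem Q19376 : ∀ i, i < 19376 → P i := stepQ 19375 Q19375 (allL N19375 (tt N17700 F163902) (tt N17785 F163903) (tt N20955 (iv F171101)) (tt N17626 F163904) (tt N20957 (iv F171110)) (tt N17813 (iv F163906)) (tt N17625 F163905) (tt N20922 (iv F170901)) (tt N17624 (iv D35302)) (tt N18189 (iv F163907)))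
theorem Q19377 : ∀ i, i < 19377 → P i := stepQ 19376 Q19376 (allL N19376 (tt N17705 F163908) (tt N17714 F163909) (tt N17839 F163910) (tt N19376 F163911) (tt N17631 F163912) (tt N20958 D36885) (tt N17837 F163913) (tt N17630 F163914) (tt N17629 (iv D35303)) (tt N17711 F163915))
theorem Q19378 : ∀ i, i < 19378 → P i := stepQ 19377 Q19377 (allL N19377 (tt N17706 F163916) (tt N17695 F163917) (tt N17815 F163918) (tt N19377 F163919) (tt N20932 (iv F170964)) (tt N17630 (iv D35304)) (tt N20959 D36886) (tt N20958 (iv F171117)) (tt N18214 F163920) (tt N17689 F163921))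
theorem Q19379 : ∀ i, i < 19379 → P i := stepQ 19378 Q19378 (allL N19378 (tt N17708 F163922) (tt N17712 F163923) (tt N17837 F163924) (tt N17633 F163925) (tt N17711 F163926) (tt N20935 (iv F170985)) (tt N17839 F163927) (tt N17632 F163928) (tt N17710 F163929) (tt N17631 (iv D35305)))
theorem Q19380 : ∀ i, i < 19380 → P i := stepQ 19379 Q19379 (allL N19379 (tt N18011 F163930) (tt N17637 F163931) (tt N17733 F163932) (tt N19379 F163933) (tt N18285 F163934) (tt N20919 (iv F170882)) (tt N17645 F163935) (tt N17635 (iv D35306)) (tt N17991 F163936) (tt N18127 F163937))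
theorem Q19381 : ∀ i, i < 19381 → P i := stepQ 19380 Q19380 (allL N19380 (tt N18054 F163938) (tt N20917 (iv F170866)) (tt N17638 F163939) (tt N20960 D36887) (tt N17636 (iv D35307)) (tt N18286 F163940) (tt N17666 F163941) (tt N20961 D36888) (tt N20913 (iv F170843)) (tt N18128 F163942))
theorem Q19382 : ∀ i, i < 19382 → P i := stepQ 19381 Q19381 (allL N19381 (tt N18055 F163943) (tt N20919 (iv F170879)) (tt N17639 F163944) (tt N19381 F163945) (tt N20961 (iv F171136)) (tt N17637 F163946) (tt N20962 D36889) (tt N17636 (iv D35308)) (tt N20914 (iv F170851)) (tt N18129 F163947))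
theorem Q19383 : ∀ i, i < 19383 → P i := stepQ 19382 Q19382 (allL N19382 (tt N18057 F163948) (tt N17736 F163949) (tt N20961 (iv F171135)) (tt N18114 F163950) (tt N17639 F163951) (tt N18288 F163952) (tt N20963 D36890) (tt N17638 (iv D35309)) (tt N20964 D36891) (tt N18130 F163953))
theorem Q19384 : ∀ i, i < 19384 → P i := stepQ 19383 Q19383 (allL N19383 (tt N18058 F163954) (tt N17737 F163955) (tt N20913 (iv F170840)) (tt N18115 F163956) (tt N17640 F163957) (tt N18395 F163958) (tt N17669 F163959) (tt N20964 (iv F171156)) (tt N17638 (iv D35310)) (tt N20720 (iv F169799)))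
theorem Q19385 : ∀ i, i < 19385 → P i := stepQ 19384 Q19384 (allL N19384 (tt N18059 F163960) (tt N17738 F163961) (tt N20962 (iv F171140)) (tt N17641 F163962) (tt N20963 (iv F171148)) (tt N17651 F163963) (tt N17639 (iv D35311)) (tt N17670 F163964) (tt N20965 D36892) (tt N18132 F163965))
theorem Q19386 : ∀ i, i < 19386 → P i := stepQ 19385 Q19385 (allL N19385 (tt N18060 F163966) (tt N17739 F163967) (tt N20914 (iv F170848)) (tt N17642 F163968) (tt N20964 (iv F171154)) (tt N18005 F163969) (tt N20965 (iv F171160)) (tt N17640 F163970) (tt N17639 (iv D35312)) (tt N20721 (iv F169806)))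
theorem Q19387 : ∀ i, i < 19387 → P i := stepQ 19386 Q19386 (allL N19386 (tt N18062 F163971) (tt N17740 F163972) (tt N19386 F163973) (tt N20965 (iv F171159)) (tt N18119 F163974) (tt N18101 (iv F163977)) (tt N17642 F163975) (tt N17673 F163976) (tt N17641 (iv D35313)) (tt N20869 (iv F170592)))
theorem Q19388 : ∀ i, i < 19388 → P i := stepQ 19387 Q19387 (allL N19387 (tt N17644 F163978) (tt N18056 F163979) (tt N17751 F163980) (tt N19387 F163981) (tt N20966 D36893) (tt N17643 (iv D35314)) (tt N17685 F163982) (tt N20967 D36894) (tt N18052 F163983) (tt N17842 F163984))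
theorem Q19389 : ∀ i, i < 19389 → P i := stepQ 19388 Q19388 (allL N19388 (tt N17645 F163985) (tt N18066 F163986) (tt N17752 F163987) (tt N19388 F163988) (tt N20676 (iv F169567)) (tt N20967 (iv F171173)) (tt N18011 F163989) (tt N17643 (iv D35315)) (tt N18006 F163990) (tt N18049 F163991))
theorem Q19390 : ∀ i, i < 19390 → P i := stepQ 19389 Q19389 (allL N19389 (tt N20966 (iv F171163)) (tt N17646 F163992) (tt N17753 F163993) (tt N20968 D36895) (tt N17644 (iv D35316)) (tt N20677 (iv F169573)) (tt N17687 F163994) (tt N20969 D36896) (tt N20970 D36897) (tt N18715 F163995))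
theorem Q19391 : ∀ i, i < 19391 → P i := stepQ 19390 Q19390 (allL N19390 (tt N20967 (iv F171169)) (tt N17647 F163996) (tt N17754 F163997) (tt N19390 F163998) (tt N20969 (iv F171182)) (tt N17645 F163999) (tt N20971 D36898) (tt N17644 (iv D35317)) (tt N20972 D36899) (tt N18725 F164000))
theorem Q19392 : ∀ i, i < 19392 → P i := stepQ 19391 Q19391 (allL N19391 (tt N18052 F164001) (tt N17648 F164002) (tt N17755 F164003) (tt N19391 F164004) (tt N20970 (iv F171187)) (tt N18008 F164005) (tt N17689 F164006) (tt N20972 (iv F171200)) (tt N17644 (iv D35318)) (tt N20959 (iv F171126)))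
theorem Q19393 : ∀ i, i < 19393 → P i := stepQ 19392 Q19392 (allL N19392 (tt N20915 (iv F170853)) (tt N20968 (iv F171176)) (tt N20611 (iv F169174)) (tt N17646 (iv D35319)) (tt N19392 F164007) (tt N20680 (iv F169591)) (tt N17690 F164008) (tt N20973 D36900) (tt N20974 D36901) (tt N20653 (iv F169427)))
theorem Q19394 : ∀ i, i < 19394 → P i := stepQ 19393 Q19393 (allL N19393 (tt N20916 (iv F170860)) (tt N20969 (iv F171180)) (tt N17649 F164009) (tt N20973 (iv F171201)) (tt N17647 F164010) (tt N20681 (iv F169598)) (tt N20975 D36902) (tt N17646 (iv D35320)) (tt N20976 D36903) (tt N20654 (iv F169433)))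
theorem Q19395 : ∀ i, i < 19395 → P i := stepQ 19394 Q19394 (allL N19394 (tt N20917 (iv F170865)) (tt N20970 (iv F171185)) (tt N17650 F164011) (tt N20974 (iv F171203)) (tt N17648 F164012) (tt N20977 D36904) (tt N17692 F164013) (tt N20976 (iv F171213)) (tt N17646 (iv D35321)) (tt N20978 D36905))
theorem Q19396 : ∀ i, i < 19396 → P i := stepQ 19395 Q19395 (allL N19395 (tt N20918 (iv F170872)) (tt N20971 (iv F171190)) (tt N17651 F164014) (tt N19395 F164015) (tt N20975 (iv F171209)) (tt N20962 (iv F171142)) (tt N17647 (iv D35322)) (tt N17693 F164016) (tt N20979 D36906) (tt N20656 (iv F169445)))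
theorem Q19397 : ∀ i, i < 19397 → P i := stepQ 19396 Q19396 (allL N19396 (tt N20919 (iv F170878)) (tt N20972 (iv F171196)) (tt N17652 F164017) (tt N19396 F164018) (tt N20976 (iv F171212)) (tt N18011 F164019) (tt N20979 (iv F171229)) (tt N17648 F164020) (tt N17647 (iv D35323)) (tt N20980 D36907))
theorem Q19398 : ∀ i, i < 19398 → P i := stepQ 19397 Q19397 (allL N19397 (tt N18126 F164021) (tt N20959 (iv F171121)) (tt N17653 F164022) (tt N19397 F164023) (tt N20978 (iv F171224)) (tt N18012 F164024) (tt N17695 F164025) (tt N20980 (iv F171235)) (tt N20658 (iv F169458)) (tt N17648 (iv D35324)))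
theorem Q19399 : ∀ i, i < 19399 → P i := stepQ 19398 Q19398 (allL N19398 (tt N20920 (iv F170885)) (tt N17762 F164026) (tt N20975 (iv F171208)) (tt N20617 (iv F169212)) (tt N17651 F164027) (tt N20981 D36908) (tt N17649 (iv D35325)) (tt N17696 F164028) (tt N20982 D36909) (tt N20659 (iv F169464)))
theorem Q19400 : ∀ i, i < 19400 → P i := stepQ 19399 Q19399 (allL N19399 (tt N20921 (iv F170891)) (tt N17763 F164029) (tt N20976 (iv F171211)) (tt N20618 (iv F169218)) (tt N17652 F164030) (tt N20983 D36910) (tt N20982 (iv F171240)) (tt N17650 F164031) (tt N17649 (iv D35326)) (tt N20984 D36911))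
theorem Q19401 : ∀ i, i < 19401 → P i := stepQ 19400 Q19400 (allL N19400 (tt N20601 (iv F169100)) (tt N17764 F164032) (tt N20977 (iv F171216)) (tt N20619 (iv F169223)) (tt N18015 F164033) (tt N17650 (iv D35327)) (tt N20985 D36912) (tt N20983 (iv F171244)) (tt N20687 (iv F169633)) (tt N20986 D36913))
theorem Q19402 : ∀ i, i < 19402 → P i := stepQ 19401 Q19401 (allL N19401 (tt N18170 F164034) (tt N17765 F164035) (tt N20978 (iv F171222)) (tt N20620 (iv F169228)) (tt N17653 F164036) (tt N20986 (iv F171259)) (tt N17699 F164037) (tt N20984 (iv F171248)) (tt N20662 (iv F169480)) (tt N17650 (iv D35328)))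
theorem Q19403 : ∀ i, i < 19403 → P i := stepQ 19402 Q19402 (allL N19402 (tt N20922 (iv F170897)) (tt N17766 F164038) (tt N20979 (iv F171227)) (tt N17654 F164039) (tt N20982 (iv F171239)) (tt N20987 D36914) (tt N17652 F164040) (tt N17700 F164041) (tt N17651 (iv D35329)) (tt N20988 D36915))
theorem Q19404 : ∀ i, i < 19404 → P i := stepQ 19403 Q19403 (allL N19403 (tt N18171 F164042) (tt N17767 F164043) (tt N20980 (iv F171232)) (tt N17655 F164044) (tt N20984 (iv F171247)) (tt N18017 F164045) (tt N20988 (iv F171273)) (tt N17653 F164046) (tt N20664 (iv F169491)) (tt N17652 (iv D35330)))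
theorem Q19405 : ∀ i, i < 19405 → P i := stepQ 19404 Q19404 (allL N19404 (tt N17869 F164047) (tt N17768 F164048) (tt N19404 F164049) (tt N20987 (iv F171264)) (tt N20836 (iv F170377)) (tt N17654 (iv D35331)) (tt N17850 F164050) (tt N17702 F164051) (tt N18101 F164052) (tt N17849 (iv F164053)))
theorem Q19406 : ∀ i, i < 19406 → P i := stepQ 19405 Q19405 (allL N19405 (tt N18243 F164054) (tt N17769 F164055) (tt N19405 F164056) (tt N20988 (iv F171271)) (tt N20624 (iv F169252)) (tt N17849 F164057) (tt N17655 F164058) (tt N17703 F164059) (tt N20666 (iv F169504)) (tt N17654 (iv D35332)))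
theorem Q19407 : ∀ i, i < 19407 → P i := stepQ 19406 Q19406 (allL N19406 (tt N17657 F164060) (tt N18012 F164061) (tt N17770 F164062) (tt N19406 F164063) (tt N18316 F164064) (tt N20959 (iv F171124)) (tt N17656 (iv D35333)) (tt N20989 D36916) (tt N19406 F164065) (tt N18008 F164066))
theorem Q19408 : ∀ i, i < 19408 → P i := stepQ 19407 Q19407 (allL N19407 (tt N20959 (iv F171120)) (tt N17658 F164067) (tt N17771 F164068) (tt N19407 F164069) (tt N20990 D36917) (tt N17657 (iv D35334)) (tt N17706 F164070) (tt N20991 D36918) (tt N18778 (iv F164072)) (tt N18052 F164071))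
theorem Q19409 : ∀ i, i < 19409 → P i := stepQ 19408 Q19408 (allL N19408 (tt N20989 (iv F171275)) (tt N17659 F164073) (tt N17772 F164074) (tt N19408 F164075) (tt N18318 F164076) (tt N20991 (iv F171293)) (tt N18360 F164077) (tt N17657 (iv D35335)) (tt N19408 F164078) (tt N18053 F164079))
theorem Q19410 : ∀ i, i < 19410 → P i := stepQ 19409 Q19409 (allL N19409 (tt N18128 F164080) (tt N20990 (iv F171283)) (tt N17660 F164081) (tt N20992 D36919) (tt N17658 (iv D35336)) (tt N18319 F164082) (tt N17788 F164083) (tt N20993 D36920) (tt N18699 F164084) (tt N18054 F164085))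
theorem Q19411 : ∀ i, i < 19411 → P i := stepQ 19410 Q19410 (allL N19410 (tt N18129 F164086) (tt N20991 (iv F171290)) (tt N17661 F164087) (tt N19410 F164088) (tt N20993 (iv F171306)) (tt N17659 F164089) (tt N20994 D36921) (tt N17658 (iv D35337)) (tt N18788 F164090) (tt N18055 F164091))
theorem Q19412 : ∀ i, i < 19412 → P i := stepQ 19411 Q19411 (allL N19411 (tt N18130 F164092) (tt N17776 F164093) (tt N20993 (iv F171305)) (tt N17668 F164094) (tt N17661 F164095) (tt N18322 F164096) (tt N20995 D36922) (tt N17660 (iv D35338)) (tt N20996 D36923) (tt N18057 F164097))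
theorem Q19413 : ∀ i, i < 19413 → P i := stepQ 19412 Q19412 (allL N19412 (tt N18131 F164098) (tt N17777 F164099) (tt N18699 F164100) (tt N17669 F164101) (tt N17662 F164102) (tt N20997 D36924) (tt N18115 F164103) (tt N20996 (iv F171328)) (tt N17660 (iv D35339)) (tt N20998 D36925))
theorem Q19414 : ∀ i, i < 19414 → P i := stepQ 19413 Q19413 (allL N19413 (tt N18132 F164104) (tt N17778 F164105) (tt N20994 (iv F171311)) (tt N17663 F164106) (tt N20995 (iv F171320)) (tt N18366 F164107) (tt N17661 (iv D35340)) (tt N18116 F164108) (tt N20999 D36926) (tt N18059 F164109))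
theorem Q19415 : ∀ i, i < 19415 → P i := stepQ 19414 Q19414 (allL N19414 (tt N18133 F164110) (tt N17779 F164111) (tt N18788 F164112) (tt N17664 F164113) (tt N20996 (iv F171327)) (tt N19414 F164114) (tt N20999 (iv F171347)) (tt N17662 F164115) (tt N17661 (iv D35341)) (tt N21000 D36927))
theorem Q19416 : ∀ i, i < 19416 → P i := stepQ 19415 Q19415 (allL N19415 (tt N18134 F164116) (tt N17780 F164117) (tt N18789 F164118) (tt N17665 F164119) (tt N20998 (iv F171340)) (tt N19415 F164120) (tt N18118 F164121) (tt N21000 (iv F171354)) (tt N18061 F164122) (tt N17662 (iv D35342)))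
theorem Q19417 : ∀ i, i < 19417 → P i := stepQ 19416 Q19416 (allL N19416 (tt N18135 F164123) (tt N17781 F164124) (tt N19416 F164125) (tt N20999 (iv F171346)) (tt N17673 F164126) (tt N21001 D36928) (tt N17664 F164127) (tt N18119 F164128) (tt N17663 (iv D35343)) (tt N21002 D36929))
theorem Q19418 : ∀ i, i < 19418 → P i := stepQ 19417 Q19417 (allL N19417 (tt N18136 F164129) (tt N17782 F164130) (tt N19417 F164131) (tt N21000 (iv F171352)) (tt N17674 F164132) (tt N19417 F164133) (tt N21002 (iv F171366)) (tt N17665 F164134) (tt N18063 F164135) (tt N17664 (iv D35344)))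
theorem Q19419 : ∀ i, i < 19419 → P i := stepQ 19418 Q19418 (allL N19418 (tt N20925 (iv F170918)) (tt N20531 (iv F168677)) (tt N20992 (iv F171298)) (tt N17666 (iv D35345)) (tt N19418 F164136) (tt N18603 F164137) (tt N20960 (iv F171131)) (tt N21003 D36930) (tt N20949 (iv F171077)) (tt N18139 F164138))
theorem Q19420 : ∀ i, i < 19420 → P i := stepQ 19419 Q19419 (allL N19419 (tt N20926 (iv F170924)) (tt N20954 (iv F171093)) (tt N17668 F164139) (tt N21003 (iv F171369)) (tt N17667 F164140) (tt N18604 F164141) (tt N21004 D36931) (tt N17666 (iv D35346)) (tt N20950 (iv F171081)) (tt N18140 F164142))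
theorem Q19421 : ∀ i, i < 19421 → P i := stepQ 19420 Q19420 (allL N19420 (tt N20928 (iv F170936)) (tt N20955 (iv F171100)) (tt N17670 F164143) (tt N19420 F164144) (tt N21004 (iv F171374)) (tt N17693 F164145) (tt N17667 (iv D35347)) (tt N20962 (iv F171143)) (tt N20951 (iv F171085)) (tt N18141 F164146))
theorem Q19422 : ∀ i, i < 19422 → P i := stepQ 19421 Q19421 (allL N19421 (tt N20930 (iv F170949)) (tt N17786 F164147) (tt N21004 (iv F171373)) (tt N20995 (iv F171319)) (tt N17670 F164148) (tt N21005 D36932) (tt N17668 (iv D35348)) (tt N20963 (iv F171149)) (tt N21006 D36933) (tt N18142 F164149))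
theorem Q19423 : ∀ i, i < 19423 → P i := stepQ 19422 Q19422 (allL N19422 (tt N20931 (iv F170955)) (tt N17787 F164150) (tt N20950 (iv F171079)) (tt N20996 (iv F171326)) (tt N17671 F164151) (tt N21007 D36934) (tt N21006 (iv F171382)) (tt N17669 F164152) (tt N17668 (iv D35349)) (tt N21008 D36935))
theorem Q19424 : ∀ i, i < 19424 → P i := stepQ 19423 Q19423 (allL N19423 (tt N20932 (iv F170960)) (tt N17788 F164153) (tt N20469 (iv F168290)) (tt N20997 (iv F171332)) (tt N17706 F164154) (tt N17669 (iv D35350)) (tt N20990 (iv F171286)) (tt N21007 (iv F171385)) (tt N18608 F164155) (tt N20923 (iv F170910)))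
theorem Q19425 : ∀ i, i < 19425 → P i := stepQ 19424 Q19424 (allL N19424 (tt N20933 (iv F170967)) (tt N17789 F164156) (tt N20937 (iv F170998)) (tt N20998 (iv F171339)) (tt N17672 F164157) (tt N20923 (iv F170907)) (tt N20720 (iv F169797)) (tt N21008 (iv F171389)) (tt N18144 F164158) (tt N17669 (iv D35351)))
theorem Q19426 : ∀ i, i < 19426 → P i := stepQ 19425 Q19425 (allL N19425 (tt N20934 (iv F170975)) (tt N17790 F164159) (tt N20951 (iv F171083)) (tt N17673 F164160) (tt N21006 (iv F171381)) (tt N21009 D36936) (tt N17671 F164161) (tt N20965 (iv F171161)) (tt N17670 (iv D35352)) (tt N21010 D36937))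
theorem Q19427 : ∀ i, i < 19427 → P i := stepQ 19426 Q19426 (allL N19426 (tt N20935 (iv F170981)) (tt N17791 F164162) (tt N20938 (iv F171005)) (tt N17674 F164163) (tt N21008 (iv F171388)) (tt N17708 F164164) (tt N21010 (iv F171399)) (tt N17672 F164165) (tt N18146 F164166) (tt N17671 (iv D35353)))
theorem Q19428 : ∀ i, i < 19428 → P i := stepQ 19427 Q19427 (allL N19427 (tt N17920 F164167) (tt N17792 F164168) (tt N19427 F164169) (tt N21009 (iv F171393)) (tt N20837 (iv F170384)) (tt N17673 (iv D35354)) (tt N17709 F164170) (tt N18101 F164171) (tt N17702 F164172) (tt N20579 (iv F168952)))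
theorem Q19429 : ∀ i, i < 19429 → P i := stepQ 19428 Q19428 (allL N19428 (tt N20936 (iv F170988)) (tt N17793 F164173) (tt N19428 F164174) (tt N21010 (iv F171398)) (tt N21002 (iv F171365)) (tt N20579 (iv F168949)) (tt N17674 F164175) (tt N20869 (iv F170590)) (tt N18148 F164176) (tt N17673 (iv D35355)))
theorem Q19430 : ∀ i, i < 19430 → P i := stepQ 19429 Q19429 (allL N19429 (tt N20939 (iv F171010)) (tt N18709 F164177) (tt N20507 (iv F168532)) (tt N17675 (iv D35356)) (tt N19429 F164178) (tt N18594 F164179) (tt N20653 (iv F169426)) (tt N21011 D36938) (tt N21012 D36939) (tt N17690 F164180))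
theorem Q19431 : ∀ i, i < 19431 → P i := stepQ 19430 Q19430 (allL N19430 (tt N20940 (iv F171016)) (tt N18713 F164181) (tt N17678 F164182) (tt N21011 (iv F171402)) (tt N17676 F164183) (tt N18595 F164184) (tt N21013 D36940) (tt N17675 (iv D35357)) (tt N21014 D36941) (tt N17691 F164185))
theorem Q19432 : ∀ i, i < 19432 → P i := stepQ 19431 Q19431 (allL N19431 (tt N20941 (iv F171021)) (tt N18195 F164186) (tt N17679 F164187) (tt N21012 (iv F171407)) (tt N17677 F164188) (tt N18188 F164189) (tt N20655 (iv F169438)) (tt N21014 (iv F171419)) (tt N17675 (iv D35358)) (tt N20946 (iv F171059)))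
theorem Q19433 : ∀ i, i < 19433 → P i := stepQ 19432 Q19432 (allL N19432 (tt N20942 (iv F171028)) (tt N18724 F164190) (tt N17680 F164191) (tt N19432 F164192) (tt N21013 (iv F171413)) (tt N18141 F164193) (tt N17676 (iv D35359)) (tt N20656 (iv F169444)) (tt N21015 D36942) (tt N17693 F164194))
theorem Q19434 : ∀ i, i < 19434 → P i := stepQ 19433 Q19433 (allL N19433 (tt N20943 (iv F171034)) (tt N18211 F164195) (tt N17681 F164196) (tt N19433 F164197) (tt N21014 (iv F171417)) (tt N17965 F164198) (tt N21015 (iv F171423)) (tt N17677 F164199) (tt N17676 (iv D35360)) (tt N21016 D36943))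
theorem Q19435 : ∀ i, i < 19435 → P i := stepQ 19434 Q19434 (allL N19434 (tt N17968 F164200) (tt N18214 F164201) (tt N17682 F164202) (tt N19434 F164203) (tt N20946 (iv F171057)) (tt N17960 F164204) (tt N20658 (iv F169457)) (tt N21016 (iv F171429)) (tt N17695 F164205) (tt N17677 (iv D35361)))
theorem Q19436 : ∀ i, i < 19436 → P i := stepQ 19435 Q19435 (allL N19435 (tt N20944 (iv F171041)) (tt N17800 F164206) (tt N21013 (iv F171412)) (tt N20513 (iv F168570)) (tt N17680 F164207) (tt N21017 D36944) (tt N17678 (iv D35362)) (tt N20659 (iv F169463)) (tt N21018 D36945) (tt N17696 F164208))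
theorem Q19437 : ∀ i, i < 19437 → P i := stepQ 19436 Q19436 (allL N19436 (tt N20945 (iv F171047)) (tt N17801 F164209) (tt N21014 (iv F171416)) (tt N20514 (iv F168576)) (tt N17681 F164210) (tt N21019 D36946) (tt N21018 (iv F171437)) (tt N17679 F164211) (tt N17678 (iv D35363)) (tt N21020 D36947))
theorem Q19438 : ∀ i, i < 19438 → P i := stepQ 19437 Q19437 (allL N19437 (tt N20946 (iv F171053)) (tt N17802 F164212) (tt N18188 F164213) (tt N20515 (iv F168581)) (tt N17968 F164214) (tt N17679 (iv D35364)) (tt N21021 D36948) (tt N21019 (iv F171441)) (tt N18137 F164215) (tt N20941 (iv F171027)))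
theorem Q19439 : ∀ i, i < 19439 → P i := stepQ 19438 Q19438 (allL N19438 (tt N18188 F164216) (tt N17803 F164217) (tt N20946 (iv F171055)) (tt N20516 (iv F168586)) (tt N17682 F164218) (tt N20941 (iv F171025)) (tt N20662 (iv F169479)) (tt N21020 (iv F171446)) (tt N17699 F164219) (tt N17679 (iv D35365)))
theorem Q19440 : ∀ i, i < 19440 → P i := stepQ 19439 Q19439 (allL N19439 (tt N20947 (iv F171060)) (tt N17804 F164220) (tt N21015 (iv F171421)) (tt N17683 F164221) (tt N21018 (iv F171436)) (tt N21022 D36949) (tt N17681 F164222) (tt N20663 (iv F169485)) (tt N17680 (iv D35366)) (tt N21023 D36950))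
theorem Q19441 : ∀ i, i < 19441 → P i := stepQ 19440 Q19440 (allL N19440 (tt N18190 F164223) (tt N17805 F164224) (tt N21016 (iv F171426)) (tt N17684 F164225) (tt N21020 (iv F171445)) (tt N17844 F164226) (tt N21023 (iv F171460)) (tt N17682 F164227) (tt N17701 F164228) (tt N17681 (iv D35367)))
theorem Q19442 : ∀ i, i < 19442 → P i := stepQ 19441 Q19441 (allL N19441 (tt N20948 (iv F171066)) (tt N17806 F164229) (tt N19441 F164230) (tt N21022 (iv F171454)) (tt N21024 D36951) (tt N17683 (iv D35368)) (tt N17970 F164231) (tt N20665 (iv F169496)) (tt N18147 F164232) (tt N20572 (iv F168912)))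
theorem Q19443 : ∀ i, i < 19443 → P i := stepQ 19442 Q19442 (allL N19442 (tt N18254 F164233) (tt N17807 F164234) (tt N19442 F164235) (tt N21023 (iv F171459)) (tt N20520 (iv F168610)) (tt N20572 (iv F168910)) (tt N17684 F164236) (tt N20666 (iv F169503)) (tt N17703 F164237) (tt N17683 (iv D35369)))
theorem Q19444 : ∀ i, i < 19444 → P i := stepQ 19443 Q19443 (allL N19443 (tt N17687 F164238) (tt N20927 (iv F170930)) (tt N17808 F164239) (tt N21025 D36952) (tt N17685 (iv D35370)) (tt N17821 F164240) (tt N20966 (iv F171166)) (tt N21026 D36953) (tt N20923 (iv F170909)) (tt N17820 F164241))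
theorem Q19445 : ∀ i, i < 19445 → P i := stepQ 19444 Q19444 (allL N19444 (tt N17688 F164242) (tt N20929 (iv F170943)) (tt N17717 F164243) (tt N19444 F164244) (tt N21026 (iv F171472)) (tt N17686 F164245) (tt N21027 D36954) (tt N17685 (iv D35371)) (tt N20924 (iv F170916)) (tt N17841 F164246))
theorem Q19446 : ∀ i, i < 19446 → P i := stepQ 19445 Q19445 (allL N19445 (tt N21025 (iv F171466)) (tt N17690 F164247) (tt N21028 D36955) (tt N17687 (iv D35372)) (tt N19445 F164248) (tt N18710 F164249) (tt N20968 (iv F171178)) (tt N21029 D36956) (tt N21030 D36957) (tt N18709 F164250))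
theorem Q19447 : ∀ i, i < 19447 → P i := stepQ 19446 Q19446 (allL N19446 (tt N21026 (iv F171470)) (tt N17691 F164251) (tt N17811 F164252) (tt N21029 (iv F171486)) (tt N17688 F164253) (tt N18714 F164254) (tt N21031 D36958) (tt N17687 (iv D35373)) (tt N21032 D36959) (tt N18713 F164255))
theorem Q19448 : ∀ i, i < 19448 → P i := stepQ 19447 Q19447 (allL N19447 (tt N20923 (iv F170904)) (tt N17692 F164256) (tt N17812 F164257) (tt N21030 (iv F171491)) (tt N17689 F164258) (tt N20933 (iv F170972)) (tt N20970 (iv F171188)) (tt N21032 (iv F171502)) (tt N17687 (iv D35374)) (tt N20932 F170966))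
theorem Q19449 : ∀ i, i < 19449 → P i := stepQ 19448 Q19448 (allL N19448 (tt N21027 (iv F171475)) (tt N17693 F164259) (tt N17813 F164260) (tt N19448 F164261) (tt N21031 (iv F171497)) (tt N20955 F171104) (tt N17688 (iv D35375)) (tt N20971 (iv F171193)) (tt N21033 D36960) (tt N18724 F164262))
theorem Q19450 : ∀ i, i < 19450 → P i := stepQ 19449 Q19449 (allL N19449 (tt N20924 (iv F170911)) (tt N17694 F164263) (tt N17814 F164264) (tt N19449 F164265) (tt N21032 (iv F171501)) (tt N17711 F164266) (tt N21033 (iv F171506)) (tt N17689 F164267) (tt N17688 (iv D35376)) (tt N20958 (iv F171119)))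
theorem Q19451 : ∀ i, i < 19451 → P i := stepQ 19450 Q19450 (allL N19450 (tt N20952 (iv F171086)) (tt N21029 (iv F171485)) (tt N20625 (iv F169257)) (tt N17691 F164268) (tt N19450 F164269) (tt N20486 (iv F168406)) (tt N21034 D36961) (tt N17690 (iv D35377)) (tt N21035 D36962) (tt N21011 (iv F171405)))
theorem Q19452 : ∀ i, i < 19452 → P i := stepQ 19451 Q19451 (allL N19451 (tt N20531 (iv F168676)) (tt N21030 (iv F171490)) (tt N20626 (iv F169263)) (tt N17692 F164270) (tt N19451 F164271) (tt N18181 F164272) (tt N20974 (iv F171205)) (tt N21035 (iv F171512)) (tt N17690 (iv D35378)) (tt N18180 (iv F164273)))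
theorem Q19453 : ∀ i, i < 19453 → P i := stepQ 19452 Q19452 (allL N19452 (tt N20953 (iv F171089)) (tt N21031 (iv F171495)) (tt N17696 F164274) (tt N21034 (iv F171507)) (tt N17693 F164275) (tt N21036 D36963) (tt N17691 (iv D35379)) (tt N20975 (iv F171210)) (tt N21037 D36964) (tt N21013 (iv F171414)))
theorem Q19454 : ∀ i, i < 19454 → P i := stepQ 19453 Q19453 (allL N19453 (tt N20954 (iv F171092)) (tt N21032 (iv F171499)) (tt N17697 F164276) (tt N21035 (iv F171509)) (tt N17694 F164277) (tt N21038 D36965) (tt N21037 (iv F171517)) (tt N17692 F164278) (tt N17691 (iv D35380)) (tt N21039 D36966))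
theorem Q19455 : ∀ i, i < 19455 → P i := stepQ 19454 Q19454 (allL N19454 (tt N18599 F164279) (tt N20933 (iv F170968)) (tt N17698 F164280) (tt N18181 F164281) (tt N17713 F164282) (tt N17692 (iv D35381)) (tt N18084 (iv F164283)) (tt N21038 (iv F171522)) (tt N20478 (iv F168354)) (tt N18050 (iv F164284)))
theorem Q19456 : ∀ i, i < 19456 → P i := stepQ 19455 Q19455 (allL N19455 (tt N18137 F164285) (tt N20932 (iv F170961)) (tt N17699 F164286) (tt N18180 F164287) (tt N17695 F164288) (tt N18050 F164289) (tt N20978 (iv F171226)) (tt N21039 (iv F171529)) (tt N20946 (iv F171058)) (tt N17692 (iv D35382)))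
theorem Q19457 : ∀ i, i < 19457 → P i := stepQ 19456 Q19456 (allL N19456 (tt N20955 (iv F171099)) (tt N21033 (iv F171503)) (tt N17700 F164290) (tt N19456 F164291) (tt N21037 (iv F171516)) (tt N21027 (iv F171478)) (tt N17694 F164292) (tt N20979 (iv F171230)) (tt N17693 (iv D35383)) (tt N21040 D36967))
theorem Q19458 : ∀ i, i < 19458 → P i := stepQ 19457 Q19457 (allL N19457 (tt N18138 F164293) (tt N20958 (iv F171114)) (tt N17701 F164294) (tt N19457 F164295) (tt N21039 (iv F171527)) (tt N17714 F164296) (tt N21040 (iv F171534)) (tt N17695 F164297) (tt N21016 (iv F171430)) (tt N17694 (iv D35384)))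
theorem Q19459 : ∀ i, i < 19459 → P i := stepQ 19458 Q19458 (allL N19458 (tt N20956 (iv F171106)) (tt N17824 F164298) (tt N21036 (iv F171514)) (tt N20632 (iv F169295)) (tt N21005 (iv F171377)) (tt N17696 (iv D35385)) (tt N20490 (iv F168429)) (tt N20981 (iv F171237)) (tt N21041 D36968) (tt N21017 (iv F171434)))
theorem Q19460 : ∀ i, i < 19460 → P i := stepQ 19459 Q19459 (allL N19459 (tt N20957 (iv F171108)) (tt N17825 F164299) (tt N21037 (iv F171515)) (tt N20633 (iv F169299)) (tt N17700 F164300) (tt N21042 D36969) (tt N17697 F164301) (tt N20982 (iv F171241)) (tt N17696 (iv D35386)) (tt N21043 D36970))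
theorem Q19461 : ∀ i, i < 19461 → P i := stepQ 19460 Q19460 (allL N19460 (tt N18687 F164302) (tt N17826 F164303) (tt N21038 (iv F171519)) (tt N20634 (iv F169305)) (tt N17715 F164304) (tt N17697 (iv D35387)) (tt N21044 D36971) (tt N17698 F164305) (tt N20492 (iv F168442)) (tt N17847 (iv F164306)))
theorem Q19462 : ∀ i, i < 19462 → P i := stepQ 19461 Q19461 (allL N19461 (tt N18187 F164307) (tt N17827 F164308) (tt N21039 (iv F171525)) (tt N20635 (iv F169312)) (tt N17701 F164309) (tt N17847 F164310) (tt N21043 (iv F171540)) (tt N17699 F164311) (tt N21020 (iv F171447)) (tt N17697 (iv D35388)))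
theorem Q19463 : ∀ i, i < 19463 → P i := stepQ 19462 Q19462 (allL N19462 (tt N18641 F164312) (tt N17828 F164313) (tt N18084 F164314) (tt N20636 (iv F169319)) (tt N17716 F164315) (tt N20985 (iv F171253)) (tt N17698 (iv D35389)) (tt N21045 D36972) (tt N20494 (iv F168455)) (tt N18044 F164316))
theorem Q19464 : ∀ i, i < 19464 → P i := stepQ 19463 Q19463 (allL N19463 (tt N17813 F164317) (tt N17829 F164318) (tt N21027 (iv F171476)) (tt N17702 F164319) (tt N21046 D36973) (tt N17700 (iv D35390)) (tt N17717 F164320) (tt N20987 (iv F171266)) (tt N21009 (iv F171396)) (tt N17845 (iv F164321)))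
theorem Q19465 : ∀ i, i < 19465 → P i := stepQ 19464 Q19464 (allL N19464 (tt N18189 F164322) (tt N17830 F164323) (tt N21040 (iv F171531)) (tt N17703 F164324) (tt N21043 (iv F171539)) (tt N17845 F164325) (tt N17701 F164326) (tt N20988 (iv F171274)) (tt N21023 (iv F171461)) (tt N17700 (iv D35391)))
theorem Q19466 : ∀ i, i < 19466 → P i := stepQ 19465 Q19465 (allL N19465 (tt N20958 (iv F171113)) (tt N17833 F164327) (tt N20470 (iv F168297)) (tt N19465 F164328) (tt N21007 (iv F171384)) (tt N17705 (iv D35392)) (tt N21047 D36974) (tt N17706 F164329) (tt N18777 F164330) (tt N20924 (iv F170917)))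
theorem Q19467 : ∀ i, i < 19467 → P i := stepQ 19466 Q19466 (allL N19466 (tt N17814 F164331) (tt N17834 F164332) (tt N20924 (iv F170913)) (tt N17709 F164333) (tt N21048 D36975) (tt N17707 (iv D35393)) (tt N21009 (iv F171394)) (tt N17809 F164334) (tt N17717 F164335) (tt N20470 (iv F168301)))
theorem Q19468 : ∀ i, i < 19468 → P i := stepQ 19467 Q19467 (allL N19467 (tt N18601 F164336) (tt N20935 (iv F170982)) (tt N17715 F164337) (tt N17934 F164338) (tt N21038 (iv F171521)) (tt N17712 (iv D35394)) (tt N21049 D36976) (tt N17713 F164339) (tt N20480 (iv F168366)) (tt N17843 F164340))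
theorem Q19469 : ∀ i, i < 19469 → P i := stepQ 19468 Q19468 (allL N19468 (tt N18688 F164341) (tt N17845 F164342) (tt N21049 (iv F171562)) (tt N17718 F164343) (tt N21044 (iv F171543)) (tt N17830 F164344) (tt N17715 (iv D35395)) (tt N21050 D36977) (tt N20500 (iv F168491)) (tt N17829 F164345))
theorem Q19470 : ∀ i, i < 19470 → P i := stepQ 19469 Q19469 (allL N19469 (tt N18642 F164346) (tt N17846 F164347) (tt N18086 F164348) (tt N17719 F164349) (tt N21045 (iv F171548)) (tt N18019 F164350) (tt N21050 (iv F171572)) (tt N17716 (iv D35396)) (tt N20501 (iv F168497)) (tt N18040 F164351))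
theorem Q19471 : ∀ i, i < 19471 → P i := stepQ 19470 Q19470 (allL N19470 (tt N17811 F164352) (tt N17847 F164353) (tt N21026 (iv F171471)) (tt N20800 (iv F170197)) (tt N17717 (iv D35397)) (tt N17827 F164354) (tt N21046 (iv F171552)) (tt N17808 F164355) (tt N21048 (iv F171560)) (tt N17826 F164356))
theorem Q19472 : ∀ i, i < 19472 → P i := stepQ 19471 Q19471 (allL N19471 (tt N18675 F164357) (tt N17849 F164358) (tt N17884 F164359) (tt N21050 (iv F171570)) (tt N20651 (iv F169409)) (tt N17769 F164360) (tt N17719 F164361) (tt N17718 (iv D35398)) (tt N20505 (iv F168520)) (tt N17768 F164362))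
theorem Q19473 : ∀ i, i < 19473 → P i := stepQ 19472 Q19472 (allL N19472 (tt N17721 F164363) (tt N18042 F164364) (tt N20675 (iv F169558)) (tt N19472 F164365) (tt N21051 D36978) (tt N17720 (iv D35399)) (tt N18039 F164366) (tt N21052 D36979) (tt N18467 F164367) (tt N18038 F164368))
theorem Q19474 : ∀ i, i < 19474 → P i := stepQ 19473 Q19473 (allL N19473 (tt N17722 F164369) (tt N18035 F164370) (tt N20676 (iv F169565)) (tt N19473 F164371) (tt N17752 F164372) (tt N21052 (iv F171583)) (tt N18014 F164373) (tt N17720 (iv D35400)) (tt N18013 F164374) (tt N18043 F164375))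
theorem Q19475 : ∀ i, i < 19475 → P i := stepQ 19474 Q19474 (allL N19474 (tt N21051 (iv F171574)) (tt N17723 F164376) (tt N20677 (iv F169572)) (tt N21053 D36980) (tt N17721 (iv D35401)) (tt N17753 F164377) (tt N18672 F164378) (tt N21054 D36981) (tt N21055 D36982) (tt N18671 F164379))
theorem Q19476 : ∀ i, i < 19476 → P i := stepQ 19475 Q19475 (allL N19475 (tt N21052 (iv F171580)) (tt N17724 F164380) (tt N20678 (iv F169577)) (tt N19475 F164381) (tt N21054 (iv F171592)) (tt N17722 F164382) (tt N21056 D36983) (tt N17721 (iv D35402)) (tt N21057 D36984) (tt N18807 F164383))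
theorem Q19477 : ∀ i, i < 19477 → P i := stepQ 19476 Q19476 (allL N19476 (tt N18467 F164384) (tt N17725 F164385) (tt N20679 (iv F169583)) (tt N19476 F164386) (tt N21055 (iv F171597)) (tt N18021 F164387) (tt N18808 F164388) (tt N21057 (iv F171608)) (tt N17721 (iv D35403)) (tt N20890 (iv F170726)))
theorem Q19478 : ∀ i, i < 19478 → P i := stepQ 19477 Q19477 (allL N19477 (tt N18626 F164389) (tt N21053 (iv F171586)) (tt N20653 (iv F169423)) (tt N17723 (iv D35404)) (tt N19477 F164390) (tt N17756 F164391) (tt N20507 (iv F168535)) (tt N21058 D36985) (tt N21059 D36986) (tt N20611 (iv F169178)))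
theorem Q19479 : ∀ i, i < 19479 → P i := stepQ 19478 Q19478 (allL N19478 (tt N18627 F164392) (tt N21054 (iv F171591)) (tt N17726 F164393) (tt N21058 (iv F171610)) (tt N17724 F164394) (tt N17757 F164395) (tt N21060 D36987) (tt N17723 (iv D35405)) (tt N21061 D36988) (tt N20612 (iv F169184)))
theorem Q19480 : ∀ i, i < 19480 → P i := stepQ 19479 Q19479 (allL N19479 (tt N18628 F164396) (tt N21055 (iv F171596)) (tt N17727 F164397) (tt N21059 (iv F171614)) (tt N17725 F164398) (tt N20772 (iv F170076)) (tt N20509 (iv F168547)) (tt N21061 (iv F171622)) (tt N17723 (iv D35406)) (tt N21062 D36989))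
theorem Q19481 : ∀ i, i < 19481 → P i := stepQ 19480 Q19480 (allL N19480 (tt N18629 F164399) (tt N21056 (iv F171600)) (tt N17728 F164400) (tt N19480 F164401) (tt N21060 (iv F171618)) (tt N20605 (iv F169132)) (tt N17724 (iv D35407)) (tt N20510 (iv F168553)) (tt N21063 D36990) (tt N20614 (iv F169196)))
theorem Q19482 : ∀ i, i < 19482 → P i := stepQ 19481 Q19481 (allL N19481 (tt N18630 F164402) (tt N21057 (iv F171605)) (tt N17729 F164403) (tt N19481 F164404) (tt N21061 (iv F171621)) (tt N18023 F164405) (tt N21063 (iv F171629)) (tt N17725 F164406) (tt N17724 (iv D35408)) (tt N21064 D36991))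
theorem Q19483 : ∀ i, i < 19483 → P i := stepQ 19482 Q19482 (allL N19482 (tt N18631 F164407) (tt N20890 (iv F170721)) (tt N17730 F164408) (tt N19482 F164409) (tt N21062 (iv F171625)) (tt N18024 F164410) (tt N20512 (iv F168566)) (tt N21064 (iv F171634)) (tt N20616 (iv F169209)) (tt N17725 (iv D35409)))
theorem Q19484 : ∀ i, i < 19484 → P i := stepQ 19483 Q19483 (allL N19483 (tt N18632 F164411) (tt N20685 (iv F169619)) (tt N21060 (iv F171617)) (tt N20659 (iv F169461)) (tt N17728 F164412) (tt N21065 D36992) (tt N17726 (iv D35410)) (tt N20513 (iv F168572)) (tt N21066 D36993) (tt N20617 (iv F169215)))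
theorem Q19485 : ∀ i, i < 19485 → P i := stepQ 19484 Q19484 (allL N19484 (tt N18633 F164413) (tt N20686 (iv F169625)) (tt N21061 (iv F171620)) (tt N20660 (iv F169467)) (tt N17729 F164414) (tt N21067 D36994) (tt N21066 (iv F171639)) (tt N17727 F164415) (tt N17726 (iv D35411)) (tt N21068 D36995))
theorem Q19486 : ∀ i, i < 19486 → P i := stepQ 19485 Q19485 (allL N19485 (tt N18634 F164416) (tt N20687 (iv F169630)) (tt N20772 (iv F170074)) (tt N20661 (iv F169472)) (tt N18027 F164417) (tt N17727 (iv D35412)) (tt N21069 D36996) (tt N21067 (iv F171642)) (tt N17764 F164418) (tt N21070 D36997))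
theorem Q19487 : ∀ i, i < 19487 → P i := stepQ 19486 Q19486 (allL N19486 (tt N18635 F164419) (tt N20688 (iv F169635)) (tt N21062 (iv F171624)) (tt N20662 (iv F169477)) (tt N17730 F164420) (tt N21070 (iv F171652)) (tt N20516 (iv F168588)) (tt N21068 (iv F171646)) (tt N20620 (iv F169231)) (tt N17727 (iv D35413)))
theorem Q19488 : ∀ i, i < 19488 → P i := stepQ 19487 Q19487 (allL N19487 (tt N18636 F164421) (tt N20689 (iv F169642)) (tt N21063 (iv F171627)) (tt N17731 F164422) (tt N21066 (iv F171638)) (tt N21071 D36998) (tt N17729 F164423) (tt N20517 (iv F168594)) (tt N17728 (iv D35414)) (tt N21072 D36999))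
theorem Q19489 : ∀ i, i < 19489 → P i := stepQ 19488 Q19488 (allL N19488 (tt N18637 F164424) (tt N20690 (iv F169647)) (tt N21064 (iv F171631)) (tt N17732 F164425) (tt N21068 (iv F171645)) (tt N18030 F164426) (tt N21072 (iv F171658)) (tt N17730 F164427) (tt N20622 (iv F169242)) (tt N17729 (iv D35415)))
theorem Q19490 : ∀ i, i < 19490 → P i := stepQ 19489 Q19489 (allL N19489 (tt N18638 F164428) (tt N20691 (iv F169654)) (tt N19489 F164429) (tt N21071 (iv F171654)) (tt N21073 D37000) (tt N17731 (iv D35416)) (tt N18031 F164430) (tt N20519 (iv F168605)) (tt N20609 (iv F169163)) (tt N21074 D37001))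
theorem Q19491 : ∀ i, i < 19491 → P i := stepQ 19490 Q19490 (allL N19490 (tt N18639 F164431) (tt N20692 (iv F169661)) (tt N19490 F164432) (tt N21072 (iv F171657)) (tt N20666 (iv F169501)) (tt N21074 (iv F171666)) (tt N17732 F164433) (tt N20520 (iv F168612)) (tt N20624 (iv F169255)) (tt N17731 (iv D35417)))
theorem Q19492 : ∀ i, i < 19492 → P i := stepQ 19491 Q19491 (allL N19491 (tt N18592 F164434) (tt N20921 (iv F170892)) (tt N17736 F164435) (tt N20732 (iv F169872)) (tt N17735 F164436) (tt N20604 (iv F169126)) (tt N21075 D37002) (tt N17734 (iv D35418)) (tt N18074 F164437) (tt N18174 F164438))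
theorem Q19493 : ∀ i, i < 19493 → P i := stepQ 19492 Q19492 (allL N19492 (tt N18593 F164439) (tt N20922 (iv F170898)) (tt N17738 F164440) (tt N17853 F164441) (tt N21075 (iv F171670)) (tt N17759 F164442) (tt N17735 (iv D35419)) (tt N17785 F164443) (tt N18075 F164444) (tt N18176 F164445))
theorem Q19494 : ∀ i, i < 19494 → P i := stepQ 19493 Q19493 (allL N19493 (tt N18640 F164446) (tt N20963 (iv F171146)) (tt N21075 (iv F171669)) (tt N20476 (iv F168337)) (tt N17738 F164447) (tt N21076 D37003) (tt N17736 (iv D35420)) (tt N17786 F164448) (tt N21077 D37004) (tt N18178 F164449))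
theorem Q19495 : ∀ i, i < 19495 → P i := stepQ 19494 Q19494 (allL N19494 (tt N18589 F164450) (tt N20964 (iv F171152)) (tt N18074 F164451) (tt N20477 (iv F168343)) (tt N17739 F164452) (tt N18398 (iv F164454)) (tt N21077 (iv F171681)) (tt N17737 F164453) (tt N17736 (iv D35421)) (tt N20722 (iv F169812)))
theorem Q19496 : ∀ i, i < 19496 → P i := stepQ 19495 Q19495 (allL N19495 (tt N18590 F164455) (tt N20965 (iv F171158)) (tt N18075 F164456) (tt N17740 F164457) (tt N21077 (iv F171680)) (tt N18080 (iv F164460)) (tt N17739 F164458) (tt N17790 F164459) (tt N17738 (iv D35422)) (tt N20723 (iv F169819)))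
theorem Q19497 : ∀ i, i < 19497 → P i := stepQ 19496 Q19496 (allL N19496 (tt N18643 F164461) (tt N18450 F164462) (tt N20680 (iv F169589)) (tt N17741 (iv D35423)) (tt N17854 F164463) (tt N20611 (iv F169176)) (tt N17794 F164464) (tt N21078 D37005) (tt N21079 D37006) (tt N17756 F164465))
theorem Q19498 : ∀ i, i < 19498 → P i := stepQ 19497 Q19497 (allL N19497 (tt N18644 F164466) (tt N18721 F164467) (tt N17744 F164468) (tt N21078 (iv F171685)) (tt N17742 F164469) (tt N20612 (iv F169183)) (tt N21080 D37007) (tt N17741 (iv D35424)) (tt N21081 D37008) (tt N17757 F164470))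
theorem Q19499 : ∀ i, i < 19499 → P i := stepQ 19498 Q19498 (allL N19498 (tt N18645 F164471) (tt N18203 F164472) (tt N17745 F164473) (tt N21079 (iv F171691)) (tt N17743 F164474) (tt N21082 D37009) (tt N17796 F164475) (tt N21081 (iv F171705)) (tt N17741 (iv D35425)) (tt N21083 D37010))
theorem Q19500 : ∀ i, i < 19500 → P i := stepQ 19499 Q19499 (allL N19499 (tt N18646 F164476) (tt N18726 F164477) (tt N17746 F164478) (tt N17857 F164479) (tt N21080 (iv F171698)) (tt N18176 F164480) (tt N17742 (iv D35426)) (tt N17797 F164481) (tt N21084 D37011) (tt N17759 F164482))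
theorem Q19501 : ∀ i, i < 19501 → P i := stepQ 19500 Q19500 (allL N19500 (tt N18647 F164483) (tt N18221 F164484) (tt N17747 F164485) (tt N17858 F164486) (tt N21081 (iv F171704)) (tt N19500 F164487) (tt N21084 (iv F171722)) (tt N17743 F164488) (tt N17742 (iv D35427)) (tt N21085 D37012))
theorem Q19502 : ∀ i, i < 19502 → P i := stepQ 19501 Q19501 (allL N19501 (tt N18648 F164489) (tt N18222 F164490) (tt N17748 F164491) (tt N17859 F164492) (tt N21083 (iv F171715)) (tt N19501 F164493) (tt N17799 F164494) (tt N21085 (iv F171729)) (tt N17761 F164495) (tt N17743 (iv D35428)))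
theorem Q19503 : ∀ i, i < 19503 → P i := stepQ 19502 Q19502 (allL N19502 (tt N18649 F164496) (tt N20659 (iv F169460)) (tt N21080 (iv F171697)) (tt N20685 (iv F169620)) (tt N17746 F164497) (tt N21086 D37013) (tt N17744 (iv D35429)) (tt N17800 F164498) (tt N21087 D37014) (tt N17762 F164499))
theorem Q19504 : ∀ i, i < 19504 → P i := stepQ 19503 Q19503 (allL N19503 (tt N18650 F164500) (tt N20660 (iv F169466)) (tt N21081 (iv F171703)) (tt N20686 (iv F169626)) (tt N17747 F164501) (tt N21088 D37015) (tt N21087 (iv F171737)) (tt N17745 F164502) (tt N17744 (iv D35430)) (tt N21089 D37016))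
theorem Q19505 : ∀ i, i < 19505 → P i := stepQ 19504 Q19504 (allL N19504 (tt N18651 F164503) (tt N20661 (iv F169471)) (tt N21082 (iv F171708)) (tt N20687 (iv F169631)) (tt N19504 F164504) (tt N17745 (iv D35431)) (tt N21090 D37017) (tt N21088 (iv F171741)) (tt N20619 (iv F169225)) (tt N21091 D37018))
theorem Q19506 : ∀ i, i < 19506 → P i := stepQ 19505 Q19505 (allL N19505 (tt N18652 F164505) (tt N20662 (iv F169476)) (tt N21083 (iv F171713)) (tt N20688 (iv F169637)) (tt N17748 F164506) (tt N21091 (iv F171752)) (tt N17803 F164507) (tt N21089 (iv F171744)) (tt N17765 F164508) (tt N17745 (iv D35432)))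
theorem Q19507 : ∀ i, i < 19507 → P i := stepQ 19506 Q19506 (allL N19506 (tt N18653 F164509) (tt N20663 (iv F169482)) (tt N21084 (iv F171720)) (tt N17749 F164510) (tt N21087 (iv F171736)) (tt N21092 D37019) (tt N17747 F164511) (tt N17804 F164512) (tt N17746 (iv D35433)) (tt N21093 D37020))
theorem Q19508 : ∀ i, i < 19508 → P i := stepQ 19507 Q19507 (allL N19507 (tt N18654 F164513) (tt N20664 (iv F169487)) (tt N21085 (iv F171726)) (tt N17750 F164514) (tt N21089 (iv F171743)) (tt N19507 F164515) (tt N21093 (iv F171760)) (tt N17748 F164516) (tt N17767 F164517) (tt N17747 (iv D35434)))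
theorem Q19509 : ∀ i, i < 19509 → P i := stepQ 19508 Q19508 (allL N19508 (tt N18655 F164518) (tt N20665 (iv F169493)) (tt N17864 F164519) (tt N21092 (iv F171754)) (tt N21094 D37021) (tt N17749 (iv D35435)) (tt N19508 F164520) (tt N17806 F164521) (tt N18184 F164522) (tt N21095 D37022))
theorem Q19510 : ∀ i, i < 19510 → P i := stepQ 19509 Q19509 (allL N19509 (tt N18656 F164523) (tt N20666 (iv F169499)) (tt N17865 F164524) (tt N21093 (iv F171759)) (tt N20692 (iv F169663)) (tt N21095 (iv F171771)) (tt N17750 F164525) (tt N17807 F164526) (tt N17769 F164527) (tt N17749 (iv D35436)))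
theorem Q19511 : ∀ i, i < 19511 → P i := stepQ 19510 Q19510 (allL N19510 (tt N17753 F164528) (tt N18044 F164529) (tt N20966 (iv F171165)) (tt N20802 (iv F170206)) (tt N17751 (iv D35437)) (tt N21051 (iv F171576)) (tt N17808 F164530) (tt N21096 D37023) (tt N18076 F164531) (tt N17828 F164532))
theorem Q19512 : ∀ i, i < 19512 → P i := stepQ 19511 Q19511 (allL N19511 (tt N17754 F164533) (tt N18040 F164534) (tt N20967 (iv F171171)) (tt N17850 F164535) (tt N21096 (iv F171776)) (tt N17752 F164536) (tt N20987 (iv F171265)) (tt N17751 (iv D35438)) (tt N18077 F164537) (tt N17846 F164538))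
theorem Q19513 : ∀ i, i < 19513 → P i := stepQ 19512 Q19512 (allL N19512 (tt N20802 (iv F170204)) (tt N17756 F164539) (tt N21097 D37024) (tt N17753 (iv D35439)) (tt N17866 F164540) (tt N21053 (iv F171588)) (tt N17810 F164541) (tt N21098 D37025) (tt N21099 D37026) (tt N18450 F164542))
theorem Q19514 : ∀ i, i < 19514 → P i := stepQ 19513 Q19513 (allL N19513 (tt N21096 (iv F171774)) (tt N17757 F164543) (tt N20969 (iv F171181)) (tt N21098 (iv F171783)) (tt N17754 F164544) (tt N21054 (iv F171593)) (tt N21100 D37027) (tt N17753 (iv D35440)) (tt N21101 D37028) (tt N18721 F164545))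
theorem Q19515 : ∀ i, i < 19515 → P i := stepQ 19514 Q19514 (allL N19514 (tt N18076 F164546) (tt N17758 F164547) (tt N20970 (iv F171186)) (tt N21099 (iv F171788)) (tt N17755 F164548) (tt N18429 (iv F164550)) (tt N17812 F164549) (tt N21101 (iv F171799)) (tt N17753 (iv D35441)) (tt N21102 D37029))
theorem Q19516 : ∀ i, i < 19516 → P i := stepQ 19515 Q19515 (allL N19515 (tt N20987 (iv F171262)) (tt N17759 F164551) (tt N20971 (iv F171191)) (tt N17869 F164552) (tt N21100 (iv F171793)) (tt N20922 F170902) (tt N17754 (iv D35442)) (tt N17813 F164553) (tt N21103 D37030) (tt N18726 F164554))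
theorem Q19517 : ∀ i, i < 19517 → P i := stepQ 19516 Q19516 (allL N19516 (tt N18077 F164555) (tt N17760 F164556) (tt N20972 (iv F171197)) (tt N17870 F164557) (tt N21101 (iv F171798)) (tt N18033 F164558) (tt N21103 (iv F171811)) (tt N17755 F164559) (tt N17754 (iv D35443)) (tt N21104 D37031))
theorem Q19518 : ∀ i, i < 19518 → P i := stepQ 19517 Q19517 (allL N19517 (tt N17771 F164560) (tt N17761 F164561) (tt N20959 (iv F171122)) (tt N17871 F164562) (tt N21102 (iv F171803)) (tt N17770 F164563) (tt N17815 F164564) (tt N21104 (iv F171817)) (tt N18222 F164565) (tt N17755 (iv D35444)))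
theorem Q19519 : ∀ i, i < 19519 → P i := stepQ 19518 Q19518 (allL N19518 (tt N18660 F164566) (tt N21098 (iv F171782)) (tt N20702 (iv F169713)) (tt N17757 F164567) (tt N17872 F164568) (tt N21058 (iv F171612)) (tt N21105 D37032) (tt N17756 (iv D35445)) (tt N21106 D37033) (tt N21078 (iv F171687)))
theorem Q19520 : ∀ i, i < 19520 → P i := stepQ 19519 Q19519 (allL N19519 (tt N18661 F164569) (tt N21099 (iv F171787)) (tt N20703 (iv F169717)) (tt N17758 F164570) (tt N17873 F164571) (tt N20770 (iv F170066)) (tt N17817 F164572) (tt N21106 (iv F171826)) (tt N17756 (iv D35446)) (tt N21107 D37034))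
theorem Q19521 : ∀ i, i < 19521 → P i := stepQ 19520 Q19520 (allL N19520 (tt N18662 F164573) (tt N21100 (iv F171792)) (tt N17762 F164574) (tt N21105 (iv F171820)) (tt N17759 F164575) (tt N21108 D37035) (tt N17757 (iv D35447)) (tt N17818 F164576) (tt N21109 D37036) (tt N21080 (iv F171700)))
theorem Q19522 : ∀ i, i < 19522 → P i := stepQ 19521 Q19521 (allL N19521 (tt N18663 F164577) (tt N21101 (iv F171797)) (tt N17763 F164578) (tt N21106 (iv F171824)) (tt N17760 F164579) (tt N20771 (iv F170071)) (tt N21109 (iv F171839)) (tt N17758 F164580) (tt N17757 (iv D35448)) (tt N21110 D37037))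
theorem Q19523 : ∀ i, i < 19523 → P i := stepQ 19522 Q19522 (allL N19522 (tt N18664 F164581) (tt N21102 (iv F171802)) (tt N17765 F164582) (tt N21107 (iv F171829)) (tt N17761 F164583) (tt N20743 (iv F169934)) (tt N17821 F164584) (tt N21110 (iv F171844)) (tt N21083 (iv F171717)) (tt N17758 (iv D35449)))
theorem Q19524 : ∀ i, i < 19524 → P i := stepQ 19523 Q19523 (allL N19523 (tt N18665 F164585) (tt N21103 (iv F171808)) (tt N17766 F164586) (tt N17877 F164587) (tt N21109 (iv F171838)) (tt N18085 F164588) (tt N17760 F164589) (tt N17822 F164590) (tt N17759 (iv D35450)) (tt N21111 D37038))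
theorem Q19525 : ∀ i, i < 19525 → P i := stepQ 19524 Q19524 (allL N19524 (tt N18666 F164591) (tt N21104 (iv F171814)) (tt N17767 F164592) (tt N17878 F164593) (tt N21110 (iv F171843)) (tt N18034 F164594) (tt N21111 (iv F171849)) (tt N17761 F164595) (tt N21085 (iv F171730)) (tt N17760 (iv D35451)))
theorem Q19526 : ∀ i, i < 19526 → P i := stepQ 19525 Q19525 (allL N19525 (tt N18667 F164596) (tt N20981 (iv F171236)) (tt N21108 (iv F171834)) (tt N20710 (iv F169751)) (tt N21076 (iv F171675)) (tt N17762 (iv D35452)) (tt N21065 (iv F171636)) (tt N17824 F164597) (tt N21112 D37039) (tt N21086 (iv F171734)))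
theorem Q19527 : ∀ i, i < 19527 → P i := stepQ 19526 Q19526 (allL N19526 (tt N18668 F164598) (tt N20982 (iv F171238)) (tt N21109 (iv F171837)) (tt N20711 (iv F169754)) (tt N17766 F164599) (tt N21113 D37040) (tt N17763 F164600) (tt N17825 F164601) (tt N17762 (iv D35453)) (tt N21114 D37041))
theorem Q19528 : ∀ i, i < 19528 → P i := stepQ 19527 Q19527 (allL N19527 (tt N18669 F164602) (tt N20983 (iv F171242)) (tt N20771 (iv F170069)) (tt N20712 (iv F169759)) (tt N18036 F164603) (tt N17763 (iv D35454)) (tt N21115 D37042) (tt N17764 F164604) (tt N21067 (iv F171643)) (tt N21116 D37043))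
theorem Q19529 : ∀ i, i < 19529 → P i := stepQ 19528 Q19528 (allL N19528 (tt N18670 F164605) (tt N20984 (iv F171246)) (tt N21110 (iv F171842)) (tt N20713 (iv F169763)) (tt N17767 F164606) (tt N21116 (iv F171863)) (tt N21114 (iv F171857)) (tt N17765 F164607) (tt N21089 (iv F171745)) (tt N17763 (iv D35455)))
theorem Q19530 : ∀ i, i < 19530 → P i := stepQ 19529 Q19529 (allL N19529 (tt N18671 F164608) (tt N20985 (iv F171250)) (tt N20693 (iv F169669)) (tt N20714 (iv F169767)) (tt N18038 F164609) (tt N17828 F164610) (tt N17764 (iv D35456)) (tt N21117 D37044) (tt N21069 (iv F171649)) (tt N21051 (iv F171579)))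
theorem Q19531 : ∀ i, i < 19531 → P i := stepQ 19530 Q19530 (allL N19530 (tt N18672 F164611) (tt N20986 (iv F171256)) (tt N20743 (iv F169933)) (tt N20715 (iv F169771)) (tt N18039 F164612) (tt N17765 F164613) (tt N21051 (iv F171577)) (tt N21116 (iv F171864)) (tt N21118 D37045) (tt N17764 (iv D35457)))
theorem Q19532 : ∀ i, i < 19532 → P i := stepQ 19531 Q19531 (allL N19531 (tt N18659 F164614) (tt N20987 (iv F171263)) (tt N18085 F164615) (tt N17768 F164616) (tt N21119 D37046) (tt N17766 (iv D35458)) (tt N18040 F164617) (tt N17829 F164618) (tt N18080 F164619) (tt N21050 (iv F171573)))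
theorem Q19533 : ∀ i, i < 19533 → P i := stepQ 19532 Q19532 (allL N19532 (tt N18673 F164620) (tt N20988 (iv F171270)) (tt N21111 (iv F171846)) (tt N17769 F164621) (tt N21114 (iv F171856)) (tt N21050 (iv F171571)) (tt N17767 F164622) (tt N17830 F164623) (tt N21093 (iv F171762)) (tt N17766 (iv D35459)))
theorem Q19534 : ∀ i, i < 19534 → P i := stepQ 19533 Q19533 (allL N19533 (tt N18674 F164624) (tt N20836 (iv F170375)) (tt N17883 F164625) (tt N21120 D37047) (tt N17768 (iv D35460)) (tt N20718 (iv F169784)) (tt N18041 F164626) (tt N17831 F164627) (tt N18103 F164628) (tt N20651 (iv F169412)))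
theorem Q19535 : ∀ i, i < 19535 → P i := stepQ 19534 Q19534 (allL N19534 (tt N17772 F164629) (tt N18034 F164630) (tt N20989 (iv F171277)) (tt N17885 F164631) (tt N18411 F164632) (tt N21104 (iv F171816)) (tt N18069 F164633) (tt N17770 (iv D35461)) (tt N19534 F164634) (tt N18033 F164635))
theorem Q19536 : ∀ i, i < 19536 → P i := stepQ 19535 Q19535 (allL N19535 (tt N21102 (iv F171801)) (tt N17773 F164636) (tt N20990 (iv F171284)) (tt N21121 D37048) (tt N17771 (iv D35462)) (tt N18412 F164637) (tt N20469 (iv F168292)) (tt N21122 D37049) (tt N20549 (iv F168781)) (tt N18076 F164638))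
theorem Q19537 : ∀ i, i < 19537 → P i := stepQ 19536 Q19536 (allL N19536 (tt N21104 (iv F171813)) (tt N17774 F164639) (tt N20991 (iv F171291)) (tt N17887 F164640) (tt N21122 (iv F171889)) (tt N17772 F164641) (tt N21123 D37050) (tt N17771 (iv D35463)) (tt N20566 (iv F168877)) (tt N18077 F164642))
theorem Q19538 : ∀ i, i < 19538 → P i := stepQ 19537 Q19537 (allL N19537 (tt N18334 F164643) (tt N21121 (iv F171882)) (tt N17783 F164644) (tt N17773 (iv D35464)) (tt N17888 F164645) (tt N18415 F164646) (tt N20471 (iv F168306)) (tt N21124 D37051) (tt N18286 (iv F164648)) (tt N18078 F164647))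
theorem Q19539 : ∀ i, i < 19539 → P i := stepQ 19538 Q19538 (allL N19538 (tt N18676 F164649) (tt N21122 (iv F171888)) (tt N17776 F164650) (tt N21124 (iv F171897)) (tt N17774 F164651) (tt N18416 F164652) (tt N21125 D37052) (tt N17773 (iv D35465)) (tt N21126 D37053) (tt N18079 F164653))
theorem Q19540 : ∀ i, i < 19540 → P i := stepQ 19539 Q19539 (allL N19539 (tt N18332 F164654) (tt N20549 (iv F168776)) (tt N17777 F164655) (tt N18286 F164656) (tt N17775 F164657) (tt N20960 (iv F171130)) (tt N20473 (iv F168320)) (tt N21126 (iv F171910)) (tt N17773 (iv D35466)) (tt N20494 (iv F168456)))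
theorem Q19541 : ∀ i, i < 19541 → P i := stepQ 19540 Q19540 (allL N19540 (tt N18677 F164658) (tt N21123 (iv F171892)) (tt N17778 F164659) (tt N17890 F164660) (tt N21125 (iv F171904)) (tt N20723 (iv F169816)) (tt N17774 (iv D35467)) (tt N20474 (iv F168326)) (tt N21127 D37054) (tt N18080 F164661))
theorem Q19542 : ∀ i, i < 19542 → P i := stepQ 19541 Q19541 (allL N19541 (tt N18678 F164662) (tt N20566 (iv F168872)) (tt N17779 F164663) (tt N17891 F164664) (tt N21126 (iv F171909)) (tt N19541 F164665) (tt N21127 (iv F171914)) (tt N17775 F164666) (tt N17774 (iv D35468)) (tt N20501 (iv F168498)))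
theorem Q19543 : ∀ i, i < 19543 → P i := stepQ 19542 Q19542 (allL N19542 (tt N18679 F164667) (tt N20995 (iv F171318)) (tt N21125 (iv F171903)) (tt N17786 F164668) (tt N17778 F164669) (tt N21128 D37055) (tt N17776 (iv D35469)) (tt N20476 (iv F168339)) (tt N21129 D37056) (tt N18081 F164670))
theorem Q19544 : ∀ i, i < 19544 → P i := stepQ 19543 Q19543 (allL N19543 (tt N18611 F164671) (tt N20996 (iv F171324)) (tt N21126 (iv F171907)) (tt N17787 F164672) (tt N17779 F164673) (tt N21130 D37057) (tt N21129 (iv F171922)) (tt N17777 F164674) (tt N17776 (iv D35470)) (tt N21131 D37058))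
theorem Q19545 : ∀ i, i < 19545 → P i := stepQ 19544 Q19544 (allL N19544 (tt N18139 F164675) (tt N20997 (iv F171330)) (tt N20960 (iv F171128)) (tt N17788 F164676) (tt N19544 F164677) (tt N17777 (iv D35471)) (tt N20992 (iv F171301)) (tt N21130 (iv F171926)) (tt N18423 F164678) (tt N20925 (iv F170923)))
theorem Q19546 : ∀ i, i < 19546 → P i := stepQ 19545 Q19545 (allL N19545 (tt N18603 F164679) (tt N20998 (iv F171337)) (tt N20494 (iv F168451)) (tt N17789 F164680) (tt N17780 F164681) (tt N20925 (iv F170921)) (tt N20478 (iv F168353)) (tt N21131 (iv F171931)) (tt N18084 F164682) (tt N17777 (iv D35472)))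
theorem Q19547 : ∀ i, i < 19547 → P i := stepQ 19546 Q19546 (allL N19546 (tt N18680 F164683) (tt N20999 (iv F171344)) (tt N21127 (iv F171912)) (tt N17781 F164684) (tt N21129 (iv F171921)) (tt N21132 D37059) (tt N17779 F164685) (tt N20479 (iv F168359)) (tt N17778 (iv D35473)) (tt N21133 D37060))
theorem Q19548 : ∀ i, i < 19548 → P i := stepQ 19547 Q19547 (allL N19547 (tt N18681 F164686) (tt N21000 (iv F171350)) (tt N20501 (iv F168494)) (tt N17782 F164687) (tt N21131 (iv F171930)) (tt N19547 F164688) (tt N21133 (iv F171938)) (tt N17780 F164689) (tt N18086 F164690) (tt N17779 (iv D35474)))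
theorem Q19549 : ∀ i, i < 19549 → P i := stepQ 19548 Q19548 (allL N19548 (tt N18682 F164691) (tt N21001 (iv F171357)) (tt N17894 F164692) (tt N21132 (iv F171934)) (tt N21134 D37061) (tt N17781 (iv D35475)) (tt N19548 F164693) (tt N20481 (iv F168372)) (tt N20727 (iv F169845)) (tt N21135 D37062))
theorem Q19550 : ∀ i, i < 19550 → P i := stepQ 19549 Q19549 (allL N19549 (tt N18683 F164694) (tt N21002 (iv F171363)) (tt N17895 F164695) (tt N21133 (iv F171937)) (tt N17793 F164696) (tt N21135 (iv F171947)) (tt N17782 F164697) (tt N20482 (iv F168379)) (tt N18087 F164698) (tt N17781 (iv D35476)))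
theorem Q19551 : ∀ i, i < 19551 → P i := stepQ 19550 Q19550 (allL N19550 (tt N18338 F164699) (tt N20607 (iv F169143)) (tt N21124 (iv F171896)) (tt N17784 F164700) (tt N17896 F164701) (tt N18689 F164702) (tt N21136 D37063) (tt N17783 (iv D35477)) (tt N18288 F164703) (tt N18191 F164704))
theorem Q19552 : ∀ i, i < 19552 → P i := stepQ 19551 Q19551 (allL N19551 (tt N18614 F164705) (tt N20957 (iv F171109)) (tt N17786 F164706) (tt N21136 (iv F171950)) (tt N17785 F164707) (tt N21137 D37064) (tt N17784 (iv D35478)) (tt N21075 (iv F171671)) (tt N18588 F164708) (tt N18193 F164709))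
theorem Q19553 : ∀ i, i < 19553 → P i := stepQ 19552 Q19552 (allL N19552 (tt N18684 F164710) (tt N21005 (iv F171376)) (tt N21137 (iv F171955)) (tt N21128 (iv F171916)) (tt N17824 F164711) (tt N17786 (iv D35479)) (tt N18695 F164712) (tt N21076 (iv F171676)) (tt N21138 D37065) (tt N18199 F164713))
theorem Q19554 : ∀ i, i < 19554 → P i := stepQ 19553 Q19553 (allL N19553 (tt N18612 F164714) (tt N21006 (iv F171380)) (tt N18588 F164715) (tt N21129 (iv F171920)) (tt N17790 F164716) (tt N21139 D37066) (tt N17787 F164717) (tt N21077 (iv F171682)) (tt N17786 (iv D35480)) (tt N21140 D37067))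
theorem Q19555 : ∀ i, i < 19555 → P i := stepQ 19554 Q19554 (allL N19554 (tt N18140 F164718) (tt N21007 (iv F171383)) (tt N18114 F164719) (tt N21130 (iv F171924)) (tt N17833 F164720) (tt N17787 (iv D35481)) (tt N21141 D37068) (tt N17788 F164721) (tt N18697 F164722) (tt N20926 (iv F170928)))
theorem Q19556 : ∀ i, i < 19556 → P i := stepQ 19555 Q19555 (allL N19555 (tt N18604 F164723) (tt N21008 (iv F171387)) (tt N18586 F164724) (tt N21131 (iv F171929)) (tt N17791 F164725) (tt N20926 (iv F170927)) (tt N21140 (iv F171967)) (tt N17789 F164726) (tt N18202 F164727) (tt N17787 (iv D35482)))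
theorem Q19557 : ∀ i, i < 19557 → P i := stepQ 19556 Q19556 (allL N19556 (tt N18596 F164728) (tt N21009 (iv F171392)) (tt N18073 F164729) (tt N17792 F164730) (tt N21142 D37069) (tt N17790 (iv D35483)) (tt N17834 F164731) (tt N18080 F164732) (tt N17829 F164733) (tt N20474 (iv F168327)))
theorem Q19558 : ∀ i, i < 19558 → P i := stepQ 19557 Q19557 (allL N19557 (tt N18605 F164734) (tt N21010 (iv F171397)) (tt N18587 F164735) (tt N17793 F164736) (tt N21140 (iv F171966)) (tt N20474 (iv F168325)) (tt N17791 F164737) (tt N20723 (iv F169817)) (tt N18206 F164738) (tt N17790 (iv D35484)))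
theorem Q19559 : ∀ i, i < 19559 → P i := stepQ 19558 Q19558 (allL N19558 (tt N18685 F164739) (tt N20837 (iv F170382)) (tt N17899 F164740) (tt N21143 D37070) (tt N17792 (iv D35485)) (tt N21134 (iv F171942)) (tt N17835 F164741) (tt N18103 F164742) (tt N17831 F164743) (tt N20872 (iv F170614)))
theorem Q19560 : ∀ i, i < 19560 → P i := stepQ 19559 Q19559 (allL N19559 (tt N18686 F164744) (tt N20579 (iv F168947)) (tt N17851 F164745) (tt N20474 (iv F168324)) (tt N20872 (iv F170611)) (tt N17793 F164746) (tt N17836 F164747) (tt N17890 F164748) (tt N20506 (iv F168529)) (tt N17792 (iv D35486)))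
theorem Q19561 : ∀ i, i < 19561 → P i := stepQ 19560 Q19560 (allL N19560 (tt N18689 F164749) (tt N18448 F164750) (tt N20752 (iv F169979)) (tt N17795 F164751) (tt N17900 F164752) (tt N18338 F164753) (tt N21144 D37071) (tt N17794 (iv D35487)) (tt N21145 D37072) (tt N17816 F164754))
theorem Q19562 : ∀ i, i < 19562 → P i := stepQ 19561 Q19561 (allL N19561 (tt N18395 F164755) (tt N18083 F164756) (tt N20753 (iv F169985)) (tt N17796 F164757) (tt N17901 F164758) (tt N18058 F164759) (tt N21079 (iv F171693)) (tt N21145 (iv F171993)) (tt N17794 (iv D35488)) (tt N21146 D37073))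
theorem Q19563 : ∀ i, i < 19563 → P i := stepQ 19562 Q19562 (allL N19562 (tt N18690 F164760) (tt N18720 F164761) (tt N17800 F164762) (tt N21144 (iv F171985)) (tt N17797 F164763) (tt N21147 D37074) (tt N17795 (iv D35489)) (tt N21080 (iv F171699)) (tt N21148 D37075) (tt N17818 F164764))
theorem Q19564 : ∀ i, i < 19564 → P i := stepQ 19563 Q19563 (allL N19563 (tt N18691 F164765) (tt N18201 F164766) (tt N17801 F164767) (tt N21145 (iv F171990)) (tt N17798 F164768) (tt N18143 F164769) (tt N21148 (iv F172012)) (tt N17796 F164770) (tt N17795 (iv D35490)) (tt N21149 D37076))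
theorem Q19565 : ∀ i, i < 19565 → P i := stepQ 19564 Q19564 (allL N19564 (tt N18692 F164771) (tt N18204 F164772) (tt N17803 F164773) (tt N21146 (iv F171997)) (tt N17799 F164774) (tt N18144 F164775) (tt N21083 (iv F171716)) (tt N21149 (iv F172018)) (tt N17821 F164776) (tt N17796 (iv D35491)))
theorem Q19566 : ∀ i, i < 19566 → P i := stepQ 19565 Q19565 (allL N19565 (tt N18693 F164777) (tt N18219 F164778) (tt N17804 F164779) (tt N17905 F164780) (tt N21148 (iv F172011)) (tt N21150 D37077) (tt N17798 F164781) (tt N21084 (iv F171723)) (tt N17797 (iv D35492)) (tt N21151 D37078))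
theorem Q19567 : ∀ i, i < 19567 → P i := stepQ 19566 Q19566 (allL N19566 (tt N18694 F164782) (tt N18220 F164783) (tt N17805 F164784) (tt N17906 F164785) (tt N21149 (iv F172016)) (tt N17972 F164786) (tt N21151 (iv F172030)) (tt N17799 F164787) (tt N17823 F164788) (tt N17798 (iv D35493)))
theorem Q19568 : ∀ i, i < 19568 → P i := stepQ 19567 Q19567 (allL N19567 (tt N18695 F164789) (tt N21017 (iv F171431)) (tt N21147 (iv F172004)) (tt N20760 (iv F170021)) (tt N18199 F164790) (tt N17800 (iv D35494)) (tt N18684 F164791) (tt N21086 (iv F171733)) (tt N21152 D37079) (tt N17824 F164792))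
theorem Q19569 : ∀ i, i < 19569 → P i := stepQ 19568 Q19568 (allL N19568 (tt N18696 F164793) (tt N21018 (iv F171435)) (tt N21148 (iv F172010)) (tt N20761 (iv F170025)) (tt N17804 F164794) (tt N21153 D37080) (tt N17801 F164795) (tt N21087 (iv F171738)) (tt N17800 (iv D35495)) (tt N21154 D37081))
theorem Q19570 : ∀ i, i < 19570 → P i := stepQ 19569 Q19569 (allL N19569 (tt N18697 F164796) (tt N21019 (iv F171438)) (tt N18143 F164797) (tt N20762 (iv F170029)) (tt N17974 F164798) (tt N17801 (iv D35496)) (tt N21155 D37082) (tt N17802 F164799) (tt N18140 F164800) (tt N21156 D37083))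
theorem Q19571 : ∀ i, i < 19571 → P i := stepQ 19570 Q19570 (allL N19570 (tt N18698 F164801) (tt N21020 (iv F171444)) (tt N21149 (iv F172015)) (tt N20763 (iv F170034)) (tt N17805 F164802) (tt N21156 (iv F172047)) (tt N21154 (iv F172038)) (tt N17803 F164803) (tt N17827 F164804) (tt N17801 (iv D35497)))
theorem Q19572 : ∀ i, i < 19572 → P i := stepQ 19571 Q19571 (allL N19571 (tt N18699 F164805) (tt N21021 (iv F171448)) (tt N18131 F164806) (tt N20764 (iv F170039)) (tt N17976 F164807) (tt N21090 (iv F171749)) (tt N17802 (iv D35498)) (tt N21157 D37084) (tt N18128 F164808) (tt N21158 D37085))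
theorem Q19573 : ∀ i, i < 19573 → P i := stepQ 19572 Q19572 (allL N19572 (tt N18700 F164809) (tt N20941 (iv F171022)) (tt N18144 F164810) (tt N20765 (iv F170043)) (tt N17977 F164811) (tt N17803 F164812) (tt N21158 (iv F172057)) (tt N21156 (iv F172048)) (tt N20937 (iv F171001)) (tt N17802 (iv D35499)))
theorem Q19574 : ∀ i, i < 19574 → P i := stepQ 19573 Q19573 (allL N19573 (tt N18701 F164813) (tt N21022 (iv F171453)) (tt N21150 (iv F172022)) (tt N17806 F164814) (tt N21159 D37086) (tt N17804 (iv D35500)) (tt N17978 F164815) (tt N21092 (iv F171756)) (tt N18205 F164816) (tt N21160 D37087))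
theorem Q19575 : ∀ i, i < 19575 → P i := stepQ 19574 Q19574 (allL N19574 (tt N18702 F164817) (tt N21023 (iv F171458)) (tt N21151 (iv F172028)) (tt N17807 F164818) (tt N21154 (iv F172037)) (tt N21160 (iv F172064)) (tt N17805 F164819) (tt N21093 (iv F171761)) (tt N17830 F164820) (tt N17804 (iv D35501)))
theorem Q19576 : ∀ i, i < 19576 → P i := stepQ 19575 Q19575 (allL N19575 (tt N18703 F164821) (tt N21024 (iv F171462)) (tt N17912 F164822) (tt N21161 D37088) (tt N17806 (iv D35502)) (tt N20768 (iv F170055)) (tt N17980 F164823) (tt N21094 (iv F171767)) (tt N18207 F164824) (tt N20903 (iv F170784)))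
theorem Q19577 : ∀ i, i < 19577 → P i := stepQ 19576 Q19576 (allL N19576 (tt N18704 F164825) (tt N20572 (iv F168908)) (tt N17913 F164826) (tt N21160 (iv F172063)) (tt N20903 (iv F170782)) (tt N17807 F164827) (tt N17981 F164828) (tt N21095 (iv F171773)) (tt N20504 (iv F168513)) (tt N17806 (iv D35503)))
theorem Q19578 : ∀ i, i < 19578 → P i := stepQ 19577 Q19577 (allL N19577 (tt N17812 F164829) (tt N18046 F164830) (tt N20923 (iv F170906)) (tt N20803 (iv F170212)) (tt N17809 F164831) (tt N20937 (iv F170999)) (tt N18076 F164832) (tt N21048 (iv F171559)) (tt N17808 (iv D35504)) (tt N20469 (iv F168294)))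
theorem Q19579 : ∀ i, i < 19579 → P i := stepQ 19578 Q19578 (allL N19578 (tt N20793 (iv F170171)) (tt N20776 (iv F170095)) (tt N17810 (iv D35505)) (tt N21028 (iv F171481)) (tt N17914 F164833) (tt N18443 F164834) (tt N21097 (iv F171780)) (tt N21162 D37089) (tt N21163 D37090) (tt N18442 F164835))
theorem Q19580 : ∀ i, i < 19580 → P i := stepQ 19579 Q19579 (allL N19579 (tt N20800 (iv F170195)) (tt N17816 F164836) (tt N21162 (iv F172069)) (tt N17811 F164837) (tt N17915 F164838) (tt N18449 F164839) (tt N21164 D37091) (tt N17810 (iv D35506)) (tt N21165 D37092) (tt N18448 F164840))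
theorem Q19581 : ∀ i, i < 19581 → P i := stepQ 19580 Q19580 (allL N19580 (tt N20803 (iv F170210)) (tt N17817 F164841) (tt N21163 (iv F172073)) (tt N17812 F164842) (tt N17916 F164843) (tt N21166 D37093) (tt N21099 (iv F171790)) (tt N21165 (iv F172082)) (tt N17810 (iv D35507)) (tt N21167 D37094))
theorem Q19582 : ∀ i, i < 19582 → P i := stepQ 19581 Q19581 (allL N19581 (tt N21046 (iv F171550)) (tt N17818 F164844) (tt N21031 (iv F171496)) (tt N21164 (iv F172076)) (tt N17813 F164845) (tt N21168 D37095) (tt N17811 (iv D35508)) (tt N21100 (iv F171794)) (tt N21169 D37096) (tt N18720 F164846))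
theorem Q19583 : ∀ i, i < 19583 → P i := stepQ 19582 Q19582 (allL N19582 (tt N21048 (iv F171557)) (tt N17819 F164847) (tt N21032 (iv F171500)) (tt N21165 (iv F172080)) (tt N17814 F164848) (tt N21170 D37097) (tt N21169 (iv F172096)) (tt N17812 F164849) (tt N17811 (iv D35509)) (tt N21171 D37098))
theorem Q19584 : ∀ i, i < 19584 → P i := stepQ 19583 Q19583 (allL N19583 (tt N20937 (iv F170996)) (tt N17820 F164850) (tt N20933 (iv F170969)) (tt N21166 (iv F172084)) (tt N17838 F164851) (tt N17812 (iv D35510)) (tt N21172 D37099) (tt N21170 (iv F172099)) (tt N18700 F164852) (tt N20927 (iv F170935)))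
theorem Q19585 : ∀ i, i < 19585 → P i := stepQ 19584 Q19584 (allL N19584 (tt N20469 (iv F168288)) (tt N17821 F164853) (tt N20932 (iv F170962)) (tt N21167 (iv F172088)) (tt N17815 F164854) (tt N20927 (iv F170933)) (tt N21102 (iv F171805)) (tt N21171 (iv F172103)) (tt N18204 F164855) (tt N17812 (iv D35511)))
theorem Q19586 : ∀ i, i < 19586 → P i := stepQ 19585 Q19585 (allL N19585 (tt N21009 (iv F171391)) (tt N17822 F164856) (tt N21033 (iv F171504)) (tt N17920 F164857) (tt N21169 (iv F172095)) (tt N20934 (iv F170978)) (tt N17814 F164858) (tt N21103 (iv F171812)) (tt N17813 (iv D35512)) (tt N21173 D37100))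
theorem Q19587 : ∀ i, i < 19587 → P i := stepQ 19586 Q19586 (allL N19586 (tt N20470 (iv F168295)) (tt N17823 F164859) (tt N20958 (iv F171115)) (tt N17921 F164860) (tt N21171 (iv F172102)) (tt N17839 F164861) (tt N21173 (iv F172114)) (tt N17815 F164862) (tt N18220 F164863) (tt N17814 (iv D35513)))
theorem Q19588 : ∀ i, i < 19588 → P i := stepQ 19587 Q19587 (allL N19587 (tt N18707 F164864) (tt N21164 (iv F172075)) (tt N20784 (iv F170130)) (tt N17818 F164865) (tt N17922 F164866) (tt N21174 D37101) (tt N17816 (iv D35514)) (tt N21105 (iv F171822)) (tt N21175 D37102) (tt N21144 (iv F171987)))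
theorem Q19589 : ∀ i, i < 19589 → P i := stepQ 19588 Q19588 (allL N19588 (tt N18708 F164867) (tt N21165 (iv F172079)) (tt N20785 (iv F170134)) (tt N17819 F164868) (tt N17923 F164869) (tt N21176 D37103) (tt N21175 (iv F172121)) (tt N17817 F164870) (tt N17816 (iv D35515)) (tt N21177 D37104))
theorem Q19590 : ∀ i, i < 19590 → P i := stepQ 19589 Q19589 (allL N19589 (tt N18709 F164871) (tt N21166 (iv F172083)) (tt N20786 (iv F170140)) (tt N17820 F164872) (tt N19589 F164873) (tt N17817 (iv D35516)) (tt N21178 D37105) (tt N21176 (iv F172125)) (tt N20537 (iv F168721)) (tt N21025 (iv F171469)))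
theorem Q19591 : ∀ i, i < 19591 → P i := stepQ 19590 Q19590 (allL N19590 (tt N18710 F164874) (tt N21167 (iv F172087)) (tt N20787 (iv F170145)) (tt N17821 F164875) (tt N17924 F164876) (tt N21025 (iv F171468)) (tt N21107 (iv F171831)) (tt N21177 (iv F172129)) (tt N21146 (iv F172001)) (tt N17817 (iv D35517)))
theorem Q19592 : ∀ i, i < 19592 → P i := stepQ 19591 Q19591 (allL N19591 (tt N18711 F164877) (tt N21168 (iv F172091)) (tt N17824 F164878) (tt N21174 (iv F172117)) (tt N21137 (iv F171956)) (tt N17818 (iv D35518)) (tt N20538 (iv F168727)) (tt N21108 (iv F171835)) (tt N21179 D37106) (tt N21147 (iv F172007)))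
theorem Q19593 : ∀ i, i < 19593 → P i := stepQ 19592 Q19592 (allL N19592 (tt N18712 F164879) (tt N21169 (iv F172094)) (tt N17825 F164880) (tt N21175 (iv F172119)) (tt N17822 F164881) (tt N21180 D37107) (tt N17819 F164882) (tt N21109 (iv F171840)) (tt N17818 (iv D35519)) (tt N21181 D37108))
theorem Q19594 : ∀ i, i < 19594 → P i := stepQ 19593 Q19593 (allL N19593 (tt N18713 F164883) (tt N21170 (iv F172097)) (tt N17826 F164884) (tt N21176 (iv F172123)) (tt N17841 F164885) (tt N17819 (iv D35520)) (tt N21182 D37109) (tt N17820 F164886) (tt N20540 (iv F168740)) (tt N21026 (iv F171474)))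
theorem Q19595 : ∀ i, i < 19595 → P i := stepQ 19594 Q19594 (allL N19594 (tt N18714 F164887) (tt N21171 (iv F172101)) (tt N17827 F164888) (tt N21177 (iv F172127)) (tt N17823 F164889) (tt N21026 (iv F171473)) (tt N21181 (iv F172140)) (tt N17821 F164890) (tt N21149 (iv F172019)) (tt N17819 (iv D35521)))
theorem Q19596 : ∀ i, i < 19596 → P i := stepQ 19595 Q19595 (allL N19595 (tt N18715 F164891) (tt N21172 (iv F172106)) (tt N17828 F164892) (tt N21178 (iv F172131)) (tt N17842 F164893) (tt N20693 (iv F169670)) (tt N17820 (iv D35522)) (tt N21183 D37110) (tt N20541 (iv F168746)) (tt N20966 (iv F171168)))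
theorem Q19597 : ∀ i, i < 19597 → P i := stepQ 19596 Q19596 (allL N19596 (tt N18600 F164894) (tt N20934 (iv F170976)) (tt N17829 F164895) (tt N17928 F164896) (tt N21184 D37111) (tt N17822 (iv D35523)) (tt N17843 F164897) (tt N18085 F164898) (tt N18073 F164899) (tt N21049 (iv F171566)))
theorem Q19598 : ∀ i, i < 19598 → P i := stepQ 19597 Q19597 (allL N19597 (tt N18716 F164900) (tt N21173 (iv F172112)) (tt N17830 F164901) (tt N17929 F164902) (tt N21181 (iv F172139)) (tt N21049 (iv F171564)) (tt N17823 F164903) (tt N21111 (iv F171850)) (tt N21151 (iv F172031)) (tt N17822 (iv D35524)))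
theorem Q19599 : ∀ i, i < 19599 → P i := stepQ 19598 Q19598 (allL N19598 (tt N18717 F164904) (tt N21041 (iv F171535)) (tt N21179 (iv F172134)) (tt N20796 (iv F170185)) (tt N21138 (iv F171960)) (tt N21185 D37112) (tt N20543 (iv F168757)) (tt N21112 (iv F171852)) (tt N17824 (iv D35525)) (tt N21186 D37113))
theorem Q19600 : ∀ i, i < 19600 → P i := stepQ 19599 Q19599 (allL N19599 (tt N18718 F164905) (tt N21042 (iv F171536)) (tt N21180 (iv F172136)) (tt N20797 (iv F170187)) (tt N21187 D37114) (tt N17825 (iv D35526)) (tt N21188 D37115) (tt N21113 (iv F171854)) (tt N21185 (iv F172154)) (tt N21189 D37116))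
theorem Q19601 : ∀ i, i < 19601 → P i := stepQ 19600 Q19600 (allL N19600 (tt N18719 F164906) (tt N21043 (iv F171538)) (tt N21181 (iv F172138)) (tt N20798 (iv F170189)) (tt N17830 F164907) (tt N21189 (iv F172161)) (tt N17827 F164908) (tt N21114 (iv F171858)) (tt N21154 (iv F172039)) (tt N17825 (iv D35527)))
theorem Q19602 : ∀ i, i < 19602 → P i := stepQ 19601 Q19601 (allL N19601 (tt N18720 F164909) (tt N21044 (iv F171542)) (tt N21182 (iv F172142)) (tt N20799 (iv F170193)) (tt N17845 F164910) (tt N21188 (iv F172159)) (tt N17826 (iv D35528)) (tt N21190 D37117) (tt N20546 (iv F168766)) (tt N21046 (iv F171553)))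
theorem Q19603 : ∀ i, i < 19603 → P i := stepQ 19602 Q19602 (allL N19602 (tt N18721 F164911) (tt N21045 (iv F171546)) (tt N21183 (iv F172145)) (tt N20801 (iv F170202)) (tt N17846 F164912) (tt N21117 (iv F171867)) (tt N21190 (iv F172164)) (tt N17828 (iv D35529)) (tt N20548 (iv F168774)) (tt N21096 (iv F171778)))
theorem Q19604 : ∀ i, i < 19604 → P i := stepQ 19603 Q19603 (allL N19603 (tt N18706 F164913) (tt N21046 (iv F171551)) (tt N21184 (iv F172148)) (tt N21191 D37118) (tt N17829 (iv D35530)) (tt N21187 (iv F172157)) (tt N17847 F164914) (tt N21119 (iv F171875)) (tt N21142 (iv F171977)) (tt N21044 (iv F171544)))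
theorem Q19605 : ∀ i, i < 19605 → P i := stepQ 19604 Q19604 (allL N19604 (tt N18722 F164915) (tt N20827 (iv F170334)) (tt N20740 (iv F169915)) (tt N17831 (iv D35531)) (tt N21191 (iv F172166)) (tt N20806 (iv F170222)) (tt N17848 F164916) (tt N21120 (iv F171880)) (tt N21143 (iv F171982)) (tt N20644 (iv F169370)))
theorem Q19606 : ∀ i, i < 19606 → P i := stepQ 19605 Q19605 (allL N19605 (tt N17965 F164917) (tt N17975 F164918) (tt N17962 F164919) (tt N19605 F164920) (tt N17844 F164921) (tt N20943 (iv F171038)) (tt N18783 F164922) (tt N17959 F164923) (tt N17832 (iv D35532)) (tt N17967 F164924))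
theorem Q19607 : ∀ i, i < 19607 → P i := stepQ 19606 Q19606 (allL N19606 (tt N18141 F164925) (tt N21047 (iv F171554)) (tt N18116 F164926) (tt N19606 F164927) (tt N21141 (iv F171971)) (tt N20942 (iv F171031)) (tt N17833 (iv D35533)) (tt N20994 (iv F171314)) (tt N18786 F164928) (tt N20928 (iv F170941)))
theorem Q19608 : ∀ i, i < 19608 → P i := stepQ 19607 Q19607 (allL N19607 (tt N18595 F164929) (tt N21048 (iv F171558)) (tt N18072 F164930) (tt N21192 D37119) (tt N17834 (iv D35534)) (tt N20940 (iv F171019)) (tt N21142 (iv F171975)) (tt N18046 F164931) (tt N17847 F164932) (tt N20472 (iv F168313)))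
theorem Q19609 : ∀ i, i < 19609 → P i := stepQ 19608 Q19608 (allL N19608 (tt N18723 F164933) (tt N20828 (iv F170338)) (tt N18245 F164934) (tt N17835 (iv D35535)) (tt N21192 (iv F172170)) (tt N19608 F164935) (tt N21143 (iv F171980)) (tt N18047 F164936) (tt N17848 F164937) (tt N20730 (iv F169863)))
theorem Q19610 : ∀ i, i < 19610 → P i := stepQ 19609 Q19609 (allL N19609 (tt N20938 (iv F171003)) (tt N17841 F164938) (tt N20935 (iv F170983)) (tt N19609 F164939) (tt N21170 (iv F172098)) (tt N17837 (iv D35536)) (tt N21193 D37120) (tt N17838 F164940) (tt N18787 F164941) (tt N20929 (iv F170948)))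
theorem Q19611 : ∀ i, i < 19611 → P i := stepQ 19610 Q19610 (allL N19610 (tt N18359 F164942) (tt N17842 F164943) (tt N18061 F164944) (tt N19610 F164945) (tt N21172 (iv F172108)) (tt N18048 F164946) (tt N17838 (iv D35537)) (tt N21194 D37121) (tt N18789 F164947) (tt N18056 F164948))
theorem Q19612 : ∀ i, i < 19612 → P i := stepQ 19611 Q19611 (allL N19611 (tt N17967 F164949) (tt N18212 F164950) (tt N17844 F164951) (tt N19611 F164952) (tt N17962 F164953) (tt N21016 (iv F171428)) (tt N20555 (iv F168816)) (tt N17960 F164954) (tt N17840 (iv D35538)) (tt N17965 F164955))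
theorem Q19613 : ∀ i, i < 19613 → P i := stepQ 19612 Q19612 (allL N19612 (tt N18724 F164956) (tt N21193 (iv F172173)) (tt N17845 F164957) (tt N19612 F164958) (tt N21182 (iv F172143)) (tt N21040 (iv F171533)) (tt N17841 (iv D35539)) (tt N21195 D37122) (tt N20557 (iv F168829)) (tt N21027 (iv F171479)))
theorem Q19614 : ∀ i, i < 19614 → P i := stepQ 19613 Q19613 (allL N19613 (tt N18725 F164959) (tt N21194 (iv F172177)) (tt N17846 F164960) (tt N19613 F164961) (tt N21183 (iv F172146)) (tt N18049 F164962) (tt N21195 (iv F172186)) (tt N17842 (iv D35540)) (tt N20558 (iv F168836)) (tt N20967 (iv F171175)))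
theorem Q19615 : ∀ i, i < 19615 → P i := stepQ 19614 Q19614 (allL N19614 (tt N18598 F164963) (tt N20931 (iv F170956)) (tt N17847 F164964) (tt N18179 F164965) (tt N17843 (iv D35541)) (tt N21039 (iv F171528)) (tt N21184 (iv F172150)) (tt N18050 F164966) (tt N18072 F164967) (tt N21038 F171523))
theorem Q19616 : ∀ i, i < 19616 → P i := stepQ 19615 Q19615 (allL N19615 (tt N18726 F164968) (tt N21050 (iv F171568)) (tt N21195 (iv F172184)) (tt N17849 F164969) (tt N21190 (iv F172163)) (tt N20988 (iv F171272)) (tt N17846 F164970) (tt N17845 (iv D35542)) (tt N20564 (iv F168866)) (tt N20987 F171268))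
theorem Q19617 : ∀ i, i < 19617 → P i := stepQ 19616 Q19616 (allL N19616 (tt N18705 F164971) (tt N20800 (iv F170196)) (tt N20738 (iv F169903)) (tt N17847 (iv D35543)) (tt N17848 F164972) (tt N20635 (iv F169314)) (tt N21191 (iv F172167)) (tt N18051 F164973) (tt N21192 (iv F172172)) (tt N20634 F169309))
theorem Q19618 : ∀ i, i < 19618 → P i := stepQ 19617 Q19617 (allL N19617 (tt N18727 F164974) (tt N19617 F164975) (tt N20481 (iv F168369)) (tt N18267 F164976) (tt N18104 F164977) (tt N17852 (iv D35544)) (tt N18106 F164978) (tt N17894 F164979) (tt N18264 F164980) (tt N20870 (iv F170600)))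
theorem Q19619 : ∀ i, i < 19619 → P i := stepQ 19618 Q19618 (allL N19618 (tt N18728 F164981) (tt N18478 F164982) (tt N20845 (iv F170438)) (tt N17855 F164983) (tt N21078 (iv F171686)) (tt N19618 F164984) (tt N21196 D37123) (tt N17854 (iv D35545)) (tt N21197 D37124) (tt N17872 F164985))
theorem Q19620 : ∀ i, i < 19620 → P i := stepQ 19619 Q19619 (allL N19619 (tt N18317 F164986) (tt N18090 F164987) (tt N18410 F164988) (tt N17856 F164989) (tt N21079 (iv F171692)) (tt N18316 (iv F164991)) (tt N17901 F164990) (tt N21197 (iv F172196)) (tt N17854 (iv D35546)) (tt N18327 F164992))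
theorem Q19621 : ∀ i, i < 19621 → P i := stepQ 19620 Q19620 (allL N19620 (tt N18729 F164993) (tt N18486 F164994) (tt N17860 F164995) (tt N21196 (iv F172189)) (tt N17857 F164996) (tt N21198 D37125) (tt N17855 (iv D35547)) (tt N17902 F164997) (tt N21199 D37126) (tt N17874 F164998))
theorem Q19622 : ∀ i, i < 19622 → P i := stepQ 19621 Q19621 (allL N19621 (tt N18488 F164999) (tt N18094 F165000) (tt N17861 F165001) (tt N21197 (iv F172195)) (tt N17858 F165002) (tt N18487 (iv F165004)) (tt N21199 (iv F172210)) (tt N17856 F165003) (tt N17855 (iv D35548)) (tt N18820 (iv F165005)))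
theorem Q19623 : ∀ i, i < 19623 → P i := stepQ 19622 Q19622 (allL N19622 (tt N18730 F165006) (tt N18232 F165007) (tt N17862 F165008) (tt N21084 (iv F171721)) (tt N21199 (iv F172209)) (tt N21200 D37127) (tt N17858 F165009) (tt N17905 F165010) (tt N17857 (iv D35549)) (tt N21201 D37128))
theorem Q19624 : ∀ i, i < 19624 → P i := stepQ 19623 Q19623 (allL N19623 (tt N18731 F165011) (tt N18234 F165012) (tt N17863 F165013) (tt N21085 (iv F171727)) (tt N18820 F165014) (tt N19623 F165015) (tt N21201 (iv F172224)) (tt N17859 F165016) (tt N17878 F165017) (tt N17858 (iv D35550)))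
theorem Q19625 : ∀ i, i < 19625 → P i := stepQ 19624 Q19624 (allL N19624 (tt N18732 F165018) (tt N19624 F165019) (tt N21198 (iv F172201)) (tt N20848 (iv F170457)) (tt N18248 F165020) (tt N17860 (iv D35551)) (tt N19624 F165021) (tt N17907 F165022) (tt N20907 (iv F170806)) (tt N17879 F165023))
theorem Q19626 : ∀ i, i < 19626 → P i := stepQ 19625 Q19625 (allL N19625 (tt N18733 F165024) (tt N19625 F165025) (tt N21199 (iv F172208)) (tt N18851 F165026) (tt N17862 F165027) (tt N18840 (iv F165030)) (tt N17861 F165028) (tt N17908 F165029) (tt N17860 (iv D35552)) (tt N18832 F165031))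
theorem Q19627 : ∀ i, i < 19627 → P i := stepQ 19626 Q19626 (allL N19626 (tt N18734 F165032) (tt N19626 F165033) (tt N21200 (iv F172216)) (tt N17864 F165034) (tt N20887 (iv F170699)) (tt N17862 (iv D35553)) (tt N19626 F165035) (tt N17910 F165036) (tt N18249 F165037) (tt N20886 F170695))
theorem Q19628 : ∀ i, i < 19628 → P i := stepQ 19627 Q19627 (allL N19627 (tt N18735 F165038) (tt N19627 F165039) (tt N21201 (iv F172222)) (tt N17865 F165040) (tt N18832 F165041) (tt N20886 (iv F170691)) (tt N17863 F165042) (tt N17911 F165043) (tt N17882 F165044) (tt N17862 (iv D35554)))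
theorem Q19629 : ∀ i, i < 19629 → P i := stepQ 19628 Q19628 (allL N19628 (tt N18736 F165045) (tt N19628 F165046) (tt N21094 (iv F171764)) (tt N20888 (iv F170706)) (tt N17864 (iv D35555)) (tt N17930 F165047) (tt N19628 F165048) (tt N17912 F165049) (tt N17931 F165050) (tt N20866 (iv F170568)))
theorem Q19630 : ∀ i, i < 19630 → P i := stepQ 19629 Q19629 (allL N19629 (tt N18737 F165051) (tt N19629 F165052) (tt N21095 (iv F171770)) (tt N20886 (iv F170690)) (tt N20866 (iv F170564)) (tt N17865 F165053) (tt N19629 F165054) (tt N17913 F165055) (tt N20838 (iv F170393)) (tt N17864 (iv D35556)))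
theorem Q19631 : ∀ i, i < 19631 → P i := stepQ 19630 Q19630 (allL N19630 (tt N20820 (iv F170302)) (tt N20854 (iv F170499)) (tt N17866 (iv D35557)) (tt N19630 F165056) (tt N21097 (iv F171779)) (tt N19630 F165057) (tt N17914 F165058) (tt N21202 D37129) (tt N21203 D37130) (tt N18472 F165059))
theorem Q19632 : ∀ i, i < 19632 → P i := stepQ 19631 Q19631 (allL N19631 (tt N20829 (iv F170342)) (tt N17872 F165060) (tt N21202 (iv F172227)) (tt N17867 F165061) (tt N21098 (iv F171784)) (tt N19631 F165062) (tt N21204 D37131) (tt N17866 (iv D35558)) (tt N21205 D37132) (tt N18478 F165063))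
theorem Q19633 : ∀ i, i < 19633 → P i := stepQ 19632 Q19632 (allL N19632 (tt N18099 F165064) (tt N17873 F165065) (tt N21203 (iv F172233)) (tt N17868 F165066) (tt N21099 (iv F171789)) (tt N18107 (iv F165068)) (tt N17916 F165067) (tt N21205 (iv F172245)) (tt N17866 (iv D35559)) (tt N21206 D37133))
theorem Q19634 : ∀ i, i < 19634 → P i := stepQ 19633 Q19633 (allL N19633 (tt N20836 (iv F170374)) (tt N17874 F165069) (tt N19633 F165070) (tt N21204 (iv F172239)) (tt N17869 F165071) (tt N21207 D37134) (tt N17867 (iv D35560)) (tt N17917 F165072) (tt N21208 D37135) (tt N18486 F165073))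
theorem Q19635 : ∀ i, i < 19635 → P i := stepQ 19634 Q19634 (allL N19634 (tt N18100 F165074) (tt N17875 F165075) (tt N19634 F165076) (tt N21205 (iv F172244)) (tt N17870 F165077) (tt N18071 (iv F165079)) (tt N21208 (iv F172264)) (tt N17868 F165078) (tt N17867 (iv D35561)) (tt N21209 D37136))
theorem Q19636 : ∀ i, i < 19636 → P i := stepQ 19635 Q19635 (allL N19635 (tt N17886 F165080) (tt N17876 F165081) (tt N19635 F165082) (tt N21206 (iv F172250)) (tt N17871 F165083) (tt N17935 F165084) (tt N17919 F165085) (tt N21209 (iv F172272)) (tt N18095 F165086) (tt N17868 (iv D35562)))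
theorem Q19637 : ∀ i, i < 19637 → P i := stepQ 19636 Q19636 (allL N19636 (tt N18101 F165087) (tt N17877 F165088) (tt N19636 F165089) (tt N21103 (iv F171809)) (tt N21208 (iv F172263)) (tt N18062 F165090) (tt N17870 F165091) (tt N17920 F165092) (tt N17869 (iv D35563)) (tt N21210 D37137))
theorem Q19638 : ∀ i, i < 19638 → P i := stepQ 19637 Q19637 (allL N19637 (tt N17887 F165093) (tt N17878 F165094) (tt N19637 F165095) (tt N21104 (iv F171815)) (tt N21209 (iv F172270)) (tt N17885 F165096) (tt N21210 (iv F172278)) (tt N17871 F165097) (tt N18234 F165098) (tt N17870 (iv D35564)))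
theorem Q19639 : ∀ i, i < 19639 → P i := stepQ 19638 Q19638 (allL N19638 (tt N18739 F165099) (tt N21204 (iv F172238)) (tt N20860 (iv F170531)) (tt N17874 F165100) (tt N21105 (iv F171821)) (tt N21211 D37138) (tt N17872 (iv D35565)) (tt N17922 F165101) (tt N21212 D37139) (tt N21196 (iv F172191)))
theorem Q19640 : ∀ i, i < 19640 → P i := stepQ 19639 Q19639 (allL N19639 (tt N18740 F165102) (tt N21205 (iv F172243)) (tt N20861 (iv F170535)) (tt N17875 F165103) (tt N21106 (iv F171825)) (tt N18096 (iv F165105)) (tt N21212 (iv F172287)) (tt N17873 F165104) (tt N17872 (iv D35566)) (tt N21213 D37140))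
theorem Q19641 : ∀ i, i < 19641 → P i := stepQ 19640 Q19640 (allL N19640 (tt N18331 F165106) (tt N21206 (iv F172248)) (tt N18431 F165107) (tt N17876 F165108) (tt N21107 (iv F171830)) (tt N18351 F165109) (tt N17924 F165110) (tt N21213 (iv F172294)) (tt N18327 F165111) (tt N17873 (iv D35567)))
theorem Q19642 : ∀ i, i < 19642 → P i := stepQ 19641 Q19641 (allL N19641 (tt N18741 F165112) (tt N21207 (iv F172254)) (tt N17879 F165113) (tt N21211 (iv F172282)) (tt N20734 (iv F169885)) (tt N17874 (iv D35568)) (tt N19641 F165114) (tt N17925 F165115) (tt N20768 (iv F170058)) (tt N21198 (iv F172205)))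
theorem Q19643 : ∀ i, i < 19643 → P i := stepQ 19642 Q19642 (allL N19642 (tt N18742 F165116) (tt N21208 (iv F172261)) (tt N17880 F165117) (tt N21212 (iv F172286)) (tt N17877 F165118) (tt N18207 (iv F165121)) (tt N17875 F165119) (tt N17926 F165120) (tt N17874 (iv D35569)) (tt N21214 D37141))
theorem Q19644 : ∀ i, i < 19644 → P i := stepQ 19643 Q19643 (allL N19643 (tt N18743 F165122) (tt N21209 (iv F172268)) (tt N17881 F165123) (tt N21213 (iv F172292)) (tt N17878 F165124) (tt N18097 F165125) (tt N21214 (iv F172300)) (tt N17876 F165126) (tt N18820 F165127) (tt N17875 (iv D35570)))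
theorem Q19645 : ∀ i, i < 19645 → P i := stepQ 19644 Q19644 (allL N19644 (tt N18744 F165128) (tt N21210 (iv F172275)) (tt N17882 F165129) (tt N21111 (iv F171847)) (tt N21214 (iv F172298)) (tt N18087 F165130) (tt N17878 F165131) (tt N17929 F165132) (tt N21201 (iv F172226)) (tt N17877 (iv D35571)))
theorem Q19646 : ∀ i, i < 19646 → P i := stepQ 19645 Q19645 (allL N19645 (tt N18745 F165133) (tt N19645 F165134) (tt N21214 (iv F172297)) (tt N18855 F165135) (tt N17882 F165136) (tt N18266 F165137) (tt N17881 F165138) (tt N17932 F165139) (tt N18832 F165140) (tt N17880 (iv D35572)))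
theorem Q19647 : ∀ i, i < 19647 → P i := stepQ 19646 Q19646 (allL N19646 (tt N21206 (iv F172247)) (tt N17888 F165141) (tt N18345 (iv F165145)) (tt N17886 (iv D35573)) (tt N21121 (iv F171884)) (tt N17938 F165142) (tt N20462 (iv F168242)) (tt N21215 D37142) (tt N18284 F165143) (tt N18099 F165144))
theorem Q19648 : ∀ i, i < 19648 → P i := stepQ 19647 Q19647 (allL N19647 (tt N21209 (iv F172267)) (tt N17889 F165146) (tt N19647 F165147) (tt N21215 (iv F172305)) (tt N17887 F165148) (tt N17939 F165149) (tt N21216 D37143) (tt N17886 (iv D35574)) (tt N18810 F165150) (tt N18100 F165151))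
theorem Q19649 : ∀ i, i < 19649 → P i := stepQ 19648 Q19648 (allL N19648 (tt N21210 (iv F172274)) (tt N17890 F165152) (tt N19648 F165153) (tt N21123 (iv F171893)) (tt N21216 (iv F172311)) (tt N20869 (iv F170589)) (tt N17887 (iv D35575)) (tt N20579 (iv F168951)) (tt N20578 (iv F168945)) (tt N18101 F165154))
theorem Q19650 : ∀ i, i < 19650 → P i := stepQ 19649 Q19649 (allL N19649 (tt N18336 F165155) (tt N21215 (iv F172303)) (tt N17896 F165156) (tt N17889 F165157) (tt N21124 (iv F171898)) (tt N17942 F165158) (tt N21217 D37144) (tt N17888 (iv D35576)) (tt N18287 F165159) (tt N18102 F165160))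
theorem Q19651 : ∀ i, i < 19651 → P i := stepQ 19650 Q19650 (allL N19650 (tt N18746 F165161) (tt N21216 (iv F172309)) (tt N17892 F165162) (tt N21217 (iv F172316)) (tt N17890 F165163) (tt N21218 D37145) (tt N17889 (iv D35577)) (tt N20872 (iv F170613)) (tt N18811 F165164) (tt N18103 F165165))
theorem Q19652 : ∀ i, i < 19652 → P i := stepQ 19651 Q19651 (allL N19651 (tt N18747 F165166) (tt N20578 (iv F168940)) (tt N17893 F165167) (tt N21127 (iv F171913)) (tt N18811 F165168) (tt N21219 D37146) (tt N17891 F165169) (tt N20506 (iv F168528)) (tt N17890 (iv D35578)) (tt N20505 F168521))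
theorem Q19653 : ∀ i, i < 19653 → P i := stepQ 19652 Q19652 (allL N19652 (tt N18748 F165170) (tt N19652 F165171) (tt N21218 (iv F172320)) (tt N17898 F165172) (tt N20870 (iv F170596)) (tt N17892 (iv D35579)) (tt N17945 F165173) (tt N20873 (iv F170620)) (tt N20849 (iv F170469)) (tt N18104 F165174))
theorem Q19654 : ∀ i, i < 19654 → P i := stepQ 19653 Q19653 (allL N19653 (tt N18749 F165175) (tt N19653 F165176) (tt N21219 (iv F172324)) (tt N17894 F165177) (tt N20848 (iv F170458)) (tt N17893 (iv D35580)) (tt N19653 F165178) (tt N18267 F165179) (tt N18250 F165180) (tt N20838 (iv F170394)))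
theorem Q19655 : ∀ i, i < 19655 → P i := stepQ 19654 Q19654 (allL N19654 (tt N18750 F165181) (tt N19654 F165182) (tt N21134 (iv F171941)) (tt N18248 (iv F165186)) (tt N17894 (iv D35581)) (tt N17899 F165183) (tt N19654 F165184) (tt N18104 F165185) (tt N20871 (iv F170606)) (tt N20873 (iv F170622)))
theorem Q19656 : ∀ i, i < 19656 → P i := stepQ 19655 Q19655 (allL N19655 (tt N18751 F165187) (tt N19655 F165188) (tt N21135 (iv F171946)) (tt N20838 (iv F170389)) (tt N20873 (iv F170618)) (tt N17895 F165189) (tt N19655 F165190) (tt N20870 (iv F170598)) (tt N20886 (iv F170694)) (tt N17894 (iv D35582)))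
theorem Q19657 : ∀ i, i < 19657 → P i := stepQ 19656 Q19656 (allL N19656 (tt N18339 F165191) (tt N20608 (iv F169151)) (tt N21217 (iv F172315)) (tt N17897 F165192) (tt N21136 (iv F171951)) (tt N21220 D37147) (tt N17896 (iv D35583)) (tt N20733 (iv F169880)) (tt N18289 F165193) (tt N18255 F165194))
theorem Q19658 : ∀ i, i < 19658 → P i := stepQ 19657 Q19657 (allL N19657 (tt N18340 F165195) (tt N20609 (iv F169158)) (tt N17898 F165196) (tt N21220 (iv F172329)) (tt N17925 F165197) (tt N17897 (iv D35584)) (tt N17948 F165198) (tt N20734 (iv F169887)) (tt N20691 (iv F169658)) (tt N18257 F165199))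
theorem Q19659 : ∀ i, i < 19659 → P i := stepQ 19658 Q19658 (allL N19658 (tt N18752 F165200) (tt N18477 F165201) (tt N20880 (iv F170657)) (tt N17902 F165202) (tt N21144 (iv F171986)) (tt N21221 D37148) (tt N17900 (iv D35585)) (tt N21196 (iv F172190)) (tt N21222 D37149) (tt N17922 F165203))
theorem Q19660 : ∀ i, i < 19660 → P i := stepQ 19659 Q19659 (allL N19659 (tt N18396 F165204) (tt N18088 F165205) (tt N20881 (iv F170661)) (tt N17903 F165206) (tt N21145 (iv F171991)) (tt N18067 F165207) (tt N21222 (iv F172340)) (tt N17901 F165208) (tt N17900 (iv D35586)) (tt N21223 D37150))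
theorem Q19661 : ∀ i, i < 19661 → P i := stepQ 19660 Q19660 (allL N19660 (tt N18294 F165209) (tt N18091 F165210) (tt N18369 F165211) (tt N17904 F165212) (tt N21146 (iv F171998)) (tt N18068 F165213) (tt N18327 F165214) (tt N21223 (iv F172347)) (tt N17924 F165215) (tt N17901 (iv D35587)))
theorem Q19662 : ∀ i, i < 19662 → P i := stepQ 19661 Q19661 (allL N19661 (tt N18753 F165216) (tt N18485 F165217) (tt N17907 F165218) (tt N21221 (iv F172334)) (tt N18257 F165219) (tt N17902 (iv D35588)) (tt N17951 F165220) (tt N21198 (iv F172204)) (tt N21224 D37151) (tt N17925 F165221))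
theorem Q19663 : ∀ i, i < 19663 → P i := stepQ 19662 Q19662 (allL N19662 (tt N18530 F165222) (tt N18092 F165223) (tt N17908 F165224) (tt N21222 (iv F172339)) (tt N17905 F165225) (tt N18551 (iv F165227)) (tt N17903 F165226) (tt N21199 (iv F172211)) (tt N17902 (iv D35589)) (tt N21225 D37152))
theorem Q19664 : ∀ i, i < 19664 → P i := stepQ 19663 Q19663 (allL N19663 (tt N18523 F165228) (tt N18093 F165229) (tt N17909 F165230) (tt N21223 (iv F172345)) (tt N17906 F165231) (tt N18070 F165232) (tt N21225 (iv F172361)) (tt N17904 F165233) (tt N17927 F165234) (tt N17903 (iv D35590)))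
theorem Q19665 : ∀ i, i < 19665 → P i := stepQ 19664 Q19664 (allL N19664 (tt N18754 F165235) (tt N18230 F165236) (tt N17910 F165237) (tt N21150 (iv F172023)) (tt N21226 D37153) (tt N17905 (iv D35591)) (tt N17984 F165238) (tt N21200 (iv F172218)) (tt N18259 F165239) (tt N21227 D37154))
theorem Q19666 : ∀ i, i < 19666 → P i := stepQ 19665 Q19665 (allL N19665 (tt N18755 F165240) (tt N18233 F165241) (tt N17911 F165242) (tt N21151 (iv F172029)) (tt N21225 (iv F172359)) (tt N21227 (iv F172373)) (tt N17906 F165243) (tt N21201 (iv F172225)) (tt N17929 F165244) (tt N17905 (iv D35592)))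
theorem Q19667 : ∀ i, i < 19667 → P i := stepQ 19666 Q19666 (allL N19666 (tt N18756 F165245) (tt N19666 F165246) (tt N21224 (iv F172351)) (tt N18266 F165247) (tt N18261 F165248) (tt N18855 F165249) (tt N17952 F165250) (tt N20907 (iv F170805)) (tt N17907 (iv D35593)) (tt N18265 (iv F165251)))
theorem Q19668 : ∀ i, i < 19668 → P i := stepQ 19667 Q19667 (allL N19667 (tt N18757 F165252) (tt N19667 F165253) (tt N21225 (iv F172358)) (tt N18840 F165254) (tt N17911 F165255) (tt N18851 F165256) (tt N17909 F165257) (tt N18832 F165258) (tt N17932 F165259) (tt N17908 (iv D35594)))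
theorem Q19669 : ∀ i, i < 19669 → P i := stepQ 19668 Q19668 (allL N19668 (tt N18758 F165260) (tt N19668 F165261) (tt N21226 (iv F172366)) (tt N20850 (iv F170473)) (tt N17910 (iv D35595)) (tt N18854 F165262) (tt N17987 F165263) (tt N20887 (iv F170702)) (tt N18263 F165264) (tt N20849 (iv F170470)))
theorem Q19670 : ∀ i, i < 19670 → P i := stepQ 19669 Q19669 (allL N19669 (tt N18759 F165265) (tt N19669 F165266) (tt N21227 (iv F172372)) (tt N17913 F165267) (tt N20849 (iv F170466)) (tt N17911 F165268) (tt N17988 F165269) (tt N20886 (iv F170693)) (tt N20870 (iv F170599)) (tt N17910 (iv D35596)))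
theorem Q19671 : ∀ i, i < 19671 → P i := stepQ 19670 Q19670 (allL N19670 (tt N18760 F165270) (tt N19670 F165271) (tt N21228 D37155) (tt N17912 (iv D35597)) (tt N20850 (iv F170474)) (tt N20866 (iv F170565)) (tt N17958 F165272) (tt N20888 (iv F170710)) (tt N18265 F165273) (tt N17930 F165274))
theorem Q19672 : ∀ i, i < 19672 → P i := stepQ 19671 Q19671 (allL N19671 (tt N20818 (iv F170290)) (tt N20894 (iv F170741)) (tt N17915 F165275) (tt N19671 F165276) (tt N21162 (iv F172070)) (tt N17953 F165277) (tt N21229 D37156) (tt N17914 (iv D35598)) (tt N21230 D37157) (tt N18471 F165278))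
theorem Q19673 : ∀ i, i < 19673 → P i := stepQ 19672 Q19672 (allL N19672 (tt N20821 (iv F170309)) (tt N20895 (iv F170747)) (tt N17916 F165279) (tt N19672 F165280) (tt N21163 (iv F172074)) (tt N19672 F165281) (tt N21203 (iv F172235)) (tt N21230 (iv F172385)) (tt N17914 (iv D35599)) (tt N21231 D37158))
theorem Q19674 : ∀ i, i < 19674 → P i := stepQ 19673 Q19673 (allL N19673 (tt N20827 (iv F170333)) (tt N17922 F165282) (tt N21229 (iv F172379)) (tt N17917 F165283) (tt N21164 (iv F172077)) (tt N21232 D37159) (tt N17915 (iv D35600)) (tt N21204 (iv F172240)) (tt N21233 D37160) (tt N18477 F165284))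
theorem Q19675 : ∀ i, i < 19675 → P i := stepQ 19674 Q19674 (allL N19674 (tt N20828 (iv F170337)) (tt N17923 F165285) (tt N21230 (iv F172382)) (tt N17918 F165286) (tt N21165 (iv F172081)) (tt N19674 F165287) (tt N21233 (iv F172399)) (tt N17916 F165288) (tt N17915 (iv D35601)) (tt N21234 D37161))
theorem Q19676 : ∀ i, i < 19676 → P i := stepQ 19675 Q19675 (allL N19675 (tt N20462 (iv F168237)) (tt N17924 F165289) (tt N21231 (iv F172388)) (tt N17919 F165290) (tt N21167 (iv F172089)) (tt N19675 F165291) (tt N21206 (iv F172252)) (tt N21234 (iv F172403)) (tt N18091 F165292) (tt N17916 (iv D35602)))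
theorem Q19677 : ∀ i, i < 19677 → P i := stepQ 19676 Q19676 (allL N19676 (tt N20639 (iv F169331)) (tt N17925 F165293) (tt N19676 F165294) (tt N21232 (iv F172394)) (tt N20609 (iv F169160)) (tt N17917 (iv D35603)) (tt N17955 F165295) (tt N21207 (iv F172258)) (tt N21073 (iv F171663)) (tt N18485 F165296))
theorem Q19678 : ∀ i, i < 19678 → P i := stepQ 19677 Q19677 (allL N19677 (tt N20837 (iv F170381)) (tt N17926 F165297) (tt N19677 F165298) (tt N21233 (iv F172398)) (tt N17920 F165299) (tt N21235 D37162) (tt N17918 F165300) (tt N21208 (iv F172265)) (tt N17917 (iv D35604)) (tt N21236 D37163))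
theorem Q19679 : ∀ i, i < 19679 → P i := stepQ 19678 Q19678 (allL N19678 (tt N20465 (iv F168259)) (tt N17927 F165301) (tt N19678 F165302) (tt N21234 (iv F172401)) (tt N17921 F165303) (tt N19678 F165304) (tt N21236 (iv F172413)) (tt N17919 F165305) (tt N18093 F165306) (tt N17918 (iv D35605)))
theorem Q19680 : ∀ i, i < 19680 → P i := stepQ 19679 Q19679 (allL N19679 (tt N20579 (iv F168946)) (tt N17929 F165307) (tt N19679 F165308) (tt N21173 (iv F172113)) (tt N21236 (iv F172412)) (tt N20936 (iv F170992)) (tt N17921 F165309) (tt N21210 (iv F172279)) (tt N18233 F165310) (tt N17920 (iv D35606)))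
theorem Q19681 : ∀ i, i < 19681 → P i := stepQ 19680 Q19680 (allL N19680 (tt N18761 F165311) (tt N21232 (iv F172393)) (tt N20900 (iv F170767)) (tt N17925 F165312) (tt N21237 D37164) (tt N17922 (iv D35607)) (tt N17956 F165313) (tt N21211 (iv F172284)) (tt N21238 D37165) (tt N21221 (iv F172336)))
theorem Q19682 : ∀ i, i < 19682 → P i := stepQ 19681 Q19681 (allL N19681 (tt N18762 F165314) (tt N21233 (iv F172397)) (tt N20901 (iv F170771)) (tt N17926 F165315) (tt N21175 (iv F172120)) (tt N21239 D37166) (tt N17923 F165316) (tt N21212 (iv F172288)) (tt N17922 (iv D35608)) (tt N21240 D37167))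
theorem Q19683 : ∀ i, i < 19683 → P i := stepQ 19682 Q19682 (allL N19682 (tt N18763 F165317) (tt N21234 (iv F172400)) (tt N20902 (iv F170775)) (tt N17927 F165318) (tt N21177 (iv F172128)) (tt N19682 F165319) (tt N21240 (iv F172426)) (tt N17924 F165320) (tt N21223 (iv F172348)) (tt N17923 (iv D35609)))
theorem Q19684 : ∀ i, i < 19684 → P i := stepQ 19683 Q19683 (allL N19683 (tt N18764 F165321) (tt N21073 (iv F171660)) (tt N17930 F165322) (tt N21238 (iv F172418)) (tt N20691 F169659) (tt N21094 (iv F171765)) (tt N17957 F165323) (tt N20768 (iv F170057)) (tt N17925 (iv D35610)) (tt N21228 (iv F172378)))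
theorem Q19685 : ∀ i, i < 19685 → P i := stepQ 19684 Q19684 (allL N19684 (tt N18765 F165324) (tt N21235 (iv F172405)) (tt N17931 F165325) (tt N21239 (iv F172421)) (tt N18184 F165326) (tt N17926 (iv D35611)) (tt N19684 F165327) (tt N18207 F165328) (tt N21094 (iv F171768)) (tt N21241 D37168))
theorem Q19686 : ∀ i, i < 19686 → P i := stepQ 19685 Q19685 (allL N19685 (tt N18766 F165329) (tt N21236 (iv F172410)) (tt N17932 F165330) (tt N21240 (iv F172425)) (tt N17929 F165331) (tt N21241 (iv F172430)) (tt N17927 F165332) (tt N21214 (iv F172301)) (tt N21225 (iv F172363)) (tt N17926 (iv D35612)))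
theorem Q19687 : ∀ i, i < 19687 → P i := stepQ 19686 Q19686 (allL N19686 (tt N18602 F165333) (tt N20936 (iv F170989)) (tt N17933 F165334) (tt N21049 (iv F171563)) (tt N18185 F165335) (tt N17929 F165336) (tt N17934 F165337) (tt N18087 F165338) (tt N20482 (iv F168380)) (tt N17928 (iv D35613)))
theorem Q19688 : ∀ i, i < 19688 → P i := stepQ 19687 Q19687 (allL N19687 (tt N18767 F165339) (tt N19687 F165340) (tt N21241 (iv F172428)) (tt N20907 (iv F170801)) (tt N18250 F165341) (tt N17932 F165342) (tt N19687 F165343) (tt N18266 F165344) (tt N20848 (iv F170461)) (tt N17931 (iv D35614)))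
theorem Q19689 : ∀ i, i < 19689 → P i := stepQ 19688 Q19688 (allL N19688 (tt N17938 F165345) (tt N18351 F165346) (tt N17999 (iv F165351)) (tt N17935 (iv D35615)) (tt N17997 F165347) (tt N21206 (iv F172251)) (tt N19688 F165348) (tt N21242 D37169) (tt N17995 F165349) (tt N18107 F165350))
theorem Q19690 : ∀ i, i < 19690 → P i := stepQ 19689 Q19689 (allL N19689 (tt N17939 F165352) (tt N18097 F165353) (tt N19689 F165354) (tt N21242 (iv F172436)) (tt N17936 F165355) (tt N21209 (iv F172271)) (tt N18156 (iv F165358)) (tt N17935 (iv D35616)) (tt N18818 F165356) (tt N18071 F165357))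
theorem Q19691 : ∀ i, i < 19691 → P i := stepQ 19690 Q19690 (allL N19690 (tt N17941 F165359) (tt N18098 F165360) (tt N19690 F165361) (tt N18575 F165362) (tt N18818 F165363) (tt N19690 F165364) (tt N18157 F165365) (tt N17937 F165366) (tt N17936 (iv D35617)) (tt N19690 F165367))
theorem Q19692 : ∀ i, i < 19692 → P i := stepQ 19691 Q19691 (allL N19691 (tt N21242 (iv F172433)) (tt N17942 F165368) (tt N18344 F165369) (tt N17939 F165370) (tt N18342 F165371) (tt N21215 (iv F172306)) (tt N21243 D37170) (tt N17938 (iv D35618)) (tt N18290 F165372) (tt N18109 F165373))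
theorem Q19693 : ∀ i, i < 19693 → P i := stepQ 19692 Q19692 (allL N19692 (tt N18156 F165374) (tt N17943 F165375) (tt N19692 F165376) (tt N21243 (iv F172444)) (tt N17940 F165377) (tt N21244 D37171) (tt N17939 (iv D35619)) (tt N19692 F165378) (tt N18819 F165379) (tt N18110 F165380))
theorem Q19694 : ∀ i, i < 19694 → P i := stepQ 19693 Q19693 (allL N19693 (tt N18157 F165381) (tt N17944 F165382) (tt N19693 F165383) (tt N18577 F165384) (tt N18819 F165385) (tt N18280 F165386) (tt N17941 F165387) (tt N19693 F165388) (tt N17940 (iv D35620)) (tt N19693 F165389))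
theorem Q19695 : ∀ i, i < 19695 → P i := stepQ 19694 Q19694 (allL N19694 (tt N18356 F165390) (tt N21243 (iv F172442)) (tt N17947 F165391) (tt N17943 F165392) (tt N18578 F165393) (tt N21245 D37172) (tt N17942 (iv D35621)) (tt N19694 F165394) (tt N18292 F165395) (tt N18111 F165396))
theorem Q19696 : ∀ i, i < 19696 → P i := stepQ 19695 Q19695 (allL N19695 (tt N18768 F165397) (tt N21244 (iv F172450)) (tt N17945 F165398) (tt N21245 (iv F172458)) (tt N20485 (iv F168398)) (tt N17943 (iv D35622)) (tt N21218 (iv F172321)) (tt N19695 F165399) (tt N21246 D37173) (tt N18112 F165400))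
theorem Q19697 : ∀ i, i < 19697 → P i := stepQ 19696 Q19696 (allL N19696 (tt N18769 F165401) (tt N19696 F165402) (tt N21246 (iv F172463)) (tt N17949 F165403) (tt N17988 F165404) (tt N18816 F165405) (tt N20849 (iv F170467)) (tt N19696 F165406) (tt N17945 (iv D35623)) (tt N17987 F165407))
theorem Q19698 : ∀ i, i < 19698 → P i := stepQ 19697 Q19697 (allL N19697 (tt N18770 F165408) (tt N19697 F165409) (tt N18281 F165410) (tt N19697 F165411) (tt N17946 (iv D35624)) (tt N18815 F165412) (tt N19697 F165413) (tt N19697 F165414) (tt N17989 F165415) (tt N19697 F165416))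
theorem Q19699 : ∀ i, i < 19699 → P i := stepQ 19698 Q19698 (allL N19698 (tt N18358 F165417) (tt N20610 (iv F169166)) (tt N21245 (iv F172457)) (tt N17948 F165418) (tt N21247 D37174) (tt N17947 (iv D35625)) (tt N21220 (iv F172330)) (tt N19698 F165419) (tt N21248 D37175) (tt N18277 F165420))
theorem Q19700 : ∀ i, i < 19700 → P i := stepQ 19699 Q19699 (allL N19699 (tt N18348 F165421) (tt N18031 F165422) (tt N17949 F165423) (tt N21248 (iv F172475)) (tt N17957 F165424) (tt N18003 F165425) (tt N20691 (iv F169656)) (tt N19699 F165426) (tt N17948 (iv D35626)) (tt N21249 D37176))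
theorem Q19701 : ∀ i, i < 19701 → P i := stepQ 19700 Q19700 (allL N19700 (tt N18771 F165427) (tt N19700 F165428) (tt N21249 (iv F172480)) (tt N17987 F165429) (tt N17958 F165430) (tt N18817 F165431) (tt N20850 (iv F170476)) (tt N19700 F165432) (tt N18270 F165433) (tt N17949 (iv D35627)))
theorem Q19702 : ∀ i, i < 19702 → P i := stepQ 19701 Q19701 (allL N19701 (tt N18772 F165434) (tt N18476 F165435) (tt N20909 (iv F170816)) (tt N17951 F165436) (tt N21250 D37177) (tt N17950 (iv D35628)) (tt N21221 (iv F172335)) (tt N19701 F165437) (tt N21251 D37178) (tt N17956 F165438))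
theorem Q19703 : ∀ i, i < 19703 → P i := stepQ 19702 Q19702 (allL N19702 (tt N18569 F165439) (tt N18484 F165440) (tt N17952 F165441) (tt N21251 (iv F172494)) (tt N18278 F165442) (tt N18273 F165443) (tt N21224 (iv F172354)) (tt N19702 F165444) (tt N17951 (iv D35629)) (tt N18271 (iv F165445)))
theorem Q19704 : ∀ i, i < 19704 → P i := stepQ 19703 Q19703 (allL N19703 (tt N20652 (iv F169413)) (tt N20580 (iv F168954)) (tt N17954 F165446) (tt N19703 F165447) (tt N18474 F165448) (tt N21252 D37179) (tt N17953 (iv D35630)) (tt N19703 F165449) (tt N19703 F165450) (tt N18470 F165451))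
theorem Q19705 : ∀ i, i < 19705 → P i := stepQ 19704 Q19704 (allL N19704 (tt N20648 (iv F169386)) (tt N17956 F165452) (tt N21252 (iv F172498)) (tt N17955 F165453) (tt N21253 D37180) (tt N17954 (iv D35631)) (tt N21232 (iv F172395)) (tt N19704 F165454) (tt N21254 D37181) (tt N18476 F165455))
theorem Q19706 : ∀ i, i < 19706 → P i := stepQ 19705 Q19705 (allL N19705 (tt N18803 F165456) (tt N17957 F165457) (tt N19705 F165458) (tt N21254 (iv F172508)) (tt N18031 F165459) (tt N19705 F165460) (tt N21073 (iv F171662)) (tt N19705 F165461) (tt N17955 (iv D35632)) (tt N21255 D37182))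
theorem Q19707 : ∀ i, i < 19707 → P i := stepQ 19706 Q19706 (allL N19706 (tt N18773 F165462) (tt N21253 (iv F172502)) (tt N20911 (iv F170830)) (tt N21247 (iv F172469)) (tt N17956 (iv D35633)) (tt N20599 (iv F169091)) (tt N21237 (iv F172416)) (tt N19706 F165463) (tt N21256 D37183) (tt N21250 (iv F172490)))
theorem Q19708 : ∀ i, i < 19708 → P i := stepQ 19707 Q19707 (allL N19707 (tt N18774 F165464) (tt N21254 (iv F172507)) (tt N20912 (iv F170833)) (tt N17957 F165465) (tt N21256 (iv F172519)) (tt N19707 F165466) (tt N21238 (iv F172419)) (tt N19707 F165467) (tt N17956 (iv D35634)) (tt N21257 D37184))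
theorem Q19709 : ∀ i, i < 19709 → P i := stepQ 19708 Q19708 (allL N19708 (tt N18775 F165468) (tt N21255 (iv F172512)) (tt N17958 F165469) (tt N21257 (iv F172523)) (tt N21249 (iv F172481)) (tt N19708 F165470) (tt N21228 (iv F172376)) (tt N19708 F165471) (tt N18271 F165472) (tt N17957 (iv D35635)))
theorem Q19710 : ∀ i, i < 19710 → P i := stepQ 19709 Q19709 (allL N19709 (tt N17969 F165473) (tt N18216 F165474) (tt N18783 F165475) (tt N17963 F165476) (tt N20555 (iv F168815)) (tt N21258 D37185) (tt N17962 F165477) (tt N19709 F165478) (tt N17961 (iv D35636)) (tt N18209 F165479))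
theorem Q19711 : ∀ i, i < 19711 → P i := stepQ 19710 Q19710 (allL N19710 (tt N17970 F165480) (tt N18269 F165481) (tt N19710 F165482) (tt N21258 (iv F172530)) (tt N21259 D37186) (tt N17963 (iv D35637)) (tt N20948 (iv F171069)) (tt N19710 F165483) (tt N18123 F165484) (tt N18228 F165485))
theorem Q19712 : ∀ i, i < 19712 → P i := stepQ 19711 Q19711 (allL N19711 (tt N18783 F165486) (tt N18210 F165487) (tt N17969 F165488) (tt N19711 F165489) (tt N18209 F165490) (tt N21260 D37187) (tt N17965 F165491) (tt N19711 F165492) (tt N17964 (iv D35638)) (tt N20555 (iv F168818)))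
theorem Q19713 : ∀ i, i < 19713 → P i := stepQ 19712 Q19712 (allL N19712 (tt N20555 (iv F168811)) (tt N17973 F165493) (tt N18209 F165494) (tt N19712 F165495) (tt N17969 F165496) (tt N21261 D37188) (tt N17967 F165497) (tt N19712 F165498) (tt N17966 (iv D35639)) (tt N18783 F165499))
theorem Q19714 : ∀ i, i < 19714 → P i := stepQ 19713 Q19713 (allL N19713 (tt N21016 (iv F171424)) (tt N17974 F165500) (tt N18190 F165501) (tt N19713 F165502) (tt N21019 (iv F171440)) (tt N17967 (iv D35640)) (tt N21262 D37189) (tt N17968 F165503) (tt N18138 F165504) (tt N20943 (iv F171040)))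
theorem Q19715 : ∀ i, i < 19715 → P i := stepQ 19714 Q19714 (allL N19714 (tt N20658 (iv F169452)) (tt N17976 F165505) (tt N18172 F165506) (tt N19714 F165507) (tt N21021 (iv F171450)) (tt N19714 F165508) (tt N17968 (iv D35641)) (tt N21263 D37190) (tt N18126 F165509) (tt N18363 F165510))
theorem Q19716 : ∀ i, i < 19716 → P i := stepQ 19715 Q19715 (allL N19715 (tt N21258 (iv F172527)) (tt N17978 F165511) (tt N21260 (iv F172543)) (tt N17970 F165512) (tt N21264 D37191) (tt N17969 (iv D35642)) (tt N21022 (iv F171455)) (tt N19715 F165513) (tt N18149 F165514) (tt N20560 (iv F168849)))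
theorem Q19717 : ∀ i, i < 19717 → P i := stepQ 19716 Q19716 (allL N19716 (tt N21259 (iv F172534)) (tt N17980 F165515) (tt N19716 F165516) (tt N21265 D37192) (tt N17970 (iv D35643)) (tt N19716 F165517) (tt N21024 (iv F171464)) (tt N19716 F165518) (tt N18151 F165519) (tt N20571 (iv F168906)))
theorem Q19718 : ∀ i, i < 19718 → P i := stepQ 19717 Q19717 (allL N19717 (tt N18781 F165520) (tt N18217 F165521) (tt N17978 F165522) (tt N17984 F165523) (tt N21266 D37193) (tt N17971 (iv D35644)) (tt N21150 (iv F172024)) (tt N19717 F165524) (tt N18215 F165525) (tt N21267 D37194))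
theorem Q19719 : ∀ i, i < 19719 → P i := stepQ 19718 Q19718 (allL N19718 (tt N18782 F165526) (tt N18218 F165527) (tt N17979 F165528) (tt N17985 F165529) (tt N18150 F165530) (tt N21267 (iv F172580)) (tt N17972 F165531) (tt N19718 F165532) (tt N17982 F165533) (tt N17971 (iv D35645)))
theorem Q19720 : ∀ i, i < 19720 → P i := stepQ 19719 Q19719 (allL N19719 (tt N18784 F165534) (tt N21261 (iv F172547)) (tt N18149 F165535) (tt N19719 F165536) (tt N21268 D37195) (tt N17973 (iv D35646)) (tt N21269 D37196) (tt N19719 F165537) (tt N21260 (iv F172546)) (tt N21270 D37197))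
theorem Q19721 : ∀ i, i < 19721 → P i := stepQ 19720 Q19720 (allL N19720 (tt N18785 F165538) (tt N18783 F165539) (tt N18150 F165540) (tt N19720 F165541) (tt N17979 F165542) (tt N21270 (iv F172594)) (tt N17975 F165543) (tt N19720 F165544) (tt N17983 F165545) (tt N17973 (iv D35647)))
theorem Q19722 : ∀ i, i < 19722 → P i := stepQ 19721 Q19721 (allL N19721 (tt N18786 F165546) (tt N21262 (iv F172553)) (tt N18145 F165547) (tt N19721 F165548) (tt N21155 (iv F172042)) (tt N21269 (iv F172589)) (tt N17974 (iv D35648)) (tt N21271 D37198) (tt N18141 F165549) (tt N21272 D37199))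
theorem Q19723 : ∀ i, i < 19723 → P i := stepQ 19722 Q19722 (allL N19722 (tt N18787 F165550) (tt N20943 (iv F171035)) (tt N18146 F165551) (tt N19722 F165552) (tt N21156 (iv F172046)) (tt N17975 F165553) (tt N21272 (iv F172605)) (tt N17977 F165554) (tt N20938 (iv F171008)) (tt N17974 (iv D35649)))
theorem Q19724 : ∀ i, i < 19724 → P i := stepQ 19723 Q19723 (allL N19723 (tt N18788 F165555) (tt N21263 (iv F172557)) (tt N18133 F165556) (tt N19723 F165557) (tt N21157 (iv F172051)) (tt N19723 F165558) (tt N21271 (iv F172600)) (tt N17976 (iv D35650)) (tt N18129 F165559) (tt N21273 D37200))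
theorem Q19725 : ∀ i, i < 19725 → P i := stepQ 19724 Q19724 (allL N19724 (tt N18789 F165560) (tt N18363 F165561) (tt N18134 F165562) (tt N19724 F165563) (tt N21158 (iv F172056)) (tt N19724 F165564) (tt N17977 F165565) (tt N21273 (iv F172611)) (tt N18359 F165566) (tt N17976 (iv D35651)))
theorem Q19726 : ∀ i, i < 19726 → P i := stepQ 19725 Q19725 (allL N19725 (tt N18790 F165567) (tt N21264 (iv F172563)) (tt N21266 (iv F172572)) (tt N21274 D37201) (tt N17978 (iv D35652)) (tt N21268 (iv F172584)) (tt N21159 (iv F172060)) (tt N19725 F165568) (tt N18223 F165569) (tt N21275 D37202))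
theorem Q19727 : ∀ i, i < 19727 → P i := stepQ 19726 Q19726 (allL N19726 (tt N18791 F165570) (tt N20560 (iv F168845)) (tt N21267 (iv F172578)) (tt N17981 F165571) (tt N21275 (iv F172618)) (tt N17979 F165572) (tt N21160 (iv F172065)) (tt N19726 F165573) (tt N20499 (iv F168486)) (tt N17978 (iv D35653)))
theorem Q19728 : ∀ i, i < 19728 → P i := stepQ 19727 Q19727 (allL N19727 (tt N18792 F165574) (tt N21265 (iv F172566)) (tt N21257 (iv F172522)) (tt N17980 (iv D35654)) (tt N21274 (iv F172614)) (tt N19727 F165575) (tt N21161 (iv F172067)) (tt N19727 F165576) (tt N18225 F165577) (tt N20912 (iv F170837)))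
theorem Q19729 : ∀ i, i < 19729 → P i := stepQ 19728 Q19728 (allL N19728 (tt N18583 F165578) (tt N18229 F165579) (tt N17987 F165580) (tt N21276 D37203) (tt N17984 (iv D35655)) (tt N18153 F165581) (tt N21226 (iv F172368)) (tt N19728 F165582) (tt N18268 F165583) (tt N21246 (iv F172467)))
theorem Q19730 : ∀ i, i < 19730 → P i := stepQ 19729 Q19729 (allL N19729 (tt N18793 F165584) (tt N18231 F165585) (tt N17988 F165586) (tt N21267 (iv F172579)) (tt N21246 (iv F172464)) (tt N17985 F165587) (tt N21227 (iv F172374)) (tt N19729 F165588) (tt N20485 (iv F168401)) (tt N17984 (iv D35656)))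
theorem Q19731 : ∀ i, i < 19731 → P i := stepQ 19730 Q19730 (allL N19730 (tt N17994 F165589) (tt N18064 F165590) (tt N18013 F165591) (tt N18812 F165592) (tt N18006 F165593) (tt N18352 F165594) (tt N18009 F165595) (tt N17992 (iv D35657)) (tt N20676 (iv F169569)) (tt N19730 F165596))
theorem Q19732 : ∀ i, i < 19732 → P i := stepQ 19731 Q19731 (allL N19731 (tt N18352 F165597) (tt N17996 F165598) (tt N18020 F165599) (tt N18813 F165600) (tt N18350 F165601) (tt N17994 F165602) (tt N21277 D37204) (tt N17993 (iv D35658)) (tt N20908 (iv F170812)) (tt N19731 F165603))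
theorem Q19733 : ∀ i, i < 19733 → P i := stepQ 19732 Q19732 (allL N19732 (tt N18290 F165604) (tt N18350 F165605) (tt N17998 F165606) (tt N18818 F165607) (tt N17996 F165608) (tt N18009 F165609) (tt N21278 D37205) (tt N17995 (iv D35659)) (tt N21242 (iv F172438)) (tt N19732 F165610))
theorem Q19734 : ∀ i, i < 19734 → P i := stepQ 19733 Q19733 (allL N19733 (tt N18341 F165611) (tt N21277 (iv F172626)) (tt N18000 F165612) (tt N18814 F165613) (tt N21278 (iv F172638)) (tt N18292 F165614) (tt N17996 (iv D35660)) (tt N19733 F165615) (tt N21279 D37206) (tt N19733 F165616))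
theorem Q19735 : ∀ i, i < 19735 → P i := stepQ 19734 Q19734 (allL N19734 (tt N18342 F165617) (tt N20908 (iv F170808)) (tt N18001 F165618) (tt N18574 F165619) (tt N21242 (iv F172437)) (tt N20684 (iv F169615)) (tt N21279 (iv F172648)) (tt N17997 F165620) (tt N17996 (iv D35661)) (tt N18581 (iv F165621)))
theorem Q19736 : ∀ i, i < 19736 → P i := stepQ 19735 Q19735 (allL N19735 (tt N18343 F165622) (tt N18025 F165623) (tt N21278 (iv F172636)) (tt N19735 F165624) (tt N18000 F165625) (tt N18465 F165626) (tt N17998 (iv D35662)) (tt N19735 F165627) (tt N21280 D37207) (tt N19735 F165628))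
theorem Q19737 : ∀ i, i < 19737 → P i := stepQ 19736 Q19736 (allL N19736 (tt N18344 F165629) (tt N18026 F165630) (tt N21242 (iv F172435)) (tt N19736 F165631) (tt N18001 F165632) (tt N21281 D37208) (tt N21280 (iv F172656)) (tt N17999 F165633) (tt N17998 (iv D35663)) (tt N21282 D37209))
theorem Q19738 : ∀ i, i < 19738 → P i := stepQ 19737 Q19737 (allL N19737 (tt N18345 F165634) (tt N18027 F165635) (tt N21206 (iv F172249)) (tt N19737 F165636) (tt N20687 (iv F169632)) (tt N17999 (iv D35664)) (tt N21231 (iv F172391)) (tt N21281 (iv F172662)) (tt N18015 F165637) (tt N21203 (iv F172236)))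
theorem Q19739 : ∀ i, i < 19739 → P i := stepQ 19738 Q19738 (allL N19738 (tt N18108 F165638) (tt N18028 F165639) (tt N18107 F165640) (tt N19738 F165641) (tt N18002 F165642) (tt N21203 F172237) (tt N19738 F165643) (tt N21282 (iv F172670)) (tt N19738 F165644) (tt N17999 (iv D35665)))
theorem Q19740 : ∀ i, i < 19740 → P i := stepQ 19739 Q19739 (allL N19739 (tt N18346 F165645) (tt N18029 F165646) (tt N21279 (iv F172645)) (tt N18003 F165647) (tt N21280 (iv F172655)) (tt N21248 (iv F172476)) (tt N18001 F165648) (tt N19739 F165649) (tt N18000 (iv D35666)) (tt N21283 D37210))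
theorem Q19741 : ∀ i, i < 19741 → P i := stepQ 19740 Q19740 (allL N19740 (tt N18347 F165650) (tt N18030 F165651) (tt N18581 F165652) (tt N18004 F165653) (tt N21282 (iv F172668)) (tt N20690 (iv F169650)) (tt N21283 (iv F172677)) (tt N18002 F165654) (tt N19740 F165655) (tt N18001 (iv D35667)))
theorem Q19742 : ∀ i, i < 19742 → P i := stepQ 19741 Q19741 (allL N19741 (tt N18349 F165656) (tt N18032 F165657) (tt N18817 F165658) (tt N21283 (iv F172675)) (tt N19741 F165659) (tt N21249 (iv F172482)) (tt N18004 F165660) (tt N19741 F165661) (tt N19741 F165662) (tt N18003 (iv D35668)))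
theorem Q19743 : ∀ i, i < 19743 → P i := stepQ 19742 Q19742 (allL N19742 (tt N18053 F165663) (tt N18011 F165664) (tt N18033 F165665) (tt N19742 F165666) (tt N18328 F165667) (tt N20972 (iv F171199)) (tt N18066 F165668) (tt N18008 F165669) (tt N18007 (iv D35669)) (tt N20989 (iv F171282)))
theorem Q19744 : ∀ i, i < 19744 → P i := stepQ 19743 Q19743 (allL N19743 (tt N18285 F165670) (tt N18328 F165671) (tt N18014 F165672) (tt N18809 F165673) (tt N18011 F165674) (tt N21284 D37211) (tt N20676 (iv F169568)) (tt N18010 F165675) (tt N18009 (iv D35670)) (tt N20667 (iv F169513)))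
theorem Q19745 : ∀ i, i < 19745 → P i := stepQ 19744 Q19744 (allL N19744 (tt N18284 F165676) (tt N18327 F165677) (tt N18015 F165678) (tt N18095 F165679) (tt N20977 (iv F171218)) (tt N18010 (iv D35671)) (tt N18091 F165680) (tt N21284 (iv F172684)) (tt N21206 (iv F172253)) (tt N18090 F165681))
theorem Q19746 : ∀ i, i < 19746 → P i := stepQ 19745 Q19745 (allL N19745 (tt N18127 F165682) (tt N20989 (iv F171276)) (tt N18017 F165683) (tt N19745 F165684) (tt N20667 (iv F169509)) (tt N20980 (iv F171234)) (tt N18049 F165685) (tt N18012 F165686) (tt N19745 F165687) (tt N18011 (iv D35672)))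
theorem Q19747 : ∀ i, i < 19747 → P i := stepQ 19746 Q19746 (allL N19746 (tt N20602 (iv F169108)) (tt N18036 F165688) (tt N21284 (iv F172682)) (tt N19746 F165689) (tt N20983 (iv F171243)) (tt N18014 (iv D35673)) (tt N21285 D37212) (tt N18015 F165690) (tt N21281 (iv F172663)) (tt N21286 D37213))
theorem Q19748 : ∀ i, i < 19748 → P i := stepQ 19747 Q19747 (allL N19747 (tt N18159 F165691) (tt N18037 F165692) (tt N20667 (iv F169507)) (tt N19747 F165693) (tt N18017 F165694) (tt N21286 (iv F172692)) (tt N18043 F165695) (tt N18016 F165696) (tt N19747 F165697) (tt N18014 (iv D35674)))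
theorem Q19749 : ∀ i, i < 19749 → P i := stepQ 19748 Q19748 (allL N19748 (tt N18615 F165698) (tt N18038 F165699) (tt N18091 F165700) (tt N19748 F165701) (tt N20985 (iv F171252)) (tt N18018 F165702) (tt N18015 (iv D35675)) (tt N21287 D37214) (tt N21231 (iv F172392)) (tt N18042 (iv F165703)))
theorem Q19750 : ∀ i, i < 19750 → P i := stepQ 19749 Q19749 (allL N19749 (tt N18158 F165704) (tt N18039 F165705) (tt N18090 F165706) (tt N19749 F165707) (tt N20986 (iv F171258)) (tt N18016 F165708) (tt N18042 F165709) (tt N21286 (iv F172693)) (tt N18472 (iv F165710)) (tt N18015 (iv D35676)))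
theorem Q19751 : ∀ i, i < 19751 → P i := stepQ 19750 Q19750 (allL N19750 (tt N18616 F165711) (tt N18043 F165712) (tt N18089 F165713) (tt N19750 F165714) (tt N18019 F165715) (tt N21287 (iv F172699)) (tt N18037 F165716) (tt N18018 (iv D35677)) (tt N19750 F165717) (tt N18035 F165718))
theorem Q19752 : ∀ i, i < 19752 → P i := stepQ 19751 Q19751 (allL N19751 (tt N18465 F165719) (tt N18022 F165720) (tt N21277 (iv F172627)) (tt N19751 F165721) (tt N18357 F165722) (tt N18343 F165723) (tt N18020 (iv D35678)) (tt N19751 F165724) (tt N21288 D37215) (tt N19751 F165725))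
theorem Q19753 : ∀ i, i < 19753 → P i := stepQ 19752 Q19752 (allL N19752 (tt N18466 F165726) (tt N18023 F165727) (tt N20908 (iv F170809)) (tt N19752 F165728) (tt N18463 F165729) (tt N21057 (iv F171607)) (tt N21288 (iv F172706)) (tt N18021 F165730) (tt N18020 (iv D35679)) (tt N20910 (iv F170827)))
theorem Q19754 : ∀ i, i < 19754 → P i := stepQ 19753 Q19753 (allL N19753 (tt N18794 F165731) (tt N21288 (iv F172702)) (tt N18029 F165732) (tt N19753 F165733) (tt N18475 F165734) (tt N21289 D37216) (tt N18023 F165735) (tt N19753 F165736) (tt N18022 (iv D35680)) (tt N21290 D37217))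
theorem Q19755 : ∀ i, i < 19755 → P i := stepQ 19754 Q19754 (allL N19754 (tt N18795 F165737) (tt N20910 (iv F170822)) (tt N18030 F165738) (tt N19754 F165739) (tt N20813 (iv F170261)) (tt N21064 (iv F171633)) (tt N21290 (iv F172719)) (tt N18024 F165740) (tt N19754 F165741) (tt N18023 (iv D35681)))
theorem Q19756 : ∀ i, i < 19756 → P i := stepQ 19755 Q19755 (allL N19755 (tt N18796 F165742) (tt N21280 (iv F172652)) (tt N18475 F165743) (tt N19755 F165744) (tt N18029 F165745) (tt N21291 D37218) (tt N18026 F165746) (tt N19755 F165747) (tt N18025 (iv D35682)) (tt N21292 D37219))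
theorem Q19757 : ∀ i, i < 19757 → P i := stepQ 19756 Q19756 (allL N19756 (tt N18797 F165748) (tt N21281 (iv F172660)) (tt N20774 (iv F170084)) (tt N19756 F165749) (tt N21067 (iv F171641)) (tt N18026 (iv D35683)) (tt N21293 D37220) (tt N18027 F165750) (tt N18036 F165751) (tt N21294 D37221))
theorem Q19758 : ∀ i, i < 19758 → P i := stepQ 19757 Q19757 (allL N19757 (tt N18798 F165752) (tt N21282 (iv F172665)) (tt N20813 (iv F170259)) (tt N19757 F165753) (tt N18030 F165754) (tt N21294 (iv F172740)) (tt N21292 (iv F172732)) (tt N18028 F165755) (tt N19757 F165756) (tt N18026 (iv D35684)))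
theorem Q19759 : ∀ i, i < 19759 → P i := stepQ 19758 Q19758 (allL N19758 (tt N18799 F165757) (tt N21231 (iv F172387)) (tt N20695 (iv F169679)) (tt N19758 F165758) (tt N21069 (iv F171648)) (tt N19758 F165759) (tt N18027 (iv D35685)) (tt N21295 D37222) (tt N18038 F165760) (tt N20895 (iv F170752)))
theorem Q19760 : ∀ i, i < 19760 → P i := stepQ 19759 Q19759 (allL N19759 (tt N18800 F165761) (tt N21203 (iv F172232)) (tt N20775 (iv F170090)) (tt N19759 F165762) (tt N21070 (iv F171651)) (tt N18028 F165763) (tt N20895 (iv F170751)) (tt N21294 (iv F172741)) (tt N20854 (iv F170503)) (tt N18027 (iv D35686)))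
theorem Q19761 : ∀ i, i < 19761 → P i := stepQ 19760 Q19760 (allL N19760 (tt N18801 F165764) (tt N21248 (iv F172474)) (tt N21289 (iv F172710)) (tt N18031 F165765) (tt N21296 D37223) (tt N18029 (iv D35687)) (tt N21071 (iv F171655)) (tt N19760 F165766) (tt N20610 (iv F169170)) (tt N21297 D37224))
theorem Q19762 : ∀ i, i < 19762 → P i := stepQ 19761 Q19761 (allL N19761 (tt N18802 F165767) (tt N21283 (iv F172673)) (tt N21290 (iv F172716)) (tt N18032 F165768) (tt N21292 (iv F172731)) (tt N21297 (iv F172750)) (tt N18030 F165769) (tt N19761 F165770) (tt N19761 F165771) (tt N18029 (iv D35688)))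
theorem Q19763 : ∀ i, i < 19763 → P i := stepQ 19762 Q19762 (allL N19762 (tt N18804 F165772) (tt N21249 (iv F172479)) (tt N19762 F165773) (tt N21297 (iv F172749)) (tt N21255 (iv F172514)) (tt N18032 F165774) (tt N21074 (iv F171667)) (tt N19762 F165775) (tt N21298 D37225) (tt N18031 (iv D35689)))
theorem Q19764 : ∀ i, i < 19764 → P i := stepQ 19763 Q19763 (allL N19763 (tt N18625 F165776) (tt N21052 (iv F171581)) (tt N18088 F165777) (tt N19763 F165778) (tt N21299 D37226) (tt N18035 (iv D35690)) (tt N21300 D37227) (tt N18042 F165779) (tt N18471 F165780) (tt N21287 (iv F172700)))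
theorem Q19765 : ∀ i, i < 19765 → P i := stepQ 19764 Q19764 (allL N19764 (tt N18805 F165781) (tt N21285 (iv F172686)) (tt N20773 (iv F170079)) (tt N19764 F165782) (tt N21115 (iv F171860)) (tt N21300 (iv F172767)) (tt N18036 (iv D35691)) (tt N21301 D37228) (tt N21293 (iv F172737)) (tt N21302 D37229))
theorem Q19766 : ∀ i, i < 19766 → P i := stepQ 19765 Q19765 (allL N19765 (tt N18806 F165783) (tt N21286 (iv F172689)) (tt N20744 (iv F169938)) (tt N19765 F165784) (tt N21116 (iv F171862)) (tt N18037 F165785) (tt N21302 (iv F172774)) (tt N18039 F165786) (tt N21303 D37230) (tt N18036 (iv D35692)))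
theorem Q19767 : ∀ i, i < 19767 → P i := stepQ 19766 Q19766 (allL N19766 (tt N18807 F165787) (tt N21287 (iv F172696)) (tt N20694 (iv F169674)) (tt N19766 F165788) (tt N21117 (iv F171866)) (tt N18043 F165789) (tt N21301 (iv F172771)) (tt N18038 (iv D35693)) (tt N21295 (iv F172745)) (tt N21052 (iv F171585)))
theorem Q19768 : ∀ i, i < 19768 → P i := stepQ 19767 Q19767 (allL N19767 (tt N18808 F165790) (tt N18472 F165791) (tt N20745 (iv F169944)) (tt N19767 F165792) (tt N21118 (iv F171870)) (tt N19767 F165793) (tt N18467 F165794) (tt N21303 (iv F172779)) (tt N18039 (iv D35694)) (tt N20854 (iv F170504)))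
theorem Q19769 : ∀ i, i < 19769 → P i := stepQ 19768 Q19768 (allL N19768 (tt N18658 F165795) (tt N21096 (iv F171775)) (tt N18082 F165796) (tt N21304 D37231) (tt N18040 (iv D35695)) (tt N21299 (iv F172761)) (tt N21119 (iv F171874)) (tt N18044 F165797) (tt N18079 F165798) (tt N21045 (iv F171549)))
theorem Q19770 : ∀ i, i < 19770 → P i := stepQ 19769 Q19769 (allL N19769 (tt N18738 F165799) (tt N20829 (iv F170343)) (tt N18256 F165800) (tt N18041 (iv D35696)) (tt N21304 (iv F172782)) (tt N19769 F165801) (tt N21120 (iv F171879)) (tt N18045 F165802) (tt N18102 F165803) (tt N20645 (iv F169377)))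
theorem Q19771 : ∀ i, i < 19771 → P i := stepQ 19770 Q19770 (allL N19770 (tt N18624 F165804) (tt N21051 (iv F171575)) (tt N18083 F165805) (tt N21305 D37232) (tt N18042 (iv D35697)) (tt N18044 F165806) (tt N20986 (iv F171260)) (tt N21299 (iv F172762)) (tt N18442 F165807) (tt N20985 F171254))
theorem Q19772 : ∀ i, i < 19772 → P i := stepQ 19771 Q19771 (allL N19771 (tt N18657 F165808) (tt N20802 (iv F170205)) (tt N18192 F165809) (tt N18044 (iv D35698)) (tt N18045 F165810) (tt N21305 (iv F172788)) (tt N18051 F165811) (tt N21304 (iv F172783)) (tt N18078 F165812) (tt N20636 (iv F169322)))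
theorem Q19773 : ∀ i, i < 19773 → P i := stepQ 19772 Q19772 (allL N19772 (tt N18594 F165813) (tt N20803 (iv F170211)) (tt N18173 F165814) (tt N18046 (iv D35699)) (tt N18047 F165815) (tt N20939 (iv F171013)) (tt N18078 F165816) (tt N21192 (iv F172171)) (tt N18051 F165817) (tt N20471 (iv F168307)))
theorem Q19774 : ∀ i, i < 19774 → P i := stepQ 19773 Q19773 (allL N19773 (tt N18360 F165818) (tt N18049 F165819) (tt N18069 F165820) (tt N19773 F165821) (tt N18370 F165822) (tt N21194 (iv F172180)) (tt N20989 (iv F171280)) (tt N18048 (iv D35700)) (tt N19773 F165823) (tt N18066 F165824))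
theorem Q19775 : ∀ i, i < 19775 → P i := stepQ 19774 Q19774 (allL N19774 (tt N20970 (iv F171184)) (tt N18054 F165825) (tt N18076 F165826) (tt N21306 D37233) (tt N18052 (iv D35701)) (tt N18329 F165827) (tt N20923 (iv F170908)) (tt N21307 D37234) (tt N20966 (iv F171167)) (tt N20990 (iv F171288)))
theorem Q19776 : ∀ i, i < 19776 → P i := stepQ 19775 Q19775 (allL N19775 (tt N20972 (iv F171195)) (tt N18055 F165828) (tt N18077 F165829) (tt N19775 F165830) (tt N21307 (iv F172797)) (tt N18053 F165831) (tt N21308 D37235) (tt N18052 (iv D35702)) (tt N20967 (iv F171174)) (tt N20991 (iv F171295)))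
theorem Q19777 : ∀ i, i < 19777 → P i := stepQ 19776 Q19776 (allL N19776 (tt N20960 (iv F171127)) (tt N21306 (iv F172790)) (tt N18139 F165832) (tt N18054 (iv D35703)) (tt N19776 F165833) (tt N18332 F165834) (tt N20925 (iv F170922)) (tt N21309 D37236) (tt N20756 (iv F170003)) (tt N20992 (iv F171303)))
theorem Q19778 : ∀ i, i < 19778 → P i := stepQ 19777 Q19777 (allL N19777 (tt N20961 (iv F171134)) (tt N21307 (iv F172795)) (tt N18057 F165835) (tt N21309 (iv F172803)) (tt N18055 F165836) (tt N18333 F165837) (tt N21310 D37237) (tt N18054 (iv D35704)) (tt N21311 D37238) (tt N20993 (iv F171309)))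
theorem Q19779 : ∀ i, i < 19779 → P i := stepQ 19778 Q19778 (allL N19778 (tt N20913 (iv F170838)) (tt N20966 (iv F171164)) (tt N18058 F165838) (tt N20756 (iv F170001)) (tt N18056 F165839) (tt N20753 (iv F169988)) (tt N20927 (iv F170934)) (tt N21311 (iv F172810)) (tt N18054 (iv D35705)) (tt N21172 (iv F172111)))
theorem Q19780 : ∀ i, i < 19780 → P i := stepQ 19779 Q19779 (allL N19779 (tt N20962 (iv F171139)) (tt N21308 (iv F172799)) (tt N18059 F165840) (tt N19779 F165841) (tt N21310 (iv F172807)) (tt N20918 (iv F170875)) (tt N18055 (iv D35706)) (tt N20928 (iv F170940)) (tt N21312 D37239) (tt N20994 (iv F171316)))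
theorem Q19781 : ∀ i, i < 19781 → P i := stepQ 19780 Q19780 (allL N19780 (tt N20914 (iv F170846)) (tt N20967 (iv F171170)) (tt N18060 F165842) (tt N19780 F165843) (tt N21311 (iv F172809)) (tt N18066 F165844) (tt N21312 (iv F172813)) (tt N18056 F165845) (tt N18055 (iv D35707)) (tt N21194 (iv F172182)))
theorem Q19782 : ∀ i, i < 19782 → P i := stepQ 19781 Q19781 (allL N19781 (tt N20963 (iv F171145)) (tt N18081 F165846) (tt N21310 (iv F172806)) (tt N18142 F165847) (tt N18059 F165848) (tt N21313 D37240) (tt N18057 (iv D35708)) (tt N20930 (iv F170953)) (tt N21314 D37241) (tt N20995 (iv F171322)))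
theorem Q19783 : ∀ i, i < 19783 → P i := stepQ 19782 Q19782 (allL N19782 (tt N20964 (iv F171151)) (tt N18082 F165849) (tt N21311 (iv F172808)) (tt N18143 F165850) (tt N18060 F165851) (tt N21145 (iv F171992)) (tt N21314 (iv F172820)) (tt N18058 F165852) (tt N18057 (iv D35709)) (tt N21315 D37242))
theorem Q19784 : ∀ i, i < 19784 → P i := stepQ 19783 Q19783 (allL N19783 (tt N20720 (iv F169792)) (tt N18084 F165853) (tt N21172 (iv F172107)) (tt N18144 F165854) (tt N18061 F165855) (tt N21146 (iv F171999)) (tt N20933 (iv F170973)) (tt N21315 (iv F172824)) (tt N20998 (iv F171342)) (tt N18058 (iv D35710)))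
theorem Q19785 : ∀ i, i < 19785 → P i := stepQ 19784 Q19784 (allL N19784 (tt N20965 (iv F171157)) (tt N18085 F165856) (tt N21312 (iv F172811)) (tt N18062 F165857) (tt N21314 (iv F172819)) (tt N21103 (iv F171810)) (tt N18060 F165858) (tt N20934 (iv F170980)) (tt N18059 (iv D35711)) (tt N21316 D37243))
theorem Q19786 : ∀ i, i < 19786 → P i := stepQ 19785 Q19785 (allL N19785 (tt N20721 (iv F169800)) (tt N18086 F165859) (tt N21194 (iv F172178)) (tt N18063 F165860) (tt N21315 (iv F172823)) (tt N18069 F165861) (tt N21316 (iv F172827)) (tt N18061 F165862) (tt N21000 (iv F171355)) (tt N18060 (iv D35712)))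
theorem Q19787 : ∀ i, i < 19787 → P i := stepQ 19786 Q19786 (allL N19786 (tt N20869 (iv F170585)) (tt N18087 F165863) (tt N19786 F165864) (tt N21316 (iv F172826)) (tt N18148 F165865) (tt N21210 (iv F172277)) (tt N18063 F165866) (tt N20936 (iv F170994)) (tt N21002 (iv F171368)) (tt N18062 (iv D35713)))
theorem Q19788 : ∀ i, i < 19788 → P i := stepQ 19787 Q19787 (allL N19787 (tt N18305 F165867) (tt N20676 (iv F169564)) (tt N18067 F165868) (tt N18496 F165869) (tt N18066 F165870) (tt N20881 (iv F170663)) (tt N18328 F165871) (tt N18065 F165872) (tt N18064 (iv D35714)) (tt N18370 (iv F165873)))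
theorem Q19789 : ∀ i, i < 19789 → P i := stepQ 19788 Q19788 (allL N19788 (tt N18295 F165874) (tt N18089 F165875) (tt N18370 F165876) (tt N18070 F165877) (tt N18069 F165878) (tt N21223 (iv F172346)) (tt N18411 F165879) (tt N18068 F165880) (tt N19788 F165881) (tt N18067 (iv D35715)))
theorem Q19790 : ∀ i, i < 19790 → P i := stepQ 19789 Q19789 (allL N19789 (tt N18109 F165882) (tt N18096 F165883) (tt N21282 (iv F172666)) (tt N18071 (iv D35716)) (tt N18581 F165884) (tt N21205 F172246) (tt N18155 F165885) (tt N18107 F165886) (tt N19789 F165887) (tt N21242 (iv F172439)))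
theorem Q19791 : ∀ i, i < 19791 → P i := stepQ 19790 Q19790 (allL N19790 (tt N18597 F165888) (tt N20930 (iv F170950)) (tt N21142 (iv F171974)) (tt N18178 F165889) (tt N18073 F165890) (tt N21317 D37244) (tt N18072 (iv D35717)) (tt N18081 F165891) (tt N21184 (iv F172152)) (tt N20476 (iv F168340)))
theorem Q19792 : ∀ i, i < 19792 → P i := stepQ 19791 Q19791 (allL N19791 (tt N18591 F165892) (tt N20920 (iv F170886)) (tt N21077 (iv F171679)) (tt N20731 (iv F169866)) (tt N18075 F165893) (tt N21318 D37245) (tt N18074 (iv D35718)) (tt N18588 F165894) (tt N21075 (iv F171672)) (tt N20724 (iv F169825)))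
theorem Q19793 : ∀ i, i < 19793 → P i := stepQ 19792 Q19792 (allL N19792 (tt N21099 (iv F171786)) (tt N18078 F165895) (tt N21319 D37246) (tt N18076 (iv D35719)) (tt N18099 F165896) (tt N18432 F165897) (tt N20803 (iv F170214)) (tt N21320 D37247) (tt N20802 F170209) (tt N21121 (iv F171887)))
theorem Q19794 : ∀ i, i < 19794 → P i := stepQ 19793 Q19793 (allL N19793 (tt N21101 (iv F171796)) (tt N18079 F165898) (tt N21307 (iv F172796)) (tt N21320 (iv F172842)) (tt N18077 F165899) (tt N18433 F165900) (tt N21321 D37248) (tt N18076 (iv D35720)) (tt N21096 (iv F171777)) (tt N21122 (iv F171891)))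
theorem Q19795 : ∀ i, i < 19795 → P i := stepQ 19794 Q19794 (allL N19794 (tt N21103 (iv F171807)) (tt N18080 F165901) (tt N21308 (iv F172800)) (tt N18101 F165902) (tt N21321 (iv F172846)) (tt N20965 F171162) (tt N18077 (iv D35721)) (tt N21009 (iv F171395)) (tt N20987 (iv F171267)) (tt N21123 (iv F171894)))
theorem Q19796 : ∀ i, i < 19796 → P i := stepQ 19795 Q19795 (allL N19795 (tt N20450 (iv F168152)) (tt N21320 (iv F172841)) (tt N18191 F165903) (tt N18079 F165904) (tt N18102 F165905) (tt N18438 F165906) (tt N21322 D37249) (tt N18078 (iv D35722)) (tt N21304 (iv F172784)) (tt N21124 (iv F171901)))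
theorem Q19797 : ∀ i, i < 19797 → P i := stepQ 19796 Q19796 (allL N19796 (tt N20451 (iv F168160)) (tt N21321 (iv F172845)) (tt N18081 F165907) (tt N21322 (iv F172848)) (tt N18080 F165908) (tt N21323 D37250) (tt N18079 (iv D35723)) (tt N21142 (iv F171976)) (tt N21119 (iv F171876)) (tt N21125 (iv F171905)))
theorem Q19798 : ∀ i, i < 19798 → P i := stepQ 19797 Q19797 (allL N19797 (tt N20452 (iv F168167)) (tt N21313 (iv F172814)) (tt N21323 (iv F172850)) (tt N18199 F165909) (tt N21318 (iv F172833)) (tt N18081 (iv D35724)) (tt N18446 F165910) (tt N21317 (iv F172831)) (tt N21324 D37251) (tt N21128 (iv F171918)))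
theorem Q19799 : ∀ i, i < 19799 → P i := stepQ 19798 Q19798 (allL N19798 (tt N20453 (iv F168174)) (tt N21314 (iv F172817)) (tt N21119 (iv F171873)) (tt N18200 F165911) (tt N18085 F165912) (tt N21325 D37252) (tt N18082 F165913) (tt N21184 (iv F172151)) (tt N18081 (iv D35725)) (tt N21326 D37253))
theorem Q19800 : ∀ i, i < 19800 → P i := stepQ 19799 Q19799 (allL N19799 (tt N20454 (iv F168181)) (tt N21145 (iv F171989)) (tt N21299 (iv F172760)) (tt N18201 F165914) (tt N18088 F165915) (tt N18082 (iv D35726)) (tt N21327 D37254) (tt N18083 F165916) (tt N18448 F165917) (tt N21328 D37255))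
theorem Q19801 : ∀ i, i < 19801 → P i := stepQ 19800 Q19800 (allL N19800 (tt N20455 (iv F168188)) (tt N21315 (iv F172821)) (tt N21045 (iv F171547)) (tt N18202 F165918) (tt N18086 F165919) (tt N21328 (iv F172863)) (tt N21326 (iv F172857)) (tt N18084 F165920) (tt N21131 (iv F171932)) (tt N18082 (iv D35727)))
theorem Q19802 : ∀ i, i < 19802 → P i := stepQ 19801 Q19801 (allL N19801 (tt N20456 (iv F168195)) (tt N21079 (iv F171689)) (tt N20986 (iv F171257)) (tt N18203 F165921) (tt N18090 F165922) (tt N20978 (iv F171225)) (tt N18083 (iv D35728)) (tt N21329 D37256) (tt N18450 F165923) (tt N20977 F171220))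
theorem Q19803 : ∀ i, i < 19803 → P i := stepQ 19802 Q19802 (allL N19802 (tt N20457 (iv F168203)) (tt N21146 (iv F171995)) (tt N20985 (iv F171251)) (tt N18204 F165924) (tt N18091 F165925) (tt N18084 F165926) (tt N20977 (iv F171219)) (tt N21328 (iv F172864)) (tt N21167 (iv F172090)) (tt N18083 (iv D35729)))
theorem Q19804 : ∀ i, i < 19804 → P i := stepQ 19803 Q19803 (allL N19803 (tt N20458 (iv F168210)) (tt N21316 (iv F172825)) (tt N21050 (iv F171569)) (tt N18087 F165927) (tt N21326 (iv F172856)) (tt N21111 (iv F171848)) (tt N18086 F165928) (tt N21049 (iv F171565)) (tt N21133 (iv F171939)) (tt N18085 (iv D35730)))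
theorem Q19805 : ∀ i, i < 19805 → P i := stepQ 19804 Q19804 (allL N19804 (tt N20459 (iv F168218)) (tt N21222 (iv F172338)) (tt N21300 (iv F172765)) (tt N18092 F165929) (tt N21327 (iv F172859)) (tt N20773 (iv F170081)) (tt N18088 (iv D35731)) (tt N21330 D37257) (tt N18477 F165930) (tt N21331 D37258))
theorem Q19806 : ∀ i, i < 19806 → P i := stepQ 19805 Q19805 (allL N19805 (tt N20460 (iv F168224)) (tt N21223 (iv F172343)) (tt N21287 (iv F172697)) (tt N18093 F165931) (tt N21328 (iv F172862)) (tt N18089 F165932) (tt N21331 (iv F172872)) (tt N18091 F165933) (tt N21234 (iv F172404)) (tt N18088 (iv D35732)))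
theorem Q19807 : ∀ i, i < 19807 → P i := stepQ 19806 Q19806 (allL N19806 (tt N20461 (iv F168230)) (tt N21197 (iv F172193)) (tt N21286 (iv F172690)) (tt N18094 F165934) (tt N21329 (iv F172866)) (tt N20667 (iv F169510)) (tt N21330 (iv F172869)) (tt N18090 (iv D35733)) (tt N18478 F165935) (tt N21284 (iv F172685)))
theorem Q19808 : ∀ i, i < 19808 → P i := stepQ 19807 Q19807 (allL N19807 (tt N20463 (iv F168244)) (tt N21199 (iv F172207)) (tt N19807 F165936) (tt N21330 (iv F172868)) (tt N18232 F165937) (tt N20852 (iv F170489)) (tt N18094 F165938) (tt N18092 (iv D35734)) (tt N18486 F165939) (tt N21332 D37259))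
theorem Q19809 : ∀ i, i < 19809 → P i := stepQ 19808 Q19808 (allL N19808 (tt N20464 (iv F168252)) (tt N21225 (iv F172357)) (tt N19808 F165940) (tt N21331 (iv F172871)) (tt N18233 F165941) (tt N20876 (iv F170642)) (tt N18093 F165942) (tt N21332 (iv F172878)) (tt N21236 (iv F172414)) (tt N18092 (iv D35735)))
theorem Q19810 : ∀ i, i < 19810 → P i := stepQ 19809 Q19809 (allL N19809 (tt N18810 F165943) (tt N18820 F165944) (tt N19809 F165945) (tt N21284 (iv F172683)) (tt N18234 F165946) (tt N18809 F165947) (tt N21332 (iv F172877)) (tt N18095 F165948) (tt N21209 (iv F172273)) (tt N18094 (iv D35736)))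
theorem Q19811 : ∀ i, i < 19811 → P i := stepQ 19810 Q19810 (allL N19810 (tt N18469 F165949) (tt N20813 (iv F170258)) (tt N18096 (iv D35737)) (tt N18105 F165950) (tt N20910 (iv F170825)) (tt N20861 F170539) (tt N18238 F165951) (tt N18464 F165952) (tt N19810 F165953) (tt N18463 (iv F165954)))
theorem Q19812 : ∀ i, i < 19812 → P i := stepQ 19811 Q19811 (allL N19811 (tt N18354 F165955) (tt N21242 (iv F172434)) (tt N18463 F165956) (tt N18097 F165957) (tt N20908 (iv F170811)) (tt N21213 (iv F172293)) (tt N18239 F165958) (tt N18351 F165959) (tt N18350 (iv F165960)) (tt N18096 (iv D35738)))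
theorem Q19813 : ∀ i, i < 19813 → P i := stepQ 19812 Q19812 (allL N19812 (tt N21203 (iv F172231)) (tt N18251 F165961) (tt N18099 (iv D35739)) (tt N19812 F165962) (tt N21319 (iv F172838)) (tt N18108 F165963) (tt N20821 (iv F170314)) (tt N21333 D37260) (tt N20820 (iv F170308)) (tt N18345 F165964))
theorem Q19814 : ∀ i, i < 19814 → P i := stepQ 19813 Q19813 (allL N19813 (tt N21205 (iv F172242)) (tt N18102 F165965) (tt N21333 (iv F172880)) (tt N18100 F165966) (tt N21320 (iv F172843)) (tt N18109 F165967) (tt N21334 D37261) (tt N18099 (iv D35740)) (tt N20829 F170347) (tt N21215 (iv F172308)))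
theorem Q19815 : ∀ i, i < 19815 → P i := stepQ 19814 Q19814 (allL N19814 (tt N21208 (iv F172260)) (tt N18103 F165968) (tt N19814 F165969) (tt N21334 (iv F172885)) (tt N18101 F165970) (tt N21335 D37262) (tt N18100 (iv D35741)) (tt N20837 (iv F170386)) (tt N20836 F170380) (tt N21216 (iv F172313)))
theorem Q19816 : ∀ i, i < 19816 → P i := stepQ 19815 Q19815 (allL N19815 (tt N20466 (iv F168266)) (tt N21334 (iv F172884)) (tt N18255 F165971) (tt N18103 F165972) (tt N21322 (iv F172849)) (tt N21336 D37263) (tt N18102 (iv D35742)) (tt N21143 (iv F171981)) (tt N21120 (iv F171881)) (tt N21217 (iv F172318)))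
theorem Q19817 : ∀ i, i < 19817 → P i := stepQ 19816 Q19816 (allL N19816 (tt N20467 (iv F168273)) (tt N21335 (iv F172887)) (tt N18104 F165973) (tt N21336 (iv F172892)) (tt N20481 (iv F168370)) (tt N18103 (iv D35743)) (tt N18112 F165974) (tt N21134 (iv F171944)) (tt N21337 D37264) (tt N21218 (iv F172322)))
theorem Q19818 : ∀ i, i < 19818 → P i := stepQ 19817 Q19817 (allL N19817 (tt N18857 F165975) (tt N19817 F165976) (tt N21337 (iv F172895)) (tt N18261 F165977) (tt N18264 F165978) (tt N20840 (iv F170405)) (tt N18113 F165979) (tt N20871 (iv F170605)) (tt N18104 (iv D35744)) (tt N18263 (iv F165980)))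
theorem Q19819 : ∀ i, i < 19819 → P i := stepQ 19818 Q19818 (allL N19818 (tt N21282 (iv F172664)) (tt N18274 F165981) (tt N18109 F165982) (tt N19818 F165983) (tt N18347 F165984) (tt N21333 (iv F172882)) (tt N21338 D37265) (tt N18108 (iv D35745)) (tt N19818 F165985) (tt N18344 F165986))
theorem Q19820 : ∀ i, i < 19820 → P i := stepQ 19819 Q19819 (allL N19819 (tt N18155 F165987) (tt N18111 F165988) (tt N21338 (iv F172901)) (tt N18110 F165989) (tt N18582 F165990) (tt N21339 D37266) (tt N18109 (iv D35746)) (tt N19819 F165991) (tt N19819 F165992) (tt N21243 (iv F172448)))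
theorem Q19821 : ∀ i, i < 19821 → P i := stepQ 19820 Q19820 (allL N19820 (tt N18151 F165993) (tt N18112 F165994) (tt N19820 F165995) (tt N21339 (iv F172909)) (tt N18123 F165996) (tt N18110 (iv D35747)) (tt N21335 (iv F172890)) (tt N19820 F165997) (tt N21259 (iv F172539)) (tt N21244 (iv F172455)))
theorem Q19822 : ∀ i, i < 19822 → P i := stepQ 19821 Q19821 (allL N19821 (tt N20468 (iv F168281)) (tt N21339 (iv F172908)) (tt N18277 F165998) (tt N18112 F165999) (tt N21340 D37267) (tt N18111 (iv D35748)) (tt N21336 (iv F172893)) (tt N19821 F166000) (tt N21341 D37268) (tt N21245 (iv F172460)))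
theorem Q19823 : ∀ i, i < 19823 → P i := stepQ 19822 Q19822 (allL N19822 (tt N18780 F166001) (tt N21259 (iv F172535)) (tt N18113 F166002) (tt N21341 (iv F172916)) (tt N18269 F166003) (tt N19822 F166004) (tt N21337 (iv F172897)) (tt N19822 F166005) (tt N18112 (iv D35749)) (tt N18268 (iv F166006)))
theorem Q19824 : ∀ i, i < 19824 → P i := stepQ 19823 Q19823 (allL N19823 (tt N18142 F166007) (tt N20476 (iv F168336)) (tt N21141 (iv F171970)) (tt N20963 (iv F171147)) (tt N18116 F166008) (tt N21342 D37269) (tt N18114 (iv D35750)) (tt N20995 (iv F171321)) (tt N21343 D37270) (tt N20930 (iv F170954)))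
theorem Q19825 : ∀ i, i < 19825 → P i := stepQ 19824 Q19824 (allL N19824 (tt N18143 F166009) (tt N20477 (iv F168342)) (tt N18697 F166010) (tt N20964 (iv F171153)) (tt N18117 F166011) (tt N18691 F166012) (tt N21343 (iv F172925)) (tt N18115 F166013) (tt N18114 (iv D35751)) (tt N21344 D37271))
theorem Q19826 : ∀ i, i < 19826 → P i := stepQ 19825 Q19825 (allL N19825 (tt N18144 F166014) (tt N20478 (iv F168348)) (tt N18700 F166015) (tt N20720 (iv F169795)) (tt N18118 F166016) (tt N18692 F166017) (tt N20998 (iv F171341)) (tt N21344 (iv F172930)) (tt N20933 (iv F170974)) (tt N18115 (iv D35752)))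
theorem Q19827 : ∀ i, i < 19827 → P i := stepQ 19826 Q19826 (allL N19826 (tt N18145 F166018) (tt N20479 (iv F168356)) (tt N18786 F166019) (tt N18119 F166020) (tt N21343 (iv F172924)) (tt N21345 D37272) (tt N18117 F166021) (tt N20999 (iv F171348)) (tt N18116 (iv D35753)) (tt N21346 D37273))
theorem Q19828 : ∀ i, i < 19828 → P i := stepQ 19827 Q19827 (allL N19827 (tt N18146 F166022) (tt N20480 (iv F168361)) (tt N18787 F166023) (tt N18120 F166024) (tt N21344 (iv F172928)) (tt N18122 F166025) (tt N21346 (iv F172938)) (tt N18118 F166026) (tt N20935 (iv F170987)) (tt N18117 (iv D35754)))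
theorem Q19829 : ∀ i, i < 19829 → P i := stepQ 19828 Q19828 (allL N19828 (tt N18147 F166027) (tt N20481 (iv F168368)) (tt N19828 F166028) (tt N21345 (iv F172933)) (tt N21335 (iv F172889)) (tt N18119 (iv D35755)) (tt N18123 F166029) (tt N21001 (iv F171360)) (tt N20948 (iv F171071)) (tt N21347 D37274))
theorem Q19830 : ∀ i, i < 19830 → P i := stepQ 19829 Q19829 (allL N19829 (tt N18148 F166030) (tt N20482 (iv F168375)) (tt N19829 F166031) (tt N21346 (iv F172937)) (tt N20869 (iv F170588)) (tt N21347 (iv F172941)) (tt N18120 F166032) (tt N21002 (iv F171367)) (tt N20936 (iv F170995)) (tt N18119 (iv D35756)))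
theorem Q19831 : ∀ i, i < 19831 → P i := stepQ 19830 Q19830 (allL N19830 (tt N18149 F166033) (tt N20483 (iv F168382)) (tt N18784 F166034) (tt N18123 F166035) (tt N21348 D37275) (tt N18121 (iv D35757)) (tt N21345 (iv F172934)) (tt N19830 F166036) (tt N21258 (iv F172532)) (tt N21349 D37276))
theorem Q19832 : ∀ i, i < 19832 → P i := stepQ 19831 Q19831 (allL N19831 (tt N18150 F166037) (tt N20484 (iv F168388)) (tt N18785 F166038) (tt N18124 F166039) (tt N18782 F166040) (tt N21349 (iv F172951)) (tt N18122 F166041) (tt N19831 F166042) (tt N18279 F166043) (tt N18121 (iv D35758)))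
theorem Q19833 : ∀ i, i < 19833 → P i := stepQ 19832 Q19832 (allL N19832 (tt N18152 F166044) (tt N20485 (iv F168396)) (tt N19832 F166045) (tt N21349 (iv F172950)) (tt N21244 (iv F172452)) (tt N18124 F166046) (tt N21347 (iv F172942)) (tt N19832 F166047) (tt N18231 F166048) (tt N18123 (iv D35759)))
theorem Q19834 : ∀ i, i < 19834 → P i := stepQ 19833 Q19833 (allL N19833 (tt N20978 (iv F171221)) (tt N18128 F166049) (tt N18170 F166050) (tt N20530 (iv F168673)) (tt N18126 (iv D35760)) (tt N20456 (iv F168200)) (tt N18137 F166051) (tt N21350 D37277) (tt N21021 (iv F171451)) (tt N20917 F170871))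
theorem Q19835 : ∀ i, i < 19835 → P i := stepQ 19834 Q19834 (allL N19834 (tt N20980 (iv F171231)) (tt N18129 F166052) (tt N18171 F166053) (tt N19834 F166054) (tt N21350 (iv F172956)) (tt N18127 F166055) (tt N21351 D37278) (tt N18126 (iv D35761)) (tt N21263 (iv F172561)) (tt N20919 F170884))
theorem Q19836 : ∀ i, i < 19836 → P i := stepQ 19835 Q19835 (allL N19835 (tt N20992 (iv F171296)) (tt N20530 (iv F168672)) (tt N20925 (iv F170919)) (tt N18128 (iv D35762)) (tt N19835 F166056) (tt N20494 (iv F168454)) (tt N18139 F166057) (tt N21352 D37279) (tt N20764 (iv F170041)) (tt N20960 (iv F171133)))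
theorem Q19837 : ∀ i, i < 19837 → P i := stepQ 19836 Q19836 (allL N19836 (tt N20993 (iv F171304)) (tt N21350 (iv F172954)) (tt N18130 F166058) (tt N21352 (iv F172962)) (tt N18129 F166059) (tt N20668 (iv F169517)) (tt N21353 D37280) (tt N18128 (iv D35763)) (tt N21157 (iv F172052)) (tt N20961 (iv F171138)))
theorem Q19838 : ∀ i, i < 19838 → P i := stepQ 19837 Q19837 (allL N19837 (tt N20994 (iv F171310)) (tt N21351 (iv F172957)) (tt N18132 F166060) (tt N19837 F166061) (tt N21353 (iv F172965)) (tt N20656 (iv F169443)) (tt N18129 (iv D35764)) (tt N18141 F166062) (tt N21271 (iv F172601)) (tt N20962 (iv F171144)))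
theorem Q19839 : ∀ i, i < 19839 → P i := stepQ 19838 Q19838 (allL N19838 (tt N20995 (iv F171317)) (tt N18178 F166063) (tt N21353 (iv F172964)) (tt N20930 (iv F170951)) (tt N18132 F166064) (tt N21354 D37281) (tt N18130 (iv D35765)) (tt N18142 F166065) (tt N21355 D37282) (tt N20963 (iv F171150)))
theorem Q19840 : ∀ i, i < 19840 → P i := stepQ 19839 Q19839 (allL N19839 (tt N20996 (iv F171323)) (tt N18179 F166066) (tt N21157 (iv F172050)) (tt N20931 (iv F170957)) (tt N18133 F166067) (tt N21356 D37283) (tt N21355 (iv F172971)) (tt N18131 F166068) (tt N18130 (iv D35766)) (tt N21357 D37284))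
theorem Q19841 : ∀ i, i < 19841 → P i := stepQ 19840 Q19840 (allL N19840 (tt N20997 (iv F171329)) (tt N18180 F166069) (tt N21090 (iv F171747)) (tt N20932 (iv F170963)) (tt N19840 F166070) (tt N18131 (iv D35767)) (tt N21082 (iv F171710)) (tt N21356 (iv F172975)) (tt N20672 (iv F169541)) (tt N21030 (iv F171494)))
theorem Q19842 : ∀ i, i < 19842 → P i := stepQ 19841 Q19841 (allL N19841 (tt N20998 (iv F171336)) (tt N18181 F166071) (tt N21158 (iv F172055)) (tt N20933 (iv F170970)) (tt N18134 F166072) (tt N21030 (iv F171493)) (tt N18144 F166073) (tt N21357 (iv F172978)) (tt N20720 (iv F169798)) (tt N18131 (iv D35768)))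
theorem Q19843 : ∀ i, i < 19843 → P i := stepQ 19842 Q19842 (allL N19842 (tt N20999 (iv F171343)) (tt N18182 F166074) (tt N21271 (iv F172598)) (tt N18135 F166075) (tt N21355 (iv F172970)) (tt N21358 D37285) (tt N18133 F166076) (tt N18145 F166077) (tt N18132 (iv D35769)) (tt N21359 D37286))
theorem Q19844 : ∀ i, i < 19844 → P i := stepQ 19843 Q19843 (allL N19843 (tt N21000 (iv F171349)) (tt N18183 F166078) (tt N21273 (iv F172608)) (tt N18136 F166079) (tt N21357 (iv F172977)) (tt N19843 F166080) (tt N21359 (iv F172985)) (tt N18134 F166081) (tt N20721 (iv F169805)) (tt N18133 (iv D35770)))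
theorem Q19845 : ∀ i, i < 19845 → P i := stepQ 19844 Q19844 (allL N19844 (tt N21001 (iv F171356)) (tt N18184 F166082) (tt N19844 F166083) (tt N21358 (iv F172980)) (tt N21235 (iv F172407)) (tt N18135 (iv D35771)) (tt N19844 F166084) (tt N18147 F166085) (tt N20665 (iv F169497)) (tt N21360 D37287))
theorem Q19846 : ∀ i, i < 19846 → P i := stepQ 19845 Q19845 (allL N19845 (tt N21002 (iv F171362)) (tt N18185 F166086) (tt N19845 F166087) (tt N21359 (iv F172984)) (tt N20936 (iv F170991)) (tt N21360 (iv F172989)) (tt N18136 F166088) (tt N18148 F166089) (tt N20869 (iv F170591)) (tt N18135 (iv D35772)))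
theorem Q19847 : ∀ i, i < 19847 → P i := stepQ 19846 Q19846 (allL N19846 (tt N21039 (iv F171524)) (tt N18140 F166090) (tt N18187 F166091) (tt N20528 (iv F168661)) (tt N18138 F166092) (tt N18598 F166093) (tt N21361 D37288) (tt N18137 (iv D35773)) (tt N21019 (iv F171442)) (tt N20954 F171098))
theorem Q19848 : ∀ i, i < 19848 → P i := stepQ 19847 Q19847 (allL N19847 (tt N21040 (iv F171530)) (tt N18141 F166094) (tt N18189 F166095) (tt N19847 F166096) (tt N21361 (iv F172994)) (tt N18724 F166097) (tt N18138 (iv D35774)) (tt N21351 (iv F172961)) (tt N21262 (iv F172556)) (tt N20955 F171105))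
theorem Q19849 : ∀ i, i < 19849 → P i := stepQ 19848 Q19848 (allL N19848 (tt N21130 (iv F171923)) (tt N20528 (iv F168660)) (tt N21309 (iv F172802)) (tt N18140 F166098) (tt N19848 F166099) (tt N18611 F166100) (tt N21362 D37289) (tt N18139 (iv D35775)) (tt N20762 (iv F170032)) (tt N21003 (iv F171372)))
theorem Q19850 : ∀ i, i < 19850 → P i := stepQ 19849 Q19849 (allL N19849 (tt N21141 (iv F171969)) (tt N21361 (iv F172992)) (tt N18142 F166101) (tt N21362 (iv F172995)) (tt N18141 F166102) (tt N21363 D37290) (tt N18140 (iv D35776)) (tt N21353 (iv F172966)) (tt N21155 (iv F172043)) (tt N21004 (iv F171375)))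
theorem Q19851 : ∀ i, i < 19851 → P i := stepQ 19850 Q19850 (allL N19850 (tt N21342 (iv F172920)) (tt N18199 F166103) (tt N21363 (iv F172997)) (tt N21313 (iv F172815)) (tt N21017 (iv F171432)) (tt N18142 (iv D35777)) (tt N18613 F166104) (tt N21354 (iv F172968)) (tt N21364 D37291) (tt N21005 (iv F171379)))
theorem Q19852 : ∀ i, i < 19852 → P i := stepQ 19851 Q19851 (allL N19851 (tt N21343 (iv F172922)) (tt N18200 F166105) (tt N21155 (iv F172041)) (tt N21314 (iv F172818)) (tt N18145 F166106) (tt N21365 D37292) (tt N18143 F166107) (tt N21355 (iv F172972)) (tt N18142 (iv D35778)) (tt N21366 D37293))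
theorem Q19853 : ∀ i, i < 19853 → P i := stepQ 19852 Q19852 (allL N19852 (tt N21344 (iv F172926)) (tt N18202 F166108) (tt N21156 (iv F172045)) (tt N21315 (iv F172822)) (tt N18146 F166109) (tt N21149 (iv F172017)) (tt N21366 (iv F173004)) (tt N18144 F166110) (tt N21008 (iv F171390)) (tt N18143 (iv D35779)))
theorem Q19854 : ∀ i, i < 19854 → P i := stepQ 19853 Q19853 (allL N19853 (tt N21345 (iv F172931)) (tt N18205 F166111) (tt N21269 (iv F172587)) (tt N18147 F166112) (tt N21367 D37294) (tt N18145 (iv D35780)) (tt N18149 F166113) (tt N21358 (iv F172982)) (tt N21022 (iv F171456)) (tt N21368 D37295))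
theorem Q19855 : ∀ i, i < 19855 → P i := stepQ 19854 Q19854 (allL N19854 (tt N21346 (iv F172935)) (tt N18206 F166114) (tt N21272 (iv F172603)) (tt N18148 F166115) (tt N21366 (iv F173003)) (tt N21368 (iv F173009)) (tt N18146 F166116) (tt N21359 (iv F172986)) (tt N21010 (iv F171400)) (tt N18145 (iv D35781)))
theorem Q19856 : ∀ i, i < 19856 → P i := stepQ 19855 Q19855 (allL N19855 (tt N21335 (iv F172886)) (tt N18207 F166117) (tt N19855 F166118) (tt N21369 D37296) (tt N18147 (iv D35782)) (tt N21208 F172266) (tt N18151 F166119) (tt N21235 (iv F172409)) (tt N21024 (iv F171465)) (tt N21370 D37297))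
theorem Q19857 : ∀ i, i < 19857 → P i := stepQ 19856 Q19856 (allL N19856 (tt N21347 (iv F172939)) (tt N18208 F166120) (tt N19856 F166121) (tt N21368 (iv F173008)) (tt N21370 (iv F173015)) (tt N18148 F166122) (tt N18152 F166123) (tt N21360 (iv F172991)) (tt N20577 (iv F168938)) (tt N18147 (iv D35783)))
theorem Q19858 : ∀ i, i < 19858 → P i := stepQ 19857 Q19857 (allL N19857 (tt N21348 (iv F172944)) (tt N18223 F166124) (tt N21268 (iv F172583)) (tt N21371 D37298) (tt N18149 (iv D35784)) (tt N21266 (iv F172573)) (tt N21367 (iv F173006)) (tt N19857 F166125) (tt N21264 (iv F172565)) (tt N21372 D37299))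
theorem Q19859 : ∀ i, i < 19859 → P i := stepQ 19858 Q19858 (allL N19858 (tt N21349 (iv F172948)) (tt N18224 F166126) (tt N21270 (iv F172592)) (tt N18152 F166127) (tt N21372 (iv F173021)) (tt N18150 F166128) (tt N21368 (iv F173010)) (tt N19858 F166129) (tt N20563 (iv F168862)) (tt N18149 (iv D35785)))
theorem Q19860 : ∀ i, i < 19860 → P i := stepQ 19859 Q19859 (allL N19859 (tt N21339 (iv F172907)) (tt N18225 F166130) (tt N21373 D37300) (tt N18151 (iv D35786)) (tt N21371 (iv F173018)) (tt N18155 F166131) (tt N21369 (iv F173012)) (tt N19859 F166132) (tt N21265 (iv F172569)) (tt N21374 D37301))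
theorem Q19861 : ∀ i, i < 19861 → P i := stepQ 19860 Q19860 (allL N19860 (tt N21244 (iv F172449)) (tt N18226 F166133) (tt N19860 F166134) (tt N21374 (iv F173027)) (tt N18152 F166135) (tt N18156 F166136) (tt N21370 (iv F173016)) (tt N19860 F166137) (tt N20575 (iv F168928)) (tt N18151 (iv D35787)))
theorem Q19862 : ∀ i, i < 19862 → P i := stepQ 19861 Q19861 (allL N19861 (tt N18582 F166138) (tt N18235 F166139) (tt N21283 (iv F172674)) (tt N18153 (iv D35788)) (tt N18155 F166140) (tt N21276 (iv F172622)) (tt N18581 F166141) (tt N19861 F166142) (tt N19861 F166143) (tt N21279 F172650))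
theorem Q19863 : ∀ i, i < 19863 → P i := stepQ 19862 Q19862 (allL N19862 (tt N18576 F166144) (tt N18236 F166145) (tt N18816 F166146) (tt N21279 (iv F172646)) (tt N18154 F166147) (tt N21246 (iv F172465)) (tt N18574 F166148) (tt N19862 F166149) (tt N18814 (iv F166150)) (tt N18153 (iv D35789)))
theorem Q19864 : ∀ i, i < 19864 → P i := stepQ 19863 Q19863 (allL N19863 (tt N18577 F166151) (tt N18237 F166152) (tt N18815 F166153) (tt N18157 F166154) (tt N18814 F166155) (tt N18281 F166156) (tt N18575 F166157) (tt N19863 F166158) (tt N18154 (iv D35790)) (tt N19863 F166159))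
theorem Q19865 : ∀ i, i < 19865 → P i := stepQ 19864 Q19864 (allL N19864 (tt N21338 (iv F172899)) (tt N21292 (iv F172728)) (tt N18155 (iv D35791)) (tt N19864 F166160) (tt N21283 (iv F172676)) (tt N21373 (iv F173024)) (tt N21282 (iv F172669)) (tt N19864 F166161) (tt N19864 F166162) (tt N21280 F172658))
theorem Q19866 : ∀ i, i < 19866 → P i := stepQ 19865 Q19865 (allL N19865 (tt N21243 (iv F172441)) (tt N18239 F166163) (tt N21280 (iv F172653)) (tt N18156 F166164) (tt N21279 (iv F172647)) (tt N21374 (iv F173028)) (tt N21242 F172440) (tt N19865 F166165) (tt N21278 (iv F172641)) (tt N18155 (iv D35792)))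
theorem Q19867 : ∀ i, i < 19867 → P i := stepQ 19866 Q19866 (allL N19866 (tt N18819 F166166) (tt N18240 F166167) (tt N19866 F166168) (tt N21278 (iv F172637)) (tt N18157 F166169) (tt N20582 (iv F168974)) (tt N18818 F166170) (tt N19866 F166171) (tt N18156 (iv D35793)) (tt N19866 F166172))
theorem Q19868 : ∀ i, i < 19868 → P i := stepQ 19867 Q19867 (allL N19867 (tt N20986 (iv F171255)) (tt N18160 F166173) (tt N20456 (iv F168197)) (tt N21375 D37302) (tt N18158 (iv D35794)) (tt N18170 F166174) (tt N18624 F166175) (tt N21376 D37303) (tt N20792 (iv F170170)) (tt N20601 (iv F169106)))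
theorem Q19869 : ∀ i, i < 19869 → P i := stepQ 19868 Q19868 (allL N19868 (tt N21286 (iv F172688)) (tt N18161 F166176) (tt N20461 (iv F168232)) (tt N19868 F166177) (tt N21376 (iv F173036)) (tt N18159 F166178) (tt N21377 D37304) (tt N18158 (iv D35795)) (tt N20819 (iv F170301)) (tt N20602 (iv F169114)))
theorem Q19870 : ∀ i, i < 19870 → P i := stepQ 19869 Q19869 (allL N19869 (tt N20507 (iv F168530)) (tt N21375 (iv F173030)) (tt N20939 (iv F171011)) (tt N18160 (iv D35796)) (tt N19869 F166179) (tt N18173 F166180) (tt N18626 F166181) (tt N21378 D37305) (tt N21379 D37306) (tt N20603 (iv F169122)))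
theorem Q19871 : ∀ i, i < 19871 → P i := stepQ 19870 Q19870 (allL N19870 (tt N20508 (iv F168537)) (tt N21376 (iv F173035)) (tt N18163 F166182) (tt N21378 (iv F173042)) (tt N18161 F166183) (tt N18174 F166184) (tt N21380 D37307) (tt N18160 (iv D35797)) (tt N21381 D37308) (tt N20604 (iv F169128)))
theorem Q19872 : ∀ i, i < 19872 → P i := stepQ 19871 Q19871 (allL N19871 (tt N20509 (iv F168543)) (tt N20792 (iv F170167)) (tt N18164 F166185) (tt N21379 (iv F173045)) (tt N18162 F166186) (tt N21382 D37309) (tt N18628 F166187) (tt N21381 (iv F173053)) (tt N18160 (iv D35798)) (tt N21383 D37310))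
theorem Q19873 : ∀ i, i < 19873 → P i := stepQ 19872 Q19872 (allL N19872 (tt N20510 (iv F168548)) (tt N21377 (iv F173038)) (tt N18165 F166188) (tt N19872 F166189) (tt N21380 (iv F173049)) (tt N20614 (iv F169194)) (tt N18161 (iv D35799)) (tt N18629 F166190) (tt N21384 D37311) (tt N20605 (iv F169135)))
theorem Q19874 : ∀ i, i < 19874 → P i := stepQ 19873 Q19873 (allL N19873 (tt N20511 (iv F168555)) (tt N20819 (iv F170297)) (tt N18166 F166191) (tt N19873 F166192) (tt N21381 (iv F173052)) (tt N19873 F166193) (tt N21384 (iv F173063)) (tt N18162 F166194) (tt N18161 (iv D35800)) (tt N21385 D37312))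
theorem Q19875 : ∀ i, i < 19875 → P i := stepQ 19874 Q19874 (allL N19874 (tt N20512 (iv F168561)) (tt N20820 (iv F170303)) (tt N18167 F166195) (tt N19874 F166196) (tt N21383 (iv F173058)) (tt N19874 F166197) (tt N18631 F166198) (tt N21385 (iv F173068)) (tt N18251 F166199) (tt N18162 (iv D35801)))
theorem Q19876 : ∀ i, i < 19876 → P i := stepQ 19875 Q19875 (allL N19875 (tt N20513 (iv F168568)) (tt N20670 (iv F169526)) (tt N21380 (iv F173048)) (tt N20944 (iv F171043)) (tt N18165 F166200) (tt N21386 D37313) (tt N18163 (iv D35802)) (tt N18632 F166201) (tt N21387 D37314) (tt N20606 (iv F169141)))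
theorem Q19877 : ∀ i, i < 19877 → P i := stepQ 19876 Q19876 (allL N19876 (tt N20514 (iv F168574)) (tt N20671 (iv F169532)) (tt N21381 (iv F173051)) (tt N20945 (iv F171049)) (tt N18166 F166202) (tt N21388 D37315) (tt N21387 (iv F173073)) (tt N18164 F166203) (tt N18163 (iv D35803)) (tt N21389 D37316))
theorem Q19878 : ∀ i, i < 19878 → P i := stepQ 19877 Q19877 (allL N19877 (tt N20515 (iv F168579)) (tt N20672 (iv F169538)) (tt N21382 (iv F173054)) (tt N20946 (iv F171056)) (tt N19877 F166204) (tt N18164 (iv D35804)) (tt N21390 D37317) (tt N21388 (iv F173076)) (tt N18180 F166205) (tt N21012 (iv F171410)))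
theorem Q19879 : ∀ i, i < 19879 → P i := stepQ 19878 Q19878 (allL N19878 (tt N20516 (iv F168584)) (tt N18192 F166206) (tt N21383 (iv F173057)) (tt N18188 F166207) (tt N18167 F166208) (tt N21012 (iv F171409)) (tt N18635 F166209) (tt N21389 (iv F173081)) (tt N18186 F166210) (tt N18164 (iv D35805)))
theorem Q19880 : ∀ i, i < 19880 → P i := stepQ 19879 Q19879 (allL N19879 (tt N20517 (iv F168590)) (tt N20673 (iv F169544)) (tt N21384 (iv F173061)) (tt N18168 F166211) (tt N21387 (iv F173072)) (tt N21391 D37318) (tt N18166 F166212) (tt N18636 F166213) (tt N18165 (iv D35806)) (tt N21392 D37319))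
theorem Q19881 : ∀ i, i < 19881 → P i := stepQ 19880 Q19880 (allL N19880 (tt N20518 (iv F168595)) (tt N18256 F166214) (tt N21385 (iv F173065)) (tt N18169 F166215) (tt N21389 (iv F173080)) (tt N19880 F166216) (tt N21392 (iv F173091)) (tt N18167 F166217) (tt N18252 F166218) (tt N18166 (iv D35807)))
theorem Q19882 : ∀ i, i < 19882 → P i := stepQ 19881 Q19881 (allL N19881 (tt N20519 (iv F168601)) (tt N20674 (iv F169550)) (tt N19881 F166219) (tt N21391 (iv F173086)) (tt N21393 D37320) (tt N18168 (iv D35808)) (tt N19881 F166220) (tt N18638 F166221) (tt N20623 (iv F169248)) (tt N21394 D37321))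
theorem Q19883 : ∀ i, i < 19883 → P i := stepQ 19882 Q19882 (allL N19882 (tt N20520 (iv F168607)) (tt N18258 F166222) (tt N19882 F166223) (tt N21392 (iv F173090)) (tt N18254 F166224) (tt N21394 (iv F173099)) (tt N18169 F166225) (tt N18639 F166226) (tt N18253 F166227) (tt N18168 (iv D35809)))
theorem Q19884 : ∀ i, i < 19884 → P i := stepQ 19883 Q19883 (allL N19883 (tt N20620 (iv F169226)) (tt N18173 F166228) (tt N21395 D37322) (tt N18170 (iv D35810)) (tt N18241 F166229) (tt N21375 (iv F173032)) (tt N18186 F166230) (tt N21396 D37323) (tt N18635 (iv F166232)) (tt N18620 F166231))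
theorem Q19885 : ∀ i, i < 19885 → P i := stepQ 19884 Q19884 (allL N19884 (tt N20984 (iv F171245)) (tt N18174 F166233) (tt N21350 (iv F172955)) (tt N21396 (iv F173107)) (tt N18171 F166234) (tt N21376 (iv F173037)) (tt N21397 D37324) (tt N18170 (iv D35811)) (tt N21398 D37325) (tt N20921 F170896))
theorem Q19886 : ∀ i, i < 19886 → P i := stepQ 19885 Q19885 (allL N19885 (tt N20662 (iv F169475)) (tt N18175 F166235) (tt N21021 (iv F171449)) (tt N18635 F166236) (tt N18172 F166237) (tt N21399 D37326) (tt N18188 F166238) (tt N21398 (iv F173117)) (tt N18170 (iv D35812)) (tt N18365 F166239))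
theorem Q19887 : ∀ i, i < 19887 → P i := stepQ 19886 Q19886 (allL N19886 (tt N20988 (iv F171269)) (tt N18176 F166240) (tt N21351 (iv F172958)) (tt N18243 F166241) (tt N21397 (iv F173112)) (tt N18726 F166242) (tt N18171 (iv D35813)) (tt N18189 F166243) (tt N21400 D37327) (tt N20922 F170903))
theorem Q19888 : ∀ i, i < 19888 → P i := stepQ 19887 Q19887 (allL N19887 (tt N20664 (iv F169486)) (tt N18177 F166244) (tt N21263 (iv F172558)) (tt N18244 F166245) (tt N21398 (iv F173116)) (tt N19887 F166246) (tt N21400 (iv F173125)) (tt N18172 F166247) (tt N18171 (iv D35814)) (tt N18367 F166248))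
theorem Q19889 : ∀ i, i < 19889 → P i := stepQ 19888 Q19888 (allL N19888 (tt N20521 (iv F168614)) (tt N21396 (iv F173106)) (tt N21192 (iv F172169)) (tt N18174 F166249) (tt N18245 F166250) (tt N21378 (iv F173044)) (tt N21401 D37328) (tt N18173 (iv D35815)) (tt N20738 (iv F169907)) (tt N20732 F169875))
theorem Q19890 : ∀ i, i < 19890 → P i := stepQ 19889 Q19889 (allL N19889 (tt N20522 (iv F168621)) (tt N21397 (iv F173111)) (tt N18178 F166251) (tt N21401 (iv F173128)) (tt N18176 F166252) (tt N21402 D37329) (tt N18174 (iv D35816)) (tt N18193 F166253) (tt N21403 D37330) (tt N21075 (iv F171673)))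
theorem Q19891 : ∀ i, i < 19891 → P i := stepQ 19890 Q19890 (allL N19890 (tt N20523 (iv F168627)) (tt N21398 (iv F173114)) (tt N18179 F166254) (tt N20738 (iv F169904)) (tt N18177 F166255) (tt N21404 D37331) (tt N21403 (iv F173135)) (tt N18175 F166256) (tt N18174 (iv D35817)) (tt N20725 (iv F169832)))
theorem Q19892 : ∀ i, i < 19892 → P i := stepQ 19891 Q19891 (allL N19891 (tt N20524 (iv F168634)) (tt N21399 (iv F173119)) (tt N18180 F166257) (tt N20629 (iv F169280)) (tt N19891 F166258) (tt N18175 (iv D35818)) (tt N21405 D37332) (tt N21404 (iv F173139)) (tt N21382 (iv F173056)) (tt N20626 F169267))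
theorem Q19893 : ∀ i, i < 19893 → P i := stepQ 19892 Q19892 (allL N19892 (tt N20525 (iv F168640)) (tt N21400 (iv F173123)) (tt N18182 F166259) (tt N18247 F166260) (tt N21403 (iv F173134)) (tt N21406 D37333) (tt N18177 F166261) (tt N18197 F166262) (tt N18176 (iv D35819)) (tt N20726 (iv F169839)))
theorem Q19894 : ∀ i, i < 19894 → P i := stepQ 19893 Q19893 (allL N19893 (tt N20526 (iv F168647)) (tt N21354 (iv F172967)) (tt N21402 (iv F173131)) (tt N21317 (iv F172829)) (tt N21086 (iv F171732)) (tt N18178 (iv D35820)) (tt N21386 (iv F173070)) (tt N18199 F166263) (tt N21407 D37334) (tt N21076 (iv F171677)))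
theorem Q19895 : ∀ i, i < 19895 → P i := stepQ 19894 Q19894 (allL N19894 (tt N20527 (iv F168653)) (tt N21355 (iv F172969)) (tt N21403 (iv F173133)) (tt N21184 (iv F172149)) (tt N18182 F166264) (tt N21408 D37335) (tt N18179 F166265) (tt N18200 F166266) (tt N18178 (iv D35821)) (tt N21409 D37336))
theorem Q19896 : ∀ i, i < 19896 → P i := stepQ 19895 Q19895 (allL N19895 (tt N20528 (iv F168659)) (tt N21356 (iv F172973)) (tt N21404 (iv F173137)) (tt N21039 (iv F171526)) (tt N19895 F166267) (tt N18179 (iv D35822)) (tt N21410 D37337) (tt N18180 F166268) (tt N21388 (iv F173077)) (tt N21035 F171513))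
theorem Q19897 : ∀ i, i < 19897 → P i := stepQ 19896 Q19896 (allL N19896 (tt N20529 (iv F168664)) (tt N21357 (iv F172976)) (tt N20725 (iv F169828)) (tt N21038 (iv F171520)) (tt N18183 F166269) (tt N21035 (iv F171511)) (tt N21409 (iv F173150)) (tt N18181 F166270) (tt N20722 (iv F169811)) (tt N18179 (iv D35823)))
theorem Q19898 : ∀ i, i < 19898 → P i := stepQ 19897 Q19897 (allL N19897 (tt N20530 (iv F168671)) (tt N21082 (iv F171707)) (tt N21405 (iv F173140)) (tt N20978 (iv F171223)) (tt N19897 F166271) (tt N18203 F166272) (tt N18180 (iv D35824)) (tt N21411 D37338) (tt N21390 (iv F173085)) (tt N20974 F171207))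
theorem Q19899 : ∀ i, i < 19899 → P i := stepQ 19898 Q19898 (allL N19898 (tt N20532 (iv F168683)) (tt N21358 (iv F172979)) (tt N21406 (iv F173143)) (tt N18184 F166273) (tt N21412 D37339) (tt N18182 (iv D35825)) (tt N19898 F166274) (tt N18205 F166275) (tt N21092 (iv F171757)) (tt N21413 D37340))
theorem Q19900 : ∀ i, i < 19900 → P i := stepQ 19899 Q19899 (allL N19899 (tt N20533 (iv F168689)) (tt N21359 (iv F172983)) (tt N20726 (iv F169835)) (tt N18185 F166276) (tt N21409 (iv F173149)) (tt N21413 (iv F173158)) (tt N18183 F166277) (tt N18206 F166278) (tt N20723 (iv F169818)) (tt N18182 (iv D35826)))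
theorem Q19901 : ∀ i, i < 19901 → P i := stepQ 19900 Q19900 (allL N19900 (tt N20534 (iv F168696)) (tt N21360 (iv F172987)) (tt N18250 F166279) (tt N21413 (iv F173157)) (tt N21241 (iv F172429)) (tt N18185 F166280) (tt N19900 F166281) (tt N18208 F166282) (tt N21219 (iv F172327)) (tt N18184 (iv D35827)))
theorem Q19902 : ∀ i, i < 19902 → P i := stepQ 19901 Q19901 (allL N19901 (tt N20629 (iv F169277)) (tt N21319 (iv F172836)) (tt N18186 (iv D35828)) (tt N20524 (iv F168637)) (tt N18251 F166283) (tt N18405 F166284) (tt N21395 (iv F173103)) (tt N21414 D37341) (tt N21383 (iv F173060)) (tt N18404 F166285))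
theorem Q19903 : ∀ i, i < 19903 → P i := stepQ 19902 Q19902 (allL N19902 (tt N20635 (iv F169310)) (tt N18191 F166286) (tt N21414 (iv F173161)) (tt N18187 F166287) (tt N18252 F166288) (tt N18705 F166289) (tt N21415 D37342) (tt N18186 (iv D35829)) (tt N21389 (iv F173082)) (tt N20607 F169149))
theorem Q19904 : ∀ i, i < 19904 → P i := stepQ 19903 Q19903 (allL N19903 (tt N21043 (iv F171537)) (tt N18193 F166290) (tt N21361 (iv F172993)) (tt N21415 (iv F173166)) (tt N18189 F166291) (tt N21416 D37343) (tt N18187 (iv D35830)) (tt N21397 (iv F173113)) (tt N21417 D37344) (tt N20957 F171112))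
theorem Q19905 : ∀ i, i < 19905 → P i := stepQ 19904 Q19904 (allL N19904 (tt N21020 (iv F171443)) (tt N18194 F166292) (tt N21019 (iv F171439)) (tt N21389 (iv F173079)) (tt N18190 F166293) (tt N21014 (iv F171418)) (tt N21417 (iv F173173)) (tt N18188 F166294) (tt N18187 (iv D35831)) (tt N20945 (iv F171052)))
theorem Q19906 : ∀ i, i < 19906 → P i := stepQ 19905 Q19905 (allL N19905 (tt N21023 (iv F171457)) (tt N18197 F166295) (tt N21262 (iv F172554)) (tt N18254 F166296) (tt N21417 (iv F173172)) (tt N21418 D37345) (tt N18190 F166297) (tt N21400 (iv F173126)) (tt N18189 (iv D35832)) (tt N20947 (iv F171065)))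
theorem Q19907 : ∀ i, i < 19907 → P i := stepQ 19906 Q19906 (allL N19906 (tt N20535 (iv F168704)) (tt N21415 (iv F173165)) (tt N21322 (iv F172847)) (tt N18193 F166298) (tt N18255 F166299) (tt N21419 D37346) (tt N18191 (iv D35833)) (tt N21401 (iv F173130)) (tt N21420 D37347) (tt N21136 (iv F171953)))
theorem Q19908 : ∀ i, i < 19908 → P i := stepQ 19907 Q19907 (allL N19907 (tt N20536 (iv F168709)) (tt N21389 (iv F173078)) (tt N21304 (iv F172781)) (tt N18194 F166300) (tt N18256 F166301) (tt N21421 D37348) (tt N21420 (iv F173182)) (tt N18192 F166302) (tt N18191 (iv D35834)) (tt N20671 (iv F169536)))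
theorem Q19909 : ∀ i, i < 19909 → P i := stepQ 19908 Q19908 (allL N19908 (tt N20537 (iv F168716)) (tt N21012 (iv F171406)) (tt N21305 (iv F172786)) (tt N18195 F166303) (tt N19908 F166304) (tt N18192 (iv D35835)) (tt N21422 D37349) (tt N21421 (iv F173185)) (tt N18709 F166305) (tt N20672 (iv F169542)))
theorem Q19910 : ∀ i, i < 19910 → P i := stepQ 19909 Q19909 (allL N19909 (tt N20538 (iv F168723)) (tt N21416 (iv F173168)) (tt N18199 F166306) (tt N21419 (iv F173178)) (tt N21147 (iv F172005)) (tt N18193 (iv D35836)) (tt N18711 F166307) (tt N21402 (iv F173132)) (tt N21423 D37350) (tt N21137 (iv F171958)))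
theorem Q19911 : ∀ i, i < 19911 → P i := stepQ 19910 Q19910 (allL N19910 (tt N20539 (iv F168729)) (tt N21417 (iv F173171)) (tt N18200 F166308) (tt N21420 (iv F173180)) (tt N18197 F166309) (tt N21424 D37351) (tt N18194 F166310) (tt N21403 (iv F173136)) (tt N18193 (iv D35837)) (tt N21425 D37352))
theorem Q19912 : ∀ i, i < 19912 → P i := stepQ 19911 Q19911 (allL N19911 (tt N20540 (iv F168735)) (tt N21014 (iv F171415)) (tt N18201 F166311) (tt N21421 (iv F173183)) (tt N18211 F166312) (tt N18194 (iv D35838)) (tt N21426 D37353) (tt N18195 F166313) (tt N18713 F166314) (tt N21427 D37354))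
theorem Q19913 : ∀ i, i < 19913 → P i := stepQ 19912 Q19912 (allL N19912 (tt N18607 F166315) (tt N20945 (iv F171048)) (tt N18202 F166316) (tt N20671 (iv F169533)) (tt N18198 F166317) (tt N21427 (iv F173204)) (tt N21425 (iv F173196)) (tt N18196 F166318) (tt N18586 F166319) (tt N18194 (iv D35839)))
theorem Q19914 : ∀ i, i < 19914 → P i := stepQ 19913 Q19913 (allL N19913 (tt N20541 (iv F168742)) (tt N20655 (iv F169435)) (tt N18203 F166320) (tt N21422 (iv F173187)) (tt N18213 F166321) (tt N21405 (iv F173142)) (tt N18195 (iv D35840)) (tt N21428 D37355) (tt N18715 F166322) (tt N21429 D37356))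
theorem Q19915 : ∀ i, i < 19915 → P i := stepQ 19914 Q19914 (allL N19914 (tt N18608 F166323) (tt N20946 (iv F171054)) (tt N18204 F166324) (tt N20672 (iv F169539)) (tt N18214 F166325) (tt N18196 F166326) (tt N21429 (iv F173212)) (tt N21427 (iv F173205)) (tt N20932 (iv F170965)) (tt N18195 (iv D35841)))
theorem Q19916 : ∀ i, i < 19916 → P i := stepQ 19915 Q19915 (allL N19915 (tt N20542 (iv F168748)) (tt N21418 (iv F173174)) (tt N18205 F166327) (tt N18259 F166328) (tt N21430 D37357) (tt N18197 (iv D35842)) (tt N18215 F166329) (tt N21406 (iv F173146)) (tt N21150 (iv F172025)) (tt N21431 D37358))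
theorem Q19917 : ∀ i, i < 19917 → P i := stepQ 19916 Q19916 (allL N19916 (tt N18609 F166330) (tt N20947 (iv F171061)) (tt N18206 F166331) (tt N18260 F166332) (tt N21425 (iv F173195)) (tt N21431 (iv F173218)) (tt N18198 F166333) (tt N20726 (iv F169838)) (tt N18587 F166334) (tt N18197 (iv D35843)))
theorem Q19918 : ∀ i, i < 19918 → P i := stepQ 19917 Q19917 (allL N19917 (tt N20543 (iv F168755)) (tt N21364 (iv F172999)) (tt N21423 (iv F173190)) (tt N21324 (iv F172852)) (tt N21152 (iv F172033)) (tt N21432 D37359) (tt N18717 F166335) (tt N21407 (iv F173147)) (tt N18199 (iv D35844)) (tt N21433 D37360))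
theorem Q19919 : ∀ i, i < 19919 → P i := stepQ 19918 Q19918 (allL N19918 (tt N20544 (iv F168758)) (tt N21365 (iv F173001)) (tt N21424 (iv F173192)) (tt N21325 (iv F172854)) (tt N21434 D37361) (tt N18200 (iv D35845)) (tt N21435 D37362) (tt N21408 (iv F173148)) (tt N21432 (iv F173220)) (tt N21436 D37363))
theorem Q19920 : ∀ i, i < 19920 → P i := stepQ 19919 Q19919 (allL N19919 (tt N20545 (iv F168759)) (tt N21366 (iv F173002)) (tt N21425 (iv F173194)) (tt N21326 (iv F172855)) (tt N18206 F166336) (tt N21436 (iv F173224)) (tt N18202 F166337) (tt N21409 (iv F173151)) (tt N21140 (iv F171968)) (tt N18200 (iv D35846)))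
theorem Q19921 : ∀ i, i < 19921 → P i := stepQ 19920 Q19920 (allL N19920 (tt N20546 (iv F168764)) (tt N21148 (iv F172009)) (tt N21426 (iv F173198)) (tt N21327 (iv F172858)) (tt N18219 F166338) (tt N21435 (iv F173223)) (tt N18201 (iv D35847)) (tt N21437 D37364) (tt N18720 F166339) (tt N21438 D37365))
theorem Q19922 : ∀ i, i < 19922 → P i := stepQ 19921 Q19921 (allL N19921 (tt N20547 (iv F168767)) (tt N21149 (iv F172014)) (tt N21427 (iv F173202)) (tt N21328 (iv F172861)) (tt N18220 F166340) (tt N18202 F166341) (tt N21438 (iv F173229)) (tt N18204 F166342) (tt N21171 (iv F172104)) (tt N18201 (iv D35848)))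
theorem Q19923 : ∀ i, i < 19923 → P i := stepQ 19922 Q19922 (allL N19922 (tt N20548 (iv F168772)) (tt N21081 (iv F171702)) (tt N21428 (iv F173206)) (tt N21329 (iv F172865)) (tt N18221 F166343) (tt N21411 (iv F173154)) (tt N21437 (iv F173226)) (tt N18203 (iv D35849)) (tt N18721 F166344) (tt N21439 D37366))
theorem Q19924 : ∀ i, i < 19924 → P i := stepQ 19923 Q19923 (allL N19923 (tt N20549 (iv F168775)) (tt N21083 (iv F171712)) (tt N21429 (iv F173210)) (tt N20977 (iv F171217)) (tt N18222 F166345) (tt N20974 F171206) (tt N18204 F166346) (tt N21439 (iv F173231)) (tt N21102 (iv F171806)) (tt N18203 (iv D35850)))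
theorem Q19925 : ∀ i, i < 19925 → P i := stepQ 19924 Q19924 (allL N19924 (tt N20550 (iv F168782)) (tt N21367 (iv F173005)) (tt N21430 (iv F173213)) (tt N21440 D37367) (tt N18205 (iv D35851)) (tt N21434 (iv F173222)) (tt N18223 F166347) (tt N21412 (iv F173156)) (tt N21159 (iv F172061)) (tt N21441 D37368))
theorem Q19926 : ∀ i, i < 19926 → P i := stepQ 19925 Q19925 (allL N19925 (tt N20551 (iv F168785)) (tt N21368 (iv F173007)) (tt N21431 (iv F173216)) (tt N18208 F166348) (tt N21441 (iv F173234)) (tt N18206 F166349) (tt N18224 F166350) (tt N21413 (iv F173160)) (tt N21442 D37369) (tt N18205 (iv D35852)))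
theorem Q19927 : ∀ i, i < 19927 → P i := stepQ 19926 Q19926 (allL N19926 (tt N20552 (iv F168790)) (tt N21369 (iv F173011)) (tt N21443 D37370) (tt N18207 (iv D35853)) (tt N21440 (iv F173232)) (tt N21212 F172289) (tt N18225 F166351) (tt N21239 (iv F172423)) (tt N21161 (iv F172068)) (tt N21444 D37371))
theorem Q19928 : ∀ i, i < 19928 → P i := stepQ 19927 Q19927 (allL N19927 (tt N20553 (iv F168795)) (tt N21370 (iv F173013)) (tt N18266 F166352) (tt N21444 (iv F173240)) (tt N18208 F166353) (tt N21214 (iv F172299)) (tt N18226 F166354) (tt N21241 (iv F172432)) (tt N20882 F170671) (tt N18207 (iv D35854)))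
theorem Q19929 : ∀ i, i < 19929 → P i := stepQ 19928 Q19928 (allL N19928 (tt N20554 (iv F168803)) (tt N20577 (iv F168934)) (tt N18267 F166355) (tt N21442 (iv F173236)) (tt N20882 (iv F170668)) (tt N20506 (iv F168526)) (tt N18227 F166356) (tt N21219 (iv F172326)) (tt N18208 (iv D35855)) (tt N20504 (iv F168514)))
theorem Q19930 : ∀ i, i < 19930 → P i := stepQ 19929 Q19929 (allL N19929 (tt N20560 (iv F168844)) (tt N18215 F166357) (tt N21261 (iv F172548)) (tt N18228 F166358) (tt N21445 D37372) (tt N18209 (iv D35856)) (tt N21418 (iv F173176)) (tt N19929 F166359) (tt N18217 F166360) (tt N21258 (iv F172533)))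
theorem Q19931 : ∀ i, i < 19931 → P i := stepQ 19930 Q19930 (allL N19930 (tt N20556 (iv F168819)) (tt N21260 (iv F172542)) (tt N18217 F166361) (tt N19930 F166362) (tt N21446 D37373) (tt N18210 (iv D35857)) (tt N21447 D37374) (tt N19930 F166363) (tt N21261 (iv F172551)) (tt N21448 D37375))
theorem Q19932 : ∀ i, i < 19932 → P i := stepQ 19931 Q19931 (allL N19931 (tt N18776 F166364) (tt N20555 (iv F168812)) (tt N18218 F166365) (tt N19931 F166366) (tt N18216 F166367) (tt N21448 (iv F173254)) (tt N18212 F166368) (tt N19931 F166369) (tt N18282 F166370) (tt N18210 (iv D35858)))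
theorem Q19933 : ∀ i, i < 19933 → P i := stepQ 19932 Q19932 (allL N19932 (tt N20557 (iv F168825)) (tt N21015 (iv F171420)) (tt N18219 F166371) (tt N19932 F166372) (tt N21426 (iv F173199)) (tt N21447 (iv F173250)) (tt N18211 (iv D35859)) (tt N21449 D37376) (tt N18724 F166373) (tt N21450 D37377))
theorem Q19934 : ∀ i, i < 19934 → P i := stepQ 19933 Q19933 (allL N19933 (tt N18777 F166374) (tt N21016 (iv F171425)) (tt N18220 F166375) (tt N19933 F166376) (tt N21427 (iv F173203)) (tt N18212 F166377) (tt N21450 (iv F173264)) (tt N18214 F166378) (tt N20958 (iv F171118)) (tt N18211 (iv D35860)))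
theorem Q19935 : ∀ i, i < 19935 → P i := stepQ 19934 Q19934 (allL N19934 (tt N20558 (iv F168831)) (tt N20657 (iv F169447)) (tt N18221 F166379) (tt N19934 F166380) (tt N21428 (iv F173207)) (tt N19934 F166381) (tt N21449 (iv F173259)) (tt N18213 (iv D35861)) (tt N18725 F166382) (tt N21451 D37378))
theorem Q19936 : ∀ i, i < 19936 → P i := stepQ 19935 Q19935 (allL N19935 (tt N18778 F166383) (tt N20658 (iv F169453)) (tt N18222 F166384) (tt N19935 F166385) (tt N21429 (iv F173211)) (tt N19935 F166386) (tt N18214 F166387) (tt N21451 (iv F173269)) (tt N20959 (iv F171125)) (tt N18213 (iv D35862)))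
theorem Q19937 : ∀ i, i < 19937 → P i := stepQ 19936 Q19936 (allL N19936 (tt N20559 (iv F168838)) (tt N21445 (iv F173242)) (tt N18223 F166388) (tt N21452 D37379) (tt N18215 (iv D35863)) (tt N21446 (iv F173246)) (tt N21430 (iv F173214)) (tt N19936 F166389) (tt N21266 (iv F172575)) (tt N21453 D37380))
theorem Q19938 : ∀ i, i < 19938 → P i := stepQ 19937 Q19937 (allL N19937 (tt N18779 F166390) (tt N21258 (iv F172528)) (tt N18224 F166391) (tt N18269 F166392) (tt N21453 (iv F173274)) (tt N18216 F166393) (tt N21431 (iv F173219)) (tt N19937 F166394) (tt N20483 (iv F168386)) (tt N18215 (iv D35864)))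
theorem Q19939 : ∀ i, i < 19939 → P i := stepQ 19938 Q19938 (allL N19938 (tt N20561 (iv F168850)) (tt N21266 (iv F172571)) (tt N21446 (iv F173245)) (tt N21454 D37381) (tt N18217 (iv D35865)) (tt N18223 F166395) (tt N21455 D37382) (tt N19938 F166396) (tt N21445 (iv F173244)) (tt N21456 D37383))
theorem Q19940 : ∀ i, i < 19940 → P i := stepQ 19939 Q19939 (allL N19939 (tt N20562 (iv F168853)) (tt N21150 (iv F172021)) (tt N21447 (iv F173248)) (tt N18230 F166397) (tt N21455 (iv F173279)) (tt N18219 F166398) (tt N18217 (iv D35866)) (tt N21457 D37384) (tt N21418 (iv F173177)) (tt N21458 D37385))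
theorem Q19941 : ∀ i, i < 19941 → P i := stepQ 19940 Q19940 (allL N19940 (tt N20563 (iv F168856)) (tt N21267 (iv F172577)) (tt N21448 (iv F173252)) (tt N18231 F166399) (tt N21456 (iv F173280)) (tt N18218 F166400) (tt N21458 (iv F173288)) (tt N19940 F166401) (tt N21349 (iv F172953)) (tt N18217 (iv D35867)))
theorem Q19942 : ∀ i, i < 19942 → P i := stepQ 19941 Q19941 (allL N19941 (tt N20564 (iv F168863)) (tt N21084 (iv F171719)) (tt N21449 (iv F173257)) (tt N18232 F166402) (tt N21437 (iv F173225)) (tt N21457 (iv F173284)) (tt N18221 F166403) (tt N18219 (iv D35868)) (tt N18726 F166404) (tt N21459 D37386))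
theorem Q19943 : ∀ i, i < 19943 → P i := stepQ 19942 Q19942 (allL N19942 (tt N20565 (iv F168867)) (tt N21151 (iv F172027)) (tt N21450 (iv F173262)) (tt N18233 F166405) (tt N21438 (iv F173228)) (tt N21458 (iv F173287)) (tt N18220 F166406) (tt N21459 (iv F173291)) (tt N21173 (iv F172115)) (tt N18219 (iv D35869)))
theorem Q19944 : ∀ i, i < 19944 → P i := stepQ 19943 Q19943 (allL N19943 (tt N20566 (iv F168871)) (tt N21085 (iv F171725)) (tt N21451 (iv F173266)) (tt N18234 F166407) (tt N21439 (iv F173230)) (tt N19943 F166408) (tt N21459 (iv F173290)) (tt N18222 F166409) (tt N21104 (iv F171818)) (tt N18221 (iv D35870)))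
theorem Q19945 : ∀ i, i < 19945 → P i := stepQ 19944 Q19944 (allL N19944 (tt N20567 (iv F168878)) (tt N21371 (iv F173017)) (tt N21460 D37387) (tt N18223 (iv D35871)) (tt N18225 F166410) (tt N21454 (iv F173277)) (tt N21440 (iv F173233)) (tt N19944 F166411) (tt N21274 (iv F172616)) (tt N21461 D37388))
theorem Q19946 : ∀ i, i < 19946 → P i := stepQ 19945 Q19945 (allL N19945 (tt N20568 (iv F168882)) (tt N21372 (iv F173020)) (tt N21453 (iv F173273)) (tt N21461 (iv F173294)) (tt N18224 F166412) (tt N21456 (iv F173281)) (tt N21441 (iv F173235)) (tt N19945 F166413) (tt N21462 D37389) (tt N18223 (iv D35872)))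
theorem Q19947 : ∀ i, i < 19947 → P i := stepQ 19946 Q19946 (allL N19946 (tt N20498 (iv F168475)) (tt N20563 (iv F168857)) (tt N20483 (iv F168383)) (tt N18227 F166414) (tt N21462 (iv F173297)) (tt N18283 F166415) (tt N21442 (iv F173237)) (tt N19946 F166416) (tt N18224 (iv D35873)) (tt N20499 (iv F168487)))
theorem Q19948 : ∀ i, i < 19948 → P i := stepQ 19947 Q19947 (allL N19947 (tt N20569 (iv F168886)) (tt N21463 D37390) (tt N18225 (iv D35874)) (tt N18271 F166417) (tt N21460 (iv F173292)) (tt N18238 F166418) (tt N21443 (iv F173239)) (tt N19947 F166419) (tt N21257 (iv F172526)) (tt N21251 F172497))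
theorem Q19949 : ∀ i, i < 19949 → P i := stepQ 19948 Q19948 (allL N19948 (tt N20570 (iv F168893)) (tt N21374 (iv F173026)) (tt N21251 (iv F172493)) (tt N18226 F166420) (tt N21461 (iv F173295)) (tt N18239 F166421) (tt N21444 (iv F173241)) (tt N19948 F166422) (tt N20909 (iv F170819)) (tt N18225 (iv D35875)))
theorem Q19950 : ∀ i, i < 19950 → P i := stepQ 19949 Q19949 (allL N19949 (tt N20571 (iv F168900)) (tt N18268 F166423) (tt N19949 F166424) (tt N21464 D37391) (tt N18228 (iv D35876)) (tt N19949 F166425) (tt N21465 D37392) (tt N19949 F166426) (tt N18229 F166427) (tt N21259 (iv F172540)))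
theorem Q19951 : ∀ i, i < 19951 → P i := stepQ 19950 Q19950 (allL N19950 (tt N20572 (iv F168907)) (tt N18259 F166428) (tt N19950 F166429) (tt N21418 (iv F173175)) (tt N21465 (iv F173309)) (tt N18254 F166430) (tt N18228 (iv D35877)) (tt N21466 D37393) (tt N18230 F166431) (tt N20948 (iv F171072)))
theorem Q19952 : ∀ i, i < 19952 → P i := stepQ 19951 Q19951 (allL N19951 (tt N20573 (iv F168913)) (tt N21276 (iv F172621)) (tt N21467 D37394) (tt N18229 (iv D35878)) (tt N21454 (iv F173276)) (tt N18235 F166432) (tt N21468 D37395) (tt N19951 F166433) (tt N21464 (iv F173306)) (tt N21469 D37396))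
theorem Q19953 : ∀ i, i < 19953 → P i := stepQ 19952 Q19952 (allL N19952 (tt N20574 (iv F168917)) (tt N21226 (iv F172365)) (tt N19952 F166434) (tt N21468 (iv F173320)) (tt N18230 F166435) (tt N20892 (iv F170735)) (tt N18229 (iv D35879)) (tt N21470 D37397) (tt N21465 (iv F173310)) (tt N21471 D37398))
theorem Q19954 : ∀ i, i < 19954 → P i := stepQ 19953 Q19953 (allL N19953 (tt N20575 (iv F168922)) (tt N21246 (iv F172462)) (tt N19953 F166436) (tt N21469 (iv F173321)) (tt N18231 F166437) (tt N18236 F166438) (tt N21471 (iv F173329)) (tt N19953 F166439) (tt N21244 (iv F172454)) (tt N18229 (iv D35880)))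
theorem Q19955 : ∀ i, i < 19955 → P i := stepQ 19954 Q19954 (allL N19954 (tt N20576 (iv F168929)) (tt N21200 (iv F172215)) (tt N19954 F166440) (tt N21457 (iv F173283)) (tt N21470 (iv F173325)) (tt N18232 F166441) (tt N19954 F166442) (tt N18230 (iv D35881)) (tt N21466 (iv F173315)) (tt N21472 D37399))
theorem Q19956 : ∀ i, i < 19956 → P i := stepQ 19955 Q19955 (allL N19955 (tt N20577 (iv F168933)) (tt N21227 (iv F172371)) (tt N19955 F166443) (tt N21458 (iv F173286)) (tt N21471 (iv F173328)) (tt N18233 F166444) (tt N18231 F166445) (tt N21472 (iv F173333)) (tt N21347 (iv F172943)) (tt N18230 (iv D35882)))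
theorem Q19957 : ∀ i, i < 19957 → P i := stepQ 19956 Q19956 (allL N19956 (tt N20578 (iv F168939)) (tt N21201 (iv F172221)) (tt N19956 F166446) (tt N21459 (iv F173289)) (tt N21332 (iv F172876)) (tt N21472 (iv F173331)) (tt N18234 F166447) (tt N18233 F166448) (tt N21210 (iv F172280)) (tt N18232 (iv D35883)))
theorem Q19958 : ∀ i, i < 19958 → P i := stepQ 19957 Q19957 (allL N19957 (tt N20580 (iv F168953)) (tt N21290 (iv F172715)) (tt N18235 (iv D35884)) (tt N19957 F166449) (tt N18238 F166450) (tt N21467 (iv F173318)) (tt N20910 F170828) (tt N19957 F166451) (tt N19957 F166452) (tt N21288 F172708))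
theorem Q19959 : ∀ i, i < 19959 → P i := stepQ 19958 Q19958 (allL N19958 (tt N20581 (iv F168961)) (tt N21279 (iv F172644)) (tt N21288 (iv F172703)) (tt N18236 F166453) (tt N18239 F166454) (tt N21469 (iv F173322)) (tt N20908 F170814) (tt N19958 F166455) (tt N21277 (iv F172632)) (tt N18235 (iv D35885)))
theorem Q19960 : ∀ i, i < 19960 → P i := stepQ 19959 Q19959 (allL N19959 (tt N20582 (iv F168969)) (tt N18814 F166456) (tt N19959 F166457) (tt N21277 (iv F172628)) (tt N18237 F166458) (tt N18819 (iv F166462)) (tt N18813 F166459) (tt N19959 F166460) (tt N18236 (iv D35886)) (tt N19959 F166461))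
theorem Q19961 : ∀ i, i < 19961 → P i := stepQ 19960 Q19960 (allL N19960 (tt N20815 (iv F170271)) (tt N18238 (iv D35887)) (tt N21292 (iv F172729)) (tt N18272 F166463) (tt N21290 (iv F172718)) (tt N21463 (iv F173300)) (tt N20813 (iv F170262)) (tt N19960 F166464) (tt N19960 F166465) (tt N18475 (iv F166466)))
theorem Q19962 : ∀ i, i < 19962 → P i := stepQ 19961 Q19961 (allL N19961 (tt N18468 F166467) (tt N18475 F166468) (tt N18239 F166469) (tt N18273 F166470) (tt N21288 (iv F172705)) (tt N21251 (iv F172495)) (tt N18463 F166471) (tt N19961 F166472) (tt N18357 (iv F166473)) (tt N18238 (iv D35888)))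
theorem Q19963 : ∀ i, i < 19963 → P i := stepQ 19962 Q19962 (allL N19962 (tt N18353 F166474) (tt N21278 (iv F172635)) (tt N18357 F166475) (tt N18240 F166476) (tt N21277 (iv F172629)) (tt N18355 (iv F166480)) (tt N18350 F166477) (tt N19962 F166478) (tt N18239 (iv D35889)) (tt N19962 F166479))
theorem Q19964 : ∀ i, i < 19964 → P i := stepQ 19963 Q19963 (allL N19963 (tt N20616 (iv F169203)) (tt N20821 (iv F170310)) (tt N18241 (iv D35890)) (tt N19963 F166481) (tt N21395 (iv F173102)) (tt N19963 F166482) (tt N18251 F166483) (tt N21473 D37400) (tt N18631 F166484) (tt N18458 F166485))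
theorem Q19965 : ∀ i, i < 19965 → P i := stepQ 19964 Q19964 (allL N19964 (tt N20622 (iv F169237)) (tt N18245 F166486) (tt N21473 (iv F173334)) (tt N18242 F166487) (tt N21396 (iv F173108)) (tt N19964 F166488) (tt N21474 D37401) (tt N18241 (iv D35891)) (tt N18637 F166489) (tt N18622 F166490))
theorem Q19966 : ∀ i, i < 19966 → P i := stepQ 19965 Q19965 (allL N19965 (tt N20624 (iv F169249)) (tt N18246 F166491) (tt N19965 F166492) (tt N21474 (iv F173340)) (tt N18243 F166493) (tt N21475 D37402) (tt N18242 (iv D35892)) (tt N18253 F166494) (tt N18639 F166495) (tt N18623 F166496))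
theorem Q19967 : ∀ i, i < 19967 → P i := stepQ 19966 Q19966 (allL N19966 (tt N20666 (iv F169498)) (tt N18247 F166497) (tt N19966 F166498) (tt N21400 (iv F173124)) (tt N18639 F166499) (tt N21466 (iv F173313)) (tt N18244 F166500) (tt N18254 F166501) (tt N18243 (iv D35893)) (tt N18368 F166502))
theorem Q19968 : ∀ i, i < 19968 → P i := stepQ 19967 Q19967 (allL N19967 (tt N20583 (iv F168978)) (tt N21474 (iv F173339)) (tt N21143 (iv F171979)) (tt N18246 F166503) (tt N21401 (iv F173129)) (tt N21476 D37403) (tt N18245 (iv D35894)) (tt N18255 F166504) (tt N20740 (iv F169919)) (tt N20733 F169881))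
theorem Q19969 : ∀ i, i < 19969 → P i := stepQ 19968 Q19968 (allL N19968 (tt N20584 (iv F168985)) (tt N21475 (iv F173344)) (tt N18248 F166505) (tt N21476 (iv F173350)) (tt N21198 (iv F172202)) (tt N18246 (iv D35895)) (tt N19968 F166506) (tt N18257 F166507) (tt N21477 D37404) (tt N20734 (iv F169889)))
theorem Q19970 : ∀ i, i < 19970 → P i := stepQ 19969 Q19969 (allL N19969 (tt N20585 (iv F168992)) (tt N21466 (iv F173311)) (tt N18249 F166508) (tt N21406 (iv F173144)) (tt N21478 D37405) (tt N18247 (iv D35896)) (tt N19969 F166509) (tt N18259 F166510) (tt N21200 (iv F172219)) (tt N20727 (iv F169846)))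
theorem Q19971 : ∀ i, i < 19971 → P i := stepQ 19970 Q19970 (allL N19970 (tt N20586 (iv F168999)) (tt N19970 F166511) (tt N21477 (iv F173353)) (tt N20871 F170608) (tt N20907 (iv F170802)) (tt N20874 (iv F170626)) (tt N19970 F166512) (tt N18261 F166513) (tt N18248 (iv D35897)) (tt N20889 (iv F170719)))
theorem Q19972 : ∀ i, i < 19972 → P i := stepQ 19971 Q19971 (allL N19971 (tt N20587 (iv F169007)) (tt N19971 F166514) (tt N21478 (iv F173356)) (tt N20889 (iv F170714)) (tt N18249 (iv D35898)) (tt N20875 (iv F170635)) (tt N19971 F166515) (tt N18263 F166516) (tt N20887 (iv F170703)) (tt N20871 (iv F170607)))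
theorem Q19973 : ∀ i, i < 19973 → P i := stepQ 19972 Q19972 (allL N19972 (tt N20631 (iv F169288)) (tt N21333 (iv F172879)) (tt N18252 F166517) (tt N19972 F166518) (tt N21414 (iv F173162)) (tt N18274 F166519) (tt N21479 D37406) (tt N18251 (iv D35899)) (tt N21385 (iv F173069)) (tt N18457 F166520))
theorem Q19974 : ∀ i, i < 19974 → P i := stepQ 19973 Q19973 (allL N19973 (tt N20638 (iv F169327)) (tt N18255 F166521) (tt N21479 (iv F173359)) (tt N18253 F166522) (tt N21415 (iv F173167)) (tt N21480 D37407) (tt N18252 (iv D35900)) (tt N21474 (iv F173341)) (tt N21392 (iv F173093)) (tt N20608 F169156))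
theorem Q19975 : ∀ i, i < 19975 → P i := stepQ 19974 Q19974 (allL N19974 (tt N20640 (iv F169338)) (tt N18257 F166523) (tt N19974 F166524) (tt N21480 (iv F173363)) (tt N18485 F166525) (tt N18253 (iv D35901)) (tt N18276 F166526) (tt N21475 (iv F173348)) (tt N21481 D37408) (tt N20609 (iv F169164)))
theorem Q19976 : ∀ i, i < 19976 → P i := stepQ 19975 Q19975 (allL N19975 (tt N20588 (iv F169015)) (tt N21480 (iv F173362)) (tt N21336 (iv F172891)) (tt N18257 F166527) (tt N21482 D37409) (tt N18255 (iv D35902)) (tt N18277 F166528) (tt N21476 (iv F173352)) (tt N21483 D37410) (tt N21220 (iv F172331)))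
theorem Q19977 : ∀ i, i < 19977 → P i := stepQ 19976 Q19976 (allL N19976 (tt N20589 (iv F169020)) (tt N21392 (iv F173089)) (tt N21120 (iv F171878)) (tt N18258 F166529) (tt N21420 (iv F173181)) (tt N21484 D37411) (tt N18256 F166530) (tt N20740 (iv F169918)) (tt N18255 (iv D35903)) (tt N20673 (iv F169548)))
theorem Q19978 : ∀ i, i < 19978 → P i := stepQ 19977 Q19977 (allL N19977 (tt N20590 (iv F169027)) (tt N21481 (iv F173365)) (tt N18261 F166531) (tt N21483 (iv F173370)) (tt N21224 (iv F172352)) (tt N21485 D37412) (tt N18278 F166532) (tt N21477 (iv F173355)) (tt N18257 (iv D35904)) (tt N21486 D37413))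
theorem Q19979 : ∀ i, i < 19979 → P i := stepQ 19978 Q19978 (allL N19978 (tt N20591 (iv F169032)) (tt N21394 (iv F173097)) (tt N18262 F166533) (tt N21484 (iv F173372)) (tt N21487 D37414) (tt N18258 (iv D35905)) (tt N19978 F166534) (tt N20742 (iv F169930)) (tt N21485 (iv F173376)) (tt N20674 (iv F169555)))
theorem Q19980 : ∀ i, i < 19980 → P i := stepQ 19979 Q19979 (allL N19979 (tt N20592 (iv F169038)) (tt N21465 (iv F173307)) (tt N18263 F166535) (tt N21488 D37415) (tt N18259 (iv D35906)) (tt N21487 (iv F173381)) (tt N18268 F166536) (tt N21478 (iv F173358)) (tt N21226 (iv F172369)) (tt N21337 F172898))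
theorem Q19981 : ∀ i, i < 19981 → P i := stepQ 19980 Q19980 (allL N19980 (tt N18610 F166537) (tt N20948 (iv F171067)) (tt N18264 F166538) (tt N21431 (iv F173217)) (tt N21337 (iv F172896)) (tt N18260 F166539) (tt N18269 F166540) (tt N20727 (iv F169844)) (tt N20481 (iv F168373)) (tt N18259 (iv D35907)))
theorem Q19982 : ∀ i, i < 19982 → P i := stepQ 19981 Q19981 (allL N19981 (tt N20593 (iv F169044)) (tt N19981 F166541) (tt N21485 (iv F173374)) (tt N20840 F170410) (tt N20868 (iv F170580)) (tt N18261 (iv D35908)) (tt N19981 F166542) (tt N20874 (iv F170628)) (tt N18262 F166543) (tt N20867 F170576))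
theorem Q19983 : ∀ i, i < 19983 → P i := stepQ 19982 Q19982 (allL N19982 (tt N20594 (iv F169052)) (tt N19982 F166544) (tt N21486 (iv F173377)) (tt N18263 F166545) (tt N18265 F166546) (tt N20867 (iv F170572)) (tt N18270 F166547) (tt N20889 (iv F170718)) (tt N20850 (iv F170478)) (tt N18261 (iv D35909)))
theorem Q19984 : ∀ i, i < 19984 → P i := stepQ 19983 Q19983 (allL N19983 (tt N20595 (iv F169060)) (tt N19983 F166548) (tt N21487 (iv F173380)) (tt N20867 (iv F170571)) (tt N18262 (iv D35910)) (tt N18263 F166549) (tt N19983 F166550) (tt N20875 (iv F170637)) (tt N20868 (iv F170584)) (tt N20840 (iv F170409)))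
theorem Q19985 : ∀ i, i < 19985 → P i := stepQ 19984 Q19984 (allL N19984 (tt N20596 (iv F169068)) (tt N21489 D37416) (tt N18265 (iv D35911)) (tt N21443 (iv F173238)) (tt N21486 (iv F173378)) (tt N20863 F170550) (tt N18271 F166551) (tt N20904 (iv F170788)) (tt N21228 (iv F172377)) (tt N21224 F172355))
theorem Q19986 : ∀ i, i < 19986 → P i := stepQ 19985 Q19985 (allL N19985 (tt N20597 (iv F169075)) (tt N21464 (iv F173303)) (tt N21490 D37417) (tt N18268 (iv D35912)) (tt N21452 (iv F173270)) (tt N19985 F166552) (tt N21488 (iv F173383)) (tt N19985 F166553) (tt N21276 (iv F172624)) (tt N21341 F172919))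
theorem Q19987 : ∀ i, i < 19987 → P i := stepQ 19986 Q19986 (allL N19986 (tt N20598 (iv F169081)) (tt N21298 (iv F172753)) (tt N18270 (iv D35913)) (tt N21490 (iv F173387)) (tt N18271 F166554) (tt N19986 F166555) (tt N21486 (iv F173379)) (tt N19986 F166556) (tt N21249 (iv F172484)) (tt N18278 F166557))
theorem Q19988 : ∀ i, i < 19988 → P i := stepQ 19987 Q19987 (allL N19987 (tt N20834 (iv F170363)) (tt N18271 (iv D35914)) (tt N19987 F166558) (tt N21463 (iv F173299)) (tt N21298 (iv F172755)) (tt N18272 F166559) (tt N21489 (iv F173385)) (tt N19987 F166560) (tt N21255 (iv F172517)) (tt N18484 F166561))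
theorem Q19989 : ∀ i, i < 19989 → P i := stepQ 19988 Q19988 (allL N19988 (tt N20642 (iv F169350)) (tt N21338 (iv F172900)) (tt N18275 F166562) (tt N19988 F166563) (tt N18460 F166564) (tt N21491 D37418) (tt N18274 (iv D35915)) (tt N19988 F166565) (tt N19988 F166566) (tt N18456 F166567))
theorem Q19990 : ∀ i, i < 19990 → P i := stepQ 19989 Q19989 (allL N19989 (tt N20647 (iv F169381)) (tt N18277 F166568) (tt N21491 (iv F173391)) (tt N18276 F166569) (tt N21492 D37419) (tt N18275 (iv D35916)) (tt N21480 (iv F173364)) (tt N19989 F166570) (tt N21493 D37420) (tt N20610 (iv F169171)))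
theorem Q19991 : ∀ i, i < 19991 → P i := stepQ 19990 Q19990 (allL N19990 (tt N20649 (iv F169392)) (tt N18278 F166571) (tt N19990 F166572) (tt N21493 (iv F173400)) (tt N18484 F166573) (tt N19990 F166574) (tt N21481 (iv F173368)) (tt N19990 F166575) (tt N18276 (iv D35917)) (tt N21298 (iv F172758)))
theorem Q19992 : ∀ i, i < 19992 → P i := stepQ 19991 Q19991 (allL N19991 (tt N20599 (iv F169088)) (tt N21492 (iv F173395)) (tt N21340 (iv F172911)) (tt N21250 (iv F172487)) (tt N18277 (iv D35918)) (tt N18773 F166576) (tt N21482 (iv F173369)) (tt N19991 F166577) (tt N21494 D37421) (tt N21247 (iv F172472)))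
theorem Q19993 : ∀ i, i < 19993 → P i := stepQ 19992 Q19992 (allL N19992 (tt N20600 (iv F169094)) (tt N21493 (iv F173399)) (tt N21341 (iv F172915)) (tt N18278 F166578) (tt N21494 (iv F173403)) (tt N19992 F166579) (tt N21483 (iv F173371)) (tt N19992 F166580) (tt N18277 (iv D35919)) (tt N21490 (iv F173390)))
theorem Q19994 : ∀ i, i < 19994 → P i := stepQ 19993 Q19993 (allL N19993 (tt N20977 (iv F171214)) (tt N18286 F166581) (tt N20601 (iv F169102)) (tt N20549 (iv F168778)) (tt N18284 (iv D35920)) (tt N20917 F170870) (tt N20457 (iv F168209)) (tt N21495 D37422) (tt N21121 (iv F171886)) (tt N20456 F168202))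
theorem Q19995 : ∀ i, i < 19995 → P i := stepQ 19994 Q19994 (allL N19994 (tt N21284 (iv F172680)) (tt N18287 F166582) (tt N20602 (iv F169110)) (tt N18810 F166583) (tt N21495 (iv F173406)) (tt N18285 F166584) (tt N21496 D37423) (tt N18284 (iv D35921)) (tt N21215 (iv F172307)) (tt N20461 (iv F168236)))
theorem Q19996 : ∀ i, i < 19996 → P i := stepQ 19995 Q19995 (allL N19995 (tt N18333 F166585) (tt N21495 (iv F173405)) (tt N18288 F166586) (tt N21126 (iv F171908)) (tt N18287 F166587) (tt N20961 (iv F171137)) (tt N21497 D37424) (tt N18286 (iv D35922)) (tt N21124 (iv F171900)) (tt N20668 (iv F169518)))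
theorem Q19997 : ∀ i, i < 19997 → P i := stepQ 19996 Q19996 (allL N19996 (tt N18335 F166588) (tt N21496 (iv F173407)) (tt N18289 F166589) (tt N18811 F166590) (tt N21497 (iv F173411)) (tt N20683 (iv F169609)) (tt N18287 (iv D35923)) (tt N20729 (iv F169856)) (tt N21217 (iv F172317)) (tt N20669 (iv F169524)))
theorem Q19998 : ∀ i, i < 19998 → P i := stepQ 19997 Q19997 (allL N19997 (tt N18337 F166591) (tt N20606 (iv F169137)) (tt N21497 (iv F173410)) (tt N18588 F166592) (tt N18289 F166593) (tt N21498 D37425) (tt N18288 (iv D35924)) (tt N20731 (iv F169868)) (tt N21136 (iv F171952)) (tt N20670 (iv F169530)))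
theorem Q19999 : ∀ i, i < 19999 → P i := stepQ 19998 Q19998 (allL N19998 (tt N21278 (iv F172634)) (tt N18292 F166594) (tt N18343 F166595) (tt N18819 F166596) (tt N18341 F166597) (tt N21277 (iv F172630)) (tt N18290 (iv D35925)) (tt N19998 F166598) (tt N21243 (iv F172447)) (tt N19998 F166599))
theorem Q20000 : ∀ i, i < 20000 → P i := stepQ 19999 Q19999 (allL N19999 (tt N18355 F166600) (tt N18341 F166601) (tt N18293 F166602) (tt N18580 F166603) (tt N18292 F166604) (tt N18353 F166605) (tt N18291 (iv D35926)) (tt N19999 F166606) (tt N18578 F166607) (tt N19999 F166608))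
theorem Q20001 : ∀ i, i < 20001 → P i := stepQ 20000 Q20000 (allL N20000 (tt N21146 (iv F171994)) (tt N18296 F166609) (tt N18371 F166610) (tt N18692 F166611) (tt N18294 (iv D35927)) (tt N20720 (iv F169796)) (tt N18329 F166612) (tt N21499 D37426) (tt N18710 F166613) (tt N18395 F166614))
theorem Q20002 : ∀ i, i < 20002 → P i := stepQ 20001 Q20001 (allL N20001 (tt N21223 (iv F172342)) (tt N18297 F166615) (tt N18372 F166616) (tt N18523 F166617) (tt N21499 (iv F173417)) (tt N18295 F166618) (tt N21500 D37427) (tt N18294 (iv D35928)) (tt N18763 F166619) (tt N18396 F166620))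
theorem Q20003 : ∀ i, i < 20003 → P i := stepQ 20002 Q20002 (allL N20002 (tt N20728 (iv F169847)) (tt N21499 (iv F173414)) (tt N18299 F166621) (tt N20488 (iv F168416)) (tt N18297 F166622) (tt N20722 (iv F169810)) (tt N21501 D37428) (tt N18296 (iv D35929)) (tt N20486 (iv F168407)) (tt N18398 F166623))
theorem Q20004 : ∀ i, i < 20004 → P i := stepQ 20003 Q20003 (allL N20003 (tt N20729 (iv F169852)) (tt N21500 (iv F173420)) (tt N18301 F166624) (tt N18525 F166625) (tt N21501 (iv F173428)) (tt N18418 F166626) (tt N18297 (iv D35930)) (tt N18335 F166627) (tt N21502 D37429) (tt N18400 F166628))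
theorem Q20005 : ∀ i, i < 20005 → P i := stepQ 20004 Q20004 (allL N20004 (tt N20730 (iv F169858)) (tt N18763 F166629) (tt N18302 F166630) (tt N18526 F166631) (tt N20486 (iv F168405)) (tt N20004 F166632) (tt N21502 (iv F173434)) (tt N18298 F166633) (tt N18297 (iv D35931)) (tt N18723 F166634))
theorem Q20006 : ∀ i, i < 20006 → P i := stepQ 20005 Q20005 (allL N20005 (tt N20731 (iv F169864)) (tt N18380 F166635) (tt N21501 (iv F173427)) (tt N18591 F166636) (tt N18301 F166637) (tt N21503 D37430) (tt N18299 (iv D35932)) (tt N18337 F166638) (tt N21504 D37431) (tt N18402 F166639))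
theorem Q20007 : ∀ i, i < 20007 → P i := stepQ 20006 Q20006 (allL N20006 (tt N20732 (iv F169870)) (tt N18381 F166640) (tt N20486 (iv F168403)) (tt N18592 F166641) (tt N18302 F166642) (tt N20625 (iv F169260)) (tt N21504 (iv F173445)) (tt N18300 F166643) (tt N18299 (iv D35933)) (tt N20521 (iv F168620)))
theorem Q20008 : ∀ i, i < 20008 → P i := stepQ 20007 Q20007 (allL N20007 (tt N20733 (iv F169876)) (tt N18384 F166644) (tt N21502 (iv F173432)) (tt N18303 F166645) (tt N21504 (iv F173444)) (tt N21505 D37432) (tt N18302 F166646) (tt N18339 F166647) (tt N18301 (iv D35934)) (tt N20583 (iv F168984)))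
theorem Q20009 : ∀ i, i < 20009 → P i := stepQ 20008 Q20008 (allL N20008 (tt N20734 (iv F169882)) (tt N18386 F166648) (tt N18529 F166649) (tt N21505 (iv F173448)) (tt N18741 F166650) (tt N18303 (iv D35935)) (tt N20008 F166651) (tt N18340 F166652) (tt N18427 F166653) (tt N20584 (iv F168991)))
theorem Q20010 : ∀ i, i < 20010 → P i := stepQ 20009 Q20009 (allL N20009 (tt N20753 (iv F169984)) (tt N18306 F166654) (tt N18395 F166655) (tt N18417 F166656) (tt N18304 (iv D35936)) (tt N20913 (iv F170841)) (tt N18412 F166657) (tt N21506 D37433) (tt N18415 F166658) (tt N18371 F166659))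
theorem Q20011 : ∀ i, i < 20011 → P i := stepQ 20010 Q20010 (allL N20010 (tt N20881 (iv F170660)) (tt N18307 F166660) (tt N18396 F166661) (tt N18497 F166662) (tt N21506 (iv F173455)) (tt N18305 F166663) (tt N21507 D37434) (tt N18304 (iv D35937)) (tt N18540 F166664) (tt N18372 F166665))
theorem Q20012 : ∀ i, i < 20012 → P i := stepQ 20011 Q20011 (allL N20011 (tt N20680 (iv F169588)) (tt N18417 F166666) (tt N18643 F166667) (tt N18306 (iv D35938)) (tt N18414 F166668) (tt N20915 (iv F170857)) (tt N18415 F166669) (tt N21508 D37435) (tt N18412 (iv F166671)) (tt N18374 F166670))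
theorem Q20013 : ∀ i, i < 20013 → P i := stepQ 20012 Q20012 (allL N20012 (tt N20681 (iv F169595)) (tt N21506 (iv F173452)) (tt N18309 F166672) (tt N21508 (iv F173467)) (tt N18307 F166673) (tt N20916 (iv F170863)) (tt N21509 D37436) (tt N18306 (iv D35939)) (tt N21510 D37437) (tt N18375 F166674))
theorem Q20014 : ∀ i, i < 20014 → P i := stepQ 20013 Q20013 (allL N20013 (tt N20682 (iv F169600)) (tt N18415 F166675) (tt N18310 F166676) (tt N18412 F166677) (tt N18308 F166678) (tt N21121 (iv F171885)) (tt N18417 F166679) (tt N21510 (iv F173479)) (tt N18306 (iv D35940)) (tt N18432 (iv F166680)))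
theorem Q20015 : ∀ i, i < 20015 → P i := stepQ 20014 Q20014 (allL N20014 (tt N20683 (iv F169606)) (tt N21507 (iv F173458)) (tt N18311 F166681) (tt N18499 F166682) (tt N21509 (iv F173472)) (tt N18335 F166683) (tt N18307 (iv D35941)) (tt N18418 F166684) (tt N21511 D37438) (tt N18377 F166685))
theorem Q20016 : ∀ i, i < 20016 → P i := stepQ 20015 Q20015 (allL N20015 (tt N20684 (iv F169612)) (tt N18540 F166686) (tt N18312 F166687) (tt N18500 F166688) (tt N21510 (iv F173478)) (tt N18342 F166689) (tt N21511 (iv F173484)) (tt N18308 F166690) (tt N18307 (iv D35942)) (tt N18553 (iv F166691)))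
theorem Q20017 : ∀ i, i < 20017 → P i := stepQ 20016 Q20016 (allL N20016 (tt N20685 (iv F169618)) (tt N18402 F166692) (tt N21509 (iv F173471)) (tt N18649 F166693) (tt N18311 F166694) (tt N21512 D37439) (tt N18309 (iv D35943)) (tt N18421 F166695) (tt N21513 D37440) (tt N18380 F166696))
theorem Q20018 : ∀ i, i < 20018 → P i := stepQ 20017 Q20017 (allL N20017 (tt N20686 (iv F169624)) (tt N18403 F166697) (tt N21510 (iv F173476)) (tt N18650 F166698) (tt N18312 F166699) (tt N21514 D37441) (tt N21513 (iv F173495)) (tt N18310 F166700) (tt N18309 (iv D35944)) (tt N21515 D37442))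
theorem Q20019 : ∀ i, i < 20019 → P i := stepQ 20018 Q20018 (allL N20018 (tt N20687 (iv F169629)) (tt N18404 F166701) (tt N21121 (iv F171883)) (tt N18651 F166702) (tt N18345 F166703) (tt N18310 (iv D35945)) (tt N21516 D37443) (tt N21514 (iv F173500)) (tt N20601 (iv F169105)) (tt N21319 (iv F172840)))
theorem Q20020 : ∀ i, i < 20020 → P i := stepQ 20019 Q20019 (allL N20019 (tt N20688 (iv F169634)) (tt N18405 F166704) (tt N18432 F166705) (tt N18652 F166706) (tt N18313 F166707) (tt N21319 (iv F172839)) (tt N18424 F166708) (tt N21515 (iv F173505)) (tt N18383 F166709) (tt N18310 (iv D35946)))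
theorem Q20021 : ∀ i, i < 20021 → P i := stepQ 20020 Q20020 (allL N20020 (tt N20689 (iv F169641)) (tt N18406 F166710) (tt N21511 (iv F173482)) (tt N18314 F166711) (tt N21513 (iv F173494)) (tt N21517 D37444) (tt N18312 F166712) (tt N18425 F166713) (tt N18311 (iv D35947)) (tt N21518 D37445))
theorem Q20022 : ∀ i, i < 20022 → P i := stepQ 20021 Q20021 (allL N20021 (tt N20690 (iv F169646)) (tt N18407 F166714) (tt N18553 F166715) (tt N18315 F166716) (tt N21515 (iv F173504)) (tt N18347 F166717) (tt N21518 (iv F173520)) (tt N18313 F166718) (tt N18385 F166719) (tt N18312 (iv D35948)))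
theorem Q20023 : ∀ i, i < 20023 → P i := stepQ 20022 Q20022 (allL N20022 (tt N20691 (iv F169653)) (tt N18408 F166720) (tt N18503 F166721) (tt N21517 (iv F173513)) (tt N18764 (iv F166725)) (tt N18314 (iv D35949)) (tt N18348 F166722) (tt N18427 F166723) (tt N18340 F166724) (tt N21519 D37446))
theorem Q20024 : ∀ i, i < 20024 → P i := stepQ 20023 Q20023 (allL N20023 (tt N20692 (iv F169660)) (tt N18409 F166726) (tt N18504 F166727) (tt N21518 (iv F173519)) (tt N18656 F166728) (tt N21519 (iv F173526)) (tt N18315 F166729) (tt N18428 F166730) (tt N18387 F166731) (tt N18314 (iv D35950)))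
theorem Q20025 : ∀ i, i < 20025 → P i := stepQ 20024 Q20024 (allL N20024 (tt N18318 F166732) (tt N20667 (iv F169506)) (tt N18411 F166733) (tt N18487 F166734) (tt N20989 (iv F171279)) (tt N21197 F172197) (tt N18370 F166735) (tt N18316 (iv D35951)) (tt N20024 F166736) (tt N18328 F166737))
theorem Q20026 : ∀ i, i < 20026 → P i := stepQ 20025 Q20025 (allL N20025 (tt N21079 (iv F171688)) (tt N18319 F166738) (tt N18412 F166739) (tt N18645 F166740) (tt N18317 (iv D35952)) (tt N20990 (iv F171285)) (tt N18395 F166741) (tt N21520 D37447) (tt N18643 F166742) (tt N18329 F166743))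
theorem Q20027 : ∀ i, i < 20027 → P i := stepQ 20026 Q20026 (allL N20026 (tt N21197 (iv F172192)) (tt N18320 F166744) (tt N18413 F166745) (tt N18488 F166746) (tt N21520 (iv F173532)) (tt N18318 F166747) (tt N21521 D37448) (tt N18317 (iv D35953)) (tt N18728 F166748) (tt N18330 F166749))
theorem Q20028 : ∀ i, i < 20028 → P i := stepQ 20027 Q20027 (allL N20027 (tt N20494 (iv F168449)) (tt N18645 F166750) (tt N18603 F166751) (tt N18319 (iv D35954)) (tt N18489 F166752) (tt N20992 (iv F171300)) (tt N18397 F166753) (tt N21522 D37449) (tt N18641 (iv F166755)) (tt N18332 F166754))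
theorem Q20029 : ∀ i, i < 20029 → P i := stepQ 20028 Q20028 (allL N20028 (tt N20668 (iv F169514)) (tt N21520 (iv F173529)) (tt N18322 F166756) (tt N21522 (iv F173544)) (tt N18320 F166757) (tt N20993 (iv F171307)) (tt N21523 D37450) (tt N18319 (iv D35955)) (tt N21524 D37451) (tt N18333 F166758))
theorem Q20030 : ∀ i, i < 20030 → P i := stepQ 20029 Q20029 (allL N20029 (tt N20636 (iv F169316)) (tt N18643 F166759) (tt N18323 F166760) (tt N18641 F166761) (tt N18321 F166762) (tt N21525 D37452) (tt N18399 F166763) (tt N21524 (iv F173556)) (tt N18319 (iv D35956)) (tt N18657 F166764))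
theorem Q20031 : ∀ i, i < 20031 → P i := stepQ 20030 Q20030 (allL N20030 (tt N20669 (iv F169519)) (tt N21521 (iv F173535)) (tt N18324 F166765) (tt N18491 F166766) (tt N21523 (iv F173549)) (tt N18377 F166767) (tt N18320 (iv D35957)) (tt N18400 F166768) (tt N21526 D37453) (tt N18335 F166769))
theorem Q20032 : ∀ i, i < 20032 → P i := stepQ 20031 Q20031 (allL N20031 (tt N20645 (iv F169371)) (tt N18728 F166770) (tt N18325 F166771) (tt N18492 F166772) (tt N21524 (iv F173555)) (tt N20031 F166773) (tt N21526 (iv F173568)) (tt N18321 F166774) (tt N18320 (iv D35958)) (tt N18738 F166775))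
theorem Q20033 : ∀ i, i < 20033 → P i := stepQ 20032 Q20032 (allL N20032 (tt N20670 (iv F169525)) (tt N18421 F166776) (tt N21523 (iv F173548)) (tt N18606 F166777) (tt N18324 F166778) (tt N21527 D37454) (tt N18322 (iv D35959)) (tt N18402 F166779) (tt N21528 D37455) (tt N18337 F166780))
theorem Q20034 : ∀ i, i < 20034 → P i := stepQ 20033 Q20033 (allL N20033 (tt N20671 (iv F169531)) (tt N18422 F166781) (tt N21524 (iv F173553)) (tt N18607 F166782) (tt N18325 F166783) (tt N21529 D37456) (tt N21528 (iv F173579)) (tt N18323 F166784) (tt N18322 (iv D35960)) (tt N20536 (iv F168715)))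
theorem Q20035 : ∀ i, i < 20035 → P i := stepQ 20034 Q20034 (allL N20034 (tt N20672 (iv F169537)) (tt N18423 F166785) (tt N21525 (iv F173559)) (tt N18608 F166786) (tt N20034 F166787) (tt N18323 (iv D35961)) (tt N21530 D37457) (tt N21529 (iv F173584)) (tt N20997 (iv F171335)) (tt N20537 (iv F168722)))
theorem Q20036 : ∀ i, i < 20036 → P i := stepQ 20035 Q20035 (allL N20035 (tt N20673 (iv F169543)) (tt N18425 F166788) (tt N21526 (iv F173566)) (tt N18326 F166789) (tt N21528 (iv F173578)) (tt N21531 D37458) (tt N18325 F166790) (tt N18406 F166791) (tt N18324 (iv D35962)) (tt N20589 (iv F169026)))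
theorem Q20037 : ∀ i, i < 20037 → P i := stepQ 20036 Q20036 (allL N20036 (tt N20674 (iv F169549)) (tt N18427 F166792) (tt N18495 F166793) (tt N21531 (iv F173592)) (tt N21532 D37459) (tt N18326 (iv D35963)) (tt N20036 F166794) (tt N18408 F166795) (tt N18386 F166796) (tt N20591 (iv F169037)))
theorem Q20038 : ∀ i, i < 20038 → P i := stepQ 20037 Q20037 (allL N20037 (tt N18329 F166797) (tt N20977 (iv F171215)) (tt N18429 F166798) (tt N21083 (iv F171714)) (tt N18327 (iv D35964)) (tt N20970 F171189) (tt N21146 (iv F172000)) (tt N21533 D37460) (tt N21107 (iv F171832)) (tt N21079 F171694))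
theorem Q20039 : ∀ i, i < 20039 → P i := stepQ 20038 Q20038 (allL N20038 (tt N18330 F166799) (tt N21284 (iv F172681)) (tt N18430 F166800) (tt N18820 F166801) (tt N21533 (iv F173604)) (tt N18328 F166802) (tt N21534 D37461) (tt N18327 (iv D35965)) (tt N21213 (iv F172295)) (tt N21197 F172198))
theorem Q20040 : ∀ i, i < 20040 → P i := stepQ 20039 Q20039 (allL N20039 (tt N21083 (iv F171711)) (tt N18332 F166803) (tt N18652 F166804) (tt N18329 (iv D35966)) (tt N18648 F166805) (tt N21306 (iv F172792)) (tt N18692 F166806) (tt N21535 D37462) (tt N18664 (iv F166808)) (tt N18645 F166807))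
theorem Q20041 : ∀ i, i < 20041 → P i := stepQ 20040 Q20040 (allL N20040 (tt N21533 (iv F173602)) (tt N18333 F166809) (tt N18433 F166810) (tt N21535 (iv F173610)) (tt N18330 F166811) (tt N21307 (iv F172798)) (tt N21536 D37463) (tt N18329 (iv D35967)) (tt N21537 D37464) (tt N21520 (iv F173534)))
theorem Q20042 : ∀ i, i < 20042 → P i := stepQ 20041 Q20041 (allL N20041 (tt N21107 (iv F171827)) (tt N18334 F166812) (tt N18434 F166813) (tt N18664 F166814) (tt N18331 F166815) (tt N20746 (iv F169951)) (tt N18710 F166816) (tt N21537 (iv F173621)) (tt N18329 (iv D35968)) (tt N18661 F166817))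
theorem Q20043 : ∀ i, i < 20043 → P i := stepQ 20042 Q20042 (allL N20042 (tt N21534 (iv F173605)) (tt N18335 F166818) (tt N18435 F166819) (tt N18821 F166820) (tt N21536 (iv F173616)) (tt N21507 (iv F173461)) (tt N18330 (iv D35969)) (tt N21500 (iv F173424)) (tt N21538 D37465) (tt N21521 (iv F173541)))
theorem Q20044 : ∀ i, i < 20044 → P i := stepQ 20043 Q20043 (allL N20043 (tt N21213 (iv F172290)) (tt N18336 F166821) (tt N18436 F166822) (tt N18743 F166823) (tt N21537 (iv F173620)) (tt N18354 F166824) (tt N21538 (iv F173626)) (tt N18331 F166825) (tt N18330 (iv D35970)) (tt N18740 F166826))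
theorem Q20045 : ∀ i, i < 20045 → P i := stepQ 20044 Q20044 (allL N20044 (tt N21126 (iv F171906)) (tt N21535 (iv F173608)) (tt N18611 F166827) (tt N18333 F166828) (tt N18678 F166829) (tt N21309 (iv F172805)) (tt N21539 D37466) (tt N18332 (iv D35971)) (tt N18676 F166830) (tt N21522 (iv F173547)))
theorem Q20046 : ∀ i, i < 20046 → P i := stepQ 20045 Q20045 (allL N20045 (tt N21497 (iv F173409)) (tt N21536 (iv F173614)) (tt N18337 F166831) (tt N21539 (iv F173630)) (tt N18335 F166832) (tt N21540 D37467) (tt N18333 (iv D35972)) (tt N21501 (iv F173429)) (tt N21541 D37468) (tt N21523 (iv F173551)))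
theorem Q20047 : ∀ i, i < 20047 → P i := stepQ 20046 Q20046 (allL N20046 (tt N21124 (iv F171895)) (tt N21537 (iv F173617)) (tt N18338 F166833) (tt N18676 F166834) (tt N18336 F166835) (tt N20752 (iv F169982)) (tt N21541 (iv F173637)) (tt N18334 F166836) (tt N18333 (iv D35973)) (tt N20450 (iv F168159)))
theorem Q20048 : ∀ i, i < 20048 → P i := stepQ 20047 Q20047 (allL N20047 (tt N21217 (iv F172314)) (tt N21538 (iv F173623)) (tt N18339 F166837) (tt N18746 F166838) (tt N21541 (iv F173636)) (tt N21542 D37469) (tt N18336 F166839) (tt N21502 (iv F173435)) (tt N18335 (iv D35974)) (tt N20466 (iv F168272)))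
theorem Q20049 : ∀ i, i < 20049 → P i := stepQ 20048 Q20048 (allL N20048 (tt N21498 (iv F173412)) (tt N18446 F166840) (tt N21540 (iv F173633)) (tt N18613 F166841) (tt N21512 (iv F173489)) (tt N18337 (iv D35975)) (tt N21313 (iv F172816)) (tt N21503 (iv F173440)) (tt N21543 D37470) (tt N21527 (iv F173575)))
theorem Q20050 : ∀ i, i < 20050 → P i := stepQ 20049 Q20049 (allL N20049 (tt N21136 (iv F171949)) (tt N18447 F166842) (tt N21541 (iv F173634)) (tt N18614 F166843) (tt N18339 F166844) (tt N21544 D37471) (tt N18338 F166845) (tt N21504 (iv F173446)) (tt N18337 (iv D35976)) (tt N20535 (iv F168708)))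
theorem Q20051 : ∀ i, i < 20051 → P i := stepQ 20050 Q20050 (allL N20050 (tt N21220 (iv F172328)) (tt N18451 F166846) (tt N21542 (iv F173638)) (tt N18340 F166847) (tt N21545 D37472) (tt N18339 (iv D35977)) (tt N18358 F166848) (tt N21505 (iv F173450)) (tt N21517 (iv F173516)) (tt N20588 (iv F169019)))
theorem Q20052 : ∀ i, i < 20052 → P i := stepQ 20051 Q20051 (allL N20051 (tt N21279 (iv F172643)) (tt N18578 F166849) (tt N18346 F166850) (tt N18576 F166851) (tt N21243 (iv F172445)) (tt N21546 D37473) (tt N18342 F166852) (tt N20051 F166853) (tt N18341 (iv D35978)) (tt N18582 (iv F166854)))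
theorem Q20053 : ∀ i, i < 20053 → P i := stepQ 20052 Q20052 (allL N20052 (tt N21280 (iv F172651)) (tt N18456 F166855) (tt N21243 (iv F172443)) (tt N20052 F166856) (tt N18346 F166857) (tt N21547 D37474) (tt N18344 F166858) (tt N20052 F166859) (tt N18343 (iv D35979)) (tt N21338 (iv F172906)))
theorem Q20054 : ∀ i, i < 20054 → P i := stepQ 20053 Q20053 (allL N20053 (tt N21281 (iv F172659)) (tt N18457 F166860) (tt N21215 (iv F172304)) (tt N20053 F166861) (tt N21514 (iv F173499)) (tt N18344 (iv D35980)) (tt N21548 D37475) (tt N18345 F166862) (tt N20602 (iv F169113)) (tt N21333 (iv F172883)))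
theorem Q20055 : ∀ i, i < 20055 → P i := stepQ 20054 Q20054 (allL N20054 (tt N21231 (iv F172386)) (tt N18458 F166863) (tt N20462 (iv F168239)) (tt N20054 F166864) (tt N21516 (iv F173509)) (tt N20054 F166865) (tt N18345 (iv D35981)) (tt N21549 D37476) (tt N18615 F166866) (tt N20821 (iv F170315)))
theorem Q20056 : ∀ i, i < 20056 → P i := stepQ 20055 Q20055 (allL N20055 (tt N21248 (iv F172473)) (tt N18459 F166867) (tt N21546 (iv F173649)) (tt N18348 F166868) (tt N21550 D37477) (tt N18346 (iv D35982)) (tt N21517 (iv F173514)) (tt N20055 F166869) (tt N18358 F166870) (tt N21551 D37478))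
theorem Q20057 : ∀ i, i < 20057 → P i := stepQ 20056 Q20056 (allL N20056 (tt N21283 (iv F172672)) (tt N18460 F166871) (tt N18582 F166872) (tt N18349 F166873) (tt N21338 (iv F172903)) (tt N21551 (iv F173670)) (tt N18347 F166874) (tt N20056 F166875) (tt N20056 F166876) (tt N18346 (iv D35983)))
theorem Q20058 : ∀ i, i < 20058 → P i := stepQ 20057 Q20057 (allL N20057 (tt N21249 (iv F172478)) (tt N18462 F166877) (tt N18771 F166878) (tt N21551 (iv F173669)) (tt N18775 F166879) (tt N18349 F166880) (tt N21519 (iv F173527)) (tt N20057 F166881) (tt N20598 (iv F169086)) (tt N18348 (iv D35984)))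
theorem Q20059 : ∀ i, i < 20059 → P i := stepQ 20058 Q20058 (allL N20058 (tt N21277 (iv F172625)) (tt N18355 F166882) (tt N18465 F166883) (tt N20582 (iv F168972)) (tt N18353 F166884) (tt N21278 (iv F172639)) (tt N18352 (iv D35985)) (tt N20058 F166885) (tt N20581 F168968) (tt N20058 F166886))
theorem Q20060 : ∀ i, i < 20060 → P i := stepQ 20059 Q20059 (allL N20059 (tt N21245 (iv F172456)) (tt N20570 (iv F168894)) (tt N18358 F166887) (tt N18768 F166888) (tt N21552 D37479) (tt N18356 (iv D35986)) (tt N21542 (iv F173640)) (tt N20059 F166889) (tt N21546 (iv F173652)) (tt N20468 (iv F168286)))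
theorem Q20061 : ∀ i, i < 20061 → P i := stepQ 20060 Q20060 (allL N20060 (tt N21247 (iv F172468)) (tt N18479 F166890) (tt N21552 (iv F173672)) (tt N18773 F166891) (tt N18358 (iv D35987)) (tt N21250 (iv F172488)) (tt N21545 (iv F173647)) (tt N20060 F166892) (tt N21550 (iv F173666)) (tt N20599 (iv F169093)))
theorem Q20062 : ∀ i, i < 20062 → P i := stepQ 20061 Q20061 (allL N20061 (tt N21172 (iv F172105)) (tt N18361 F166893) (tt N20720 (iv F169794)) (tt N21553 D37480) (tt N18359 (iv D35988)) (tt N18371 F166894) (tt N20937 (iv F171000)) (tt N21554 D37481) (tt N21158 (iv F172058)) (tt N20913 (iv F170844)))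
theorem Q20063 : ∀ i, i < 20063 → P i := stepQ 20062 Q20062 (allL N20062 (tt N21194 (iv F172176)) (tt N18362 F166895) (tt N20721 (iv F169802)) (tt N20062 F166896) (tt N21554 (iv F173680)) (tt N18360 F166897) (tt N21555 D37482) (tt N18359 (iv D35989)) (tt N21273 (iv F172612)) (tt N20914 (iv F170852)))
theorem Q20064 : ∀ i, i < 20064 → P i := stepQ 20063 Q20063 (allL N20063 (tt N20653 (iv F169421)) (tt N21553 (iv F173674)) (tt N18626 F166898) (tt N18361 (iv D35990)) (tt N20063 F166899) (tt N18374 F166900) (tt N20939 (iv F171014)) (tt N21556 D37483) (tt N21557 D37484) (tt N20915 (iv F170859)))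
theorem Q20065 : ∀ i, i < 20065 → P i := stepQ 20064 Q20064 (allL N20064 (tt N20654 (iv F169428)) (tt N21554 (iv F173679)) (tt N18364 F166901) (tt N21556 (iv F173685)) (tt N18362 F166902) (tt N18375 F166903) (tt N21558 D37485) (tt N18361 (iv D35991)) (tt N21559 D37486) (tt N20916 (iv F170864)))
theorem Q20066 : ∀ i, i < 20066 → P i := stepQ 20065 Q20065 (allL N20065 (tt N20655 (iv F169434)) (tt N21158 (iv F172054)) (tt N18365 F166904) (tt N21557 (iv F173689)) (tt N18363 F166905) (tt N21560 D37487) (tt N20941 (iv F171026)) (tt N21559 (iv F173695)) (tt N18361 (iv D35992)) (tt N21021 (iv F171452)))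
theorem Q20067 : ∀ i, i < 20067 → P i := stepQ 20066 Q20066 (allL N20066 (tt N20656 (iv F169439)) (tt N21555 (iv F173682)) (tt N18366 F166906) (tt N20066 F166907) (tt N21558 (iv F173692)) (tt N20994 (iv F171313)) (tt N18362 (iv D35993)) (tt N20942 (iv F171032)) (tt N21561 D37488) (tt N20918 (iv F170877)))
theorem Q20068 : ∀ i, i < 20068 → P i := stepQ 20067 Q20067 (allL N20067 (tt N20657 (iv F169446)) (tt N21273 (iv F172607)) (tt N18367 F166908) (tt N20067 F166909) (tt N21559 (iv F173694)) (tt N20067 F166910) (tt N21561 (iv F173701)) (tt N18363 F166911) (tt N18362 (iv D35994)) (tt N21263 (iv F172562)))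
theorem Q20069 : ∀ i, i < 20069 → P i := stepQ 20068 Q20068 (allL N20068 (tt N20659 (iv F169459)) (tt N20724 (iv F169821)) (tt N21558 (iv F173691)) (tt N18632 F166912) (tt N18366 F166913) (tt N21562 D37489) (tt N18364 (iv D35995)) (tt N20944 (iv F171045)) (tt N21563 D37490) (tt N20920 (iv F170890)))
theorem Q20070 : ∀ i, i < 20070 → P i := stepQ 20069 Q20069 (allL N20069 (tt N20660 (iv F169465)) (tt N20725 (iv F169827)) (tt N21559 (iv F173693)) (tt N18633 F166914) (tt N18367 F166915) (tt N21564 D37491) (tt N21563 (iv F173706)) (tt N18365 F166916) (tt N18364 (iv D35996)) (tt N21398 (iv F173118)))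
theorem Q20071 : ∀ i, i < 20071 → P i := stepQ 20070 Q20070 (allL N20070 (tt N20661 (iv F169470)) (tt N20626 (iv F169262)) (tt N21560 (iv F173696)) (tt N18634 F166917) (tt N20070 F166918) (tt N18365 (iv D35997)) (tt N21565 D37492) (tt N21564 (iv F173709)) (tt N18382 F166919) (tt N21399 (iv F173122)))
theorem Q20072 : ∀ i, i < 20072 → P i := stepQ 20071 Q20071 (allL N20071 (tt N20663 (iv F169481)) (tt N20726 (iv F169834)) (tt N21561 (iv F173699)) (tt N18368 F166920) (tt N21563 (iv F173705)) (tt N21566 D37493) (tt N18367 F166921) (tt N20947 (iv F171064)) (tt N18366 (iv D35998)) (tt N21400 (iv F173127)))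
theorem Q20073 : ∀ i, i < 20073 → P i := stepQ 20072 Q20072 (allL N20072 (tt N20665 (iv F169492)) (tt N20727 (iv F169841)) (tt N20072 F166922) (tt N21566 (iv F173714)) (tt N21567 D37494) (tt N18368 (iv D35999)) (tt N20072 F166923) (tt N20948 (iv F171070)) (tt N21001 (iv F171361)) (tt N21466 (iv F173316)))
theorem Q20074 : ∀ i, i < 20074 → P i := stepQ 20073 Q20073 (allL N20073 (tt N18371 F166924) (tt N20693 (iv F169668)) (tt N21146 (iv F171996)) (tt N20757 (iv F170006)) (tt N18369 (iv D36000)) (tt N21172 (iv F172109)) (tt N18429 F166925) (tt N21568 D37495) (tt N20787 (iv F170149)) (tt N20753 F169990))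
theorem Q20075 : ∀ i, i < 20075 → P i := stepQ 20074 Q20074 (allL N20074 (tt N18372 F166926) (tt N20694 (iv F169673)) (tt N21223 (iv F172344)) (tt N18505 F166927) (tt N21568 (iv F173720)) (tt N18370 F166928) (tt N21569 D37496) (tt N18369 (iv D36001)) (tt N20902 (iv F170779)) (tt N20881 F170665))
theorem Q20076 : ∀ i, i < 20076 → P i := stepQ 20075 Q20075 (allL N20075 (tt N20757 (iv F170004)) (tt N18374 F166929) (tt N18424 F166930) (tt N18371 (iv D36002)) (tt N18420 F166931) (tt N21553 (iv F173677)) (tt N18432 F166932) (tt N21570 D37497) (tt N18443 (iv F166934)) (tt N18417 F166933))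
theorem Q20077 : ∀ i, i < 20077 → P i := stepQ 20076 Q20076 (allL N20076 (tt N21568 (iv F173719)) (tt N18375 F166935) (tt N21499 (iv F173415)) (tt N21570 (iv F173726)) (tt N18372 F166936) (tt N21554 (iv F173681)) (tt N21571 D37498) (tt N18371 (iv D36003)) (tt N21572 D37499) (tt N21506 (iv F173457)))
theorem Q20078 : ∀ i, i < 20078 → P i := stepQ 20077 Q20077 (allL N20077 (tt N20787 (iv F170144)) (tt N18376 F166937) (tt N18710 F166938) (tt N18443 F166939) (tt N18373 F166940) (tt N21028 (iv F171483)) (tt N18434 F166941) (tt N21572 (iv F173737)) (tt N18371 (iv D36004)) (tt N18439 F166942))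
theorem Q20079 : ∀ i, i < 20079 → P i := stepQ 20078 Q20078 (allL N20078 (tt N21569 (iv F173721)) (tt N18377 F166943) (tt N21500 (iv F173421)) (tt N18507 F166944) (tt N21571 (iv F173731)) (tt N21521 (iv F173538)) (tt N18372 (iv D36005)) (tt N18435 F166945) (tt N21573 D37500) (tt N21507 (iv F173464)))
theorem Q20080 : ∀ i, i < 20080 → P i := stepQ 20079 Q20079 (allL N20079 (tt N20902 (iv F170774)) (tt N18378 F166946) (tt N18763 F166947) (tt N18508 F166948) (tt N21572 (iv F173736)) (tt N20079 F166949) (tt N21573 (iv F173742)) (tt N18373 F166950) (tt N18372 (iv D36006)) (tt N18557 F166951))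
theorem Q20081 : ∀ i, i < 20081 → P i := stepQ 20080 Q20080 (allL N20080 (tt N20702 (iv F169712)) (tt N21570 (iv F173724)) (tt N18660 F166952) (tt N18375 F166953) (tt N18509 F166954) (tt N21556 (iv F173687)) (tt N21574 D37501) (tt N18374 (iv D36007)) (tt N21575 D37502) (tt N21508 (iv F173470)))
theorem Q20082 : ∀ i, i < 20082 → P i := stepQ 20081 Q20081 (allL N20081 (tt N20703 (iv F169716)) (tt N18443 F166955) (tt N18661 F166956) (tt N18376 F166957) (tt N18437 F166958) (tt N20776 (iv F170098)) (tt N18439 F166959) (tt N21575 (iv F173753)) (tt N18374 (iv D36008)) (tt N18434 F166960))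
theorem Q20083 : ∀ i, i < 20083 → P i := stepQ 20082 Q20082 (allL N20082 (tt N20704 (iv F169722)) (tt N21571 (iv F173730)) (tt N18380 F166961) (tt N21574 (iv F173746)) (tt N18377 F166962) (tt N21576 D37503) (tt N18375 (iv D36009)) (tt N18440 F166963) (tt N21577 D37504) (tt N21509 (iv F173474)))
theorem Q20084 : ∀ i, i < 20084 → P i := stepQ 20083 Q20083 (allL N20083 (tt N20705 (iv F169726)) (tt N21572 (iv F173733)) (tt N18381 F166964) (tt N21575 (iv F173751)) (tt N18378 F166965) (tt N21578 D37505) (tt N21577 (iv F173759)) (tt N18376 F166966) (tt N18375 (iv D36010)) (tt N21579 D37506))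
theorem Q20085 : ∀ i, i < 20085 → P i := stepQ 20084 Q20084 (allL N20084 (tt N20706 (iv F169730)) (tt N21028 (iv F171480)) (tt N18382 F166967) (tt N20776 (iv F170096)) (tt N20084 F166968) (tt N18376 (iv D36011)) (tt N21580 D37507) (tt N21578 (iv F173763)) (tt N21560 (iv F173698)) (tt N21581 D37508))
theorem Q20086 : ∀ i, i < 20086 → P i := stepQ 20085 Q20085 (allL N20085 (tt N20707 (iv F169733)) (tt N18439 F166969) (tt N18383 F166970) (tt N18434 F166971) (tt N18379 F166972) (tt N21581 (iv F173777)) (tt N18443 F166973) (tt N21579 (iv F173768)) (tt N18432 F166974) (tt N18376 (iv D36012)))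
theorem Q20087 : ∀ i, i < 20087 → P i := stepQ 20086 Q20086 (allL N20086 (tt N20708 (iv F169739)) (tt N21573 (iv F173739)) (tt N18384 F166975) (tt N18512 F166976) (tt N21577 (iv F173758)) (tt N21582 D37509) (tt N18378 F166977) (tt N18444 F166978) (tt N18377 (iv D36013)) (tt N21583 D37510))
theorem Q20088 : ∀ i, i < 20088 → P i := stepQ 20087 Q20087 (allL N20087 (tt N20709 (iv F169744)) (tt N18557 F166979) (tt N18385 F166980) (tt N18513 F166981) (tt N21579 (iv F173767)) (tt N20087 F166982) (tt N21583 (iv F173785)) (tt N18379 F166983) (tt N18553 F166984) (tt N18378 (iv D36014)))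
theorem Q20089 : ∀ i, i < 20089 → P i := stepQ 20088 Q20088 (allL N20088 (tt N20710 (iv F169750)) (tt N21503 (iv F173437)) (tt N21576 (iv F173755)) (tt N18667 F166985) (tt N21527 (iv F173573)) (tt N18380 (iv D36015)) (tt N21562 (iv F173703)) (tt N18446 F166986) (tt N21584 D37511) (tt N21512 (iv F173491)))
theorem Q20090 : ∀ i, i < 20090 → P i := stepQ 20089 Q20089 (allL N20089 (tt N20711 (iv F169753)) (tt N21504 (iv F173442)) (tt N21577 (iv F173757)) (tt N18668 F166987) (tt N18384 F166988) (tt N21585 D37512) (tt N18381 F166989) (tt N18447 F166990) (tt N18380 (iv D36016)) (tt N21586 D37513))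
theorem Q20091 : ∀ i, i < 20091 → P i := stepQ 20090 Q20090 (allL N20090 (tt N20712 (iv F169758)) (tt N20625 (iv F169256)) (tt N21578 (iv F173761)) (tt N18669 F166991) (tt N20090 F166992) (tt N18381 (iv D36017)) (tt N21587 D37514) (tt N18382 F166993) (tt N21564 (iv F173710)) (tt N21588 D37515))
theorem Q20092 : ∀ i, i < 20092 → P i := stepQ 20091 Q20091 (allL N20091 (tt N20713 (iv F169762)) (tt N20521 (iv F168615)) (tt N21579 (iv F173765)) (tt N18670 F166994) (tt N18385 F166995) (tt N21588 (iv F173800)) (tt N21586 (iv F173794)) (tt N18383 F166996) (tt N21515 (iv F173506)) (tt N18381 (iv D36018)))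
theorem Q20093 : ∀ i, i < 20093 → P i := stepQ 20092 Q20092 (allL N20092 (tt N20714 (iv F169766)) (tt N20611 (iv F169173)) (tt N21580 (iv F173770)) (tt N18671 F166997) (tt N20092 F166998) (tt N18450 F166999) (tt N18382 (iv D36019)) (tt N21589 D37516) (tt N21565 (iv F173713)) (tt N21053 (iv F171590)))
theorem Q20094 : ∀ i, i < 20094 → P i := stepQ 20093 Q20093 (allL N20093 (tt N20715 (iv F169770)) (tt N20507 (iv F168531)) (tt N21581 (iv F173774)) (tt N18672 F167000) (tt N20093 F167001) (tt N18383 F167002) (tt N21053 (iv F171589)) (tt N21588 (iv F173801)) (tt N21590 D37517) (tt N18382 (iv D36020)))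
theorem Q20095 : ∀ i, i < 20095 → P i := stepQ 20094 Q20094 (allL N20094 (tt N20716 (iv F169774)) (tt N21505 (iv F173447)) (tt N21582 (iv F173778)) (tt N18386 F167003) (tt N21591 D37518) (tt N18384 (iv D36021)) (tt N20094 F167004) (tt N18451 F167005) (tt N21531 (iv F173595)) (tt N21592 D37519))
theorem Q20096 : ∀ i, i < 20096 → P i := stepQ 20095 Q20095 (allL N20095 (tt N20717 (iv F169778)) (tt N20583 (iv F168979)) (tt N21583 (iv F173783)) (tt N18387 F167006) (tt N21586 (iv F173793)) (tt N21592 (iv F173810)) (tt N18385 F167007) (tt N18452 F167008) (tt N21518 (iv F173522)) (tt N18384 (iv D36022)))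
theorem Q20097 : ∀ i, i < 20097 → P i := stepQ 20096 Q20096 (allL N20096 (tt N20718 (iv F169782)) (tt N18741 F167009) (tt N18518 F167010) (tt N21593 D37520) (tt N18386 (iv D36023)) (tt N18674 F167011) (tt N20096 F167012) (tt N18453 F167013) (tt N21532 (iv F173601)) (tt N21594 D37521))
theorem Q20098 : ∀ i, i < 20098 → P i := stepQ 20097 Q20097 (allL N20097 (tt N20719 (iv F169787)) (tt N20584 (iv F168986)) (tt N18519 F167014) (tt N21592 (iv F173809)) (tt N21594 (iv F173819)) (tt N18387 F167015) (tt N20097 F167016) (tt N18454 F167017) (tt N21595 D37522) (tt N18386 (iv D36024)))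
theorem Q20099 : ∀ i, i < 20099 → P i := stepQ 20098 Q20098 (allL N20098 (tt N20722 (iv F169807)) (tt N20455 (iv F168189)) (tt N18390 F167018) (tt N20493 (iv F168445)) (tt N18389 F167019) (tt N20728 (iv F169850)) (tt N21596 D37523) (tt N18388 (iv D36025)) (tt N20529 (iv F168670)) (tt N18589 F167020))
theorem Q20100 : ∀ i, i < 20100 → P i := stepQ 20099 Q20099 (allL N20099 (tt N20723 (iv F169813)) (tt N20458 (iv F168211)) (tt N18392 F167021) (tt N18520 F167022) (tt N21596 (iv F173829)) (tt N18677 F167023) (tt N18389 (iv D36026)) (tt N18605 F167024) (tt N20533 (iv F168695)) (tt N18590 F167025))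
theorem Q20101 : ∀ i, i < 20101 → P i := stepQ 20100 Q20100 (allL N20100 (tt N20724 (iv F169820)) (tt N18649 F167026) (tt N21596 (iv F173828)) (tt N18402 F167027) (tt N18392 F167028) (tt N21597 D37524) (tt N18390 (iv D36027)) (tt N18606 F167029) (tt N21598 D37525) (tt N18591 F167030))
theorem Q20102 : ∀ i, i < 20102 → P i := stepQ 20101 Q20101 (allL N20101 (tt N20725 (iv F169826)) (tt N18650 F167031) (tt N20529 (iv F168666)) (tt N18403 F167032) (tt N18393 F167033) (tt N21599 D37526) (tt N21598 (iv F173840)) (tt N18391 F167034) (tt N18390 (iv D36028)) (tt N20523 (iv F168633)))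
theorem Q20103 : ∀ i, i < 20103 → P i := stepQ 20102 Q20102 (allL N20102 (tt N20626 (iv F169261)) (tt N18651 F167035) (tt N20531 (iv F168678)) (tt N18404 F167036) (tt N20102 F167037) (tt N18391 (iv D36029)) (tt N21600 D37527) (tt N21599 (iv F173845)) (tt N20603 (iv F169121)) (tt N20524 (iv F168639)))
theorem Q20104 : ∀ i, i < 20104 → P i := stepQ 20103 Q20103 (allL N20103 (tt N20726 (iv F169833)) (tt N18653 F167038) (tt N20533 (iv F168691)) (tt N18394 F167039) (tt N21598 (iv F173839)) (tt N21601 D37528) (tt N18393 F167040) (tt N18609 F167041) (tt N18392 (iv D36030)) (tt N20525 (iv F168646)))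
theorem Q20105 : ∀ i, i < 20105 → P i := stepQ 20104 Q20104 (allL N20104 (tt N20727 (iv F169840)) (tt N18655 F167042) (tt N18522 F167043) (tt N21601 (iv F173852)) (tt N21602 D37529) (tt N18394 (iv D36031)) (tt N20104 F167044) (tt N18610 F167045) (tt N18682 F167046) (tt N20585 (iv F168998)))
theorem Q20106 : ∀ i, i < 20106 → P i := stepQ 20105 Q20105 (allL N20105 (tt N21145 (iv F171988)) (tt N18398 F167047) (tt N21506 (iv F173453)) (tt N18691 F167048) (tt N18396 F167049) (tt N20964 (iv F171155)) (tt N21603 D37530) (tt N18395 (iv D36032)) (tt N18689 F167050) (tt N21499 (iv F173419)))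
theorem Q20107 : ∀ i, i < 20107 → P i := stepQ 20106 Q20106 (allL N20106 (tt N21222 (iv F172337)) (tt N18400 F167051) (tt N21507 (iv F173459)) (tt N18530 F167052) (tt N21603 (iv F173864)) (tt N18435 F167053) (tt N18396 (iv D36033)) (tt N21521 (iv F173539)) (tt N18752 F167054) (tt N21500 (iv F173426)))
theorem Q20108 : ∀ i, i < 20108 → P i := stepQ 20107 Q20107 (allL N20107 (tt N20492 (iv F168437)) (tt N18691 F167055) (tt N20493 (iv F168444)) (tt N18398 F167056) (tt N18531 F167057) (tt N20477 (iv F168345)) (tt N21604 D37531) (tt N18397 (iv D36034)) (tt N18687 F167058) (tt N20488 (iv F168419)))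
theorem Q20109 : ∀ i, i < 20109 → P i := stepQ 20108 Q20108 (allL N20108 (tt N20735 (iv F169890)) (tt N21603 (iv F173862)) (tt N18402 F167059) (tt N21604 (iv F173867)) (tt N18400 F167060) (tt N21605 D37532) (tt N18398 (iv D36035)) (tt N21523 (iv F173550)) (tt N21606 D37533) (tt N21501 (iv F173430)))
theorem Q20110 : ∀ i, i < 20110 → P i := stepQ 20109 Q20109 (allL N20109 (tt N20634 (iv F169302)) (tt N18689 F167061) (tt N18403 F167062) (tt N18687 F167063) (tt N18401 F167064) (tt N20607 (iv F169147)) (tt N21606 (iv F173876)) (tt N18399 F167065) (tt N18398 (iv D36036)) (tt N18705 (iv F167066)))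
theorem Q20111 : ∀ i, i < 20111 → P i := stepQ 20110 Q20110 (allL N20110 (tt N20644 (iv F169365)) (tt N18752 F167067) (tt N18406 F167068) (tt N18533 F167069) (tt N21606 (iv F173875)) (tt N21607 D37534) (tt N18401 F167070) (tt N21526 (iv F173569)) (tt N18400 (iv D36037)) (tt N18722 (iv F167071)))
theorem Q20112 : ∀ i, i < 20112 → P i := stepQ 20111 Q20111 (allL N20111 (tt N20736 (iv F169893)) (tt N21512 (iv F173487)) (tt N21605 (iv F173870)) (tt N21597 (iv F173833)) (tt N18446 F167072) (tt N18402 (iv D36038)) (tt N21318 (iv F172834)) (tt N21527 (iv F173574)) (tt N21608 D37535) (tt N21503 (iv F173441)))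
theorem Q20113 : ∀ i, i < 20113 → P i := stepQ 20112 Q20112 (allL N20112 (tt N20737 (iv F169897)) (tt N21513 (iv F173492)) (tt N21606 (iv F173873)) (tt N21598 (iv F173838)) (tt N18406 F167073) (tt N21609 D37536) (tt N18403 F167074) (tt N21528 (iv F173580)) (tt N18402 (iv D36039)) (tt N21610 D37537))
theorem Q20114 : ∀ i, i < 20114 → P i := stepQ 20113 Q20113 (allL N20113 (tt N20628 (iv F169271)) (tt N21514 (iv F173497)) (tt N20607 (iv F169144)) (tt N21599 (iv F173843)) (tt N18457 F167075) (tt N18403 (iv D36040)) (tt N21611 D37538) (tt N18404 F167076) (tt N20604 (iv F169127)) (tt N21414 (iv F173164)))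
theorem Q20115 : ∀ i, i < 20115 → P i := stepQ 20114 Q20114 (allL N20114 (tt N20738 (iv F169901)) (tt N21515 (iv F173501)) (tt N18705 F167077) (tt N20523 (iv F168630)) (tt N18407 F167078) (tt N21414 (iv F173163)) (tt N21610 (iv F173887)) (tt N18405 F167079) (tt N20521 (iv F168619)) (tt N18403 (iv D36041)))
theorem Q20116 : ∀ i, i < 20116 → P i := stepQ 20115 Q20115 (allL N20115 (tt N20613 (iv F169185)) (tt N21516 (iv F173507)) (tt N18620 F167080) (tt N21600 (iv F173847)) (tt N18458 F167081) (tt N21530 (iv F173589)) (tt N18404 (iv D36042)) (tt N21612 D37539) (tt N18617 F167082) (tt N21395 (iv F173105)))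
theorem Q20117 : ∀ i, i < 20117 → P i := stepQ 20116 Q20116 (allL N20116 (tt N20739 (iv F169908)) (tt N21517 (iv F173512)) (tt N21607 (iv F173879)) (tt N18408 F167083) (tt N21613 D37540) (tt N18406 (iv D36043)) (tt N18459 F167084) (tt N21531 (iv F173594)) (tt N18451 F167085) (tt N21614 D37541))
theorem Q20118 : ∀ i, i < 20118 → P i := stepQ 20117 Q20117 (allL N20117 (tt N20740 (iv F169913)) (tt N21518 (iv F173517)) (tt N18722 F167086) (tt N18409 F167087) (tt N21610 (iv F173886)) (tt N21614 (iv F173896)) (tt N18407 F167088) (tt N20589 (iv F169025)) (tt N20583 (iv F168983)) (tt N18406 (iv D36044)))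
theorem Q20119 : ∀ i, i < 20119 → P i := stepQ 20118 Q20118 (allL N20118 (tt N20741 (iv F169920)) (tt N18764 F167089) (tt N18536 F167090) (tt N21615 D37542) (tt N18408 (iv D36045)) (tt N21602 (iv F173858)) (tt N18461 F167091) (tt N21532 (iv F173600)) (tt N18453 F167092) (tt N21616 D37543))
theorem Q20120 : ∀ i, i < 20120 → P i := stepQ 20119 Q20119 (allL N20119 (tt N20742 (iv F169925)) (tt N21519 (iv F173523)) (tt N18537 F167093) (tt N21614 (iv F173895)) (tt N21616 (iv F173903)) (tt N18409 F167094) (tt N18462 F167095) (tt N20591 (iv F169036)) (tt N21617 D37544) (tt N18408 (iv D36046)))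
theorem Q20121 : ∀ i, i < 20121 → P i := stepQ 20120 Q20120 (allL N20120 (tt N18412 F167096) (tt N20743 (iv F169932)) (tt N21079 (iv F171690)) (tt N20682 (iv F169602)) (tt N18410 (iv D36047)) (tt N21102 (iv F171804)) (tt N20753 (iv F169989)) (tt N21618 D37545) (tt N20680 F169594) (tt N18429 F167097))
theorem Q20122 : ∀ i, i < 20122 → P i := stepQ 20121 Q20121 (allL N20121 (tt N18413 F167098) (tt N20744 (iv F169937)) (tt N21197 (iv F172194)) (tt N18538 F167099) (tt N21618 (iv F173911)) (tt N18411 F167100) (tt N21619 D37546) (tt N18410 (iv D36048)) (tt N20845 (iv F170441)) (tt N18430 F167101))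
theorem Q20123 : ∀ i, i < 20123 → P i := stepQ 20122 Q20122 (allL N20122 (tt N21618 (iv F173910)) (tt N18416 F167102) (tt N21520 (iv F173530)) (tt N21510 (iv F173477)) (tt N18413 F167103) (tt N21122 (iv F171890)) (tt N21620 D37547) (tt N18412 (iv D36049)) (tt N21508 (iv F173469)) (tt N18433 F167104))
theorem Q20124 : ∀ i, i < 20124 → P i := stepQ 20123 Q20123 (allL N20123 (tt N21619 (iv F173913)) (tt N18418 F167105) (tt N21521 (iv F173536)) (tt N18539 F167106) (tt N21620 (iv F173917)) (tt N21500 (iv F173423)) (tt N18413 (iv D36050)) (tt N21507 (iv F173462)) (tt N21621 D37548) (tt N18435 F167107))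
theorem Q20125 : ∀ i, i < 20125 → P i := stepQ 20124 Q20124 (allL N20124 (tt N20845 (iv F170437)) (tt N18419 F167108) (tt N18728 F167109) (tt N18498 F167110) (tt N21508 (iv F173468)) (tt N20124 F167111) (tt N21621 (iv F173922)) (tt N18414 F167112) (tt N18413 (iv D36051)) (tt N18509 (iv F167113)))
theorem Q20126 : ∀ i, i < 20126 → P i := stepQ 20125 Q20125 (allL N20125 (tt N20752 (iv F169978)) (tt N21510 (iv F173475)) (tt N18689 F167114) (tt N18416 F167115) (tt N18540 F167116) (tt N21124 (iv F171899)) (tt N21622 D37549) (tt N18415 (iv D36052)) (tt N21506 (iv F173456)) (tt N18438 F167117))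
theorem Q20127 : ∀ i, i < 20127 → P i := stepQ 20126 Q20126 (allL N20126 (tt N20754 (iv F169991)) (tt N21620 (iv F173916)) (tt N18421 F167118) (tt N21622 (iv F173926)) (tt N18418 F167119) (tt N21623 D37550) (tt N18416 (iv D36053)) (tt N21509 (iv F173473)) (tt N21624 D37551) (tt N18440 F167120))
theorem Q20128 : ∀ i, i < 20128 → P i := stepQ 20127 Q20127 (allL N20127 (tt N20755 (iv F169995)) (tt N21508 (iv F173465)) (tt N18422 F167121) (tt N21506 (iv F173454)) (tt N18419 F167122) (tt N21625 D37552) (tt N21624 (iv F173933)) (tt N18417 F167123) (tt N18416 (iv D36054)) (tt N21570 (iv F173729)))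
theorem Q20129 : ∀ i, i < 20129 → P i := stepQ 20128 Q20128 (allL N20128 (tt N20756 (iv F169999)) (tt N20915 (iv F170854)) (tt N18423 F167124) (tt N20913 F170845) (tt N20128 F167125) (tt N18417 (iv D36055)) (tt N20949 (iv F171076)) (tt N21625 (iv F173936)) (tt N20960 (iv F171132)) (tt N21553 (iv F173678)))
theorem Q20130 : ∀ i, i < 20130 → P i := stepQ 20129 Q20129 (allL N20129 (tt N20758 (iv F170010)) (tt N21621 (iv F173919)) (tt N18425 F167126) (tt N18542 F167127) (tt N21624 (iv F173932)) (tt N21626 D37553) (tt N18419 F167128) (tt N21511 (iv F173485)) (tt N18418 (iv D36056)) (tt N21627 D37554))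
theorem Q20131 : ∀ i, i < 20131 → P i := stepQ 20130 Q20130 (allL N20130 (tt N20759 (iv F170014)) (tt N18509 F167129) (tt N18426 F167130) (tt N18506 F167131) (tt N21570 (iv F173727)) (tt N20130 F167132) (tt N21627 (iv F173943)) (tt N18420 F167133) (tt N18445 F167134) (tt N18419 (iv D36057)))
theorem Q20132 : ∀ i, i < 20132 → P i := stepQ 20131 Q20131 (allL N20131 (tt N20760 (iv F170020)) (tt N21527 (iv F173571)) (tt N21623 (iv F173929)) (tt N18695 F167135) (tt N21503 (iv F173439)) (tt N18421 (iv D36058)) (tt N21128 (iv F171917)) (tt N21512 (iv F173490)) (tt N21628 D37555) (tt N18446 F167136))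
theorem Q20133 : ∀ i, i < 20133 → P i := stepQ 20132 Q20132 (allL N20132 (tt N20761 (iv F170024)) (tt N21528 (iv F173576)) (tt N21624 (iv F173931)) (tt N18696 F167137) (tt N18425 F167138) (tt N21629 D37556) (tt N18422 F167139) (tt N21513 (iv F173496)) (tt N18421 (iv D36059)) (tt N21630 D37557))
theorem Q20134 : ∀ i, i < 20134 → P i := stepQ 20133 Q20133 (allL N20133 (tt N20762 (iv F170028)) (tt N21529 (iv F173581)) (tt N21625 (iv F173934)) (tt N18697 F167140) (tt N20133 F167141) (tt N18422 (iv D36060)) (tt N21631 D37558) (tt N18423 F167142) (tt N21130 (iv F171927)) (tt N21632 D37559))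
theorem Q20135 : ∀ i, i < 20135 → P i := stepQ 20134 Q20134 (allL N20134 (tt N20763 (iv F170033)) (tt N20536 (iv F168710)) (tt N21570 (iv F173725)) (tt N18698 F167143) (tt N18426 F167144) (tt N21632 (iv F173956)) (tt N21630 (iv F173950)) (tt N18424 F167145) (tt N18449 F167146) (tt N18422 (iv D36061)))
theorem Q20136 : ∀ i, i < 20136 → P i := stepQ 20135 Q20135 (allL N20135 (tt N20764 (iv F170038)) (tt N21530 (iv F173585)) (tt N20949 (iv F171074)) (tt N18699 F167147) (tt N20135 F167148) (tt N21516 (iv F173510)) (tt N18423 (iv D36062)) (tt N21633 D37560) (tt N20992 (iv F171302)) (tt N21634 D37561))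
theorem Q20137 : ∀ i, i < 20137 → P i := stepQ 20136 Q20136 (allL N20136 (tt N20765 (iv F170042)) (tt N20537 (iv F168717)) (tt N21553 (iv F173675)) (tt N18700 F167149) (tt N20136 F167150) (tt N18424 F167151) (tt N21634 (iv F173962)) (tt N21632 (iv F173957)) (tt N21166 (iv F172086)) (tt N18423 (iv D36063)))
theorem Q20138 : ∀ i, i < 20138 → P i := stepQ 20137 Q20137 (allL N20137 (tt N20766 (iv F170046)) (tt N21531 (iv F173591)) (tt N21626 (iv F173937)) (tt N18427 F167152) (tt N21635 D37562) (tt N18425 (iv D36064)) (tt N20137 F167153) (tt N21517 (iv F173515)) (tt N21505 (iv F173451)) (tt N21636 D37563))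
theorem Q20139 : ∀ i, i < 20139 → P i := stepQ 20138 Q20138 (allL N20138 (tt N20767 (iv F170049)) (tt N20589 (iv F169021)) (tt N21627 (iv F173941)) (tt N18428 F167154) (tt N21630 (iv F173949)) (tt N21636 (iv F173965)) (tt N18426 F167155) (tt N21518 (iv F173521)) (tt N18452 F167156) (tt N18425 (iv D36065)))
theorem Q20140 : ∀ i, i < 20140 → P i := stepQ 20139 Q20139 (allL N20139 (tt N20768 (iv F170053)) (tt N21532 (iv F173596)) (tt N18547 F167157) (tt N21637 D37564) (tt N18427 (iv D36066)) (tt N18703 F167158) (tt N20139 F167159) (tt N18764 F167160) (tt N18741 F167161) (tt N21638 D37565))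
theorem Q20141 : ∀ i, i < 20141 → P i := stepQ 20140 Q20140 (allL N20140 (tt N20769 (iv F170059)) (tt N20591 (iv F169033)) (tt N18548 F167162) (tt N21636 (iv F173964)) (tt N21638 (iv F173972)) (tt N18428 F167163) (tt N20140 F167164) (tt N21519 (iv F173528)) (tt N21639 D37566) (tt N18427 (iv D36067)))
theorem Q20142 : ∀ i, i < 20142 → P i := stepQ 20141 Q20141 (allL N20141 (tt N18432 F167165) (tt N20770 (iv F170064)) (tt N20688 (iv F169636)) (tt N18429 (iv D36068)) (tt N18549 F167166) (tt N21099 F171791) (tt N20757 (iv F170008)) (tt N21640 D37567) (tt N20707 (iv F169738)) (tt N20682 F169605))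
theorem Q20143 : ∀ i, i < 20143 → P i := stepQ 20142 Q20142 (allL N20142 (tt N18433 F167167) (tt N20771 (iv F170068)) (tt N21533 (iv F173603)) (tt N21640 (iv F173982)) (tt N18430 F167168) (tt N21101 F171800) (tt N21641 D37568) (tt N18429 (iv D36069)) (tt N21642 D37569) (tt N21618 (iv F173912)))
theorem Q20144 : ∀ i, i < 20144 → P i := stepQ 20143 Q20143 (allL N20143 (tt N18434 F167169) (tt N20772 (iv F170073)) (tt N21107 (iv F171828)) (tt N20707 (iv F169735)) (tt N18431 F167170) (tt N21055 (iv F171598)) (tt N20787 (iv F170148)) (tt N21642 (iv F173988)) (tt N18429 (iv D36070)) (tt N20703 (iv F169721)))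
theorem Q20145 : ∀ i, i < 20145 → P i := stepQ 20144 Q20144 (allL N20144 (tt N18435 F167171) (tt N20773 (iv F170078)) (tt N21534 (iv F173606)) (tt N18551 F167172) (tt N21641 (iv F173985)) (tt N21222 F172341) (tt N18430 (iv D36071)) (tt N21569 (iv F173723)) (tt N21643 D37570) (tt N21619 (iv F173915)))
theorem Q20146 : ∀ i, i < 20146 → P i := stepQ 20145 Q20145 (allL N20145 (tt N18436 F167173) (tt N20774 (iv F170083)) (tt N21213 (iv F172291)) (tt N18552 F167174) (tt N21642 (iv F173987)) (tt N18463 F167175) (tt N21643 (iv F173991)) (tt N18431 F167176) (tt N18430 (iv D36072)) (tt N20861 (iv F170538)))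
theorem Q20147 : ∀ i, i < 20147 → P i := stepQ 20146 Q20146 (allL N20146 (tt N21640 (iv F173981)) (tt N18438 F167177) (tt N21515 (iv F173502)) (tt N18433 F167178) (tt N18553 F167179) (tt N21320 (iv F172844)) (tt N21644 D37571) (tt N18432 (iv D36073)) (tt N21579 (iv F173769)) (tt N21510 F173480))
theorem Q20148 : ∀ i, i < 20148 → P i := stepQ 20147 Q20147 (allL N20147 (tt N21641 (iv F173984)) (tt N18440 F167180) (tt N21536 (iv F173615)) (tt N21644 (iv F173993)) (tt N18435 F167181) (tt N21645 D37572) (tt N18433 (iv D36074)) (tt N21571 (iv F173732)) (tt N21646 D37573) (tt N21620 (iv F173918)))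
theorem Q20149 : ∀ i, i < 20149 → P i := stepQ 20148 Q20148 (allL N20148 (tt N21642 (iv F173986)) (tt N18441 F167182) (tt N21537 (iv F173618)) (tt N21579 (iv F173766)) (tt N18436 F167183) (tt N21647 D37574) (tt N21646 (iv F173998)) (tt N18434 F167184) (tt N18433 (iv D36075)) (tt N21575 (iv F173754)))
theorem Q20150 : ∀ i, i < 20150 → P i := stepQ 20149 Q20149 (allL N20149 (tt N21055 (iv F171595)) (tt N18442 F167185) (tt N20746 F169953) (tt N21581 (iv F173775)) (tt N18467 F167186) (tt N18434 (iv D36076)) (tt N21118 (iv F171871)) (tt N21647 (iv F174001)) (tt N21051 (iv F171578)) (tt N20776 (iv F170099)))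
theorem Q20151 : ∀ i, i < 20151 → P i := stepQ 20150 Q20150 (allL N20150 (tt N21643 (iv F173989)) (tt N18444 F167187) (tt N21538 (iv F173624)) (tt N18555 F167188) (tt N21646 (iv F173997)) (tt N21648 D37575) (tt N18436 F167189) (tt N21573 (iv F173743)) (tt N18435 (iv D36077)) (tt N21649 D37576))
theorem Q20152 : ∀ i, i < 20152 → P i := stepQ 20151 Q20151 (allL N20151 (tt N20861 (iv F170534)) (tt N18445 F167190) (tt N18740 F167191) (tt N18511 F167192) (tt N21575 (iv F173752)) (tt N18469 F167193) (tt N21649 (iv F174009)) (tt N18437 F167194) (tt N18509 F167195) (tt N18436 (iv D36078)))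
theorem Q20153 : ∀ i, i < 20153 → P i := stepQ 20152 Q20152 (allL N20152 (tt N20784 (iv F170129)) (tt N21644 (iv F173992)) (tt N18707 F167196) (tt N18440 F167197) (tt N18556 F167198) (tt N21650 D37577) (tt N18438 (iv D36079)) (tt N21574 (iv F173748)) (tt N21651 D37578) (tt N21622 (iv F173928)))
theorem Q20154 : ∀ i, i < 20154 → P i := stepQ 20153 Q20153 (allL N20153 (tt N20785 (iv F170133)) (tt N21579 (iv F173764)) (tt N18708 F167199) (tt N18441 F167200) (tt N18557 F167201) (tt N21652 D37579) (tt N21651 (iv F174017)) (tt N18439 F167202) (tt N18438 (iv D36080)) (tt N21572 (iv F173738)))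
theorem Q20155 : ∀ i, i < 20155 → P i := stepQ 20154 Q20154 (allL N20154 (tt N20786 (iv F170138)) (tt N21581 (iv F173773)) (tt N18709 F167203) (tt N18442 F167204) (tt N20154 F167205) (tt N18439 (iv D36081)) (tt N21653 D37580) (tt N21652 (iv F174021)) (tt N21305 (iv F172789)) (tt N21028 (iv F171484)))
theorem Q20156 : ∀ i, i < 20156 → P i := stepQ 20155 Q20155 (allL N20155 (tt N20788 (iv F170150)) (tt N21645 (iv F173995)) (tt N18446 F167206) (tt N21650 (iv F174013)) (tt N21605 (iv F173871)) (tt N18440 (iv D36082)) (tt N21323 (iv F172851)) (tt N21576 (iv F173756)) (tt N21654 D37581) (tt N21623 (iv F173930)))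
theorem Q20157 : ∀ i, i < 20157 → P i := stepQ 20156 Q20156 (allL N20156 (tt N20789 (iv F170152)) (tt N21646 (iv F173996)) (tt N18447 F167207) (tt N21651 (iv F174015)) (tt N18444 F167208) (tt N21655 D37582) (tt N18441 F167209) (tt N21577 (iv F173760)) (tt N18440 (iv D36083)) (tt N21656 D37583))
theorem Q20158 : ∀ i, i < 20158 → P i := stepQ 20157 Q20157 (allL N20157 (tt N20790 (iv F170156)) (tt N21647 (iv F173999)) (tt N18448 F167210) (tt N21652 (iv F174019)) (tt N18471 F167211) (tt N18441 (iv D36084)) (tt N21657 D37584) (tt N18442 F167212) (tt N21299 (iv F172763)) (tt N21162 (iv F172072)))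
theorem Q20159 : ∀ i, i < 20159 → P i := stepQ 20158 Q20158 (allL N20158 (tt N20791 (iv F170162)) (tt N21575 (iv F173749)) (tt N18449 F167213) (tt N21572 (iv F173735)) (tt N18445 F167214) (tt N21162 (iv F172071)) (tt N21656 (iv F174029)) (tt N18443 F167215) (tt N21570 (iv F173728)) (tt N18441 (iv D36085)))
theorem Q20160 : ∀ i, i < 20160 → P i := stepQ 20159 Q20159 (allL N20159 (tt N20792 (iv F170166)) (tt N21118 (iv F171869)) (tt N18450 F167216) (tt N21653 (iv F174023)) (tt N18472 F167217) (tt N21580 (iv F173772)) (tt N18442 (iv D36086)) (tt N21658 D37585) (tt N20986 F171261) (tt N21097 (iv F171781)))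
theorem Q20161 : ∀ i, i < 20161 → P i := stepQ 20160 Q20160 (allL N20160 (tt N20794 (iv F170176)) (tt N21648 (iv F174002)) (tt N18451 F167218) (tt N18560 F167219) (tt N21659 D37586) (tt N18444 (iv D36087)) (tt N18473 F167220) (tt N21582 (iv F173781)) (tt N21607 (iv F173882)) (tt N21660 D37587))
theorem Q20162 : ∀ i, i < 20162 → P i := stepQ 20161 Q20161 (allL N20161 (tt N20795 (iv F170180)) (tt N21649 (iv F174006)) (tt N18452 F167221) (tt N18561 F167222) (tt N21656 (iv F174028)) (tt N21660 (iv F174038)) (tt N18445 F167223) (tt N21583 (iv F173786)) (tt N21627 (iv F173945)) (tt N18444 (iv D36088)))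
theorem Q20163 : ∀ i, i < 20163 → P i := stepQ 20162 Q20162 (allL N20162 (tt N20796 (iv F170184)) (tt N21543 (iv F173641)) (tt N21654 (iv F174025)) (tt N18717 F167224) (tt N21608 (iv F173884)) (tt N21661 D37588) (tt N21324 (iv F172853)) (tt N21584 (iv F173789)) (tt N18446 (iv D36089)) (tt N21662 D37589))
theorem Q20164 : ∀ i, i < 20164 → P i := stepQ 20163 Q20163 (allL N20163 (tt N20797 (iv F170186)) (tt N21544 (iv F173643)) (tt N21655 (iv F174026)) (tt N18718 F167225) (tt N21663 D37590) (tt N18447 (iv D36090)) (tt N21664 D37591) (tt N21585 (iv F173791)) (tt N21661 (iv F174041)) (tt N21665 D37592))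
theorem Q20165 : ∀ i, i < 20165 → P i := stepQ 20164 Q20164 (allL N20164 (tt N20798 (iv F170188)) (tt N20535 (iv F168705)) (tt N21656 (iv F174027)) (tt N18719 F167226) (tt N18452 F167227) (tt N21665 (iv F174047)) (tt N18449 F167228) (tt N21586 (iv F173795)) (tt N21630 (iv F173951)) (tt N18447 (iv D36091)))
theorem Q20166 : ∀ i, i < 20166 → P i := stepQ 20165 Q20165 (allL N20165 (tt N20799 (iv F170192)) (tt N21144 (iv F171984)) (tt N21657 (iv F174030)) (tt N18720 F167229) (tt N18477 F167230) (tt N21664 (iv F174045)) (tt N18448 (iv D36092)) (tt N21666 D37593) (tt N21327 (iv F172860)) (tt N21164 (iv F172078)))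
theorem Q20167 : ∀ i, i < 20167 → P i := stepQ 20166 Q20166 (allL N20166 (tt N20801 (iv F170201)) (tt N21078 (iv F171684)) (tt N21658 (iv F174032)) (tt N18721 F167231) (tt N18478 F167232) (tt N21589 (iv F173804)) (tt N21666 (iv F174050)) (tt N18450 (iv D36093)) (tt N21329 (iv F172867)) (tt N21098 (iv F171785)))
theorem Q20168 : ∀ i, i < 20168 → P i := stepQ 20167 Q20167 (allL N20167 (tt N20804 (iv F170215)) (tt N21545 (iv F173645)) (tt N21659 (iv F174034)) (tt N21667 D37594) (tt N18451 (iv D36094)) (tt N21663 (iv F174043)) (tt N18479 F167233) (tt N21591 (iv F173808)) (tt N21613 (iv F173893)) (tt N21668 D37595))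
theorem Q20169 : ∀ i, i < 20169 → P i := stepQ 20168 Q20168 (allL N20168 (tt N20805 (iv F170217)) (tt N20588 (iv F169016)) (tt N21660 (iv F174036)) (tt N18454 F167234) (tt N21668 (iv F174054)) (tt N18452 F167235) (tt N18480 F167236) (tt N21592 (iv F173812)) (tt N21669 D37596) (tt N18451 (iv D36095)))
theorem Q20170 : ∀ i, i < 20170 → P i := stepQ 20169 Q20169 (allL N20169 (tt N20806 (iv F170221)) (tt N18761 F167237) (tt N21614 (iv F173894)) (tt N18453 (iv D36096)) (tt N21667 (iv F174052)) (tt N18722 F167238) (tt N18481 F167239) (tt N21593 (iv F173816)) (tt N21615 (iv F173900)) (tt N21607 (iv F173883)))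
theorem Q20171 : ∀ i, i < 20171 → P i := stepQ 20170 Q20170 (allL N20170 (tt N20650 (iv F169399)) (tt N18753 F167240) (tt N18535 F167241) (tt N21607 (iv F173880)) (tt N18454 F167242) (tt N18533 F167243) (tt N18482 F167244) (tt N21594 (iv F173822)) (tt N18560 (iv F167245)) (tt N18453 (iv D36097)))
theorem Q20172 : ∀ i, i < 20172 → P i := stepQ 20171 Q20171 (allL N20171 (tt N20807 (iv F170224)) (tt N20590 (iv F169028)) (tt N18565 F167246) (tt N21669 (iv F174056)) (tt N18560 F167247) (tt N21639 (iv F173979)) (tt N18483 F167248) (tt N21595 (iv F173827)) (tt N18454 (iv D36098)) (tt N21617 (iv F173909)))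
theorem Q20173 : ∀ i, i < 20173 → P i := stepQ 20172 Q20172 (allL N20172 (tt N20643 (iv F169358)) (tt N18772 F167249) (tt N18459 F167250) (tt N18482 F167251) (tt N21670 D37597) (tt N18455 (iv D36099)) (tt N21607 (iv F173881)) (tt N20172 F167252) (tt N18473 F167253) (tt N18481 F167254))
theorem Q20174 : ∀ i, i < 20174 → P i := stepQ 20173 Q20173 (allL N20173 (tt N20641 (iv F169344)) (tt N21547 (iv F173654)) (tt N20610 (iv F169167)) (tt N20173 F167255) (tt N21671 D37598) (tt N18456 (iv D36100)) (tt N21672 D37599) (tt N20173 F167256) (tt N21289 (iv F172713)) (tt N21491 (iv F173394)))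
theorem Q20175 : ∀ i, i < 20175 → P i := stepQ 20174 Q20174 (allL N20174 (tt N20630 (iv F169283)) (tt N21548 (iv F173657)) (tt N20608 (iv F169152)) (tt N20174 F167257) (tt N21611 (iv F173888)) (tt N21672 (iv F174067)) (tt N18457 (iv D36101)) (tt N21673 D37600) (tt N20605 (iv F169134)) (tt N21479 (iv F173361)))
theorem Q20176 : ∀ i, i < 20176 → P i := stepQ 20175 Q20175 (allL N20175 (tt N20615 (iv F169197)) (tt N21549 (iv F173659)) (tt N18622 F167258) (tt N20175 F167259) (tt N21612 (iv F173890)) (tt N20175 F167260) (tt N21673 (iv F174070)) (tt N18458 (iv D36102)) (tt N18618 F167261) (tt N21473 (iv F173338)))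
theorem Q20177 : ∀ i, i < 20177 → P i := stepQ 20176 Q20176 (allL N20176 (tt N20808 (iv F170228)) (tt N21550 (iv F173663)) (tt N21670 (iv F174059)) (tt N21674 D37601) (tt N18459 (iv D36103)) (tt N21671 (iv F174064)) (tt N21613 (iv F173892)) (tt N20176 F167262) (tt N18479 F167263) (tt N21675 D37602))
theorem Q20178 : ∀ i, i < 20178 → P i := stepQ 20177 Q20177 (allL N20177 (tt N20809 (iv F170232)) (tt N21551 (iv F173667)) (tt N18481 F167264) (tt N18462 F167265) (tt N21675 (iv F174077)) (tt N18460 F167266) (tt N21614 (iv F173897)) (tt N20177 F167267) (tt N21676 D37603) (tt N18459 (iv D36104)))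
theorem Q20179 : ∀ i, i < 20179 → P i := stepQ 20178 Q20178 (allL N20178 (tt N20810 (iv F170238)) (tt N18774 F167268) (tt N21676 (iv F174079)) (tt N18461 (iv D36105)) (tt N21674 (iv F174073)) (tt N20178 F167269) (tt N21615 (iv F173899)) (tt N20178 F167270) (tt N18481 F167271) (tt N21677 D37604))
theorem Q20180 : ∀ i, i < 20180 → P i := stepQ 20179 Q20179 (allL N20179 (tt N20811 (iv F170243)) (tt N18775 F167272) (tt N18568 F167273) (tt N21677 (iv F174086)) (tt N18462 F167274) (tt N20179 F167275) (tt N21616 (iv F173904)) (tt N20179 F167276) (tt N18570 F167277) (tt N18461 (iv D36106)))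
theorem Q20181 : ∀ i, i < 20181 → P i := stepQ 20180 Q20180 (allL N20180 (tt N20812 (iv F170250)) (tt N20598 (iv F169082)) (tt N18567 F167278) (tt N21676 (iv F174080)) (tt N18570 F167279) (tt N20180 F167280) (tt N21617 (iv F173908)) (tt N20180 F167281) (tt N18462 (iv D36107)) (tt N18483 F167282))
theorem Q20182 : ∀ i, i < 20182 → P i := stepQ 20181 Q20181 (allL N20181 (tt N21288 (iv F172701)) (tt N18470 F167283) (tt N20581 (iv F168963)) (tt N20181 F167284) (tt N18468 F167285) (tt N21678 D37605) (tt N18466 F167286) (tt N20181 F167287) (tt N18465 (iv D36108)) (tt N20580 F168960))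
theorem Q20183 : ∀ i, i < 20183 → P i := stepQ 20182 Q20182 (allL N20182 (tt N21057 (iv F171604)) (tt N18471 F167288) (tt N20877 (iv F170645)) (tt N20182 F167289) (tt N21647 (iv F174000)) (tt N18466 (iv D36109)) (tt N21679 D37606) (tt N18467 F167290) (tt N21052 (iv F171584)) (tt N20894 (iv F170745)))
theorem Q20184 : ∀ i, i < 20184 → P i := stepQ 20183 Q20183 (allL N20183 (tt N21251 (iv F172491)) (tt N18473 F167291) (tt N20570 (iv F168895)) (tt N18569 F167292) (tt N21680 D37607) (tt N18468 (iv D36110)) (tt N21648 (iv F174004)) (tt N20183 F167293) (tt N18772 F167294) (tt N20569 F168892))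
theorem Q20185 : ∀ i, i < 20185 → P i := stepQ 20184 Q20184 (allL N20184 (tt N20816 (iv F170279)) (tt N21678 (iv F174090)) (tt N18476 F167295) (tt N20184 F167296) (tt N21681 D37608) (tt N18470 (iv D36111)) (tt N21682 D37609) (tt N20184 F167297) (tt N21291 (iv F172726)) (tt N21252 (iv F172501)))
theorem Q20186 : ∀ i, i < 20186 → P i := stepQ 20185 Q20185 (allL N20185 (tt N20817 (iv F170285)) (tt N21679 (iv F174093)) (tt N18477 F167298) (tt N20185 F167299) (tt N21657 (iv F174031)) (tt N21682 (iv F174103)) (tt N18471 (iv D36112)) (tt N21683 D37610) (tt N21300 (iv F172768)) (tt N21229 (iv F172381)))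
theorem Q20187 : ∀ i, i < 20187 → P i := stepQ 20186 Q20186 (allL N20186 (tt N20819 (iv F170296)) (tt N21303 (iv F172776)) (tt N18478 F167300) (tt N20186 F167301) (tt N21658 (iv F174033)) (tt N20186 F167302) (tt N21683 (iv F174106)) (tt N18472 (iv D36113)) (tt N21286 F172694) (tt N21202 (iv F172230)))
theorem Q20188 : ∀ i, i < 20188 → P i := stepQ 20187 Q20187 (allL N20187 (tt N20822 (iv F170316)) (tt N21680 (iv F174095)) (tt N18479 F167303) (tt N21684 D37611) (tt N18473 (iv D36114)) (tt N21681 (iv F174099)) (tt N21659 (iv F174035)) (tt N20187 F167304) (tt N21670 (iv F174062)) (tt N21685 D37612))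
theorem Q20189 : ∀ i, i < 20189 → P i := stepQ 20188 Q20188 (allL N20188 (tt N20823 (iv F170319)) (tt N20569 (iv F168887)) (tt N18480 F167305) (tt N18570 F167306) (tt N21685 (iv F174111)) (tt N18474 F167307) (tt N21660 (iv F174039)) (tt N20188 F167308) (tt N21677 (iv F174089)) (tt N18473 (iv D36115)))
theorem Q20190 : ∀ i, i < 20190 → P i := stepQ 20189 Q20189 (allL N20189 (tt N20814 (iv F170265)) (tt N21251 (iv F172492)) (tt N21291 (iv F172723)) (tt N18484 F167309) (tt N21686 D37613) (tt N18475 (iv D36116)) (tt N21687 D37614) (tt N20189 F167310) (tt N18476 F167311) (tt N21463 (iv F173302)))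
theorem Q20191 : ∀ i, i < 20191 → P i := stepQ 20190 Q20190 (allL N20190 (tt N20824 (iv F170324)) (tt N21250 (iv F172486)) (tt N21681 (iv F174098)) (tt N21492 (iv F173396)) (tt N18476 (iv D36117)) (tt N18479 F167312) (tt N21688 D37615) (tt N20190 F167313) (tt N21686 (iv F174114)) (tt N21253 (iv F172505)))
theorem Q20192 : ∀ i, i < 20192 → P i := stepQ 20191 Q20191 (allL N20191 (tt N20825 (iv F170327)) (tt N21221 (iv F172333)) (tt N21682 (iv F174101)) (tt N18485 F167314) (tt N21688 (iv F174117)) (tt N18477 F167315) (tt N18476 (iv D36118)) (tt N21689 D37616) (tt N21687 (iv F174116)) (tt N21232 (iv F172396)))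
theorem Q20193 : ∀ i, i < 20193 → P i := stepQ 20192 Q20192 (allL N20192 (tt N20826 (iv F170330)) (tt N21196 (iv F172188)) (tt N21683 (iv F174104)) (tt N18486 F167316) (tt N21666 (iv F174049)) (tt N21689 (iv F174119)) (tt N18478 F167317) (tt N18477 (iv D36119)) (tt N21330 (iv F172870)) (tt N21204 (iv F172241)))
theorem Q20194 : ∀ i, i < 20194 → P i := stepQ 20193 Q20193 (allL N20193 (tt N20830 (iv F170348)) (tt N18773 F167318) (tt N21675 (iv F174076)) (tt N18479 (iv D36120)) (tt N18481 F167319) (tt N21492 (iv F173397)) (tt N21667 (iv F174053)) (tt N20193 F167320) (tt N21674 (iv F174075)) (tt N21670 (iv F174063)))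
theorem Q20195 : ∀ i, i < 20195 → P i := stepQ 20194 Q20194 (allL N20194 (tt N20831 (iv F170351)) (tt N20599 (iv F169089)) (tt N21685 (iv F174110)) (tt N21670 (iv F174060)) (tt N18480 F167321) (tt N21253 (iv F172503)) (tt N21668 (iv F174055)) (tt N20194 F167322) (tt N21684 (iv F174109)) (tt N18479 (iv D36121)))
theorem Q20196 : ∀ i, i < 20196 → P i := stepQ 20195 Q20195 (allL N20195 (tt N20832 (iv F170354)) (tt N20600 (iv F169095)) (tt N21677 (iv F174085)) (tt N18483 F167323) (tt N21684 (iv F174107)) (tt N20195 F167324) (tt N21669 (iv F174057)) (tt N20195 F167325) (tt N18480 (iv D36122)) (tt N21676 (iv F174083)))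
theorem Q20197 : ∀ i, i < 20197 → P i := stepQ 20196 Q20196 (allL N20196 (tt N20833 (iv F170358)) (tt N21224 (iv F172350)) (tt N20196 F167326) (tt N21687 (iv F174115)) (tt N21481 (iv F173367)) (tt N20893 (iv F170739)) (tt N18484 (iv D36123)) (tt N21690 D37617) (tt N18485 F167327) (tt N21489 (iv F173386)))
theorem Q20198 : ∀ i, i < 20198 → P i := stepQ 20197 Q20197 (allL N20197 (tt N20835 (iv F170370)) (tt N21198 (iv F172200)) (tt N20197 F167328) (tt N21689 (iv F174118)) (tt N21475 (iv F173346)) (tt N18486 F167329) (tt N20197 F167330) (tt N18485 (iv D36124)) (tt N21690 (iv F174123)) (tt N21207 (iv F172259)))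
theorem Q20199 : ∀ i, i < 20199 → P i := stepQ 20198 Q20198 (allL N20198 (tt N21199 (iv F172206)) (tt N18491 F167331) (tt N18733 F167332) (tt N21521 (iv F173537)) (tt N18730 F167333) (tt N18507 F167334) (tt N18488 (iv D36125)) (tt N18530 F167335) (tt N18729 F167336) (tt N18821 F167337))
theorem Q20200 : ∀ i, i < 20200 → P i := stepQ 20199 Q20199 (allL N20199 (tt N20501 (iv F168492)) (tt N18647 F167338) (tt N18681 F167339) (tt N18490 F167340) (tt N21522 (iv F173545)) (tt N20199 F167341) (tt N21691 D37618) (tt N18489 (iv D36126)) (tt N18642 F167342) (tt N18678 F167343))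
theorem Q20201 : ∀ i, i < 20201 → P i := stepQ 20200 Q20200 (allL N20200 (tt N20505 (iv F168515)) (tt N18730 F167344) (tt N18493 F167345) (tt N21691 (iv F174126)) (tt N18491 F167346) (tt N21692 D37619) (tt N18490 (iv D36127)) (tt N18532 F167347) (tt N18675 F167348) (tt N18747 F167349))
theorem Q20202 : ∀ i, i < 20202 → P i := stepQ 20201 Q20201 (allL N20201 (tt N20651 (iv F169406)) (tt N18729 F167350) (tt N18494 F167351) (tt N21526 (iv F173567)) (tt N18675 F167352) (tt N21594 (iv F173820)) (tt N18492 F167353) (tt N18533 F167354) (tt N18491 (iv D36128)) (tt N18674 F167355))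
theorem Q20203 : ∀ i, i < 20203 → P i := stepQ 20202 Q20202 (allL N20202 (tt N20838 (iv F170387)) (tt N18828 F167356) (tt N21692 (iv F174131)) (tt N18751 F167357) (tt N18514 F167358) (tt N18493 (iv D36129)) (tt N20202 F167359) (tt N18534 F167360) (tt N18737 F167361) (tt N18749 F167362))
theorem Q20204 : ∀ i, i < 20204 → P i := stepQ 20203 Q20203 (allL N20203 (tt N20839 (iv F170395)) (tt N18829 F167363) (tt N21594 (iv F173818)) (tt N18495 F167364) (tt N18519 F167365) (tt N18494 (iv D36130)) (tt N20203 F167366) (tt N18535 F167367) (tt N18516 F167368) (tt N18518 F167369))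
theorem Q20205 : ∀ i, i < 20205 → P i := stepQ 20204 Q20204 (allL N20204 (tt N20840 (iv F170403)) (tt N18830 F167370) (tt N21532 (iv F173597)) (tt N20593 (iv F169046)) (tt N18495 (iv D36131)) (tt N18857 F167371) (tt N20204 F167372) (tt N18536 F167373) (tt N18518 F167374) (tt N20595 (iv F169067)))
theorem Q20206 : ∀ i, i < 20206 → P i := stepQ 20205 Q20205 (allL N20205 (tt N20883 (iv F170672)) (tt N18499 F167375) (tt N18544 F167376) (tt N21507 (iv F173460)) (tt N18542 F167377) (tt N18821 F167378) (tt N18497 (iv D36132)) (tt N18539 F167379) (tt N18541 F167380) (tt N18507 F167381))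
theorem Q20207 : ∀ i, i < 20207 → P i := stepQ 20206 Q20206 (allL N20206 (tt N20846 (iv F170443)) (tt N18542 F167382) (tt N18501 F167383) (tt N21621 (iv F173921)) (tt N18499 F167384) (tt N21693 D37620) (tt N18498 (iv D36133)) (tt N18541 F167385) (tt N18539 F167386) (tt N18510 F167387))
theorem Q20208 : ∀ i, i < 20208 → P i := stepQ 20207 Q20207 (allL N20207 (tt N20847 (iv F170449)) (tt N18541 F167388) (tt N18502 F167389) (tt N21511 (iv F173483)) (tt N18539 F167390) (tt N21694 D37621) (tt N18500 F167391) (tt N18542 F167392) (tt N18499 (iv D36134)) (tt N18554 (iv F167393)))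
theorem Q20209 : ∀ i, i < 20209 → P i := stepQ 20208 Q20208 (allL N20208 (tt N20848 (iv F170455)) (tt N18825 F167394) (tt N21693 (iv F174138)) (tt N18732 F167395) (tt N18749 F167396) (tt N18501 (iv D36135)) (tt N20208 F167397) (tt N18543 F167398) (tt N18767 F167399) (tt N18514 F167400))
theorem Q20210 : ∀ i, i < 20210 → P i := stepQ 20209 Q20209 (allL N20209 (tt N20849 (iv F170463)) (tt N18826 F167401) (tt N21694 (iv F174145)) (tt N18503 F167402) (tt N18759 F167403) (tt N18502 (iv D36136)) (tt N18769 F167404) (tt N18545 F167405) (tt N18748 F167406) (tt N18758 F167407))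
theorem Q20211 : ∀ i, i < 20211 → P i := stepQ 20210 Q20210 (allL N20210 (tt N20850 (iv F170471)) (tt N18827 F167408) (tt N21519 (iv F173524)) (tt N18758 F167409) (tt N18760 F167410) (tt N18504 F167411) (tt N18771 F167412) (tt N18548 F167413) (tt N20594 (iv F169059)) (tt N18503 (iv D36137)))
theorem Q20212 : ∀ i, i < 20212 → P i := stepQ 20211 Q20211 (allL N20211 (tt N18507 F167414) (tt N20852 (iv F170487)) (tt N18840 F167415) (tt N21569 (iv F173722)) (tt N20885 (iv F170684)) (tt N21199 F172212) (tt N18505 (iv D36138)) (tt N18551 F167416) (tt N20905 (iv F170794)) (tt N20883 F170677))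
theorem Q20213 : ∀ i, i < 20213 → P i := stepQ 20212 Q20212 (allL N20212 (tt N20885 (iv F170682)) (tt N18510 F167417) (tt N18546 F167418) (tt N21627 (iv F173942)) (tt N18507 F167419) (tt N21695 D37622) (tt N18506 (iv D36139)) (tt N18554 F167420) (tt N18561 F167421) (tt N18542 F167422))
theorem Q20214 : ∀ i, i < 20214 → P i := stepQ 20213 Q20213 (allL N20213 (tt N20905 (iv F170789)) (tt N18512 F167423) (tt N18564 F167424) (tt N21573 (iv F173741)) (tt N18561 F167425) (tt N21696 D37623) (tt N18508 F167426) (tt N18555 F167427) (tt N18507 (iv D36140)) (tt N18559 F167428))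
theorem Q20215 : ∀ i, i < 20215 → P i := stepQ 20214 Q20214 (allL N20214 (tt N20860 (iv F170530)) (tt N21627 (iv F173940)) (tt N18739 F167429) (tt N18510 F167430) (tt N21574 (iv F173747)) (tt N21697 D37624) (tt N18509 (iv D36141)) (tt N18556 F167431) (tt N21649 (iv F174011)) (tt N21621 F173924))
theorem Q20216 : ∀ i, i < 20216 → P i := stepQ 20215 Q20215 (allL N20215 (tt N20862 (iv F170540)) (tt N21695 (iv F174151)) (tt N18514 F167432) (tt N21697 (iv F174164)) (tt N21692 (iv F174132)) (tt N18510 (iv D36142)) (tt N20215 F167433) (tt N18558 F167434) (tt N21698 D37625) (tt N21693 (iv F174143)))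
theorem Q20217 : ∀ i, i < 20217 → P i := stepQ 20216 Q20216 (allL N20216 (tt N20863 (iv F170544)) (tt N18561 F167435) (tt N18515 F167436) (tt N21649 (iv F174008)) (tt N18512 F167437) (tt N20596 (iv F169070)) (tt N18511 F167438) (tt N18559 F167439) (tt N18510 (iv D36143)) (tt N18555 F167440))
theorem Q20218 : ∀ i, i < 20218 → P i := stepQ 20217 Q20217 (allL N20217 (tt N20864 (iv F170551)) (tt N21696 (iv F174157)) (tt N18516 F167441) (tt N21582 (iv F173779)) (tt N21595 (iv F173825)) (tt N18512 (iv D36144)) (tt N20217 F167442) (tt N18560 F167443) (tt N21594 F173823) (tt N21699 D37626))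
theorem Q20219 : ∀ i, i < 20219 → P i := stepQ 20218 Q20218 (allL N20218 (tt N20865 (iv F170555)) (tt N18559 F167444) (tt N18517 F167445) (tt N21583 (iv F173784)) (tt N18555 F167446) (tt N21699 (iv F174175)) (tt N18513 F167447) (tt N18561 F167448) (tt N18554 F167449) (tt N18512 (iv D36145)))
theorem Q20220 : ∀ i, i < 20220 → P i := stepQ 20219 Q20219 (allL N20219 (tt N20866 (iv F170561)) (tt N18843 F167450) (tt N21698 (iv F174167)) (tt N18547 F167451) (tt N18737 F167452) (tt N18760 F167453) (tt N20219 F167454) (tt N18562 F167455) (tt N18514 (iv D36146)) (tt N18736 F167456))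
theorem Q20221 : ∀ i, i < 20221 → P i := stepQ 20220 Q20220 (allL N20220 (tt N20867 (iv F170569)) (tt N18845 F167457) (tt N21595 (iv F173824)) (tt N20595 (iv F169062)) (tt N18516 (iv D36147)) (tt N20594 (iv F169056)) (tt N20220 F167458) (tt N18565 F167459) (tt N18519 F167460) (tt N20593 F169051))
theorem Q20222 : ∀ i, i < 20222 → P i := stepQ 20221 Q20221 (allL N20221 (tt N20868 (iv F170577)) (tt N18846 F167461) (tt N21699 (iv F174174)) (tt N18519 F167462) (tt N20593 (iv F169047)) (tt N18517 F167463) (tt N20221 F167464) (tt N18566 F167465) (tt N20595 (iv F169066)) (tt N18516 (iv D36148)))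
theorem Q20223 : ∀ i, i < 20223 → P i := stepQ 20222 Q20222 (allL N20222 (tt N20870 (iv F170593)) (tt N18836 F167466) (tt N20497 (iv F168469)) (tt N18534 F167467) (tt N18748 F167468) (tt N18521 (iv D36149)) (tt N18571 F167469) (tt N18751 F167470) (tt N18759 F167471) (tt N18727 F167472))
theorem Q20224 : ∀ i, i < 20224 → P i := stepQ 20223 Q20223 (allL N20223 (tt N20871 (iv F170601)) (tt N18847 F167473) (tt N21602 (iv F173857)) (tt N20586 (iv F169001)) (tt N18522 (iv D36150)) (tt N18536 F167474) (tt N20223 F167475) (tt N18857 F167476) (tt N18750 F167477) (tt N20587 (iv F169014)))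
theorem Q20225 : ∀ i, i < 20225 → P i := stepQ 20224 Q20224 (allL N20224 (tt N21225 (iv F172356)) (tt N18525 F167478) (tt N18757 F167479) (tt N21500 (iv F173422)) (tt N18755 F167480) (tt N18539 F167481) (tt N18523 (iv D36151)) (tt N18821 F167482) (tt N18766 F167483) (tt N18530 F167484))
theorem Q20226 : ∀ i, i < 20226 → P i := stepQ 20225 Q20225 (allL N20225 (tt N20506 (iv F168522)) (tt N18755 F167485) (tt N18527 F167486) (tt N20489 (iv F168422)) (tt N18525 F167487) (tt N20554 (iv F168807)) (tt N18524 (iv D36152)) (tt N18747 F167488) (tt N18686 F167489) (tt N18532 F167490))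
theorem Q20227 : ∀ i, i < 20227 → P i := stepQ 20226 Q20226 (allL N20226 (tt N20872 (iv F170609)) (tt N18766 F167491) (tt N18528 F167492) (tt N21502 (iv F173433)) (tt N18686 F167493) (tt N21700 D37627) (tt N18526 F167494) (tt N18746 F167495) (tt N18525 (iv D36153)) (tt N18685 F167496))
theorem Q20228 : ∀ i, i < 20228 → P i := stepQ 20227 Q20227 (allL N20227 (tt N20873 (iv F170615)) (tt N18823 F167497) (tt N21700 (iv F174179)) (tt N18529 F167498) (tt N18751 F167499) (tt N18528 (iv D36154)) (tt N20227 F167500) (tt N18748 F167501) (tt N18545 F167502) (tt N18750 F167503))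
theorem Q20229 : ∀ i, i < 20229 → P i := stepQ 20228 Q20228 (allL N20228 (tt N20500 (iv F168488)) (tt N18693 F167504) (tt N20496 (iv F168463)) (tt N18532 F167505) (tt N21604 (iv F173868)) (tt N21701 D37628) (tt N18531 (iv D36155)) (tt N21691 (iv F174127)) (tt N18688 F167506) (tt N20489 (iv F168425)))
theorem Q20230 : ∀ i, i < 20230 → P i := stepQ 20229 Q20229 (allL N20229 (tt N20504 (iv F168508)) (tt N18754 F167507) (tt N18534 F167508) (tt N21701 (iv F174186)) (tt N18558 F167509) (tt N18532 (iv D36156)) (tt N18573 F167510) (tt N21692 (iv F174134)) (tt N18704 F167511) (tt N20554 (iv F168810)))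
theorem Q20231 : ∀ i, i < 20231 → P i := stepQ 20230 Q20230 (allL N20230 (tt N20874 (iv F170623)) (tt N18849 F167512) (tt N21617 (iv F173906)) (tt N18536 (iv D36157)) (tt N18566 F167513) (tt N20586 (iv F169003)) (tt N18567 F167514) (tt N20593 (iv F169049)) (tt N18537 F167515) (tt N18565 (iv F167516)))
theorem Q20232 : ∀ i, i < 20232 → P i := stepQ 20231 Q20231 (allL N20231 (tt N20875 (iv F170631)) (tt N18850 F167517) (tt N21616 (iv F173902)) (tt N18565 F167518) (tt N18537 F167519) (tt N20587 (iv F169010)) (tt N18568 F167520) (tt N20595 (iv F169065)) (tt N18566 F167521) (tt N18536 (iv D36158)))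
theorem Q20233 : ∀ i, i < 20233 → P i := stepQ 20232 Q20232 (allL N20232 (tt N18539 F167522) (tt N20876 (iv F170640)) (tt N18851 F167523) (tt N21619 (iv F173914)) (tt N20847 (iv F170451)) (tt N21225 (iv F172360)) (tt N18538 (iv D36159)) (tt N20883 (iv F170676)) (tt N20846 (iv F170447)) (tt N18551 F167524))
theorem Q20234 : ∀ i, i < 20234 → P i := stepQ 20233 Q20233 (allL N20233 (tt N20880 (iv F170656)) (tt N21511 (iv F173481)) (tt N18752 F167525) (tt N18541 F167526) (tt N21622 (iv F173927)) (tt N21702 D37629) (tt N18540 (iv D36160)) (tt N21621 (iv F173923)) (tt N21507 (iv F173463)) (tt N18556 F167527))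
theorem Q20235 : ∀ i, i < 20235 → P i := stepQ 20234 Q20234 (allL N20234 (tt N20882 (iv F170666)) (tt N21694 (iv F174144)) (tt N18543 F167528) (tt N21702 (iv F174190)) (tt N20554 (iv F168806)) (tt N18541 (iv D36161)) (tt N18579 F167529) (tt N21693 (iv F174141)) (tt N20553 (iv F168802)) (tt N18558 F167530))
theorem Q20236 : ∀ i, i < 20236 → P i := stepQ 20235 Q20235 (allL N20235 (tt N20884 (iv F170679)) (tt N21693 (iv F174137)) (tt N18545 F167531) (tt N21626 (iv F173938)) (tt N21703 D37630) (tt N18542 (iv D36162)) (tt N20235 F167532) (tt N21694 (iv F174148)) (tt N21700 (iv F174183)) (tt N21695 (iv F174156)))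
theorem Q20237 : ∀ i, i < 20237 → P i := stepQ 20236 Q20236 (allL N20236 (tt N20886 (iv F170688)) (tt N18833 F167533) (tt N21703 (iv F174194)) (tt N18737 F167534) (tt N18545 (iv D36163)) (tt N18735 F167535) (tt N20236 F167536) (tt N18759 F167537) (tt N18751 F167538) (tt N18734 (iv F167539)))
theorem Q20238 : ∀ i, i < 20238 → P i := stepQ 20237 Q20237 (allL N20237 (tt N20887 (iv F170696)) (tt N18841 F167540) (tt N21695 (iv F174152)) (tt N18548 F167541) (tt N18734 F167542) (tt N18546 F167543) (tt N20237 F167544) (tt N18758 F167545) (tt N20587 (iv F169013)) (tt N18545 (iv D36164)))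
theorem Q20239 : ∀ i, i < 20239 → P i := stepQ 20238 Q20238 (allL N20238 (tt N20888 (iv F170704)) (tt N18852 F167546) (tt N21638 (iv F173971)) (tt N18736 F167547) (tt N18548 F167548) (tt N18562 F167549) (tt N20238 F167550) (tt N18760 F167551) (tt N18563 (iv F167552)) (tt N18547 (iv D36165)))
theorem Q20240 : ∀ i, i < 20240 → P i := stepQ 20239 Q20239 (allL N20239 (tt N20889 (iv F170712)) (tt N18853 F167553) (tt N21639 (iv F173977)) (tt N20587 (iv F169009)) (tt N18563 F167554) (tt N18565 F167555) (tt N20239 F167556) (tt N20594 (iv F169058)) (tt N18548 (iv D36166)) (tt N20586 (iv F169006)))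
theorem Q20241 : ∀ i, i < 20241 → P i := stepQ 20240 Q20240 (allL N20240 (tt N18553 F167557) (tt N20891 (iv F170728)) (tt N20690 (iv F169648)) (tt N18550 F167558) (tt N21640 (iv F173983)) (tt N18581 F167559) (tt N21704 D37631) (tt N18549 (iv D36167)) (tt N20709 (iv F169749)) (tt N20684 F169617))
theorem Q20242 : ∀ i, i < 20242 → P i := stepQ 20241 Q20241 (allL N20241 (tt N18554 F167560) (tt N20892 (iv F170732)) (tt N18854 F167561) (tt N21704 (iv F174201)) (tt N18551 F167562) (tt N21226 (iv F172367)) (tt N18550 (iv D36168)) (tt N20885 (iv F170686)) (tt N20865 (iv F170560)) (tt N20847 F170454))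
theorem Q20243 : ∀ i, i < 20243 → P i := stepQ 20242 Q20242 (allL N20242 (tt N18555 F167563) (tt N20893 (iv F170737)) (tt N18855 F167564) (tt N21643 (iv F173990)) (tt N20865 (iv F170557)) (tt N21224 (iv F172353)) (tt N18552 F167565) (tt N20905 (iv F170793)) (tt N18551 (iv D36169)) (tt N20863 (iv F170549)))
theorem Q20244 : ∀ i, i < 20244 → P i := stepQ 20243 Q20243 (allL N20243 (tt N21704 (iv F174200)) (tt N18556 F167566) (tt N21518 (iv F173518)) (tt N18554 F167567) (tt N21644 (iv F173994)) (tt N21705 D37632) (tt N18553 (iv D36170)) (tt N21627 (iv F173944)) (tt N21583 (iv F173787)) (tt N21511 F173486))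
theorem Q20245 : ∀ i, i < 20245 → P i := stepQ 20244 Q20244 (allL N20244 (tt N21226 (iv F172364)) (tt N18558 F167568) (tt N18758 F167569) (tt N21705 (iv F174203)) (tt N18754 F167570) (tt N18554 (iv D36171)) (tt N18583 F167571) (tt N21695 (iv F174155)) (tt N20592 (iv F169042)) (tt N21694 (iv F174150)))
theorem Q20246 : ∀ i, i < 20246 → P i := stepQ 20245 Q20245 (allL N20245 (tt N21224 (iv F172349)) (tt N18560 F167572) (tt N18756 F167573) (tt N21648 (iv F174003)) (tt N20590 (iv F169030)) (tt N18555 (iv D36172)) (tt N18569 F167574) (tt N21696 (iv F174160)) (tt N18753 F167575) (tt N20596 (iv F169074)))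
theorem Q20247 : ∀ i, i < 20247 → P i := stepQ 20246 Q20246 (allL N20246 (tt N20900 (iv F170766)) (tt N21705 (iv F174202)) (tt N18761 F167576) (tt N18558 F167577) (tt N21706 D37633) (tt N18556 (iv D36173)) (tt N18584 F167578) (tt N21697 (iv F174166)) (tt N21707 D37634) (tt N21702 (iv F174192)))
theorem Q20248 : ∀ i, i < 20248 → P i := stepQ 20247 Q20247 (allL N20247 (tt N20901 (iv F170770)) (tt N21583 (iv F173782)) (tt N18762 F167579) (tt N18559 F167580) (tt N21651 (iv F174016)) (tt N21708 D37635) (tt N18557 F167581) (tt N21649 (iv F174010)) (tt N18556 (iv D36174)) (tt N21573 (iv F173744)))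
theorem Q20249 : ∀ i, i < 20249 → P i := stepQ 20248 Q20248 (allL N20248 (tt N20903 (iv F170780)) (tt N20592 (iv F169039)) (tt N18562 F167582) (tt N21707 (iv F174208)) (tt N18704 F167583) (tt N21638 (iv F173973)) (tt N18585 F167584) (tt N21698 (iv F174171)) (tt N18558 (iv D36175)) (tt N18703 (iv F167585)))
theorem Q20250 : ∀ i, i < 20250 → P i := stepQ 20249 Q20249 (allL N20249 (tt N20904 (iv F170785)) (tt N21699 (iv F174173)) (tt N18563 F167586) (tt N21708 (iv F174212)) (tt N21639 (iv F173978)) (tt N18559 (iv D36176)) (tt N20249 F167587) (tt N20596 (iv F169072)) (tt N21638 F173976) (tt N21696 (iv F174162)))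
theorem Q20251 : ∀ i, i < 20251 → P i := stepQ 20250 Q20250 (allL N20250 (tt N20906 (iv F170795)) (tt N20596 (iv F169069)) (tt N18566 F167588) (tt N21660 (iv F174037)) (tt N21617 (iv F173907)) (tt N18561 F167589) (tt N18570 F167590) (tt N21699 (iv F174177)) (tt N21616 (iv F173905)) (tt N18560 (iv D36177)))
theorem Q20252 : ∀ i, i < 20252 → P i := stepQ 20251 Q20251 (allL N20251 (tt N20907 (iv F170799)) (tt N18842 F167591) (tt N21696 (iv F174158)) (tt N18767 F167592) (tt N20586 (iv F169002)) (tt N18564 F167593) (tt N20251 F167594) (tt N18756 F167595) (tt N18732 F167596) (tt N18563 (iv D36178)))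
theorem Q20253 : ∀ i, i < 20253 → P i := stepQ 20252 Q20252 (allL N20252 (tt N20499 (iv F168482)) (tt N18781 F167597) (tt N20503 (iv F168503)) (tt N18573 F167598) (tt N21709 D37636) (tt N18572 (iv D36179)) (tt N21701 (iv F174187)) (tt N20252 F167599) (tt N18791 F167600) (tt N20498 (iv F168481)))
theorem Q20254 : ∀ i, i < 20254 → P i := stepQ 20253 Q20253 (allL N20253 (tt N21246 (iv F172461)) (tt N18579 F167601) (tt N18769 F167602) (tt N21546 (iv F173650)) (tt N18793 F167603) (tt N18576 (iv D36180)) (tt N21694 (iv F174147)) (tt N20253 F167604) (tt N18768 F167605) (tt N18583 F167606))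
theorem Q20255 : ∀ i, i < 20255 → P i := stepQ 20254 Q20254 (allL N20254 (tt N20909 (iv F170815)) (tt N21546 (iv F173648)) (tt N18772 F167607) (tt N18579 F167608) (tt N21710 D37637) (tt N18578 (iv D36181)) (tt N21702 (iv F174191)) (tt N20254 F167609) (tt N20570 (iv F168899)) (tt N18584 F167610))
theorem Q20256 : ∀ i, i < 20256 → P i := stepQ 20255 Q20255 (allL N20255 (tt N21276 (iv F172620)) (tt N18584 F167611) (tt N21551 (iv F173668)) (tt N18583 F167612) (tt N21711 D37638) (tt N18582 (iv D36182)) (tt N21705 (iv F174204)) (tt N20255 F167613) (tt N20597 (iv F169079)) (tt N21546 (iv F173653)))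
theorem Q20257 : ∀ i, i < 20257 → P i := stepQ 20256 Q20256 (allL N20256 (tt N20911 (iv F170829)) (tt N21711 (iv F174221)) (tt N18773 F167614) (tt N21709 (iv F174215)) (tt N18584 (iv D36183)) (tt N21340 (iv F172912)) (tt N21706 (iv F174206)) (tt N20256 F167615) (tt N21712 D37639) (tt N21710 (iv F174220)))
theorem Q20258 : ∀ i, i < 20258 → P i := stepQ 20257 Q20257 (allL N20257 (tt N20912 (iv F170832)) (tt N20597 (iv F169076)) (tt N18774 F167616) (tt N18585 F167617) (tt N21712 (iv F174226)) (tt N20257 F167618) (tt N21707 (iv F174209)) (tt N20257 F167619) (tt N18584 (iv D36184)) (tt N18792 (iv F167620)))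
theorem Q20259 : ∀ i, i < 20259 → P i := stepQ 20258 Q20258 (allL N20258 (tt N18606 F167621) (tt N20944 (iv F171042)) (tt N21140 (iv F171965)) (tt N20670 (iv F169527)) (tt N18587 F167622) (tt N21713 D37640) (tt N18586 (iv D36185)) (tt N20724 (iv F169824)) (tt N21425 (iv F173197)) (tt N18588 F167623))
theorem Q20260 : ∀ i, i < 20260 → P i := stepQ 20259 Q20259 (allL N20259 (tt N18613 F167624) (tt N20956 (iv F171107)) (tt N21139 (iv F171963)) (tt N21498 (iv F173413)) (tt N21317 (iv F172830)) (tt N18588 (iv D36186)) (tt N21342 (iv F172921)) (tt N21318 (iv F172835)) (tt N21714 D37641) (tt N21713 (iv F174230)))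
theorem Q20261 : ∀ i, i < 20261 → P i := stepQ 20260 Q20260 (allL N20260 (tt N21077 (iv F171678)) (tt N20453 (iv F168175)) (tt N18591 F167625) (tt N20491 (iv F168433)) (tt N18590 F167626) (tt N21715 D37642) (tt N18589 (iv D36187)) (tt N18612 F167627) (tt N18640 F167628) (tt N21596 (iv F173831)))
theorem Q20262 : ∀ i, i < 20262 → P i := stepQ 20261 Q20261 (allL N20261 (tt N21318 (iv F172832)) (tt N18667 F167629) (tt N21715 (iv F174232)) (tt N21503 (iv F173438)) (tt N20452 (iv F168170)) (tt N18591 (iv D36188)) (tt N20736 (iv F169896)) (tt N18613 F167630) (tt N21716 D37643) (tt N21597 (iv F173836)))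
theorem Q20263 : ∀ i, i < 20263 → P i := stepQ 20262 Q20262 (allL N20262 (tt N21075 (iv F171668)) (tt N18668 F167631) (tt N18640 F167632) (tt N21504 (iv F173443)) (tt N18593 F167633) (tt N21717 D37644) (tt N18592 F167634) (tt N18614 F167635) (tt N18591 (iv D36189)) (tt N20522 (iv F168626)))
theorem Q20264 : ∀ i, i < 20264 → P i := stepQ 20263 Q20263 (allL N20263 (tt N21192 (iv F172168)) (tt N18708 F167636) (tt N20521 (iv F168616)) (tt N18595 F167637) (tt N18723 F167638) (tt N21011 (iv F171404)) (tt N21718 D37645) (tt N18594 (iv D36190)) (tt N18705 F167639) (tt N20486 (iv F168408)))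
theorem Q20265 : ∀ i, i < 20265 → P i := stepQ 20264 Q20264 (allL N20264 (tt N21142 (iv F171973)) (tt N18712 F167640) (tt N18597 F167641) (tt N21718 (iv F174241)) (tt N18596 F167642) (tt N21719 D37646) (tt N18595 (iv D36191)) (tt N20451 (iv F168164)) (tt N18706 F167643) (tt N20487 (iv F168413)))
theorem Q20266 : ∀ i, i < 20266 → P i := stepQ 20265 Q20265 (allL N20265 (tt N21317 (iv F172828)) (tt N18684 F167644) (tt N21719 (iv F174245)) (tt N20526 (iv F168649)) (tt N18613 F167645) (tt N18597 (iv D36192)) (tt N21017 (iv F171433)) (tt N20452 (iv F168172)) (tt N21720 D37647) (tt N20490 (iv F168431)))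
theorem Q20267 : ∀ i, i < 20267 → P i := stepQ 20266 Q20266 (allL N20266 (tt N21184 (iv F172147)) (tt N18612 F167646) (tt N18706 F167647) (tt N20527 (iv F168655)) (tt N18600 F167648) (tt N21721 D37648) (tt N18598 F167649) (tt N20453 (iv F168180)) (tt N18597 (iv D36193)) (tt N21722 D37649))
theorem Q20268 : ∀ i, i < 20268 → P i := stepQ 20267 Q20267 (allL N20267 (tt N21038 (iv F171518)) (tt N18604 F167650) (tt N18687 F167651) (tt N20529 (iv F168667)) (tt N18601 F167652) (tt N20954 F171097) (tt N21722 (iv F174255)) (tt N18599 F167653) (tt N20493 (iv F168448)) (tt N18598 (iv D36194)))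
theorem Q20269 : ∀ i, i < 20269 → P i := stepQ 20268 Q20268 (allL N20268 (tt N21049 (iv F171561)) (tt N18605 F167654) (tt N18688 F167655) (tt N18602 F167656) (tt N21722 (iv F174254)) (tt N18716 F167657) (tt N18601 F167658) (tt N20458 (iv F168216)) (tt N20496 (iv F168467)) (tt N18600 (iv D36195)))
theorem Q20270 : ∀ i, i < 20270 → P i := stepQ 20269 Q20269 (allL N20269 (tt N21131 (iv F171928)) (tt N20529 (iv F168665)) (tt N21522 (iv F173543)) (tt N18604 F167659) (tt N18681 F167660) (tt N21003 (iv F171371)) (tt N21723 D37650) (tt N18603 (iv D36196)) (tt N20455 (iv F168194)) (tt N18611 F167661))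
theorem Q20271 : ∀ i, i < 20271 → P i := stepQ 20270 Q20270 (allL N20270 (tt N21140 (iv F171964)) (tt N21722 (iv F174252)) (tt N18606 F167662) (tt N21723 (iv F174256)) (tt N18605 F167663) (tt N21724 D37651) (tt N18604 (iv D36197)) (tt N21596 (iv F173830)) (tt N20545 (iv F168763)) (tt N18612 F167664))
theorem Q20272 : ∀ i, i < 20272 → P i := stepQ 20271 Q20271 (allL N20271 (tt N21713 (iv F174229)) (tt N18695 F167665) (tt N21724 (iv F174259)) (tt N21527 (iv F173572)) (tt N20490 (iv F168428)) (tt N18606 (iv D36198)) (tt N21005 (iv F171378)) (tt N21597 (iv F173835)) (tt N21725 D37652) (tt N18613 F167666))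
theorem Q20273 : ∀ i, i < 20273 → P i := stepQ 20272 Q20272 (allL N20272 (tt N21425 (iv F173193)) (tt N18696 F167667) (tt N20545 (iv F168760)) (tt N21528 (iv F173577)) (tt N18609 F167668) (tt N21726 D37653) (tt N18607 F167669) (tt N21598 (iv F173841)) (tt N18606 (iv D36199)) (tt N20539 (iv F168734)))
theorem Q20274 : ∀ i, i < 20274 → P i := stepQ 20273 Q20273 (allL N20273 (tt N21427 (iv F173201)) (tt N18697 F167670) (tt N20547 (iv F168768)) (tt N21529 (iv F173582)) (tt N18777 F167671) (tt N18607 (iv D36200)) (tt N21727 D37654) (tt N18608 F167672) (tt N21007 (iv F171386)) (tt N20540 (iv F168741)))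
theorem Q20275 : ∀ i, i < 20275 → P i := stepQ 20274 Q20274 (allL N20274 (tt N21429 (iv F173209)) (tt N18699 F167673) (tt N20549 (iv F168777)) (tt N21530 (iv F173587)) (tt N18778 F167674) (tt N21600 (iv F173849)) (tt N18608 (iv D36201)) (tt N21728 D37655) (tt N20990 (iv F171287)) (tt N20541 (iv F168747)))
theorem Q20276 : ∀ i, i < 20276 → P i := stepQ 20275 Q20275 (allL N20275 (tt N21431 (iv F173215)) (tt N18701 F167675) (tt N20551 (iv F168786)) (tt N18610 F167676) (tt N21729 D37656) (tt N18609 (iv D36202)) (tt N18779 F167677) (tt N21601 (iv F173854)) (tt N20495 (iv F168461)) (tt N20542 (iv F168754)))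
theorem Q20277 : ∀ i, i < 20277 → P i := stepQ 20276 Q20276 (allL N20276 (tt N21337 (iv F172894)) (tt N18703 F167678) (tt N18857 F167679) (tt N21730 D37657) (tt N18610 (iv D36203)) (tt N21532 (iv F173598)) (tt N18780 F167680) (tt N21602 (iv F173860)) (tt N20467 F168280) (tt N20592 (iv F169043)))
theorem Q20278 : ∀ i, i < 20278 → P i := stepQ 20277 Q20277 (allL N20277 (tt N21129 (iv F171919)) (tt N20527 (iv F168654)) (tt N21539 (iv F173629)) (tt N18612 F167681) (tt N18680 F167682) (tt N21731 D37658) (tt N18611 (iv D36204)) (tt N20491 (iv F168436)) (tt N18679 F167683) (tt N21723 (iv F174258)))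
theorem Q20279 : ∀ i, i < 20279 → P i := stepQ 20278 Q20278 (allL N20278 (tt N21139 (iv F171962)) (tt N21721 (iv F174249)) (tt N18613 F167684) (tt N21731 (iv F174271)) (tt N21719 (iv F174246)) (tt N18612 (iv D36205)) (tt N21363 (iv F172998)) (tt N21715 (iv F174233)) (tt N21732 D37659) (tt N21724 (iv F174260)))
theorem Q20280 : ∀ i, i < 20280 → P i := stepQ 20279 Q20279 (allL N20279 (tt N21714 (iv F174231)) (tt N18717 F167685) (tt N21732 (iv F174272)) (tt N21543 (iv F173642)) (tt N21720 (iv F174248)) (tt N21733 D37660) (tt N21364 (iv F173000)) (tt N21716 (iv F174235)) (tt N18613 (iv D36206)) (tt N21734 D37661))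
theorem Q20281 : ∀ i, i < 20281 → P i := stepQ 20280 Q20280 (allL N20280 (tt N21137 (iv F171954)) (tt N18718 F167686) (tt N18684 F167687) (tt N21544 (iv F173644)) (tt N18711 F167688) (tt N18614 (iv D36207)) (tt N21147 (iv F172006)) (tt N21717 (iv F174239)) (tt N21733 (iv F174276)) (tt N20538 (iv F168728)))
theorem Q20282 : ∀ i, i < 20282 → P i := stepQ 20281 Q20281 (allL N20281 (tt N20985 (iv F171249)) (tt N18617 F167689) (tt N20457 (iv F168205)) (tt N21525 (iv F173560)) (tt N18615 (iv D36208)) (tt N18641 F167690) (tt N20601 (iv F169104)) (tt N21735 D37662) (tt N21516 (iv F173511)) (tt N18624 F167691))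
theorem Q20283 : ∀ i, i < 20283 → P i := stepQ 20282 Q20282 (allL N20282 (tt N21287 (iv F172695)) (tt N18618 F167692) (tt N20460 (iv F168226)) (tt N20282 F167693) (tt N21735 (iv F174280)) (tt N18616 F167694) (tt N21736 D37663) (tt N18615 (iv D36209)) (tt N21549 (iv F173662)) (tt N18625 F167695))
theorem Q20284 : ∀ i, i < 20284 → P i := stepQ 20283 Q20283 (allL N20283 (tt N20611 (iv F169172)) (tt N21525 (iv F173558)) (tt N20915 (iv F170855)) (tt N18617 (iv D36210)) (tt N20283 F167696) (tt N18643 F167697) (tt N20603 (iv F169120)) (tt N21737 D37664) (tt N21600 (iv F173850)) (tt N18626 F167698))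
theorem Q20285 : ∀ i, i < 20285 → P i := stepQ 20284 Q20284 (allL N20284 (tt N20612 (iv F169179)) (tt N21735 (iv F174279)) (tt N18619 F167699) (tt N21737 (iv F174287)) (tt N18618 F167700) (tt N18644 F167701) (tt N21738 D37665) (tt N18617 (iv D36211)) (tt N21612 (iv F173891)) (tt N18627 F167702))
theorem Q20286 : ∀ i, i < 20286 → P i := stepQ 20285 Q20285 (allL N20285 (tt N20614 (iv F169190)) (tt N21736 (iv F174283)) (tt N18621 F167703) (tt N20285 F167704) (tt N21738 (iv F174292)) (tt N20510 (iv F168552)) (tt N18618 (iv D36212)) (tt N20605 (iv F169133)) (tt N21673 (iv F174071)) (tt N18629 F167705))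
theorem Q20287 : ∀ i, i < 20287 → P i := stepQ 20286 Q20286 (allL N20286 (tt N20617 (iv F169210)) (tt N20731 (iv F169865)) (tt N21738 (iv F174291)) (tt N20920 (iv F170887)) (tt N18621 F167706) (tt N21739 D37666) (tt N18619 (iv D36213)) (tt N20606 (iv F169140)) (tt N21740 D37667) (tt N18632 F167707))
theorem Q20288 : ∀ i, i < 20288 → P i := stepQ 20287 Q20287 (allL N20287 (tt N20618 (iv F169216)) (tt N20732 (iv F169871)) (tt N21612 (iv F173889)) (tt N20921 (iv F170893)) (tt N18622 F167708) (tt N21741 D37668) (tt N21740 (iv F174297)) (tt N18620 F167709) (tt N18619 (iv D36214)) (tt N21396 (iv F173110)))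
theorem Q20289 : ∀ i, i < 20289 → P i := stepQ 20288 Q20288 (allL N20288 (tt N20619 (iv F169221)) (tt N20603 (iv F169116)) (tt N21530 (iv F173586)) (tt N20601 F169107) (tt N20288 F167710) (tt N18620 (iv D36215)) (tt N21525 (iv F173562)) (tt N21741 (iv F174299)) (tt N18651 F167711) (tt N21375 (iv F173034)))
theorem Q20290 : ∀ i, i < 20290 → P i := stepQ 20289 Q20289 (allL N20289 (tt N20621 (iv F169232)) (tt N20733 (iv F169877)) (tt N21673 (iv F174068)) (tt N18623 F167712) (tt N21740 (iv F174296)) (tt N21742 D37669) (tt N18622 F167713) (tt N20608 (iv F169155)) (tt N18621 (iv D36216)) (tt N21474 (iv F173343)))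
theorem Q20291 : ∀ i, i < 20291 → P i := stepQ 20290 Q20290 (allL N20290 (tt N20623 (iv F169243)) (tt N20734 (iv F169883)) (tt N20290 F167714) (tt N21742 (iv F174301)) (tt N21207 (iv F172256)) (tt N18623 (iv D36217)) (tt N20290 F167715) (tt N20609 (iv F169162)) (tt N20519 (iv F168606)) (tt N21475 (iv F173349)))
theorem Q20292 : ∀ i, i < 20292 → P i := stepQ 20291 Q20291 (allL N20291 (tt N21305 (iv F172785)) (tt N18626 F167716) (tt N20537 (iv F168718)) (tt N18624 (iv D36218)) (tt N20291 F167717) (tt N18657 F167718) (tt N21375 (iv F173033)) (tt N21743 D37670) (tt N20786 (iv F170143)) (tt N21525 (iv F173564)))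
theorem Q20293 : ∀ i, i < 20293 → P i := stepQ 20292 Q20292 (allL N20292 (tt N21299 (iv F172759)) (tt N18627 F167719) (tt N20454 (iv F168183)) (tt N21743 (iv F174304)) (tt N18625 F167720) (tt N18658 F167721) (tt N21744 D37671) (tt N18624 (iv D36219)) (tt N20790 (iv F170161)) (tt N21735 (iv F174282)))
theorem Q20294 : ∀ i, i < 20294 → P i := stepQ 20293 Q20293 (allL N20293 (tt N21300 (iv F172764)) (tt N18629 F167722) (tt N20459 (iv F168220)) (tt N20293 F167723) (tt N21744 (iv F174308)) (tt N18805 F167724) (tt N18625 (iv D36220)) (tt N21377 (iv F173041)) (tt N20817 (iv F170289)) (tt N21736 (iv F174286)))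
theorem Q20295 : ∀ i, i < 20295 → P i := stepQ 20294 Q20294 (allL N20294 (tt N21058 (iv F171609)) (tt N21743 (iv F174303)) (tt N21556 (iv F173684)) (tt N18627 F167725) (tt N20294 F167726) (tt N18660 F167727) (tt N21745 D37672) (tt N18626 (iv D36221)) (tt N21746 D37673) (tt N21737 (iv F174290)))
theorem Q20296 : ∀ i, i < 20296 → P i := stepQ 20295 Q20295 (allL N20295 (tt N21059 (iv F171613)) (tt N20786 (iv F170139)) (tt N21557 (iv F173688)) (tt N18628 F167728) (tt N20295 F167729) (tt N20778 (iv F170107)) (tt N21379 (iv F173047)) (tt N21746 (iv F174313)) (tt N18626 (iv D36222)) (tt N21747 D37674))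
theorem Q20297 : ∀ i, i < 20297 → P i := stepQ 20296 Q20296 (allL N20296 (tt N21060 (iv F171616)) (tt N21744 (iv F174307)) (tt N18632 F167730) (tt N21745 (iv F174309)) (tt N18629 F167731) (tt N21748 D37675) (tt N18627 (iv D36223)) (tt N21380 (iv F173050)) (tt N21749 D37676) (tt N21738 (iv F174293)))
theorem Q20298 : ∀ i, i < 20298 → P i := stepQ 20297 Q20297 (allL N20297 (tt N21061 (iv F171619)) (tt N20790 (iv F170157)) (tt N18633 F167732) (tt N21746 (iv F174311)) (tt N18630 F167733) (tt N20780 (iv F170114)) (tt N21749 (iv F174320)) (tt N18628 F167734) (tt N18627 (iv D36224)) (tt N21750 D37677))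
theorem Q20299 : ∀ i, i < 20299 → P i := stepQ 20298 Q20298 (allL N20298 (tt N21062 (iv F171623)) (tt N20793 (iv F170172)) (tt N18635 F167735) (tt N21747 (iv F174314)) (tt N18631 F167736) (tt N20781 (iv F170119)) (tt N21383 (iv F173059)) (tt N21750 (iv F174323)) (tt N21395 (iv F173104)) (tt N18628 (iv D36225)))
theorem Q20300 : ∀ i, i < 20300 → P i := stepQ 20299 Q20299 (allL N20299 (tt N21063 (iv F171626)) (tt N20817 (iv F170286)) (tt N18636 F167737) (tt N20299 F167738) (tt N21749 (iv F174319)) (tt N21751 D37678) (tt N18630 F167739) (tt N21384 (iv F173064)) (tt N18629 (iv D36226)) (tt N21752 D37679))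
theorem Q20301 : ∀ i, i < 20301 → P i := stepQ 20300 Q20300 (allL N20300 (tt N21064 (iv F171630)) (tt N20818 (iv F170291)) (tt N18637 F167740) (tt N20300 F167741) (tt N21750 (iv F174322)) (tt N18795 F167742) (tt N21752 (iv F174329)) (tt N18631 F167743) (tt N21473 (iv F173337)) (tt N18630 (iv D36227)))
theorem Q20302 : ∀ i, i < 20302 → P i := stepQ 20301 Q20301 (allL N20301 (tt N21065 (iv F171635)) (tt N20736 (iv F169894)) (tt N21748 (iv F174316)) (tt N21562 (iv F173702)) (tt N20632 (iv F169296)) (tt N18632 (iv D36228)) (tt N18667 F167744) (tt N21386 (iv F173071)) (tt N21753 D37680) (tt N21739 (iv F174295)))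
theorem Q20303 : ∀ i, i < 20303 → P i := stepQ 20302 Q20302 (allL N20302 (tt N21066 (iv F171637)) (tt N20737 (iv F169898)) (tt N21749 (iv F174318)) (tt N21563 (iv F173704)) (tt N18636 F167745) (tt N21754 D37681) (tt N18633 F167746) (tt N21387 (iv F173074)) (tt N18632 (iv D36229)) (tt N21755 D37682))
theorem Q20304 : ∀ i, i < 20304 → P i := stepQ 20303 Q20303 (allL N20303 (tt N21067 (iv F171640)) (tt N20628 (iv F169272)) (tt N20780 (iv F170112)) (tt N21564 (iv F173707)) (tt N18797 F167747) (tt N18633 (iv D36230)) (tt N21756 D37683) (tt N18634 F167748) (tt N18669 F167749) (tt N21757 D37684))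
theorem Q20305 : ∀ i, i < 20305 → P i := stepQ 20304 Q20304 (allL N20304 (tt N21068 (iv F171644)) (tt N20738 (iv F169902)) (tt N21750 (iv F174321)) (tt N21398 (iv F173115)) (tt N18637 F167750) (tt N21757 (iv F174336)) (tt N21755 (iv F174332)) (tt N18635 F167751) (tt N21396 (iv F173109)) (tt N18633 (iv D36231)))
theorem Q20306 : ∀ i, i < 20306 → P i := stepQ 20305 Q20305 (allL N20305 (tt N21069 (iv F171647)) (tt N20613 (iv F169186)) (tt N20698 (iv F169693)) (tt N21565 (iv F173711)) (tt N18799 F167752) (tt N21390 (iv F173084)) (tt N18634 (iv D36232)) (tt N21758 D37685) (tt N18671 F167753) (tt N21759 D37686))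
theorem Q20307 : ∀ i, i < 20307 → P i := stepQ 20306 Q20306 (allL N20306 (tt N21070 (iv F171650)) (tt N20629 (iv F169278)) (tt N20781 (iv F170117)) (tt N21399 (iv F173120)) (tt N18800 F167754) (tt N18635 F167755) (tt N21759 (iv F174341)) (tt N21757 (iv F174337)) (tt N21760 D37687) (tt N18634 (iv D36233)))
theorem Q20308 : ∀ i, i < 20308 → P i := stepQ 20307 Q20307 (allL N20307 (tt N21071 (iv F171653)) (tt N20739 (iv F169909)) (tt N21751 (iv F174324)) (tt N18638 F167756) (tt N21761 D37688) (tt N18636 (iv D36234)) (tt N18801 F167757) (tt N21391 (iv F173088)) (tt N20637 (iv F169326)) (tt N21762 D37689))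
theorem Q20309 : ∀ i, i < 20309 → P i := stepQ 20308 Q20308 (allL N20308 (tt N21072 (iv F171656)) (tt N20740 (iv F169914)) (tt N21752 (iv F174327)) (tt N18639 F167758) (tt N21755 (iv F174331)) (tt N21762 (iv F174346)) (tt N18637 F167759) (tt N21392 (iv F173092)) (tt N21474 (iv F173342)) (tt N18636 (iv D36235)))
theorem Q20310 : ∀ i, i < 20310 → P i := stepQ 20309 Q20309 (allL N20309 (tt N21073 (iv F171659)) (tt N20741 (iv F169921)) (tt N20309 F167760) (tt N21763 D37690) (tt N18638 (iv D36236)) (tt N21567 (iv F173717)) (tt N18803 F167761) (tt N21393 (iv F173096)) (tt N20639 (iv F169336)) (tt N21764 D37691))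
theorem Q20311 : ∀ i, i < 20311 → P i := stepQ 20310 Q20310 (allL N20310 (tt N21074 (iv F171664)) (tt N20742 (iv F169926)) (tt N20310 F167762) (tt N21762 (iv F174345)) (tt N21764 (iv F174350)) (tt N18639 F167763) (tt N18804 F167764) (tt N21394 (iv F173101)) (tt N21765 D37692) (tt N18638 (iv D36237)))
theorem Q20312 : ∀ i, i < 20312 → P i := stepQ 20311 Q20311 (allL N20311 (tt N21076 (iv F171674)) (tt N20452 (iv F168168)) (tt N21717 (iv F174237)) (tt N20490 (iv F168427)) (tt N18667 F167765) (tt N18640 (iv D36238)) (tt N20632 (iv F169297)) (tt N18684 F167766) (tt N21766 D37693) (tt N20526 (iv F168652)))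
theorem Q20313 : ∀ i, i < 20313 → P i := stepQ 20312 Q20312 (allL N20312 (tt N21045 (iv F171545)) (tt N18644 F167767) (tt N20455 (iv F168190)) (tt N21524 (iv F173554)) (tt N18642 F167768) (tt N21735 (iv F174281)) (tt N21767 D37694) (tt N18641 (iv D36239)) (tt N21522 (iv F173546)) (tt N18658 F167769))
theorem Q20314 : ∀ i, i < 20314 → P i := stepQ 20313 Q20313 (allL N20313 (tt N21050 (iv F171567)) (tt N18646 F167770) (tt N20458 (iv F168212)) (tt N18675 F167771) (tt N21767 (iv F174357)) (tt N18673 F167772) (tt N18642 (iv D36240)) (tt N18688 F167773) (tt N21691 (iv F174128)) (tt N18659 F167774))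
theorem Q20315 : ∀ i, i < 20315 → P i := stepQ 20314 Q20314 (allL N20314 (tt N21078 (iv F171683)) (tt N21524 (iv F173552)) (tt N21508 (iv F173466)) (tt N18644 F167775) (tt N18728 F167776) (tt N21737 (iv F174289)) (tt N21768 D37695) (tt N18643 (iv D36241)) (tt N21520 (iv F173533)) (tt N18660 F167777))
theorem Q20316 : ∀ i, i < 20316 → P i := stepQ 20315 Q20315 (allL N20315 (tt N21080 (iv F171695)) (tt N21767 (iv F174356)) (tt N18649 F167778) (tt N21768 (iv F174360)) (tt N18646 F167779) (tt N21769 D37696) (tt N18644 (iv D36242)) (tt N18690 F167780) (tt N21770 D37697) (tt N18662 F167781))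
theorem Q20317 : ∀ i, i < 20317 → P i := stepQ 20316 Q20316 (allL N20316 (tt N21081 (iv F171701)) (tt N21522 (iv F173542)) (tt N18650 F167782) (tt N21520 (iv F173531)) (tt N18647 F167783) (tt N21771 D37698) (tt N21770 (iv F174369)) (tt N18645 F167784) (tt N18644 (iv D36243)) (tt N21535 (iv F173613)))
theorem Q20318 : ∀ i, i < 20318 → P i := stepQ 20317 Q20317 (allL N20317 (tt N21082 (iv F171706)) (tt N20992 (iv F171297)) (tt N18651 F167785) (tt N20990 F171289) (tt N20317 F167786) (tt N18645 (iv D36244)) (tt N20997 (iv F171334)) (tt N21771 (iv F174373)) (tt N21530 (iv F173590)) (tt N21306 (iv F172793)))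
theorem Q20319 : ∀ i, i < 20319 → P i := stepQ 20318 Q20318 (allL N20318 (tt N21084 (iv F171718)) (tt N21691 (iv F174124)) (tt N18653 F167787) (tt N18730 F167788) (tt N21770 (iv F174368)) (tt N21772 D37699) (tt N18647 F167789) (tt N18693 F167790) (tt N18646 (iv D36245)) (tt N21773 D37700))
theorem Q20320 : ∀ i, i < 20320 → P i := stepQ 20319 Q20319 (allL N20319 (tt N21085 (iv F171724)) (tt N18678 F167791) (tt N18654 F167792) (tt N18731 F167793) (tt N21535 (iv F173611)) (tt N20319 F167794) (tt N21773 (iv F174381)) (tt N18648 F167795) (tt N18666 F167796) (tt N18647 (iv D36246)))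
theorem Q20321 : ∀ i, i < 20321 → P i := stepQ 20320 Q20320 (allL N20320 (tt N21086 (iv F171731)) (tt N21597 (iv F173832)) (tt N21769 (iv F174364)) (tt N21512 (iv F173488)) (tt N20526 (iv F168650)) (tt N18649 (iv D36247)) (tt N21739 (iv F174294)) (tt N18695 F167797) (tt N21774 D37701) (tt N18667 F167798))
theorem Q20322 : ∀ i, i < 20322 → P i := stepQ 20321 Q20321 (allL N20321 (tt N21087 (iv F171735)) (tt N21598 (iv F173837)) (tt N21770 (iv F174367)) (tt N21513 (iv F173493)) (tt N18653 F167799) (tt N21775 D37702) (tt N18650 F167800) (tt N18696 F167801) (tt N18649 (iv D36248)) (tt N21776 D37703))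
theorem Q20323 : ∀ i, i < 20323 → P i := stepQ 20322 Q20322 (allL N20322 (tt N21088 (iv F171739)) (tt N21599 (iv F173842)) (tt N21771 (iv F174371)) (tt N21514 (iv F173498)) (tt N20322 F167802) (tt N18650 (iv D36249)) (tt N21777 D37704) (tt N18651 F167803) (tt N21741 (iv F174300)) (tt N21778 D37705))
theorem Q20324 : ∀ i, i < 20324 → P i := stepQ 20323 Q20323 (allL N20323 (tt N21089 (iv F171742)) (tt N20523 (iv F168628)) (tt N21535 (iv F173609)) (tt N21515 (iv F173503)) (tt N18654 F167804) (tt N21778 (iv F174392)) (tt N21776 (iv F174387)) (tt N18652 F167805) (tt N18670 F167806) (tt N18650 (iv D36250)))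
theorem Q20325 : ∀ i, i < 20325 → P i := stepQ 20324 Q20324 (allL N20324 (tt N21090 (iv F171746)) (tt N21600 (iv F173846)) (tt N20997 (iv F171331)) (tt N21516 (iv F173508)) (tt N20324 F167807) (tt N18699 F167808) (tt N18651 (iv D36251)) (tt N21779 D37706) (tt N21525 (iv F173563)) (tt N21780 D37707))
theorem Q20326 : ∀ i, i < 20326 → P i := stepQ 20325 Q20325 (allL N20325 (tt N21091 (iv F171750)) (tt N20524 (iv F168635)) (tt N21306 F172794) (tt N21319 (iv F172837)) (tt N20325 F167809) (tt N18652 F167810) (tt N21780 (iv F174398)) (tt N21778 (iv F174393)) (tt N21781 D37708) (tt N18651 (iv D36252)))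
theorem Q20327 : ∀ i, i < 20327 → P i := stepQ 20326 Q20326 (allL N20326 (tt N21092 (iv F171753)) (tt N21601 (iv F173851)) (tt N21772 (iv F174374)) (tt N18655 F167811) (tt N21782 D37709) (tt N18653 (iv D36253)) (tt N20326 F167812) (tt N18701 F167813) (tt N20532 (iv F168688)) (tt N21783 D37710))
theorem Q20328 : ∀ i, i < 20328 → P i := stepQ 20327 Q20327 (allL N20327 (tt N21093 (iv F171758)) (tt N20525 (iv F168641)) (tt N21773 (iv F174379)) (tt N18656 F167814) (tt N21776 (iv F174386)) (tt N21783 (iv F174404)) (tt N18654 F167815) (tt N18702 F167816) (tt N18673 F167817) (tt N18653 (iv D36254)))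
theorem Q20329 : ∀ i, i < 20329 → P i := stepQ 20328 Q20328 (allL N20328 (tt N21094 (iv F171763)) (tt N21602 (iv F173856)) (tt N18736 F167818) (tt N21784 D37711) (tt N18655 (iv D36255)) (tt N18764 F167819) (tt N20328 F167820) (tt N18703 F167821) (tt N18765 F167822) (tt N21698 (iv F174172)))
theorem Q20330 : ∀ i, i < 20330 → P i := stepQ 20329 Q20329 (allL N20329 (tt N21095 (iv F171769)) (tt N20585 (iv F168993)) (tt N18737 F167823) (tt N21783 (iv F174403)) (tt N21698 (iv F174168)) (tt N18656 F167824) (tt N20329 F167825) (tt N18704 F167826) (tt N21692 (iv F174135)) (tt N18655 (iv D36256)))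
theorem Q20331 : ∀ i, i < 20331 → P i := stepQ 20330 Q20330 (allL N20330 (tt N21304 (iv F172780)) (tt N18660 F167827) (tt N20536 (iv F168711)) (tt N18658 F167828) (tt N18738 F167829) (tt N21743 (iv F174306)) (tt N21785 D37712) (tt N18657 (iv D36257)) (tt N20450 (iv F168158)) (tt N21524 (iv F173557)))
theorem Q20332 : ∀ i, i < 20332 → P i := stepQ 20331 Q20331 (allL N20331 (tt N21119 (iv F171872)) (tt N18662 F167830) (tt N20453 (iv F168176)) (tt N21785 (iv F174412)) (tt N18659 F167831) (tt N21786 D37713) (tt N18658 (iv D36258)) (tt N18706 F167832) (tt N20451 (iv F168165)) (tt N21767 (iv F174359)))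
theorem Q20333 : ∀ i, i < 20333 → P i := stepQ 20332 Q20332 (allL N20332 (tt N21105 (iv F171819)) (tt N21785 (iv F174411)) (tt N21574 (iv F173745)) (tt N18662 F167833) (tt N18739 F167834) (tt N21787 D37714) (tt N18660 (iv D36259)) (tt N18707 F167835) (tt N21788 D37715) (tt N21768 (iv F174363)))
theorem Q20334 : ∀ i, i < 20334 → P i := stepQ 20333 Q20333 (allL N20333 (tt N21106 (iv F171823)) (tt N20450 (iv F168153)) (tt N21575 (iv F173750)) (tt N18663 F167836) (tt N18740 F167837) (tt N20777 (iv F170103)) (tt N21788 (iv F174422)) (tt N18661 F167838) (tt N18660 (iv D36260)) (tt N21537 (iv F173622)))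
theorem Q20335 : ∀ i, i < 20335 → P i := stepQ 20334 Q20334 (allL N20334 (tt N21108 (iv F171833)) (tt N21786 (iv F174415)) (tt N18667 F167839) (tt N21787 (iv F174418)) (tt N21717 (iv F174238)) (tt N18662 (iv D36261)) (tt N21748 (iv F174317)) (tt N18711 F167840) (tt N21789 D37716) (tt N21769 (iv F174366)))
theorem Q20336 : ∀ i, i < 20336 → P i := stepQ 20335 Q20335 (allL N20335 (tt N21109 (iv F171836)) (tt N20451 (iv F168161)) (tt N18668 F167841) (tt N21788 (iv F174420)) (tt N18665 F167842) (tt N21790 D37717) (tt N18663 F167843) (tt N18712 F167844) (tt N18662 (iv D36262)) (tt N21791 D37718))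
theorem Q20337 : ∀ i, i < 20337 → P i := stepQ 20336 Q20336 (allL N20336 (tt N21110 (iv F171841)) (tt N18676 F167845) (tt N18670 F167846) (tt N21537 (iv F173619)) (tt N18666 F167847) (tt N20747 (iv F169957)) (tt N21791 (iv F174431)) (tt N18664 F167848) (tt N21535 (iv F173612)) (tt N18663 (iv D36263)))
theorem Q20338 : ∀ i, i < 20338 → P i := stepQ 20337 Q20337 (allL N20337 (tt N21111 (iv F171845)) (tt N18677 F167849) (tt N18673 F167850) (tt N18744 F167851) (tt N21791 (iv F174430)) (tt N20458 (iv F168214)) (tt N18666 F167852) (tt N18716 F167853) (tt N21773 (iv F174383)) (tt N18665 (iv D36264)))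
theorem Q20339 : ∀ i, i < 20339 → P i := stepQ 20338 Q20338 (allL N20338 (tt N21112 (iv F171851)) (tt N21716 (iv F174234)) (tt N21789 (iv F174424)) (tt N21584 (iv F173788)) (tt N21766 (iv F174354)) (tt N21792 D37719) (tt N21753 (iv F174330)) (tt N18717 F167854) (tt N18667 (iv D36265)) (tt N21793 D37720))
theorem Q20340 : ∀ i, i < 20340 → P i := stepQ 20339 Q20339 (allL N20339 (tt N21113 (iv F171853)) (tt N21717 (iv F174236)) (tt N21790 (iv F174426)) (tt N21585 (iv F173790)) (tt N21786 (iv F174416)) (tt N18668 (iv D36266)) (tt N21794 D37721) (tt N18718 F167855) (tt N21792 (iv F174434)) (tt N21795 D37722))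
theorem Q20341 : ∀ i, i < 20341 → P i := stepQ 20340 Q20340 (allL N20340 (tt N21114 (iv F171855)) (tt N20522 (iv F168622)) (tt N21791 (iv F174429)) (tt N21586 (iv F173792)) (tt N18673 F167856) (tt N21795 (iv F174437)) (tt N18670 F167857) (tt N18719 F167858) (tt N21776 (iv F174389)) (tt N18668 (iv D36267)))
theorem Q20342 : ∀ i, i < 20342 → P i := stepQ 20341 Q20341 (allL N20341 (tt N21115 (iv F171859)) (tt N20627 (iv F169268)) (tt N20779 (iv F170109)) (tt N21587 (iv F173796)) (tt N18805 F167859) (tt N21794 (iv F174436)) (tt N18669 (iv D36268)) (tt N21796 D37723) (tt N21756 (iv F174334)) (tt N21797 D37724))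
theorem Q20343 : ∀ i, i < 20343 → P i := stepQ 20342 Q20342 (allL N20342 (tt N21116 (iv F171861)) (tt N20508 (iv F168538)) (tt N20747 (iv F169955)) (tt N21588 (iv F173798)) (tt N18806 F167860) (tt N18670 F167861) (tt N21797 (iv F174442)) (tt N18672 F167862) (tt N21798 D37725) (tt N18669 (iv D36269)))
theorem Q20344 : ∀ i, i < 20344 → P i := stepQ 20343 Q20343 (allL N20343 (tt N21117 (iv F171865)) (tt N20612 (iv F169180)) (tt N20697 (iv F169689)) (tt N21589 (iv F173802)) (tt N18807 F167863) (tt N18721 F167864) (tt N21796 (iv F174440)) (tt N18671 (iv D36270)) (tt N21758 (iv F174339)) (tt N21054 (iv F171594)))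
theorem Q20345 : ∀ i, i < 20345 → P i := stepQ 20344 Q20344 (allL N20344 (tt N21118 (iv F171868)) (tt N20509 (iv F168544)) (tt N20748 (iv F169960)) (tt N21590 (iv F173805)) (tt N18808 F167865) (tt N21781 (iv F174400)) (tt N21055 (iv F171599)) (tt N21798 (iv F174444)) (tt N18672 (iv D36271)) (tt N21760 (iv F174343)))
theorem Q20346 : ∀ i, i < 20346 → P i := stepQ 20345 Q20345 (allL N20345 (tt N21120 (iv F171877)) (tt N18739 F167866) (tt N20589 (iv F169022)) (tt N18674 (iv D36272)) (tt N21785 (iv F174413)) (tt N21593 (iv F173814)) (tt N18738 F167867) (tt N18722 F167868) (tt N20466 (iv F168271)) (tt N21526 (iv F173570)))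
theorem Q20347 : ∀ i, i < 20347 → P i := stepQ 20346 Q20346 (allL N20346 (tt N21125 (iv F171902)) (tt N21791 (iv F174428)) (tt N18679 F167869) (tt N21541 (iv F173635)) (tt N18677 F167870) (tt N21799 D37726) (tt N18676 (iv D36273)) (tt N20487 (iv F168412)) (tt N21539 (iv F173632)) (tt N20451 (iv F168166)))
theorem Q20348 : ∀ i, i < 20348 → P i := stepQ 20347 Q20347 (allL N20347 (tt N21127 (iv F171911)) (tt N21773 (iv F174378)) (tt N18680 F167871) (tt N18747 F167872) (tt N21539 (iv F173631)) (tt N21800 D37727) (tt N18678 F167873) (tt N20489 (iv F168424)) (tt N18677 (iv D36274)) (tt N21691 (iv F174129)))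
theorem Q20349 : ∀ i, i < 20349 → P i := stepQ 20348 Q20348 (allL N20348 (tt N21128 (iv F171915)) (tt N20526 (iv F168648)) (tt N21799 (iv F174445)) (tt N18684 F167874) (tt N21597 (iv F173834)) (tt N18679 (iv D36275)) (tt N20760 (iv F170022)) (tt N20490 (iv F168430)) (tt N21801 D37728) (tt N20452 (iv F168173)))
theorem Q20350 : ∀ i, i < 20350 → P i := stepQ 20349 Q20349 (allL N20349 (tt N21132 (iv F171933)) (tt N20532 (iv F168684)) (tt N21800 (iv F174446)) (tt N18682 F167875) (tt N21802 D37729) (tt N18680 (iv D36276)) (tt N20349 F167876) (tt N20495 (iv F168460)) (tt N21601 (iv F173855)) (tt N21803 D37730))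
theorem Q20351 : ∀ i, i < 20351 → P i := stepQ 20350 Q20350 (allL N20350 (tt N21133 (iv F171936)) (tt N20533 (iv F168690)) (tt N21691 (iv F174125)) (tt N18683 F167877) (tt N21723 (iv F174257)) (tt N21803 (iv F174452)) (tt N18681 F167878) (tt N20496 (iv F168466)) (tt N20458 (iv F168217)) (tt N18680 (iv D36277)))
theorem Q20352 : ∀ i, i < 20352 → P i := stepQ 20351 Q20351 (allL N20351 (tt N21134 (iv F171940)) (tt N18765 F167879) (tt N18750 F167880) (tt N21804 D37731) (tt N18682 (iv D36278)) (tt N18685 F167881) (tt N20351 F167882) (tt N20467 (iv F168278)) (tt N21602 (iv F173861)) (tt N21700 (iv F174184)))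
theorem Q20353 : ∀ i, i < 20353 → P i := stepQ 20352 Q20352 (allL N20352 (tt N21135 (iv F171945)) (tt N20534 (iv F168697)) (tt N18751 F167883) (tt N21803 (iv F174451)) (tt N21700 (iv F174180)) (tt N18683 F167884) (tt N20352 F167885) (tt N20497 (iv F168473)) (tt N21703 (iv F174198)) (tt N18682 (iv D36279)))
theorem Q20354 : ∀ i, i < 20354 → P i := stepQ 20353 Q20353 (allL N20353 (tt N21138 (iv F171959)) (tt N21720 (iv F174247)) (tt N21733 (iv F174275)) (tt N21801 (iv F174449)) (tt N18717 F167886) (tt N21732 (iv F174273)) (tt N21152 (iv F172034)) (tt N21766 (iv F174355)) (tt N18684 (iv D36280)) (tt N21805 D37732))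
theorem Q20355 : ∀ i, i < 20355 → P i := stepQ 20354 Q20354 (allL N20354 (tt N21143 (iv F171978)) (tt N18762 F167887) (tt N20583 (iv F168980)) (tt N18685 (iv D36281)) (tt N21718 (iv F174242)) (tt N21804 (iv F174455)) (tt N18723 F167888) (tt N20466 (iv F168270)) (tt N18722 F167889) (tt N21502 (iv F173436)))
theorem Q20356 : ∀ i, i < 20356 → P i := stepQ 20355 Q20355 (allL N20355 (tt N21044 (iv F171541)) (tt N18690 F167890) (tt N21722 (iv F174253)) (tt N21606 (iv F173874)) (tt N18688 F167891) (tt N21806 D37733) (tt N18687 (iv D36282)) (tt N21767 (iv F174358)) (tt N21604 (iv F173869)) (tt N18706 F167892))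
theorem Q20357 : ∀ i, i < 20357 → P i := stepQ 20356 Q20356 (allL N20356 (tt N21144 (iv F171983)) (tt N21606 (iv F173872)) (tt N21622 (iv F173925)) (tt N18690 F167893) (tt N18752 F167894) (tt N21807 D37734) (tt N18689 (iv D36283)) (tt N21768 (iv F174362)) (tt N21603 (iv F173865)) (tt N18707 F167895))
theorem Q20358 : ∀ i, i < 20358 → P i := stepQ 20357 Q20357 (allL N20357 (tt N21147 (iv F172002)) (tt N21806 (iv F174458)) (tt N18695 F167896) (tt N21807 (iv F174461)) (tt N20538 (iv F168726)) (tt N18690 (iv D36284)) (tt N21137 (iv F171957)) (tt N21769 (iv F174365)) (tt N21808 D37735) (tt N18711 F167897))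
theorem Q20359 : ∀ i, i < 20359 → P i := stepQ 20358 Q20358 (allL N20358 (tt N21148 (iv F172008)) (tt N21604 (iv F173866)) (tt N18696 F167898) (tt N21603 (iv F173863)) (tt N18693 F167899) (tt N21809 D37736) (tt N18691 F167900) (tt N21770 (iv F174370)) (tt N18690 (iv D36285)) (tt N21810 D37737))
theorem Q20360 : ∀ i, i < 20360 → P i := stepQ 20359 Q20359 (allL N20359 (tt N21149 (iv F172013)) (tt N20488 (iv F168414)) (tt N18698 F167901) (tt N21499 (iv F173416)) (tt N18694 F167902) (tt N21344 (iv F172929)) (tt N21810 (iv F174467)) (tt N18692 F167903) (tt N18714 F167904) (tt N18691 (iv D36286)))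
theorem Q20361 : ∀ i, i < 20361 → P i := stepQ 20360 Q20360 (allL N20360 (tt N21150 (iv F172020)) (tt N21701 (iv F174185)) (tt N18701 F167905) (tt N18754 F167906) (tt N21811 D37738) (tt N18693 (iv D36287)) (tt N18781 F167907) (tt N21772 (iv F174377)) (tt N20542 (iv F168753)) (tt N21812 D37739))
theorem Q20362 : ∀ i, i < 20362 → P i := stepQ 20361 Q20361 (allL N20361 (tt N21151 (iv F172026)) (tt N20489 (iv F168420)) (tt N18702 F167908) (tt N18755 F167909) (tt N21810 (iv F174466)) (tt N21812 (iv F174473)) (tt N18694 F167910) (tt N21773 (iv F174382)) (tt N18716 F167911) (tt N18693 (iv D36288)))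
theorem Q20363 : ∀ i, i < 20363 → P i := stepQ 20362 Q20362 (allL N20362 (tt N21152 (iv F172032)) (tt N21725 (iv F174261)) (tt N21808 (iv F174463)) (tt N21628 (iv F173946)) (tt N20543 (iv F168756)) (tt N21813 D37740) (tt N21138 (iv F171961)) (tt N21774 (iv F174384)) (tt N18695 (iv D36289)) (tt N21814 D37741))
theorem Q20364 : ∀ i, i < 20364 → P i := stepQ 20363 Q20363 (allL N20363 (tt N21153 (iv F172035)) (tt N21726 (iv F174262)) (tt N21809 (iv F174464)) (tt N21629 (iv F173947)) (tt N21815 D37742) (tt N18696 (iv D36290)) (tt N21816 D37743) (tt N21775 (iv F174385)) (tt N21813 (iv F174475)) (tt N21817 D37744))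
theorem Q20365 : ∀ i, i < 20365 → P i := stepQ 20364 Q20364 (allL N20364 (tt N21154 (iv F172036)) (tt N20539 (iv F168730)) (tt N21810 (iv F174465)) (tt N21630 (iv F173948)) (tt N18702 F167912) (tt N21817 (iv F174479)) (tt N18698 F167913) (tt N21776 (iv F174388)) (tt N18719 F167914) (tt N18696 (iv D36291)))
theorem Q20366 : ∀ i, i < 20366 → P i := stepQ 20365 Q20365 (allL N20365 (tt N21155 (iv F172040)) (tt N21727 (iv F174263)) (tt N21343 (iv F172923)) (tt N21631 (iv F173952)) (tt N18786 F167915) (tt N21816 (iv F174478)) (tt N18697 (iv D36292)) (tt N21818 D37745) (tt N21141 (iv F171972)) (tt N21819 D37746))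
theorem Q20367 : ∀ i, i < 20367 → P i := stepQ 20366 Q20366 (allL N20366 (tt N21156 (iv F172044)) (tt N20540 (iv F168736)) (tt N21344 (iv F172927)) (tt N21632 (iv F173954)) (tt N18787 F167916) (tt N18698 F167917) (tt N21819 (iv F174483)) (tt N18700 F167918) (tt N21170 (iv F172100)) (tt N18697 (iv D36293)))
theorem Q20368 : ∀ i, i < 20368 → P i := stepQ 20367 Q20367 (allL N20367 (tt N21157 (iv F172049)) (tt N21728 (iv F174265)) (tt N20996 (iv F171325)) (tt N21633 (iv F173958)) (tt N18788 F167919) (tt N21779 (iv F174395)) (tt N21818 (iv F174481)) (tt N18699 (iv D36294)) (tt N20993 (iv F171308)) (tt N21820 D37747))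
theorem Q20369 : ∀ i, i < 20369 → P i := stepQ 20368 Q20368 (allL N20368 (tt N21158 (iv F172053)) (tt N20541 (iv F168743)) (tt N20998 (iv F171338)) (tt N21634 (iv F173960)) (tt N18789 F167920) (tt N21780 (iv F174397)) (tt N18700 F167921) (tt N21820 (iv F174485)) (tt N21172 (iv F172110)) (tt N18699 (iv D36295)))
theorem Q20370 : ∀ i, i < 20370 → P i := stepQ 20369 Q20369 (allL N20369 (tt N21159 (iv F172059)) (tt N21729 (iv F174267)) (tt N21811 (iv F174469)) (tt N21821 D37748) (tt N18701 (iv D36296)) (tt N21815 (iv F174477)) (tt N18790 F167922) (tt N21782 (iv F174402)) (tt N20550 (iv F168784)) (tt N21822 D37749))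
theorem Q20371 : ∀ i, i < 20371 → P i := stepQ 20370 Q20370 (allL N20370 (tt N21160 (iv F172062)) (tt N20542 (iv F168749)) (tt N21812 (iv F174471)) (tt N18704 F167923) (tt N21822 (iv F174488)) (tt N18702 F167924) (tt N18791 F167925) (tt N21783 (iv F174406)) (tt N21701 (iv F174188)) (tt N18701 (iv D36297)))
theorem Q20372 : ∀ i, i < 20372 → P i := stepQ 20371 Q20371 (allL N20371 (tt N21161 (iv F172066)) (tt N21730 (iv F174269)) (tt N21823 D37750) (tt N18703 (iv D36298)) (tt N21821 (iv F174486)) (tt N21637 (iv F173967)) (tt N18792 F167926) (tt N21784 (iv F174409)) (tt N20552 (iv F168794)) (tt N21707 F174210))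
theorem Q20373 : ∀ i, i < 20373 → P i := stepQ 20372 Q20372 (allL N20372 (tt N21191 (iv F172165)) (tt N18707 F167927) (tt N21610 (iv F173885)) (tt N18706 F167928) (tt N18722 F167929) (tt N21824 D37751) (tt N18705 (iv D36299)) (tt N21785 (iv F174414)) (tt N21718 (iv F174243)) (tt N21606 F173877))
theorem Q20374 : ∀ i, i < 20374 → P i := stepQ 20373 Q20373 (allL N20373 (tt N21187 (iv F172156)) (tt N18711 F167930) (tt N21721 (iv F174250)) (tt N21824 (iv F174494)) (tt N18718 F167931) (tt N18706 (iv D36300)) (tt N21416 (iv F173170)) (tt N21786 (iv F174417)) (tt N21825 D37752) (tt N21806 (iv F174460)))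
theorem Q20375 : ∀ i, i < 20375 → P i := stepQ 20374 Q20374 (allL N20374 (tt N21174 (iv F172116)) (tt N21824 (iv F174493)) (tt N21650 (iv F174012)) (tt N18711 F167932) (tt N21826 D37753) (tt N18707 (iv D36301)) (tt N21419 (iv F173179)) (tt N21787 (iv F174419)) (tt N21827 D37754) (tt N21807 (iv F174462)))
theorem Q20376 : ∀ i, i < 20376 → P i := stepQ 20375 Q20375 (allL N20375 (tt N21175 (iv F172118)) (tt N21718 (iv F174240)) (tt N21651 (iv F174014)) (tt N18712 F167933) (tt N18762 F167934) (tt N21828 D37755) (tt N18708 F167935) (tt N21788 (iv F174423)) (tt N18707 (iv D36302)) (tt N21829 D37756))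
theorem Q20377 : ∀ i, i < 20377 → P i := stepQ 20376 Q20376 (allL N20376 (tt N21176 (iv F172122)) (tt N21011 (iv F171401)) (tt N21652 (iv F174018)) (tt N18713 F167936) (tt N20376 F167937) (tt N18708 (iv D36303)) (tt N21830 D37757) (tt N18709 F167938) (tt N21421 (iv F173186)) (tt N21029 (iv F171489)))
theorem Q20378 : ∀ i, i < 20378 → P i := stepQ 20377 Q20377 (allL N20377 (tt N21177 (iv F172126)) (tt N20486 (iv F168402)) (tt N21572 (iv F173734)) (tt N18714 F167939) (tt N18763 F167940) (tt N21029 (iv F171488)) (tt N21829 (iv F174502)) (tt N18710 F167941) (tt N21499 (iv F173418)) (tt N18708 (iv D36304)))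
theorem Q20379 : ∀ i, i < 20379 → P i := stepQ 20378 Q20378 (allL N20378 (tt N21178 (iv F172130)) (tt N20653 (iv F169422)) (tt N21653 (iv F174022)) (tt N18715 F167942) (tt N20378 F167943) (tt N20696 (iv F169686)) (tt N18709 (iv D36305)) (tt N21831 D37758) (tt N21422 (iv F173189)) (tt N20968 (iv F171179)))
theorem Q20380 : ∀ i, i < 20380 → P i := stepQ 20379 Q20379 (allL N20379 (tt N21179 (iv F172133)) (tt N21825 (iv F174495)) (tt N18717 F167944) (tt N21827 (iv F174498)) (tt N21733 F174277) (tt N21832 D37759) (tt N21423 (iv F173191)) (tt N21789 (iv F174425)) (tt N18711 (iv D36306)) (tt N21833 D37760))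
theorem Q20381 : ∀ i, i < 20381 → P i := stepQ 20380 Q20380 (allL N20380 (tt N21180 (iv F172135)) (tt N21719 (iv F174244)) (tt N18718 F167945) (tt N21828 (iv F174499)) (tt N21721 (iv F174251)) (tt N18712 (iv D36307)) (tt N21834 D37761) (tt N21790 (iv F174427)) (tt N21832 (iv F174508)) (tt N21835 D37762))
theorem Q20382 : ∀ i, i < 20382 → P i := stepQ 20381 Q20381 (allL N20381 (tt N21181 (iv F172137)) (tt N20487 (iv F168409)) (tt N18719 F167946) (tt N21829 (iv F174500)) (tt N18716 F167947) (tt N21835 (iv F174513)) (tt N18714 F167948) (tt N21791 (iv F174432)) (tt N21810 (iv F174468)) (tt N18712 (iv D36308)))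
theorem Q20383 : ∀ i, i < 20383 → P i := stepQ 20382 Q20382 (allL N20382 (tt N21182 (iv F172141)) (tt N21013 (iv F171411)) (tt N18720 F167949) (tt N21830 (iv F174503)) (tt N18724 F167950) (tt N21834 (iv F174511)) (tt N18713 (iv D36309)) (tt N21836 D37763) (tt N21426 (iv F173200)) (tt N21031 (iv F171498)))
theorem Q20384 : ∀ i, i < 20384 → P i := stepQ 20383 Q20383 (allL N20383 (tt N21183 (iv F172144)) (tt N20654 (iv F169429)) (tt N18721 F167951) (tt N21831 (iv F174505)) (tt N18725 F167952) (tt N20697 (iv F169691)) (tt N21836 (iv F174516)) (tt N18715 (iv D36310)) (tt N21428 (iv F173208)) (tt N20969 (iv F171183)))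
theorem Q20385 : ∀ i, i < 20385 → P i := stepQ 20384 Q20384 (allL N20384 (tt N21185 (iv F172153)) (tt N21733 (iv F174274)) (tt N21832 (iv F174507)) (tt N21661 (iv F174040)) (tt N21825 (iv F174496)) (tt N18717 (iv D36311)) (tt N21837 D37764) (tt N21792 (iv F174433)) (tt N18718 F167953) (tt N21838 D37765))
theorem Q20386 : ∀ i, i < 20386 → P i := stepQ 20385 Q20385 (allL N20385 (tt N21186 (iv F172155)) (tt N21734 (iv F174278)) (tt N21833 (iv F174509)) (tt N21662 (iv F174042)) (tt N21805 (iv F174457)) (tt N21838 (iv F174518)) (tt N21433 (iv F173221)) (tt N21793 (iv F174435)) (tt N21814 (iv F174476)) (tt N18717 (iv D36312)))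
theorem Q20387 : ∀ i, i < 20387 → P i := stepQ 20386 Q20386 (allL N20386 (tt N21188 (iv F172158)) (tt N21147 (iv F172003)) (tt N21834 (iv F174510)) (tt N21664 (iv F174044)) (tt N21416 (iv F173169)) (tt N18720 F167954) (tt N18718 (iv D36313)) (tt N21839 D37766) (tt N21837 (iv F174517)) (tt N21168 (iv F172093)))
theorem Q20388 : ∀ i, i < 20388 → P i := stepQ 20387 Q20387 (allL N20387 (tt N21189 (iv F172160)) (tt N20538 (iv F168724)) (tt N21835 (iv F174512)) (tt N21665 (iv F174046)) (tt N21806 (iv F174459)) (tt N18719 F167955) (tt N21168 (iv F172092)) (tt N21795 (iv F174438)) (tt N21840 D37767) (tt N18718 (iv D36314)))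
theorem Q20389 : ∀ i, i < 20389 → P i := stepQ 20388 Q20388 (allL N20388 (tt N21190 (iv F172162)) (tt N21080 (iv F171696)) (tt N21836 (iv F174514)) (tt N21666 (iv F174048)) (tt N18726 F167956) (tt N21839 (iv F174519)) (tt N18721 F167957) (tt N18720 (iv D36315)) (tt N21437 (iv F173227)) (tt N21100 (iv F171795)))
theorem Q20390 : ∀ i, i < 20390 → P i := stepQ 20389 Q20389 (allL N20389 (tt N21195 (iv F172183)) (tt N20656 (iv F169440)) (tt N18726 F167958) (tt N20389 F167959) (tt N21836 (iv F174515)) (tt N21351 (iv F172960)) (tt N18725 F167960) (tt N18724 (iv D36316)) (tt N21449 (iv F173260)) (tt N20971 (iv F171194)))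
theorem Q20391 : ∀ i, i < 20391 → P i := stepQ 20390 Q20390 (allL N20390 (tt N21196 (iv F172187)) (tt N21526 (iv F173565)) (tt N21621 (iv F173920)) (tt N18729 F167961) (tt N21768 (iv F174361)) (tt N21841 D37768) (tt N18728 (iv D36317)) (tt N18752 F167962) (tt N21521 (iv F173540)) (tt N18739 F167963))
theorem Q20392 : ∀ i, i < 20392 → P i := stepQ 20391 Q20391 (allL N20391 (tt N21198 (iv F172199)) (tt N21594 (iv F173817)) (tt N18732 F167964) (tt N21841 (iv F174520)) (tt N20584 (iv F168988)) (tt N18729 (iv D36318)) (tt N20391 F167965) (tt N18753 F167966) (tt N21696 (iv F174161)) (tt N18741 F167967))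
theorem Q20393 : ∀ i, i < 20393 → P i := stepQ 20392 Q20392 (allL N20392 (tt N21200 (iv F172214)) (tt N21692 (iv F174130)) (tt N18734 F167968) (tt N21772 (iv F174375)) (tt N21695 (iv F174153)) (tt N18730 (iv D36319)) (tt N20392 F167969) (tt N18754 F167970) (tt N20585 (iv F168997)) (tt N21703 (iv F174199)))
theorem Q20394 : ∀ i, i < 20394 → P i := stepQ 20393 Q20393 (allL N20393 (tt N21201 (iv F172220)) (tt N18747 F167971) (tt N18735 F167972) (tt N21773 (iv F174380)) (tt N18821 F167973) (tt N21703 (iv F174195)) (tt N18731 F167974) (tt N18755 F167975) (tt N18744 F167976) (tt N18730 (iv D36320)))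
theorem Q20395 : ∀ i, i < 20395 → P i := stepQ 20394 Q20394 (allL N20394 (tt N21211 (iv F172281)) (tt N21593 (iv F173813)) (tt N21697 (iv F174163)) (tt N18741 F167977) (tt N21842 D37769) (tt N18739 (iv D36321)) (tt N20394 F167978) (tt N18761 F167979) (tt N21637 (iv F173970)) (tt N21841 (iv F174523)))
theorem Q20396 : ∀ i, i < 20396 → P i := stepQ 20395 Q20395 (allL N20395 (tt N21212 (iv F172285)) (tt N20466 (iv F168267)) (tt N21649 (iv F174007)) (tt N18742 F167980) (tt N21788 (iv F174421)) (tt N20552 (iv F168791)) (tt N18740 F167981) (tt N18762 F167982) (tt N18739 (iv D36322)) (tt N21538 (iv F173628)))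
theorem Q20397 : ∀ i, i < 20397 → P i := stepQ 20396 Q20396 (allL N20396 (tt N21214 (iv F172296)) (tt N18746 F167983) (tt N18745 F167984) (tt N21538 (iv F173625)) (tt N18744 F167985) (tt N20553 (iv F168799)) (tt N18743 F167986) (tt N18766 F167987) (tt N18821 F167988) (tt N18742 (iv D36323)))
theorem Q20398 : ∀ i, i < 20398 → P i := stepQ 20397 Q20397 (allL N20397 (tt N21218 (iv F172319)) (tt N20553 (iv F168796)) (tt N18748 F167989) (tt N21542 (iv F173639)) (tt N20497 (iv F168470)) (tt N18746 (iv D36324)) (tt N18768 F167990) (tt N21700 (iv F174182)) (tt N21694 (iv F174149)) (tt N20467 (iv F168279)))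
theorem Q20399 : ∀ i, i < 20399 → P i := stepQ 20398 Q20398 (allL N20398 (tt N21219 (iv F172323)) (tt N21703 (iv F174193)) (tt N18749 F167991) (tt N21800 (iv F174447)) (tt N21693 (iv F174139)) (tt N18747 (iv D36325)) (tt N20398 F167992) (tt N20554 (iv F168809)) (tt N20534 F168703) (tt N21692 (iv F174136)))
theorem Q20400 : ∀ i, i < 20400 → P i := stepQ 20399 Q20399 (allL N20399 (tt N21221 (iv F172332)) (tt N21607 (iv F173878)) (tt N21702 (iv F174189)) (tt N18753 F167993) (tt N21843 D37770) (tt N18752 (iv D36326)) (tt N18772 F167994) (tt N21841 (iv F174522)) (tt N21648 (iv F174005)) (tt N18761 F167995))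
theorem Q20401 : ∀ i, i < 20401 → P i := stepQ 20400 Q20400 (allL N20400 (tt N21227 (iv F172370)) (tt N20554 (iv F168804)) (tt N18759 F167996) (tt N21812 (iv F174472)) (tt N21694 (iv F174146)) (tt N18755 F167997) (tt N18793 F167998) (tt N21703 (iv F174197)) (tt N20497 (iv F168474)) (tt N18754 (iv D36327)))
theorem Q20402 : ∀ i, i < 20402 → P i := stepQ 20401 Q20401 (allL N20401 (tt N21228 (iv F172375)) (tt N21616 (iv F173901)) (tt N18760 (iv D36328)) (tt N21823 (iv F174490)) (tt N21519 (iv F173525)) (tt N21698 (iv F174169)) (tt N18775 F167999) (tt N21638 (iv F173975)) (tt N20596 (iv F169073)) (tt N18764 F168000))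
theorem Q20403 : ∀ i, i < 20403 → P i := stepQ 20402 Q20402 (allL N20402 (tt N21237 (iv F172415)) (tt N21667 (iv F174051)) (tt N21706 (iv F174205)) (tt N21545 (iv F173646)) (tt N18761 (iv D36329)) (tt N21826 (iv F174497)) (tt N18773 F168001) (tt N21842 (iv F174525)) (tt N21844 D37771) (tt N21843 (iv F174527)))
theorem Q20404 : ∀ i, i < 20404 → P i := stepQ 20403 Q20403 (allL N20403 (tt N21238 (iv F172417)) (tt N21615 (iv F173898)) (tt N21707 (iv F174207)) (tt N18764 F168002) (tt N21844 (iv F174528)) (tt N21784 (iv F174407)) (tt N18774 F168003) (tt N21637 (iv F173969)) (tt N18761 (iv D36330)) (tt N21823 (iv F174492)))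
theorem Q20405 : ∀ i, i < 20405 → P i := stepQ 20404 Q20404 (allL N20404 (tt N21239 (iv F172420)) (tt N21804 (iv F174454)) (tt N21708 (iv F174211)) (tt N18765 F168004) (tt N21845 D37772) (tt N18762 (iv D36331)) (tt N20404 F168005) (tt N20552 (iv F168793)) (tt N21784 (iv F174410)) (tt N21846 D37773))
theorem Q20406 : ∀ i, i < 20406 → P i := stepQ 20405 Q20405 (allL N20405 (tt N21240 (iv F172424)) (tt N21502 (iv F173431)) (tt N21573 (iv F173740)) (tt N18766 F168006) (tt N21829 (iv F174501)) (tt N21846 (iv F174532)) (tt N18763 F168007) (tt N21538 (iv F173627)) (tt N21500 (iv F173425)) (tt N18762 (iv D36332)))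
theorem Q20407 : ∀ i, i < 20407 → P i := stepQ 20406 Q20406 (allL N20406 (tt N21241 (iv F172427)) (tt N21700 (iv F174178)) (tt N18767 F168008) (tt N21846 (iv F174531)) (tt N20534 (iv F168699)) (tt N18766 F168009) (tt N20406 F168010) (tt N20553 (iv F168801)) (tt N21693 (iv F174142)) (tt N18765 (iv D36333)))
theorem Q20408 : ∀ i, i < 20408 → P i := stepQ 20407 Q20407 (allL N20407 (tt N21250 (iv F172485)) (tt N21670 (iv F174058)) (tt N21710 (iv F174218)) (tt N20599 (iv F169090)) (tt N18772 (iv D36334)) (tt N21247 (iv F172470)) (tt N21843 (iv F174526)) (tt N20407 F168011) (tt N21680 (iv F174097)) (tt N18773 F168012))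
theorem Q20409 : ∀ i, i < 20409 → P i := stepQ 20408 Q20408 (allL N20408 (tt N21256 (iv F172518)) (tt N21674 (iv F174072)) (tt N21712 (iv F174224)) (tt N21550 (iv F173664)) (tt N18774 F168013) (tt N21847 D37774) (tt N21844 (iv F174529)) (tt N20408 F168014) (tt N18773 (iv D36335)) (tt N21848 D37775))
theorem Q20410 : ∀ i, i < 20410 → P i := stepQ 20409 Q20409 (allL N20409 (tt N21257 (iv F172521)) (tt N21677 (iv F174084)) (tt N18792 F168015) (tt N18775 F168016) (tt N21848 (iv F174537)) (tt N20409 F168017) (tt N21823 (iv F174491)) (tt N20409 F168018) (tt N20569 (iv F168891)) (tt N18774 (iv D36336)))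
theorem Q20411 : ∀ i, i < 20411 → P i := stepQ 20410 Q20410 (allL N20410 (tt N21448 (iv F173251)) (tt N18784 F168019) (tt N20563 (iv F168858)) (tt N20410 F168020) (tt N21849 D37776) (tt N18776 (iv D36337)) (tt N21850 D37777) (tt N20410 F168021) (tt N21270 F172596) (tt N20556 (iv F168824)))
theorem Q20412 : ∀ i, i < 20412 → P i := stepQ 20411 Q20411 (allL N20411 (tt N21450 (iv F173261)) (tt N18786 F168022) (tt N20565 (iv F168868)) (tt N20411 F168023) (tt N21727 (iv F174264)) (tt N21850 (iv F174544)) (tt N18777 (iv D36338)) (tt N21851 D37778) (tt N21047 (iv F171556)) (tt N20557 (iv F168830)))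
theorem Q20413 : ∀ i, i < 20413 → P i := stepQ 20412 Q20412 (allL N20412 (tt N21451 (iv F173265)) (tt N18788 F168024) (tt N20566 (iv F168873)) (tt N20412 F168025) (tt N21728 (iv F174266)) (tt N20412 F168026) (tt N21851 (iv F174547)) (tt N18778 (iv D36339)) (tt N20991 (iv F171294)) (tt N20558 (iv F168837)))
theorem Q20414 : ∀ i, i < 20414 → P i := stepQ 20413 Q20413 (allL N20413 (tt N21453 (iv F173272)) (tt N18790 F168027) (tt N20568 (iv F168883)) (tt N21852 D37779) (tt N18779 (iv D36340)) (tt N21849 (iv F174540)) (tt N21729 (iv F174268)) (tt N20413 F168028) (tt N20502 (iv F168501)) (tt N20559 (iv F168843)))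
theorem Q20415 : ∀ i, i < 20415 → P i := stepQ 20414 Q20414 (allL N20414 (tt N21341 (iv F172914)) (tt N18792 F168029) (tt N20600 (iv F169096)) (tt N18780 (iv D36341)) (tt N21852 (iv F174549)) (tt N20414 F168030) (tt N21730 (iv F174270)) (tt N20414 F168031) (tt N20468 F168287) (tt N20597 (iv F169080)))
theorem Q20416 : ∀ i, i < 20416 → P i := stepQ 20415 Q20415 (allL N20415 (tt N21266 (iv F172570)) (tt N21709 (iv F174214)) (tt N18790 F168032) (tt N21711 (iv F174222)) (tt N18781 (iv D36342)) (tt N21348 (iv F172946)) (tt N21811 (iv F174470)) (tt N20415 F168033) (tt N20559 (iv F168842)) (tt N21853 D37780))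
theorem Q20417 : ∀ i, i < 20417 → P i := stepQ 20416 Q20416 (allL N20416 (tt N21267 (iv F172576)) (tt N20498 (iv F168476)) (tt N18791 F168034) (tt N18793 F168035) (tt N21853 (iv F174552)) (tt N18782 F168036) (tt N21812 (iv F174474)) (tt N20416 F168037) (tt N20503 (iv F168507)) (tt N18781 (iv D36343)))
theorem Q20418 : ∀ i, i < 20418 → P i := stepQ 20417 Q20417 (allL N20417 (tt N21260 (iv F172541)) (tt N21270 (iv F172591)) (tt N21258 (iv F172529)) (tt N20417 F168038) (tt N21854 D37781) (tt N18783 (iv D36344)) (tt N21855 D37782) (tt N20417 F168039) (tt N18784 F168040) (tt N21261 (iv F172552)))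
theorem Q20419 : ∀ i, i < 20419 → P i := stepQ 20418 Q20418 (allL N20418 (tt N21268 (iv F172582)) (tt N21849 (iv F174539)) (tt N21348 (iv F172945)) (tt N21856 D37783) (tt N18784 (iv D36345)) (tt N18790 F168041) (tt N21857 D37784) (tt N20418 F168042) (tt N21854 (iv F174555)) (tt N21858 D37785))
theorem Q20420 : ∀ i, i < 20420 → P i := stepQ 20419 Q20419 (allL N20419 (tt N21269 (iv F172586)) (tt N21850 (iv F174542)) (tt N21345 (iv F172932)) (tt N20419 F168043) (tt N21857 (iv F174561)) (tt N18786 F168044) (tt N18784 (iv D36346)) (tt N21859 D37786) (tt N21855 (iv F174557)) (tt N21860 D37787))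
theorem Q20421 : ∀ i, i < 20421 → P i := stepQ 20420 Q20420 (allL N20420 (tt N21270 (iv F172590)) (tt N20556 (iv F168820)) (tt N21349 (iv F172949)) (tt N20420 F168045) (tt N21858 (iv F174562)) (tt N18785 F168046) (tt N21860 (iv F174570)) (tt N20420 F168047) (tt N21448 (iv F173256)) (tt N18784 (iv D36347)))
theorem Q20422 : ∀ i, i < 20422 → P i := stepQ 20421 Q20421 (allL N20421 (tt N21271 (iv F172597)) (tt N21851 (iv F174545)) (tt N20999 (iv F171345)) (tt N20421 F168048) (tt N21818 (iv F174480)) (tt N21859 (iv F174566)) (tt N18788 F168049) (tt N18786 (iv D36348)) (tt N20994 (iv F171315)) (tt N21861 D37788))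
theorem Q20423 : ∀ i, i < 20423 → P i := stepQ 20422 Q20422 (allL N20422 (tt N21272 (iv F172602)) (tt N20557 (iv F168826)) (tt N21346 (iv F172936)) (tt N20422 F168050) (tt N21819 (iv F174482)) (tt N21860 (iv F174569)) (tt N18787 F168051) (tt N21861 (iv F174573)) (tt N21193 (iv F172175)) (tt N18786 (iv D36349)))
theorem Q20424 : ∀ i, i < 20424 → P i := stepQ 20423 Q20423 (allL N20423 (tt N21273 (iv F172606)) (tt N20558 (iv F168832)) (tt N21000 (iv F171351)) (tt N20423 F168052) (tt N21820 (iv F174484)) (tt N20423 F168053) (tt N21861 (iv F174572)) (tt N18789 F168054) (tt N21194 (iv F172181)) (tt N18788 (iv D36350)))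
theorem Q20425 : ∀ i, i < 20425 → P i := stepQ 20424 Q20424 (allL N20424 (tt N21274 (iv F172613)) (tt N21852 (iv F174548)) (tt N21848 (iv F174536)) (tt N18790 (iv D36351)) (tt N18792 F168055) (tt N21856 (iv F174559)) (tt N21821 (iv F174487)) (tt N20424 F168056) (tt N20567 (iv F168881)) (tt N21712 F174228))
theorem Q20426 : ∀ i, i < 20426 → P i := stepQ 20425 Q20425 (allL N20425 (tt N21275 (iv F172617)) (tt N20559 (iv F168839)) (tt N21853 (iv F174551)) (tt N21712 (iv F174225)) (tt N18791 F168057) (tt N21858 (iv F174563)) (tt N21822 (iv F174489)) (tt N20425 F168058) (tt N21709 (iv F174217)) (tt N18790 (iv D36352)))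
theorem Q20427 : ∀ i, i < 20427 → P i := stepQ 20426 Q20426 (allL N20426 (tt N21289 (iv F172709)) (tt N20816 (iv F170280)) (tt N18801 F168059) (tt N20426 F168060) (tt N21862 D37789) (tt N18794 (iv D36353)) (tt N21751 (iv F174326)) (tt N20426 F168061) (tt N20641 (iv F169349)) (tt N21863 D37790))
theorem Q20428 : ∀ i, i < 20428 → P i := stepQ 20427 Q20427 (allL N20427 (tt N21290 (iv F172714)) (tt N20652 (iv F169414)) (tt N18802 F168062) (tt N20427 F168063) (tt N20815 (iv F170275)) (tt N21863 (iv F174578)) (tt N18795 F168064) (tt N20427 F168065) (tt N20427 F168066) (tt N18794 (iv D36354)))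
theorem Q20429 : ∀ i, i < 20429 → P i := stepQ 20428 Q20428 (allL N20428 (tt N21291 (iv F172722)) (tt N20641 (iv F169345)) (tt N20814 (iv F170267)) (tt N20428 F168067) (tt N21864 D37791) (tt N18796 (iv D36355)) (tt N21865 D37792) (tt N20428 F168068) (tt N20816 (iv F170284)) (tt N21866 D37793))
theorem Q20430 : ∀ i, i < 20430 → P i := stepQ 20429 Q20429 (allL N20429 (tt N21292 (iv F172727)) (tt N20642 (iv F169351)) (tt N20815 (iv F170273)) (tt N20429 F168069) (tt N18802 F168070) (tt N21866 (iv F174585)) (tt N18798 F168071) (tt N20429 F168072) (tt N20429 F168073) (tt N18796 (iv D36356)))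
theorem Q20431 : ∀ i, i < 20431 → P i := stepQ 20430 Q20430 (allL N20430 (tt N21293 (iv F172735)) (tt N20630 (iv F169284)) (tt N20782 (iv F170121)) (tt N20430 F168074) (tt N21756 (iv F174333)) (tt N21865 (iv F174583)) (tt N18797 (iv D36357)) (tt N21867 D37794) (tt N18805 F168075) (tt N21868 D37795))
theorem Q20432 : ∀ i, i < 20432 → P i := stepQ 20431 Q20431 (allL N20431 (tt N21294 (iv F172738)) (tt N20631 (iv F169289)) (tt N20783 (iv F170125)) (tt N20431 F168076) (tt N21757 (iv F174335)) (tt N18798 F168077) (tt N21868 (iv F174591)) (tt N18800 F168078) (tt N21869 D37796) (tt N18797 (iv D36358)))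
theorem Q20433 : ∀ i, i < 20433 → P i := stepQ 20432 Q20432 (allL N20432 (tt N21295 (iv F172742)) (tt N20615 (iv F169198)) (tt N20700 (iv F169701)) (tt N20432 F168079) (tt N21758 (iv F174338)) (tt N20432 F168080) (tt N21867 (iv F174588)) (tt N18799 (iv D36359)) (tt N18807 F168081) (tt N21870 D37797))
theorem Q20434 : ∀ i, i < 20434 → P i := stepQ 20433 Q20433 (allL N20433 (tt N20895 (iv F170746)) (tt N20616 (iv F169204)) (tt N20701 (iv F169707)) (tt N20433 F168082) (tt N21759 (iv F174340)) (tt N20433 F168083) (tt N18800 F168084) (tt N21870 (iv F174598)) (tt N20890 (iv F170725)) (tt N18799 (iv D36360)))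
theorem Q20435 : ∀ i, i < 20435 → P i := stepQ 20434 Q20434 (allL N20434 (tt N20854 (iv F170498)) (tt N20512 (iv F168562)) (tt N20751 (iv F169973)) (tt N20434 F168085) (tt N21760 (iv F174342)) (tt N20434 F168086) (tt N20890 (iv F170724)) (tt N21869 (iv F174594)) (tt N18800 (iv D36361)) (tt N18808 F168087))
theorem Q20436 : ∀ i, i < 20436 → P i := stepQ 20435 Q20435 (allL N20435 (tt N21296 (iv F172746)) (tt N20808 (iv F170229)) (tt N21862 (iv F174574)) (tt N21871 D37798) (tt N18801 (iv D36362)) (tt N21864 (iv F174580)) (tt N21761 (iv F174344)) (tt N20435 F168088) (tt N20646 (iv F169380)) (tt N21872 D37799))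
theorem Q20437 : ∀ i, i < 20437 → P i := stepQ 20436 Q20436 (allL N20436 (tt N21297 (iv F172748)) (tt N20809 (iv F170233)) (tt N21863 (iv F174576)) (tt N18804 F168089) (tt N21872 (iv F174601)) (tt N18802 F168090) (tt N21762 (iv F174347)) (tt N20436 F168091) (tt N21873 D37800) (tt N18801 (iv D36363)))
theorem Q20438 : ∀ i, i < 20438 → P i := stepQ 20437 Q20437 (allL N20437 (tt N21254 (iv F172506)) (tt N20810 (iv F170239)) (tt N21874 D37801) (tt N18803 (iv D36364)) (tt N21871 (iv F174599)) (tt N20437 F168092) (tt N21763 (iv F174348)) (tt N20437 F168093) (tt N20648 (iv F169390)) (tt N21875 D37802))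
theorem Q20439 : ∀ i, i < 20439 → P i := stepQ 20438 Q20438 (allL N20438 (tt N21255 (iv F172511)) (tt N20811 (iv F170244)) (tt N20438 F168094) (tt N21875 (iv F174609)) (tt N18804 F168095) (tt N20438 F168096) (tt N21764 (iv F174351)) (tt N20438 F168097) (tt N20834 (iv F170369)) (tt N18803 (iv D36365)))
theorem Q20440 : ∀ i, i < 20440 → P i := stepQ 20439 Q20439 (allL N20439 (tt N21298 (iv F172752)) (tt N20812 (iv F170251)) (tt N20439 F168098) (tt N21873 (iv F174603)) (tt N20834 (iv F170366)) (tt N20439 F168099) (tt N21765 (iv F174353)) (tt N20439 F168100) (tt N18804 (iv D36366)) (tt N20649 (iv F169398)))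
theorem Q20441 : ∀ i, i < 20441 → P i := stepQ 20440 Q20440 (allL N20440 (tt N21301 (iv F172769)) (tt N20614 (iv F169191)) (tt N20699 (iv F169697)) (tt N20440 F168101) (tt N21796 (iv F174439)) (tt N21377 (iv F173040)) (tt N18807 F168102) (tt N18805 (iv D36367)) (tt N21867 (iv F174589)) (tt N21056 (iv F171603)))
theorem Q20442 : ∀ i, i < 20442 → P i := stepQ 20441 Q20441 (allL N20441 (tt N21302 (iv F172772)) (tt N20510 (iv F168549)) (tt N20749 (iv F169963)) (tt N20441 F168103) (tt N21797 (iv F174441)) (tt N21736 (iv F174285)) (tt N18806 F168104) (tt N21056 (iv F171602)) (tt N21876 D37803) (tt N18805 (iv D36368)))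
theorem Q20443 : ∀ i, i < 20443 → P i := stepQ 20442 Q20442 (allL N20442 (tt N21303 (iv F172775)) (tt N20511 (iv F168556)) (tt N20750 (iv F169967)) (tt N20442 F168105) (tt N21798 (iv F174443)) (tt N20442 F168106) (tt N21876 (iv F174613)) (tt N18808 F168107) (tt N18806 (iv D36369)) (tt N21869 (iv F174595)))
theorem Q20444 : ∀ i, i < 20444 → P i := stepQ 20443 Q20443 (allL N20443 (tt N21332 (iv F172873)) (tt N18811 F168108) (tt N20443 F168109) (tt N21496 (iv F173408)) (tt N20578 (iv F168942)) (tt N20843 (iv F170427)) (tt N18810 (iv D36370)) (tt N20464 (iv F168258)) (tt N21216 (iv F172312)) (tt N20463 F168251))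
theorem Q20445 : ∀ i, i < 20445 → P i := stepQ 20444 Q20444 (allL N20444 (tt N18821 F168110) (tt N21332 (iv F172874)) (tt N18832 F168111) (tt N21534 (iv F173607)) (tt N21201 (iv F172223)) (tt N20883 F170678) (tt N18820 (iv D36371)) (tt N21225 (iv F172362)) (tt N21214 (iv F172302)) (tt N21199 (iv F172213)))
theorem Q20446 : ∀ i, i < 20446 → P i := stepQ 20445 Q20445 (allL N20445 (tt N20445 F168112) (tt N20586 (iv F169000)) (tt N18845 F168113) (tt N18847 F168114) (tt N18842 F168115) (tt N18849 F168116) (tt N20445 F168117) (tt N18838 F168118) (tt N18824 (iv D36372)) (tt N18853 F168119))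
theorem Q20447 : ∀ i, i < 20447 → P i := stepQ 20446 Q20446 (allL N20446 (tt N20446 F168120) (tt N20594 (iv F169053)) (tt N18849 F168121) (tt N18856 F168122) (tt N18844 F168123) (tt N18845 F168124) (tt N18839 F168125) (tt N18853 F168126) (tt N18827 (iv D36373)) (tt N18838 F168127))
theorem Q20448 : ∀ i, i < 20448 → P i := stepQ 20447 Q20447 (allL N20447 (tt N20447 F168128) (tt N20593 (iv F169045)) (tt N18853 (iv F168134)) (tt N18830 (iv D36374)) (tt N18846 F168129) (tt N18838 F168130) (tt N20447 F168131) (tt N18849 F168132) (tt N18831 F168133) (tt N18845 F168135))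
theorem Q20449 : ∀ i, i < 20449 → P i := stepQ 20448 Q20448 (allL N20448 (tt N20448 F168136) (tt N20595 (iv F169061)) (tt N18852 F168137) (tt N18845 F168138) (tt N18831 F168139) (tt N18856 F168140) (tt N20448 F168141) (tt N18850 F168142) (tt N18846 F168143) (tt N18830 (iv D36375)))
theorem Q20450 : ∀ i, i < 20450 → P i := stepQ 20449 Q20449 (allL N20449 (tt N20449 F168144) (tt N20587 (iv F169008)) (tt N18843 F168145) (tt N18853 F168146) (tt N18848 F168147) (tt N18850 F168148) (tt N20449 F168149) (tt N18856 F168150) (tt N18841 (iv D36376)) (tt N18847 F168151))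
theorem Q20451 : ∀ i, i < 20451 → P i := stepQ 20450 Q20450 (allL N20450 (tt N19795 F168152) (tt N20333 F168153) (tt N18949 F168154) (tt N18860 F168155) (tt N18878 F168156) (tt N19172 F168157) (tt N21877 D37804) (tt N18859 (iv D36377)) (tt N20330 F168158) (tt N20046 F168159))
theorem Q20452 : ∀ i, i < 20452 → P i := stepQ 20451 Q20451 (allL N20451 (tt N19796 F168160) (tt N20335 F168161) (tt N18862 F168162) (tt N21877 (iv F174617)) (tt N18861 F168163) (tt N21878 D37805) (tt N18860 (iv D36378)) (tt N20264 F168164) (tt N20331 F168165) (tt N20346 F168166))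
theorem Q20453 : ∀ i, i < 20453 → P i := stepQ 20452 Q20452 (allL N20452 (tt N19797 F168167) (tt N20311 F168168) (tt N21878 (iv F174624)) (tt N18955 F168169) (tt N20261 F168170) (tt N18862 (iv D36379)) (tt N19180 F168171) (tt N20265 F168172) (tt N21879 D37806) (tt N20348 F168173))
theorem Q20454 : ∀ i, i < 20454 → P i := stepQ 20453 Q20453 (allL N20453 (tt N19798 F168174) (tt N20260 F168175) (tt N20331 F168176) (tt N18956 F168177) (tt N18866 F168178) (tt N21880 D37807) (tt N18863 F168179) (tt N20266 F168180) (tt N18862 (iv D36380)) (tt N21881 D37808))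
theorem Q20455 : ∀ i, i < 20455 → P i := stepQ 20454 Q20454 (allL N20454 (tt N19799 F168181) (tt N19135 F168182) (tt N20292 F168183) (tt N18957 F168184) (tt N18869 F168185) (tt N18863 (iv D36381)) (tt N21882 D37809) (tt N18864 F168186) (tt N19182 F168187) (tt N21883 D37810))
theorem Q20456 : ∀ i, i < 20456 → P i := stepQ 20455 Q20455 (allL N20455 (tt N19800 F168188) (tt N20098 F168189) (tt N20312 F168190) (tt N18958 F168191) (tt N18867 F168192) (tt N21883 (iv F174660)) (tt N21881 (iv F174646)) (tt N18865 F168193) (tt N20269 F168194) (tt N18863 (iv D36382)))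
theorem Q20457 : ∀ i, i < 20457 → P i := stepQ 20456 Q20456 (allL N20456 (tt N19801 F168195) (tt N19079 F168196) (tt N19867 F168197) (tt N18959 F168198) (tt N18871 F168199) (tt N19833 F168200) (tt N18864 (iv D36383)) (tt N21884 D37811) (tt N19184 F168201) (tt N19993 (iv F168202)))
theorem Q20458 : ∀ i, i < 20458 → P i := stepQ 20457 Q20457 (allL N20457 (tt N19802 F168203) (tt N19127 F168204) (tt N20281 F168205) (tt N18960 F168206) (tt N18872 F168207) (tt N18865 F168208) (tt N19993 F168209) (tt N21883 (iv F174661)) (tt N21885 D37812) (tt N18864 (iv D36384)))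
theorem Q20459 : ∀ i, i < 20459 → P i := stepQ 20458 Q20458 (allL N20458 (tt N19803 F168210) (tt N20099 F168211) (tt N20313 F168212) (tt N18868 F168213) (tt N21881 (iv F174645)) (tt N20337 F168214) (tt N18867 F168215) (tt N20268 F168216) (tt N20350 F168217) (tt N18866 (iv D36385)))
theorem Q20460 : ∀ i, i < 20460 → P i := stepQ 20459 Q20459 (allL N20459 (tt N19804 F168218) (tt N19136 F168219) (tt N20293 F168220) (tt N18873 F168221) (tt N21882 (iv F174653)) (tt N19169 F168222) (tt N18869 (iv D36386)) (tt N21886 D37813) (tt N19206 F168223) (tt N21887 D37814))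
theorem Q20461 : ∀ i, i < 20461 → P i := stepQ 20460 Q20460 (allL N20460 (tt N19805 F168224) (tt N19128 F168225) (tt N20282 F168226) (tt N18874 F168227) (tt N21883 (iv F174659)) (tt N18870 F168228) (tt N21887 (iv F174691)) (tt N18872 F168229) (tt N21888 D37815) (tt N18869 (iv D36387)))
theorem Q20462 : ∀ i, i < 20462 → P i := stepQ 20461 Q20461 (allL N20461 (tt N19806 F168230) (tt N19080 F168231) (tt N19868 F168232) (tt N18875 F168233) (tt N21884 (iv F174666)) (tt N19078 F168234) (tt N21886 (iv F174683)) (tt N18871 (iv D36388)) (tt N19208 F168235) (tt N19994 F168236))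
theorem Q20463 : ∀ i, i < 20463 → P i := stepQ 20462 Q20462 (allL N20462 (tt N19675 F168237) (tt N19129 F168238) (tt N20054 F168239) (tt N18876 F168240) (tt N21885 (iv F174674)) (tt N20462 F168241) (tt N19646 F168242) (tt N21888 (iv F174698)) (tt N18872 (iv D36389)) (tt N19210 F168243))
theorem Q20464 : ∀ i, i < 20464 → P i := stepQ 20463 Q20463 (allL N20463 (tt N19807 F168244) (tt N19223 F168245) (tt N20463 F168246) (tt N21886 (iv F174681)) (tt N18986 F168247) (tt N19246 F168248) (tt N18875 F168249) (tt N18873 (iv D36390)) (tt N19218 F168250) (tt N20443 (iv F168251)))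
theorem Q20465 : ∀ i, i < 20465 → P i := stepQ 20464 Q20464 (allL N20464 (tt N19808 F168252) (tt N19265 F168253) (tt N20464 F168254) (tt N21887 (iv F174689)) (tt N18987 F168255) (tt N19277 F168256) (tt N18874 F168257) (tt N20443 F168258) (tt N21889 D37816) (tt N18873 (iv D36391)))
theorem Q20466 : ∀ i, i < 20466 → P i := stepQ 20465 Q20465 (allL N20465 (tt N19678 F168259) (tt N19266 F168260) (tt N20465 F168261) (tt N21888 (iv F174696)) (tt N18988 F168262) (tt N20465 F168263) (tt N21889 (iv F174704)) (tt N18876 F168264) (tt N18874 (iv D36392)) (tt N19220 F168265))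
theorem Q20467 : ∀ i, i < 20467 → P i := stepQ 20466 Q20466 (allL N20466 (tt N19815 F168266) (tt N20395 F168267) (tt N19001 F168268) (tt N18879 F168269) (tt N21877 (iv F174618)) (tt N21890 D37817) (tt N18878 (iv D36393)) (tt N20354 F168270) (tt N20345 F168271) (tt N20047 F168272))
theorem Q20468 : ∀ i, i < 20468 → P i := stepQ 20467 Q20467 (allL N20467 (tt N19816 F168273) (tt N18963 F168274) (tt N18880 F168275) (tt N21890 (iv F174710)) (tt N18912 F168276) (tt N18879 (iv D36394)) (tt N18883 F168277) (tt N20351 F168278) (tt N20276 (iv F168280)) (tt N20397 F168279))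
theorem Q20469 : ∀ i, i < 20469 → P i := stepQ 20468 Q20468 (allL N20468 (tt N19821 F168281) (tt N18979 F168282) (tt N19015 F168283) (tt N18883 F168284) (tt N21891 D37818) (tt N18882 (iv D36395)) (tt N21890 (iv F174711)) (tt N20468 F168285) (tt N20414 (iv F168287)) (tt N20059 F168286))
theorem Q20470 : ∀ i, i < 20470 → P i := stepQ 20469 Q20469 (allL N20469 (tt N19584 F168288) (tt N18886 F168289) (tt N19423 F168290) (tt N21885 (iv F174673)) (tt N18884 (iv D36396)) (tt N19366 F168291) (tt N19535 F168292) (tt N21892 D37819) (tt N18960 F168293) (tt N19577 F168294))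
theorem Q20471 : ∀ i, i < 20471 → P i := stepQ 20470 Q20470 (allL N20470 (tt N19586 F168295) (tt N18887 F168296) (tt N19465 F168297) (tt N18988 F168298) (tt N21892 (iv F174726)) (tt N18885 F168299) (tt N21893 D37820) (tt N18884 (iv D36397)) (tt N18974 F168300) (tt N19466 F168301))
theorem Q20472 : ∀ i, i < 20472 → P i := stepQ 20471 Q20471 (allL N20471 (tt N18901 F168302) (tt N21885 (iv F174671)) (tt N19131 F168303) (tt N18886 (iv D36398)) (tt N19129 F168304) (tt N19368 F168305) (tt N19537 F168306) (tt N21894 D37821) (tt N19127 (iv F168308)) (tt N19772 F168307))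
theorem Q20473 : ∀ i, i < 20473 → P i := stepQ 20472 Q20472 (allL N20472 (tt N18902 F168309) (tt N21892 (iv F174724)) (tt N18889 F168310) (tt N21894 (iv F174740)) (tt N18887 F168311) (tt N19369 F168312) (tt N21895 D37822) (tt N18886 (iv D36399)) (tt N21896 D37823) (tt N19607 F168313))
theorem Q20474 : ∀ i, i < 20474 → P i := stepQ 20473 Q20473 (allL N20473 (tt N18903 F168314) (tt N18960 F168315) (tt N18890 F168316) (tt N19127 F168317) (tt N18888 F168318) (tt N18909 F168319) (tt N19539 F168320) (tt N21896 (iv F174756)) (tt N18886 (iv D36400)) (tt N18908 F168321))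
theorem Q20475 : ∀ i, i < 20475 → P i := stepQ 20474 Q20474 (allL N20474 (tt N18904 F168322) (tt N21893 (iv F174731)) (tt N18891 F168323) (tt N19559 F168324) (tt N21895 (iv F174747)) (tt N19557 F168325) (tt N18887 (iv D36401)) (tt N19540 F168326) (tt N21897 D37824) (tt N19556 F168327))
theorem Q20476 : ∀ i, i < 20476 → P i := stepQ 20475 Q20475 (allL N20475 (tt N18905 F168328) (tt N18974 F168329) (tt N18892 F168330) (tt N18924 F168331) (tt N21896 (iv F174754)) (tt N18896 F168332) (tt N21897 (iv F174763)) (tt N18888 F168333) (tt N18887 (iv D36402)) (tt N18917 F168334))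
theorem Q20477 : ∀ i, i < 20477 → P i := stepQ 20476 Q20476 (allL N20476 (tt N18906 F168335) (tt N19823 F168336) (tt N21895 (iv F174746)) (tt N19493 F168337) (tt N18891 F168338) (tt N21898 D37825) (tt N18889 (iv D36403)) (tt N19542 F168339) (tt N21899 D37826) (tt N19790 F168340))
theorem Q20478 : ∀ i, i < 20478 → P i := stepQ 20477 Q20477 (allL N20477 (tt N18907 F168341) (tt N19824 F168342) (tt N21896 (iv F174752)) (tt N19494 F168343) (tt N18892 F168344) (tt N20107 F168345) (tt N21899 (iv F174777)) (tt N18890 F168346) (tt N18889 (iv D36404)) (tt N21900 D37827))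
theorem Q20479 : ∀ i, i < 20479 → P i := stepQ 20478 Q20478 (allL N20478 (tt N18909 F168347) (tt N19825 F168348) (tt N18908 F168349) (tt N19120 F168350) (tt N18893 F168351) (tt N18903 F168352) (tt N19545 F168353) (tt N21900 (iv F174785)) (tt N19454 F168354) (tt N18890 (iv D36405)))
theorem Q20480 : ∀ i, i < 20480 → P i := stepQ 20479 Q20479 (allL N20479 (tt N18910 F168355) (tt N19826 F168356) (tt N21897 (iv F174760)) (tt N18894 F168357) (tt N21899 (iv F174776)) (tt N21901 D37828) (tt N18892 F168358) (tt N19546 F168359) (tt N18891 (iv D36406)) (tt N21902 D37829))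
theorem Q20481 : ∀ i, i < 20481 → P i := stepQ 20480 Q20480 (allL N20480 (tt N18911 F168360) (tt N19827 F168361) (tt N18917 F168362) (tt N18895 F168363) (tt N21900 (iv F174783)) (tt N18898 F168364) (tt N21902 (iv F174798)) (tt N18893 F168365) (tt N19467 F168366) (tt N18892 (iv D36407)))
theorem Q20482 : ∀ i, i < 20482 → P i := stepQ 20481 Q20481 (allL N20481 (tt N18912 F168367) (tt N19828 F168368) (tt N19617 F168369) (tt N21901 (iv F174790)) (tt N19816 F168370) (tt N18894 (iv D36408)) (tt N18899 F168371) (tt N19548 F168372) (tt N19980 F168373) (tt N21903 D37830))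
theorem Q20483 : ∀ i, i < 20483 → P i := stepQ 20482 Q20482 (allL N20482 (tt N18913 F168374) (tt N19829 F168375) (tt N19263 F168376) (tt N21902 (iv F174797)) (tt N19262 F168377) (tt N21903 (iv F174805)) (tt N18895 F168378) (tt N19549 F168379) (tt N19686 F168380) (tt N18894 (iv D36409)))
theorem Q20484 : ∀ i, i < 20484 → P i := stepQ 20483 Q20483 (allL N20483 (tt N18919 F168381) (tt N19830 F168382) (tt N19946 F168383) (tt N18899 F168384) (tt N21904 D37831) (tt N18897 (iv D36410)) (tt N21901 (iv F174791)) (tt N20483 F168385) (tt N19937 F168386) (tt N21905 D37832))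
theorem Q20485 : ∀ i, i < 20485 → P i := stepQ 20484 Q20484 (allL N20484 (tt N18920 F168387) (tt N19831 F168388) (tt N18916 F168389) (tt N18900 F168390) (tt N18915 F168391) (tt N21905 (iv F174820)) (tt N18898 F168392) (tt N20484 F168393) (tt N18914 F168394) (tt N18897 (iv D36411)))
theorem Q20486 : ∀ i, i < 20486 → P i := stepQ 20485 Q20485 (allL N20485 (tt N18921 F168395) (tt N19832 F168396) (tt N19319 F168397) (tt N21905 (iv F174819)) (tt N19695 F168398) (tt N18900 F168399) (tt N21903 (iv F174806)) (tt N20485 F168400) (tt N19729 F168401) (tt N18899 (iv D36412)))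
theorem Q20487 : ∀ i, i < 20487 → P i := stepQ 20486 Q20486 (allL N20486 (tt N21894 (iv F174738)) (tt N20377 F168402) (tt N20006 F168403) (tt N18902 F168404) (tt N20004 F168405) (tt N19450 F168406) (tt N21906 D37833) (tt N18901 (iv D36413)) (tt N20002 F168407) (tt N20263 F168408))
theorem Q20488 : ∀ i, i < 20488 → P i := stepQ 20487 Q20487 (allL N20487 (tt N21895 (iv F174745)) (tt N20381 F168409) (tt N18906 F168410) (tt N21906 (iv F174825)) (tt N18904 F168411) (tt N21907 D37834) (tt N18902 (iv D36414)) (tt N20346 F168412) (tt N21908 D37835) (tt N20264 F168413))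
theorem Q20489 : ∀ i, i < 20489 → P i := stepQ 20488 Q20488 (allL N20488 (tt N21896 (iv F174750)) (tt N20359 F168414) (tt N18907 F168415) (tt N20002 F168416) (tt N18905 F168417) (tt N21900 (iv F174784)) (tt N21908 (iv F174840)) (tt N18903 F168418) (tt N18902 (iv D36415)) (tt N20107 F168419))
theorem Q20490 : ∀ i, i < 20490 → P i := stepQ 20489 Q20489 (allL N20489 (tt N21897 (iv F174758)) (tt N20361 F168420) (tt N18910 F168421) (tt N20225 F168422) (tt N21908 (iv F174839)) (tt N21909 D37836) (tt N18905 F168423) (tt N20347 F168424) (tt N18904 (iv D36416)) (tt N20228 F168425))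
theorem Q20491 : ∀ i, i < 20491 → P i := stepQ 20490 Q20490 (allL N20490 (tt N21898 (iv F174766)) (tt N18955 F168426) (tt N21907 (iv F174831)) (tt N20311 F168427) (tt N20271 F168428) (tt N18906 (iv D36417)) (tt N19458 F168429) (tt N20348 F168430) (tt N21910 D37837) (tt N20265 F168431))
theorem Q20492 : ∀ i, i < 20492 → P i := stepQ 20491 Q20491 (allL N20491 (tt N21899 (iv F174773)) (tt N18956 F168432) (tt N21908 (iv F174837)) (tt N20260 F168433) (tt N18910 F168434) (tt N21911 D37838) (tt N18907 F168435) (tt N20277 F168436) (tt N18906 (iv D36418)) (tt N21912 D37839))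
theorem Q20493 : ∀ i, i < 20493 → P i := stepQ 20492 Q20492 (allL N20492 (tt N20107 F168437) (tt N18957 F168438) (tt N21900 (iv F174781)) (tt N19135 F168439) (tt N18917 F168440) (tt N18907 (iv D36419)) (tt N21913 D37840) (tt N18908 F168441) (tt N19460 F168442) (tt N21896 (iv F174757)))
theorem Q20494 : ∀ i, i < 20494 → P i := stepQ 20493 Q20493 (allL N20493 (tt N21900 (iv F174779)) (tt N18958 F168443) (tt N20107 F168444) (tt N20098 F168445) (tt N18911 F168446) (tt N21896 (iv F174755)) (tt N21912 (iv F174863)) (tt N18909 F168447) (tt N20267 F168448) (tt N18907 (iv D36420)))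
theorem Q20495 : ∀ i, i < 20495 → P i := stepQ 20494 Q20494 (allL N20494 (tt N20027 F168449) (tt N18959 F168450) (tt N19545 F168451) (tt N19079 F168452) (tt N18918 F168453) (tt N19835 F168454) (tt N18908 (iv D36421)) (tt N21914 D37841) (tt N19462 F168455) (tt N19539 F168456))
theorem Q20496 : ∀ i, i < 20496 → P i := stepQ 20495 Q20495 (allL N20495 (tt N21901 (iv F174787)) (tt N18961 F168457) (tt N21909 (iv F174845)) (tt N18912 F168458) (tt N21915 D37842) (tt N18910 (iv D36422)) (tt N18919 F168459) (tt N20349 F168460) (tt N20275 F168461) (tt N21916 D37843))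
theorem Q20497 : ∀ i, i < 20497 → P i := stepQ 20496 Q20496 (allL N20496 (tt N21902 (iv F174794)) (tt N18962 F168462) (tt N20228 F168463) (tt N18913 F168464) (tt N21912 (iv F174862)) (tt N21916 (iv F174886)) (tt N18911 F168465) (tt N20350 F168466) (tt N20268 F168467) (tt N18910 (iv D36423)))
theorem Q20498 : ∀ i, i < 20498 → P i := stepQ 20497 Q20497 (allL N20497 (tt N21903 (iv F174801)) (tt N18964 F168468) (tt N20222 F168469) (tt N21916 (iv F174885)) (tt N20397 F168470) (tt N18913 F168471) (tt N18921 F168472) (tt N20352 F168473) (tt N20400 F168474) (tt N18912 (iv D36424)))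
theorem Q20499 : ∀ i, i < 20499 → P i := stepQ 20498 Q20498 (allL N20498 (tt N19946 F168475) (tt N20416 F168476) (tt N18919 F168477) (tt N18981 F168478) (tt N21917 D37844) (tt N18915 (iv D36425)) (tt N21909 (iv F174847)) (tt N20498 F168479) (tt N18978 F168480) (tt N20252 F168481))
theorem Q20500 : ∀ i, i < 20500 → P i := stepQ 20499 Q20499 (allL N20499 (tt N20252 F168482) (tt N18971 F168483) (tt N21905 (iv F174818)) (tt N18922 F168484) (tt N21918 D37845) (tt N18916 (iv D36426)) (tt N21919 D37846) (tt N20499 F168485) (tt N19726 F168486) (tt N19946 F168487))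
theorem Q20501 : ∀ i, i < 20501 → P i := stepQ 20500 Q20500 (allL N20500 (tt N20228 F168488) (tt N18973 F168489) (tt N21902 (iv F174796)) (tt N18923 F168490) (tt N21913 (iv F174869)) (tt N21919 (iv F174907)) (tt N18917 (iv D36427)) (tt N21920 D37847) (tt N19468 F168491) (tt N21897 (iv F174765)))
theorem Q20502 : ∀ i, i < 20502 → P i := stepQ 20501 Q20501 (allL N20501 (tt N20199 F168492) (tt N18975 F168493) (tt N19547 F168494) (tt N18925 F168495) (tt N21914 (iv F174875)) (tt N20501 F168496) (tt N21920 (iv F174914)) (tt N18918 (iv D36428)) (tt N19469 F168497) (tt N19541 F168498))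
theorem Q20503 : ∀ i, i < 20503 → P i := stepQ 20502 Q20502 (allL N20502 (tt N21904 (iv F174809)) (tt N18977 F168499) (tt N21917 (iv F174892)) (tt N21891 (iv F174718)) (tt N18919 (iv D36429)) (tt N21918 (iv F174900)) (tt N21915 (iv F174880)) (tt N20502 F168500) (tt N20413 F168501) (tt N21921 D37848))
theorem Q20504 : ∀ i, i < 20504 → P i := stepQ 20503 Q20503 (allL N20503 (tt N21905 (iv F174816)) (tt N18978 F168502) (tt N20252 F168503) (tt N18921 F168504) (tt N21921 (iv F174920)) (tt N18920 F168505) (tt N21916 (iv F174887)) (tt N20503 F168506) (tt N20416 F168507) (tt N18919 (iv D36430)))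
theorem Q20505 : ∀ i, i < 20505 → P i := stepQ 20504 Q20504 (allL N20504 (tt N20229 F168508) (tt N18984 F168509) (tt N19270 F168510) (tt N21919 (iv F174906)) (tt N19305 F168511) (tt N18923 F168512) (tt N18922 (iv D36431)) (tt N21922 D37849) (tt N19576 F168513) (tt N19928 F168514))
theorem Q20506 : ∀ i, i < 20506 → P i := stepQ 20505 Q20505 (allL N20505 (tt N20200 F168515) (tt N18986 F168516) (tt N19224 F168517) (tt N21920 (iv F174913)) (tt N19223 F168518) (tt N21922 (iv F174928)) (tt N18925 F168519) (tt N18923 (iv D36432)) (tt N19471 F168520) (tt N19651 (iv F168521)))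
theorem Q20507 : ∀ i, i < 20507 → P i := stepQ 20506 Q20506 (allL N20506 (tt N20225 F168522) (tt N18987 F168523) (tt N19267 F168524) (tt N21897 (iv F174761)) (tt N19265 F168525) (tt N19928 F168526) (tt N18924 F168527) (tt N19651 F168528) (tt N19559 F168529) (tt N18923 (iv D36433)))
theorem Q20508 : ∀ i, i < 20508 → P i := stepQ 20507 Q20507 (allL N20507 (tt N19869 F168530) (tt N20093 F168531) (tt N19429 F168532) (tt N18926 (iv D36434)) (tt N20507 F168533) (tt N18936 F168534) (tt N19477 F168535) (tt N21923 D37850) (tt N21924 D37851) (tt N19040 F168536))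
theorem Q20509 : ∀ i, i < 20509 → P i := stepQ 20508 Q20508 (allL N20508 (tt N19870 F168537) (tt N20342 F168538) (tt N18929 F168539) (tt N21923 (iv F174935)) (tt N18927 F168540) (tt N18937 F168541) (tt N21925 D37852) (tt N18926 (iv D36435)) (tt N21926 D37853) (tt N19041 F168542))
theorem Q20510 : ∀ i, i < 20510 → P i := stepQ 20509 Q20509 (allL N20509 (tt N19871 F168543) (tt N20344 F168544) (tt N18930 F168545) (tt N21924 (iv F174942)) (tt N18928 F168546) (tt N21927 D37854) (tt N19479 F168547) (tt N21926 (iv F174957)) (tt N18926 (iv D36436)) (tt N21928 D37855))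
theorem Q20511 : ∀ i, i < 20511 → P i := stepQ 20510 Q20510 (allL N20510 (tt N19872 F168548) (tt N20441 F168549) (tt N18931 F168550) (tt N20510 F168551) (tt N21925 (iv F174950)) (tt N20285 F168552) (tt N18927 (iv D36437)) (tt N19480 F168553) (tt N21929 D37856) (tt N19043 F168554))
theorem Q20512 : ∀ i, i < 20512 → P i := stepQ 20511 Q20511 (allL N20511 (tt N19873 F168555) (tt N20442 F168556) (tt N18932 F168557) (tt N20511 F168558) (tt N21926 (iv F174956)) (tt N20511 F168559) (tt N21929 (iv F174978)) (tt N18928 F168560) (tt N18927 (iv D36438)) (tt N21930 D37857))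
theorem Q20513 : ∀ i, i < 20513 → P i := stepQ 20512 Q20512 (allL N20512 (tt N19874 F168561) (tt N20434 F168562) (tt N18933 F168563) (tt N20512 F168564) (tt N21928 (iv F174970)) (tt N20512 F168565) (tt N19482 F168566) (tt N21930 (iv F174985)) (tt N19045 F168567) (tt N18928 (iv D36439)))
theorem Q20514 : ∀ i, i < 20514 → P i := stepQ 20513 Q20513 (allL N20513 (tt N19875 F168568) (tt N19155 F168569) (tt N21925 (iv F174949)) (tt N19435 F168570) (tt N18931 F168571) (tt N21931 D37858) (tt N18929 (iv D36440)) (tt N19483 F168572) (tt N21932 D37859) (tt N19046 F168573))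
theorem Q20515 : ∀ i, i < 20515 → P i := stepQ 20514 Q20514 (allL N20514 (tt N19876 F168574) (tt N19156 F168575) (tt N21926 (iv F174955)) (tt N19436 F168576) (tt N18932 F168577) (tt N21933 D37860) (tt N21932 (iv F174998)) (tt N18930 F168578) (tt N18929 (iv D36441)) (tt N21934 D37861))
theorem Q20516 : ∀ i, i < 20516 → P i := stepQ 20515 Q20515 (allL N20515 (tt N19877 F168579) (tt N19157 F168580) (tt N21927 (iv F174960)) (tt N19437 F168581) (tt N20515 F168582) (tt N18930 (iv D36442)) (tt N21935 D37862) (tt N21933 (iv F175004)) (tt N18943 F168583) (tt N21936 D37863))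
theorem Q20517 : ∀ i, i < 20517 → P i := stepQ 20516 Q20516 (allL N20516 (tt N19878 F168584) (tt N19158 F168585) (tt N21928 (iv F174968)) (tt N19438 F168586) (tt N18933 F168587) (tt N21936 (iv F175025)) (tt N19486 F168588) (tt N21934 (iv F175010)) (tt N19049 F168589) (tt N18930 (iv D36443)))
theorem Q20518 : ∀ i, i < 20518 → P i := stepQ 20517 Q20517 (allL N20517 (tt N19879 F168590) (tt N19159 F168591) (tt N21929 (iv F174976)) (tt N18934 F168592) (tt N21932 (iv F174997)) (tt N21937 D37864) (tt N18932 F168593) (tt N19487 F168594) (tt N18931 (iv D36444)) (tt N21938 D37865))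
theorem Q20519 : ∀ i, i < 20519 → P i := stepQ 20518 Q20518 (allL N20518 (tt N19880 F168595) (tt N19160 F168596) (tt N21930 (iv F174982)) (tt N18935 F168597) (tt N21934 (iv F175009)) (tt N20518 F168598) (tt N21938 (iv F175037)) (tt N18933 F168599) (tt N19051 F168600) (tt N18932 (iv D36445)))
theorem Q20520 : ∀ i, i < 20520 → P i := stepQ 20519 Q20519 (allL N20519 (tt N19881 F168601) (tt N19161 F168602) (tt N20519 F168603) (tt N21937 (iv F175030)) (tt N21939 D37866) (tt N18934 (iv D36446)) (tt N20519 F168604) (tt N19489 F168605) (tt N20290 F168606) (tt N21940 D37867))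
theorem Q20521 : ∀ i, i < 20521 → P i := stepQ 20520 Q20520 (allL N20520 (tt N19882 F168607) (tt N19162 F168608) (tt N20520 F168609) (tt N21938 (iv F175036)) (tt N19442 F168610) (tt N21940 (iv F175050)) (tt N18935 F168611) (tt N19490 F168612) (tt N19053 F168613) (tt N18934 (iv D36447)))
theorem Q20522 : ∀ i, i < 20522 → P i := stepQ 20521 Q20521 (allL N20521 (tt N19888 F168614) (tt N20091 F168615) (tt N20263 F168616) (tt N18937 F168617) (tt N18995 F168618) (tt N21923 (iv F174937)) (tt N21941 D37868) (tt N18936 (iv D36448)) (tt N20114 F168619) (tt N20006 F168620))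
theorem Q20523 : ∀ i, i < 20523 → P i := stepQ 20522 Q20522 (allL N20522 (tt N19889 F168621) (tt N20340 F168622) (tt N18941 F168623) (tt N21941 (iv F175056)) (tt N18939 F168624) (tt N21942 D37869) (tt N18937 (iv D36449)) (tt N18951 F168625) (tt N21943 D37870) (tt N20262 F168626))
theorem Q20524 : ∀ i, i < 20524 → P i := stepQ 20523 Q20523 (allL N20523 (tt N19890 F168627) (tt N20323 F168628) (tt N18942 F168629) (tt N20114 F168630) (tt N18940 F168631) (tt N21944 D37871) (tt N21943 (iv F175072)) (tt N18938 F168632) (tt N18937 (iv D36450)) (tt N20101 F168633))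
theorem Q20525 : ∀ i, i < 20525 → P i := stepQ 20524 Q20524 (allL N20524 (tt N19891 F168634) (tt N20325 F168635) (tt N18943 F168636) (tt N19901 F168637) (tt N20524 F168638) (tt N18938 (iv D36451)) (tt N21945 D37872) (tt N21944 (iv F175080)) (tt N21927 (iv F174963)) (tt N20102 F168639))
theorem Q20526 : ∀ i, i < 20526 → P i := stepQ 20525 Q20525 (allL N20525 (tt N19892 F168640) (tt N20327 F168641) (tt N18945 F168642) (tt N18997 F168643) (tt N21943 (iv F175071)) (tt N21946 D37873) (tt N18940 F168644) (tt N18954 F168645) (tt N18939 (iv D36452)) (tt N20103 F168646))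
theorem Q20527 : ∀ i, i < 20527 → P i := stepQ 20526 Q20526 (allL N20526 (tt N19893 F168647) (tt N20348 F168648) (tt N21942 (iv F175063)) (tt N20265 F168649) (tt N20320 F168650) (tt N18941 (iv D36453)) (tt N21931 (iv F174991)) (tt N18955 F168651) (tt N21947 D37874) (tt N20311 F168652))
theorem Q20528 : ∀ i, i < 20528 → P i := stepQ 20527 Q20527 (allL N20527 (tt N19894 F168653) (tt N20277 F168654) (tt N21943 (iv F175069)) (tt N20266 F168655) (tt N18945 F168656) (tt N21948 D37875) (tt N18942 F168657) (tt N18956 F168658) (tt N18941 (iv D36454)) (tt N21949 D37876))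
theorem Q20529 : ∀ i, i < 20529 → P i := stepQ 20528 Q20528 (allL N20528 (tt N19895 F168659) (tt N19848 F168660) (tt N21944 (iv F175077)) (tt N19846 F168661) (tt N20528 F168662) (tt N18942 (iv D36455)) (tt N21950 D37877) (tt N18943 F168663) (tt N21933 (iv F175005)) (tt N21951 D37878))
theorem Q20530 : ∀ i, i < 20530 → P i := stepQ 20529 Q20529 (allL N20529 (tt N19896 F168664) (tt N20269 F168665) (tt N20101 F168666) (tt N20267 F168667) (tt N18946 F168668) (tt N21951 (iv F175124)) (tt N21949 (iv F175112)) (tt N18944 F168669) (tt N20098 F168670) (tt N18942 (iv D36456)))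
theorem Q20531 : ∀ i, i < 20531 → P i := stepQ 20530 Q20530 (allL N20530 (tt N19897 F168671) (tt N19835 F168672) (tt N21945 (iv F175084)) (tt N19833 F168673) (tt N20530 F168674) (tt N18959 F168675) (tt N18943 (iv D36457)) (tt N21952 D37879) (tt N21935 (iv F175018)) (tt N21953 D37880))
theorem Q20532 : ∀ i, i < 20532 → P i := stepQ 20531 Q20531 (allL N20531 (tt N19451 F168676) (tt N19418 F168677) (tt N20102 F168678) (tt N19370 F168679) (tt N20531 F168680) (tt N18944 F168681) (tt N21953 (iv F175138)) (tt N21951 (iv F175125)) (tt N19368 (iv F168682)) (tt N18943 (iv D36458)))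
theorem Q20533 : ∀ i, i < 20533 → P i := stepQ 20532 Q20532 (allL N20532 (tt N19898 F168683) (tt N20349 F168684) (tt N21946 (iv F175092)) (tt N18947 F168685) (tt N21954 D37881) (tt N18945 (iv D36459)) (tt N20532 F168686) (tt N18961 F168687) (tt N20326 F168688) (tt N21955 D37882))
theorem Q20534 : ∀ i, i < 20534 → P i := stepQ 20533 Q20533 (allL N20533 (tt N19899 F168689) (tt N20350 F168690) (tt N20103 F168691) (tt N18948 F168692) (tt N21949 (iv F175111)) (tt N21955 (iv F175150)) (tt N18946 F168693) (tt N18962 F168694) (tt N20099 F168695) (tt N18945 (iv D36460)))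
theorem Q20535 : ∀ i, i < 20535 → P i := stepQ 20534 Q20534 (allL N20534 (tt N19900 F168696) (tt N20352 F168697) (tt N19000 F168698) (tt N21955 (iv F175149)) (tt N20406 F168699) (tt N18948 F168700) (tt N20534 F168701) (tt N18964 F168702) (tt N20398 (iv F168703)) (tt N18947 (iv D36461)))
theorem Q20536 : ∀ i, i < 20536 → P i := stepQ 20535 Q20535 (allL N20535 (tt N19906 F168704) (tt N20164 F168705) (tt N21877 (iv F174616)) (tt N18951 F168706) (tt N19001 F168707) (tt N21956 D37883) (tt N18949 (iv D36462)) (tt N21941 (iv F175058)) (tt N21957 D37884) (tt N20049 F168708))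
theorem Q20537 : ∀ i, i < 20537 → P i := stepQ 20536 Q20536 (allL N20536 (tt N19907 F168709) (tt N20134 F168710) (tt N20330 F168711) (tt N18952 F168712) (tt N19002 F168713) (tt N21958 D37885) (tt N21957 (iv F175164)) (tt N18950 F168714) (tt N18949 (iv D36463)) (tt N20033 F168715))
theorem Q20538 : ∀ i, i < 20538 → P i := stepQ 20537 Q20537 (allL N20537 (tt N19908 F168716) (tt N20136 F168717) (tt N20291 F168718) (tt N18953 F168719) (tt N20537 F168720) (tt N18950 (iv D36464)) (tt N21959 D37886) (tt N21958 (iv F175172)) (tt N19589 F168721) (tt N20034 F168722))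
theorem Q20539 : ∀ i, i < 20539 → P i := stepQ 20538 Q20538 (allL N20538 (tt N19909 F168723) (tt N20387 F168724) (tt N18955 F168725) (tt N21956 (iv F175156)) (tt N20357 F168726) (tt N18951 (iv D36465)) (tt N19591 F168727) (tt N21942 (iv F175065)) (tt N21960 D37887) (tt N20280 F168728))
theorem Q20540 : ∀ i, i < 20540 → P i := stepQ 20539 Q20539 (allL N20539 (tt N19910 F168729) (tt N20364 F168730) (tt N18956 F168731) (tt N21957 (iv F175162)) (tt N18954 F168732) (tt N21961 D37888) (tt N18952 F168733) (tt N21943 (iv F175073)) (tt N18951 (iv D36466)) (tt N20272 F168734))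
theorem Q20541 : ∀ i, i < 20541 → P i := stepQ 20540 Q20540 (allL N20540 (tt N19911 F168735) (tt N20366 F168736) (tt N18957 F168737) (tt N21958 (iv F175170)) (tt N18967 F168738) (tt N18952 (iv D36467)) (tt N21962 D37889) (tt N18953 F168739) (tt N19593 F168740) (tt N20273 F168741))
theorem Q20542 : ∀ i, i < 20542 → P i := stepQ 20541 Q20541 (allL N20541 (tt N19913 F168742) (tt N20368 F168743) (tt N18959 F168744) (tt N21959 (iv F175178)) (tt N18968 F168745) (tt N21945 (iv F175087)) (tt N18953 (iv D36468)) (tt N21963 D37890) (tt N19595 F168746) (tt N20274 F168747))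
theorem Q20543 : ∀ i, i < 20543 → P i := stepQ 20542 Q20542 (allL N20542 (tt N19915 F168748) (tt N20370 F168749) (tt N18961 F168750) (tt N19005 F168751) (tt N21964 D37891) (tt N18954 (iv D36469)) (tt N18969 F168752) (tt N21946 (iv F175095)) (tt N20360 F168753) (tt N20275 F168754))
theorem Q20544 : ∀ i, i < 20544 → P i := stepQ 20543 Q20543 (allL N20543 (tt N19917 F168755) (tt N21910 (iv F174851)) (tt N21960 (iv F175185)) (tt N21879 (iv F174631)) (tt N20362 F168756) (tt N21965 D37892) (tt N19598 F168757) (tt N21947 (iv F175102)) (tt N18955 (iv D36470)) (tt N21966 D37893))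
theorem Q20545 : ∀ i, i < 20545 → P i := stepQ 20544 Q20544 (allL N20544 (tt N19918 F168758) (tt N21911 (iv F174856)) (tt N21961 (iv F175190)) (tt N21880 (iv F174638)) (tt N21967 D37894) (tt N18956 (iv D36471)) (tt N21968 D37895) (tt N21948 (iv F175106)) (tt N21965 (iv F175211)) (tt N21969 D37896))
theorem Q20546 : ∀ i, i < 20546 → P i := stepQ 20545 Q20545 (allL N20545 (tt N19919 F168759) (tt N21912 (iv F174859)) (tt N20272 F168760) (tt N21881 (iv F174644)) (tt N18962 F168761) (tt N21969 (iv F175222)) (tt N18958 F168762) (tt N21949 (iv F175113)) (tt N20270 F168763) (tt N18956 (iv D36472)))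
theorem Q20547 : ∀ i, i < 20547 → P i := stepQ 20546 Q20546 (allL N20546 (tt N19920 F168764) (tt N21913 (iv F174867)) (tt N21962 (iv F175194)) (tt N21882 (iv F174652)) (tt N18973 F168765) (tt N21968 (iv F175219)) (tt N18957 (iv D36473)) (tt N21970 D37897) (tt N19601 F168766) (tt N21971 D37898))
theorem Q20548 : ∀ i, i < 20548 → P i := stepQ 20547 Q20547 (allL N20547 (tt N19921 F168767) (tt N21896 (iv F174751)) (tt N20273 F168768) (tt N21883 (iv F174658)) (tt N18974 F168769) (tt N18958 F168770) (tt N21971 (iv F175230)) (tt N18960 F168771) (tt N21892 (iv F174728)) (tt N18957 (iv D36474)))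
theorem Q20549 : ∀ i, i < 20549 → P i := stepQ 20548 Q20548 (allL N20548 (tt N19922 F168772) (tt N21914 (iv F174872)) (tt N21963 (iv F175200)) (tt N21884 (iv F174665)) (tt N18975 F168773) (tt N21952 (iv F175131)) (tt N21970 (iv F175225)) (tt N18959 (iv D36475)) (tt N19602 F168774) (tt N21972 D37899))
theorem Q20550 : ∀ i, i < 20550 → P i := stepQ 20549 Q20549 (allL N20549 (tt N19923 F168775) (tt N19539 F168776) (tt N20274 F168777) (tt N19993 F168778) (tt N18976 F168779) (tt N21953 (iv F175137)) (tt N18960 F168780) (tt N21972 (iv F175236)) (tt N19535 F168781) (tt N18959 (iv D36476)))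
theorem Q20551 : ∀ i, i < 20551 → P i := stepQ 20550 Q20550 (allL N20550 (tt N19924 F168782) (tt N21915 (iv F174879)) (tt N21964 (iv F175206)) (tt N21973 D37900) (tt N18961 (iv D36477)) (tt N21967 (iv F175217)) (tt N18977 F168783) (tt N21954 (iv F175144)) (tt N20369 F168784) (tt N21974 D37901))
theorem Q20552 : ∀ i, i < 20552 → P i := stepQ 20551 Q20551 (allL N20551 (tt N19925 F168785) (tt N21916 (iv F174883)) (tt N20275 F168786) (tt N18964 F168787) (tt N21974 (iv F175245)) (tt N18962 F168788) (tt N18978 F168789) (tt N21955 (iv F175152)) (tt N21909 (iv F174849)) (tt N18961 (iv D36478)))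
theorem Q20553 : ∀ i, i < 20553 → P i := stepQ 20552 Q20552 (allL N20552 (tt N19926 F168790) (tt N21890 (iv F174708)) (tt N21975 D37902) (tt N18963 (iv D36479)) (tt N21973 (iv F175239)) (tt N20395 F168791) (tt N18979 F168792) (tt N20404 F168793) (tt N20371 F168794) (tt N21976 D37903))
theorem Q20554 : ∀ i, i < 20554 → P i := stepQ 20553 Q20553 (allL N20553 (tt N19927 F168795) (tt N20397 F168796) (tt N19010 F168797) (tt N21976 (iv F175258)) (tt N18964 F168798) (tt N20396 F168799) (tt N18980 F168800) (tt N20406 F168801) (tt N20234 F168802) (tt N18963 (iv D36480)))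
theorem Q20555 : ∀ i, i < 20555 → P i := stepQ 20554 Q20554 (allL N20554 (tt N19928 F168803) (tt N20400 F168804) (tt N19011 F168805) (tt N21909 (iv F174846)) (tt N20234 F168806) (tt N20225 F168807) (tt N18981 F168808) (tt N20398 F168809) (tt N18964 (iv D36481)) (tt N20229 F168810))
theorem Q20556 : ∀ i, i < 20556 → P i := stepQ 20555 Q20555 (allL N20555 (tt N19712 F168811) (tt N19931 F168812) (tt N18970 F168813) (tt N20555 F168814) (tt N19709 F168815) (tt N21977 D37904) (tt N19611 F168816) (tt N20555 F168817) (tt N18965 (iv D36482)) (tt N19711 F168818))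
theorem Q20557 : ∀ i, i < 20557 → P i := stepQ 20556 Q20556 (allL N20556 (tt N19930 F168819) (tt N20420 F168820) (tt N18971 F168821) (tt N20556 F168822) (tt N21978 D37905) (tt N18966 (iv D36483)) (tt N21979 D37906) (tt N20556 F168823) (tt N21977 (iv F175268)) (tt N20410 F168824))
theorem Q20558 : ∀ i, i < 20558 → P i := stepQ 20557 Q20557 (allL N20557 (tt N19932 F168825) (tt N20422 F168826) (tt N18973 F168827) (tt N20557 F168828) (tt N21962 (iv F175195)) (tt N21979 (iv F175280)) (tt N18967 (iv D36484)) (tt N21980 D37907) (tt N19612 F168829) (tt N20411 F168830))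
theorem Q20559 : ∀ i, i < 20559 → P i := stepQ 20558 Q20558 (allL N20558 (tt N19934 F168831) (tt N20423 F168832) (tt N18975 F168833) (tt N20558 F168834) (tt N21963 (iv F175201)) (tt N20558 F168835) (tt N21980 (iv F175286)) (tt N18968 (iv D36485)) (tt N19613 F168836) (tt N20412 F168837))
theorem Q20560 : ∀ i, i < 20560 → P i := stepQ 20559 Q20559 (allL N20559 (tt N19936 F168838) (tt N20425 F168839) (tt N18977 F168840) (tt N21981 D37908) (tt N18969 (iv D36486)) (tt N21978 (iv F175273)) (tt N21964 (iv F175207)) (tt N20559 F168841) (tt N20415 F168842) (tt N20413 F168843))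
theorem Q20561 : ∀ i, i < 20561 → P i := stepQ 20560 Q20560 (allL N20560 (tt N19929 F168844) (tt N19726 F168845) (tt N21977 (iv F175265)) (tt N18982 F168846) (tt N21982 D37909) (tt N18970 (iv D36487)) (tt N21983 D37910) (tt N20560 F168847) (tt N18971 F168848) (tt N19715 F168849))
theorem Q20562 : ∀ i, i < 20562 → P i := stepQ 20561 Q20561 (allL N20561 (tt N19938 F168850) (tt N21918 (iv F174898)) (tt N21978 (iv F175272)) (tt N21984 D37911) (tt N18971 (iv D36488)) (tt N18977 F168851) (tt N21985 D37912) (tt N20561 F168852) (tt N21982 (iv F175299)) (tt N21986 D37913))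
theorem Q20563 : ∀ i, i < 20563 → P i := stepQ 20562 Q20562 (allL N20562 (tt N19939 F168853) (tt N21919 (iv F174905)) (tt N21979 (iv F175278)) (tt N18984 F168854) (tt N21985 (iv F175313)) (tt N18973 F168855) (tt N18971 (iv D36489)) (tt N21987 D37914) (tt N21983 (iv F175305)) (tt N21988 D37915))
theorem Q20564 : ∀ i, i < 20564 → P i := stepQ 20563 Q20563 (allL N20563 (tt N19940 F168856) (tt N19946 F168857) (tt N20410 F168858) (tt N18985 F168859) (tt N21986 (iv F175317)) (tt N18972 F168860) (tt N21988 (iv F175330)) (tt N20563 F168861) (tt N19858 F168862) (tt N18971 (iv D36490)))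
theorem Q20565 : ∀ i, i < 20565 → P i := stepQ 20564 Q20564 (allL N20564 (tt N19941 F168863) (tt N21920 (iv F174911)) (tt N21980 (iv F175284)) (tt N18986 F168864) (tt N21970 (iv F175224)) (tt N21987 (iv F175323)) (tt N18975 F168865) (tt N18973 (iv D36491)) (tt N19615 F168866) (tt N21989 D37916))
theorem Q20566 : ∀ i, i < 20566 → P i := stepQ 20565 Q20565 (allL N20565 (tt N19942 F168867) (tt N21897 (iv F174759)) (tt N20411 F168868) (tt N18987 F168869) (tt N21971 (iv F175229)) (tt N21988 (iv F175329)) (tt N18974 F168870) (tt N21989 (iv F175337)) (tt N21893 (iv F174736)) (tt N18973 (iv D36492)))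
theorem Q20567 : ∀ i, i < 20567 → P i := stepQ 20566 Q20566 (allL N20566 (tt N19943 F168871) (tt N19541 F168872) (tt N20412 F168873) (tt N18989 F168874) (tt N21972 (iv F175235)) (tt N20566 F168875) (tt N21989 (iv F175336)) (tt N18976 F168876) (tt N19536 F168877) (tt N18975 (iv D36493)))
theorem Q20568 : ∀ i, i < 20568 → P i := stepQ 20567 Q20567 (allL N20567 (tt N19944 F168878) (tt N21891 (iv F174716)) (tt N21990 D37917) (tt N18977 (iv D36494)) (tt N18979 F168879) (tt N21984 (iv F175310)) (tt N21973 (iv F175240)) (tt N20567 F168880) (tt N20424 F168881) (tt N21991 D37918))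
theorem Q20569 : ∀ i, i < 20569 → P i := stepQ 20568 Q20568 (allL N20568 (tt N19945 F168882) (tt N21921 (iv F174917)) (tt N20413 F168883) (tt N21991 (iv F175348)) (tt N18978 F168884) (tt N21986 (iv F175318)) (tt N21974 (iv F175246)) (tt N20568 F168885) (tt N21917 (iv F174895)) (tt N18977 (iv D36495)))
theorem Q20570 : ∀ i, i < 20570 → P i := stepQ 20569 Q20569 (allL N20569 (tt N19947 F168886) (tt N20188 F168887) (tt N18979 (iv D36496)) (tt N19014 F168888) (tt N21990 (iv F175341)) (tt N18993 F168889) (tt N21975 (iv F175251)) (tt N20569 F168890) (tt N20409 F168891) (tt N20183 (iv F168892)))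
theorem Q20571 : ∀ i, i < 20571 → P i := stepQ 20570 Q20570 (allL N20570 (tt N19948 F168893) (tt N20059 F168894) (tt N20183 F168895) (tt N18980 F168896) (tt N21991 (iv F175349)) (tt N18994 F168897) (tt N21976 (iv F175260)) (tt N20570 F168898) (tt N20254 F168899) (tt N18979 (iv D36497)))
theorem Q20572 : ∀ i, i < 20572 → P i := stepQ 20571 Q20571 (allL N20571 (tt N19949 F168900) (tt N19332 F168901) (tt N20571 F168902) (tt N21992 D37919) (tt N18982 (iv D36498)) (tt N20571 F168903) (tt N21993 D37920) (tt N20571 F168904) (tt N18983 F168905) (tt N19716 F168906))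
theorem Q20573 : ∀ i, i < 20573 → P i := stepQ 20572 Q20572 (allL N20572 (tt N19950 F168907) (tt N19576 F168908) (tt N20572 F168909) (tt N21983 (iv F175303)) (tt N21993 (iv F175361)) (tt N19442 F168910) (tt N18982 (iv D36499)) (tt N21994 D37921) (tt N18984 F168911) (tt N19441 F168912))
theorem Q20574 : ∀ i, i < 20574 → P i := stepQ 20573 Q20573 (allL N20573 (tt N19951 F168913) (tt N19331 F168914) (tt N21995 D37922) (tt N18983 (iv D36500)) (tt N21984 (iv F175309)) (tt N18990 F168915) (tt N21996 D37923) (tt N20573 F168916) (tt N21992 (iv F175356)) (tt N21997 D37924))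
theorem Q20575 : ∀ i, i < 20575 → P i := stepQ 20574 Q20574 (allL N20574 (tt N19952 F168917) (tt N19305 F168918) (tt N20574 F168919) (tt N21996 (iv F175379)) (tt N18984 F168920) (tt N19298 F168921) (tt N18983 (iv D36501)) (tt N21998 D37925) (tt N21993 (iv F175362)) (tt N21999 D37926))
theorem Q20576 : ∀ i, i < 20576 → P i := stepQ 20575 Q20575 (allL N20575 (tt N19953 F168922) (tt N19326 F168923) (tt N20575 F168924) (tt N21997 (iv F175384)) (tt N18985 F168925) (tt N18991 F168926) (tt N21999 (iv F175399)) (tt N20575 F168927) (tt N19860 F168928) (tt N18983 (iv D36502)))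
theorem Q20577 : ∀ i, i < 20577 → P i := stepQ 20576 Q20576 (allL N20576 (tt N19954 F168929) (tt N21922 (iv F174925)) (tt N20576 F168930) (tt N21987 (iv F175322)) (tt N21998 (iv F175391)) (tt N18986 F168931) (tt N20576 F168932) (tt N18984 (iv D36503)) (tt N21994 (iv F175369)) (tt N22000 D37927))
theorem Q20578 : ∀ i, i < 20578 → P i := stepQ 20577 Q20577 (allL N20577 (tt N19955 F168933) (tt N19928 F168934) (tt N20577 F168935) (tt N21988 (iv F175328)) (tt N21999 (iv F175397)) (tt N18987 F168936) (tt N18985 F168937) (tt N22000 (iv F175406)) (tt N19856 F168938) (tt N18984 (iv D36504)))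
theorem Q20579 : ∀ i, i < 20579 → P i := stepQ 20578 Q20578 (allL N20578 (tt N19956 F168939) (tt N19651 F168940) (tt N20578 F168941) (tt N21989 (iv F175335)) (tt N20443 F168942) (tt N22000 (iv F175404)) (tt N18989 F168943) (tt N18987 F168944) (tt N19648 F168945) (tt N18986 (iv D36505)))
theorem Q20580 : ∀ i, i < 20580 → P i := stepQ 20579 Q20579 (allL N20579 (tt N19679 F168946) (tt N19559 F168947) (tt N20579 F168948) (tt N21893 (iv F174733)) (tt N21889 (iv F174703)) (tt N19428 F168949) (tt N18988 F168950) (tt N19648 F168951) (tt N18987 (iv D36506)) (tt N19427 F168952))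
theorem Q20581 : ∀ i, i < 20581 → P i := stepQ 20580 Q20580 (allL N20580 (tt N19957 F168953) (tt N19703 F168954) (tt N18990 (iv D36507)) (tt N20580 F168955) (tt N18993 F168956) (tt N21995 (iv F175374)) (tt N19330 F168957) (tt N20580 F168958) (tt N20580 F168959) (tt N20181 (iv F168960)))
theorem Q20582 : ∀ i, i < 20582 → P i := stepQ 20581 Q20581 (allL N20581 (tt N19958 F168961) (tt N19325 F168962) (tt N20181 F168963) (tt N18991 F168964) (tt N18994 F168965) (tt N21997 (iv F175385)) (tt N19323 F168966) (tt N20581 F168967) (tt N20058 (iv F168968)) (tt N18990 (iv D36508)))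
theorem Q20583 : ∀ i, i < 20583 → P i := stepQ 20582 Q20582 (allL N20582 (tt N19959 F168969) (tt N19327 F168970) (tt N20582 F168971) (tt N20058 F168972) (tt N18992 F168973) (tt N19866 F168974) (tt N19324 F168975) (tt N20582 F168976) (tt N18991 (iv D36509)) (tt N20582 F168977))
theorem Q20584 : ∀ i, i < 20584 → P i := stepQ 20583 Q20583 (allL N20583 (tt N19967 F168978) (tt N20095 F168979) (tt N20354 F168980) (tt N18996 F168981) (tt N21941 (iv F175057)) (tt N22001 D37928) (tt N18995 (iv D36510)) (tt N19001 F168982) (tt N20117 F168983) (tt N20007 F168984))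
theorem Q20585 : ∀ i, i < 20585 → P i := stepQ 20584 Q20584 (allL N20584 (tt N19968 F168985) (tt N20097 F168986) (tt N18998 F168987) (tt N22001 (iv F175411)) (tt N20391 F168988) (tt N18996 (iv D36511)) (tt N20584 F168989) (tt N19003 F168990) (tt N22002 D37929) (tt N20008 F168991))
theorem Q20586 : ∀ i, i < 20586 → P i := stepQ 20585 Q20585 (allL N20585 (tt N19969 F168992) (tt N20329 F168993) (tt N18999 F168994) (tt N21946 (iv F175093)) (tt N22003 D37930) (tt N18997 (iv D36512)) (tt N20585 F168995) (tt N19005 F168996) (tt N20392 F168997) (tt N20104 F168998))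
theorem Q20587 : ∀ i, i < 20587 → P i := stepQ 20586 Q20586 (allL N20586 (tt N19970 F168999) (tt N20445 F169000) (tt N22002 (iv F175417)) (tt N20223 F169001) (tt N20251 F169002) (tt N20230 F169003) (tt N20586 F169004) (tt N19006 F169005) (tt N18998 (iv D36513)) (tt N20239 F169006))
theorem Q20588 : ∀ i, i < 20588 → P i := stepQ 20587 Q20587 (allL N20587 (tt N19971 F169007) (tt N20449 F169008) (tt N22003 (iv F175425)) (tt N20239 F169009) (tt N18999 (iv D36514)) (tt N20231 F169010) (tt N20587 F169011) (tt N19008 F169012) (tt N20237 F169013) (tt N20223 F169014))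
theorem Q20589 : ∀ i, i < 20589 → P i := stepQ 20588 Q20588 (allL N20588 (tt N19975 F169015) (tt N20168 F169016) (tt N21890 (iv F174709)) (tt N19003 F169017) (tt N22004 D37931) (tt N19001 (iv D36515)) (tt N19015 F169018) (tt N22001 (iv F175413)) (tt N22005 D37932) (tt N20050 F169019))
theorem Q20590 : ∀ i, i < 20590 → P i := stepQ 20589 Q20589 (allL N20589 (tt N19976 F169020) (tt N20138 F169021) (tt N20345 F169022) (tt N19004 F169023) (tt N21957 (iv F175163)) (tt N22006 D37933) (tt N19002 F169024) (tt N20117 F169025) (tt N19001 (iv D36516)) (tt N20035 F169026))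
theorem Q20591 : ∀ i, i < 20591 → P i := stepQ 20590 Q20590 (allL N20590 (tt N19977 F169027) (tt N20171 F169028) (tt N19006 F169029) (tt N22005 (iv F175439)) (tt N20245 F169030) (tt N22007 D37934) (tt N19016 F169031) (tt N22002 (iv F175421)) (tt N19003 (iv D36517)) (tt N22008 D37935))
theorem Q20592 : ∀ i, i < 20592 → P i := stepQ 20591 Q20591 (allL N20591 (tt N19978 F169032) (tt N20140 F169033) (tt N19007 F169034) (tt N22006 (iv F175444)) (tt N22009 D37936) (tt N19004 (iv D36518)) (tt N20591 F169035) (tt N20119 F169036) (tt N22007 (iv F175454)) (tt N20036 F169037))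
theorem Q20593 : ∀ i, i < 20593 → P i := stepQ 20592 Q20592 (allL N20592 (tt N19979 F169038) (tt N20248 F169039) (tt N19008 F169040) (tt N22010 D37937) (tt N19005 (iv D36519)) (tt N22009 (iv F175467)) (tt N19012 F169041) (tt N22003 (iv F175428)) (tt N20244 F169042) (tt N20276 F169043))
theorem Q20594 : ∀ i, i < 20594 → P i := stepQ 20593 Q20593 (allL N20593 (tt N19981 F169044) (tt N20447 F169045) (tt N22007 (iv F175450)) (tt N20204 F169046) (tt N20221 F169047) (tt N19006 (iv D36520)) (tt N20593 F169048) (tt N20230 F169049) (tt N19007 F169050) (tt N20220 (iv F169051)))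
theorem Q20595 : ∀ i, i < 20595 → P i := stepQ 20594 Q20594 (allL N20594 (tt N19982 F169052) (tt N20446 F169053) (tt N22008 (iv F175458)) (tt N19008 F169054) (tt N19009 F169055) (tt N20220 F169056) (tt N19013 F169057) (tt N20239 F169058) (tt N20210 F169059) (tt N19006 (iv D36521)))
theorem Q20596 : ∀ i, i < 20596 → P i := stepQ 20595 Q20595 (allL N20595 (tt N19983 F169060) (tt N20448 F169061) (tt N22009 (iv F175466)) (tt N20220 F169062) (tt N19007 (iv D36522)) (tt N19008 F169063) (tt N20595 F169064) (tt N20231 F169065) (tt N20221 F169066) (tt N20204 F169067))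
theorem Q20597 : ∀ i, i < 20597 → P i := stepQ 20596 Q20596 (allL N20596 (tt N19984 F169068) (tt N20250 F169069) (tt N19009 (iv D36523)) (tt N21975 (iv F175249)) (tt N22008 (iv F175459)) (tt N20216 F169070) (tt N19014 F169071) (tt N20249 F169072) (tt N20401 F169073) (tt N20245 F169074))
theorem Q20598 : ∀ i, i < 20598 → P i := stepQ 20597 Q20597 (allL N20597 (tt N19985 F169075) (tt N20257 F169076) (tt N22011 D37938) (tt N19012 (iv D36524)) (tt N21981 (iv F175291)) (tt N20597 F169077) (tt N22010 (iv F175474)) (tt N20597 F169078) (tt N20255 F169079) (tt N20414 F169080))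
theorem Q20599 : ∀ i, i < 20599 → P i := stepQ 20598 Q20598 (allL N20598 (tt N19986 F169081) (tt N20180 F169082) (tt N19013 (iv D36525)) (tt N22011 (iv F175479)) (tt N19014 F169083) (tt N20598 F169084) (tt N22008 (iv F175461)) (tt N20598 F169085) (tt N20057 F169086) (tt N19016 F169087))
theorem Q20600 : ∀ i, i < 20600 → P i := stepQ 20599 Q20599 (allL N20599 (tt N19991 F169088) (tt N20194 F169089) (tt N21891 (iv F174717)) (tt N20407 F169090) (tt N19015 (iv D36526)) (tt N19706 F169091) (tt N22004 (iv F175434)) (tt N20599 F169092) (tt N22012 D37939) (tt N20060 F169093))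
theorem Q20601 : ∀ i, i < 20601 → P i := stepQ 20600 Q20600 (allL N20600 (tt N19992 F169094) (tt N20195 F169095) (tt N20414 F169096) (tt N19016 F169097) (tt N22012 (iv F175488)) (tt N20600 F169098) (tt N22005 (iv F175440)) (tt N20600 F169099) (tt N19015 (iv D36527)) (tt N22011 (iv F175483)))
theorem Q20602 : ∀ i, i < 20602 → P i := stepQ 20601 Q20601 (allL N20601 (tt N19400 F169100) (tt N19021 F169101) (tt N19993 F169102) (tt N20288 (iv F169107)) (tt N19019 (iv D36528)) (tt N19339 F169103) (tt N20281 F169104) (tt N22013 D37940) (tt N20018 F169105) (tt N19867 F169106))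
theorem Q20603 : ∀ i, i < 20603 → P i := stepQ 20602 Q20602 (allL N20602 (tt N19746 F169108) (tt N19022 F169109) (tt N19994 F169110) (tt N20602 F169111) (tt N22013 (iv F175494)) (tt N19020 F169112) (tt N22014 D37941) (tt N19019 (iv D36529)) (tt N20053 F169113) (tt N19868 F169114))
theorem Q20604 : ∀ i, i < 20604 → P i := stepQ 20603 Q20603 (allL N20603 (tt N19040 F169115) (tt N20288 F169116) (tt N19368 F169117) (tt N19021 (iv D36530)) (tt N20603 F169118) (tt N19131 F169119) (tt N20283 F169120) (tt N22015 D37942) (tt N20102 F169121) (tt N19869 F169122))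
theorem Q20605 : ∀ i, i < 20605 → P i := stepQ 20604 Q20604 (allL N20604 (tt N19041 F169123) (tt N22013 (iv F175491)) (tt N19023 F169124) (tt N22015 (iv F175509)) (tt N19022 F169125) (tt N19491 F169126) (tt N22016 D37943) (tt N19021 (iv D36531)) (tt N20113 F169127) (tt N19870 F169128))
theorem Q20606 : ∀ i, i < 20606 → P i := stepQ 20605 Q20605 (allL N20605 (tt N19043 F169129) (tt N22014 (iv F175499)) (tt N19025 F169130) (tt N20605 F169131) (tt N22016 (iv F175516)) (tt N19480 F169132) (tt N19022 (iv D36532)) (tt N20285 F169133) (tt N20174 F169134) (tt N19872 F169135))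
theorem Q20607 : ∀ i, i < 20607 → P i := stepQ 20606 Q20606 (allL N20606 (tt N19046 F169136) (tt N19997 F169137) (tt N22016 (iv F175515)) (tt N19373 F169138) (tt N19025 F169139) (tt N22017 D37944) (tt N19023 (iv D36533)) (tt N20286 F169140) (tt N22018 D37945) (tt N19875 F169141))
theorem Q20608 : ∀ i, i < 20608 → P i := stepQ 20607 Q20607 (allL N20607 (tt N19047 F169142) (tt N19550 F169143) (tt N20113 F169144) (tt N19374 F169145) (tt N19026 F169146) (tt N20109 F169147) (tt N22018 (iv F175532)) (tt N19024 F169148) (tt N19023 (iv D36534)) (tt N19902 (iv F169149)))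
theorem Q20609 : ∀ i, i < 20609 → P i := stepQ 20608 Q20608 (allL N20608 (tt N19050 F169150) (tt N19656 F169151) (tt N20174 F169152) (tt N19027 F169153) (tt N22018 (iv F175531)) (tt N22019 D37946) (tt N19026 F169154) (tt N20289 F169155) (tt N19025 (iv D36535)) (tt N19973 (iv F169156)))
theorem Q20610 : ∀ i, i < 20610 → P i := stepQ 20609 Q20609 (allL N20609 (tt N19052 F169157) (tt N19657 F169158) (tt N20609 F169159) (tt N22019 (iv F175538)) (tt N19676 F169160) (tt N19027 (iv D36536)) (tt N19029 F169161) (tt N20290 F169162) (tt N19489 F169163) (tt N19974 F169164))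
theorem Q20611 : ∀ i, i < 20611 → P i := stepQ 20610 Q20610 (allL N20610 (tt N19059 F169165) (tt N19698 F169166) (tt N20173 F169167) (tt N19029 F169168) (tt N22020 D37947) (tt N19028 (iv D36537)) (tt N22019 (iv F175539)) (tt N20610 F169169) (tt N19760 F169170) (tt N19989 F169171))
theorem Q20612 : ∀ i, i < 20612 → P i := stepQ 20611 Q20611 (allL N20611 (tt N20283 F169172) (tt N20092 F169173) (tt N19392 F169174) (tt N19030 (iv D36538)) (tt N20611 F169175) (tt N19496 F169176) (tt N19040 F169177) (tt N22021 D37948) (tt N22022 D37949) (tt N19477 F169178))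
theorem Q20613 : ∀ i, i < 20613 → P i := stepQ 20612 Q20612 (allL N20612 (tt N20284 F169179) (tt N20343 F169180) (tt N19033 F169181) (tt N22021 (iv F175554)) (tt N19031 F169182) (tt N19497 F169183) (tt N22023 D37950) (tt N19030 (iv D36539)) (tt N22024 D37951) (tt N19478 F169184))
theorem Q20614 : ∀ i, i < 20614 → P i := stepQ 20613 Q20613 (allL N20613 (tt N20115 F169185) (tt N20305 F169186) (tt N19034 F169187) (tt N22022 (iv F175561)) (tt N19032 F169188) (tt N22025 D37952) (tt N19042 F169189) (tt N22024 (iv F175576)) (tt N19030 (iv D36540)) (tt N22026 D37953))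
theorem Q20615 : ∀ i, i < 20615 → P i := stepQ 20614 Q20614 (allL N20614 (tt N20285 F169190) (tt N20440 F169191) (tt N19035 F169192) (tt N20614 F169193) (tt N22023 (iv F175569)) (tt N19872 F169194) (tt N19031 (iv D36541)) (tt N19043 F169195) (tt N22027 D37954) (tt N19480 F169196))
theorem Q20616 : ∀ i, i < 20616 → P i := stepQ 20615 Q20615 (allL N20615 (tt N20175 F169197) (tt N20432 F169198) (tt N19036 F169199) (tt N20615 F169200) (tt N22024 (iv F175575)) (tt N20615 F169201) (tt N22027 (iv F175597)) (tt N19032 F169202) (tt N19031 (iv D36542)) (tt N22028 D37955))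
theorem Q20617 : ∀ i, i < 20617 → P i := stepQ 20616 Q20616 (allL N20616 (tt N19963 F169203) (tt N20433 F169204) (tt N19037 F169205) (tt N20616 F169206) (tt N22026 (iv F175589)) (tt N20616 F169207) (tt N19045 F169208) (tt N22028 (iv F175604)) (tt N19482 F169209) (tt N19032 (iv D36543)))
theorem Q20618 : ∀ i, i < 20618 → P i := stepQ 20617 Q20617 (allL N20617 (tt N20286 F169210) (tt N19110 F169211) (tt N22023 (iv F175568)) (tt N19398 F169212) (tt N19035 F169213) (tt N22029 D37956) (tt N19033 (iv D36544)) (tt N19046 F169214) (tt N22030 D37957) (tt N19483 F169215))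
theorem Q20619 : ∀ i, i < 20619 → P i := stepQ 20618 Q20618 (allL N20618 (tt N20287 F169216) (tt N19111 F169217) (tt N22024 (iv F175574)) (tt N19399 F169218) (tt N19036 F169219) (tt N22031 D37958) (tt N22030 (iv F175617)) (tt N19034 F169220) (tt N19033 (iv D36545)) (tt N22032 D37959))
theorem Q20620 : ∀ i, i < 20620 → P i := stepQ 20619 Q20619 (allL N20619 (tt N20288 F169221) (tt N19112 F169222) (tt N22025 (iv F175579)) (tt N19400 F169223) (tt N20619 F169224) (tt N19034 (iv D36546)) (tt N22033 D37960) (tt N22031 (iv F175623)) (tt N19504 F169225) (tt N22034 D37961))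
theorem Q20621 : ∀ i, i < 20621 → P i := stepQ 20620 Q20620 (allL N20620 (tt N19883 F169226) (tt N19113 F169227) (tt N22026 (iv F175587)) (tt N19401 F169228) (tt N19037 F169229) (tt N22034 (iv F175644)) (tt N19049 F169230) (tt N22032 (iv F175629)) (tt N19486 F169231) (tt N19034 (iv D36547)))
theorem Q20622 : ∀ i, i < 20622 → P i := stepQ 20621 Q20621 (allL N20621 (tt N20289 F169232) (tt N19114 F169233) (tt N22027 (iv F175595)) (tt N19038 F169234) (tt N22030 (iv F175616)) (tt N22035 D37962) (tt N19036 F169235) (tt N19050 F169236) (tt N19035 (iv D36548)) (tt N22036 D37963))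
theorem Q20623 : ∀ i, i < 20623 → P i := stepQ 20622 Q20622 (allL N20622 (tt N19964 F169237) (tt N19115 F169238) (tt N22028 (iv F175601)) (tt N19039 F169239) (tt N22032 (iv F175628)) (tt N20622 F169240) (tt N22036 (iv F175656)) (tt N19037 F169241) (tt N19488 F169242) (tt N19036 (iv D36549)))
theorem Q20624 : ∀ i, i < 20624 → P i := stepQ 20623 Q20623 (allL N20623 (tt N20290 F169243) (tt N19116 F169244) (tt N20623 F169245) (tt N22035 (iv F175649)) (tt N22037 D37964) (tt N19038 (iv D36550)) (tt N20623 F169246) (tt N19052 F169247) (tt N19881 F169248) (tt N22038 D37965))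
theorem Q20625 : ∀ i, i < 20625 → P i := stepQ 20624 Q20624 (allL N20624 (tt N19965 F169249) (tt N19117 F169250) (tt N20624 F169251) (tt N22036 (iv F175655)) (tt N19405 F169252) (tt N22038 (iv F175671)) (tt N19039 F169253) (tt N19053 F169254) (tt N19490 F169255) (tt N19038 (iv D36551)))
theorem Q20626 : ∀ i, i < 20626 → P i := stepQ 20625 Q20625 (allL N20625 (tt N22015 (iv F175506)) (tt N20090 F169256) (tt N19450 F169257) (tt N19041 F169258) (tt N20625 F169259) (tt N20006 F169260) (tt N22039 D37966) (tt N19040 (iv D36552)) (tt N22040 D37967) (tt N21923 (iv F174938)))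
theorem Q20627 : ∀ i, i < 20627 → P i := stepQ 20626 Q20626 (allL N20626 (tt N20102 F169261) (tt N20070 F169262) (tt N19451 F169263) (tt N19042 F169264) (tt N20626 F169265) (tt N19123 F169266) (tt N22022 (iv F175563)) (tt N22040 (iv F175684)) (tt N19040 (iv D36553)) (tt N19891 (iv F169267)))
theorem Q20628 : ∀ i, i < 20628 → P i := stepQ 20627 Q20627 (allL N20627 (tt N22016 (iv F175514)) (tt N20341 F169268) (tt N19046 F169269) (tt N22039 (iv F175676)) (tt N19043 F169270) (tt N22041 D37968) (tt N19041 (iv D36554)) (tt N22023 (iv F175570)) (tt N22042 D37969) (tt N21925 (iv F174952)))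
theorem Q20629 : ∀ i, i < 20629 → P i := stepQ 20628 Q20628 (allL N20628 (tt N20113 F169271) (tt N20303 F169272) (tt N19047 F169273) (tt N22040 (iv F175681)) (tt N19044 F169274) (tt N19138 F169275) (tt N22042 (iv F175694)) (tt N19042 F169276) (tt N19041 (iv D36555)) (tt N22043 D37970))
theorem Q20630 : ∀ i, i < 20630 → P i := stepQ 20629 Q20629 (allL N20629 (tt N19901 F169277) (tt N20306 F169278) (tt N19049 F169279) (tt N19891 F169280) (tt N19045 F169281) (tt N19139 F169282) (tt N22026 (iv F175591)) (tt N22043 (iv F175701)) (tt N21928 (iv F174973)) (tt N19042 (iv D36556)))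
theorem Q20631 : ∀ i, i < 20631 → P i := stepQ 20630 Q20630 (allL N20630 (tt N20174 F169283) (tt N20430 F169284) (tt N19050 F169285) (tt N20630 F169286) (tt N22042 (iv F175693)) (tt N22044 D37971) (tt N19044 F169287) (tt N22027 (iv F175598)) (tt N19043 (iv D36557)) (tt N22045 D37972))
theorem Q20632 : ∀ i, i < 20632 → P i := stepQ 20631 Q20631 (allL N20631 (tt N19972 F169288) (tt N20431 F169289) (tt N19051 F169290) (tt N20631 F169291) (tt N22043 (iv F175699)) (tt N19055 F169292) (tt N22045 (iv F175712)) (tt N19045 F169293) (tt N21930 (iv F174986)) (tt N19044 (iv D36558)))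
theorem Q20633 : ∀ i, i < 20633 → P i := stepQ 20632 Q20632 (allL N20632 (tt N22017 (iv F175520)) (tt N19180 F169294) (tt N22041 (iv F175687)) (tt N19458 F169295) (tt N20301 F169296) (tt N19046 (iv D36559)) (tt N20311 F169297) (tt N22029 (iv F175611)) (tt N22046 D37973) (tt N21931 (iv F174993)))
theorem Q20634 : ∀ i, i < 20634 → P i := stepQ 20633 Q20633 (allL N20633 (tt N22018 (iv F175527)) (tt N19181 F169298) (tt N22042 (iv F175692)) (tt N19459 F169299) (tt N19050 F169300) (tt N22047 D37974) (tt N19047 F169301) (tt N22030 (iv F175618)) (tt N19046 (iv D36560)) (tt N22048 D37975))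
theorem Q20635 : ∀ i, i < 20635 → P i := stepQ 20634 Q20634 (allL N20634 (tt N20109 F169302) (tt N19182 F169303) (tt N19138 F169304) (tt N19460 F169305) (tt N19057 F169306) (tt N19047 (iv D36561)) (tt N22049 D37976) (tt N19048 F169307) (tt N19135 F169308) (tt N19616 (iv F169309)))
theorem Q20636 : ∀ i, i < 20636 → P i := stepQ 20635 Q20635 (allL N20635 (tt N19902 F169310) (tt N19183 F169311) (tt N22043 (iv F175697)) (tt N19461 F169312) (tt N19051 F169313) (tt N19616 F169314) (tt N22048 (iv F175723)) (tt N19049 F169315) (tt N21934 (iv F175011)) (tt N19047 (iv D36562)))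
theorem Q20637 : ∀ i, i < 20637 → P i := stepQ 20636 Q20636 (allL N20636 (tt N20029 F169316) (tt N19184 F169317) (tt N19082 F169318) (tt N19462 F169319) (tt N19058 F169320) (tt N22033 (iv F175636)) (tt N19048 (iv D36563)) (tt N22050 D37977) (tt N19079 F169321) (tt N19771 F169322))
theorem Q20638 : ∀ i, i < 20638 → P i := stepQ 20637 Q20637 (allL N20637 (tt N22019 (iv F175535)) (tt N19186 F169323) (tt N22044 (iv F175704)) (tt N19052 F169324) (tt N22051 D37978) (tt N19050 (iv D36564)) (tt N19059 F169325) (tt N22035 (iv F175651)) (tt N20307 F169326) (tt N22052 D37979))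
theorem Q20639 : ∀ i, i < 20639 → P i := stepQ 20638 Q20638 (allL N20638 (tt N19973 F169327) (tt N19187 F169328) (tt N22045 (iv F175710)) (tt N19053 F169329) (tt N22048 (iv F175722)) (tt N22052 (iv F175744)) (tt N19051 F169330) (tt N22036 (iv F175657)) (tt N21938 (iv F175039)) (tt N19050 (iv D36565)))
theorem Q20640 : ∀ i, i < 20640 → P i := stepQ 20639 Q20639 (allL N20639 (tt N19676 F169331) (tt N19188 F169332) (tt N20639 F169333) (tt N22053 D37980) (tt N19052 (iv D36566)) (tt N19219 F169334) (tt N19061 F169335) (tt N22037 (iv F175664)) (tt N20309 F169336) (tt N19217 (iv F169337)))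
theorem Q20641 : ∀ i, i < 20641 → P i := stepQ 20640 Q20640 (allL N20640 (tt N19974 F169338) (tt N19189 F169339) (tt N20640 F169340) (tt N22052 (iv F175743)) (tt N19217 F169341) (tt N19053 F169342) (tt N19062 F169343) (tt N22038 (iv F175673)) (tt N22054 D37981) (tt N19052 (iv D36567)))
theorem Q20642 : ∀ i, i < 20642 → P i := stepQ 20641 Q20641 (allL N20641 (tt N20173 F169344) (tt N20428 F169345) (tt N19059 F169346) (tt N20641 F169347) (tt N22055 D37982) (tt N19054 (iv D36568)) (tt N22044 (iv F175706)) (tt N20641 F169348) (tt N20426 F169349) (tt N22056 D37983))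
theorem Q20643 : ∀ i, i < 20643 → P i := stepQ 20642 Q20642 (allL N20642 (tt N19988 F169350) (tt N20429 F169351) (tt N19060 F169352) (tt N20642 F169353) (tt N19191 F169354) (tt N22056 (iv F175768)) (tt N19055 F169355) (tt N20642 F169356) (tt N20642 F169357) (tt N19054 (iv D36569)))
theorem Q20644 : ∀ i, i < 20644 → P i := stepQ 20643 Q20643 (allL N20643 (tt N20172 F169358) (tt N19205 F169359) (tt N19190 F169360) (tt N19063 F169361) (tt N22057 D37984) (tt N19056 (iv D36570)) (tt N22058 D37985) (tt N20643 F169362) (tt N19203 F169363) (tt N19213 F169364))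
theorem Q20645 : ∀ i, i < 20645 → P i := stepQ 20644 Q20644 (allL N20644 (tt N20110 F169365) (tt N19206 F169366) (tt N19140 F169367) (tt N19064 F169368) (tt N22049 (iv F175728)) (tt N22058 (iv F175782)) (tt N19057 (iv D36571)) (tt N22059 D37986) (tt N19136 F169369) (tt N19604 F169370))
theorem Q20646 : ∀ i, i < 20646 → P i := stepQ 20645 Q20645 (allL N20645 (tt N20031 F169371) (tt N19208 F169372) (tt N19084 F169373) (tt N19065 F169374) (tt N22050 (iv F175735)) (tt N20645 F169375) (tt N22059 (iv F175789)) (tt N19058 (iv D36572)) (tt N19080 F169376) (tt N19769 F169377))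
theorem Q20647 : ∀ i, i < 20647 → P i := stepQ 20646 Q20646 (allL N20646 (tt N22020 (iv F175543)) (tt N19211 F169378) (tt N22055 (iv F175760)) (tt N22060 D37987) (tt N19059 (iv D36573)) (tt N22057 (iv F175774)) (tt N22051 (iv F175739)) (tt N20646 F169379) (tt N20435 F169380) (tt N22061 D37988))
theorem Q20648 : ∀ i, i < 20648 → P i := stepQ 20647 Q20647 (allL N20647 (tt N19989 F169381) (tt N19212 F169382) (tt N22056 (iv F175766)) (tt N19062 F169383) (tt N22061 (iv F175802)) (tt N19060 F169384) (tt N22052 (iv F175745)) (tt N20647 F169385) (tt N22062 D37989) (tt N19059 (iv D36574)))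
theorem Q20649 : ∀ i, i < 20649 → P i := stepQ 20648 Q20648 (allL N20648 (tt N19704 F169386) (tt N19213 F169387) (tt N22063 D37990) (tt N19061 (iv D36575)) (tt N22060 (iv F175794)) (tt N19066 F169388) (tt N22053 (iv F175749)) (tt N20648 F169389) (tt N20437 F169390) (tt N19205 F169391))
theorem Q20650 : ∀ i, i < 20650 → P i := stepQ 20649 Q20649 (allL N20649 (tt N19990 F169392) (tt N19214 F169393) (tt N20649 F169394) (tt N22062 (iv F175807)) (tt N19215 F169395) (tt N20649 F169396) (tt N22054 (iv F175756)) (tt N20649 F169397) (tt N19062 (iv D36576)) (tt N20439 F169398))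
theorem Q20651 : ∀ i, i < 20651 → P i := stepQ 20650 Q20650 (allL N20650 (tt N20170 F169399) (tt N19217 F169400) (tt N19271 F169401) (tt N22058 (iv F175781)) (tt N19189 F169402) (tt N19064 F169403) (tt N19063 (iv D36577)) (tt N22064 D37991) (tt N19308 F169404) (tt N19188 F169405))
theorem Q20652 : ∀ i, i < 20652 → P i := stepQ 20651 Q20651 (allL N20651 (tt N20201 F169406) (tt N19218 F169407) (tt N19225 F169408) (tt N22059 (iv F175788)) (tt N19471 F169409) (tt N22064 (iv F175822)) (tt N19065 F169410) (tt N19064 (iv D36578)) (tt N19223 F169411) (tt N19533 F169412))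
theorem Q20653 : ∀ i, i < 20653 → P i := stepQ 20652 Q20652 (allL N20652 (tt N19703 F169413) (tt N20427 F169414) (tt N19066 (iv D36579)) (tt N20652 F169415) (tt N19204 F169416) (tt N22063 (iv F175814)) (tt N19200 F169417) (tt N20652 F169418) (tt N20652 F169419) (tt N19198 F169420))
theorem Q20654 : ∀ i, i < 20654 → P i := stepQ 20653 Q20653 (allL N20653 (tt N20063 F169421) (tt N20378 F169422) (tt N19477 F169423) (tt N19067 (iv D36580)) (tt N20653 F169424) (tt N19104 F169425) (tt N19429 F169426) (tt N22065 D37992) (tt N22066 D37993) (tt N19392 F169427))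
theorem Q20655 : ∀ i, i < 20655 → P i := stepQ 20654 Q20654 (allL N20654 (tt N20064 F169428) (tt N20383 F169429) (tt N19070 F169430) (tt N22065 (iv F175829)) (tt N19068 F169431) (tt N19105 F169432) (tt N22067 D37994) (tt N19067 (iv D36581)) (tt N22068 D37995) (tt N19393 F169433))
theorem Q20656 : ∀ i, i < 20656 → P i := stepQ 20655 Q20655 (allL N20655 (tt N20065 F169434) (tt N19913 F169435) (tt N19071 F169436) (tt N22066 (iv F175836)) (tt N19069 F169437) (tt N22069 D37996) (tt N19431 F169438) (tt N22068 (iv F175851)) (tt N19067 (iv D36582)) (tt N22070 D37997))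
theorem Q20657 : ∀ i, i < 20657 → P i := stepQ 20656 Q20656 (allL N20656 (tt N20066 F169439) (tt N20389 F169440) (tt N19072 F169441) (tt N20656 F169442) (tt N22067 (iv F175844)) (tt N19837 F169443) (tt N19068 (iv D36583)) (tt N19432 F169444) (tt N22071 D37998) (tt N19395 F169445))
theorem Q20658 : ∀ i, i < 20658 → P i := stepQ 20657 Q20657 (allL N20657 (tt N20067 F169446) (tt N19934 F169447) (tt N19073 F169448) (tt N20657 F169449) (tt N22068 (iv F175850)) (tt N20657 F169450) (tt N22071 (iv F175872)) (tt N19069 F169451) (tt N19068 (iv D36584)) (tt N22072 D37999))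
theorem Q20659 : ∀ i, i < 20659 → P i := stepQ 20658 Q20658 (allL N20658 (tt N19714 F169452) (tt N19935 F169453) (tt N19074 F169454) (tt N20658 F169455) (tt N22070 (iv F175864)) (tt N20658 F169456) (tt N19434 F169457) (tt N22072 (iv F175879)) (tt N19397 F169458) (tt N19069 (iv D36585)))
theorem Q20660 : ∀ i, i < 20660 → P i := stepQ 20659 Q20659 (allL N20659 (tt N20068 F169459) (tt N19502 F169460) (tt N22067 (iv F175843)) (tt N19483 F169461) (tt N19072 F169462) (tt N22073 D38000) (tt N19070 (iv D36586)) (tt N19435 F169463) (tt N22074 D38001) (tt N19398 F169464))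
theorem Q20661 : ∀ i, i < 20661 → P i := stepQ 20660 Q20660 (allL N20660 (tt N20069 F169465) (tt N19503 F169466) (tt N22068 (iv F175849)) (tt N19484 F169467) (tt N19073 F169468) (tt N22075 D38002) (tt N22074 (iv F175892)) (tt N19071 F169469) (tt N19070 (iv D36587)) (tt N22076 D38003))
theorem Q20662 : ∀ i, i < 20662 → P i := stepQ 20661 Q20661 (allL N20661 (tt N20070 F169470) (tt N19504 F169471) (tt N22069 (iv F175854)) (tt N19485 F169472) (tt N20661 F169473) (tt N19071 (iv D36588)) (tt N22077 D38004) (tt N22075 (iv F175898)) (tt N19112 F169474) (tt N22078 D38005))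
theorem Q20663 : ∀ i, i < 20663 → P i := stepQ 20662 Q20662 (allL N20662 (tt N19885 F169475) (tt N19505 F169476) (tt N22070 (iv F175862)) (tt N19486 F169477) (tt N19074 F169478) (tt N22078 (iv F175919)) (tt N19438 F169479) (tt N22076 (iv F175904)) (tt N19401 F169480) (tt N19071 (iv D36589)))
theorem Q20664 : ∀ i, i < 20664 → P i := stepQ 20663 Q20663 (allL N20663 (tt N20071 F169481) (tt N19506 F169482) (tt N22071 (iv F175870)) (tt N19075 F169483) (tt N22074 (iv F175891)) (tt N22079 D38006) (tt N19073 F169484) (tt N19439 F169485) (tt N19072 (iv D36590)) (tt N22080 D38007))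
theorem Q20665 : ∀ i, i < 20665 → P i := stepQ 20664 Q20664 (allL N20664 (tt N19887 F169486) (tt N19507 F169487) (tt N22072 (iv F175876)) (tt N19076 F169488) (tt N22076 (iv F175903)) (tt N20664 F169489) (tt N22080 (iv F175931)) (tt N19074 F169490) (tt N19403 F169491) (tt N19073 (iv D36591)))
theorem Q20666 : ∀ i, i < 20666 → P i := stepQ 20665 Q20665 (allL N20665 (tt N20072 F169492) (tt N19508 F169493) (tt N20665 F169494) (tt N22079 (iv F175924)) (tt N22081 D38008) (tt N19075 (iv D36592)) (tt N20665 F169495) (tt N19441 F169496) (tt N19844 F169497) (tt N21994 (iv F175370)))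
theorem Q20667 : ∀ i, i < 20667 → P i := stepQ 20666 Q20666 (allL N20666 (tt N19966 F169498) (tt N19509 F169499) (tt N20666 F169500) (tt N22080 (iv F175930)) (tt N19490 F169501) (tt N21994 (iv F175367)) (tt N19076 F169502) (tt N19442 F169503) (tt N19405 F169504) (tt N19075 (iv D36593)))
theorem Q20668 : ∀ i, i < 20668 → P i := stepQ 20667 Q20667 (allL N20667 (tt N19078 F169505) (tt N20024 F169506) (tt N19747 F169507) (tt N19222 F169508) (tt N19745 F169509) (tt N19806 F169510) (tt N19100 F169511) (tt N19077 (iv D36594)) (tt N20667 F169512) (tt N19743 F169513))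
theorem Q20669 : ∀ i, i < 20669 → P i := stepQ 20668 Q20668 (allL N20668 (tt N20028 F169514) (tt N21884 (iv F174663)) (tt N19081 F169515) (tt N21914 (iv F174874)) (tt N19080 F169516) (tt N19836 F169517) (tt N22082 D38009) (tt N19079 (iv D36595)) (tt N22050 (iv F175736)) (tt N19995 F169518))
theorem Q20670 : ∀ i, i < 20670 → P i := stepQ 20669 Q20669 (allL N20669 (tt N20030 F169519) (tt N21886 (iv F174679)) (tt N19083 F169520) (tt N19223 F169521) (tt N22082 (iv F175943)) (tt N19107 F169522) (tt N19080 (iv D36596)) (tt N19136 F169523) (tt N22059 (iv F175790)) (tt N19996 F169524))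
theorem Q20671 : ∀ i, i < 20671 → P i := stepQ 20670 Q20670 (allL N20670 (tt N20032 F169525) (tt N19875 F169526) (tt N22082 (iv F175942)) (tt N20258 F169527) (tt N19083 F169528) (tt N22083 D38010) (tt N19081 (iv D36597)) (tt N19137 F169529) (tt N22084 D38011) (tt N19997 F169530))
theorem Q20672 : ∀ i, i < 20672 → P i := stepQ 20671 Q20671 (allL N20671 (tt N20033 F169531) (tt N19876 F169532) (tt N22050 (iv F175733)) (tt N19912 F169533) (tt N19084 F169534) (tt N22085 D38012) (tt N22084 (iv F175957)) (tt N19082 F169535) (tt N19081 (iv D36598)) (tt N19907 F169536))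
theorem Q20673 : ∀ i, i < 20673 → P i := stepQ 20672 Q20672 (allL N20672 (tt N20034 F169537) (tt N19877 F169538) (tt N22033 (iv F175633)) (tt N19914 F169539) (tt N20672 F169540) (tt N19082 (iv D36599)) (tt N22025 (iv F175582)) (tt N22085 (iv F175964)) (tt N19840 F169541) (tt N19908 F169542))
theorem Q20674 : ∀ i, i < 20674 → P i := stepQ 20673 Q20673 (allL N20673 (tt N20035 F169543) (tt N19879 F169544) (tt N22059 (iv F175787)) (tt N19085 F169545) (tt N22084 (iv F175956)) (tt N22086 D38013) (tt N19084 F169546) (tt N19140 F169547) (tt N19083 (iv D36600)) (tt N19976 F169548))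
theorem Q20675 : ∀ i, i < 20675 → P i := stepQ 20674 Q20674 (allL N20674 (tt N20036 F169549) (tt N19881 F169550) (tt N19226 F169551) (tt N22086 (iv F175969)) (tt N22087 D38014) (tt N19085 (iv D36601)) (tt N20674 F169552) (tt N19142 F169553) (tt N19116 F169554) (tt N19978 F169555))
theorem Q20676 : ∀ i, i < 20676 → P i := stepQ 20675 Q20675 (allL N20675 (tt N19087 F169556) (tt N19280 F169557) (tt N19472 F169558) (tt N19227 F169559) (tt N22088 D38015) (tt N19086 (iv D36602)) (tt N19144 F169560) (tt N22089 D38016) (tt N19275 F169561) (tt N19099 F169562))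
theorem Q20677 : ∀ i, i < 20677 → P i := stepQ 20676 Q20676 (allL N20676 (tt N19088 F169563) (tt N19787 F169564) (tt N19473 F169565) (tt N19228 F169566) (tt N19388 F169567) (tt N22089 (iv F175994)) (tt N19743 F169568) (tt N19086 (iv D36603)) (tt N19730 F169569) (tt N19100 F169570))
theorem Q20678 : ∀ i, i < 20678 → P i := stepQ 20677 Q20677 (allL N20677 (tt N22088 (iv F175982)) (tt N19089 F169571) (tt N19474 F169572) (tt N22090 D38017) (tt N19087 (iv D36604)) (tt N19389 F169573) (tt N19146 F169574) (tt N22091 D38018) (tt N22092 D38019) (tt N19101 F169575))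
theorem Q20679 : ∀ i, i < 20679 → P i := stepQ 20678 Q20678 (allL N20678 (tt N22089 (iv F175990)) (tt N19090 F169576) (tt N19475 F169577) (tt N19230 F169578) (tt N22091 (iv F176007)) (tt N19088 F169579) (tt N22093 D38020) (tt N19087 (iv D36605)) (tt N22094 D38021) (tt N19102 F169580))
theorem Q20680 : ∀ i, i < 20680 → P i := stepQ 20679 Q20679 (allL N20679 (tt N19275 F169581) (tt N19091 F169582) (tt N19476 F169583) (tt N19231 F169584) (tt N22092 (iv F176014)) (tt N19320 F169585) (tt N19148 F169586) (tt N22094 (iv F176029)) (tt N19087 (iv D36606)) (tt N19291 (iv F169587)))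
theorem Q20681 : ∀ i, i < 20681 → P i := stepQ 20680 Q20680 (allL N20680 (tt N20011 F169588) (tt N22090 (iv F175998)) (tt N19496 F169589) (tt N19089 (iv D36607)) (tt N19232 F169590) (tt N19392 F169591) (tt N19149 F169592) (tt N22095 D38022) (tt N20120 (iv F169594)) (tt N19104 F169593))
theorem Q20682 : ∀ i, i < 20682 → P i := stepQ 20681 Q20681 (allL N20681 (tt N20012 F169595) (tt N22091 (iv F176005)) (tt N19092 F169596) (tt N22095 (iv F176033)) (tt N19090 F169597) (tt N19393 F169598) (tt N22096 D38023) (tt N19089 (iv D36608)) (tt N22097 D38024) (tt N19105 F169599))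
theorem Q20683 : ∀ i, i < 20683 → P i := stepQ 20682 Q20682 (allL N20682 (tt N20013 F169600) (tt N22092 (iv F176011)) (tt N19093 F169601) (tt N20120 F169602) (tt N19091 F169603) (tt N22098 D38025) (tt N19151 F169604) (tt N22097 (iv F176047)) (tt N19089 (iv D36609)) (tt N20141 (iv F169605)))
theorem Q20684 : ∀ i, i < 20684 → P i := stepQ 20683 Q20683 (allL N20683 (tt N20014 F169606) (tt N22093 (iv F176018)) (tt N19094 F169607) (tt N19234 F169608) (tt N22096 (iv F176040)) (tt N19996 F169609) (tt N19090 (iv D36610)) (tt N19152 F169610) (tt N22099 D38026) (tt N19107 F169611))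
theorem Q20685 : ∀ i, i < 20685 → P i := stepQ 20684 Q20684 (allL N20684 (tt N20015 F169612) (tt N22094 (iv F176025)) (tt N19095 F169613) (tt N19235 F169614) (tt N22097 (iv F176046)) (tt N19734 F169615) (tt N22099 (iv F176060)) (tt N19091 F169616) (tt N19090 (iv D36611)) (tt N20240 (iv F169617)))
theorem Q20686 : ∀ i, i < 20686 → P i := stepQ 20685 Q20685 (allL N20685 (tt N20016 F169618) (tt N19483 F169619) (tt N22096 (iv F176039)) (tt N19502 F169620) (tt N19094 F169621) (tt N22100 D38027) (tt N19092 (iv D36612)) (tt N19155 F169622) (tt N22101 D38028) (tt N19110 F169623))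
theorem Q20687 : ∀ i, i < 20687 → P i := stepQ 20686 Q20686 (allL N20686 (tt N20017 F169624) (tt N19484 F169625) (tt N22097 (iv F176044)) (tt N19503 F169626) (tt N19095 F169627) (tt N22102 D38029) (tt N22101 (iv F176074)) (tt N19093 F169628) (tt N19092 (iv D36613)) (tt N22103 D38030))
theorem Q20688 : ∀ i, i < 20688 → P i := stepQ 20687 Q20687 (allL N20687 (tt N20018 F169629) (tt N19485 F169630) (tt N22098 (iv F176051)) (tt N19504 F169631) (tt N19737 F169632) (tt N19093 (iv D36614)) (tt N22104 D38031) (tt N22102 (iv F176080)) (tt N19400 F169633) (tt N22105 D38032))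
theorem Q20689 : ∀ i, i < 20689 → P i := stepQ 20688 Q20688 (allL N20688 (tt N20019 F169634) (tt N19486 F169635) (tt N20141 F169636) (tt N19505 F169637) (tt N19096 F169638) (tt N22105 (iv F176102)) (tt N19158 F169639) (tt N22103 (iv F176087)) (tt N19113 F169640) (tt N19093 (iv D36615)))
theorem Q20690 : ∀ i, i < 20690 → P i := stepQ 20689 Q20689 (allL N20689 (tt N20020 F169641) (tt N19487 F169642) (tt N22099 (iv F176058)) (tt N19097 F169643) (tt N22101 (iv F176073)) (tt N22106 D38033) (tt N19095 F169644) (tt N19159 F169645) (tt N19094 (iv D36616)) (tt N22107 D38034))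
theorem Q20691 : ∀ i, i < 20691 → P i := stepQ 20690 Q20690 (allL N20690 (tt N20021 F169646) (tt N19488 F169647) (tt N20240 F169648) (tt N19098 F169649) (tt N22103 (iv F176086)) (tt N19740 F169650) (tt N22107 (iv F176115)) (tt N19096 F169651) (tt N19115 F169652) (tt N19095 (iv D36617)))
theorem Q20692 : ∀ i, i < 20692 → P i := stepQ 20691 Q20691 (allL N20691 (tt N20022 F169653) (tt N19489 F169654) (tt N19238 F169655) (tt N22106 (iv F176107)) (tt N19683 (iv F169659)) (tt N19097 (iv D36618)) (tt N19699 F169656) (tt N19161 F169657) (tt N19657 F169658) (tt N22108 D38035))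
theorem Q20693 : ∀ i, i < 20693 → P i := stepQ 20692 Q20692 (allL N20692 (tt N20023 F169660) (tt N19490 F169661) (tt N19239 F169662) (tt N22107 (iv F176114)) (tt N19509 F169663) (tt N22108 (iv F176122)) (tt N19098 F169664) (tt N19162 F169665) (tt N19117 F169666) (tt N19097 (iv D36619)))
theorem Q20694 : ∀ i, i < 20694 → P i := stepQ 20693 Q20693 (allL N20693 (tt N19101 F169667) (tt N20073 F169668) (tt N19529 F169669) (tt N22109 D38036) (tt N19099 (iv D36620)) (tt N19595 F169670) (tt N19163 F169671) (tt N22110 D38037) (tt N22111 D38038) (tt N22088 (iv F175989)))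
theorem Q20695 : ∀ i, i < 20695 → P i := stepQ 20694 Q20694 (allL N20694 (tt N19102 F169672) (tt N20074 F169673) (tt N19766 F169674) (tt N19241 F169675) (tt N22110 (iv F176137)) (tt N19100 F169676) (tt N22112 D38039) (tt N19099 (iv D36621)) (tt N22113 D38040) (tt N22089 (iv F175996)))
theorem Q20696 : ∀ i, i < 20696 → P i := stepQ 20695 Q20695 (allL N20695 (tt N19103 F169677) (tt N19304 F169678) (tt N19758 F169679) (tt N19242 F169680) (tt N22111 (iv F176143)) (tt N20695 F169681) (tt N19165 F169682) (tt N22113 (iv F176158)) (tt N19099 (iv D36622)) (tt N19297 F169683))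
theorem Q20697 : ∀ i, i < 20697 → P i := stepQ 20696 Q20696 (allL N20696 (tt N22109 (iv F176126)) (tt N19104 F169684) (tt N22114 D38041) (tt N19101 (iv D36623)) (tt N19243 F169685) (tt N20378 F169686) (tt N19166 F169687) (tt N22115 D38042) (tt N22116 D38043) (tt N22090 (iv F176002)))
theorem Q20698 : ∀ i, i < 20698 → P i := stepQ 20697 Q20697 (allL N20697 (tt N22110 (iv F176134)) (tt N19105 F169688) (tt N20343 F169689) (tt N22115 (iv F176169)) (tt N19102 F169690) (tt N20383 F169691) (tt N22117 D38044) (tt N19101 (iv D36624)) (tt N22118 D38045) (tt N22091 (iv F176009)))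
theorem Q20699 : ∀ i, i < 20699 → P i := stepQ 20698 Q20698 (allL N20698 (tt N22111 (iv F176139)) (tt N19106 F169692) (tt N20305 F169693) (tt N22116 (iv F176175)) (tt N19103 F169694) (tt N22119 D38046) (tt N19168 F169695) (tt N22118 (iv F176187)) (tt N19101 (iv D36625)) (tt N22120 D38047))
theorem Q20700 : ∀ i, i < 20700 → P i := stepQ 20699 Q20699 (allL N20699 (tt N22112 (iv F176147)) (tt N19107 F169696) (tt N20440 F169697) (tt N19246 F169698) (tt N22117 (iv F176182)) (tt N21886 (iv F174682)) (tt N19102 (iv D36626)) (tt N19169 F169699) (tt N22121 D38048) (tt N22093 (iv F176023)))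
theorem Q20701 : ∀ i, i < 20701 → P i := stepQ 20700 Q20700 (allL N20700 (tt N22113 (iv F176153)) (tt N19108 F169700) (tt N20432 F169701) (tt N19247 F169702) (tt N22118 (iv F176186)) (tt N20700 F169703) (tt N22121 (iv F176207)) (tt N19103 F169704) (tt N19102 (iv D36627)) (tt N22122 D38049))
theorem Q20702 : ∀ i, i < 20702 → P i := stepQ 20701 Q20701 (allL N20701 (tt N19297 F169705) (tt N19109 F169706) (tt N20433 F169707) (tt N19248 F169708) (tt N22120 (iv F176200)) (tt N20701 F169709) (tt N19171 F169710) (tt N22122 (iv F176214)) (tt N19291 F169711) (tt N19103 (iv D36628)))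
theorem Q20703 : ∀ i, i < 20703 → P i := stepQ 20702 Q20702 (allL N20702 (tt N20080 F169712) (tt N22115 (iv F176168)) (tt N19518 F169713) (tt N19105 F169714) (tt N19249 F169715) (tt N22065 (iv F175831)) (tt N22123 D38050) (tt N19104 (iv D36629)) (tt N22124 D38051) (tt N22095 (iv F176037)))
theorem Q20704 : ∀ i, i < 20704 → P i := stepQ 20703 Q20703 (allL N20703 (tt N20081 F169716) (tt N22116 (iv F176173)) (tt N19519 F169717) (tt N19106 F169718) (tt N19250 F169719) (tt N22125 D38052) (tt N19173 F169720) (tt N22124 (iv F176225)) (tt N19104 (iv D36630)) (tt N20143 F169721))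
theorem Q20705 : ∀ i, i < 20705 → P i := stepQ 20704 Q20704 (allL N20704 (tt N20082 F169722) (tt N22117 (iv F176180)) (tt N19110 F169723) (tt N22123 (iv F176218)) (tt N19107 F169724) (tt N22126 D38053) (tt N19105 (iv D36631)) (tt N19174 F169725) (tt N22127 D38054) (tt N22096 (iv F176042)))
theorem Q20706 : ∀ i, i < 20706 → P i := stepQ 20705 Q20705 (allL N20705 (tt N20083 F169726) (tt N22118 (iv F176184)) (tt N19111 F169727) (tt N22124 (iv F176223)) (tt N19108 F169728) (tt N22128 D38055) (tt N22127 (iv F176241)) (tt N19106 F169729) (tt N19105 (iv D36632)) (tt N22129 D38056))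
theorem Q20707 : ∀ i, i < 20707 → P i := stepQ 20706 Q20706 (allL N20706 (tt N20084 F169730) (tt N22119 (iv F176189)) (tt N19112 F169731) (tt N22125 (iv F176230)) (tt N20706 F169732) (tt N19106 (iv D36633)) (tt N22130 D38057) (tt N22128 (iv F176246)) (tt N22069 (iv F175858)) (tt N22131 D38058))
theorem Q20708 : ∀ i, i < 20708 → P i := stepQ 20707 Q20707 (allL N20707 (tt N20085 F169733) (tt N22120 (iv F176197)) (tt N19113 F169734) (tt N20143 F169735) (tt N19109 F169736) (tt N22131 (iv F176266)) (tt N19177 F169737) (tt N22129 (iv F176251)) (tt N20141 F169738) (tt N19106 (iv D36634)))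
theorem Q20709 : ∀ i, i < 20709 → P i := stepQ 20708 Q20708 (allL N20708 (tt N20086 F169739) (tt N22121 (iv F176204)) (tt N19114 F169740) (tt N19253 F169741) (tt N22127 (iv F176240)) (tt N22132 D38059) (tt N19108 F169742) (tt N19178 F169743) (tt N19107 (iv D36635)) (tt N22133 D38060))
theorem Q20710 : ∀ i, i < 20710 → P i := stepQ 20709 Q20709 (allL N20709 (tt N20087 F169744) (tt N22122 (iv F176210)) (tt N19115 F169745) (tt N19254 F169746) (tt N22129 (iv F176250)) (tt N20709 F169747) (tt N22133 (iv F176277)) (tt N19109 F169748) (tt N20240 F169749) (tt N19108 (iv D36636)))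
theorem Q20711 : ∀ i, i < 20711 → P i := stepQ 20710 Q20710 (allL N20710 (tt N20088 F169750) (tt N22029 (iv F175607)) (tt N22126 (iv F176236)) (tt N19525 F169751) (tt N22083 (iv F175949)) (tt N19110 (iv D36637)) (tt N22073 (iv F175885)) (tt N19180 F169752) (tt N22134 D38061) (tt N22100 (iv F176069)))
theorem Q20712 : ∀ i, i < 20712 → P i := stepQ 20711 Q20711 (allL N20711 (tt N20089 F169753) (tt N22030 (iv F175614)) (tt N22127 (iv F176239)) (tt N19526 F169754) (tt N19114 F169755) (tt N22135 D38062) (tt N19111 F169756) (tt N19181 F169757) (tt N19110 (iv D36638)) (tt N22136 D38063))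
theorem Q20713 : ∀ i, i < 20713 → P i := stepQ 20712 Q20712 (allL N20712 (tt N20090 F169758) (tt N22031 (iv F175620)) (tt N22128 (iv F176244)) (tt N19527 F169759) (tt N20712 F169760) (tt N19111 (iv D36639)) (tt N22137 D38064) (tt N19112 F169761) (tt N22075 (iv F175899)) (tt N22138 D38065))
theorem Q20714 : ∀ i, i < 20714 → P i := stepQ 20713 Q20713 (allL N20713 (tt N20091 F169762) (tt N22032 (iv F175626)) (tt N22129 (iv F176248)) (tt N19528 F169763) (tt N19115 F169764) (tt N22138 (iv F176297)) (tt N22136 (iv F176289)) (tt N19113 F169765) (tt N22103 (iv F176088)) (tt N19111 (iv D36640)))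
theorem Q20715 : ∀ i, i < 20715 → P i := stepQ 20714 Q20714 (allL N20714 (tt N20092 F169766) (tt N22033 (iv F175632)) (tt N22130 (iv F176255)) (tt N19529 F169767) (tt N20714 F169768) (tt N19184 F169769) (tt N19112 (iv D36641)) (tt N22139 D38066) (tt N22077 (iv F175912)) (tt N22140 D38067))
theorem Q20716 : ∀ i, i < 20716 → P i := stepQ 20715 Q20715 (allL N20715 (tt N20093 F169770) (tt N22034 (iv F175640)) (tt N22131 (iv F176263)) (tt N19530 F169771) (tt N20715 F169772) (tt N19113 F169773) (tt N22140 (iv F176309)) (tt N22138 (iv F176298)) (tt N22141 D38068) (tt N19112 (iv D36642)))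
theorem Q20717 : ∀ i, i < 20717 → P i := stepQ 20716 Q20716 (allL N20716 (tt N20094 F169774) (tt N22035 (iv F175648)) (tt N22132 (iv F176270)) (tt N19116 F169775) (tt N22142 D38069) (tt N19114 (iv D36643)) (tt N20716 F169776) (tt N19186 F169777) (tt N22086 (iv F175972)) (tt N22143 D38070))
theorem Q20718 : ∀ i, i < 20718 → P i := stepQ 20717 Q20717 (allL N20717 (tt N20095 F169778) (tt N22036 (iv F175654)) (tt N22133 (iv F176275)) (tt N19117 F169779) (tt N22136 (iv F176288)) (tt N22143 (iv F176324)) (tt N19115 F169780) (tt N19187 F169781) (tt N22107 (iv F176117)) (tt N19114 (iv D36644)))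
theorem Q20719 : ∀ i, i < 20719 → P i := stepQ 20718 Q20718 (allL N20718 (tt N20096 F169782) (tt N22037 (iv F175660)) (tt N19259 F169783) (tt N22144 D38071) (tt N19116 (iv D36645)) (tt N19533 F169784) (tt N20718 F169785) (tt N19188 F169786) (tt N22087 (iv F175980)) (tt N22064 (iv F175825)))
theorem Q20720 : ∀ i, i < 20720 → P i := stepQ 20719 Q20719 (allL N20719 (tt N20097 F169787) (tt N22038 (iv F175668)) (tt N19260 F169788) (tt N22143 (iv F176323)) (tt N22064 (iv F175821)) (tt N19117 F169789) (tt N20719 F169790) (tt N19189 F169791) (tt N22145 D38072) (tt N19116 (iv D36646)))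
theorem Q20721 : ∀ i, i < 20721 → P i := stepQ 20720 Q20720 (allL N20720 (tt N19783 F169792) (tt N19120 F169793) (tt N20061 F169794) (tt N19825 F169795) (tt N19118 (iv D36647)) (tt N20000 F169796) (tt N19424 F169797) (tt N22146 D38073) (tt N19841 F169798) (tt N19383 F169799))
theorem Q20722 : ∀ i, i < 20722 → P i := stepQ 20721 Q20721 (allL N20721 (tt N19785 F169800) (tt N19121 F169801) (tt N20062 F169802) (tt N19261 F169803) (tt N22146 (iv F176343)) (tt N19119 F169804) (tt N22147 D38074) (tt N19118 (iv D36648)) (tt N19843 F169805) (tt N19385 F169806))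
theorem Q20723 : ∀ i, i < 20723 → P i := stepQ 20722 Q20722 (allL N20722 (tt N20098 F169807) (tt N22146 (iv F176340)) (tt N19122 F169808) (tt N21900 (iv F174782)) (tt N19121 F169809) (tt N20002 F169810) (tt N22148 D38075) (tt N19120 (iv D36649)) (tt N19896 F169811) (tt N19494 F169812))
theorem Q20724 : ∀ i, i < 20724 → P i := stepQ 20723 Q20723 (allL N20723 (tt N20099 F169813) (tt N22147 (iv F176348)) (tt N19124 F169814) (tt N19262 F169815) (tt N22148 (iv F176357)) (tt N19540 F169816) (tt N19121 (iv D36650)) (tt N19557 F169817) (tt N19899 F169818) (tt N19495 F169819))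
theorem Q20725 : ∀ i, i < 20725 → P i := stepQ 20724 Q20724 (allL N20724 (tt N20100 F169820) (tt N20068 F169821) (tt N22148 (iv F176356)) (tt N19137 F169822) (tt N19124 F169823) (tt N22149 D38076) (tt N19122 (iv D36651)) (tt N20258 F169824) (tt N22150 D38077) (tt N19791 F169825))
theorem Q20726 : ∀ i, i < 20726 → P i := stepQ 20725 Q20725 (allL N20725 (tt N20101 F169826) (tt N20069 F169827) (tt N19896 F169828) (tt N19138 F169829) (tt N19125 F169830) (tt N22040 (iv F175683)) (tt N22150 (iv F176373)) (tt N19123 F169831) (tt N19122 (iv D36652)) (tt N19890 F169832))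
theorem Q20727 : ∀ i, i < 20727 → P i := stepQ 20726 Q20726 (allL N20726 (tt N20103 F169833) (tt N20071 F169834) (tt N19899 F169835) (tt N19126 F169836) (tt N22150 (iv F176372)) (tt N22151 D38078) (tt N19125 F169837) (tt N19916 F169838) (tt N19124 (iv D36653)) (tt N19892 F169839))
theorem Q20728 : ∀ i, i < 20728 → P i := stepQ 20727 Q20727 (allL N20727 (tt N20104 F169840) (tt N20072 F169841) (tt N19264 F169842) (tt N22151 (iv F176379)) (tt N22152 D38079) (tt N19126 (iv D36654)) (tt N20727 F169843) (tt N19980 F169844) (tt N19548 F169845) (tt N19969 F169846))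
theorem Q20729 : ∀ i, i < 20729 → P i := stepQ 20728 Q20728 (allL N20728 (tt N20002 F169847) (tt N21883 (iv F174656)) (tt N19130 F169848) (tt N21896 (iv F174753)) (tt N19128 F169849) (tt N20098 F169850) (tt N22153 D38080) (tt N19127 (iv D36655)) (tt N21894 (iv F174743)) (tt N19135 F169851))
theorem Q20730 : ∀ i, i < 20730 → P i := stepQ 20729 Q20729 (allL N20729 (tt N20003 F169852) (tt N21887 (iv F174687)) (tt N19132 F169853) (tt N19265 F169854) (tt N22153 (iv F176394)) (tt N19152 F169855) (tt N19128 (iv D36656)) (tt N19996 F169856) (tt N22154 D38081) (tt N19136 F169857))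
theorem Q20731 : ∀ i, i < 20731 → P i := stepQ 20730 Q20730 (allL N20730 (tt N20004 F169858) (tt N21888 (iv F174694)) (tt N19133 F169859) (tt N19266 F169860) (tt N21894 (iv F174741)) (tt N20730 F169861) (tt N22154 (iv F176400)) (tt N19129 F169862) (tt N19128 (iv D36657)) (tt N19608 F169863))
theorem Q20732 : ∀ i, i < 20732 → P i := stepQ 20731 Q20731 (allL N20731 (tt N20005 F169864) (tt N20286 F169865) (tt N22153 (iv F176393)) (tt N19791 F169866) (tt N19132 F169867) (tt N22155 D38082) (tt N19130 (iv D36658)) (tt N19997 F169868) (tt N22156 D38083) (tt N19137 F169869))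
theorem Q20733 : ∀ i, i < 20733 → P i := stepQ 20732 Q20732 (allL N20732 (tt N20006 F169870) (tt N20287 F169871) (tt N21894 (iv F174739)) (tt N19491 F169872) (tt N19133 F169873) (tt N22015 (iv F175511)) (tt N22156 (iv F176414)) (tt N19131 F169874) (tt N19130 (iv D36659)) (tt N19888 (iv F169875)))
theorem Q20734 : ∀ i, i < 20734 → P i := stepQ 20733 Q20733 (allL N20733 (tt N20007 F169876) (tt N20289 F169877) (tt N22154 (iv F176398)) (tt N19134 F169878) (tt N22156 (iv F176413)) (tt N22157 D38084) (tt N19133 F169879) (tt N19656 F169880) (tt N19132 (iv D36660)) (tt N19967 (iv F169881)))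
theorem Q20735 : ∀ i, i < 20735 → P i := stepQ 20734 Q20734 (allL N20734 (tt N20008 F169882) (tt N20290 F169883) (tt N19269 F169884) (tt N22157 (iv F176419)) (tt N19641 F169885) (tt N19134 (iv D36661)) (tt N20734 F169886) (tt N19657 F169887) (tt N19161 F169888) (tt N19968 F169889))
theorem Q20736 : ∀ i, i < 20736 → P i := stepQ 20735 Q20735 (allL N20735 (tt N20108 F169890) (tt N21882 (iv F174650)) (tt N19137 F169891) (tt N21913 (iv F174868)) (tt N19136 F169892) (tt N22158 D38085) (tt N19135 (iv D36662)) (tt N22082 (iv F175944)) (tt N22049 (iv F175729)) (tt N22153 (iv F176396)))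
theorem Q20737 : ∀ i, i < 20737 → P i := stepQ 20736 Q20736 (allL N20736 (tt N20111 F169893) (tt N20301 F169894) (tt N22158 (iv F176425)) (tt N22149 (iv F176363)) (tt N19180 F169895) (tt N19137 (iv D36663)) (tt N20261 F169896) (tt N22083 (iv F175951)) (tt N22159 D38086) (tt N22155 (iv F176409)))
theorem Q20738 : ∀ i, i < 20738 → P i := stepQ 20737 Q20737 (allL N20737 (tt N20112 F169897) (tt N20302 F169898) (tt N22049 (iv F175726)) (tt N22150 (iv F176371)) (tt N19140 F169899) (tt N22160 D38087) (tt N19138 F169900) (tt N22084 (iv F175958)) (tt N19137 (iv D36664)) (tt N22161 D38088))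
theorem Q20739 : ∀ i, i < 20739 → P i := stepQ 20738 Q20738 (allL N20738 (tt N20114 F169901) (tt N20304 F169902) (tt N19616 F169903) (tt N19890 F169904) (tt N19141 F169905) (tt N22043 (iv F175700)) (tt N22161 (iv F176439)) (tt N19139 F169906) (tt N19888 F169907) (tt N19138 (iv D36665)))
theorem Q20740 : ∀ i, i < 20740 → P i := stepQ 20739 Q20739 (allL N20739 (tt N20116 F169908) (tt N20307 F169909) (tt N22058 (iv F175780)) (tt N19142 F169910) (tt N22162 D38089) (tt N19140 (iv D36666)) (tt N19190 F169911) (tt N22086 (iv F175971)) (tt N19186 F169912) (tt N22163 D38090))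
theorem Q20741 : ∀ i, i < 20741 → P i := stepQ 20740 Q20740 (allL N20740 (tt N20117 F169913) (tt N20308 F169914) (tt N19604 F169915) (tt N19143 F169916) (tt N22161 (iv F176438)) (tt N22163 (iv F176450)) (tt N19141 F169917) (tt N19976 F169918) (tt N19967 F169919) (tt N19140 (iv D36667)))
theorem Q20742 : ∀ i, i < 20742 → P i := stepQ 20741 Q20741 (allL N20741 (tt N20118 F169920) (tt N20309 F169921) (tt N19272 F169922) (tt N22164 D38091) (tt N19142 (iv D36668)) (tt N22152 (iv F176387)) (tt N19192 F169923) (tt N22087 (iv F175979)) (tt N19188 F169924) (tt N22165 D38092))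
theorem Q20743 : ∀ i, i < 20743 → P i := stepQ 20742 Q20742 (allL N20742 (tt N20119 F169925) (tt N20310 F169926) (tt N19273 F169927) (tt N22163 (iv F176449)) (tt N22165 (iv F176460)) (tt N19143 F169928) (tt N19193 F169929) (tt N19978 F169930) (tt N22166 D38093) (tt N19142 (iv D36669)))
theorem Q20744 : ∀ i, i < 20744 → P i := stepQ 20743 Q20743 (allL N20743 (tt N19146 F169931) (tt N20120 F169932) (tt N19530 F169933) (tt N22092 (iv F176013)) (tt N19144 (iv D36670)) (tt N19522 F169934) (tt N22088 (iv F175987)) (tt N22167 D38094) (tt N22090 F176004) (tt N19163 F169935))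
theorem Q20745 : ∀ i, i < 20745 → P i := stepQ 20744 Q20744 (allL N20744 (tt N19147 F169936) (tt N20121 F169937) (tt N19765 F169938) (tt N19274 F169939) (tt N22167 (iv F176476)) (tt N19145 F169940) (tt N22168 D38095) (tt N19144 (iv D36671)) (tt N22169 D38096) (tt N19164 F169941))
theorem Q20746 : ∀ i, i < 20746 → P i := stepQ 20745 Q20745 (allL N20745 (tt N19148 F169942) (tt N19232 F169943) (tt N19767 F169944) (tt N19229 F169945) (tt N22090 (iv F175999)) (tt N20745 F169946) (tt N19275 F169947) (tt N22169 (iv F176490)) (tt N19144 (iv D36672)) (tt N19243 (iv F169948)))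
theorem Q20747 : ∀ i, i < 20747 → P i := stepQ 20746 Q20746 (allL N20746 (tt N22092 (iv F176010)) (tt N19149 F169949) (tt N20149 (iv F169953)) (tt N19146 (iv D36673)) (tt N19275 F169950) (tt N20041 F169951) (tt N22090 (iv F176001)) (tt N22170 D38097) (tt N22088 (iv F175988)) (tt N19166 F169952))
theorem Q20748 : ∀ i, i < 20748 → P i := stepQ 20747 Q20747 (allL N20747 (tt N22167 (iv F176473)) (tt N19150 F169954) (tt N20342 F169955) (tt N22170 (iv F176494)) (tt N19147 F169956) (tt N20336 F169957) (tt N22171 D38098) (tt N19146 (iv D36674)) (tt N22172 D38099) (tt N19167 F169958))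
theorem Q20749 : ∀ i, i < 20749 → P i := stepQ 20748 Q20748 (allL N20748 (tt N22090 (iv F175997)) (tt N19151 F169959) (tt N20344 F169960) (tt N22088 (iv F175985)) (tt N19148 F169961) (tt N22173 D38100) (tt N22092 (iv F176016)) (tt N22172 (iv F176505)) (tt N19146 (iv D36675)) (tt N22109 (iv F176131)))
theorem Q20750 : ∀ i, i < 20750 → P i := stepQ 20749 Q20749 (allL N20749 (tt N22168 (iv F176479)) (tt N19152 F169962) (tt N20441 F169963) (tt N19277 F169964) (tt N22171 (iv F176500)) (tt N21887 (iv F174690)) (tt N19147 (iv D36676)) (tt N22093 (iv F176022)) (tt N22174 D38101) (tt N19169 F169965))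
theorem Q20751 : ∀ i, i < 20751 → P i := stepQ 20750 Q20750 (allL N20750 (tt N22169 (iv F176485)) (tt N19153 F169966) (tt N20442 F169967) (tt N19278 F169968) (tt N22172 (iv F176504)) (tt N20750 F169969) (tt N22174 (iv F176517)) (tt N19148 F169970) (tt N19147 (iv D36677)) (tt N22175 D38102))
theorem Q20752 : ∀ i, i < 20752 → P i := stepQ 20751 Q20751 (allL N20751 (tt N19243 F169971) (tt N19154 F169972) (tt N20434 F169973) (tt N19240 F169974) (tt N22109 (iv F176128)) (tt N20751 F169975) (tt N19291 F169976) (tt N22175 (iv F176523)) (tt N19171 F169977) (tt N19148 (iv D36678)))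
theorem Q20753 : ∀ i, i < 20753 → P i := stepQ 20752 Q20752 (allL N20752 (tt N20125 F169978) (tt N22170 (iv F176492)) (tt N19560 F169979) (tt N19150 F169980) (tt N19279 F169981) (tt N20046 F169982) (tt N22176 D38103) (tt N19149 (iv D36679)) (tt N22177 D38104) (tt N19172 F169983))
theorem Q20754 : ∀ i, i < 20754 → P i := stepQ 20753 Q20753 (allL N20753 (tt N20009 F169984) (tt N22088 (iv F175983)) (tt N19561 F169985) (tt N19151 F169986) (tt N19280 F169987) (tt N19778 F169988) (tt N20120 F169989) (tt N22177 (iv F176535)) (tt N19149 (iv D36680)) (tt N20073 (iv F169990)))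
theorem Q20755 : ∀ i, i < 20755 → P i := stepQ 20754 Q20754 (allL N20754 (tt N20126 F169991) (tt N22171 (iv F176498)) (tt N19155 F169992) (tt N22176 (iv F176527)) (tt N19152 F169993) (tt N22178 D38105) (tt N19150 (iv D36681)) (tt N22096 (iv F176041)) (tt N22179 D38106) (tt N19174 F169994))
theorem Q20756 : ∀ i, i < 20756 → P i := stepQ 20755 Q20755 (allL N20755 (tt N20127 F169995) (tt N22172 (iv F176502)) (tt N19156 F169996) (tt N22177 (iv F176532)) (tt N19153 F169997) (tt N22180 D38107) (tt N22179 (iv F176544)) (tt N19151 F169998) (tt N19150 (iv D36682)) (tt N22181 D38108))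
theorem Q20757 : ∀ i, i < 20757 → P i := stepQ 20756 Q20756 (allL N20756 (tt N20128 F169999) (tt N22173 (iv F176507)) (tt N19157 F170000) (tt N19778 F170001) (tt N20756 F170002) (tt N19151 (iv D36683)) (tt N22182 D38109) (tt N22180 (iv F176549)) (tt N19776 F170003) (tt N22183 D38110))
theorem Q20758 : ∀ i, i < 20758 → P i := stepQ 20757 Q20757 (allL N20757 (tt N20075 F170004) (tt N22109 (iv F176127)) (tt N19158 F170005) (tt N20073 F170006) (tt N19154 F170007) (tt N22183 (iv F176570)) (tt N20141 F170008) (tt N22181 (iv F176555)) (tt N19177 F170009) (tt N19151 (iv D36684)))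
theorem Q20759 : ∀ i, i < 20759 → P i := stepQ 20758 Q20758 (allL N20758 (tt N20129 F170010) (tt N22174 (iv F176514)) (tt N19159 F170011) (tt N19283 F170012) (tt N22179 (iv F176543)) (tt N22184 D38111) (tt N19153 F170013) (tt N22099 (iv F176061)) (tt N19152 (iv D36685)) (tt N22185 D38112))
theorem Q20760 : ∀ i, i < 20760 → P i := stepQ 20759 Q20759 (allL N20759 (tt N20130 F170014) (tt N22175 (iv F176519)) (tt N19160 F170015) (tt N19284 F170016) (tt N22181 (iv F176554)) (tt N20759 F170017) (tt N22185 (iv F176580)) (tt N19154 F170018) (tt N19179 F170019) (tt N19153 (iv D36686)))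
theorem Q20761 : ∀ i, i < 20761 → P i := stepQ 20760 Q20760 (allL N20760 (tt N20131 F170020) (tt N21931 (iv F174988)) (tt N22178 (iv F176538)) (tt N19567 F170021) (tt N22155 (iv F176406)) (tt N19155 (iv D36687)) (tt N20348 F170022) (tt N22100 (iv F176068)) (tt N22186 D38113) (tt N19180 F170023))
theorem Q20762 : ∀ i, i < 20762 → P i := stepQ 20761 Q20761 (allL N20761 (tt N20132 F170024) (tt N21932 (iv F174995)) (tt N22179 (iv F176542)) (tt N19568 F170025) (tt N19159 F170026) (tt N22187 D38114) (tt N19156 F170027) (tt N22101 (iv F176075)) (tt N19155 (iv D36688)) (tt N22188 D38115))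
theorem Q20763 : ∀ i, i < 20763 → P i := stepQ 20762 Q20762 (allL N20762 (tt N20133 F170028) (tt N21933 (iv F175001)) (tt N22180 (iv F176546)) (tt N19569 F170029) (tt N20762 F170030) (tt N19156 (iv D36689)) (tt N22189 D38116) (tt N19157 F170031) (tt N19848 F170032) (tt N22190 D38117))
theorem Q20764 : ∀ i, i < 20764 → P i := stepQ 20763 Q20763 (allL N20763 (tt N20134 F170033) (tt N21934 (iv F175007)) (tt N22181 (iv F176552)) (tt N19570 F170034) (tt N19160 F170035) (tt N22190 (iv F176600)) (tt N22188 (iv F176591)) (tt N19158 F170036) (tt N19183 F170037) (tt N19156 (iv D36690)))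
theorem Q20765 : ∀ i, i < 20765 → P i := stepQ 20764 Q20764 (allL N20764 (tt N20135 F170038) (tt N21935 (iv F175013)) (tt N22182 (iv F176559)) (tt N19571 F170039) (tt N20764 F170040) (tt N22104 (iv F176094)) (tt N19157 (iv D36691)) (tt N22191 D38118) (tt N19835 F170041) (tt N22192 D38119))
theorem Q20766 : ∀ i, i < 20766 → P i := stepQ 20765 Q20765 (allL N20765 (tt N20136 F170042) (tt N21936 (iv F175021)) (tt N22183 (iv F176567)) (tt N19572 F170043) (tt N20765 F170044) (tt N19158 F170045) (tt N22192 (iv F176612)) (tt N22190 (iv F176601)) (tt N22193 D38120) (tt N19157 (iv D36692)))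
theorem Q20767 : ∀ i, i < 20767 → P i := stepQ 20766 Q20766 (allL N20766 (tt N20137 F170046) (tt N21937 (iv F175029)) (tt N22184 (iv F176574)) (tt N19161 F170047) (tt N22194 D38121) (tt N19159 (iv D36693)) (tt N20766 F170048) (tt N22106 (iv F176109)) (tt N22157 (iv F176422)) (tt N22195 D38122))
theorem Q20768 : ∀ i, i < 20768 → P i := stepQ 20767 Q20767 (allL N20767 (tt N20138 F170049) (tt N21938 (iv F175035)) (tt N22185 (iv F176578)) (tt N19162 F170050) (tt N22188 (iv F176590)) (tt N22195 (iv F176626)) (tt N19160 F170051) (tt N22107 (iv F176116)) (tt N19187 F170052) (tt N19159 (iv D36694)))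
theorem Q20769 : ∀ i, i < 20769 → P i := stepQ 20768 Q20768 (allL N20768 (tt N20139 F170053) (tt N21939 (iv F175041)) (tt N19289 F170054) (tt N22196 D38123) (tt N19161 (iv D36695)) (tt N19575 F170055) (tt N20768 F170056) (tt N19683 F170057) (tt N19641 F170058) (tt N22197 D38124))
theorem Q20770 : ∀ i, i < 20770 → P i := stepQ 20769 Q20769 (allL N20769 (tt N20140 F170059) (tt N21940 (iv F175048)) (tt N19290 F170060) (tt N22195 (iv F176625)) (tt N22197 (iv F176635)) (tt N19162 F170061) (tt N20769 F170062) (tt N22108 (iv F176124)) (tt N22198 D38125) (tt N19161 (iv D36696)))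
theorem Q20771 : ∀ i, i < 20771 → P i := stepQ 20770 Q20770 (allL N20770 (tt N19166 F170063) (tt N20141 F170064) (tt N22125 (iv F176229)) (tt N19163 (iv D36697)) (tt N19291 F170065) (tt N19519 F170066) (tt N22109 (iv F176130)) (tt N22199 D38126) (tt N22120 (iv F176203)) (tt N22092 F176017))
theorem Q20772 : ∀ i, i < 20772 → P i := stepQ 20771 Q20771 (allL N20771 (tt N19167 F170067) (tt N20142 F170068) (tt N19527 F170069) (tt N22199 (iv F176649)) (tt N19164 F170070) (tt N19521 F170071) (tt N22200 D38127) (tt N19163 (iv D36698)) (tt N22201 D38128) (tt N22167 (iv F176478)))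
theorem Q20773 : ∀ i, i < 20773 → P i := stepQ 20772 Q20772 (allL N20772 (tt N19168 F170072) (tt N20143 F170073) (tt N19485 F170074) (tt N22120 (iv F176199)) (tt N19165 F170075) (tt N19479 F170076) (tt N22111 (iv F176145)) (tt N22201 (iv F176661)) (tt N19163 (iv D36699)) (tt N22116 (iv F176179)))
theorem Q20774 : ∀ i, i < 20774 → P i := stepQ 20773 Q20773 (allL N20773 (tt N19169 F170077) (tt N20144 F170078) (tt N19764 F170079) (tt N19293 F170080) (tt N22200 (iv F176655)) (tt N19804 F170081) (tt N19164 (iv D36700)) (tt N22112 (iv F176152)) (tt N22202 D38129) (tt N22168 (iv F176484)))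
theorem Q20775 : ∀ i, i < 20775 → P i := stepQ 20774 Q20774 (allL N20774 (tt N19170 F170082) (tt N20145 F170083) (tt N19756 F170084) (tt N19294 F170085) (tt N22201 (iv F176659)) (tt N19194 F170086) (tt N22202 (iv F176667)) (tt N19165 F170087) (tt N19164 (iv D36701)) (tt N22203 D38130))
theorem Q20776 : ∀ i, i < 20776 → P i := stepQ 20775 Q20775 (allL N20775 (tt N19171 F170088) (tt N19250 F170089) (tt N19759 F170090) (tt N19245 F170091) (tt N22116 (iv F176176)) (tt N19195 F170092) (tt N19297 F170093) (tt N22203 (iv F176673)) (tt N19243 F170094) (tt N19165 (iv D36702)))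
theorem Q20777 : ∀ i, i < 20777 → P i := stepQ 20776 Q20776 (allL N20776 (tt N22125 (iv F176227)) (tt N19578 F170095) (tt N19166 (iv D36703)) (tt N20084 F170096) (tt N19295 F170097) (tt N20081 F170098) (tt N22114 (iv F176165)) (tt N22204 D38131) (tt N22205 D38132) (tt N20149 F170099))
theorem Q20778 : ∀ i, i < 20778 → P i := stepQ 20777 Q20777 (allL N20777 (tt N22199 (iv F176647)) (tt N19172 F170100) (tt N22204 (iv F176676)) (tt N19167 F170101) (tt N19296 F170102) (tt N20333 F170103) (tt N22206 D38133) (tt N19166 (iv D36704)) (tt N22207 D38134) (tt N22170 (iv F176497)))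
theorem Q20779 : ∀ i, i < 20779 → P i := stepQ 20778 Q20778 (allL N20778 (tt N22120 (iv F176196)) (tt N19173 F170104) (tt N22205 (iv F176683)) (tt N19168 F170105) (tt N19297 F170106) (tt N20295 F170107) (tt N22116 (iv F176178)) (tt N22207 (iv F176696)) (tt N19166 (iv D36705)) (tt N22111 (iv F176146)))
theorem Q20780 : ∀ i, i < 20780 → P i := stepQ 20779 Q20779 (allL N20779 (tt N22200 (iv F176652)) (tt N19174 F170108) (tt N20341 F170109) (tt N22206 (iv F176690)) (tt N19169 F170110) (tt N22208 D38135) (tt N19167 (iv D36706)) (tt N22117 (iv F176183)) (tt N22209 D38136) (tt N22171 (iv F176501)))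
theorem Q20781 : ∀ i, i < 20781 → P i := stepQ 20780 Q20780 (allL N20780 (tt N22201 (iv F176656)) (tt N19175 F170111) (tt N20303 F170112) (tt N22207 (iv F176693)) (tt N19170 F170113) (tt N20297 F170114) (tt N22209 (iv F176703)) (tt N19168 F170115) (tt N19167 (iv D36707)) (tt N22210 D38137))
theorem Q20782 : ∀ i, i < 20782 → P i := stepQ 20781 Q20781 (allL N20781 (tt N22116 (iv F176172)) (tt N19177 F170116) (tt N20306 F170117) (tt N22111 (iv F176142)) (tt N19171 F170118) (tt N20298 F170119) (tt N22120 (iv F176202)) (tt N22210 (iv F176708)) (tt N22109 F176133) (tt N19168 (iv D36708)))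
theorem Q20783 : ∀ i, i < 20783 → P i := stepQ 20782 Q20782 (allL N20782 (tt N22202 (iv F176662)) (tt N19178 F170120) (tt N20430 F170121) (tt N19300 F170122) (tt N22209 (iv F176702)) (tt N22211 D38138) (tt N19170 F170123) (tt N22121 (iv F176208)) (tt N19169 (iv D36709)) (tt N22212 D38139))
theorem Q20784 : ∀ i, i < 20784 → P i := stepQ 20783 Q20783 (allL N20783 (tt N22203 (iv F176668)) (tt N19179 F170124) (tt N20431 F170125) (tt N19301 F170126) (tt N22210 (iv F176706)) (tt N19197 F170127) (tt N22212 (iv F176718)) (tt N19171 F170128) (tt N22175 (iv F176524)) (tt N19170 (iv D36710)))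
theorem Q20785 : ∀ i, i < 20785 → P i := stepQ 20784 Q20784 (allL N20784 (tt N20152 F170129) (tt N22206 (iv F176689)) (tt N19587 F170130) (tt N19174 F170131) (tt N19302 F170132) (tt N22213 D38140) (tt N19172 (iv D36711)) (tt N22123 (iv F176220)) (tt N22214 D38141) (tt N22176 (iv F176529)))
theorem Q20786 : ∀ i, i < 20786 → P i := stepQ 20785 Q20785 (allL N20785 (tt N20153 F170133) (tt N22207 (iv F176692)) (tt N19588 F170134) (tt N19175 F170135) (tt N19303 F170136) (tt N22215 D38142) (tt N22214 (iv F176726)) (tt N19173 F170137) (tt N19172 (iv D36712)) (tt N22216 D38143))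
theorem Q20787 : ∀ i, i < 20787 → P i := stepQ 20786 Q20786 (allL N20786 (tt N20154 F170138) (tt N20295 F170139) (tt N19589 F170140) (tt N19176 F170141) (tt N20786 F170142) (tt N19173 (iv D36713)) (tt N22217 D38144) (tt N22215 (iv F176732)) (tt N20291 F170143) (tt N22218 D38145))
theorem Q20788 : ∀ i, i < 20788 → P i := stepQ 20787 Q20787 (allL N20787 (tt N20077 F170144) (tt N22111 (iv F176140)) (tt N19590 F170145) (tt N19177 F170146) (tt N19304 F170147) (tt N22218 (iv F176753)) (tt N20143 F170148) (tt N22216 (iv F176738)) (tt N20073 F170149) (tt N19173 (iv D36714)))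
theorem Q20789 : ∀ i, i < 20789 → P i := stepQ 20788 Q20788 (allL N20788 (tt N20155 F170150) (tt N22208 (iv F176697)) (tt N19180 F170151) (tt N22213 (iv F176721)) (tt N22158 (iv F176426)) (tt N19174 (iv D36715)) (tt N21878 (iv F174626)) (tt N22126 (iv F176237)) (tt N22219 D38146) (tt N22178 (iv F176540)))
theorem Q20790 : ∀ i, i < 20790 → P i := stepQ 20789 Q20789 (allL N20789 (tt N20156 F170152) (tt N22209 (iv F176700)) (tt N19181 F170153) (tt N22214 (iv F176724)) (tt N19178 F170154) (tt N22220 D38147) (tt N19175 F170155) (tt N22127 (iv F176242)) (tt N19174 (iv D36716)) (tt N22221 D38148))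
theorem Q20791 : ∀ i, i < 20791 → P i := stepQ 20790 Q20790 (allL N20790 (tt N20157 F170156) (tt N20297 F170157) (tt N19182 F170158) (tt N22215 (iv F176730)) (tt N19199 F170159) (tt N19175 (iv D36717)) (tt N22222 D38149) (tt N19176 F170160) (tt N20292 F170161) (tt N22223 D38150))
theorem Q20792 : ∀ i, i < 20792 → P i := stepQ 20791 Q20791 (allL N20791 (tt N20158 F170162) (tt N22210 (iv F176704)) (tt N19183 F170163) (tt N22216 (iv F176736)) (tt N19179 F170164) (tt N22223 (iv F176773)) (tt N22221 (iv F176763)) (tt N19177 F170165) (tt N22181 (iv F176556)) (tt N19175 (iv D36718)))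
theorem Q20793 : ∀ i, i < 20793 → P i := stepQ 20792 Q20792 (allL N20792 (tt N20159 F170166) (tt N19871 F170167) (tt N19184 F170168) (tt N22217 (iv F176743)) (tt N19201 F170169) (tt N22130 (iv F176258)) (tt N19176 (iv D36719)) (tt N22224 D38151) (tt N19867 F170170) (tt N22225 D38152))
theorem Q20794 : ∀ i, i < 20794 → P i := stepQ 20793 Q20793 (allL N20793 (tt N19578 F170171) (tt N20298 F170172) (tt N19185 F170173) (tt N22218 (iv F176751)) (tt N19202 F170174) (tt N19177 F170175) (tt N22225 (iv F176786)) (tt N22223 (iv F176774)) (tt N22226 D38153) (tt N19176 (iv D36720)))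
theorem Q20795 : ∀ i, i < 20795 → P i := stepQ 20794 Q20794 (allL N20794 (tt N20160 F170176) (tt N22211 (iv F176710)) (tt N19186 F170177) (tt N19308 F170178) (tt N22227 D38154) (tt N19178 (iv D36721)) (tt N19203 F170179) (tt N22132 (iv F176273)) (tt N22058 (iv F175783)) (tt N22228 D38155))
theorem Q20796 : ∀ i, i < 20796 → P i := stepQ 20795 Q20795 (allL N20795 (tt N20161 F170180) (tt N22212 (iv F176715)) (tt N19187 F170181) (tt N19309 F170182) (tt N22221 (iv F176762)) (tt N22228 (iv F176802)) (tt N19179 F170183) (tt N22133 (iv F176278)) (tt N22185 (iv F176582)) (tt N19178 (iv D36722)))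
theorem Q20797 : ∀ i, i < 20797 → P i := stepQ 20796 Q20796 (allL N20796 (tt N20162 F170184) (tt N22046 (iv F175713)) (tt N22219 (iv F176757)) (tt N19598 F170185) (tt N22159 (iv F176430)) (tt N22229 D38156) (tt N21879 (iv F174633)) (tt N22134 (iv F176282)) (tt N19180 (iv D36723)) (tt N22230 D38157))
theorem Q20798 : ∀ i, i < 20798 → P i := stepQ 20797 Q20797 (allL N20797 (tt N20163 F170186) (tt N22047 (iv F175717)) (tt N22220 (iv F176759)) (tt N19599 F170187) (tt N22231 D38158) (tt N19181 (iv D36724)) (tt N22232 D38159) (tt N22135 (iv F176285)) (tt N22229 (iv F176806)) (tt N22233 D38160))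
theorem Q20799 : ∀ i, i < 20799 → P i := stepQ 20798 Q20798 (allL N20798 (tt N20164 F170188) (tt N22048 (iv F175720)) (tt N22221 (iv F176761)) (tt N19600 F170189) (tt N19187 F170190) (tt N22233 (iv F176816)) (tt N19183 F170191) (tt N22136 (iv F176290)) (tt N22188 (iv F176592)) (tt N19181 (iv D36725)))
theorem Q20800 : ∀ i, i < 20800 → P i := stepQ 20799 Q20799 (allL N20799 (tt N20165 F170192) (tt N22049 (iv F175725)) (tt N22222 (iv F176766)) (tt N19601 F170193) (tt N19206 F170194) (tt N22232 (iv F176813)) (tt N19182 (iv D36726)) (tt N22234 D38161) (tt N21882 (iv F174654)) (tt N22235 D38162))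
theorem Q20801 : ∀ i, i < 20801 → P i := stepQ 20800 Q20800 (allL N20800 (tt N19579 F170195) (tt N19616 F170196) (tt N22223 (iv F176771)) (tt N19470 F170197) (tt N19207 F170198) (tt N19183 F170199) (tt N22235 (iv F176825)) (tt N19185 F170200) (tt N22236 D38163) (tt N19182 (iv D36727)))
theorem Q20802 : ∀ i, i < 20802 → P i := stepQ 20801 Q20801 (allL N20801 (tt N20166 F170201) (tt N22050 (iv F175732)) (tt N22224 (iv F176777)) (tt N19602 F170202) (tt N19208 F170203) (tt N22139 (iv F176302)) (tt N22234 (iv F176820)) (tt N19184 (iv D36728)) (tt N21884 (iv F174668)) (tt N22237 D38164))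
theorem Q20803 : ∀ i, i < 20803 → P i := stepQ 20802 Q20802 (allL N20802 (tt N19512 F170204) (tt N19771 F170205) (tt N22225 (iv F176782)) (tt N19510 F170206) (tt N19209 F170207) (tt N22140 (iv F176308)) (tt N19185 F170208) (tt N22237 (iv F176835)) (tt N19792 (iv F170209)) (tt N19184 (iv D36729)))
theorem Q20804 : ∀ i, i < 20804 → P i := stepQ 20803 Q20803 (allL N20803 (tt N19580 F170210) (tt N19772 F170211) (tt N22226 (iv F176790)) (tt N19577 F170212) (tt N19210 F170213) (tt N22193 (iv F176619)) (tt N19792 F170214) (tt N22236 (iv F176830)) (tt N19185 (iv D36730)) (tt N21885 (iv F174677)))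
theorem Q20805 : ∀ i, i < 20805 → P i := stepQ 20804 Q20804 (allL N20804 (tt N20167 F170215) (tt N22051 (iv F175738)) (tt N22227 (iv F176797)) (tt N22238 D38165) (tt N19186 (iv D36731)) (tt N22231 (iv F176810)) (tt N19211 F170216) (tt N22142 (iv F176321)) (tt N22162 (iv F176445)) (tt N22239 D38166))
theorem Q20806 : ∀ i, i < 20806 → P i := stepQ 20805 Q20805 (allL N20805 (tt N20168 F170217) (tt N22052 (iv F175742)) (tt N22228 (iv F176800)) (tt N19189 F170218) (tt N22239 (iv F176841)) (tt N19187 F170219) (tt N19212 F170220) (tt N22143 (iv F176326)) (tt N22240 D38167) (tt N19186 (iv D36732)))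
theorem Q20807 : ∀ i, i < 20807 → P i := stepQ 20806 Q20806 (allL N20806 (tt N20169 F170221) (tt N22053 (iv F175747)) (tt N22163 (iv F176448)) (tt N19188 (iv D36733)) (tt N22238 (iv F176838)) (tt N19604 F170222) (tt N19213 F170223) (tt N22144 (iv F176331)) (tt N22164 (iv F176456)) (tt N22058 (iv F175784)))
theorem Q20808 : ∀ i, i < 20808 → P i := stepQ 20807 Q20807 (allL N20807 (tt N20171 F170224) (tt N22054 (iv F175753)) (tt N19313 F170225) (tt N22240 (iv F176844)) (tt N19308 F170226) (tt N22198 (iv F176643)) (tt N19214 F170227) (tt N22145 (iv F176337)) (tt N19189 (iv D36734)) (tt N22166 (iv F176472)))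
theorem Q20809 : ∀ i, i < 20809 → P i := stepQ 20808 Q20808 (allL N20808 (tt N20176 F170228) (tt N20435 F170229) (tt N22057 (iv F175772)) (tt N22241 D38168) (tt N19190 (iv D36735)) (tt N22055 (iv F175761)) (tt N22162 (iv F176444)) (tt N20808 F170230) (tt N19211 F170231) (tt N22242 D38169))
theorem Q20810 : ∀ i, i < 20810 → P i := stepQ 20809 Q20809 (allL N20809 (tt N20177 F170232) (tt N20436 F170233) (tt N19213 F170234) (tt N19193 F170235) (tt N22242 (iv F176854)) (tt N19191 F170236) (tt N22163 (iv F176451)) (tt N20809 F170237) (tt N22243 D38170) (tt N19190 (iv D36736)))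
theorem Q20811 : ∀ i, i < 20811 → P i := stepQ 20810 Q20810 (allL N20810 (tt N20178 F170238) (tt N20437 F170239) (tt N22243 (iv F176858)) (tt N19192 (iv D36737)) (tt N22241 (iv F176848)) (tt N20810 F170240) (tt N22164 (iv F176455)) (tt N20810 F170241) (tt N19213 F170242) (tt N22244 D38171))
theorem Q20812 : ∀ i, i < 20812 → P i := stepQ 20811 Q20811 (allL N20811 (tt N20179 F170243) (tt N20438 F170244) (tt N19316 F170245) (tt N22244 (iv F176866)) (tt N19193 F170246) (tt N20811 F170247) (tt N22165 (iv F176462)) (tt N20811 F170248) (tt N19318 F170249) (tt N19192 (iv D36738)))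
theorem Q20813 : ∀ i, i < 20813 → P i := stepQ 20812 Q20812 (allL N20812 (tt N20180 F170250) (tt N20439 F170251) (tt N19315 F170252) (tt N22243 (iv F176859)) (tt N19318 F170253) (tt N20812 F170254) (tt N22166 (iv F176470)) (tt N20812 F170255) (tt N19193 (iv D36739)) (tt N19214 F170256))
theorem Q20814 : ∀ i, i < 20814 → P i := stepQ 20813 Q20813 (allL N20813 (tt N19197 F170257) (tt N19810 F170258) (tt N19757 F170259) (tt N19317 F170260) (tt N19754 F170261) (tt N22203 (iv F176672)) (tt N19960 F170262) (tt N19195 F170263) (tt N20813 F170264) (tt N19194 (iv D36740)))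
theorem Q20815 : ∀ i, i < 20815 → P i := stepQ 20814 Q20814 (allL N20814 (tt N20189 F170265) (tt N19203 F170266) (tt N20428 F170267) (tt N19215 F170268) (tt N22245 D38172) (tt N19196 (iv D36741)) (tt N22211 (iv F176713)) (tt N20814 F170269) (tt N19205 F170270) (tt N22246 D38173))
theorem Q20816 : ∀ i, i < 20816 → P i := stepQ 20815 Q20815 (allL N20815 (tt N19960 F170271) (tt N19204 F170272) (tt N20429 F170273) (tt N19216 F170274) (tt N20427 F170275) (tt N22246 (iv F176880)) (tt N19197 F170276) (tt N20815 F170277) (tt N20815 F170278) (tt N19196 (iv D36742)))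
theorem Q20817 : ∀ i, i < 20817 → P i := stepQ 20816 Q20816 (allL N20816 (tt N20184 F170279) (tt N20426 F170280) (tt N19205 F170281) (tt N20816 F170282) (tt N22247 D38174) (tt N19198 (iv D36743)) (tt N22248 D38175) (tt N20816 F170283) (tt N20428 F170284) (tt N22063 (iv F175817)))
theorem Q20818 : ∀ i, i < 20818 → P i := stepQ 20817 Q20817 (allL N20817 (tt N20185 F170285) (tt N20299 F170286) (tt N19206 F170287) (tt N20817 F170288) (tt N22222 (iv F176767)) (tt N22248 (iv F176893)) (tt N19199 (iv D36744)) (tt N22249 D38176) (tt N20293 F170289) (tt N22250 D38177))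
theorem Q20819 : ∀ i, i < 20819 → P i := stepQ 20818 Q20818 (allL N20818 (tt N19671 F170290) (tt N20300 F170291) (tt N19207 F170292) (tt N20818 F170293) (tt N22223 (iv F176772)) (tt N19200 F170294) (tt N22250 (iv F176905)) (tt N19202 F170295) (tt N22251 D38178) (tt N19199 (iv D36745)))
theorem Q20820 : ∀ i, i < 20820 → P i := stepQ 20819 Q20819 (allL N20819 (tt N20186 F170296) (tt N19873 F170297) (tt N19208 F170298) (tt N20819 F170299) (tt N22224 (iv F176778)) (tt N20819 F170300) (tt N22249 (iv F176899)) (tt N19201 (iv D36746)) (tt N19868 F170301) (tt N22252 D38179))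
theorem Q20821 : ∀ i, i < 20821 → P i := stepQ 20820 Q20820 (allL N20820 (tt N19630 F170302) (tt N19874 F170303) (tt N19209 F170304) (tt N20820 F170305) (tt N22225 (iv F176784)) (tt N20820 F170306) (tt N19202 F170307) (tt N22252 (iv F176918)) (tt N19812 F170308) (tt N19201 (iv D36747)))
theorem Q20822 : ∀ i, i < 20822 → P i := stepQ 20821 Q20821 (allL N20821 (tt N19672 F170309) (tt N19963 F170310) (tt N19210 F170311) (tt N20821 F170312) (tt N22226 (iv F176792)) (tt N20821 F170313) (tt N19812 F170314) (tt N22251 (iv F176911)) (tt N19202 (iv D36748)) (tt N20054 F170315))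
theorem Q20823 : ∀ i, i < 20823 → P i := stepQ 20822 Q20822 (allL N20822 (tt N20187 F170316) (tt N22245 (iv F176871)) (tt N19211 F170317) (tt N22253 D38180) (tt N19203 (iv D36749)) (tt N22247 (iv F176886)) (tt N22227 (iv F176798)) (tt N20822 F170318) (tt N22057 (iv F175776)) (tt N22254 D38181))
theorem Q20824 : ∀ i, i < 20824 → P i := stepQ 20823 Q20823 (allL N20823 (tt N20188 F170319) (tt N22246 (iv F176877)) (tt N19212 F170320) (tt N19318 F170321) (tt N22254 (iv F176926)) (tt N19204 F170322) (tt N22228 (iv F176803)) (tt N20823 F170323) (tt N22244 (iv F176869)) (tt N19203 (iv D36750)))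
theorem Q20825 : ∀ i, i < 20825 → P i := stepQ 20824 Q20824 (allL N20824 (tt N20190 F170324) (tt N22057 (iv F175771)) (tt N22247 (iv F176885)) (tt N22061 (iv F175801)) (tt N19205 (iv D36751)) (tt N19211 F170325) (tt N22255 D38182) (tt N20824 F170326) (tt N22245 (iv F176875)) (tt N22060 F175798))
theorem Q20826 : ∀ i, i < 20826 → P i := stepQ 20825 Q20825 (allL N20825 (tt N20191 F170327) (tt N22058 (iv F175779)) (tt N22248 (iv F176891)) (tt N19217 F170328) (tt N22255 (iv F176929)) (tt N19206 F170329) (tt N19205 (iv D36752)) (tt N22256 D38183) (tt N22211 (iv F176714)) (tt N22053 (iv F175751)))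
theorem Q20827 : ∀ i, i < 20827 → P i := stepQ 20826 Q20826 (allL N20826 (tt N20192 F170330) (tt N22059 (iv F175786)) (tt N22249 (iv F176897)) (tt N19218 F170331) (tt N22234 (iv F176819)) (tt N22256 (iv F176932)) (tt N19208 F170332) (tt N19206 (iv D36753)) (tt N21886 (iv F174684)) (tt N22257 D38184))
theorem Q20828 : ∀ i, i < 20828 → P i := stepQ 20827 Q20827 (allL N20827 (tt N19673 F170333) (tt N19604 F170334) (tt N22250 (iv F176903)) (tt N19219 F170335) (tt N22235 (iv F176824)) (tt N22053 (iv F175748)) (tt N19207 F170336) (tt N22257 (iv F176938)) (tt N22258 D38185) (tt N19206 (iv D36754)))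
theorem Q20829 : ∀ i, i < 20829 → P i := stepQ 20828 Q20828 (allL N20828 (tt N19674 F170337) (tt N19608 F170338) (tt N22251 (iv F176908)) (tt N19220 F170339) (tt N22236 (iv F176829)) (tt N20828 F170340) (tt N22258 (iv F176943)) (tt N19210 F170341) (tt N19207 (iv D36755)) (tt N21888 (iv F174699)))
theorem Q20830 : ∀ i, i < 20830 → P i := stepQ 20829 Q20829 (allL N20829 (tt N19631 F170342) (tt N19769 F170343) (tt N22252 (iv F176915)) (tt N19221 F170344) (tt N22237 (iv F176834)) (tt N20829 F170345) (tt N22257 (iv F176937)) (tt N19209 F170346) (tt N19813 (iv F170347)) (tt N19208 (iv D36756)))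
theorem Q20831 : ∀ i, i < 20831 → P i := stepQ 20830 Q20830 (allL N20830 (tt N20193 F170348) (tt N22060 (iv F175793)) (tt N22242 (iv F176853)) (tt N19211 (iv D36757)) (tt N19213 F170349) (tt N22061 (iv F175803)) (tt N22238 (iv F176839)) (tt N20830 F170350) (tt N22241 (iv F176850)) (tt N22057 (iv F175777)))
theorem Q20832 : ∀ i, i < 20832 → P i := stepQ 20831 Q20831 (allL N20831 (tt N20194 F170351) (tt N22061 (iv F175800)) (tt N22254 (iv F176925)) (tt N22057 (iv F175773)) (tt N19212 F170352) (tt N22060 (iv F175795)) (tt N22239 (iv F176842)) (tt N20831 F170353) (tt N22253 (iv F176923)) (tt N19211 (iv D36758)))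
theorem Q20833 : ∀ i, i < 20833 → P i := stepQ 20832 Q20832 (allL N20832 (tt N20195 F170354) (tt N22062 (iv F175806)) (tt N22244 (iv F176865)) (tt N19214 F170355) (tt N22253 (iv F176921)) (tt N20832 F170356) (tt N22240 (iv F176845)) (tt N20832 F170357) (tt N19212 (iv D36759)) (tt N22243 (iv F176862)))
theorem Q20834 : ∀ i, i < 20834 → P i := stepQ 20833 Q20833 (allL N20833 (tt N20196 F170358) (tt N19308 F170359) (tt N20833 F170360) (tt N22211 (iv F176712)) (tt N22054 (iv F175755)) (tt N19300 F170361) (tt N19215 (iv D36760)) (tt N22259 D38186) (tt N19217 F170362) (tt N22260 D38187))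
theorem Q20835 : ∀ i, i < 20835 → P i := stepQ 20834 Q20834 (allL N20834 (tt N19987 F170363) (tt N19318 F170364) (tt N20834 F170365) (tt N22246 (iv F176879)) (tt N20439 F170366) (tt N19216 F170367) (tt N22260 (iv F176956)) (tt N20834 F170368) (tt N20438 F170369) (tt N19215 (iv D36761)))
theorem Q20836 : ∀ i, i < 20836 → P i := stepQ 20835 Q20835 (allL N20835 (tt N20197 F170370) (tt N22064 (iv F175819)) (tt N20835 F170371) (tt N22256 (iv F176931)) (tt N22038 (iv F175670)) (tt N19218 F170372) (tt N20835 F170373) (tt N19217 (iv D36762)) (tt N22259 (iv F176950)) (tt N22037 F175666))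
theorem Q20837 : ∀ i, i < 20837 → P i := stepQ 20836 Q20836 (allL N20836 (tt N19633 F170374) (tt N19533 F170375) (tt N20836 F170376) (tt N22257 (iv F176936)) (tt N19404 F170377) (tt N22037 (iv F175662)) (tt N19221 F170378) (tt N19219 F170379) (tt N19814 (iv F170380)) (tt N19218 (iv D36763)))
theorem Q20838 : ∀ i, i < 20838 → P i := stepQ 20837 Q20837 (allL N20837 (tt N19677 F170381) (tt N19558 F170382) (tt N20837 F170383) (tt N22258 (iv F176942)) (tt N19427 F170384) (tt N22261 D38188) (tt N19220 F170385) (tt N19814 F170386) (tt N19219 (iv D36764)) (tt N21889 (iv F174706)))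
theorem Q20839 : ∀ i, i < 20839 → P i := stepQ 20838 Q20838 (allL N20838 (tt N20202 F170387) (tt N20838 F170388) (tt N21922 (iv F174926)) (tt N19655 F170389) (tt N19255 F170390) (tt N19224 (iv D36765)) (tt N20838 F170391) (tt N19270 F170392) (tt N19629 F170393) (tt N19653 F170394))
theorem Q20840 : ∀ i, i < 20840 → P i := stepQ 20839 Q20839 (allL N20839 (tt N20203 F170395) (tt N20839 F170396) (tt N22064 (iv F175820)) (tt N19226 F170397) (tt N19260 F170398) (tt N19225 (iv D36766)) (tt N20839 F170399) (tt N19271 F170400) (tt N19257 F170401) (tt N19259 F170402))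
theorem Q20841 : ∀ i, i < 20841 → P i := stepQ 20840 Q20840 (allL N20840 (tt N20204 F170403) (tt N20840 F170404) (tt N22087 (iv F175976)) (tt N19981 (iv F170410)) (tt N19226 (iv D36767)) (tt N19817 F170405) (tt N20840 F170406) (tt N19272 F170407) (tt N19259 F170408) (tt N19983 F170409))
theorem Q20842 : ∀ i, i < 20842 → P i := stepQ 20841 Q20841 (allL N20841 (tt N19230 F170411) (tt N19282 F170412) (tt N20841 F170413) (tt N22089 (iv F175993)) (tt N19278 F170414) (tt N19228 F170415) (tt N22262 D38189) (tt N19227 (iv D36768)) (tt N19276 F170416) (tt N19241 F170417))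
theorem Q20843 : ∀ i, i < 20843 → P i := stepQ 20842 Q20842 (allL N20842 (tt N19278 F170418) (tt N19233 F170419) (tt N20842 F170420) (tt N22169 (iv F176488)) (tt N19230 F170421) (tt N20842 F170422) (tt N22263 D38190) (tt N19229 (iv D36769)) (tt N19274 F170423) (tt N19244 F170424))
theorem Q20844 : ∀ i, i < 20844 → P i := stepQ 20843 Q20843 (allL N20843 (tt N22262 (iv F176965)) (tt N19234 F170425) (tt N20843 F170426) (tt N22093 (iv F176020)) (tt N22263 (iv F176976)) (tt N20443 F170427) (tt N19230 (iv D36770)) (tt N19277 F170428) (tt N22264 D38191) (tt N19246 F170429))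
theorem Q20845 : ∀ i, i < 20845 → P i := stepQ 20844 Q20844 (allL N20844 (tt N19276 F170430) (tt N19235 F170431) (tt N20844 F170432) (tt N22094 (iv F176027)) (tt N19274 F170433) (tt N19321 F170434) (tt N22264 (iv F176984)) (tt N19231 F170435) (tt N19230 (iv D36771)) (tt N19292 (iv F170436)))
theorem Q20846 : ∀ i, i < 20846 → P i := stepQ 20845 Q20845 (allL N20845 (tt N20124 F170437) (tt N22169 (iv F176486)) (tt N19618 F170438) (tt N19233 F170439) (tt N22095 (iv F176034)) (tt N20845 F170440) (tt N22265 D38192) (tt N19232 (iv D36772)) (tt N20121 F170441) (tt N19249 F170442))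
theorem Q20847 : ∀ i, i < 20847 → P i := stepQ 20846 Q20846 (allL N20846 (tt N20206 F170443) (tt N22263 (iv F176974)) (tt N19236 F170444) (tt N22265 (iv F176990)) (tt N19234 F170445) (tt N22266 D38193) (tt N19233 (iv D36773)) (tt N19281 F170446) (tt N20232 F170447) (tt N19251 F170448))
theorem Q20848 : ∀ i, i < 20848 → P i := stepQ 20847 Q20847 (allL N20847 (tt N20207 F170449) (tt N22264 (iv F176981)) (tt N19237 F170450) (tt N22099 (iv F176059)) (tt N20232 F170451) (tt N22267 D38194) (tt N19235 F170452) (tt N19283 F170453) (tt N19234 (iv D36774)) (tt N20241 (iv F170454)))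
theorem Q20849 : ∀ i, i < 20849 → P i := stepQ 20848 Q20848 (allL N20848 (tt N20208 F170455) (tt N20848 F170456) (tt N22266 (iv F176995)) (tt N19624 F170457) (tt N19653 F170458) (tt N19236 (iv D36775)) (tt N20848 F170459) (tt N19285 F170460) (tt N19687 F170461) (tt N19255 F170462))
theorem Q20850 : ∀ i, i < 20850 → P i := stepQ 20849 Q20849 (allL N20849 (tt N20209 F170463) (tt N20849 F170464) (tt N22267 (iv F177003)) (tt N19238 F170465) (tt N19669 F170466) (tt N19237 (iv D36776)) (tt N19696 F170467) (tt N19287 F170468) (tt N19652 F170469) (tt N19668 F170470))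
theorem Q20851 : ∀ i, i < 20851 → P i := stepQ 20850 Q20850 (allL N20850 (tt N20210 F170471) (tt N20850 F170472) (tt N22108 (iv F176120)) (tt N19668 F170473) (tt N19670 F170474) (tt N19239 F170475) (tt N19700 F170476) (tt N19290 F170477) (tt N19982 F170478) (tt N19238 (iv D36777)))
theorem Q20852 : ∀ i, i < 20852 → P i := stepQ 20851 Q20851 (allL N20851 (tt N19244 F170479) (tt N19284 F170480) (tt N20851 F170481) (tt N22175 (iv F176521)) (tt N19241 F170482) (tt N20851 F170483) (tt N22268 D38195) (tt N19240 (iv D36778)) (tt N19301 F170484) (tt N19278 F170485))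
theorem Q20853 : ∀ i, i < 20853 → P i := stepQ 20852 Q20852 (allL N20852 (tt N19246 F170486) (tt N20211 F170487) (tt N20852 F170488) (tt N22112 (iv F176150)) (tt N22268 (iv F177012)) (tt N19807 F170489) (tt N19241 (iv D36779)) (tt N19293 F170490) (tt N22269 D38196) (tt N22262 (iv F176972)))
theorem Q20854 : ∀ i, i < 20854 → P i := stepQ 20853 Q20853 (allL N20853 (tt N19247 F170491) (tt N19307 F170492) (tt N20853 F170493) (tt N22113 (iv F176156)) (tt N19301 F170494) (tt N20853 F170495) (tt N22269 (iv F177022)) (tt N19242 F170496) (tt N19241 (iv D36780)) (tt N19299 F170497))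
theorem Q20855 : ∀ i, i < 20855 → P i := stepQ 20854 Q20854 (allL N20854 (tt N20434 F170498) (tt N19630 F170499) (tt N19243 (iv D36781)) (tt N20854 F170500) (tt N22114 (iv F176163)) (tt N20854 F170501) (tt N19295 F170502) (tt N22270 D38197) (tt N19759 F170503) (tt N19767 F170504))
theorem Q20856 : ∀ i, i < 20856 → P i := stepQ 20855 Q20855 (allL N20855 (tt N22175 (iv F176518)) (tt N19249 F170505) (tt N22270 (iv F177027)) (tt N19244 F170506) (tt N22115 (iv F176170)) (tt N20855 F170507) (tt N22271 D38198) (tt N19243 (iv D36782)) (tt N22203 (iv F176674)) (tt N22169 F176491))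
theorem Q20857 : ∀ i, i < 20857 → P i := stepQ 20856 Q20856 (allL N20856 (tt N22268 (iv F177009)) (tt N19251 F170508) (tt N20856 F170509) (tt N22271 (iv F177033)) (tt N19246 F170510) (tt N21998 (iv F175392)) (tt N19244 (iv D36783)) (tt N19298 F170511) (tt N22272 D38199) (tt N22263 (iv F176979)))
theorem Q20858 : ∀ i, i < 20858 → P i := stepQ 20857 Q20857 (allL N20857 (tt N19301 F170512) (tt N19252 F170513) (tt N20857 F170514) (tt N22203 (iv F176671)) (tt N19247 F170515) (tt N19317 (iv F170518)) (tt N22272 (iv F177039)) (tt N19245 F170516) (tt N19244 (iv D36784)) (tt N19294 F170517))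
theorem Q20859 : ∀ i, i < 20859 → P i := stepQ 20858 Q20858 (allL N20858 (tt N22269 (iv F177017)) (tt N19253 F170519) (tt N20858 F170520) (tt N22121 (iv F176206)) (tt N22272 (iv F177038)) (tt N22259 (iv F176948)) (tt N19247 F170521) (tt N19300 F170522) (tt N19246 (iv D36785)) (tt N22273 D38200))
theorem Q20860 : ∀ i, i < 20860 → P i := stepQ 20859 Q20859 (allL N20859 (tt N19299 F170523) (tt N19254 F170524) (tt N20859 F170525) (tt N22122 (iv F176212)) (tt N19294 F170526) (tt N20859 F170527) (tt N22273 (iv F177047)) (tt N19248 F170528) (tt N19292 F170529) (tt N19247 (iv D36786)))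
theorem Q20861 : ∀ i, i < 20861 → P i := stepQ 20860 Q20860 (allL N20860 (tt N20214 F170530) (tt N22271 (iv F177032)) (tt N19638 F170531) (tt N19251 F170532) (tt N22123 (iv F176219)) (tt N22274 D38201) (tt N19249 (iv D36787)) (tt N19302 F170533) (tt N22275 D38202) (tt N22265 (iv F176993)))
theorem Q20862 : ∀ i, i < 20862 → P i := stepQ 20861 Q20861 (allL N20861 (tt N20151 F170534) (tt N22203 (iv F176669)) (tt N19639 F170535) (tt N19252 F170536) (tt N22124 (iv F176224)) (tt N19810 (iv F170539)) (tt N22275 (iv F177058)) (tt N19250 F170537) (tt N19249 (iv D36788)) (tt N20145 F170538))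
theorem Q20863 : ∀ i, i < 20863 → P i := stepQ 20862 Q20862 (allL N20862 (tt N20215 F170540) (tt N21998 (iv F175389)) (tt N19255 F170541) (tt N22274 (iv F177052)) (tt N21922 (iv F174927)) (tt N19251 (iv D36789)) (tt N20862 F170542) (tt N19305 F170543) (tt N22276 D38203) (tt N22266 (iv F177000)))
theorem Q20864 : ∀ i, i < 20864 → P i := stepQ 20863 Q20863 (allL N20863 (tt N20216 F170544) (tt N22272 (iv F177036)) (tt N19256 F170545) (tt N22275 (iv F177057)) (tt N19253 F170546) (tt N19984 (iv F170550)) (tt N19252 F170547) (tt N19306 F170548) (tt N19251 (iv D36790)) (tt N20242 F170549))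
theorem Q20865 : ∀ i, i < 20865 → P i := stepQ 20864 Q20864 (allL N20864 (tt N20217 F170551) (tt N22259 (iv F176946)) (tt N19257 F170552) (tt N22132 (iv F176271)) (tt N22145 (iv F176334)) (tt N19253 (iv D36791)) (tt N20864 F170553) (tt N19308 F170554) (tt N22064 (iv F175824)) (tt N22277 D38204))
theorem Q20866 : ∀ i, i < 20866 → P i := stepQ 20865 Q20865 (allL N20865 (tt N20218 F170555) (tt N22273 (iv F177044)) (tt N19258 F170556) (tt N22133 (iv F176276)) (tt N20242 F170557) (tt N22277 (iv F177072)) (tt N19254 F170558) (tt N19309 F170559) (tt N20241 F170560) (tt N19253 (iv D36792)))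
theorem Q20867 : ∀ i, i < 20867 → P i := stepQ 20866 Q20866 (allL N20866 (tt N20219 F170561) (tt N20866 F170562) (tt N22276 (iv F177063)) (tt N19289 F170563) (tt N19629 F170564) (tt N19670 F170565) (tt N20866 F170566) (tt N19310 F170567) (tt N19255 (iv D36793)) (tt N19628 F170568))
theorem Q20868 : ∀ i, i < 20868 → P i := stepQ 20867 Q20867 (allL N20867 (tt N20220 F170569) (tt N20867 F170570) (tt N22145 (iv F176333)) (tt N19983 F170571) (tt N19257 (iv D36794)) (tt N19982 F170572) (tt N20867 F170573) (tt N19313 F170574) (tt N19260 F170575) (tt N19981 (iv F170576)))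
theorem Q20869 : ∀ i, i < 20869 → P i := stepQ 20868 Q20868 (allL N20868 (tt N20221 F170577) (tt N20868 F170578) (tt N22277 (iv F177070)) (tt N19260 F170579) (tt N19981 F170580) (tt N19258 F170581) (tt N20868 F170582) (tt N19314 F170583) (tt N19983 F170584) (tt N19257 (iv D36795)))
theorem Q20870 : ∀ i, i < 20870 → P i := stepQ 20869 Q20869 (allL N20869 (tt N19786 F170585) (tt N19262 F170586) (tt N20869 F170587) (tt N22147 (iv F176350)) (tt N19829 F170588) (tt N19648 F170589) (tt N19261 (iv D36796)) (tt N19428 F170590) (tt N19845 F170591) (tt N19386 F170592))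
theorem Q20871 : ∀ i, i < 20871 → P i := stepQ 20870 Q20870 (allL N20870 (tt N20222 F170593) (tt N20870 F170594) (tt N21903 (iv F174803)) (tt N19270 F170595) (tt N19652 F170596) (tt N19263 (iv D36797)) (tt N19319 F170597) (tt N19655 F170598) (tt N19669 F170599) (tt N19617 F170600))
theorem Q20872 : ∀ i, i < 20872 → P i := stepQ 20871 Q20871 (allL N20871 (tt N20223 F170601) (tt N20871 F170602) (tt N22152 (iv F176386)) (tt N19970 (iv F170608)) (tt N19264 (iv D36798)) (tt N19272 F170603) (tt N20871 F170604) (tt N19817 F170605) (tt N19654 F170606) (tt N19971 F170607))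
theorem Q20873 : ∀ i, i < 20873 → P i := stepQ 20872 Q20872 (allL N20872 (tt N20226 F170609) (tt N21889 (iv F174701)) (tt N19268 F170610) (tt N22154 (iv F176399)) (tt N19559 F170611) (tt N22278 D38205) (tt N19266 F170612) (tt N19650 F170613) (tt N19265 (iv D36799)) (tt N19558 F170614))
theorem Q20874 : ∀ i, i < 20874 → P i := stepQ 20873 Q20873 (allL N20873 (tt N20227 F170615) (tt N20873 F170616) (tt N22278 (iv F177077)) (tt N19269 F170617) (tt N19655 F170618) (tt N19268 (iv D36800)) (tt N20873 F170619) (tt N19652 F170620) (tt N19287 F170621) (tt N19654 F170622))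
theorem Q20875 : ∀ i, i < 20875 → P i := stepQ 20874 Q20874 (allL N20874 (tt N20230 F170623) (tt N20874 F170624) (tt N22166 (iv F176467)) (tt N19272 (iv D36801)) (tt N19314 F170625) (tt N19970 F170626) (tt N19315 F170627) (tt N19981 F170628) (tt N19273 F170629) (tt N19313 (iv F170630)))
theorem Q20876 : ∀ i, i < 20876 → P i := stepQ 20875 Q20875 (allL N20875 (tt N20231 F170631) (tt N20875 F170632) (tt N22165 (iv F176459)) (tt N19313 F170633) (tt N19273 F170634) (tt N19971 F170635) (tt N19316 F170636) (tt N19983 F170637) (tt N19314 F170638) (tt N19272 (iv D36802)))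
theorem Q20877 : ∀ i, i < 20877 → P i := stepQ 20876 Q20876 (allL N20876 (tt N19277 F170639) (tt N20232 F170640) (tt N20876 F170641) (tt N22168 (iv F176482)) (tt N22264 (iv F176983)) (tt N19808 F170642) (tt N19274 (iv D36803)) (tt N22262 (iv F176970)) (tt N22263 (iv F176978)) (tt N19293 F170643))
theorem Q20878 : ∀ i, i < 20878 → P i := stepQ 20877 Q20877 (allL N20877 (tt N22094 (iv F176024)) (tt N19279 F170644) (tt N20182 F170645) (tt N19276 F170646) (tt N22170 (iv F176495)) (tt N19323 F170647) (tt N22279 D38206) (tt N19275 (iv D36804)) (tt N22089 (iv F175995)) (tt N19296 F170648))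
theorem Q20879 : ∀ i, i < 20879 → P i := stepQ 20878 Q20878 (allL N20878 (tt N22264 (iv F176980)) (tt N19281 F170649) (tt N20878 F170650) (tt N22279 (iv F177085)) (tt N19277 F170651) (tt N21999 (iv F175398)) (tt N19276 (iv D36805)) (tt N22263 (iv F176977)) (tt N22262 (iv F176971)) (tt N19298 F170652))
theorem Q20880 : ∀ i, i < 20880 → P i := stepQ 20879 Q20879 (allL N20879 (tt N22263 (iv F176973)) (tt N19283 F170653) (tt N20879 F170654) (tt N22174 (iv F176516)) (tt N22262 (iv F176968)) (tt N22280 D38207) (tt N19278 F170655) (tt N22264 (iv F176985)) (tt N19277 (iv D36806)) (tt N22268 (iv F177015)))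
theorem Q20881 : ∀ i, i < 20881 → P i := stepQ 20880 Q20880 (allL N20880 (tt N20233 F170656) (tt N22279 (iv F177083)) (tt N19658 F170657) (tt N19281 F170658) (tt N22176 (iv F176528)) (tt N22281 D38208) (tt N19279 (iv D36807)) (tt N22265 (iv F176991)) (tt N22282 D38209) (tt N19302 F170659))
theorem Q20882 : ∀ i, i < 20882 → P i := stepQ 20881 Q20881 (allL N20881 (tt N20010 F170660) (tt N22089 (iv F175991)) (tt N19659 F170661) (tt N19282 F170662) (tt N22177 (iv F176533)) (tt N19787 F170663) (tt N22282 (iv F177102)) (tt N19280 F170664) (tt N19279 (iv D36808)) (tt N20074 (iv F170665)))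
theorem Q20883 : ∀ i, i < 20883 → P i := stepQ 20882 Q20882 (allL N20882 (tt N20234 F170666) (tt N21999 (iv F175395)) (tt N19285 F170667) (tt N22281 (iv F177095)) (tt N19928 F170668) (tt N19281 (iv D36809)) (tt N19326 F170669) (tt N22266 (iv F176998)) (tt N19927 (iv F170671)) (tt N19305 F170670))
theorem Q20884 : ∀ i, i < 20884 → P i := stepQ 20883 Q20883 (allL N20883 (tt N20205 F170672) (tt N22262 (iv F176966)) (tt N19286 F170673) (tt N22282 (iv F177101)) (tt N19283 F170674) (tt N20444 (iv F170678)) (tt N19282 F170675) (tt N20232 F170676) (tt N19281 (iv D36810)) (tt N20211 (iv F170677)))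
theorem Q20885 : ∀ i, i < 20885 → P i := stepQ 20884 Q20884 (allL N20884 (tt N20235 F170679) (tt N22280 (iv F177087)) (tt N19287 F170680) (tt N22184 (iv F176575)) (tt N22283 D38210) (tt N19283 (iv D36811)) (tt N20884 F170681) (tt N22267 (iv F177006)) (tt N22278 (iv F177081)) (tt N22284 D38211))
theorem Q20886 : ∀ i, i < 20886 → P i := stepQ 20885 Q20885 (allL N20885 (tt N20212 F170682) (tt N22268 (iv F177010)) (tt N19288 F170683) (tt N22185 (iv F176579)) (tt N20211 F170684) (tt N22284 (iv F177118)) (tt N19284 F170685) (tt N20241 F170686) (tt N19309 F170687) (tt N19283 (iv D36812)))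
theorem Q20887 : ∀ i, i < 20887 → P i := stepQ 20886 Q20886 (allL N20886 (tt N20236 F170688) (tt N20886 F170689) (tt N22283 (iv F177108)) (tt N19629 F170690) (tt N19287 (iv D36813)) (tt N19627 F170691) (tt N20886 F170692) (tt N19669 F170693) (tt N19655 F170694) (tt N19626 (iv F170695)))
theorem Q20888 : ∀ i, i < 20888 → P i := stepQ 20887 Q20887 (allL N20887 (tt N20237 F170696) (tt N20887 F170697) (tt N22284 (iv F177116)) (tt N19290 F170698) (tt N19626 F170699) (tt N19288 F170700) (tt N20887 F170701) (tt N19668 F170702) (tt N19971 F170703) (tt N19287 (iv D36814)))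
theorem Q20889 : ∀ i, i < 20889 → P i := stepQ 20888 Q20888 (allL N20888 (tt N20238 F170704) (tt N20888 F170705) (tt N22197 (iv F176634)) (tt N19628 F170706) (tt N19290 F170707) (tt N19310 F170708) (tt N20888 F170709) (tt N19670 F170710) (tt N19311 (iv F170711)) (tt N19289 (iv D36815)))
theorem Q20890 : ∀ i, i < 20890 → P i := stepQ 20889 Q20889 (allL N20889 (tt N20239 F170712) (tt N20889 F170713) (tt N22198 (iv F176641)) (tt N19971 F170714) (tt N19311 F170715) (tt N19313 F170716) (tt N20889 F170717) (tt N19982 F170718) (tt N19290 (iv D36816)) (tt N19970 F170719))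
theorem Q20891 : ∀ i, i < 20891 → P i := stepQ 20890 Q20890 (allL N20890 (tt N19295 F170720) (tt N19482 F170721) (tt N19291 (iv D36817)) (tt N20890 F170722) (tt N22125 (iv F176231)) (tt N19328 F170723) (tt N20434 F170724) (tt N22285 D38212) (tt N20433 F170725) (tt N19476 F170726))
theorem Q20892 : ∀ i, i < 20892 → P i := stepQ 20891 Q20891 (allL N20891 (tt N19296 F170727) (tt N20240 F170728) (tt N22285 (iv F177124)) (tt N19292 F170729) (tt N22199 (iv F176650)) (tt N19329 F170730) (tt N22286 D38213) (tt N19291 (iv D36818)) (tt N22122 (iv F176215)) (tt N22094 F176030))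
theorem Q20893 : ∀ i, i < 20893 → P i := stepQ 20892 Q20892 (allL N20892 (tt N19298 F170731) (tt N20241 F170732) (tt N20892 F170733) (tt N22286 (iv F177131)) (tt N19293 F170734) (tt N19952 F170735) (tt N19292 (iv D36819)) (tt N22268 (iv F177013)) (tt N22273 (iv F177049)) (tt N22264 F176987))
theorem Q20894 : ∀ i, i < 20894 → P i := stepQ 20893 Q20893 (allL N20893 (tt N19300 F170736) (tt N20242 F170737) (tt N20893 F170738) (tt N22202 (iv F176665)) (tt N22273 (iv F177046)) (tt N20196 F170739) (tt N19294 F170740) (tt N22269 (iv F177023)) (tt N19293 (iv D36820)) (tt N22272 (iv F177041)))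
theorem Q20895 : ∀ i, i < 20895 → P i := stepQ 20894 Q20894 (allL N20894 (tt N22285 (iv F177122)) (tt N19671 F170741) (tt N19296 F170742) (tt N20894 F170743) (tt N22204 (iv F176678)) (tt N19330 F170744) (tt N22287 D38214) (tt N19295 (iv D36821)) (tt N22288 D38215) (tt N20182 F170745))
theorem Q20896 : ∀ i, i < 20896 → P i := stepQ 20895 Q20895 (allL N20895 (tt N20433 F170746) (tt N19672 F170747) (tt N19297 F170748) (tt N20895 F170749) (tt N22205 (iv F176685)) (tt N20895 F170750) (tt N19759 F170751) (tt N22288 (iv F177142)) (tt N19295 (iv D36822)) (tt N19758 F170752))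
theorem Q20897 : ∀ i, i < 20897 → P i := stepQ 20896 Q20896 (allL N20896 (tt N22286 (iv F177129)) (tt N19302 F170753) (tt N22287 (iv F177134)) (tt N19298 F170754) (tt N22206 (iv F176691)) (tt N21996 (iv F175380)) (tt N19296 (iv D36823)) (tt N22271 (iv F177034)) (tt N22289 D38216) (tt N22279 (iv F177086)))
theorem Q20898 : ∀ i, i < 20898 → P i := stepQ 20897 Q20897 (allL N20897 (tt N22122 (iv F176209)) (tt N19303 F170755) (tt N22288 (iv F177139)) (tt N19299 F170756) (tt N22207 (iv F176694)) (tt N20897 F170757) (tt N22289 (iv F177146)) (tt N19297 F170758) (tt N19296 (iv D36824)) (tt N22113 (iv F176159)))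
theorem Q20899 : ∀ i, i < 20899 → P i := stepQ 20898 Q20898 (allL N20898 (tt N22273 (iv F177043)) (tt N19306 F170759) (tt N20898 F170760) (tt N22289 (iv F177145)) (tt N19300 F170761) (tt N22290 D38217) (tt N19299 F170762) (tt N22272 (iv F177040)) (tt N19298 (iv D36825)) (tt N22269 (iv F177024)))
theorem Q20900 : ∀ i, i < 20900 → P i := stepQ 20899 Q20899 (allL N20899 (tt N22272 (iv F177035)) (tt N19309 F170763) (tt N20899 F170764) (tt N22212 (iv F176717)) (tt N22269 (iv F177020)) (tt N22260 (iv F176955)) (tt N19301 F170765) (tt N22273 (iv F177048)) (tt N22268 (iv F177014)) (tt N19300 (iv D36826)))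
theorem Q20901 : ∀ i, i < 20901 → P i := stepQ 20900 Q20900 (allL N20900 (tt N20246 F170766) (tt N21996 (iv F175378)) (tt N19680 F170767) (tt N19305 F170768) (tt N22291 D38218) (tt N19302 (iv D36827)) (tt N19331 F170769) (tt N22274 (iv F177054)) (tt N22292 D38219) (tt N22281 (iv F177097)))
theorem Q20902 : ∀ i, i < 20902 → P i := stepQ 20901 Q20901 (allL N20901 (tt N20247 F170770) (tt N22289 (iv F177144)) (tt N19681 F170771) (tt N19306 F170772) (tt N22214 (iv F176725)) (tt N22293 D38220) (tt N19303 F170773) (tt N22275 (iv F177059)) (tt N19302 (iv D36828)) (tt N22294 D38221))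
theorem Q20903 : ∀ i, i < 20903 → P i := stepQ 20902 Q20902 (allL N20902 (tt N20079 F170774) (tt N22113 (iv F176154)) (tt N19682 F170775) (tt N19307 F170776) (tt N22216 (iv F176737)) (tt N20902 F170777) (tt N22294 (iv F177168)) (tt N19304 F170778) (tt N20074 F170779) (tt N19303 (iv D36829)))
theorem Q20904 : ∀ i, i < 20904 → P i := stepQ 20903 Q20903 (allL N20903 (tt N20248 F170780) (tt N21993 (iv F175359)) (tt N19310 F170781) (tt N22292 (iv F177157)) (tt N19576 F170782) (tt N22197 (iv F176636)) (tt N19332 F170783) (tt N22276 (iv F177067)) (tt N19305 (iv D36830)) (tt N19575 F170784))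
theorem Q20905 : ∀ i, i < 20905 → P i := stepQ 20904 Q20904 (allL N20904 (tt N20249 F170785) (tt N22290 (iv F177147)) (tt N19311 F170786) (tt N22293 (iv F177162)) (tt N22198 (iv F176642)) (tt N19306 (iv D36831)) (tt N20904 F170787) (tt N19984 F170788) (tt N22197 F176639) (tt N22295 D38222))
theorem Q20906 : ∀ i, i < 20906 → P i := stepQ 20905 Q20905 (allL N20905 (tt N20213 F170789) (tt N22269 (iv F177018)) (tt N19312 F170790) (tt N22294 (iv F177167)) (tt N19309 F170791) (tt N22295 (iv F177175)) (tt N19307 F170792) (tt N20242 F170793) (tt N20211 F170794) (tt N19306 (iv D36832)))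
theorem Q20907 : ∀ i, i < 20907 → P i := stepQ 20906 Q20906 (allL N20906 (tt N20250 F170795) (tt N22260 (iv F176952)) (tt N19314 F170796) (tt N22228 (iv F176801)) (tt N22166 (iv F176468)) (tt N19309 F170797) (tt N19318 F170798) (tt N22277 (iv F177074)) (tt N22165 (iv F176464)) (tt N19308 (iv D36833)))
theorem Q20908 : ∀ i, i < 20908 → P i := stepQ 20907 Q20907 (allL N20907 (tt N20251 F170799) (tt N20907 F170800) (tt N22295 (iv F177173)) (tt N19687 F170801) (tt N19970 F170802) (tt N19312 F170803) (tt N20907 F170804) (tt N19666 F170805) (tt N19624 F170806) (tt N19311 (iv D36834)))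
theorem Q20909 : ∀ i, i < 20909 → P i := stepQ 20908 Q20908 (allL N20908 (tt N19323 F170807) (tt N19734 F170808) (tt N19752 F170809) (tt N19321 F170810) (tt N19811 F170811) (tt N22094 (iv F176028)) (tt N19958 (iv F170814)) (tt N19320 (iv D36835)) (tt N19731 F170812) (tt N19329 F170813))
theorem Q20910 : ∀ i, i < 20910 → P i := stepQ 20909 Q20909 (allL N20909 (tt N20254 F170815) (tt N21997 (iv F175382)) (tt N19701 F170816) (tt N19326 F170817) (tt N22296 D38223) (tt N19325 (iv D36836)) (tt N22281 (iv F177096)) (tt N20909 F170818) (tt N19948 F170819) (tt N19331 F170820))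
theorem Q20911 : ∀ i, i < 20911 → P i := stepQ 20910 Q20910 (allL N20910 (tt N19330 F170821) (tt N19754 F170822) (tt N19329 F170823) (tt N20910 F170824) (tt N19810 F170825) (tt N22285 (iv F177126)) (tt N19957 (iv F170828)) (tt N19328 (iv D36837)) (tt N20910 F170826) (tt N19752 F170827))
theorem Q20912 : ∀ i, i < 20912 → P i := stepQ 20911 Q20911 (allL N20911 (tt N20256 F170829) (tt N21984 (iv F175308)) (tt N19706 F170830) (tt N21918 (iv F174899)) (tt N19331 (iv D36838)) (tt N21891 (iv F174719)) (tt N22291 (iv F177154)) (tt N20911 F170831) (tt N22297 D38224) (tt N22296 (iv F177185)))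
theorem Q20913 : ∀ i, i < 20913 → P i := stepQ 20912 Q20912 (allL N20912 (tt N20257 F170832) (tt N21992 (iv F175353)) (tt N19707 F170833) (tt N19332 F170834) (tt N22297 (iv F177189)) (tt N20912 F170835) (tt N22292 (iv F177158)) (tt N20912 F170836) (tt N19331 (iv D36839)) (tt N19727 F170837))
theorem Q20914 : ∀ i, i < 20914 → P i := stepQ 20913 Q20913 (allL N20913 (tt N19778 F170838) (tt N19335 F170839) (tt N19383 F170840) (tt N20128 (iv F170845)) (tt N19333 (iv D36840)) (tt N20009 F170841) (tt N19366 F170842) (tt N22298 D38225) (tt N19380 F170843) (tt N20061 F170844))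
theorem Q20915 : ∀ i, i < 20915 → P i := stepQ 20914 Q20914 (allL N20914 (tt N19780 F170846) (tt N19336 F170847) (tt N19385 F170848) (tt N20914 F170849) (tt N22298 (iv F177196)) (tt N19334 F170850) (tt N22299 D38226) (tt N19333 (iv D36841)) (tt N19381 F170851) (tt N20062 F170852))
theorem Q20916 : ∀ i, i < 20916 → P i := stepQ 20915 Q20915 (allL N20915 (tt N19392 F170853) (tt N20128 F170854) (tt N20283 F170855) (tt N19335 (iv D36842)) (tt N20915 F170856) (tt N20011 F170857) (tt N19368 F170858) (tt N22300 D38227) (tt N21953 (iv F175139)) (tt N20063 F170859))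
theorem Q20917 : ∀ i, i < 20917 → P i := stepQ 20916 Q20916 (allL N20916 (tt N19393 F170860) (tt N22298 (iv F177193)) (tt N19338 F170861) (tt N22300 (iv F177211)) (tt N19336 F170862) (tt N20012 F170863) (tt N22301 D38228) (tt N19335 (iv D36843)) (tt N22302 D38229) (tt N20064 F170864))
theorem Q20918 : ∀ i, i < 20918 → P i := stepQ 20917 Q20917 (allL N20917 (tt N19394 F170865) (tt N19380 F170866) (tt N19339 F170867) (tt N21953 (iv F175135)) (tt N19337 F170868) (tt N19993 (iv F170870)) (tt N19370 F170869) (tt N22302 (iv F177224)) (tt N19335 (iv D36844)) (tt N19833 (iv F170871)))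
theorem Q20919 : ∀ i, i < 20919 → P i := stepQ 20918 Q20918 (allL N20918 (tt N19395 F170872) (tt N22299 (iv F177201)) (tt N19340 F170873) (tt N20918 F170874) (tt N22301 (iv F177217)) (tt N19779 F170875) (tt N19336 (iv D36845)) (tt N19371 F170876) (tt N22303 D38230) (tt N20066 F170877))
theorem Q20920 : ∀ i, i < 20920 → P i := stepQ 20919 Q20919 (allL N20919 (tt N19396 F170878) (tt N19381 F170879) (tt N19341 F170880) (tt N20919 F170881) (tt N22302 (iv F177223)) (tt N19379 F170882) (tt N22303 (iv F177231)) (tt N19337 F170883) (tt N19336 (iv D36846)) (tt N19834 (iv F170884)))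
theorem Q20921 : ∀ i, i < 20921 → P i := stepQ 20920 Q20920 (allL N20920 (tt N19398 F170885) (tt N19791 F170886) (tt N22301 (iv F177216)) (tt N20286 F170887) (tt N19340 F170888) (tt N22304 D38231) (tt N19338 (iv D36847)) (tt N19373 F170889) (tt N22305 D38232) (tt N20068 F170890))
theorem Q20922 : ∀ i, i < 20922 → P i := stepQ 20921 Q20921 (allL N20921 (tt N19399 F170891) (tt N19491 F170892) (tt N22302 (iv F177222)) (tt N20287 F170893) (tt N19341 F170894) (tt N22013 (iv F175495)) (tt N22305 (iv F177246)) (tt N19339 F170895) (tt N19338 (iv D36848)) (tt N19884 (iv F170896)))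
theorem Q20923 : ∀ i, i < 20923 → P i := stepQ 20922 Q20922 (allL N20922 (tt N19402 F170897) (tt N19492 F170898) (tt N22303 (iv F177229)) (tt N19342 F170899) (tt N22305 (iv F177245)) (tt N19515 (iv F170902)) (tt N19341 F170900) (tt N19375 F170901) (tt N19340 (iv D36849)) (tt N19886 (iv F170903)))
theorem Q20924 : ∀ i, i < 20924 → P i := stepQ 20923 Q20923 (allL N20923 (tt N19447 F170904) (tt N19345 F170905) (tt N19577 F170906) (tt N22306 D38233) (tt N19343 (iv D36850)) (tt N19424 F170907) (tt N19774 F170908) (tt N22307 D38234) (tt N19443 F170909) (tt N19423 F170910))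
theorem Q20925 : ∀ i, i < 20925 → P i := stepQ 20924 Q20924 (allL N20924 (tt N19449 F170911) (tt N19346 F170912) (tt N19466 F170913) (tt N20924 F170914) (tt N22307 (iv F177260)) (tt N19344 F170915) (tt N22308 D38235) (tt N19343 (iv D36851)) (tt N19444 F170916) (tt N19465 F170917))
theorem Q20926 : ∀ i, i < 20926 → P i := stepQ 20925 Q20925 (allL N20925 (tt N19418 F170918) (tt N22306 (iv F177250)) (tt N19835 F170919) (tt N19345 (iv D36852)) (tt N20925 F170920) (tt N19545 F170921) (tt N19776 F170922) (tt N22309 D38236) (tt N22182 (iv F176563)) (tt N19544 F170923))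
theorem Q20927 : ∀ i, i < 20927 → P i := stepQ 20926 Q20926 (allL N20926 (tt N19419 F170924) (tt N22307 (iv F177258)) (tt N19348 F170925) (tt N22309 (iv F177274)) (tt N19346 F170926) (tt N19555 F170927) (tt N22310 D38237) (tt N19345 (iv D36853)) (tt N22311 D38238) (tt N19554 F170928))
theorem Q20928 : ∀ i, i < 20928 → P i := stepQ 20927 Q20927 (allL N20927 (tt N19366 F170929) (tt N19443 F170930) (tt N19349 F170931) (tt N22182 (iv F176560)) (tt N19347 F170932) (tt N19584 F170933) (tt N19778 F170934) (tt N22311 (iv F177288)) (tt N19345 (iv D36854)) (tt N19583 F170935))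
theorem Q20929 : ∀ i, i < 20929 → P i := stepQ 20928 Q20928 (allL N20928 (tt N19420 F170936) (tt N22308 (iv F177265)) (tt N19350 F170937) (tt N20928 F170938) (tt N22310 (iv F177280)) (tt N19371 F170939) (tt N19346 (iv D36855)) (tt N19779 F170940) (tt N22312 D38239) (tt N19606 F170941))
theorem Q20930 : ∀ i, i < 20930 → P i := stepQ 20929 Q20929 (allL N20929 (tt N19367 F170942) (tt N19444 F170943) (tt N19351 F170944) (tt N20929 F170945) (tt N22311 (iv F177286)) (tt N19365 F170946) (tt N22312 (iv F177295)) (tt N19347 F170947) (tt N19346 (iv D36856)) (tt N19609 F170948))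
theorem Q20931 : ∀ i, i < 20931 → P i := stepQ 20930 Q20930 (allL N20930 (tt N19421 F170949) (tt N19790 F170950) (tt N22310 (iv F177279)) (tt N19838 F170951) (tt N19350 F170952) (tt N22313 D38240) (tt N19348 (iv D36857)) (tt N19781 F170953) (tt N22314 D38241) (tt N19823 F170954))
theorem Q20932 : ∀ i, i < 20932 → P i := stepQ 20931 Q20931 (allL N20931 (tt N19422 F170955) (tt N19614 F170956) (tt N22311 (iv F177285)) (tt N19839 F170957) (tt N19351 F170958) (tt N22315 D38242) (tt N22314 (iv F177309)) (tt N19349 F170959) (tt N19348 (iv D36858)) (tt N22316 D38243))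
theorem Q20933 : ∀ i, i < 20933 → P i := stepQ 20932 Q20932 (allL N20932 (tt N19423 F170960) (tt N19455 F170961) (tt N19584 F170962) (tt N19840 F170963) (tt N19377 F170964) (tt N19349 (iv D36859)) (tt N22317 D38244) (tt N22315 (iv F177316)) (tt N19914 F170965) (tt N19447 (iv F170966)))
theorem Q20934 : ∀ i, i < 20934 → P i := stepQ 20933 Q20933 (allL N20933 (tt N19424 F170967) (tt N19454 F170968) (tt N19583 F170969) (tt N19841 F170970) (tt N19352 F170971) (tt N19447 F170972) (tt N19783 F170973) (tt N22316 (iv F177325)) (tt N19825 F170974) (tt N19349 (iv D36860)))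
theorem Q20935 : ∀ i, i < 20935 → P i := stepQ 20934 Q20934 (allL N20934 (tt N19425 F170975) (tt N19596 F170976) (tt N22312 (iv F177292)) (tt N19353 F170977) (tt N22314 (iv F177308)) (tt N19585 F170978) (tt N19351 F170979) (tt N19784 F170980) (tt N19350 (iv D36861)) (tt N22318 D38245))
theorem Q20936 : ∀ i, i < 20936 → P i := stepQ 20935 Q20935 (allL N20935 (tt N19426 F170981) (tt N19467 F170982) (tt N19609 F170983) (tt N19354 F170984) (tt N22316 (iv F177323)) (tt N19378 F170985) (tt N22318 (iv F177340)) (tt N19352 F170986) (tt N19827 F170987) (tt N19351 (iv D36862)))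
theorem Q20937 : ∀ i, i < 20937 → P i := stepQ 20936 Q20936 (allL N20936 (tt N19428 F170988) (tt N19686 F170989) (tt N20936 F170990) (tt N22318 (iv F177338)) (tt N19845 F170991) (tt N19679 F170992) (tt N19354 F170993) (tt N19786 F170994) (tt N19829 F170995) (tt N19353 (iv D36863)))
theorem Q20938 : ∀ i, i < 20938 → P i := stepQ 20937 Q20937 (allL N20937 (tt N19583 F170996) (tt N19357 F170997) (tt N19424 F170998) (tt N22193 (iv F176617)) (tt N19355 (iv D36864)) (tt N19577 F170999) (tt N20061 F171000) (tt N22319 D38246) (tt N19572 F171001) (tt N19366 F171002))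
theorem Q20939 : ∀ i, i < 20939 → P i := stepQ 20938 Q20938 (allL N20938 (tt N19609 F171003) (tt N19358 F171004) (tt N19426 F171005) (tt N20938 F171006) (tt N22319 (iv F177346)) (tt N19356 F171007) (tt N22320 D38247) (tt N19355 (iv D36865)) (tt N19722 F171008) (tt N19367 F171009))
theorem Q20940 : ∀ i, i < 20940 → P i := stepQ 20939 Q20939 (allL N20939 (tt N19429 F171010) (tt N22193 (iv F176615)) (tt N19869 F171011) (tt N19357 (iv D36866)) (tt N20939 F171012) (tt N19772 F171013) (tt N20063 F171014) (tt N22321 D38248) (tt N21936 (iv F175027)) (tt N19368 F171015))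
theorem Q20941 : ∀ i, i < 20941 → P i := stepQ 20940 Q20940 (allL N20940 (tt N19430 F171016) (tt N22319 (iv F177344)) (tt N19360 F171017) (tt N22321 (iv F177360)) (tt N19358 F171018) (tt N19607 F171019) (tt N22322 D38249) (tt N19357 (iv D36867)) (tt N22323 D38250) (tt N19369 F171020))
theorem Q20942 : ∀ i, i < 20942 → P i := stepQ 20941 Q20941 (allL N20941 (tt N19431 F171021) (tt N19572 F171022) (tt N19361 F171023) (tt N21936 (iv F175023)) (tt N19359 F171024) (tt N19438 F171025) (tt N20065 F171026) (tt N22323 (iv F177374)) (tt N19357 (iv D36868)) (tt N19437 F171027))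
theorem Q20943 : ∀ i, i < 20943 → P i := stepQ 20942 Q20942 (allL N20942 (tt N19432 F171028) (tt N22320 (iv F177351)) (tt N19362 F171029) (tt N20942 F171030) (tt N22322 (iv F177366)) (tt N19606 F171031) (tt N19358 (iv D36869)) (tt N20066 F171032) (tt N22324 D38251) (tt N19371 F171033))
theorem Q20944 : ∀ i, i < 20944 → P i := stepQ 20943 Q20943 (allL N20943 (tt N19433 F171034) (tt N19722 F171035) (tt N19363 F171036) (tt N20943 F171037) (tt N22323 (iv F177372)) (tt N19605 F171038) (tt N22324 (iv F177381)) (tt N19359 F171039) (tt N19358 (iv D36870)) (tt N19713 F171040))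
theorem Q20945 : ∀ i, i < 20945 → P i := stepQ 20944 Q20944 (allL N20944 (tt N19435 F171041) (tt N20258 F171042) (tt N22322 (iv F177365)) (tt N19875 F171043) (tt N19362 F171044) (tt N22325 D38252) (tt N19360 (iv D36871)) (tt N20068 F171045) (tt N22326 D38253) (tt N19373 F171046))
theorem Q20946 : ∀ i, i < 20946 → P i := stepQ 20945 Q20945 (allL N20945 (tt N19436 F171047) (tt N19912 F171048) (tt N22323 (iv F177371)) (tt N19876 F171049) (tt N19363 F171050) (tt N22327 D38254) (tt N22326 (iv F177395)) (tt N19361 F171051) (tt N19360 (iv D36872)) (tt N19904 F171052))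
theorem Q20947 : ∀ i, i < 20947 → P i := stepQ 20946 Q20946 (allL N20946 (tt N19437 F171053) (tt N19914 F171054) (tt N19438 F171055) (tt N19877 F171056) (tt N19434 F171057) (tt N19361 (iv D36873)) (tt N22070 (iv F175866)) (tt N22327 (iv F177403)) (tt N19455 F171058) (tt N19431 F171059))
theorem Q20948 : ∀ i, i < 20948 → P i := stepQ 20947 Q20947 (allL N20947 (tt N19439 F171060) (tt N19916 F171061) (tt N22324 (iv F177378)) (tt N19364 F171062) (tt N22326 (iv F177394)) (tt N22328 D38255) (tt N19363 F171063) (tt N20071 F171064) (tt N19362 (iv D36874)) (tt N19905 F171065))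
theorem Q20949 : ∀ i, i < 20949 → P i := stepQ 20948 Q20948 (allL N20948 (tt N19441 F171066) (tt N19980 F171067) (tt N20948 F171068) (tt N22328 (iv F177409)) (tt N22329 D38256) (tt N19364 (iv D36875)) (tt N19710 F171069) (tt N20072 F171070) (tt N19828 F171071) (tt N19950 F171072))
theorem Q20950 : ∀ i, i < 20950 → P i := stepQ 20949 Q20949 (allL N20949 (tt N22182 (iv F176557)) (tt N19368 F171073) (tt N20135 F171074) (tt N19366 (iv D36876)) (tt N20949 F171075) (tt N21885 (iv F174675)) (tt N20128 F171076) (tt N22330 D38257) (tt N19418 F171077) (tt N22193 (iv F176621)))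
theorem Q20951 : ∀ i, i < 20951 → P i := stepQ 20950 Q20950 (allL N20950 (tt N22311 (iv F177283)) (tt N19369 F171078) (tt N19422 F171079) (tt N22330 (iv F177424)) (tt N19367 F171080) (tt N21892 (iv F174727)) (tt N22331 D38258) (tt N19366 (iv D36877)) (tt N19419 F171081) (tt N22319 (iv F177349)))
theorem Q20952 : ∀ i, i < 20952 → P i := stepQ 20951 Q20951 (allL N20951 (tt N22312 (iv F177290)) (tt N19371 F171082) (tt N19425 F171083) (tt N20951 F171084) (tt N22331 (iv F177429)) (tt N22308 (iv F177268)) (tt N19367 (iv D36878)) (tt N22299 (iv F177205)) (tt N19420 F171085) (tt N22320 (iv F177357)))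
theorem Q20953 : ∀ i, i < 20953 → P i := stepQ 20952 Q20952 (allL N20952 (tt N19450 F171086) (tt N22330 (iv F177422)) (tt N22015 (iv F175508)) (tt N19369 F171087) (tt N20952 F171088) (tt N21894 (iv F174742)) (tt N22332 D38259) (tt N19368 (iv D36879)) (tt N21951 F175126) (tt N22321 (iv F177363)))
theorem Q20954 : ∀ i, i < 20954 → P i := stepQ 20953 Q20953 (allL N20953 (tt N19452 F171089) (tt N22331 (iv F177427)) (tt N19373 F171090) (tt N22332 (iv F177432)) (tt N19371 F171091) (tt N22333 D38260) (tt N19369 (iv D36880)) (tt N22301 (iv F177218)) (tt N22334 D38261) (tt N22322 (iv F177368)))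
theorem Q20955 : ∀ i, i < 20955 → P i := stepQ 20954 Q20954 (allL N20954 (tt N19453 F171092) (tt N19419 F171093) (tt N19374 F171094) (tt N21951 (iv F175122)) (tt N19372 F171095) (tt N20267 (iv F171097)) (tt N22334 (iv F177440)) (tt N19370 F171096) (tt N19369 (iv D36881)) (tt N19846 (iv F171098)))
theorem Q20956 : ∀ i, i < 20956 → P i := stepQ 20955 Q20955 (allL N20955 (tt N19456 F171099) (tt N19420 F171100) (tt N19375 F171101) (tt N20955 F171102) (tt N22334 (iv F177439)) (tt N19448 (iv F171104)) (tt N19372 F171103) (tt N22303 (iv F177232)) (tt N19371 (iv D36882)) (tt N19847 (iv F171105)))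
theorem Q20957 : ∀ i, i < 20957 → P i := stepQ 20956 Q20956 (allL N20956 (tt N19458 F171106) (tt N20259 F171107) (tt N22333 (iv F177435)) (tt N22017 (iv F175522)) (tt N22313 (iv F177301)) (tt N19373 (iv D36883)) (tt N21898 (iv F174770)) (tt N22304 (iv F177240)) (tt N22335 D38262) (tt N22325 (iv F177390)))
theorem Q20958 : ∀ i, i < 20958 → P i := stepQ 20957 Q20957 (allL N20957 (tt N19459 F171108) (tt N19551 F171109) (tt N22334 (iv F177438)) (tt N22018 (iv F175530)) (tt N19375 F171110) (tt N22336 D38263) (tt N19374 F171111) (tt N22305 (iv F177247)) (tt N19373 (iv D36884)) (tt N19903 (iv F171112)))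
theorem Q20959 : ∀ i, i < 20959 → P i := stepQ 20958 Q20958 (allL N20958 (tt N19465 F171113) (tt N19457 F171114) (tt N19586 F171115) (tt N20958 F171116) (tt N22315 (iv F177315)) (tt N19376 (iv D36885)) (tt N22337 D38264) (tt N19377 F171117) (tt N19933 F171118) (tt N19449 F171119))
theorem Q20960 : ∀ i, i < 20960 → P i := stepQ 20959 Q20959 (allL N20959 (tt N19407 F171120) (tt N19397 F171121) (tt N19517 F171122) (tt N20959 F171123) (tt N22317 (iv F177331)) (tt N19406 F171124) (tt N19377 (iv D36886)) (tt N22338 D38265) (tt N19935 F171125) (tt N19391 F171126))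
theorem Q20961 : ∀ i, i < 20961 → P i := stepQ 20960 Q20960 (allL N20960 (tt N19776 F171127) (tt N21953 (iv F175133)) (tt N19544 F171128) (tt N19380 (iv D36887)) (tt N20960 F171129) (tt N19539 F171130) (tt N19418 F171131) (tt N22339 D38266) (tt N20128 F171132) (tt N19835 F171133))
theorem Q20962 : ∀ i, i < 20962 → P i := stepQ 20961 Q20961 (allL N20961 (tt N19777 F171134) (tt N22302 (iv F177221)) (tt N19382 F171135) (tt N22339 (iv F177465)) (tt N19381 F171136) (tt N19995 F171137) (tt N22340 D38267) (tt N19380 (iv D36888)) (tt N22298 (iv F177198)) (tt N19836 F171138))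
theorem Q20963 : ∀ i, i < 20963 → P i := stepQ 20962 Q20962 (allL N20962 (tt N19779 F171139) (tt N22303 (iv F177228)) (tt N19384 F171140) (tt N20962 F171141) (tt N22340 (iv F177472)) (tt N19395 F171142) (tt N19381 (iv D36889)) (tt N19420 F171143) (tt N22299 (iv F177206)) (tt N19837 F171144))
theorem Q20964 : ∀ i, i < 20964 → P i := stepQ 20963 Q20963 (allL N20963 (tt N19781 F171145) (tt N19493 F171146) (tt N22340 (iv F177471)) (tt N19823 F171147) (tt N19384 F171148) (tt N22341 D38268) (tt N19382 (iv D36890)) (tt N19421 F171149) (tt N22342 D38269) (tt N19838 F171150))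
theorem Q20965 : ∀ i, i < 20965 → P i := stepQ 20964 Q20964 (allL N20964 (tt N19782 F171151) (tt N19494 F171152) (tt N22298 (iv F177194)) (tt N19824 F171153) (tt N19385 F171154) (tt N20105 F171155) (tt N22342 (iv F177486)) (tt N19383 F171156) (tt N19382 (iv D36891)) (tt N22146 (iv F176346)))
theorem Q20966 : ∀ i, i < 20966 → P i := stepQ 20965 Q20965 (allL N20965 (tt N19784 F171157) (tt N19495 F171158) (tt N22299 (iv F177202)) (tt N19386 F171159) (tt N22342 (iv F177485)) (tt N19794 (iv F171162)) (tt N19385 F171160) (tt N19425 F171161) (tt N19384 (iv D36892)) (tt N22147 (iv F176354)))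
theorem Q20967 : ∀ i, i < 20967 → P i := stepQ 20966 Q20966 (allL N20966 (tt N19389 F171163) (tt N19778 F171164) (tt N19510 F171165) (tt N22173 (iv F176509)) (tt N19387 (iv D36893)) (tt N22088 (iv F175986)) (tt N19443 F171166) (tt N22343 D38270) (tt N19774 F171167) (tt N19595 F171168))
theorem Q20968 : ∀ i, i < 20968 → P i := stepQ 20967 Q20967 (allL N20967 (tt N19390 F171169) (tt N19780 F171170) (tt N19511 F171171) (tt N20967 F171172) (tt N22343 (iv F177491)) (tt N19388 F171173) (tt N22344 D38271) (tt N19387 (iv D36894)) (tt N19775 F171174) (tt N19613 F171175))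
theorem Q20969 : ∀ i, i < 20969 → P i := stepQ 20968 Q20968 (allL N20968 (tt N22173 (iv F176506)) (tt N19392 F171176) (tt N22345 D38272) (tt N19389 (iv D36895)) (tt N20968 F171177) (tt N22090 (iv F176000)) (tt N19445 F171178) (tt N22346 D38273) (tt N22347 D38274) (tt N20378 F171179))
theorem Q20970 : ∀ i, i < 20970 → P i := stepQ 20969 Q20969 (allL N20969 (tt N22343 (iv F177488)) (tt N19393 F171180) (tt N19513 F171181) (tt N22346 (iv F177511)) (tt N19390 F171182) (tt N22091 (iv F176008)) (tt N22348 D38275) (tt N19389 (iv D36896)) (tt N22349 D38276) (tt N20383 F171183))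
theorem Q20971 : ∀ i, i < 20971 → P i := stepQ 20970 Q20970 (allL N20970 (tt N19774 F171184) (tt N19394 F171185) (tt N19514 F171186) (tt N22347 (iv F177517)) (tt N19391 F171187) (tt N20037 (iv F171189)) (tt N19447 F171188) (tt N22349 (iv F177531)) (tt N19389 (iv D36897)) (tt N22317 (iv F177334)))
theorem Q20972 : ∀ i, i < 20972 → P i := stepQ 20971 Q20971 (allL N20971 (tt N22344 (iv F177494)) (tt N19395 F171190) (tt N19515 F171191) (tt N20971 F171192) (tt N22348 (iv F177524)) (tt N22303 F177233) (tt N19390 (iv D36898)) (tt N19448 F171193) (tt N22350 D38277) (tt N20389 F171194))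
theorem Q20973 : ∀ i, i < 20973 → P i := stepQ 20972 Q20972 (allL N20972 (tt N19775 F171195) (tt N19396 F171196) (tt N19516 F171197) (tt N20972 F171198) (tt N22349 (iv F177530)) (tt N19742 F171199) (tt N22350 (iv F177538)) (tt N19391 F171200) (tt N19390 (iv D36899)) (tt N22338 (iv F177462)))
theorem Q20974 : ∀ i, i < 20974 → P i := stepQ 20973 Q20973 (allL N20973 (tt N22300 (iv F177208)) (tt N22346 (iv F177510)) (tt N22021 (iv F175553)) (tt N19393 F171201) (tt N20973 F171202) (tt N22095 (iv F176035)) (tt N22351 D38278) (tt N19392 (iv D36900)) (tt N22352 D38279) (tt N22065 (iv F175832)))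
theorem Q20975 : ∀ i, i < 20975 → P i := stepQ 20974 Q20974 (allL N20974 (tt N21953 (iv F175132)) (tt N22347 (iv F177515)) (tt N22022 (iv F175560)) (tt N19394 F171203) (tt N20974 F171204) (tt N19923 (iv F171206)) (tt N19451 F171205) (tt N22352 (iv F177545)) (tt N19392 (iv D36901)) (tt N19897 (iv F171207)))
theorem Q20976 : ∀ i, i < 20976 → P i := stepQ 20975 Q20975 (allL N20975 (tt N22301 (iv F177215)) (tt N22348 (iv F177522)) (tt N19398 F171208) (tt N22351 (iv F177540)) (tt N19395 F171209) (tt N22353 D38280) (tt N19393 (iv D36902)) (tt N19452 F171210) (tt N22354 D38281) (tt N22067 (iv F175846)))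
theorem Q20977 : ∀ i, i < 20977 → P i := stepQ 20976 Q20976 (allL N20976 (tt N22302 (iv F177220)) (tt N22349 (iv F177528)) (tt N19399 F171211) (tt N22352 (iv F177543)) (tt N19396 F171212) (tt N22355 D38282) (tt N22354 (iv F177552)) (tt N19394 F171213) (tt N19393 (iv D36903)) (tt N22356 D38283))
theorem Q20978 : ∀ i, i < 20978 → P i := stepQ 20977 Q20977 (allL N20977 (tt N19993 F171214) (tt N20037 F171215) (tt N19400 F171216) (tt N19923 F171217) (tt N19744 F171218) (tt N19394 (iv D36904)) (tt N19802 F171219) (tt N22355 (iv F177559)) (tt N22098 (iv F176054)) (tt N19801 (iv F171220)))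
theorem Q20979 : ∀ i, i < 20979 → P i := stepQ 20978 Q20978 (allL N20978 (tt N19833 F171221) (tt N22317 (iv F177328)) (tt N19401 F171222) (tt N19897 F171223) (tt N19397 F171224) (tt N19801 F171225) (tt N19455 F171226) (tt N22356 (iv F177566)) (tt N22070 (iv F175867)) (tt N19394 (iv D36905)))
theorem Q20980 : ∀ i, i < 20980 → P i := stepQ 20979 Q20979 (allL N20979 (tt N22303 (iv F177227)) (tt N22350 (iv F177534)) (tt N19402 F171227) (tt N20979 F171228) (tt N22354 (iv F177551)) (tt N22344 (iv F177498)) (tt N19396 F171229) (tt N19456 F171230) (tt N19395 (iv D36906)) (tt N22357 D38284))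
theorem Q20981 : ∀ i, i < 20981 → P i := stepQ 20980 Q20980 (allL N20980 (tt N19834 F171231) (tt N22338 (iv F177457)) (tt N19403 F171232) (tt N20980 F171233) (tt N22356 (iv F177564)) (tt N19745 F171234) (tt N22357 (iv F177571)) (tt N19397 F171235) (tt N22072 (iv F175880)) (tt N19396 (iv D36907)))
theorem Q20982 : ∀ i, i < 20982 → P i := stepQ 20981 Q20981 (allL N20981 (tt N22304 (iv F177235)) (tt N19525 F171236) (tt N22353 (iv F177548)) (tt N22029 (iv F175608)) (tt N22341 (iv F177478)) (tt N19398 (iv D36908)) (tt N22100 (iv F176067)) (tt N19458 F171237) (tt N22358 D38285) (tt N22073 (iv F175887)))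
theorem Q20983 : ∀ i, i < 20983 → P i := stepQ 20982 Q20982 (allL N20982 (tt N22305 (iv F177242)) (tt N19526 F171238) (tt N22354 (iv F177550)) (tt N22030 (iv F175615)) (tt N19402 F171239) (tt N22359 D38286) (tt N19399 F171240) (tt N19459 F171241) (tt N19398 (iv D36909)) (tt N22360 D38287))
theorem Q20984 : ∀ i, i < 20984 → P i := stepQ 20983 Q20983 (allL N20983 (tt N22013 (iv F175490)) (tt N19527 F171242) (tt N22355 (iv F177556)) (tt N22031 (iv F175621)) (tt N19746 F171243) (tt N19399 (iv D36910)) (tt N22361 D38288) (tt N19400 F171244) (tt N22102 (iv F176081)) (tt N22362 D38289))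
theorem Q20985 : ∀ i, i < 20985 → P i := stepQ 20984 Q20984 (allL N20984 (tt N19884 F171245) (tt N19528 F171246) (tt N22356 (iv F177562)) (tt N22032 (iv F175627)) (tt N19403 F171247) (tt N22362 (iv F177588)) (tt N22360 (iv F177580)) (tt N19401 F171248) (tt N22076 (iv F175905)) (tt N19399 (iv D36911)))
theorem Q20986 : ∀ i, i < 20986 → P i := stepQ 20985 Q20985 (allL N20985 (tt N20281 F171249) (tt N19529 F171250) (tt N19802 F171251) (tt N22033 (iv F175634)) (tt N19748 F171252) (tt N19462 F171253) (tt N19400 (iv D36912)) (tt N22363 D38290) (tt N22104 (iv F176095)) (tt N19770 (iv F171254)))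
theorem Q20987 : ∀ i, i < 20987 → P i := stepQ 20986 Q20986 (allL N20986 (tt N19867 F171255) (tt N19530 F171256) (tt N19801 F171257) (tt N22034 (iv F175642)) (tt N19749 F171258) (tt N19401 F171259) (tt N19770 F171260) (tt N22362 (iv F177589)) (tt N20159 (iv F171261)) (tt N19400 (iv D36913)))
theorem Q20988 : ∀ i, i < 20988 → P i := stepQ 20987 Q20987 (allL N20987 (tt N19515 F171262) (tt N19531 F171263) (tt N22344 (iv F177496)) (tt N19404 F171264) (tt N22364 D38291) (tt N19402 (iv D36914)) (tt N19511 F171265) (tt N19463 F171266) (tt N19794 F171267) (tt N19615 (iv F171268)))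
theorem Q20989 : ∀ i, i < 20989 → P i := stepQ 20988 Q20988 (allL N20988 (tt N19886 F171269) (tt N19532 F171270) (tt N22357 (iv F177568)) (tt N19405 F171271) (tt N22360 (iv F177579)) (tt N19615 F171272) (tt N19403 F171273) (tt N19464 F171274) (tt N22080 (iv F175933)) (tt N19402 (iv D36915)))
theorem Q20990 : ∀ i, i < 20990 → P i := stepQ 20989 Q20989 (allL N20989 (tt N19408 F171275) (tt N19745 F171276) (tt N19534 F171277) (tt N20989 F171278) (tt N20024 F171279) (tt N22338 (iv F177460)) (tt N19773 F171280) (tt N19406 (iv D36916)) (tt N20989 F171281) (tt N19742 F171282))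
theorem Q20991 : ∀ i, i < 20991 → P i := stepQ 20990 Q20990 (allL N20990 (tt N22317 (iv F177327)) (tt N19409 F171283) (tt N19535 F171284) (tt N20317 (iv F171289)) (tt N19407 (iv D36917)) (tt N20025 F171285) (tt N19423 F171286) (tt N22365 D38292) (tt N20274 F171287) (tt N19774 F171288))
theorem Q20992 : ∀ i, i < 20992 → P i := stepQ 20991 Q20991 (allL N20991 (tt N22338 (iv F177456)) (tt N19410 F171290) (tt N19536 F171291) (tt N20991 F171292) (tt N22365 (iv F177606)) (tt N19408 F171293) (tt N22366 D38293) (tt N19407 (iv D36918)) (tt N20412 F171294) (tt N19775 F171295))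
theorem Q20993 : ∀ i, i < 20993 → P i := stepQ 20992 Q20992 (allL N20992 (tt N19835 F171296) (tt N20317 F171297) (tt N19418 F171298) (tt N19409 (iv D36919)) (tt N20992 F171299) (tt N20027 F171300) (tt N19544 F171301) (tt N22367 D38294) (tt N20135 F171302) (tt N19776 F171303))
theorem Q20994 : ∀ i, i < 20994 → P i := stepQ 20993 Q20993 (allL N20993 (tt N19836 F171304) (tt N22365 (iv F177603)) (tt N19411 F171305) (tt N22367 (iv F177620)) (tt N19410 F171306) (tt N20028 F171307) (tt N22368 D38295) (tt N19409 (iv D36920)) (tt N20367 F171308) (tt N19777 F171309))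
theorem Q20995 : ∀ i, i < 20995 → P i := stepQ 20994 Q20994 (allL N20994 (tt N19837 F171310) (tt N22366 (iv F177610)) (tt N19413 F171311) (tt N20994 F171312) (tt N22368 (iv F177627)) (tt N20066 F171313) (tt N19410 (iv D36921)) (tt N19606 F171314) (tt N20421 F171315) (tt N19779 F171316))
theorem Q20996 : ∀ i, i < 20996 → P i := stepQ 20995 Q20995 (allL N20995 (tt N19838 F171317) (tt N19542 F171318) (tt N22368 (iv F177626)) (tt N19421 F171319) (tt N19413 F171320) (tt N22369 D38296) (tt N19411 (iv D36922)) (tt N19823 F171321) (tt N22370 D38297) (tt N19781 F171322))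
theorem Q20997 : ∀ i, i < 20997 → P i := stepQ 20996 Q20996 (allL N20996 (tt N19839 F171323) (tt N19543 F171324) (tt N20367 F171325) (tt N19422 F171326) (tt N19414 F171327) (tt N22371 D38298) (tt N22370 (iv F177643)) (tt N19412 F171328) (tt N19411 (iv D36923)) (tt N22372 D38299))
theorem Q20998 : ∀ i, i < 20998 → P i := stepQ 20997 Q20997 (allL N20997 (tt N19840 F171329) (tt N19544 F171330) (tt N20324 F171331) (tt N19423 F171332) (tt N20997 F171333) (tt N19412 (iv D36924)) (tt N20317 F171334) (tt N22371 (iv F177650)) (tt N20034 F171335) (tt N22306 (iv F177256)))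
theorem Q20999 : ∀ i, i < 20999 → P i := stepQ 20998 Q20998 (allL N20998 (tt N19841 F171336) (tt N19545 F171337) (tt N20368 F171338) (tt N19424 F171339) (tt N19415 F171340) (tt N22306 (iv F177253)) (tt N19825 F171341) (tt N22372 (iv F177657)) (tt N19783 F171342) (tt N19412 (iv D36925)))
theorem Q21000 : ∀ i, i < 21000 → P i := stepQ 20999 Q20999 (allL N20999 (tt N19842 F171343) (tt N19546 F171344) (tt N20421 F171345) (tt N19416 F171346) (tt N22370 (iv F177642)) (tt N22373 D38300) (tt N19414 F171347) (tt N19826 F171348) (tt N19413 (iv D36926)) (tt N22374 D38301))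
theorem Q21001 : ∀ i, i < 21001 → P i := stepQ 21000 Q21000 (allL N21000 (tt N19843 F171349) (tt N19547 F171350) (tt N20423 F171351) (tt N19417 F171352) (tt N22372 (iv F177656)) (tt N21000 F171353) (tt N22374 (iv F177670)) (tt N19415 F171354) (tt N19785 F171355) (tt N19414 (iv D36927)))
theorem Q21002 : ∀ i, i < 21002 → P i := stepQ 21001 Q21001 (allL N21001 (tt N19844 F171356) (tt N19548 F171357) (tt N21001 F171358) (tt N22373 (iv F177662)) (tt N22261 (iv F176961)) (tt N19416 (iv D36928)) (tt N21001 F171359) (tt N19828 F171360) (tt N20072 F171361) (tt N22375 D38302))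
theorem Q21003 : ∀ i, i < 21003 → P i := stepQ 21002 Q21002 (allL N21002 (tt N19845 F171362) (tt N19549 F171363) (tt N21002 F171364) (tt N22374 (iv F177669)) (tt N19428 F171365) (tt N22375 (iv F177676)) (tt N19417 F171366) (tt N19829 F171367) (tt N19786 F171368) (tt N19416 (iv D36929)))
theorem Q21004 : ∀ i, i < 21004 → P i := stepQ 21003 Q21003 (allL N21003 (tt N22309 (iv F177272)) (tt N21951 (iv F175120)) (tt N22367 (iv F177619)) (tt N19419 F171369) (tt N21003 F171370) (tt N20269 F171371) (tt N22376 D38303) (tt N19418 (iv D36930)) (tt N22330 (iv F177426)) (tt N19848 F171372))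
theorem Q21005 : ∀ i, i < 21005 → P i := stepQ 21004 Q21004 (allL N21004 (tt N22310 (iv F177278)) (tt N22334 (iv F177437)) (tt N19421 F171373) (tt N22376 (iv F177680)) (tt N19420 F171374) (tt N22377 D38304) (tt N19419 (iv D36931)) (tt N22340 (iv F177473)) (tt N22331 (iv F177430)) (tt N19849 F171375))
theorem Q21006 : ∀ i, i < 21006 → P i := stepQ 21005 Q21005 (allL N21005 (tt N22313 (iv F177298)) (tt N19552 F171376) (tt N22377 (iv F177683)) (tt N22369 (iv F177633)) (tt N19458 F171377) (tt N19421 (iv D36932)) (tt N20271 F171378) (tt N22341 (iv F177480)) (tt N22378 D38305) (tt N19850 F171379))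
theorem Q21007 : ∀ i, i < 21007 → P i := stepQ 21006 Q21006 (allL N21006 (tt N22314 (iv F177305)) (tt N19553 F171380) (tt N22331 (iv F177428)) (tt N22370 (iv F177641)) (tt N19425 F171381) (tt N22379 D38306) (tt N19422 F171382) (tt N22342 (iv F177487)) (tt N19421 (iv D36933)) (tt N22380 D38307))
theorem Q21008 : ∀ i, i < 21008 → P i := stepQ 21007 Q21007 (allL N21007 (tt N22315 (iv F177311)) (tt N19554 F171383) (tt N21892 (iv F174725)) (tt N22371 (iv F177648)) (tt N19465 F171384) (tt N19422 (iv D36934)) (tt N22381 D38308) (tt N19423 F171385) (tt N20273 F171386) (tt N22307 (iv F177263)))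
theorem Q21009 : ∀ i, i < 21009 → P i := stepQ 21008 Q21008 (allL N21008 (tt N22316 (iv F177319)) (tt N19555 F171387) (tt N22319 (iv F177345)) (tt N22372 (iv F177655)) (tt N19426 F171388) (tt N22307 (iv F177261)) (tt N22380 (iv F177693)) (tt N19424 F171389) (tt N19852 F171390) (tt N19422 (iv D36935)))
theorem Q21010 : ∀ i, i < 21010 → P i := stepQ 21009 Q21009 (allL N21009 (tt N19585 F171391) (tt N19556 F171392) (tt N22308 (iv F177266)) (tt N19427 F171393) (tt N22382 D38309) (tt N19425 (iv D36936)) (tt N19466 F171394) (tt N19794 F171395) (tt N19463 F171396) (tt N21893 (iv F174737)))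
theorem Q21011 : ∀ i, i < 21011 → P i := stepQ 21010 Q21010 (allL N21010 (tt N22318 (iv F177335)) (tt N19557 F171397) (tt N22320 (iv F177352)) (tt N19428 F171398) (tt N22380 (iv F177692)) (tt N21893 (iv F174734)) (tt N19426 F171399) (tt N22147 (iv F176352)) (tt N19854 F171400) (tt N19425 (iv D36937)))
theorem Q21012 : ∀ i, i < 21012 → P i := stepQ 21011 Q21011 (allL N21011 (tt N22321 (iv F177358)) (tt N20376 F171401) (tt N21923 (iv F174934)) (tt N19430 F171402) (tt N21011 F171403) (tt N20263 F171404) (tt N22383 D38310) (tt N19429 (iv D36938)) (tt N22384 D38311) (tt N19450 F171405))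
theorem Q21013 : ∀ i, i < 21013 → P i := stepQ 21012 Q21012 (allL N21012 (tt N21936 (iv F175020)) (tt N19908 F171406) (tt N21924 (iv F174941)) (tt N19431 F171407) (tt N21012 F171408) (tt N19878 F171409) (tt N22066 (iv F175838)) (tt N22384 (iv F177711)) (tt N19429 (iv D36939)) (tt N19877 F171410))
theorem Q21014 : ∀ i, i < 21014 → P i := stepQ 21013 Q21013 (allL N21013 (tt N22322 (iv F177364)) (tt N20382 F171411) (tt N19435 F171412) (tt N22383 (iv F177704)) (tt N19432 F171413) (tt N22385 D38312) (tt N19430 (iv D36940)) (tt N22067 (iv F175845)) (tt N22386 D38313) (tt N19452 F171414))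
theorem Q21015 : ∀ i, i < 21015 → P i := stepQ 21014 Q21014 (allL N21014 (tt N22323 (iv F177369)) (tt N19911 F171415) (tt N19436 F171416) (tt N22384 (iv F177708)) (tt N19433 F171417) (tt N19904 F171418) (tt N22386 (iv F177721)) (tt N19431 F171419) (tt N19430 (iv D36941)) (tt N22327 (iv F177405)))
theorem Q21016 : ∀ i, i < 21016 → P i := stepQ 21015 Q21015 (allL N21015 (tt N22324 (iv F177376)) (tt N19932 F171420) (tt N19439 F171421) (tt N21015 F171422) (tt N22386 (iv F177720)) (tt N22387 D38314) (tt N19433 F171423) (tt N22071 (iv F175873)) (tt N19432 (iv D36942)) (tt N22388 D38315))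
theorem Q21017 : ∀ i, i < 21017 → P i := stepQ 21016 Q21016 (allL N21016 (tt N19713 F171424) (tt N19933 F171425) (tt N19440 F171426) (tt N21016 F171427) (tt N22327 (iv F177402)) (tt N19611 F171428) (tt N22388 (iv F177732)) (tt N19434 F171429) (tt N19457 F171430) (tt N19433 (iv D36943)))
theorem Q21018 : ∀ i, i < 21018 → P i := stepQ 21017 Q21017 (allL N21017 (tt N22325 (iv F177384)) (tt N19567 F171431) (tt N22385 (iv F177714)) (tt N21931 (iv F174989)) (tt N19850 F171432) (tt N19435 (iv D36944)) (tt N20265 F171433) (tt N22073 (iv F175886)) (tt N22389 D38316) (tt N19458 F171434))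
theorem Q21019 : ∀ i, i < 21019 → P i := stepQ 21018 Q21018 (allL N21018 (tt N22326 (iv F177391)) (tt N19568 F171435) (tt N22386 (iv F177719)) (tt N21932 (iv F174996)) (tt N19439 F171436) (tt N22390 D38317) (tt N19436 F171437) (tt N22074 (iv F175893)) (tt N19435 (iv D36945)) (tt N22391 D38318))
theorem Q21020 : ∀ i, i < 21020 → P i := stepQ 21019 Q21019 (allL N21019 (tt N22327 (iv F177398)) (tt N19569 F171438) (tt N19904 F171439) (tt N21933 (iv F175002)) (tt N19713 F171440) (tt N19436 (iv D36946)) (tt N22392 D38319) (tt N19437 F171441) (tt N19846 F171442) (tt N22323 (iv F177375)))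
theorem Q21021 : ∀ i, i < 21021 → P i := stepQ 21020 Q21020 (allL N21020 (tt N19904 F171443) (tt N19570 F171444) (tt N22327 (iv F177400)) (tt N21934 (iv F175008)) (tt N19440 F171445) (tt N22323 (iv F177373)) (tt N22391 (iv F177741)) (tt N19438 F171446) (tt N19461 F171447) (tt N19436 (iv D36947)))
theorem Q21022 : ∀ i, i < 21022 → P i := stepQ 21021 Q21021 (allL N21021 (tt N22070 (iv F175860)) (tt N19571 F171448) (tt N19885 F171449) (tt N21935 (iv F175015)) (tt N19714 F171450) (tt N22077 (iv F175911)) (tt N19437 (iv D36948)) (tt N22393 D38320) (tt N19833 F171451) (tt N20065 F171452))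
theorem Q21023 : ∀ i, i < 21023 → P i := stepQ 21022 Q21022 (allL N21022 (tt N22328 (iv F177406)) (tt N19573 F171453) (tt N22387 (iv F177724)) (tt N19441 F171454) (tt N22394 D38321) (tt N19439 (iv D36949)) (tt N19715 F171455) (tt N22079 (iv F175926)) (tt N19853 F171456) (tt N21983 (iv F175306)))
theorem Q21024 : ∀ i, i < 21024 → P i := stepQ 21023 Q21023 (allL N21023 (tt N19905 F171457) (tt N19574 F171458) (tt N22388 (iv F177730)) (tt N19442 F171459) (tt N22391 (iv F177740)) (tt N21983 (iv F175304)) (tt N19440 F171460) (tt N22080 (iv F175932)) (tt N19464 F171461) (tt N19439 (iv D36950)))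
theorem Q21025 : ∀ i, i < 21025 → P i := stepQ 21024 Q21024 (allL N21024 (tt N22329 (iv F177414)) (tt N19575 F171462) (tt N21024 F171463) (tt N22395 D38322) (tt N19441 (iv D36951)) (tt N21939 (iv F175043)) (tt N19716 F171464) (tt N22081 (iv F175939)) (tt N19855 F171465) (tt N21993 (iv F175363)))
theorem Q21026 : ∀ i, i < 21026 → P i := stepQ 21025 Q21025 (allL N21025 (tt N19445 F171466) (tt N22182 (iv F176558)) (tt N22218 (iv F176750)) (tt N19443 (iv D36952)) (tt N21025 F171467) (tt N19590 F171468) (tt N22173 (iv F176511)) (tt N22396 D38323) (tt N22306 (iv F177255)) (tt N19589 F171469))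
theorem Q21027 : ∀ i, i < 21027 → P i := stepQ 21026 Q21026 (allL N21026 (tt N19446 F171470) (tt N22311 (iv F177284)) (tt N19470 F171471) (tt N22396 (iv F177759)) (tt N19444 F171472) (tt N19594 F171473) (tt N22397 D38324) (tt N19443 (iv D36953)) (tt N22307 (iv F177262)) (tt N19593 F171474))
theorem Q21028 : ∀ i, i < 21028 → P i := stepQ 21027 Q21027 (allL N21027 (tt N19448 F171475) (tt N22312 (iv F177291)) (tt N19463 F171476) (tt N21027 F171477) (tt N22397 (iv F177765)) (tt N19456 F171478) (tt N19444 (iv D36954)) (tt N22344 (iv F177499)) (tt N22308 (iv F177270)) (tt N19612 F171479))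
theorem Q21029 : ∀ i, i < 21029 → P i := stepQ 21028 Q21028 (allL N21028 (tt N22218 (iv F176748)) (tt N20084 F171480) (tt N19445 (iv D36955)) (tt N19578 F171481) (tt N21028 F171482) (tt N20077 F171483) (tt N22345 (iv F177507)) (tt N22398 D38325) (tt N22399 D38326) (tt N20154 F171484))
theorem Q21030 : ∀ i, i < 21030 → P i := stepQ 21029 Q21029 (allL N21029 (tt N22396 (iv F177758)) (tt N19450 F171485) (tt N22398 (iv F177768)) (tt N19446 F171486) (tt N21029 F171487) (tt N20377 F171488) (tt N22400 D38327) (tt N19445 (iv D36956)) (tt N22401 D38328) (tt N20376 F171489))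
theorem Q21031 : ∀ i, i < 21031 → P i := stepQ 21030 Q21030 (allL N21030 (tt N22306 (iv F177249)) (tt N19451 F171490) (tt N22399 (iv F177775)) (tt N19447 F171491) (tt N21030 F171492) (tt N19841 F171493) (tt N22347 (iv F177520)) (tt N22401 (iv F177789)) (tt N19445 (iv D36957)) (tt N19840 F171494))
theorem Q21032 : ∀ i, i < 21032 → P i := stepQ 21031 Q21031 (allL N21031 (tt N22397 (iv F177763)) (tt N19452 F171495) (tt N19581 F171496) (tt N22400 (iv F177782)) (tt N19448 F171497) (tt N22402 D38329) (tt N19446 (iv D36958)) (tt N22348 (iv F177525)) (tt N22403 D38330) (tt N20382 F171498))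
theorem Q21033 : ∀ i, i < 21033 → P i := stepQ 21032 Q21032 (allL N21032 (tt N22307 (iv F177257)) (tt N19453 F171499) (tt N19582 F171500) (tt N22401 (iv F177786)) (tt N19449 F171501) (tt N22316 (iv F177324)) (tt N22403 (iv F177798)) (tt N19447 F171502) (tt N19446 (iv D36959)) (tt N22315 F177318))
theorem Q21034 : ∀ i, i < 21034 → P i := stepQ 21033 Q21033 (allL N21033 (tt N22308 (iv F177264)) (tt N19456 F171503) (tt N19585 F171504) (tt N21033 F171505) (tt N22403 (iv F177797)) (tt N22312 (iv F177294)) (tt N19449 F171506) (tt N22350 (iv F177539)) (tt N19448 (iv D36960)) (tt N22337 (iv F177455)))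
theorem Q21035 : ∀ i, i < 21035 → P i := stepQ 21034 Q21034 (allL N21034 (tt N22332 (iv F177431)) (tt N22400 (iv F177781)) (tt N22039 (iv F175675)) (tt N19452 F171507) (tt N21034 F171508) (tt N22404 D38331) (tt N19450 (iv D36961)) (tt N22351 (iv F177542)) (tt N22405 D38332) (tt N22383 (iv F177706)))
theorem Q21036 : ∀ i, i < 21036 → P i := stepQ 21035 Q21035 (allL N21035 (tt N21951 (iv F175119)) (tt N22401 (iv F177785)) (tt N22040 (iv F175680)) (tt N19453 F171509) (tt N21035 F171510) (tt N19896 F171511) (tt N22405 (iv F177802)) (tt N19451 F171512) (tt N19450 (iv D36962)) (tt N19895 (iv F171513)))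
theorem Q21037 : ∀ i, i < 21037 → P i := stepQ 21036 Q21036 (allL N21036 (tt N22333 (iv F177434)) (tt N22402 (iv F177791)) (tt N19458 F171514) (tt N22404 (iv F177799)) (tt N22377 (iv F177684)) (tt N19452 (iv D36963)) (tt N21907 (iv F174833)) (tt N22353 (iv F177549)) (tt N22406 D38333) (tt N22385 (iv F177717)))
theorem Q21038 : ∀ i, i < 21038 → P i := stepQ 21037 Q21037 (allL N21037 (tt N22334 (iv F177436)) (tt N22403 (iv F177795)) (tt N19459 F171515) (tt N22405 (iv F177800)) (tt N19456 F171516) (tt N22407 D38334) (tt N19453 F171517) (tt N22354 (iv F177553)) (tt N19452 (iv D36964)) (tt N22408 D38335))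
theorem Q21039 : ∀ i, i < 21039 → P i := stepQ 21038 Q21038 (allL N21038 (tt N20267 F171518) (tt N22316 (iv F177320)) (tt N19460 F171519) (tt N19896 F171520) (tt N19467 F171521) (tt N19453 (iv D36965)) (tt N22409 D38336) (tt N19454 F171522) (tt N21900 (iv F174786)) (tt N19614 (iv F171523)))
theorem Q21040 : ∀ i, i < 21040 → P i := stepQ 21039 Q21039 (allL N21039 (tt N19846 F171524) (tt N22315 (iv F177312)) (tt N19461 F171525) (tt N19895 F171526) (tt N19457 F171527) (tt N19614 F171528) (tt N22408 (iv F177810)) (tt N19455 F171529) (tt N22327 (iv F177404)) (tt N19453 (iv D36966)))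
theorem Q21041 : ∀ i, i < 21041 → P i := stepQ 21040 Q21040 (allL N21040 (tt N19847 F171530) (tt N22337 (iv F177450)) (tt N19464 F171531) (tt N21040 F171532) (tt N22408 (iv F177809)) (tt N19612 F171533) (tt N19457 F171534) (tt N22357 (iv F177572)) (tt N22388 (iv F177733)) (tt N19456 (iv D36967)))
theorem Q21042 : ∀ i, i < 21042 → P i := stepQ 21041 Q21041 (allL N21041 (tt N22335 (iv F177442)) (tt N19598 F171535) (tt N22406 (iv F177804)) (tt N22046 (iv F175714)) (tt N22378 (iv F177688)) (tt N22410 D38337) (tt N21910 (iv F174854)) (tt N22358 (iv F177574)) (tt N19458 (iv D36968)) (tt N22411 D38338))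
theorem Q21043 : ∀ i, i < 21043 → P i := stepQ 21042 Q21042 (allL N21042 (tt N22336 (iv F177444)) (tt N19599 F171536) (tt N22407 (iv F177805)) (tt N22047 (iv F175718)) (tt N22412 D38339) (tt N19459 (iv D36969)) (tt N22413 D38340) (tt N22359 (iv F177576)) (tt N22410 (iv F177818)) (tt N22414 D38341))
theorem Q21044 : ∀ i, i < 21044 → P i := stepQ 21043 Q21043 (allL N21043 (tt N19903 F171537) (tt N19600 F171538) (tt N22408 (iv F177807)) (tt N22048 (iv F175721)) (tt N19464 F171539) (tt N22414 (iv F177833)) (tt N19461 F171540) (tt N22360 (iv F177581)) (tt N22391 (iv F177742)) (tt N19459 (iv D36970)))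
theorem Q21045 : ∀ i, i < 21045 → P i := stepQ 21044 Q21044 (allL N21044 (tt N20355 F171541) (tt N19601 F171542) (tt N22409 (iv F177812)) (tt N22049 (iv F175727)) (tt N19468 F171543) (tt N22413 (iv F177828)) (tt N19460 (iv D36971)) (tt N22415 D38342) (tt N21913 (iv F174870)) (tt N19603 F171544))
theorem Q21046 : ∀ i, i < 21046 → P i := stepQ 21045 Q21045 (allL N21045 (tt N20312 F171545) (tt N19602 F171546) (tt N19800 F171547) (tt N22050 (iv F175734)) (tt N19469 F171548) (tt N22363 (iv F177595)) (tt N22415 (iv F177839)) (tt N19462 (iv D36972)) (tt N21914 (iv F174877)) (tt N19768 F171549))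
theorem Q21047 : ∀ i, i < 21047 → P i := stepQ 21046 Q21046 (allL N21046 (tt N19581 F171550) (tt N19603 F171551) (tt N22397 (iv F177764)) (tt N22235 (iv F176823)) (tt N19463 (iv D36973)) (tt N22412 (iv F177822)) (tt N19470 F171552) (tt N22364 (iv F177600)) (tt N22382 (iv F177702)) (tt N19601 F171553))
theorem Q21048 : ∀ i, i < 21048 → P i := stepQ 21047 Q21047 (allL N21047 (tt N22337 (iv F177449)) (tt N19606 F171554) (tt N21893 (iv F174732)) (tt N21047 F171555) (tt N22381 (iv F177696)) (tt N22320 (iv F177354)) (tt N19465 (iv D36974)) (tt N22366 (iv F177614)) (tt N20411 F171556) (tt N22308 (iv F177271)))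
theorem Q21049 : ∀ i, i < 21049 → P i := stepQ 21048 Q21048 (allL N21048 (tt N19582 F171557) (tt N19607 F171558) (tt N22307 (iv F177259)) (tt N22236 (iv F176828)) (tt N19466 (iv D36975)) (tt N22319 (iv F177347)) (tt N22382 (iv F177700)) (tt N19577 F171559) (tt N19470 F171560) (tt N21892 (iv F174729)))
theorem Q21050 : ∀ i, i < 21050 → P i := stepQ 21049 Q21049 (allL N21049 (tt N20268 F171561) (tt N22318 (iv F177336)) (tt N19468 F171562) (tt N19686 F171563) (tt N22409 (iv F177814)) (tt N19597 F171564) (tt N19467 (iv D36976)) (tt N19803 F171565) (tt N21902 (iv F174800)) (tt N19596 F171566))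
theorem Q21051 : ∀ i, i < 21051 → P i := stepQ 21050 Q21050 (allL N21050 (tt N20313 F171567) (tt N19615 F171568) (tt N19803 F171569) (tt N19471 F171570) (tt N22415 (iv F177838)) (tt N19532 F171571) (tt N19469 F171572) (tt N19468 (iv D36977)) (tt N21920 (iv F174915)) (tt N19531 F171573))
theorem Q21052 : ∀ i, i < 21052 → P i := stepQ 21051 Q21051 (allL N21051 (tt N19474 F171574) (tt N19770 F171575) (tt N22088 (iv F175984)) (tt N22140 (iv F176306)) (tt N19472 (iv D36978)) (tt N19510 F171576) (tt N19530 F171577) (tt N22416 D38343) (tt N20149 F171578) (tt N19529 F171579))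
theorem Q21053 : ∀ i, i < 21053 → P i := stepQ 21052 Q21052 (allL N21052 (tt N19475 F171580) (tt N19763 F171581) (tt N22089 (iv F175992)) (tt N21052 F171582) (tt N22416 (iv F177843)) (tt N19473 F171583) (tt N22417 D38344) (tt N19472 (iv D36979)) (tt N20182 F171584) (tt N19766 F171585))
theorem Q21054 : ∀ i, i < 21054 → P i := stepQ 21053 Q21053 (allL N21053 (tt N22140 (iv F176303)) (tt N19477 F171586) (tt N22141 (iv F176313)) (tt N19474 (iv D36980)) (tt N21053 F171587) (tt N19512 F171588) (tt N20093 F171589) (tt N22418 D38345) (tt N22131 (iv F176268)) (tt N20092 F171590))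
theorem Q21055 : ∀ i, i < 21055 → P i := stepQ 21054 Q21054 (allL N21054 (tt N22416 (iv F177841)) (tt N19478 F171591) (tt N22091 (iv F176006)) (tt N22418 (iv F177855)) (tt N19475 F171592) (tt N19513 F171593) (tt N22419 D38346) (tt N19474 (iv D36981)) (tt N22420 D38347) (tt N20343 F171594))
theorem Q21056 : ∀ i, i < 21056 → P i := stepQ 21055 Q21055 (allL N21055 (tt N20149 F171595) (tt N19479 F171596) (tt N22092 (iv F176012)) (tt N22131 (iv F176264)) (tt N19476 F171597) (tt N20143 F171598) (tt N20344 F171599) (tt N22420 (iv F177867)) (tt N19474 (iv D36982)) (tt N22125 (iv F176233)))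
theorem Q21057 : ∀ i, i < 21057 → P i := stepQ 21056 Q21056 (allL N21056 (tt N22417 (iv F177847)) (tt N19480 F171600) (tt N22093 (iv F176019)) (tt N21056 F171601) (tt N22419 (iv F177860)) (tt N22014 (iv F175502)) (tt N19475 (iv D36983)) (tt N20441 F171602) (tt N22421 D38348) (tt N20440 F171603))
theorem Q21058 : ∀ i, i < 21058 → P i := stepQ 21057 Q21057 (allL N21057 (tt N20182 F171604) (tt N19481 F171605) (tt N22094 (iv F176026)) (tt N21057 F171606) (tt N22420 (iv F177865)) (tt N19752 F171607) (tt N22421 (iv F177871)) (tt N19476 F171608) (tt N19475 (iv D36984)) (tt N22285 (iv F177128)))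
theorem Q21059 : ∀ i, i < 21059 → P i := stepQ 21058 Q21058 (allL N21058 (tt N20294 F171609) (tt N22418 (iv F177854)) (tt N22065 (iv F175828)) (tt N19478 F171610) (tt N21058 F171611) (tt N19518 F171612) (tt N22422 D38349) (tt N19477 (iv D36985)) (tt N22423 D38350) (tt N22021 (iv F175557)))
theorem Q21060 : ∀ i, i < 21060 → P i := stepQ 21059 Q21059 (allL N21059 (tt N20295 F171613) (tt N22131 (iv F176262)) (tt N22066 (iv F175835)) (tt N19479 F171614) (tt N21059 F171615) (tt N22120 (iv F176201)) (tt N21924 (iv F174945)) (tt N22423 (iv F177879)) (tt N19477 (iv D36986)) (tt N22119 F176195))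
theorem Q21061 : ∀ i, i < 21061 → P i := stepQ 21060 Q21060 (allL N21060 (tt N20296 F171616) (tt N22419 (iv F177859)) (tt N19483 F171617) (tt N22422 (iv F177874)) (tt N19480 F171618) (tt N22424 D38351) (tt N19478 (iv D36987)) (tt N21925 (iv F174951)) (tt N22425 D38352) (tt N22023 (iv F175571)))
theorem Q21062 : ∀ i, i < 21062 → P i := stepQ 21061 Q21061 (allL N21061 (tt N20297 F171619) (tt N22420 (iv F177864)) (tt N19484 F171620) (tt N22423 (iv F177877)) (tt N19481 F171621) (tt N22201 (iv F176660)) (tt N22425 (iv F177886)) (tt N19479 F171622) (tt N19478 (iv D36988)) (tt N22426 D38353))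
theorem Q21063 : ∀ i, i < 21063 → P i := stepQ 21062 Q21062 (allL N21062 (tt N20298 F171623) (tt N22125 (iv F176228)) (tt N19486 F171624) (tt N22119 (iv F176191)) (tt N19482 F171625) (tt N22116 (iv F176177)) (tt N21928 (iv F174972)) (tt N22426 (iv F177890)) (tt N22026 (iv F175592)) (tt N19479 (iv D36989)))
theorem Q21064 : ∀ i, i < 21064 → P i := stepQ 21063 Q21063 (allL N21063 (tt N20299 F171626) (tt N22421 (iv F177869)) (tt N19487 F171627) (tt N21063 F171628) (tt N22425 (iv F177885)) (tt N22427 D38354) (tt N19481 F171629) (tt N21929 (iv F174979)) (tt N19480 (iv D36990)) (tt N22428 D38355))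
theorem Q21065 : ∀ i, i < 21065 → P i := stepQ 21064 Q21064 (allL N21064 (tt N20300 F171630) (tt N22285 (iv F177123)) (tt N19488 F171631) (tt N21064 F171632) (tt N22426 (iv F177889)) (tt N19754 F171633) (tt N22428 (iv F177899)) (tt N19482 F171634) (tt N22028 (iv F175605)) (tt N19481 (iv D36991)))
theorem Q21066 : ∀ i, i < 21066 → P i := stepQ 21065 Q21065 (allL N21065 (tt N20301 F171635) (tt N22100 (iv F176064)) (tt N22424 (iv F177881)) (tt N22073 (iv F175883)) (tt N22017 (iv F175523)) (tt N19483 (iv D36992)) (tt N19525 F171636) (tt N21931 (iv F174992)) (tt N22429 D38356) (tt N22029 (iv F175612)))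
theorem Q21067 : ∀ i, i < 21067 → P i := stepQ 21066 Q21066 (allL N21066 (tt N20302 F171637) (tt N22101 (iv F176071)) (tt N22425 (iv F177884)) (tt N22074 (iv F175890)) (tt N19487 F171638) (tt N22430 D38357) (tt N19484 F171639) (tt N21932 (iv F174999)) (tt N19483 (iv D36993)) (tt N22431 D38358))
theorem Q21068 : ∀ i, i < 21068 → P i := stepQ 21067 Q21067 (allL N21067 (tt N20303 F171640) (tt N22102 (iv F176077)) (tt N22201 (iv F176658)) (tt N22075 (iv F175896)) (tt N19756 F171641) (tt N19484 (iv D36994)) (tt N22432 D38359) (tt N19485 F171642) (tt N19527 F171643) (tt N22433 D38360))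
theorem Q21069 : ∀ i, i < 21069 → P i := stepQ 21068 Q21068 (allL N21068 (tt N20304 F171644) (tt N22103 (iv F176083)) (tt N22426 (iv F177888)) (tt N22076 (iv F175902)) (tt N19488 F171645) (tt N22433 (iv F177911)) (tt N22431 (iv F177905)) (tt N19486 F171646) (tt N22032 (iv F175630)) (tt N19484 (iv D36995)))
theorem Q21070 : ∀ i, i < 21070 → P i := stepQ 21069 Q21069 (allL N21069 (tt N20305 F171647) (tt N22104 (iv F176090)) (tt N22111 (iv F176141)) (tt N22077 (iv F175909)) (tt N19758 F171648) (tt N21935 (iv F175017)) (tt N19485 (iv D36996)) (tt N22434 D38361) (tt N19529 F171649) (tt N22205 (iv F176688)))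
theorem Q21071 : ∀ i, i < 21071 → P i := stepQ 21070 Q21070 (allL N21070 (tt N20306 F171650) (tt N22105 (iv F176098)) (tt N22116 (iv F176174)) (tt N22078 (iv F175917)) (tt N19759 F171651) (tt N19486 F171652) (tt N22205 (iv F176687)) (tt N22433 (iv F177912)) (tt N22114 F176167) (tt N19485 (iv D36997)))
theorem Q21072 : ∀ i, i < 21072 → P i := stepQ 21071 Q21071 (allL N21071 (tt N20307 F171653) (tt N22106 (iv F176106)) (tt N22427 (iv F177892)) (tt N19489 F171654) (tt N22435 D38362) (tt N19487 (iv D36998)) (tt N19760 F171655) (tt N21937 (iv F175032)) (tt N22019 (iv F175541)) (tt N22436 D38363))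
theorem Q21073 : ∀ i, i < 21073 → P i := stepQ 21072 Q21072 (allL N21072 (tt N20308 F171656) (tt N22107 (iv F176112)) (tt N22428 (iv F177897)) (tt N19490 F171657) (tt N22431 (iv F177904)) (tt N22436 (iv F177920)) (tt N19488 F171658) (tt N21938 (iv F175038)) (tt N22036 (iv F175658)) (tt N19487 (iv D36999)))
theorem Q21074 : ∀ i, i < 21074 → P i := stepQ 21073 Q21073 (allL N21073 (tt N20309 F171659) (tt N19683 F171660) (tt N21073 F171661) (tt N22437 D38364) (tt N19489 (iv D37000)) (tt N22081 (iv F175937)) (tt N19705 F171662) (tt N21939 (iv F175045)) (tt N19676 F171663) (tt N22438 D38365))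
theorem Q21075 : ∀ i, i < 21075 → P i := stepQ 21074 Q21074 (allL N21074 (tt N20310 F171664) (tt N22108 (iv F176119)) (tt N21074 F171665) (tt N22436 (iv F177919)) (tt N22438 (iv F177929)) (tt N19490 F171666) (tt N19762 F171667) (tt N21940 (iv F175052)) (tt N22439 D38366) (tt N19489 (iv D37001)))
theorem Q21076 : ∀ i, i < 21076 → P i := stepQ 21075 Q21075 (allL N21075 (tt N20262 F171668) (tt N22305 (iv F177243)) (tt N19493 F171669) (tt N22156 (iv F176412)) (tt N19492 F171670) (tt N22440 D38367) (tt N19491 (iv D37002)) (tt N19551 F171671) (tt N19791 F171672) (tt N19889 F171673))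
theorem Q21077 : ∀ i, i < 21077 → P i := stepQ 21076 Q21076 (allL N21076 (tt N20311 F171674) (tt N22341 (iv F177476)) (tt N22440 (iv F177939)) (tt N21898 (iv F174768)) (tt N19525 F171675) (tt N19493 (iv D37003)) (tt N22017 (iv F175524)) (tt N19552 F171676) (tt N22441 D38368) (tt N19893 F171677))
theorem Q21078 : ∀ i, i < 21078 → P i := stepQ 21077 Q21077 (allL N21077 (tt N20260 F171678) (tt N22342 (iv F177483)) (tt N19791 F171679) (tt N21899 (iv F174775)) (tt N19495 F171680) (tt N22442 D38369) (tt N19494 F171681) (tt N19553 F171682) (tt N19493 (iv D37004)) (tt N22148 (iv F176360)))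
theorem Q21079 : ∀ i, i < 21079 → P i := stepQ 21078 Q21078 (allL N21078 (tt N20314 F171683) (tt N20166 F171684) (tt N22095 (iv F176032)) (tt N19497 F171685) (tt N19618 F171686) (tt N22021 (iv F175556)) (tt N22443 D38370) (tt N19496 (iv D37005)) (tt N22444 D38371) (tt N19518 F171687))
theorem Q21080 : ∀ i, i < 21080 → P i := stepQ 21079 Q21079 (allL N21079 (tt N20025 F171688) (tt N19801 F171689) (tt N20120 F171690) (tt N19498 F171691) (tt N19619 F171692) (tt N22317 (iv F177332)) (tt N19561 F171693) (tt N22444 (iv F177962)) (tt N19496 (iv D37006)) (tt N20037 (iv F171694)))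
theorem Q21081 : ∀ i, i < 21081 → P i := stepQ 21080 Q21080 (allL N21080 (tt N20315 F171695) (tt N20388 F171696) (tt N19502 F171697) (tt N22443 (iv F177953)) (tt N19499 F171698) (tt N22445 D38372) (tt N19497 (iv D37007)) (tt N19562 F171699) (tt N22446 D38373) (tt N19520 F171700))
theorem Q21082 : ∀ i, i < 21082 → P i := stepQ 21081 Q21081 (allL N21081 (tt N20316 F171701) (tt N19922 F171702) (tt N19503 F171703) (tt N22444 (iv F177960)) (tt N19500 F171704) (tt N22447 D38374) (tt N22446 (iv F177974)) (tt N19498 F171705) (tt N19497 (iv D37008)) (tt N22448 D38375))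
theorem Q21083 : ∀ i, i < 21083 → P i := stepQ 21082 Q21082 (allL N21082 (tt N20317 F171706) (tt N19897 F171707) (tt N19504 F171708) (tt N22317 (iv F177330)) (tt N21082 F171709) (tt N19498 (iv D37009)) (tt N19840 F171710) (tt N22447 (iv F177980)) (tt N22025 (iv F175583)) (tt N22347 (iv F177521)))
theorem Q21084 : ∀ i, i < 21084 → P i := stepQ 21083 Q21083 (allL N21083 (tt N20039 F171711) (tt N19923 F171712) (tt N19505 F171713) (tt N20037 F171714) (tt N19501 F171715) (tt N22347 (iv F177519)) (tt N19564 F171716) (tt N22448 (iv F177986)) (tt N19522 F171717) (tt N19498 (iv D37010)))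
theorem Q21085 : ∀ i, i < 21085 → P i := stepQ 21084 Q21084 (allL N21084 (tt N20318 F171718) (tt N19941 F171719) (tt N19506 F171720) (tt N19622 F171721) (tt N22446 (iv F177973)) (tt N22449 D38376) (tt N19500 F171722) (tt N19565 F171723) (tt N19499 (iv D37011)) (tt N22450 D38377))
theorem Q21086 : ∀ i, i < 21086 → P i := stepQ 21085 Q21085 (allL N21085 (tt N20319 F171724) (tt N19943 F171725) (tt N19507 F171726) (tt N19623 F171727) (tt N22448 (iv F177985)) (tt N21085 F171728) (tt N22450 (iv F177999)) (tt N19501 F171729) (tt N19524 F171730) (tt N19500 (iv D37012)))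
theorem Q21087 : ∀ i, i < 21087 → P i := stepQ 21086 Q21086 (allL N21086 (tt N20320 F171731) (tt N22073 (iv F175882)) (tt N22445 (iv F177966)) (tt N22100 (iv F176065)) (tt N19893 F171732) (tt N19502 (iv D37013)) (tt N22029 (iv F175610)) (tt N19567 F171733) (tt N22451 D38378) (tt N19525 F171734))
theorem Q21088 : ∀ i, i < 21088 → P i := stepQ 21087 Q21087 (allL N21087 (tt N20321 F171735) (tt N22074 (iv F175889)) (tt N22446 (iv F177972)) (tt N22101 (iv F176072)) (tt N19506 F171736) (tt N22452 D38379) (tt N19503 F171737) (tt N19568 F171738) (tt N19502 (iv D37014)) (tt N22453 D38380))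
theorem Q21089 : ∀ i, i < 21089 → P i := stepQ 21088 Q21088 (allL N21088 (tt N20322 F171739) (tt N22075 (iv F175895)) (tt N22447 (iv F177978)) (tt N22102 (iv F176078)) (tt N21088 F171740) (tt N19503 (iv D37015)) (tt N22454 D38381) (tt N19504 F171741) (tt N22031 (iv F175624)) (tt N22455 D38382))
theorem Q21090 : ∀ i, i < 21090 → P i := stepQ 21089 Q21089 (allL N21089 (tt N20323 F171742) (tt N22076 (iv F175901)) (tt N22448 (iv F177983)) (tt N22103 (iv F176085)) (tt N19507 F171743) (tt N22455 (iv F178016)) (tt N22453 (iv F178009)) (tt N19505 F171744) (tt N19528 F171745) (tt N19503 (iv D37016)))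
theorem Q21091 : ∀ i, i < 21091 → P i := stepQ 21090 Q21090 (allL N21090 (tt N20324 F171746) (tt N22077 (iv F175907)) (tt N19840 F171747) (tt N22104 (iv F176092)) (tt N21090 F171748) (tt N19571 F171749) (tt N19504 (iv D37017)) (tt N22456 D38383) (tt N22033 (iv F175637)) (tt N22399 (iv F177780)))
theorem Q21092 : ∀ i, i < 21092 → P i := stepQ 21091 Q21091 (allL N21091 (tt N20325 F171750) (tt N22078 (iv F175915)) (tt N22347 (iv F177516)) (tt N22105 (iv F176100)) (tt N21091 F171751) (tt N19505 F171752) (tt N22399 (iv F177779)) (tt N22455 (iv F178017)) (tt N22345 F177509) (tt N19504 (iv D37018)))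
theorem Q21093 : ∀ i, i < 21093 → P i := stepQ 21092 Q21092 (allL N21092 (tt N20326 F171753) (tt N22079 (iv F175923)) (tt N22449 (iv F177990)) (tt N19508 F171754) (tt N22457 D38384) (tt N19506 (iv D37019)) (tt N21092 F171755) (tt N19573 F171756) (tt N19898 F171757) (tt N22458 D38385))
theorem Q21094 : ∀ i, i < 21094 → P i := stepQ 21093 Q21093 (allL N21093 (tt N20327 F171758) (tt N22080 (iv F175929)) (tt N22450 (iv F177997)) (tt N19509 F171759) (tt N22453 (iv F178008)) (tt N22458 (iv F178028)) (tt N19507 F171760) (tt N19574 F171761) (tt N19532 F171762) (tt N19506 (iv D37020)))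
theorem Q21095 : ∀ i, i < 21095 → P i := stepQ 21094 Q21094 (allL N21094 (tt N20328 F171763) (tt N22081 (iv F175935)) (tt N19628 F171764) (tt N22459 D38386) (tt N19508 (iv D37021)) (tt N19683 F171765) (tt N21094 F171766) (tt N19575 F171767) (tt N19684 F171768) (tt N22276 (iv F177068)))
theorem Q21096 : ∀ i, i < 21096 → P i := stepQ 21095 Q21095 (allL N21095 (tt N20329 F171769) (tt N21994 (iv F175365)) (tt N19629 F171770) (tt N22458 (iv F178027)) (tt N22276 (iv F177064)) (tt N19509 F171771) (tt N21095 F171772) (tt N19576 F171773) (tt N21922 (iv F174930)) (tt N19508 (iv D37022)))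
theorem Q21097 : ∀ i, i < 21097 → P i := stepQ 21096 Q21096 (allL N21096 (tt N19513 F171774) (tt N19768 F171775) (tt N22343 (iv F177490)) (tt N22237 (iv F176833)) (tt N19511 F171776) (tt N22416 (iv F177844)) (tt N22364 (iv F177599)) (tt N19510 (iv D37023)) (tt N19793 F171777) (tt N19602 F171778))
theorem Q21098 : ∀ i, i < 21098 → P i := stepQ 21097 Q21097 (allL N21097 (tt N22225 (iv F176780)) (tt N22114 (iv F176161)) (tt N19512 (iv D37024)) (tt N22345 (iv F177504)) (tt N19630 F171779) (tt N22141 (iv F176316)) (tt N19578 F171780) (tt N22460 D38387) (tt N22105 (iv F176104)) (tt N20159 F171781))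
theorem Q21099 : ∀ i, i < 21099 → P i := stepQ 21098 Q21098 (allL N21098 (tt N22237 (iv F176831)) (tt N19518 F171782) (tt N22460 (iv F178036)) (tt N19513 F171783) (tt N19631 F171784) (tt N22418 (iv F177857)) (tt N22461 D38388) (tt N19512 (iv D37025)) (tt N22462 D38389) (tt N20166 F171785))
theorem Q21100 : ∀ i, i < 21100 → P i := stepQ 21099 Q21099 (allL N21099 (tt N19792 F171786) (tt N19519 F171787) (tt N22105 (iv F176099)) (tt N19514 F171788) (tt N19632 F171789) (tt N20141 (iv F171791)) (tt N19580 F171790) (tt N22462 (iv F178048)) (tt N19512 (iv D37026)) (tt N22098 (iv F176055)))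
theorem Q21101 : ∀ i, i < 21101 → P i := stepQ 21100 Q21100 (allL N21100 (tt N22364 (iv F177597)) (tt N19520 F171792) (tt N22348 (iv F177523)) (tt N22461 (iv F178040)) (tt N19515 F171793) (tt N22463 D38390) (tt N19513 (iv D37027)) (tt N19581 F171794) (tt N22464 D38391) (tt N20388 F171795))
theorem Q21102 : ∀ i, i < 21102 → P i := stepQ 21101 Q21101 (allL N21101 (tt N19793 F171796) (tt N19521 F171797) (tt N22349 (iv F177529)) (tt N22462 (iv F178046)) (tt N19516 F171798) (tt N20142 (iv F171800)) (tt N22464 (iv F178056)) (tt N19514 F171799) (tt N19513 (iv D37028)) (tt N22465 D38392))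
theorem Q21103 : ∀ i, i < 21103 → P i := stepQ 21102 Q21102 (allL N21102 (tt N19535 F171801) (tt N19522 F171802) (tt N22317 (iv F177329)) (tt N22098 (iv F176052)) (tt N19517 F171803) (tt N20120 F171804) (tt N19584 F171805) (tt N22465 (iv F178062)) (tt N19923 F171806) (tt N19514 (iv D37029)))
theorem Q21104 : ∀ i, i < 21104 → P i := stepQ 21103 Q21103 (allL N21103 (tt N19794 F171807) (tt N19523 F171808) (tt N22350 (iv F177535)) (tt N19636 F171809) (tt N22464 (iv F178055)) (tt N19784 F171810) (tt N19516 F171811) (tt N19585 F171812) (tt N19515 (iv D37030)) (tt N22466 D38393))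
theorem Q21105 : ∀ i, i < 21105 → P i := stepQ 21104 Q21104 (allL N21104 (tt N19536 F171813) (tt N19524 F171814) (tt N22338 (iv F177458)) (tt N19637 F171815) (tt N22465 (iv F178060)) (tt N19534 F171816) (tt N22466 (iv F178068)) (tt N19517 F171817) (tt N19943 F171818) (tt N19516 (iv D37031)))
theorem Q21106 : ∀ i, i < 21106 → P i := stepQ 21105 Q21105 (allL N21105 (tt N20332 F171819) (tt N22461 (iv F178039)) (tt N22123 (iv F176217)) (tt N19520 F171820) (tt N19638 F171821) (tt N22467 D38394) (tt N19518 (iv D37032)) (tt N19587 F171822) (tt N22468 D38395) (tt N22443 (iv F177956)))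
theorem Q21107 : ∀ i, i < 21107 → P i := stepQ 21106 Q21106 (allL N21106 (tt N20333 F171823) (tt N22462 (iv F178045)) (tt N22124 (iv F176222)) (tt N19521 F171824) (tt N19639 F171825) (tt N22199 (iv F176651)) (tt N22468 (iv F178077)) (tt N19519 F171826) (tt N19518 (iv D37033)) (tt N22469 D38396))
theorem Q21108 : ∀ i, i < 21108 → P i := stepQ 21107 Q21107 (allL N21107 (tt N20041 F171827) (tt N22098 (iv F176050)) (tt N20143 F171828) (tt N19522 F171829) (tt N19640 F171830) (tt N22092 (iv F176015)) (tt N19590 F171831) (tt N22469 (iv F178083)) (tt N20037 F171832) (tt N19519 (iv D37034)))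
theorem Q21109 : ∀ i, i < 21109 → P i := stepQ 21108 Q21108 (allL N21108 (tt N20334 F171833) (tt N22463 (iv F178050)) (tt N19525 F171834) (tt N22467 (iv F178072)) (tt N22440 (iv F177940)) (tt N19520 (iv D37035)) (tt N22424 (iv F177882)) (tt N19591 F171835) (tt N22470 D38397) (tt N22445 (iv F177969)))
theorem Q21110 : ∀ i, i < 21110 → P i := stepQ 21109 Q21109 (allL N21109 (tt N20335 F171836) (tt N22464 (iv F178054)) (tt N19526 F171837) (tt N22468 (iv F178075)) (tt N19523 F171838) (tt N22471 D38398) (tt N19521 F171839) (tt N19592 F171840) (tt N19520 (iv D37036)) (tt N22472 D38399))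
theorem Q21111 : ∀ i, i < 21111 → P i := stepQ 21110 Q21110 (allL N21110 (tt N20336 F171841) (tt N22465 (iv F178059)) (tt N19528 F171842) (tt N22469 (iv F178081)) (tt N19524 F171843) (tt N22167 (iv F176477)) (tt N22472 (iv F178095)) (tt N19522 F171844) (tt N22448 (iv F177987)) (tt N19521 (iv D37037)))
theorem Q21112 : ∀ i, i < 21112 → P i := stepQ 21111 Q21111 (allL N21111 (tt N20337 F171845) (tt N22466 (iv F178065)) (tt N19532 F171846) (tt N19644 F171847) (tt N22472 (iv F178094)) (tt N19803 F171848) (tt N19524 F171849) (tt N19597 F171850) (tt N22450 (iv F178001)) (tt N19523 (iv D37038)))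
theorem Q21113 : ∀ i, i < 21113 → P i := stepQ 21112 Q21112 (allL N21112 (tt N20338 F171851) (tt N22358 (iv F177573)) (tt N22470 (iv F178086)) (tt N22134 (iv F176281)) (tt N22441 (iv F177944)) (tt N22473 D38400) (tt N22429 (iv F177901)) (tt N19598 F171852) (tt N19525 (iv D37039)) (tt N22474 D38401))
theorem Q21114 : ∀ i, i < 21114 → P i := stepQ 21113 Q21113 (allL N21113 (tt N20339 F171853) (tt N22359 (iv F177575)) (tt N22471 (iv F178089)) (tt N22135 (iv F176284)) (tt N22475 D38402) (tt N19526 (iv D37040)) (tt N22476 D38403) (tt N19599 F171854) (tt N22473 (iv F178099)) (tt N22477 D38404))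
theorem Q21115 : ∀ i, i < 21115 → P i := stepQ 21114 Q21114 (allL N21114 (tt N20340 F171855) (tt N22360 (iv F177578)) (tt N22472 (iv F178093)) (tt N22136 (iv F176287)) (tt N19532 F171856) (tt N22477 (iv F178109)) (tt N19528 F171857) (tt N19600 F171858) (tt N22453 (iv F178011)) (tt N19526 (iv D37041)))
theorem Q21116 : ∀ i, i < 21116 → P i := stepQ 21115 Q21115 (allL N21115 (tt N20341 F171859) (tt N22361 (iv F177582)) (tt N22200 (iv F176654)) (tt N22137 (iv F176292)) (tt N19764 F171860) (tt N22476 (iv F178107)) (tt N19527 (iv D37042)) (tt N22478 D38405) (tt N22432 (iv F177908)) (tt N22479 D38406))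
theorem Q21117 : ∀ i, i < 21117 → P i := stepQ 21116 Q21116 (allL N21116 (tt N20342 F171861) (tt N22362 (iv F177585)) (tt N22167 (iv F176475)) (tt N22138 (iv F176295)) (tt N19765 F171862) (tt N19528 F171863) (tt N22479 (iv F178116)) (tt N19530 F171864) (tt N22480 D38407) (tt N19527 (iv D37043)))
theorem Q21118 : ∀ i, i < 21118 → P i := stepQ 21117 Q21117 (allL N21117 (tt N20343 F171865) (tt N22363 (iv F177592)) (tt N22110 (iv F176136)) (tt N22139 (iv F176300)) (tt N19766 F171866) (tt N19602 F171867) (tt N22478 (iv F178113)) (tt N19529 (iv D37044)) (tt N22434 (iv F177915)) (tt N22416 (iv F177846)))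
theorem Q21119 : ∀ i, i < 21119 → P i := stepQ 21118 Q21118 (allL N21118 (tt N20344 F171868) (tt N20159 F171869) (tt N22090 F176003) (tt N22141 (iv F176314)) (tt N19767 F171870) (tt N22345 (iv F177506)) (tt N20149 F171871) (tt N22480 (iv F178120)) (tt N19530 (iv D37045)) (tt N22114 (iv F176166)))
theorem Q21120 : ∀ i, i < 21120 → P i := stepQ 21119 Q21119 (allL N21119 (tt N20331 F171872) (tt N22364 (iv F177598)) (tt N19798 F171873) (tt N22481 D38408) (tt N19531 (iv D37046)) (tt N22475 (iv F178104)) (tt N19768 F171874) (tt N19603 F171875) (tt N19796 F171876) (tt N22415 (iv F177840)))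
theorem Q21121 : ∀ i, i < 21121 → P i := stepQ 21120 Q21120 (allL N21120 (tt N20345 F171877) (tt N22257 (iv F176935)) (tt N19976 F171878) (tt N19533 (iv D37047)) (tt N22481 (iv F178123)) (tt N22144 (iv F176329)) (tt N19769 F171879) (tt N19604 F171880) (tt N19815 F171881) (tt N22059 (iv F175791)))
theorem Q21122 : ∀ i, i < 21122 → P i := stepQ 21121 Q21121 (allL N21121 (tt N22098 (iv F176049)) (tt N19537 F171882) (tt N20018 F171883) (tt N19535 (iv D37048)) (tt N19646 F171884) (tt N20013 F171885) (tt N21885 (iv F174676)) (tt N22482 D38409) (tt N19993 F171886) (tt N19792 F171887))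
theorem Q21123 : ∀ i, i < 21123 → P i := stepQ 21122 Q21122 (allL N21122 (tt N22465 (iv F178058)) (tt N19538 F171888) (tt N22365 (iv F177604)) (tt N22482 (iv F178129)) (tt N19536 F171889) (tt N20122 F171890) (tt N22483 D38410) (tt N19535 (iv D37049)) (tt N21972 (iv F175237)) (tt N19793 F171891))
theorem Q21124 : ∀ i, i < 21124 → P i := stepQ 21123 Q21123 (allL N21123 (tt N22466 (iv F178064)) (tt N19540 F171892) (tt N22366 (iv F177611)) (tt N19648 F171893) (tt N22483 (iv F178135)) (tt N22147 (iv F176351)) (tt N19536 (iv D37050)) (tt N21893 (iv F174735)) (tt N21989 (iv F175338)) (tt N19794 F171894))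
theorem Q21125 : ∀ i, i < 21125 → P i := stepQ 21124 Q21124 (allL N21124 (tt N20046 F171895) (tt N22482 (iv F178127)) (tt N19550 F171896) (tt N19538 F171897) (tt N19649 F171898) (tt N20125 F171899) (tt N22484 D38411) (tt N19537 (iv D37051)) (tt N19995 F171900) (tt N19795 F171901))
theorem Q21126 : ∀ i, i < 21126 → P i := stepQ 21125 Q21125 (allL N21125 (tt N20346 F171902) (tt N22483 (iv F178134)) (tt N19542 F171903) (tt N22484 (iv F178139)) (tt N19540 F171904) (tt N22485 D38412) (tt N19538 (iv D37052)) (tt N21895 (iv F174748)) (tt N22486 D38413) (tt N19796 F171905))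
theorem Q21127 : ∀ i, i < 21127 → P i := stepQ 21126 Q21126 (allL N21126 (tt N20044 F171906) (tt N21972 (iv F175232)) (tt N19543 F171907) (tt N19995 F171908) (tt N19541 F171909) (tt N22339 (iv F177467)) (tt N22486 (iv F178151)) (tt N19539 F171910) (tt N19538 (iv D37053)) (tt N21914 (iv F174878)))
theorem Q21128 : ∀ i, i < 21128 → P i := stepQ 21127 Q21127 (allL N21127 (tt N20347 F171911) (tt N21989 (iv F175333)) (tt N19546 F171912) (tt N19651 F171913) (tt N22486 (iv F178150)) (tt N22487 D38414) (tt N19541 F171914) (tt N21897 (iv F174764)) (tt N19540 (iv D37054)) (tt N21920 (iv F174916)))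
theorem Q21129 : ∀ i, i < 21129 → P i := stepQ 21128 Q21128 (allL N21128 (tt N20348 F171915) (tt N22369 (iv F177632)) (tt N22485 (iv F178144)) (tt N19552 F171916) (tt N22149 (iv F176364)) (tt N19542 (iv D37055)) (tt N20131 F171917) (tt N21898 (iv F174771)) (tt N22488 D38415) (tt N19797 F171918))
theorem Q21130 : ∀ i, i < 21130 → P i := stepQ 21129 Q21129 (allL N21129 (tt N20277 F171919) (tt N22370 (iv F177639)) (tt N22486 (iv F178148)) (tt N19553 F171920) (tt N19546 F171921) (tt N22489 D38416) (tt N19543 F171922) (tt N21899 (iv F174778)) (tt N19542 (iv D37056)) (tt N22490 D38417))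
theorem Q21131 : ∀ i, i < 21131 → P i := stepQ 21130 Q21130 (allL N21130 (tt N19848 F171923) (tt N22371 (iv F177646)) (tt N22339 (iv F177464)) (tt N19554 F171924) (tt N21130 F171925) (tt N19543 (iv D37057)) (tt N22491 D38418) (tt N19544 F171926) (tt N20133 F171927) (tt N22309 (iv F177277)))
theorem Q21132 : ∀ i, i < 21132 → P i := stepQ 21131 Q21131 (allL N21131 (tt N20269 F171928) (tt N22372 (iv F177653)) (tt N21914 (iv F174873)) (tt N19555 F171929) (tt N19547 F171930) (tt N22309 (iv F177276)) (tt N22490 (iv F178166)) (tt N19545 F171931) (tt N19800 F171932) (tt N19543 (iv D37058)))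
theorem Q21133 : ∀ i, i < 21133 → P i := stepQ 21132 Q21132 (allL N21132 (tt N20349 F171933) (tt N22373 (iv F177660)) (tt N22487 (iv F178153)) (tt N19548 F171934) (tt N22492 D38419) (tt N19546 (iv D37059)) (tt N21132 F171935) (tt N21901 (iv F174792)) (tt N22151 (iv F176382)) (tt N22493 D38420))
theorem Q21134 : ∀ i, i < 21134 → P i := stepQ 21133 Q21133 (allL N21133 (tt N20350 F171936) (tt N22374 (iv F177667)) (tt N21920 (iv F174912)) (tt N19549 F171937) (tt N22490 (iv F178165)) (tt N22493 (iv F178176)) (tt N19547 F171938) (tt N21902 (iv F174799)) (tt N19803 F171939) (tt N19546 (iv D37060)))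
theorem Q21135 : ∀ i, i < 21135 → P i := stepQ 21134 Q21134 (allL N21134 (tt N20351 F171940) (tt N22261 (iv F176959)) (tt N19654 F171941) (tt N22494 D38421) (tt N19548 (iv D37061)) (tt N19558 F171942) (tt N21134 F171943) (tt N19816 F171944) (tt N22152 (iv F176390)) (tt N22278 (iv F177082)))
theorem Q21136 : ∀ i, i < 21136 → P i := stepQ 21135 Q21135 (allL N21135 (tt N20352 F171945) (tt N22375 (iv F177674)) (tt N19655 F171946) (tt N22493 (iv F178175)) (tt N22278 (iv F177078)) (tt N19549 F171947) (tt N21135 F171948) (tt N21903 (iv F174807)) (tt N22283 (iv F177112)) (tt N19548 (iv D37062)))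
theorem Q21137 : ∀ i, i < 21137 → P i := stepQ 21136 Q21136 (allL N21136 (tt N20049 F171949) (tt N22018 (iv F175528)) (tt N22484 (iv F178138)) (tt N19551 F171950) (tt N19656 F171951) (tt N22495 D38422) (tt N19550 (iv D37063)) (tt N22156 (iv F176415)) (tt N19997 F171952) (tt N19906 F171953))
theorem Q21138 : ∀ i, i < 21138 → P i := stepQ 21137 Q21137 (allL N21137 (tt N20280 F171954) (tt N22336 (iv F177445)) (tt N19552 F171955) (tt N22495 (iv F178184)) (tt N19591 F171956) (tt N19551 (iv D37064)) (tt N20357 F171957) (tt N22440 (iv F177941)) (tt N22496 D38423) (tt N19909 F171958))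
theorem Q21139 : ∀ i, i < 21139 → P i := stepQ 21138 Q21138 (allL N21138 (tt N20353 F171959) (tt N22378 (iv F177687)) (tt N22496 (iv F178188)) (tt N22488 (iv F178159)) (tt N19598 F171960) (tt N22497 D38424) (tt N20362 F171961) (tt N22441 (iv F177945)) (tt N19552 (iv D37065)) (tt N22498 D38425))
theorem Q21140 : ∀ i, i < 21140 → P i := stepQ 21139 Q21139 (allL N21139 (tt N20278 F171962) (tt N22379 (iv F177690)) (tt N20259 F171963) (tt N22489 (iv F178162)) (tt N22499 D38426) (tt N19553 (iv D37066)) (tt N22500 D38427) (tt N22442 (iv F177950)) (tt N22497 (iv F178194)) (tt N22501 D38428))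
theorem Q21141 : ∀ i, i < 21141 → P i := stepQ 21140 Q21140 (allL N21140 (tt N20270 F171964) (tt N22380 (iv F177691)) (tt N20258 F171965) (tt N22490 (iv F178164)) (tt N19557 F171966) (tt N22501 (iv F178208)) (tt N19555 F171967) (tt N22148 (iv F176358)) (tt N19919 F171968) (tt N19553 (iv D37067)))
theorem Q21142 : ∀ i, i < 21142 → P i := stepQ 21141 Q21141 (allL N21141 (tt N19849 F171969) (tt N22381 (iv F177695)) (tt N19823 F171970) (tt N22491 (iv F178169)) (tt N19606 F171971) (tt N22500 (iv F178205)) (tt N19554 (iv D37068)) (tt N22368 (iv F177628)) (tt N20365 F171972) (tt N22310 (iv F177282)))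
theorem Q21143 : ∀ i, i < 21143 → P i := stepQ 21142 Q21142 (allL N21142 (tt N20264 F171973) (tt N22382 (iv F177699)) (tt N19790 F171974) (tt N22502 D38429) (tt N19556 (iv D37069)) (tt N22499 (iv F178201)) (tt N19607 F171975) (tt N19796 F171976) (tt N19603 F171977) (tt N21895 (iv F174749)))
theorem Q21144 : ∀ i, i < 21144 → P i := stepQ 21143 Q21143 (allL N21143 (tt N20354 F171978) (tt N22258 (iv F176941)) (tt N19967 F171979) (tt N19558 (iv D37070)) (tt N22502 (iv F178211)) (tt N22494 (iv F178180)) (tt N19608 F171980) (tt N19815 F171981) (tt N19604 F171982) (tt N22154 (iv F176402)))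
theorem Q21145 : ∀ i, i < 21145 → P i := stepQ 21144 Q21144 (allL N21144 (tt N20356 F171983) (tt N20165 F171984) (tt N22176 (iv F176526)) (tt N19562 F171985) (tt N19658 F171986) (tt N22503 D38430) (tt N19560 (iv D37071)) (tt N22443 (iv F177955)) (tt N22504 D38431) (tt N19587 F171987))
theorem Q21146 : ∀ i, i < 21146 → P i := stepQ 21145 Q21145 (allL N21145 (tt N20105 F171988) (tt N19799 F171989) (tt N22177 (iv F176531)) (tt N19563 F171990) (tt N19659 F171991) (tt N19782 F171992) (tt N22504 (iv F178224)) (tt N19561 F171993) (tt N19560 (iv D37072)) (tt N22505 D38432))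
theorem Q21147 : ∀ i, i < 21147 → P i := stepQ 21146 Q21146 (allL N21146 (tt N20000 F171994) (tt N19802 F171995) (tt N20073 F171996) (tt N19564 F171997) (tt N19660 F171998) (tt N19783 F171999) (tt N20037 F172000) (tt N22505 (iv F178231)) (tt N19590 F172001) (tt N19561 (iv D37073)))
theorem Q21148 : ∀ i, i < 21148 → P i := stepQ 21147 Q21147 (allL N21147 (tt N20357 F172002) (tt N20386 F172003) (tt N19567 F172004) (tt N22503 (iv F178217)) (tt N19909 F172005) (tt N19562 (iv D37074)) (tt N20280 F172006) (tt N22445 (iv F177968)) (tt N22506 D38433) (tt N19591 F172007))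
theorem Q21149 : ∀ i, i < 21149 → P i := stepQ 21148 Q21148 (allL N21148 (tt N20358 F172008) (tt N19920 F172009) (tt N19568 F172010) (tt N22504 (iv F178222)) (tt N19565 F172011) (tt N22507 D38434) (tt N19563 F172012) (tt N22446 (iv F177975)) (tt N19562 (iv D37075)) (tt N22508 D38435))
theorem Q21150 : ∀ i, i < 21150 → P i := stepQ 21149 Q21149 (allL N21149 (tt N20359 F172013) (tt N19921 F172014) (tt N19570 F172015) (tt N22505 (iv F178228)) (tt N19566 F172016) (tt N19852 F172017) (tt N22508 (iv F178246)) (tt N19564 F172018) (tt N19594 F172019) (tt N19563 (iv D37076)))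
theorem Q21151 : ∀ i, i < 21151 → P i := stepQ 21150 Q21150 (allL N21150 (tt N20360 F172020) (tt N19939 F172021) (tt N19573 F172022) (tt N19664 F172023) (tt N22509 D38436) (tt N19565 (iv D37077)) (tt N19717 F172024) (tt N22449 (iv F177993)) (tt N19915 F172025) (tt N22510 D38437))
theorem Q21152 : ∀ i, i < 21152 → P i := stepQ 21151 Q21151 (allL N21151 (tt N20361 F172026) (tt N19942 F172027) (tt N19574 F172028) (tt N19665 F172029) (tt N22508 (iv F178245)) (tt N22510 (iv F178257)) (tt N19566 F172030) (tt N22450 (iv F178000)) (tt N19597 F172031) (tt N19565 (iv D37078)))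
theorem Q21153 : ∀ i, i < 21153 → P i := stepQ 21152 Q21152 (allL N21152 (tt N20362 F172032) (tt N22389 (iv F177734)) (tt N22506 (iv F178235)) (tt N22186 (iv F176584)) (tt N19917 F172033) (tt N22511 D38438) (tt N20353 F172034) (tt N22451 (iv F178004)) (tt N19567 (iv D37079)) (tt N22512 D38439))
theorem Q21154 : ∀ i, i < 21154 → P i := stepQ 21153 Q21153 (allL N21153 (tt N20363 F172035) (tt N22390 (iv F177737)) (tt N22507 (iv F178240)) (tt N22187 (iv F176587)) (tt N22513 D38440) (tt N19568 (iv D37080)) (tt N22514 D38441) (tt N22452 (iv F178006)) (tt N22511 (iv F178260)) (tt N22515 D38442))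
theorem Q21155 : ∀ i, i < 21155 → P i := stepQ 21154 Q21154 (allL N21154 (tt N20364 F172036) (tt N22391 (iv F177739)) (tt N22508 (iv F178244)) (tt N22188 (iv F176589)) (tt N19574 F172037) (tt N22515 (iv F178271)) (tt N19570 F172038) (tt N22453 (iv F178010)) (tt N19600 F172039) (tt N19568 (iv D37081)))
theorem Q21156 : ∀ i, i < 21156 → P i := stepQ 21155 Q21155 (allL N21155 (tt N20365 F172040) (tt N22392 (iv F177743)) (tt N19851 F172041) (tt N22189 (iv F176594)) (tt N19721 F172042) (tt N22514 (iv F178269)) (tt N19569 (iv D37082)) (tt N22516 D38443) (tt N19849 F172043) (tt N22517 D38444))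
theorem Q21157 : ∀ i, i < 21157 → P i := stepQ 21156 Q21156 (allL N21156 (tt N20366 F172044) (tt N22323 (iv F177370)) (tt N19852 F172045) (tt N22190 (iv F176598)) (tt N19722 F172046) (tt N19570 F172047) (tt N22517 (iv F178280)) (tt N19572 F172048) (tt N22319 (iv F177348)) (tt N19569 (iv D37083)))
theorem Q21158 : ∀ i, i < 21158 → P i := stepQ 21157 Q21157 (allL N21157 (tt N20367 F172049) (tt N22393 (iv F177747)) (tt N19839 F172050) (tt N22191 (iv F176603)) (tt N19723 F172051) (tt N22456 (iv F178021)) (tt N22516 (iv F178275)) (tt N19571 (iv D37084)) (tt N19836 F172052) (tt N22518 D38445))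
theorem Q21159 : ∀ i, i < 21159 → P i := stepQ 21158 Q21158 (allL N21158 (tt N20368 F172053) (tt N20065 F172054) (tt N19841 F172055) (tt N22192 (iv F176609)) (tt N19724 F172056) (tt N22399 (iv F177778)) (tt N19572 F172057) (tt N22518 (iv F178285)) (tt N20061 F172058) (tt N19571 (iv D37085)))
theorem Q21160 : ∀ i, i < 21160 → P i := stepQ 21159 Q21159 (allL N21159 (tt N20369 F172059) (tt N22394 (iv F177752)) (tt N22509 (iv F178250)) (tt N22519 D38446) (tt N19573 (iv D37086)) (tt N22513 (iv F178266)) (tt N19725 F172060) (tt N22457 (iv F178024)) (tt N19924 F172061) (tt N22520 D38447))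
theorem Q21161 : ∀ i, i < 21161 → P i := stepQ 21160 Q21160 (allL N21160 (tt N20370 F172062) (tt N21983 (iv F175302)) (tt N22510 (iv F178255)) (tt N19576 F172063) (tt N22520 (iv F178292)) (tt N19574 F172064) (tt N19726 F172065) (tt N22458 (iv F178030)) (tt N21919 (iv F174908)) (tt N19573 (iv D37087)))
theorem Q21162 : ∀ i, i < 21162 → P i := stepQ 21161 Q21161 (allL N21161 (tt N20371 F172066) (tt N22395 (iv F177755)) (tt N22521 D38448) (tt N19575 (iv D37088)) (tt N22519 (iv F178288)) (tt N22196 (iv F176629)) (tt N19727 F172067) (tt N22459 (iv F178034)) (tt N19926 F172068) (tt N22292 (iv F177159)))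
theorem Q21163 : ∀ i, i < 21163 → P i := stepQ 21162 Q21162 (allL N21162 (tt N22223 (iv F176769)) (tt N22204 (iv F176675)) (tt N19579 F172069) (tt N22398 (iv F177769)) (tt N19671 F172070) (tt N20158 F172071) (tt N22522 D38449) (tt N19578 (iv D37089)) (tt N22523 D38450) (tt N20157 F172072))
theorem Q21164 : ∀ i, i < 21164 → P i := stepQ 21163 Q21163 (allL N21163 (tt N22226 (iv F176788)) (tt N22205 (iv F176682)) (tt N19580 F172073) (tt N22399 (iv F177776)) (tt N19672 F172074) (tt N22192 (iv F176611)) (tt N22105 (iv F176103)) (tt N22523 (iv F178304)) (tt N19578 (iv D37090)) (tt N22104 F176096))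
theorem Q21165 : ∀ i, i < 21165 → P i := stepQ 21164 Q21164 (allL N21164 (tt N22235 (iv F176821)) (tt N19587 F172075) (tt N22522 (iv F178299)) (tt N19581 F172076) (tt N19673 F172077) (tt N22524 D38451) (tt N19579 (iv D37091)) (tt N22461 (iv F178042)) (tt N22525 D38452) (tt N20165 F172078))
theorem Q21166 : ∀ i, i < 21166 → P i := stepQ 21165 Q21165 (allL N21165 (tt N22236 (iv F176826)) (tt N19588 F172079) (tt N22523 (iv F178302)) (tt N19582 F172080) (tt N19674 F172081) (tt N22526 D38453) (tt N22525 (iv F178312)) (tt N19580 F172082) (tt N19579 (iv D37092)) (tt N22527 D38454))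
theorem Q21167 : ∀ i, i < 21167 → P i := stepQ 21166 Q21166 (allL N21166 (tt N22193 (iv F176614)) (tt N19589 F172083) (tt N22192 (iv F176608)) (tt N19583 F172084) (tt N21166 F172085) (tt N19580 (iv D37093)) (tt N22183 (iv F176571)) (tt N22526 (iv F178316)) (tt N20136 F172086) (tt N22182 F176564))
theorem Q21168 : ∀ i, i < 21168 → P i := stepQ 21167 Q21167 (allL N21167 (tt N21885 (iv F174670)) (tt N19590 F172087) (tt N22104 (iv F176091)) (tt N19584 F172088) (tt N19675 F172089) (tt N22182 (iv F176562)) (tt N22098 F176056) (tt N22527 (iv F178321)) (tt N19802 F172090) (tt N19580 (iv D37094)))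
theorem Q21169 : ∀ i, i < 21169 → P i := stepQ 21168 Q21168 (allL N21168 (tt N22412 (iv F177820)) (tt N19591 F172091) (tt N22402 (iv F177792)) (tt N22524 (iv F178306)) (tt N22336 (iv F177446)) (tt N19581 (iv D37095)) (tt N20387 F172092) (tt N22463 (iv F178051)) (tt N22528 D38455) (tt N20386 F172093))
theorem Q21170 : ∀ i, i < 21170 → P i := stepQ 21169 Q21169 (allL N21169 (tt N22382 (iv F177698)) (tt N19592 F172094) (tt N22403 (iv F177796)) (tt N22525 (iv F178310)) (tt N19585 F172095) (tt N22529 D38456) (tt N19582 F172096) (tt N22464 (iv F178057)) (tt N19581 (iv D37096)) (tt N22530 D38457))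
theorem Q21171 : ∀ i, i < 21171 → P i := stepQ 21170 Q21170 (allL N21170 (tt N22319 (iv F177343)) (tt N19593 F172097) (tt N22316 (iv F177321)) (tt N22526 (iv F178314)) (tt N19609 F172098) (tt N19582 (iv D37097)) (tt N22531 D38458) (tt N19583 F172099) (tt N20366 F172100) (tt N22311 (iv F177289)))
theorem Q21172 : ∀ i, i < 21172 → P i := stepQ 21171 Q21171 (allL N21171 (tt N21892 (iv F174723)) (tt N19594 F172101) (tt N22315 (iv F177313)) (tt N22527 (iv F178319)) (tt N19586 F172102) (tt N22311 (iv F177287)) (tt N22530 (iv F178328)) (tt N19584 F172103) (tt N19921 F172104) (tt N19582 (iv D37098)))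
theorem Q21173 : ∀ i, i < 21173 → P i := stepQ 21172 Q21172 (allL N21172 (tt N20061 F172105) (tt N19595 F172106) (tt N19783 F172107) (tt N22183 (iv F176568)) (tt N19610 F172108) (tt N20073 F172109) (tt N19583 (iv D37099)) (tt N22532 D38459) (tt N20368 F172110) (tt N19778 F172111))
theorem Q21174 : ∀ i, i < 21174 → P i := stepQ 21173 Q21173 (allL N21173 (tt N21893 (iv F174730)) (tt N19597 F172112) (tt N22337 (iv F177451)) (tt N19679 F172113) (tt N22530 (iv F178327)) (tt N22318 (iv F177339)) (tt N19586 F172114) (tt N22466 (iv F178069)) (tt N19942 F172115) (tt N19585 (iv D37100)))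
theorem Q21175 : ∀ i, i < 21175 → P i := stepQ 21174 Q21174 (allL N21174 (tt N20374 F172116) (tt N22524 (iv F178305)) (tt N22213 (iv F176720)) (tt N19591 F172117) (tt N22533 D38460) (tt N19587 (iv D37101)) (tt N21956 (iv F175157)) (tt N22467 (iv F178073)) (tt N22534 D38461) (tt N22503 (iv F178219)))
theorem Q21176 : ∀ i, i < 21176 → P i := stepQ 21175 Q21175 (allL N21175 (tt N20375 F172118) (tt N22525 (iv F178309)) (tt N22214 (iv F176723)) (tt N19592 F172119) (tt N19681 F172120) (tt N22535 D38462) (tt N19588 F172121) (tt N22468 (iv F178078)) (tt N19587 (iv D37102)) (tt N22536 D38463))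
theorem Q21177 : ∀ i, i < 21177 → P i := stepQ 21176 Q21176 (allL N21176 (tt N20376 F172122) (tt N22526 (iv F178313)) (tt N22215 (iv F176729)) (tt N19593 F172123) (tt N21176 F172124) (tt N19588 (iv D37103)) (tt N22537 D38464) (tt N19589 F172125) (tt N21958 (iv F175173)) (tt N22396 (iv F177762)))
theorem Q21178 : ∀ i, i < 21178 → P i := stepQ 21177 Q21177 (allL N21177 (tt N20377 F172126) (tt N22527 (iv F178318)) (tt N22216 (iv F176735)) (tt N19594 F172127) (tt N19682 F172128) (tt N22396 (iv F177761)) (tt N22536 (iv F178349)) (tt N19590 F172129) (tt N22505 (iv F178232)) (tt N19588 (iv D37104)))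
theorem Q21179 : ∀ i, i < 21179 → P i := stepQ 21178 Q21178 (allL N21178 (tt N20378 F172130) (tt N22183 (iv F176566)) (tt N22217 (iv F176742)) (tt N19595 F172131) (tt N21178 F172132) (tt N22109 (iv F176129)) (tt N19589 (iv D37105)) (tt N22538 D38465) (tt N21959 (iv F175181)) (tt N22173 (iv F176513)))
theorem Q21180 : ∀ i, i < 21180 → P i := stepQ 21179 Q21179 (allL N21179 (tt N20379 F172133) (tt N22528 (iv F178323)) (tt N19598 F172134) (tt N22534 (iv F178343)) (tt N22496 (iv F178189)) (tt N22539 D38466) (tt N21960 (iv F175187)) (tt N22470 (iv F178087)) (tt N19591 (iv D37106)) (tt N22540 D38467))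
theorem Q21181 : ∀ i, i < 21181 → P i := stepQ 21180 Q21180 (allL N21180 (tt N20380 F172135) (tt N22529 (iv F178325)) (tt N19599 F172136) (tt N22535 (iv F178345)) (tt N22541 D38468) (tt N19592 (iv D37107)) (tt N22542 D38469) (tt N22471 (iv F178091)) (tt N22539 (iv F178358)) (tt N22543 D38470))
theorem Q21182 : ∀ i, i < 21182 → P i := stepQ 21181 Q21181 (allL N21181 (tt N20381 F172137) (tt N22530 (iv F178326)) (tt N19600 F172138) (tt N22536 (iv F178347)) (tt N19597 F172139) (tt N22543 (iv F178371)) (tt N19594 F172140) (tt N22472 (iv F178096)) (tt N22508 (iv F178247)) (tt N19592 (iv D37108)))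
theorem Q21183 : ∀ i, i < 21183 → P i := stepQ 21182 Q21182 (allL N21182 (tt N20382 F172141) (tt N22531 (iv F178330)) (tt N19601 F172142) (tt N22537 (iv F178351)) (tt N19612 F172143) (tt N22542 (iv F178368)) (tt N19593 (iv D37109)) (tt N22544 D38471) (tt N21962 (iv F175196)) (tt N22397 (iv F177766)))
theorem Q21184 : ∀ i, i < 21184 → P i := stepQ 21183 Q21183 (allL N21183 (tt N20383 F172144) (tt N22532 (iv F178334)) (tt N19602 F172145) (tt N22538 (iv F178354)) (tt N19613 F172146) (tt N22110 (iv F176138)) (tt N22544 (iv F178375)) (tt N19595 (iv D37110)) (tt N21963 (iv F175202)) (tt N22343 (iv F177493)))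
theorem Q21185 : ∀ i, i < 21185 → P i := stepQ 21184 Q21184 (allL N21184 (tt N20266 F172147) (tt N22314 (iv F177306)) (tt N19603 F172148) (tt N19894 F172149) (tt N19596 (iv D37111)) (tt N22541 (iv F178363)) (tt N19614 F172150) (tt N19798 F172151) (tt N19790 F172152) (tt N22409 (iv F177816)))
theorem Q21186 : ∀ i, i < 21186 → P i := stepQ 21185 Q21185 (allL N21185 (tt N20384 F172153) (tt N22410 (iv F177817)) (tt N22539 (iv F178357)) (tt N22229 (iv F176805)) (tt N22545 D38472) (tt N19598 (iv D37112)) (tt N22546 D38473) (tt N22473 (iv F178098)) (tt N19599 F172154) (tt N22547 D38474))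
theorem Q21187 : ∀ i, i < 21187 → P i := stepQ 21186 Q21186 (allL N21186 (tt N20385 F172155) (tt N22411 (iv F177819)) (tt N22540 (iv F178360)) (tt N22230 (iv F176808)) (tt N22498 (iv F178196)) (tt N22547 (iv F178381)) (tt N21966 (iv F175214)) (tt N22474 (iv F178101)) (tt N22512 (iv F178264)) (tt N19598 (iv D37113)))
theorem Q21188 : ∀ i, i < 21188 → P i := stepQ 21187 Q21187 (allL N21187 (tt N20373 F172156) (tt N22412 (iv F177821)) (tt N22541 (iv F178362)) (tt N22548 D38475) (tt N19599 (iv D37114)) (tt N19603 F172157) (tt N22414 (iv F177834)) (tt N22475 (iv F178105)) (tt N22545 (iv F178377)) (tt N22413 F177829))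
theorem Q21189 : ∀ i, i < 21189 → P i := stepQ 21188 Q21188 (allL N21188 (tt N20386 F172158) (tt N22413 (iv F177826)) (tt N22542 (iv F178367)) (tt N22232 (iv F176812)) (tt N22414 (iv F177832)) (tt N19601 F172159) (tt N19599 (iv D37115)) (tt N22549 D38476) (tt N22546 (iv F178379)) (tt N22412 F177824))
theorem Q21190 : ∀ i, i < 21190 → P i := stepQ 21189 Q21189 (allL N21189 (tt N20387 F172160) (tt N22414 (iv F177831)) (tt N22543 (iv F178370)) (tt N22233 (iv F176815)) (tt N22413 (iv F177827)) (tt N19600 F172161) (tt N22412 F177823) (tt N22477 (iv F178110)) (tt N22550 D38477) (tt N19599 (iv D37116)))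
theorem Q21191 : ∀ i, i < 21191 → P i := stepQ 21190 Q21190 (allL N21190 (tt N20388 F172162) (tt N22415 (iv F177836)) (tt N22544 (iv F178373)) (tt N22234 (iv F176818)) (tt N19615 F172163) (tt N22549 (iv F178385)) (tt N19602 F172164) (tt N19601 (iv D37117)) (tt N21970 (iv F175226)) (tt N22364 (iv F177602)))
theorem Q21192 : ∀ i, i < 21192 → P i := stepQ 21191 Q21191 (allL N21191 (tt N20372 F172165) (tt N22235 (iv F176822)) (tt N22161 (iv F176436)) (tt N19603 (iv D37118)) (tt N19604 F172166) (tt N22548 (iv F178383)) (tt N19616 F172167) (tt N22481 (iv F178125)) (tt N22502 (iv F178214)) (tt N22049 (iv F175730)))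
theorem Q21193 : ∀ i, i < 21193 → P i := stepQ 21192 Q21192 (allL N21192 (tt N20263 F172168) (tt N22236 (iv F176827)) (tt N19888 F172169) (tt N19607 (iv D37119)) (tt N19608 F172170) (tt N22321 (iv F177362)) (tt N22502 (iv F178212)) (tt N19772 F172171) (tt N19616 F172172) (tt N21894 (iv F174744)))
theorem Q21194 : ∀ i, i < 21194 → P i := stepQ 21193 Q21193 (allL N21193 (tt N22320 (iv F177350)) (tt N19612 F172173) (tt N22318 (iv F177337)) (tt N21193 F172174) (tt N22531 (iv F178331)) (tt N22337 (iv F177453)) (tt N19609 (iv D37120)) (tt N22551 D38478) (tt N20422 F172175) (tt N22312 (iv F177297)))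
theorem Q21195 : ∀ i, i < 21195 → P i := stepQ 21194 Q21194 (allL N21194 (tt N20062 F172176) (tt N19613 F172177) (tt N19785 F172178) (tt N21194 F172179) (tt N22532 (iv F178336)) (tt N19773 F172180) (tt N22551 (iv F178391)) (tt N19610 (iv D37121)) (tt N20423 F172181) (tt N19780 F172182))
theorem Q21196 : ∀ i, i < 21196 → P i := stepQ 21195 Q21195 (allL N21195 (tt N20389 F172183) (tt N22551 (iv F178388)) (tt N19615 F172184) (tt N21195 F172185) (tt N22544 (iv F178374)) (tt N22357 (iv F177570)) (tt N19613 F172186) (tt N19612 (iv D37122)) (tt N21980 (iv F175287)) (tt N22344 (iv F177501)))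
theorem Q21197 : ∀ i, i < 21197 → P i := stepQ 21196 Q21196 (allL N21196 (tt N20390 F172187) (tt N20192 F172188) (tt N22265 (iv F176989)) (tt N19620 F172189) (tt N22443 (iv F177954)) (tt N22552 D38479) (tt N19618 (iv D37123)) (tt N19658 F172190) (tt N22553 D38480) (tt N19638 F172191))
theorem Q21198 : ∀ i, i < 21198 → P i := stepQ 21197 Q21197 (allL N21197 (tt N20026 F172192) (tt N19806 F172193) (tt N20121 F172194) (tt N19621 F172195) (tt N22444 (iv F177961)) (tt N20024 (iv F172197)) (tt N22553 (iv F178404)) (tt N19619 F172196) (tt N19618 (iv D37124)) (tt N20038 (iv F172198)))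
theorem Q21199 : ∀ i, i < 21199 → P i := stepQ 21198 Q21198 (allL N21198 (tt N20391 F172199) (tt N20197 F172200) (tt N19624 F172201) (tt N22552 (iv F178396)) (tt N19968 F172202) (tt N19620 (iv D37125)) (tt N21198 F172203) (tt N19661 F172204) (tt N22295 (iv F177178)) (tt N19641 F172205))
theorem Q21200 : ∀ i, i < 21200 → P i := stepQ 21199 Q21199 (allL N21199 (tt N20198 F172206) (tt N19807 F172207) (tt N19625 F172208) (tt N22553 (iv F178403)) (tt N19622 F172209) (tt N20211 (iv F172212)) (tt N19621 F172210) (tt N19662 F172211) (tt N19620 (iv D37126)) (tt N20444 F172213))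
theorem Q21201 : ∀ i, i < 21201 → P i := stepQ 21200 Q21200 (allL N21200 (tt N20392 F172214) (tt N19954 F172215) (tt N19626 F172216) (tt N22449 (iv F177991)) (tt N22284 (iv F177117)) (tt N19622 (iv D37127)) (tt N21200 F172217) (tt N19664 F172218) (tt N19969 F172219) (tt N22283 F177113))
theorem Q21202 : ∀ i, i < 21202 → P i := stepQ 21201 Q21201 (allL N21201 (tt N20393 F172220) (tt N19956 F172221) (tt N19627 F172222) (tt N22450 (iv F177998)) (tt N20444 F172223) (tt N22283 (iv F177109)) (tt N19623 F172224) (tt N19665 F172225) (tt N19644 F172226) (tt N19622 (iv D37128)))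
theorem Q21203 : ∀ i, i < 21203 → P i := stepQ 21202 Q21202 (allL N21202 (tt N22252 (iv F176913)) (tt N22270 (iv F177026)) (tt N19631 F172227) (tt N21202 F172228) (tt N22460 (iv F178037)) (tt N21202 F172229) (tt N22554 D38481) (tt N19630 (iv D37129)) (tt N22555 D38482) (tt N20186 F172230))
theorem Q21204 : ∀ i, i < 21204 → P i := stepQ 21203 Q21203 (allL N21203 (tt N19812 F172231) (tt N19759 F172232) (tt N19632 F172233) (tt N21203 F172234) (tt N22105 (iv F176101)) (tt N19738 (iv F172237)) (tt N19672 F172235) (tt N22555 (iv F178416)) (tt N19630 (iv D37130)) (tt N19737 F172236))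
theorem Q21205 : ∀ i, i < 21205 → P i := stepQ 21204 Q21204 (allL N21204 (tt N22257 (iv F176934)) (tt N19638 F172238) (tt N22554 (iv F178408)) (tt N19633 F172239) (tt N22461 (iv F178041)) (tt N22556 D38483) (tt N19631 (iv D37131)) (tt N19673 F172240) (tt N22557 D38484) (tt N20192 F172241))
theorem Q21206 : ∀ i, i < 21206 → P i := stepQ 21205 Q21205 (allL N21205 (tt N19813 F172242) (tt N19639 F172243) (tt N22555 (iv F178414)) (tt N19634 F172244) (tt N22462 (iv F178047)) (tt N19789 (iv F172246)) (tt N22557 (iv F178427)) (tt N19632 F172245) (tt N19631 (iv D37132)) (tt N22558 D38485))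
theorem Q21207 : ∀ i, i < 21207 → P i := stepQ 21206 Q21206 (allL N21206 (tt N19646 F172247) (tt N19640 F172248) (tt N19737 F172249) (tt N19635 F172250) (tt N22098 (iv F176053)) (tt N19688 F172251) (tt N19675 F172252) (tt N22558 (iv F178435)) (tt N19744 F172253) (tt N19632 (iv D37133)))
theorem Q21208 : ∀ i, i < 21208 → P i := stepQ 21207 Q21207 (allL N21207 (tt N22037 (iv F175659)) (tt N19641 F172254) (tt N21207 F172255) (tt N22556 (iv F178420)) (tt N20290 F172256) (tt N19633 (iv D37134)) (tt N21207 F172257) (tt N19676 F172258) (tt N21939 (iv F175046)) (tt N20197 F172259))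
theorem Q21209 : ∀ i, i < 21209 → P i := stepQ 21208 Q21208 (allL N21208 (tt N19814 F172260) (tt N19642 F172261) (tt N21208 F172262) (tt N22557 (iv F178426)) (tt N19636 F172263) (tt N19855 (iv F172266)) (tt N19634 F172264) (tt N19677 F172265) (tt N19633 (iv D37135)) (tt N22559 D38486))
theorem Q21210 : ∀ i, i < 21210 → P i := stepQ 21209 Q21209 (allL N21209 (tt N19647 F172267) (tt N19643 F172268) (tt N21209 F172269) (tt N22558 (iv F178433)) (tt N19637 F172270) (tt N19689 F172271) (tt N22559 (iv F178442)) (tt N19635 F172272) (tt N19809 F172273) (tt N19634 (iv D37136)))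
theorem Q21211 : ∀ i, i < 21211 → P i := stepQ 21210 Q21210 (allL N21210 (tt N19648 F172274) (tt N19644 F172275) (tt N21210 F172276) (tt N22466 (iv F178066)) (tt N22559 (iv F178440)) (tt N19786 F172277) (tt N19637 F172278) (tt N19679 F172279) (tt N19956 F172280) (tt N19636 (iv D37137)))
theorem Q21212 : ∀ i, i < 21212 → P i := stepQ 21211 Q21211 (allL N21211 (tt N20394 F172281) (tt N22556 (iv F178419)) (tt N22274 (iv F177051)) (tt N19641 F172282) (tt N22560 D38487) (tt N19638 (iv D37138)) (tt N21211 F172283) (tt N19680 F172284) (tt N22196 (iv F176632)) (tt N22552 (iv F178399)))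
theorem Q21213 : ∀ i, i < 21213 → P i := stepQ 21212 Q21212 (allL N21212 (tt N20395 F172285) (tt N22557 (iv F178425)) (tt N22275 (iv F177056)) (tt N19642 F172286) (tt N22468 (iv F178076)) (tt N19926 (iv F172289)) (tt N19639 F172287) (tt N19681 F172288) (tt N19638 (iv D37139)) (tt N22561 D38488))
theorem Q21214 : ∀ i, i < 21214 → P i := stepQ 21213 Q21213 (allL N21213 (tt N20043 F172290) (tt N22558 (iv F178431)) (tt N20145 F172291) (tt N19643 F172292) (tt N22469 (iv F178082)) (tt N19811 F172293) (tt N22561 (iv F178452)) (tt N19640 F172294) (tt N20038 F172295) (tt N19639 (iv D37140)))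
theorem Q21215 : ∀ i, i < 21215 → P i := stepQ 21214 Q21214 (allL N21214 (tt N20396 F172296) (tt N22559 (iv F178438)) (tt N19645 F172297) (tt N22561 (iv F178450)) (tt N19644 F172298) (tt N19927 F172299) (tt N19643 F172300) (tt N19685 F172301) (tt N20444 F172302) (tt N19642 (iv D37141)))
theorem Q21216 : ∀ i, i < 21216 → P i := stepQ 21215 Q21215 (allL N21215 (tt N22558 (iv F178430)) (tt N19649 F172303) (tt N20053 F172304) (tt N19647 F172305) (tt N22482 (iv F178130)) (tt N19691 F172306) (tt N22562 D38489) (tt N19646 (iv D37142)) (tt N19994 F172307) (tt N19813 F172308))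
theorem Q21217 : ∀ i, i < 21217 → P i := stepQ 21216 Q21216 (allL N21216 (tt N22559 (iv F178437)) (tt N19650 F172309) (tt N21216 F172310) (tt N22562 (iv F178457)) (tt N19648 F172311) (tt N22563 D38490) (tt N19647 (iv D37143)) (tt N21889 (iv F174705)) (tt N20443 F172312) (tt N19814 F172313))
theorem Q21218 : ∀ i, i < 21218 → P i := stepQ 21217 Q21217 (allL N21217 (tt N20047 F172314) (tt N22562 (iv F178455)) (tt N19656 F172315) (tt N19650 F172316) (tt N22484 (iv F178140)) (tt N22564 D38491) (tt N19649 (iv D37144)) (tt N22154 (iv F176401)) (tt N19996 F172317) (tt N19815 F172318))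
theorem Q21219 : ∀ i, i < 21219 → P i := stepQ 21218 Q21218 (allL N21218 (tt N20397 F172319) (tt N22563 (iv F178461)) (tt N19652 F172320) (tt N22564 (iv F178469)) (tt N21903 (iv F174804)) (tt N19650 (iv D37145)) (tt N19695 F172321) (tt N22278 (iv F177080)) (tt N22267 (iv F177007)) (tt N19816 F172322))
theorem Q21220 : ∀ i, i < 21220 → P i := stepQ 21219 Q21219 (allL N21219 (tt N20398 F172323) (tt N22000 (iv F175402)) (tt N19653 F172324) (tt N22487 (iv F178154)) (tt N22266 (iv F176996)) (tt N19651 (iv D37146)) (tt N21219 F172325) (tt N19928 F172326) (tt N19900 F172327) (tt N21922 (iv F174931)))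
theorem Q21221 : ∀ i, i < 21221 → P i := stepQ 21220 Q21220 (allL N21220 (tt N20050 F172328) (tt N22019 (iv F175536)) (tt N22564 (iv F178468)) (tt N19657 F172329) (tt N22565 D38492) (tt N19656 (iv D37147)) (tt N19698 F172330) (tt N22157 (iv F176421)) (tt N22106 (iv F176110)) (tt N19975 F172331))
theorem Q21222 : ∀ i, i < 21222 → P i := stepQ 21221 Q21221 (allL N21221 (tt N20399 F172332) (tt N20191 F172333) (tt N22281 (iv F177094)) (tt N19661 F172334) (tt N22566 D38493) (tt N19658 (iv D37148)) (tt N19701 F172335) (tt N22552 (iv F178398)) (tt N22567 D38494) (tt N19680 F172336))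
theorem Q21223 : ∀ i, i < 21223 → P i := stepQ 21222 Q21222 (allL N21222 (tt N20106 F172337) (tt N19804 F172338) (tt N22282 (iv F177100)) (tt N19662 F172339) (tt N22504 (iv F178223)) (tt N20144 (iv F172341)) (tt N19659 F172340) (tt N22553 (iv F178405)) (tt N19658 (iv D37149)) (tt N22568 D38495))
theorem Q21224 : ∀ i, i < 21224 → P i := stepQ 21223 Q21223 (allL N21223 (tt N20001 F172342) (tt N19805 F172343) (tt N20074 F172344) (tt N19663 F172345) (tt N22505 (iv F178229)) (tt N19788 F172346) (tt N22568 (iv F178493)) (tt N19660 F172347) (tt N19682 F172348) (tt N19659 (iv D37150)))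
theorem Q21225 : ∀ i, i < 21225 → P i := stepQ 21224 Q21224 (allL N21224 (tt N20245 F172349) (tt N20196 F172350) (tt N19666 F172351) (tt N22567 (iv F178484)) (tt N19977 F172352) (tt N20242 F172353) (tt N19702 F172354) (tt N22295 (iv F177177)) (tt N19661 (iv D37151)) (tt N19984 (iv F172355)))
theorem Q21226 : ∀ i, i < 21226 → P i := stepQ 21225 Q21225 (allL N21225 (tt N20224 F172356) (tt N19808 F172357) (tt N19667 F172358) (tt N22568 (iv F178491)) (tt N19665 F172359) (tt N20232 F172360) (tt N19663 F172361) (tt N20444 F172362) (tt N19685 F172363) (tt N19662 (iv D37152)))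
theorem Q21227 : ∀ i, i < 21227 → P i := stepQ 21226 Q21226 (allL N21226 (tt N20244 F172364) (tt N19952 F172365) (tt N19668 F172366) (tt N22569 D38496) (tt N19664 (iv D37153)) (tt N20241 F172367) (tt N19728 F172368) (tt N22284 (iv F177120)) (tt N19979 F172369) (tt N22267 (iv F177008)))
theorem Q21228 : ∀ i, i < 21228 → P i := stepQ 21227 Q21227 (allL N21227 (tt N20400 F172370) (tt N19955 F172371) (tt N19669 F172372) (tt N22510 (iv F178256)) (tt N22267 (iv F177004)) (tt N19665 F172373) (tt N19729 F172374) (tt N22283 (iv F177111)) (tt N21903 (iv F174808)) (tt N19664 (iv D37154)))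
theorem Q21229 : ∀ i, i < 21229 → P i := stepQ 21228 Q21228 (allL N21228 (tt N20401 F172375) (tt N22438 (iv F177927)) (tt N19670 (iv D37155)) (tt N22521 (iv F178295)) (tt N22108 (iv F176121)) (tt N22276 (iv F177065)) (tt N19708 F172376) (tt N22197 (iv F176638)) (tt N19984 F172377) (tt N19683 F172378))
theorem Q21230 : ∀ i, i < 21230 → P i := stepQ 21229 Q21229 (allL N21229 (tt N22250 (iv F176901)) (tt N22287 (iv F177133)) (tt N19673 F172379) (tt N21229 F172380) (tt N22522 (iv F178300)) (tt N22570 D38497) (tt N19671 (iv D37156)) (tt N22554 (iv F178410)) (tt N22571 D38498) (tt N20185 F172381))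
theorem Q21231 : ∀ i, i < 21231 → P i := stepQ 21230 Q21230 (allL N21230 (tt N22251 (iv F176906)) (tt N22288 (iv F177138)) (tt N19674 F172382) (tt N21230 F172383) (tt N22523 (iv F178303)) (tt N21230 F172384) (tt N22571 (iv F178507)) (tt N19672 F172385) (tt N19671 (iv D37157)) (tt N22572 D38499))
theorem Q21232 : ∀ i, i < 21232 → P i := stepQ 21231 Q21231 (allL N21231 (tt N20054 F172386) (tt N19758 F172387) (tt N19675 F172388) (tt N21231 F172389) (tt N22104 (iv F176093)) (tt N21231 F172390) (tt N19737 F172391) (tt N22572 (iv F178513)) (tt N19748 F172392) (tt N19672 (iv D37158)))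
theorem Q21233 : ∀ i, i < 21233 → P i := stepQ 21232 Q21232 (allL N21232 (tt N22053 (iv F175746)) (tt N19680 F172393) (tt N22570 (iv F178501)) (tt N19676 F172394) (tt N22573 D38500) (tt N19673 (iv D37159)) (tt N19704 F172395) (tt N22556 (iv F178422)) (tt N22437 (iv F177925)) (tt N20191 F172396))
theorem Q21234 : ∀ i, i < 21234 → P i := stepQ 21233 Q21233 (allL N21233 (tt N22258 (iv F176940)) (tt N19681 F172397) (tt N22571 (iv F178505)) (tt N19677 F172398) (tt N22525 (iv F178311)) (tt N22574 D38501) (tt N19674 F172399) (tt N22557 (iv F178428)) (tt N19673 (iv D37160)) (tt N22575 D38502))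
theorem Q21235 : ∀ i, i < 21235 → P i := stepQ 21234 Q21234 (allL N21234 (tt N21888 (iv F174693)) (tt N19682 F172400) (tt N22572 (iv F178510)) (tt N19678 F172401) (tt N22527 (iv F178320)) (tt N21234 F172402) (tt N22575 (iv F178524)) (tt N19675 F172403) (tt N19805 F172404) (tt N19674 (iv D37161)))
theorem Q21236 : ∀ i, i < 21236 → P i := stepQ 21235 Q21235 (allL N21235 (tt N22261 (iv F176958)) (tt N19684 F172405) (tt N21235 F172406) (tt N22574 (iv F178519)) (tt N19844 F172407) (tt N19677 (iv D37162)) (tt N21235 F172408) (tt N19855 F172409) (tt N22081 (iv F175940)) (tt N22576 D38503))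
theorem Q21237 : ∀ i, i < 21237 → P i := stepQ 21236 Q21236 (allL N21236 (tt N21889 (iv F174700)) (tt N19685 F172410) (tt N21236 F172411) (tt N22575 (iv F178523)) (tt N19679 F172412) (tt N22576 (iv F178529)) (tt N19678 F172413) (tt N22559 (iv F178443)) (tt N19808 F172414) (tt N19677 (iv D37163)))
theorem Q21238 : ∀ i, i < 21238 → P i := stepQ 21237 Q21237 (allL N21237 (tt N20402 F172415) (tt N22573 (iv F178515)) (tt N22291 (iv F177153)) (tt N22565 (iv F178473)) (tt N19680 (iv D37164)) (tt N22533 (iv F178341)) (tt N19706 F172416) (tt N22560 (iv F178447)) (tt N22577 D38504) (tt N22566 (iv F178480)))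
theorem Q21239 : ∀ i, i < 21239 → P i := stepQ 21238 Q21238 (allL N21238 (tt N20403 F172417) (tt N22437 (iv F177923)) (tt N22292 (iv F177156)) (tt N19683 F172418) (tt N22577 (iv F178533)) (tt N22459 (iv F178032)) (tt N19707 F172419) (tt N22196 (iv F176631)) (tt N19680 (iv D37165)) (tt N22521 (iv F178298)))
theorem Q21240 : ∀ i, i < 21240 → P i := stepQ 21239 Q21239 (allL N21239 (tt N20404 F172420) (tt N22574 (iv F178518)) (tt N22293 (iv F177161)) (tt N19684 F172421) (tt N22578 D38505) (tt N19681 (iv D37166)) (tt N21239 F172422) (tt N19926 F172423) (tt N22459 (iv F178035)) (tt N22579 D38506))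
theorem Q21241 : ∀ i, i < 21241 → P i := stepQ 21240 Q21240 (allL N21240 (tt N20405 F172424) (tt N22575 (iv F178522)) (tt N22294 (iv F177166)) (tt N19685 F172425) (tt N22536 (iv F178348)) (tt N22579 (iv F178541)) (tt N19682 F172426) (tt N22561 (iv F178453)) (tt N22568 (iv F178495)) (tt N19681 (iv D37167)))
theorem Q21242 : ∀ i, i < 21242 → P i := stepQ 21241 Q21241 (allL N21241 (tt N20406 F172427) (tt N22576 (iv F178526)) (tt N19687 F172428) (tt N22579 (iv F178540)) (tt N19900 F172429) (tt N19685 F172430) (tt N21241 F172431) (tt N19927 F172432) (tt N22266 (iv F176999)) (tt N19684 (iv D37168)))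
theorem Q21243 : ∀ i, i < 21243 → P i := stepQ 21242 Q21242 (allL N21242 (tt N19691 F172433) (tt N19811 F172434) (tt N19736 F172435) (tt N19689 F172436) (tt N19734 F172437) (tt N22558 (iv F178434)) (tt N19865 (iv F172440)) (tt N19688 (iv D37169)) (tt N19732 F172438) (tt N19789 F172439))
theorem Q21244 : ∀ i, i < 21244 → P i := stepQ 21243 Q21243 (allL N21243 (tt N19865 F172441) (tt N19694 F172442) (tt N20052 F172443) (tt N19692 F172444) (tt N20051 F172445) (tt N22580 D38507) (tt N19691 (iv D37170)) (tt N21243 F172446) (tt N19998 F172447) (tt N19819 F172448))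
theorem Q21245 : ∀ i, i < 21245 → P i := stepQ 21244 Q21244 (allL N21244 (tt N19860 F172449) (tt N19695 F172450) (tt N21244 F172451) (tt N22580 (iv F178547)) (tt N19832 F172452) (tt N19692 (iv D37171)) (tt N22563 (iv F178464)) (tt N21244 F172453) (tt N19953 F172454) (tt N19820 F172455))
theorem Q21246 : ∀ i, i < 21246 → P i := stepQ 21245 Q21245 (allL N21245 (tt N20059 F172456) (tt N22580 (iv F178545)) (tt N19698 F172457) (tt N19695 F172458) (tt N22581 D38508) (tt N19694 (iv D37172)) (tt N22564 (iv F178470)) (tt N21245 F172459) (tt N22582 D38509) (tt N19821 F172460))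
theorem Q21247 : ∀ i, i < 21247 → P i := stepQ 21246 Q21246 (allL N21246 (tt N20253 F172461) (tt N19953 F172462) (tt N19696 F172463) (tt N22582 (iv F178559)) (tt N19729 F172464) (tt N19862 F172465) (tt N22267 (iv F177005)) (tt N21246 F172466) (tt N19695 (iv D37173)) (tt N19728 F172467))
theorem Q21248 : ∀ i, i < 21248 → P i := stepQ 21247 Q21247 (allL N21247 (tt N20060 F172468) (tt N22020 (iv F175544)) (tt N22581 (iv F178552)) (tt N19706 F172469) (tt N19698 (iv D37174)) (tt N20407 F172470) (tt N22565 (iv F178474)) (tt N21247 F172471) (tt N22583 D38510) (tt N19991 F172472))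
theorem Q21249 : ∀ i, i < 21249 → P i := stepQ 21248 Q21248 (allL N21248 (tt N20055 F172473) (tt N19760 F172474) (tt N22582 (iv F178558)) (tt N19699 F172475) (tt N22583 (iv F178566)) (tt N19739 F172476) (tt N22106 (iv F176108)) (tt N21248 F172477) (tt N19698 (iv D37175)) (tt N22584 D38511))
theorem Q21250 : ∀ i, i < 21250 → P i := stepQ 21249 Q21249 (allL N21249 (tt N20057 F172478) (tt N19762 F172479) (tt N19700 F172480) (tt N22584 (iv F178571)) (tt N19708 F172481) (tt N19741 F172482) (tt N22108 (iv F176123)) (tt N21249 F172483) (tt N19986 F172484) (tt N19699 (iv D37176)))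
theorem Q21251 : ∀ i, i < 21251 → P i := stepQ 21250 Q21250 (allL N21250 (tt N20407 F172485) (tt N20190 F172486) (tt N22296 (iv F177180)) (tt N19991 F172487) (tt N19701 (iv D37177)) (tt N20060 F172488) (tt N22566 (iv F178479)) (tt N21250 F172489) (tt N22585 D38512) (tt N19706 F172490))
theorem Q21252 : ∀ i, i < 21252 → P i := stepQ 21251 Q21251 (allL N21251 (tt N20183 F172491) (tt N20189 F172492) (tt N19948 F172493) (tt N19702 F172494) (tt N22585 (iv F178579)) (tt N19961 F172495) (tt N22567 (iv F178486)) (tt N21251 F172496) (tt N19701 (iv D37178)) (tt N19947 (iv F172497)))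
theorem Q21253 : ∀ i, i < 21253 → P i := stepQ 21252 Q21252 (allL N21252 (tt N22063 (iv F175811)) (tt N21995 (iv F175372)) (tt N19704 F172498) (tt N21252 F172499) (tt N22586 D38513) (tt N19703 (iv D37179)) (tt N22570 (iv F178503)) (tt N21252 F172500) (tt N22587 D38514) (tt N20184 F172501))
theorem Q21254 : ∀ i, i < 21254 → P i := stepQ 21253 Q21253 (allL N21253 (tt N22060 (iv F175792)) (tt N19706 F172502) (tt N22586 (iv F178582)) (tt N22020 (iv F175546)) (tt N19704 (iv D37180)) (tt N20194 F172503) (tt N22573 (iv F178516)) (tt N21253 F172504) (tt N22588 D38515) (tt N20190 F172505))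
theorem Q21255 : ∀ i, i < 21255 → P i := stepQ 21254 Q21254 (allL N21254 (tt N20437 F172506) (tt N19707 F172507) (tt N22587 (iv F178587)) (tt N19705 F172508) (tt N22588 (iv F178594)) (tt N21254 F172509) (tt N22437 (iv F177924)) (tt N21254 F172510) (tt N19704 (iv D37181)) (tt N22589 D38516))
theorem Q21256 : ∀ i, i < 21256 → P i := stepQ 21255 Q21255 (allL N21255 (tt N20438 F172511) (tt N19708 F172512) (tt N21255 F172513) (tt N22589 (iv F178598)) (tt N19762 F172514) (tt N21255 F172515) (tt N22438 (iv F177930)) (tt N21255 F172516) (tt N19987 F172517) (tt N19705 (iv D37182)))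
theorem Q21257 : ∀ i, i < 21257 → P i := stepQ 21256 Q21256 (allL N21256 (tt N20408 F172518) (tt N22588 (iv F178592)) (tt N22297 (iv F177187)) (tt N22583 (iv F178565)) (tt N19707 F172519) (tt N22590 D38517) (tt N22577 (iv F178534)) (tt N21256 F172520) (tt N19706 (iv D37183)) (tt N22591 D38518))
theorem Q21258 : ∀ i, i < 21258 → P i := stepQ 21257 Q21257 (allL N21257 (tt N20409 F172521) (tt N22589 (iv F178597)) (tt N19727 F172522) (tt N19708 F172523) (tt N22591 (iv F178607)) (tt N21257 F172524) (tt N22521 (iv F178296)) (tt N21257 F172525) (tt N19947 F172526) (tt N19707 (iv D37184)))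
theorem Q21259 : ∀ i, i < 21259 → P i := stepQ 21258 Q21258 (allL N21258 (tt N19715 F172527) (tt N19937 F172528) (tt N20417 F172529) (tt N19710 F172530) (tt N22592 D38519) (tt N19709 (iv D37185)) (tt N22328 (iv F177410)) (tt N21258 F172531) (tt N19830 F172532) (tt N19929 F172533))
theorem Q21260 : ∀ i, i < 21260 → P i := stepQ 21259 Q21259 (allL N21259 (tt N19716 F172534) (tt N19822 F172535) (tt N21259 F172536) (tt N22593 D38520) (tt N19710 (iv D37186)) (tt N21259 F172537) (tt N22329 (iv F177418)) (tt N21259 F172538) (tt N19820 F172539) (tt N19949 F172540))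
theorem Q21261 : ∀ i, i < 21261 → P i := stepQ 21260 Q21260 (allL N21260 (tt N20417 F172541) (tt N19930 F172542) (tt N19715 F172543) (tt N21260 F172544) (tt N22594 D38521) (tt N19711 (iv D37187)) (tt N22387 (iv F177726)) (tt N21260 F172545) (tt N19719 F172546) (tt N21977 (iv F175269)))
theorem Q21262 : ∀ i, i < 21262 → P i := stepQ 21261 Q21261 (allL N21261 (tt N21977 (iv F175263)) (tt N19719 F172547) (tt N19929 F172548) (tt N21261 F172549) (tt N22595 D38522) (tt N19712 (iv D37188)) (tt N22596 D38523) (tt N21261 F172550) (tt N19930 F172551) (tt N20417 F172552))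
theorem Q21263 : ∀ i, i < 21263 → P i := stepQ 21262 Q21262 (allL N21262 (tt N22388 (iv F177728)) (tt N19721 F172553) (tt N19905 F172554) (tt N21262 F172555) (tt N22392 (iv F177745)) (tt N22596 (iv F178637)) (tt N19713 (iv D37189)) (tt N22597 D38524) (tt N19847 F172556) (tt N22324 (iv F177383)))
theorem Q21264 : ∀ i, i < 21264 → P i := stepQ 21263 Q21263 (allL N21263 (tt N22072 (iv F175874)) (tt N19723 F172557) (tt N19887 F172558) (tt N21263 F172559) (tt N22393 (iv F177749)) (tt N21263 F172560) (tt N22597 (iv F178643)) (tt N19714 (iv D37190)) (tt N19834 F172561) (tt N20067 F172562))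
theorem Q21265 : ∀ i, i < 21265 → P i := stepQ 21264 Q21264 (allL N21264 (tt N22592 (iv F178610)) (tt N19725 F172563) (tt N22594 (iv F178624)) (tt N22598 D38525) (tt N19715 (iv D37191)) (tt N22595 (iv F178630)) (tt N22394 (iv F177753)) (tt N21264 F172564) (tt N19857 F172565) (tt N21982 (iv F175300)))
theorem Q21266 : ∀ i, i < 21266 → P i := stepQ 21265 Q21265 (allL N21265 (tt N22593 (iv F178616)) (tt N19727 F172566) (tt N22599 D38526) (tt N19716 (iv D37192)) (tt N22598 (iv F178647)) (tt N21265 F172567) (tt N22395 (iv F177756)) (tt N21265 F172568) (tt N19859 F172569) (tt N21992 (iv F175357)))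
theorem Q21267 : ∀ i, i < 21267 → P i := stepQ 21266 Q21266 (allL N21266 (tt N20415 F172570) (tt N19938 F172571) (tt N19725 F172572) (tt N22600 D38527) (tt N19717 (iv D37193)) (tt N19857 F172573) (tt N22509 (iv F178251)) (tt N21266 F172574) (tt N19936 F172575) (tt N22601 D38528))
theorem Q21268 : ∀ i, i < 21268 → P i := stepQ 21267 Q21267 (allL N21267 (tt N20416 F172576) (tt N19940 F172577) (tt N19726 F172578) (tt N19729 F172579) (tt N22601 (iv F178663)) (tt N19718 F172580) (tt N22510 (iv F178258)) (tt N21267 F172581) (tt N21905 (iv F174822)) (tt N19717 (iv D37194)))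
theorem Q21269 : ∀ i, i < 21269 → P i := stepQ 21268 Q21268 (allL N21268 (tt N20418 F172582) (tt N22595 (iv F178628)) (tt N19857 F172583) (tt N22602 D38529) (tt N19719 (iv D37195)) (tt N19725 F172584) (tt N22603 D38530) (tt N21268 F172585) (tt N22594 (iv F178627)) (tt N22604 D38531))
theorem Q21270 : ∀ i, i < 21270 → P i := stepQ 21269 Q21269 (allL N21269 (tt N20419 F172586) (tt N22596 (iv F178634)) (tt N19853 F172587) (tt N21269 F172588) (tt N22603 (iv F178672)) (tt N19721 F172589) (tt N19719 (iv D37196)) (tt N22605 D38532) (tt N22387 (iv F177727)) (tt N22606 D38533))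
theorem Q21271 : ∀ i, i < 21271 → P i := stepQ 21270 Q21270 (allL N21270 (tt N20420 F172590) (tt N20417 F172591) (tt N19858 F172592) (tt N21270 F172593) (tt N22604 (iv F178676)) (tt N19720 F172594) (tt N22606 (iv F178690)) (tt N21270 F172595) (tt N20410 (iv F172596)) (tt N19719 (iv D37197)))
theorem Q21272 : ∀ i, i < 21272 → P i := stepQ 21271 Q21271 (allL N21271 (tt N20421 F172597) (tt N22597 (iv F178640)) (tt N19842 F172598) (tt N21271 F172599) (tt N22516 (iv F178274)) (tt N22605 (iv F178683)) (tt N19723 F172600) (tt N19721 (iv D37198)) (tt N19837 F172601) (tt N22607 D38534))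
theorem Q21273 : ∀ i, i < 21273 → P i := stepQ 21272 Q21272 (allL N21272 (tt N20422 F172602) (tt N22324 (iv F177377)) (tt N19854 F172603) (tt N21272 F172604) (tt N22517 (iv F178279)) (tt N22606 (iv F178689)) (tt N19722 F172605) (tt N22607 (iv F178697)) (tt N22320 (iv F177356)) (tt N19721 (iv D37199)))
theorem Q21274 : ∀ i, i < 21274 → P i := stepQ 21273 Q21273 (allL N21273 (tt N20423 F172606) (tt N20067 F172607) (tt N19843 F172608) (tt N21273 F172609) (tt N22518 (iv F178284)) (tt N21273 F172610) (tt N22607 (iv F178696)) (tt N19724 F172611) (tt N20062 F172612) (tt N19723 (iv D37200)))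
theorem Q21275 : ∀ i, i < 21275 → P i := stepQ 21274 Q21274 (allL N21274 (tt N20424 F172613) (tt N22598 (iv F178646)) (tt N22591 (iv F178606)) (tt N19725 (iv D37201)) (tt N19727 F172614) (tt N22602 (iv F178668)) (tt N22519 (iv F178289)) (tt N21274 F172615) (tt N19944 F172616) (tt N22297 (iv F177191)))
theorem Q21276 : ∀ i, i < 21276 → P i := stepQ 21275 Q21275 (allL N21275 (tt N20425 F172617) (tt N21982 (iv F175296)) (tt N22601 (iv F178662)) (tt N22297 (iv F177188)) (tt N19726 F172618) (tt N22604 (iv F178677)) (tt N22520 (iv F178293)) (tt N21275 F172619) (tt N21918 (iv F174902)) (tt N19725 (iv D37202)))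
theorem Q21277 : ∀ i, i < 21277 → P i := stepQ 21276 Q21276 (allL N21276 (tt N20255 F172620) (tt N19951 F172621) (tt N22584 (iv F178570)) (tt N19728 (iv D37203)) (tt N22600 (iv F178656)) (tt N19861 F172622) (tt N22569 (iv F178499)) (tt N21276 F172623) (tt N19985 F172624) (tt N22582 (iv F178562)))
theorem Q21278 : ∀ i, i < 21278 → P i := stepQ 21277 Q21277 (allL N21277 (tt N20058 F172625) (tt N19733 F172626) (tt N19751 F172627) (tt N19959 F172628) (tt N19962 F172629) (tt N19998 F172630) (tt N19731 (iv D37204)) (tt N21277 F172631) (tt N19958 F172632) (tt N21277 F172633))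
theorem Q21279 : ∀ i, i < 21279 → P i := stepQ 21278 Q21278 (allL N21278 (tt N19998 F172634) (tt N19962 F172635) (tt N19735 F172636) (tt N19866 F172637) (tt N19733 F172638) (tt N20058 F172639) (tt N19732 (iv D37205)) (tt N21278 F172640) (tt N19865 F172641) (tt N21278 F172642))
theorem Q21280 : ∀ i, i < 21280 → P i := stepQ 21279 Q21279 (allL N21279 (tt N20051 F172643) (tt N19958 F172644) (tt N19739 F172645) (tt N19862 F172646) (tt N19865 F172647) (tt N22582 (iv F178560)) (tt N19734 F172648) (tt N21279 F172649) (tt N19733 (iv D37206)) (tt N19861 (iv F172650)))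
theorem Q21281 : ∀ i, i < 21281 → P i := stepQ 21280 Q21280 (allL N21280 (tt N20052 F172651) (tt N19755 F172652) (tt N19865 F172653) (tt N21280 F172654) (tt N19739 F172655) (tt N22608 D38535) (tt N19736 F172656) (tt N21280 F172657) (tt N19735 (iv D37207)) (tt N19864 (iv F172658)))
theorem Q21282 : ∀ i, i < 21282 → P i := stepQ 21281 Q21281 (allL N21281 (tt N20053 F172659) (tt N19756 F172660) (tt N22558 (iv F178432)) (tt N21281 F172661) (tt N22102 (iv F176079)) (tt N19736 (iv D37208)) (tt N22609 D38536) (tt N19737 F172662) (tt N19746 F172663) (tt N22555 (iv F178417)))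
theorem Q21283 : ∀ i, i < 21283 → P i := stepQ 21282 Q21282 (allL N21282 (tt N19818 F172664) (tt N19757 F172665) (tt N19789 F172666) (tt N21282 F172667) (tt N19740 F172668) (tt N22555 F178418) (tt N19864 F172669) (tt N19738 F172670) (tt N21282 F172671) (tt N19736 (iv D37209)))
theorem Q21284 : ∀ i, i < 21284 → P i := stepQ 21283 Q21283 (allL N21283 (tt N20056 F172672) (tt N19761 F172673) (tt N19861 F172674) (tt N19741 F172675) (tt N19864 F172676) (tt N22584 (iv F178572)) (tt N19740 F172677) (tt N21283 F172678) (tt N21283 F172679) (tt N19739 (iv D37210)))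
theorem Q21285 : ∀ i, i < 21285 → P i := stepQ 21284 Q21284 (allL N21284 (tt N19994 F172680) (tt N20038 F172681) (tt N19746 F172682) (tt N19809 F172683) (tt N22355 (iv F177558)) (tt N19743 (iv D37211)) (tt N22610 D38537) (tt N19744 F172684) (tt N22558 (iv F178436)) (tt N19806 F172685))
theorem Q21286 : ∀ i, i < 21286 → P i := stepQ 21285 Q21285 (allL N21285 (tt N22014 (iv F175498)) (tt N19764 F172686) (tt N22610 (iv F178712)) (tt N21285 F172687) (tt N22361 (iv F177583)) (tt N22417 (iv F177850)) (tt N19746 (iv D37212)) (tt N22611 D38538) (tt N22609 (iv F178709)) (tt N22612 D38539))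
theorem Q21287 : ∀ i, i < 21287 → P i := stepQ 21286 Q21286 (allL N21286 (tt N19868 F172688) (tt N19765 F172689) (tt N19806 F172690) (tt N21286 F172691) (tt N22362 (iv F177587)) (tt N19747 F172692) (tt N22612 (iv F178728)) (tt N19749 F172693) (tt N20186 (iv F172694)) (tt N19746 (iv D37213)))
theorem Q21288 : ∀ i, i < 21288 → P i := stepQ 21287 Q21287 (allL N21287 (tt N20282 F172695) (tt N19766 F172696) (tt N19805 F172697) (tt N21287 F172698) (tt N22363 (iv F177594)) (tt N19750 F172699) (tt N22611 (iv F178721)) (tt N19748 (iv D37214)) (tt N22572 (iv F178514)) (tt N19763 F172700))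
theorem Q21289 : ∀ i, i < 21289 → P i := stepQ 21288 Q21288 (allL N21288 (tt N20181 F172701) (tt N19753 F172702) (tt N19958 F172703) (tt N21288 F172704) (tt N19961 F172705) (tt N22613 D38540) (tt N19752 F172706) (tt N21288 F172707) (tt N19751 (iv D37215)) (tt N19957 (iv F172708)))
theorem Q21290 : ∀ i, i < 21290 → P i := stepQ 21289 Q21289 (allL N21289 (tt N20426 F172709) (tt N22613 (iv F178732)) (tt N19760 F172710) (tt N21289 F172711) (tt N22614 D38541) (tt N19753 (iv D37216)) (tt N22427 (iv F177894)) (tt N21289 F172712) (tt N20173 F172713) (tt N22615 D38542))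
theorem Q21291 : ∀ i, i < 21291 → P i := stepQ 21290 Q21290 (allL N21290 (tt N20427 F172714) (tt N19957 F172715) (tt N19761 F172716) (tt N21290 F172717) (tt N19960 F172718) (tt N22615 (iv F178747)) (tt N19754 F172719) (tt N21290 F172720) (tt N21290 F172721) (tt N19753 (iv D37217)))
theorem Q21292 : ∀ i, i < 21292 → P i := stepQ 21291 Q21291 (allL N21291 (tt N20428 F172722) (tt N22608 (iv F178700)) (tt N20189 F172723) (tt N21291 F172724) (tt N22616 D38543) (tt N19755 (iv D37218)) (tt N22617 D38544) (tt N21291 F172725) (tt N20184 F172726) (tt N22618 D38545))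
theorem Q21293 : ∀ i, i < 21293 → P i := stepQ 21292 Q21292 (allL N21292 (tt N20429 F172727) (tt N19864 F172728) (tt N19960 F172729) (tt N21292 F172730) (tt N19761 F172731) (tt N22618 (iv F178763)) (tt N19757 F172732) (tt N21292 F172733) (tt N21292 F172734) (tt N19755 (iv D37219)))
theorem Q21294 : ∀ i, i < 21294 → P i := stepQ 21293 Q21293 (allL N21293 (tt N20430 F172735) (tt N22609 (iv F178707)) (tt N22202 (iv F176664)) (tt N21293 F172736) (tt N22432 (iv F177907)) (tt N22617 (iv F178757)) (tt N19756 (iv D37220)) (tt N22619 D38546) (tt N19764 F172737) (tt N22620 D38547))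
theorem Q21295 : ∀ i, i < 21295 → P i := stepQ 21294 Q21294 (allL N21294 (tt N20431 F172738) (tt N22555 (iv F178413)) (tt N22203 (iv F176670)) (tt N21294 F172739) (tt N22433 (iv F177910)) (tt N19757 F172740) (tt N22620 (iv F178771)) (tt N19759 F172741) (tt N22270 (iv F177030)) (tt N19756 (iv D37221)))
theorem Q21296 : ∀ i, i < 21296 → P i := stepQ 21295 Q21295 (allL N21295 (tt N20432 F172742) (tt N22572 (iv F178509)) (tt N22113 (iv F176155)) (tt N21295 F172743) (tt N22434 (iv F177914)) (tt N21295 F172744) (tt N22619 (iv F178767)) (tt N19758 (iv D37222)) (tt N19766 F172745) (tt N22288 (iv F177143)))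
theorem Q21297 : ∀ i, i < 21297 → P i := stepQ 21296 Q21296 (allL N21296 (tt N20435 F172746) (tt N22583 (iv F178564)) (tt N22614 (iv F178739)) (tt N22588 (iv F178593)) (tt N19760 (iv D37223)) (tt N22616 (iv F178751)) (tt N22435 (iv F177917)) (tt N21296 F172747) (tt N22020 (iv F175549)) (tt N22621 D38548))
theorem Q21298 : ∀ i, i < 21298 → P i := stepQ 21297 Q21297 (allL N21297 (tt N20436 F172748) (tt N22584 (iv F178569)) (tt N22615 (iv F178745)) (tt N19762 F172749) (tt N22621 (iv F178773)) (tt N19761 F172750) (tt N22436 (iv F177921)) (tt N21297 F172751) (tt N22622 D38549) (tt N19760 (iv D37224)))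
theorem Q21299 : ∀ i, i < 21299 → P i := stepQ 21298 Q21298 (allL N21298 (tt N20439 F172752) (tt N19986 F172753) (tt N21298 F172754) (tt N22622 (iv F178777)) (tt N19987 F172755) (tt N21298 F172756) (tt N22439 (iv F177936)) (tt N21298 F172757) (tt N19762 (iv D37225)) (tt N19990 F172758))
theorem Q21300 : ∀ i, i < 21300 → P i := stepQ 21299 Q21299 (allL N21299 (tt N20292 F172759) (tt N22416 (iv F177842)) (tt N19799 F172760) (tt N22623 D38550) (tt N19763 (iv D37226)) (tt N19768 F172761) (tt N22624 D38551) (tt N19770 F172762) (tt N20157 F172763) (tt N22363 (iv F177596)))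
theorem Q21301 : ∀ i, i < 21301 → P i := stepQ 21300 Q21300 (allL N21300 (tt N20293 F172764) (tt N22417 (iv F177848)) (tt N19804 F172765) (tt N21300 F172766) (tt N22624 (iv F178789)) (tt N19764 F172767) (tt N19763 (iv D37227)) (tt N22612 (iv F178729)) (tt N20185 F172768) (tt N22611 F178722))
theorem Q21302 : ∀ i, i < 21302 → P i := stepQ 21301 Q21301 (allL N21301 (tt N20440 F172769) (tt N22611 (iv F178717)) (tt N22112 (iv F176149)) (tt N21301 F172770) (tt N22478 (iv F178112)) (tt N22612 (iv F178727)) (tt N19766 F172771) (tt N19764 (iv D37228)) (tt N22619 (iv F178768)) (tt N22417 (iv F177853)))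
theorem Q21303 : ∀ i, i < 21303 → P i := stepQ 21302 Q21302 (allL N21302 (tt N20441 F172772) (tt N22612 (iv F178724)) (tt N22168 (iv F176481)) (tt N21302 F172773) (tt N22479 (iv F178115)) (tt N22611 (iv F178720)) (tt N19765 F172774) (tt N22417 (iv F177851)) (tt N22625 D38552) (tt N19764 (iv D37229)))
theorem Q21304 : ∀ i, i < 21304 → P i := stepQ 21303 Q21303 (allL N21303 (tt N20442 F172775) (tt N20186 F172776) (tt N22169 (iv F176487)) (tt N21303 F172777) (tt N22480 (iv F178119)) (tt N21303 F172778) (tt N22625 (iv F178794)) (tt N19767 F172779) (tt N19765 (iv D37230)) (tt N22270 (iv F177031)))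
theorem Q21305 : ∀ i, i < 21305 → P i := stepQ 21304 Q21304 (allL N21304 (tt N20330 F172780) (tt N22237 (iv F176832)) (tt N19907 F172781) (tt N19768 (iv D37231)) (tt N19769 F172782) (tt N22623 (iv F178784)) (tt N22481 (iv F178124)) (tt N19771 F172783) (tt N19795 F172784) (tt N22050 (iv F175737)))
theorem Q21306 : ∀ i, i < 21306 → P i := stepQ 21305 Q21305 (allL N21305 (tt N20291 F172785) (tt N22140 (iv F176304)) (tt N19908 F172786) (tt N19770 (iv D37232)) (tt N21305 F172787) (tt N19771 F172788) (tt N22034 (iv F175645)) (tt N22623 (iv F178785)) (tt N20154 F172789) (tt N22033 F175638))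
theorem Q21307 : ∀ i, i < 21307 → P i := stepQ 21306 Q21306 (allL N21306 (tt N22347 (iv F177514)) (tt N19776 F172790) (tt N20325 (iv F172794)) (tt N19774 (iv D37233)) (tt N21306 F172791) (tt N20039 F172792) (tt N22306 (iv F177254)) (tt N22626 D38553) (tt N22173 (iv F176512)) (tt N20317 F172793))
theorem Q21308 : ∀ i, i < 21308 → P i := stepQ 21307 Q21307 (allL N21307 (tt N22349 (iv F177527)) (tt N19777 F172795) (tt N19793 F172796) (tt N22626 (iv F178798)) (tt N19775 F172797) (tt N20040 F172798) (tt N22627 D38554) (tt N19774 (iv D37234)) (tt N22343 (iv F177492)) (tt N22365 (iv F177609)))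
theorem Q21309 : ∀ i, i < 21309 → P i := stepQ 21308 Q21308 (allL N21308 (tt N22350 (iv F177533)) (tt N19779 F172799) (tt N19794 F172800) (tt N21308 F172801) (tt N22627 (iv F178804)) (tt N22299 (iv F177204)) (tt N19775 (iv D37235)) (tt N22308 (iv F177269)) (tt N22344 (iv F177500)) (tt N22366 (iv F177616)))
theorem Q21310 : ∀ i, i < 21310 → P i := stepQ 21309 Q21309 (allL N21309 (tt N22339 (iv F177463)) (tt N22626 (iv F178796)) (tt N19848 F172802) (tt N19777 F172803) (tt N21309 F172804) (tt N20044 F172805) (tt N22628 D38555) (tt N19776 (iv D37236)) (tt N22180 (iv F176550)) (tt N22367 (iv F177624)))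
theorem Q21311 : ∀ i, i < 21311 → P i := stepQ 21310 Q21310 (allL N21310 (tt N22340 (iv F177470)) (tt N22627 (iv F178802)) (tt N19781 F172806) (tt N22628 (iv F178806)) (tt N19779 F172807) (tt N22629 D38556) (tt N19777 (iv D37237)) (tt N22310 (iv F177281)) (tt N22630 D38557) (tt N22368 (iv F177630)))
theorem Q21312 : ∀ i, i < 21312 → P i := stepQ 21311 Q21311 (allL N21311 (tt N22298 (iv F177192)) (tt N22343 (iv F177489)) (tt N19782 F172808) (tt N22180 (iv F176547)) (tt N19780 F172809) (tt N22177 (iv F176534)) (tt N22630 (iv F178812)) (tt N19778 F172810) (tt N19777 (iv D37238)) (tt N22532 (iv F178339)))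
theorem Q21313 : ∀ i, i < 21313 → P i := stepQ 21312 Q21312 (allL N21312 (tt N22299 (iv F177200)) (tt N22344 (iv F177495)) (tt N19784 F172811) (tt N21312 F172812) (tt N22630 (iv F178811)) (tt N22350 (iv F177537)) (tt N19780 F172813) (tt N22312 (iv F177296)) (tt N19779 (iv D37239)) (tt N22551 (iv F178393)))
theorem Q21314 : ∀ i, i < 21314 → P i := stepQ 21313 Q21313 (allL N21313 (tt N22341 (iv F177475)) (tt N19797 F172814) (tt N22629 (iv F178808)) (tt N19850 F172815) (tt N22304 (iv F177238)) (tt N19781 (iv D37240)) (tt N20048 F172816) (tt N22313 (iv F177303)) (tt N22631 D38558) (tt N22369 (iv F177637)))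
theorem Q21315 : ∀ i, i < 21315 → P i := stepQ 21314 Q21314 (allL N21314 (tt N22342 (iv F177482)) (tt N19798 F172817) (tt N22630 (iv F178810)) (tt N19851 F172818) (tt N19784 F172819) (tt N22632 D38559) (tt N19782 F172820) (tt N22314 (iv F177310)) (tt N19781 (iv D37241)) (tt N22633 D38560))
theorem Q21316 : ∀ i, i < 21316 → P i := stepQ 21315 Q21315 (allL N21315 (tt N22146 (iv F176339)) (tt N19800 F172821) (tt N22532 (iv F178335)) (tt N19852 F172822) (tt N19785 F172823) (tt N22505 (iv F178230)) (tt N22633 (iv F178821)) (tt N19783 F172824) (tt N22372 (iv F177658)) (tt N19782 (iv D37242)))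
theorem Q21317 : ∀ i, i < 21317 → P i := stepQ 21316 Q21316 (allL N21316 (tt N22147 (iv F176347)) (tt N19803 F172825) (tt N22551 (iv F178389)) (tt N19786 F172826) (tt N22633 (iv F178820)) (tt N22466 (iv F178067)) (tt N19785 F172827) (tt N22318 (iv F177341)) (tt N22374 (iv F177672)) (tt N19784 (iv D37243)))
theorem Q21318 : ∀ i, i < 21318 → P i := stepQ 21317 Q21317 (allL N21317 (tt N20265 F172828) (tt N22313 (iv F177299)) (tt N22499 (iv F178200)) (tt N19893 F172829) (tt N20259 F172830) (tt N19790 (iv D37244)) (tt N22325 (iv F177388)) (tt N19797 F172831) (tt N22634 D38561) (tt N21898 (iv F174772)))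
theorem Q21319 : ∀ i, i < 21319 → P i := stepQ 21318 Q21318 (allL N21318 (tt N20261 F172832) (tt N22304 (iv F177236)) (tt N22442 (iv F177947)) (tt N22155 (iv F176405)) (tt N19797 F172833) (tt N19791 (iv D37245)) (tt N20111 F172834) (tt N20259 F172835) (tt N22635 D38562) (tt N22149 (iv F176367)))
theorem Q21320 : ∀ i, i < 21320 → P i := stepQ 21319 Q21319 (allL N21319 (tt N22105 (iv F176097)) (tt N19901 F172836) (tt N19792 (iv D37246)) (tt N20325 F172837) (tt N19812 F172838) (tt N20019 F172839) (tt N22226 (iv F176794)) (tt N22636 D38563) (tt N22225 (iv F176787)) (tt N20018 F172840))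
theorem Q21321 : ∀ i, i < 21321 → P i := stepQ 21320 Q21320 (allL N21320 (tt N22462 (iv F178044)) (tt N19795 F172841) (tt N22636 (iv F178831)) (tt N19793 F172842) (tt N19813 F172843) (tt N20146 F172844) (tt N22637 D38564) (tt N19792 (iv D37247)) (tt N22237 F176836) (tt N22482 (iv F178133)))
theorem Q21322 : ∀ i, i < 21322 → P i := stepQ 21321 Q21321 (allL N21321 (tt N22464 (iv F178053)) (tt N19796 F172845) (tt N22627 (iv F178803)) (tt N22637 (iv F178837)) (tt N19794 F172846) (tt N22638 D38565) (tt N19793 (iv D37248)) (tt N22382 (iv F177701)) (tt N22364 (iv F177601)) (tt N22483 (iv F178136)))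
theorem Q21323 : ∀ i, i < 21323 → P i := stepQ 21322 Q21322 (allL N21322 (tt N21877 (iv F174614)) (tt N22637 (iv F178836)) (tt N19906 F172847) (tt N19796 F172848) (tt N19815 F172849) (tt N22639 D38566) (tt N19795 (iv D37249)) (tt N22502 (iv F178213)) (tt N22481 (iv F178126)) (tt N22484 (iv F178142)))
theorem Q21324 : ∀ i, i < 21324 → P i := stepQ 21323 Q21323 (allL N21323 (tt N21878 (iv F174622)) (tt N22638 (iv F178839)) (tt N19797 F172850) (tt N22639 (iv F178842)) (tt N22442 (iv F177948)) (tt N19796 (iv D37250)) (tt N20155 F172851) (tt N22499 (iv F178202)) (tt N22640 D38567) (tt N22485 (iv F178146)))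
theorem Q21325 : ∀ i, i < 21325 → P i := stepQ 21324 Q21324 (allL N21324 (tt N21879 (iv F174629)) (tt N22631 (iv F178813)) (tt N22640 (iv F178844)) (tt N19917 F172852) (tt N22635 (iv F178827)) (tt N22641 D38568) (tt N20162 F172853) (tt N22634 (iv F178825)) (tt N19797 (iv D37251)) (tt N22642 D38569))
theorem Q21326 : ∀ i, i < 21326 → P i := stepQ 21325 Q21325 (allL N21325 (tt N21880 (iv F174635)) (tt N22632 (iv F178816)) (tt N22475 (iv F178103)) (tt N19918 F172854) (tt N22471 (iv F178090)) (tt N19798 (iv D37252)) (tt N22643 D38570) (tt N22541 (iv F178364)) (tt N22641 (iv F178847)) (tt N22644 D38571))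
theorem Q21327 : ∀ i, i < 21327 → P i := stepQ 21326 Q21326 (allL N21326 (tt N21881 (iv F174641)) (tt N22633 (iv F178818)) (tt N22415 (iv F177837)) (tt N19919 F172855) (tt N19803 F172856) (tt N22644 (iv F178853)) (tt N19800 F172857) (tt N22409 (iv F177815)) (tt N22490 (iv F178167)) (tt N19798 (iv D37253)))
theorem Q21328 : ∀ i, i < 21328 → P i := stepQ 21327 Q21327 (allL N21327 (tt N21882 (iv F174649)) (tt N22504 (iv F178221)) (tt N22624 (iv F178788)) (tt N19920 F172858) (tt N19804 F172859) (tt N22643 (iv F178851)) (tt N19799 (iv D37254)) (tt N22645 D38572) (tt N20165 F172860) (tt N22646 D38573))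
theorem Q21329 : ∀ i, i < 21329 → P i := stepQ 21328 Q21328 (allL N21328 (tt N21883 (iv F174655)) (tt N22505 (iv F178226)) (tt N22363 (iv F177593)) (tt N19921 F172861) (tt N19805 F172862) (tt N19800 F172863) (tt N22646 (iv F178860)) (tt N19802 F172864) (tt N22527 (iv F178322)) (tt N19799 (iv D37255)))
theorem Q21330 : ∀ i, i < 21330 → P i := stepQ 21329 Q21329 (allL N21329 (tt N21884 (iv F174662)) (tt N22444 (iv F177958)) (tt N22362 (iv F177586)) (tt N19922 F172865) (tt N19806 F172866) (tt N22356 (iv F177565)) (tt N22645 (iv F178856)) (tt N19801 (iv D37256)) (tt N20166 F172867) (tt N22355 F177560))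
theorem Q21331 : ∀ i, i < 21331 → P i := stepQ 21330 Q21330 (allL N21330 (tt N21886 (iv F174678)) (tt N22553 (iv F178401)) (tt N22612 (iv F178725)) (tt N19807 F172868) (tt N22645 (iv F178855)) (tt N22112 (iv F176151)) (tt N19806 F172869) (tt N19804 (iv D37257)) (tt N20192 F172870) (tt N22610 (iv F178715)))
theorem Q21332 : ∀ i, i < 21332 → P i := stepQ 21331 Q21331 (allL N21331 (tt N21887 (iv F174686)) (tt N22568 (iv F178489)) (tt N22611 (iv F178718)) (tt N19808 F172871) (tt N22646 (iv F178859)) (tt N22168 (iv F176483)) (tt N19805 F172872) (tt N22610 (iv F178714)) (tt N22575 (iv F178525)) (tt N19804 (iv D37258)))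
theorem Q21333 : ∀ i, i < 21333 → P i := stepQ 21332 Q21332 (allL N21332 (tt N20443 F172873) (tt N20444 F172874) (tt N21332 F172875) (tt N22610 (iv F178713)) (tt N19956 F172876) (tt N22262 (iv F176969)) (tt N19809 F172877) (tt N19808 F172878) (tt N22559 (iv F178444)) (tt N19807 (iv D37259)))
theorem Q21334 : ∀ i, i < 21334 → P i := stepQ 21333 Q21333 (allL N21333 (tt N22555 (iv F178412)) (tt N19972 F172879) (tt N19813 F172880) (tt N21333 F172881) (tt N22636 (iv F178833)) (tt N19818 F172882) (tt N22647 D38574) (tt N19812 (iv D37260)) (tt N22252 (iv F176919)) (tt N20053 F172883))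
theorem Q21335 : ∀ i, i < 21335 → P i := stepQ 21334 Q21334 (allL N21334 (tt N22557 (iv F178424)) (tt N19815 F172884) (tt N22647 (iv F178862)) (tt N19814 F172885) (tt N22637 (iv F178838)) (tt N22648 D38575) (tt N19813 (iv D37261)) (tt N22258 (iv F176944)) (tt N22257 F176939) (tt N22562 (iv F178459)))
theorem Q21336 : ∀ i, i < 21336 → P i := stepQ 21335 Q21335 (allL N21335 (tt N19855 F172886) (tt N19816 F172887) (tt N21335 F172888) (tt N22648 (iv F178867)) (tt N19828 F172889) (tt N19814 (iv D37262)) (tt N19820 F172890) (tt N22261 (iv F176963)) (tt N22329 (iv F177420)) (tt N22563 (iv F178466)))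
theorem Q21337 : ∀ i, i < 21337 → P i := stepQ 21336 Q21336 (allL N21336 (tt N21890 (iv F174707)) (tt N22648 (iv F178866)) (tt N19975 F172891) (tt N19816 F172892) (tt N22649 D38576) (tt N19815 (iv D37263)) (tt N19821 F172893) (tt N22494 (iv F178182)) (tt N22650 D38577) (tt N22564 (iv F178471)))
theorem Q21338 : ∀ i, i < 21338 → P i := stepQ 21337 Q21337 (allL N21337 (tt N20276 F172894) (tt N22329 (iv F177415)) (tt N19817 F172895) (tt N22650 (iv F178873)) (tt N19980 F172896) (tt N22087 (iv F175977)) (tt N19822 F172897) (tt N22152 (iv F176389)) (tt N19816 (iv D37264)) (tt N19979 (iv F172898)))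
theorem Q21339 : ∀ i, i < 21339 → P i := stepQ 21338 Q21338 (allL N21338 (tt N19864 F172899) (tt N19988 F172900) (tt N19819 F172901) (tt N21338 F172902) (tt N20056 F172903) (tt N22651 D38578) (tt N19818 (iv D37265)) (tt N21338 F172904) (tt N21338 F172905) (tt N20052 F172906))
theorem Q21340 : ∀ i, i < 21340 → P i := stepQ 21339 Q21339 (allL N21339 (tt N19859 F172907) (tt N19821 F172908) (tt N22651 (iv F178878)) (tt N19820 F172909) (tt N22652 D38579) (tt N19819 (iv D37266)) (tt N22648 (iv F178868)) (tt N21339 F172910) (tt N22593 (iv F178620)) (tt N22580 (iv F178550)))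
theorem Q21341 : ∀ i, i < 21341 → P i := stepQ 21340 Q21340 (allL N21340 (tt N21891 (iv F174715)) (tt N22652 (iv F178883)) (tt N19991 F172911) (tt N21904 (iv F174812)) (tt N19821 (iv D37267)) (tt N20256 F172912) (tt N22649 (iv F178870)) (tt N21340 F172913) (tt N22653 D38580) (tt N22581 (iv F178555)))
theorem Q21342 : ∀ i, i < 21342 → P i := stepQ 21341 Q21341 (allL N21341 (tt N20414 F172914) (tt N22593 (iv F178617)) (tt N19992 F172915) (tt N19822 F172916) (tt N22653 (iv F178890)) (tt N21341 F172917) (tt N22650 (iv F178874)) (tt N21341 F172918) (tt N19821 (iv D37268)) (tt N19985 (iv F172919)))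
theorem Q21343 : ∀ i, i < 21343 → P i := stepQ 21342 Q21342 (allL N21342 (tt N19850 F172920) (tt N21898 (iv F174767)) (tt N22500 (iv F178204)) (tt N22341 (iv F177477)) (tt N22325 (iv F177387)) (tt N19823 (iv D37269)) (tt N20259 F172921) (tt N22369 (iv F177636)) (tt N22654 D38581) (tt N22313 (iv F177304)))
theorem Q21344 : ∀ i, i < 21344 → P i := stepQ 21343 Q21343 (allL N21343 (tt N19851 F172922) (tt N21899 (iv F174774)) (tt N20365 F172923) (tt N22342 (iv F177484)) (tt N19826 F172924) (tt N22655 D38582) (tt N19824 F172925) (tt N22370 (iv F177644)) (tt N19823 (iv D37270)) (tt N22656 D38583))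
theorem Q21345 : ∀ i, i < 21345 → P i := stepQ 21344 Q21344 (allL N21344 (tt N19852 F172926) (tt N21900 (iv F174780)) (tt N20366 F172927) (tt N22146 (iv F176342)) (tt N19827 F172928) (tt N20359 F172929) (tt N22656 (iv F178901)) (tt N19825 F172930) (tt N22316 (iv F177326)) (tt N19824 (iv D37271)))
theorem Q21346 : ∀ i, i < 21346 → P i := stepQ 21345 Q21345 (allL N21345 (tt N19853 F172931) (tt N21901 (iv F174788)) (tt N20419 F172932) (tt N19828 F172933) (tt N22657 D38584) (tt N19826 (iv D37272)) (tt N19830 F172934) (tt N22373 (iv F177664)) (tt N22328 (iv F177412)) (tt N22658 D38585))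
theorem Q21347 : ∀ i, i < 21347 → P i := stepQ 21346 Q21346 (allL N21346 (tt N19854 F172935) (tt N21902 (iv F174795)) (tt N20422 F172936) (tt N19829 F172937) (tt N22656 (iv F178900)) (tt N22658 (iv F178908)) (tt N19827 F172938) (tt N22374 (iv F177671)) (tt N22318 (iv F177342)) (tt N19826 (iv D37273)))
theorem Q21348 : ∀ i, i < 21348 → P i := stepQ 21347 Q21347 (allL N21347 (tt N19856 F172939) (tt N21903 (iv F174802)) (tt N21347 F172940) (tt N22658 (iv F178907)) (tt N22563 (iv F178463)) (tt N19829 F172941) (tt N19832 F172942) (tt N22375 (iv F177678)) (tt N19955 F172943) (tt N19828 (iv D37274)))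
theorem Q21349 : ∀ i, i < 21349 → P i := stepQ 21348 Q21348 (allL N21348 (tt N19857 F172944) (tt N21904 (iv F174810)) (tt N20418 F172945) (tt N22652 (iv F178884)) (tt N19830 (iv D37275)) (tt N20415 F172946) (tt N22657 (iv F178904)) (tt N21348 F172947) (tt N22592 (iv F178614)) (tt N22659 D38586))
theorem Q21350 : ∀ i, i < 21350 → P i := stepQ 21349 Q21349 (allL N21349 (tt N19858 F172948) (tt N21905 (iv F174817)) (tt N20420 F172949) (tt N19832 F172950) (tt N22659 (iv F178913)) (tt N19831 F172951) (tt N22658 (iv F178909)) (tt N21349 F172952) (tt N19940 F172953) (tt N19830 (iv D37276)))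
theorem Q21351 : ∀ i, i < 21351 → P i := stepQ 21350 Q21350 (allL N21350 (tt N22356 (iv F177561)) (tt N19836 F172954) (tt N19884 F172955) (tt N21952 (iv F175129)) (tt N19834 F172956) (tt N21884 (iv F174667)) (tt N22660 D38587) (tt N19833 (iv D37277)) (tt N22393 (iv F177750)) (tt N22302 F177226))
theorem Q21352 : ∀ i, i < 21352 → P i := stepQ 21351 Q21351 (allL N21351 (tt N22357 (iv F177567)) (tt N19837 F172957) (tt N19886 F172958) (tt N21351 F172959) (tt N22660 (iv F178919)) (tt N20389 F172960) (tt N19834 (iv D37278)) (tt N19847 F172961) (tt N22597 (iv F178644)) (tt N22303 F177234))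
theorem Q21353 : ∀ i, i < 21353 → P i := stepQ 21352 Q21352 (allL N21352 (tt N22367 (iv F177617)) (tt N21952 (iv F175128)) (tt N22309 (iv F177273)) (tt N19836 F172962) (tt N21352 F172963) (tt N21914 (iv F174876)) (tt N22661 D38588) (tt N19835 (iv D37279)) (tt N22191 (iv F176605)) (tt N22339 (iv F177469)))
theorem Q21354 : ∀ i, i < 21354 → P i := stepQ 21353 Q21353 (allL N21353 (tt N22368 (iv F177625)) (tt N22660 (iv F178917)) (tt N19838 F172964) (tt N22661 (iv F178921)) (tt N19837 F172965) (tt N22662 D38589) (tt N19836 (iv D37280)) (tt N19849 F172966) (tt N22516 (iv F178276)) (tt N22340 (iv F177474)))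
theorem Q21355 : ∀ i, i < 21355 → P i := stepQ 21354 Q21354 (allL N21354 (tt N22369 (iv F177631)) (tt N19893 F172967) (tt N22662 (iv F178924)) (tt N22313 (iv F177300)) (tt N22073 (iv F175884)) (tt N19838 (iv D37281)) (tt N22083 (iv F175950)) (tt N19850 F172968) (tt N22663 D38590) (tt N22341 (iv F177481)))
theorem Q21356 : ∀ i, i < 21356 → P i := stepQ 21355 Q21355 (allL N21355 (tt N22370 (iv F177638)) (tt N19894 F172969) (tt N22516 (iv F178273)) (tt N22314 (iv F177307)) (tt N19842 F172970) (tt N22664 D38591) (tt N19839 F172971) (tt N19851 F172972) (tt N19838 (iv D37282)) (tt N22665 D38592))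
theorem Q21357 : ∀ i, i < 21357 → P i := stepQ 21356 Q21356 (allL N21356 (tt N22371 (iv F177645)) (tt N19895 F172973) (tt N22456 (iv F178019)) (tt N22315 (iv F177314)) (tt N21356 F172974) (tt N19839 (iv D37283)) (tt N22666 D38593) (tt N19840 F172975) (tt N22085 (iv F175965)) (tt N22401 (iv F177790)))
theorem Q21358 : ∀ i, i < 21358 → P i := stepQ 21357 Q21357 (allL N21357 (tt N22372 (iv F177652)) (tt N19896 F172976) (tt N22518 (iv F178283)) (tt N22316 (iv F177322)) (tt N19843 F172977) (tt N22401 (iv F177788)) (tt N22665 (iv F178932)) (tt N19841 F172978) (tt N22146 (iv F176345)) (tt N19839 (iv D37284)))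
theorem Q21359 : ∀ i, i < 21359 → P i := stepQ 21358 Q21358 (allL N21358 (tt N22373 (iv F177659)) (tt N19898 F172979) (tt N22605 (iv F178681)) (tt N19844 F172980) (tt N22667 D38594) (tt N19842 (iv D37285)) (tt N21358 F172981) (tt N19853 F172982) (tt N22079 (iv F175927)) (tt N22668 D38595))
theorem Q21360 : ∀ i, i < 21360 → P i := stepQ 21359 Q21359 (allL N21359 (tt N22374 (iv F177666)) (tt N19899 F172983) (tt N22607 (iv F178694)) (tt N19845 F172984) (tt N22665 (iv F178931)) (tt N22668 (iv F178941)) (tt N19843 F172985) (tt N19854 F172986) (tt N22147 (iv F176353)) (tt N19842 (iv D37286)))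
theorem Q21361 : ∀ i, i < 21361 → P i := stepQ 21360 Q21360 (allL N21360 (tt N22375 (iv F177673)) (tt N19900 F172987) (tt N21360 F172988) (tt N22668 (iv F178940)) (tt N22576 (iv F178528)) (tt N19845 F172989) (tt N21360 F172990) (tt N19856 F172991) (tt N22000 (iv F175407)) (tt N19844 (iv D37287)))
theorem Q21362 : ∀ i, i < 21362 → P i := stepQ 21361 Q21361 (allL N21361 (tt N22408 (iv F177806)) (tt N19849 F172992) (tt N19903 F172993) (tt N21950 (iv F175117)) (tt N19847 F172994) (tt N22669 D38596) (tt N19846 (iv D37288)) (tt N22660 (iv F178920)) (tt N22392 (iv F177746)) (tt N22334 F177441))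
theorem Q21363 : ∀ i, i < 21363 → P i := stepQ 21362 Q21362 (allL N21362 (tt N22491 (iv F178168)) (tt N21950 (iv F175116)) (tt N22628 (iv F178805)) (tt N19849 F172995) (tt N21362 F172996) (tt N22670 D38597) (tt N19848 (iv D37289)) (tt N22661 (iv F178923)) (tt N22189 (iv F176596)) (tt N22376 (iv F177682)))
theorem Q21364 : ∀ i, i < 21364 → P i := stepQ 21363 Q21363 (allL N21363 (tt N22500 (iv F178203)) (tt N22669 (iv F178944)) (tt N19850 F172997) (tt N22670 (iv F178948)) (tt N22385 (iv F177715)) (tt N19849 (iv D37290)) (tt N20278 F172998) (tt N22662 (iv F178925)) (tt N22671 D38598) (tt N22377 (iv F177686)))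
theorem Q21365 : ∀ i, i < 21365 → P i := stepQ 21364 Q21364 (allL N21364 (tt N22654 (iv F178893)) (tt N19917 F172999) (tt N22671 (iv F178950)) (tt N22631 (iv F178814)) (tt N22389 (iv F177735)) (tt N22672 D38599) (tt N20279 F173000) (tt N22663 (iv F178927)) (tt N19850 (iv D37291)) (tt N22673 D38600))
theorem Q21366 : ∀ i, i < 21366 → P i := stepQ 21365 Q21365 (allL N21365 (tt N22655 (iv F178895)) (tt N19918 F173001) (tt N22514 (iv F178268)) (tt N22632 (iv F178817)) (tt N22674 D38601) (tt N19851 (iv D37292)) (tt N22507 (iv F178241)) (tt N22664 (iv F178929)) (tt N22672 (iv F178953)) (tt N22675 D38602))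
theorem Q21367 : ∀ i, i < 21367 → P i := stepQ 21366 Q21366 (allL N21366 (tt N22656 (iv F178898)) (tt N19919 F173002) (tt N22517 (iv F178278)) (tt N22633 (iv F178819)) (tt N19854 F173003) (tt N22675 (iv F178959)) (tt N19852 F173004) (tt N22665 (iv F178933)) (tt N22380 (iv F177694)) (tt N19851 (iv D37293)))
theorem Q21368 : ∀ i, i < 21368 → P i := stepQ 21367 Q21367 (allL N21367 (tt N22657 (iv F178902)) (tt N19924 F173005) (tt N22603 (iv F178671)) (tt N22676 D38603) (tt N19853 (iv D37294)) (tt N22674 (iv F178957)) (tt N19857 F173006) (tt N22667 (iv F178938)) (tt N22394 (iv F177754)) (tt N22677 D38604))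
theorem Q21369 : ∀ i, i < 21369 → P i := stepQ 21368 Q21368 (allL N21368 (tt N22658 (iv F178905)) (tt N19925 F173007) (tt N22606 (iv F178687)) (tt N19856 F173008) (tt N22677 (iv F178964)) (tt N19854 F173009) (tt N19858 F173010) (tt N22668 (iv F178943)) (tt N21988 (iv F175331)) (tt N19853 (iv D37295)))
theorem Q21370 : ∀ i, i < 21370 → P i := stepQ 21369 Q21369 (allL N21369 (tt N22648 (iv F178865)) (tt N19926 F173011) (tt N22678 D38605) (tt N19855 (iv D37296)) (tt N22676 (iv F178961)) (tt N22557 F178429) (tt N19859 F173012) (tt N22574 (iv F178521)) (tt N22395 (iv F177757)) (tt N22679 D38606))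
theorem Q21371 : ∀ i, i < 21371 → P i := stepQ 21370 Q21370 (allL N21370 (tt N22563 (iv F178460)) (tt N19927 F173013) (tt N21370 F173014) (tt N22679 (iv F178969)) (tt N19856 F173015) (tt N22559 (iv F178441)) (tt N19860 F173016) (tt N22576 (iv F178531)) (tt N21999 (iv F175400)) (tt N19855 (iv D37297)))
theorem Q21372 : ∀ i, i < 21372 → P i := stepQ 21371 Q21371 (allL N21371 (tt N22652 (iv F178882)) (tt N19944 F173017) (tt N22680 D38607) (tt N19857 (iv D37298)) (tt N19859 F173018) (tt N22600 (iv F178657)) (tt N22676 (iv F178962)) (tt N21371 F173019) (tt N22598 (iv F178649)) (tt N22681 D38608))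
theorem Q21373 : ∀ i, i < 21373 → P i := stepQ 21372 Q21372 (allL N21372 (tt N22659 (iv F178911)) (tt N19945 F173020) (tt N22604 (iv F178675)) (tt N22681 (iv F178974)) (tt N19858 F173021) (tt N22601 (iv F178664)) (tt N22677 (iv F178965)) (tt N21372 F173022) (tt N21986 (iv F175320)) (tt N19857 (iv D37299)))
theorem Q21374 : ∀ i, i < 21374 → P i := stepQ 21373 Q21373 (allL N21373 (tt N22651 (iv F178876)) (tt N22618 (iv F178760)) (tt N19859 (iv D37300)) (tt N21373 F173023) (tt N22680 (iv F178971)) (tt N19864 F173024) (tt N22678 (iv F178967)) (tt N21373 F173025) (tt N22599 (iv F178653)) (tt N22608 (iv F178705)))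
theorem Q21375 : ∀ i, i < 21375 → P i := stepQ 21374 Q21374 (allL N21374 (tt N22580 (iv F178544)) (tt N19948 F173026) (tt N22608 (iv F178701)) (tt N19860 F173027) (tt N22681 (iv F178975)) (tt N19865 F173028) (tt N22679 (iv F178970)) (tt N21374 F173029) (tt N21997 (iv F175387)) (tt N19859 (iv D37301)))
theorem Q21376 : ∀ i, i < 21376 → P i := stepQ 21375 Q21375 (allL N21375 (tt N22034 (iv F175639)) (tt N19869 F173030) (tt N21959 (iv F175177)) (tt N19867 (iv D37302)) (tt N21375 F173031) (tt N19883 F173032) (tt N20291 F173033) (tt N22682 D38609) (tt N22217 (iv F176746)) (tt N20288 F173034))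
theorem Q21377 : ∀ i, i < 21377 → P i := stepQ 21376 Q21376 (allL N21376 (tt N22362 (iv F177584)) (tt N19870 F173035) (tt N21884 (iv F174664)) (tt N22682 (iv F178978)) (tt N19868 F173036) (tt N19884 F173037) (tt N22683 D38610) (tt N19867 (iv D37303)) (tt N22224 (iv F176779)) (tt N22013 (iv F175497)))
theorem Q21378 : ∀ i, i < 21378 → P i := stepQ 21377 Q21377 (allL N21377 (tt N22612 (iv F178723)) (tt N19872 F173038) (tt N21886 (iv F174680)) (tt N21377 F173039) (tt N22683 (iv F178983)) (tt N20440 F173040) (tt N19868 (iv D37304)) (tt N20293 F173041) (tt N22249 (iv F176900)) (tt N22014 (iv F175505)))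
theorem Q21379 : ∀ i, i < 21379 → P i := stepQ 21378 Q21378 (allL N21378 (tt N21923 (iv F174932)) (tt N22682 (iv F178977)) (tt N22321 (iv F177359)) (tt N19870 F173042) (tt N21378 F173043) (tt N19888 F173044) (tt N22684 D38611) (tt N19869 (iv D37305)) (tt N22685 D38612) (tt N22015 (iv F175513)))
theorem Q21380 : ∀ i, i < 21380 → P i := stepQ 21379 Q21379 (allL N21379 (tt N21924 (iv F174939)) (tt N22217 (iv F176741)) (tt N21936 (iv F175022)) (tt N19871 F173045) (tt N21379 F173046) (tt N21928 (iv F174971)) (tt N20295 F173047) (tt N22685 (iv F178990)) (tt N19869 (iv D37306)) (tt N21927 F174964))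
theorem Q21381 : ∀ i, i < 21381 → P i := stepQ 21380 Q21380 (allL N21380 (tt N21925 (iv F174947)) (tt N22683 (iv F178982)) (tt N19875 F173048) (tt N22684 (iv F178985)) (tt N19872 F173049) (tt N22686 D38613) (tt N19870 (iv D37307)) (tt N20296 F173050) (tt N22687 D38614) (tt N22016 (iv F175519)))
theorem Q21382 : ∀ i, i < 21382 → P i := stepQ 21381 Q21381 (allL N21381 (tt N21926 (iv F174953)) (tt N22224 (iv F176776)) (tt N19876 F173051) (tt N22685 (iv F178988)) (tt N19873 F173052) (tt N22688 D38615) (tt N22687 (iv F178996)) (tt N19871 F173053) (tt N19870 (iv D37308)) (tt N22689 D38616))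
theorem Q21383 : ∀ i, i < 21383 → P i := stepQ 21382 Q21382 (allL N21382 (tt N21927 (iv F174958)) (tt N22130 (iv F176254)) (tt N19877 F173054) (tt N21928 (iv F174969)) (tt N21382 F173055) (tt N19871 (iv D37309)) (tt N22119 (iv F176193)) (tt N22688 (iv F179000)) (tt N19891 F173056) (tt N21924 (iv F174946)))
theorem Q21384 : ∀ i, i < 21384 → P i := stepQ 21383 Q21383 (allL N21383 (tt N21928 (iv F174966)) (tt N22225 (iv F176781)) (tt N19878 F173057) (tt N21927 (iv F174961)) (tt N19874 F173058) (tt N21924 (iv F174944)) (tt N20298 F173059) (tt N22689 (iv F179004)) (tt N19901 F173060) (tt N19871 (iv D37310)))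
theorem Q21385 : ∀ i, i < 21385 → P i := stepQ 21384 Q21384 (allL N21384 (tt N21929 (iv F174974)) (tt N22249 (iv F176896)) (tt N19879 F173061) (tt N21384 F173062) (tt N22687 (iv F178995)) (tt N22690 D38617) (tt N19873 F173063) (tt N20299 F173064) (tt N19872 (iv D37311)) (tt N22691 D38618))
theorem Q21386 : ∀ i, i < 21386 → P i := stepQ 21385 Q21385 (allL N21385 (tt N21930 (iv F174980)) (tt N22252 (iv F176914)) (tt N19880 F173065) (tt N21385 F173066) (tt N22689 (iv F179003)) (tt N21385 F173067) (tt N22691 (iv F179012)) (tt N19874 F173068) (tt N19972 F173069) (tt N19873 (iv D37312)))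
theorem Q21387 : ∀ i, i < 21387 → P i := stepQ 21386 Q21386 (allL N21386 (tt N21931 (iv F174987)) (tt N22083 (iv F175947)) (tt N22686 (iv F178991)) (tt N22325 (iv F177386)) (tt N22029 (iv F175609)) (tt N19875 (iv D37313)) (tt N19893 F173070) (tt N20301 F173071) (tt N22692 D38619) (tt N22017 (iv F175526)))
theorem Q21388 : ∀ i, i < 21388 → P i := stepQ 21387 Q21387 (allL N21387 (tt N21932 (iv F174994)) (tt N22084 (iv F175954)) (tt N22687 (iv F178994)) (tt N22326 (iv F177393)) (tt N19879 F173072) (tt N22693 D38620) (tt N19876 F173073) (tt N20302 F173074) (tt N19875 (iv D37314)) (tt N22694 D38621))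
theorem Q21389 : ∀ i, i < 21389 → P i := stepQ 21388 Q21388 (allL N21388 (tt N21933 (iv F175000)) (tt N22085 (iv F175961)) (tt N22688 (iv F178998)) (tt N22327 (iv F177401)) (tt N21388 F173075) (tt N19876 (iv D37315)) (tt N22695 D38622) (tt N19877 F173076) (tt N19895 F173077) (tt N22384 (iv F177712)))
theorem Q21390 : ∀ i, i < 21390 → P i := stepQ 21389 Q21389 (allL N21389 (tt N21934 (iv F175006)) (tt N19907 F173078) (tt N22689 (iv F179002)) (tt N19904 F173079) (tt N19880 F173080) (tt N22384 (iv F177710)) (tt N22694 (iv F179021)) (tt N19878 F173081) (tt N19902 F173082) (tt N19876 (iv D37316)))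
theorem Q21391 : ∀ i, i < 21391 → P i := stepQ 21390 Q21390 (allL N21390 (tt N21935 (iv F175012)) (tt N22025 (iv F175578)) (tt N22119 (iv F176190)) (tt N22070 (iv F175863)) (tt N21390 F173083) (tt N20305 F173084) (tt N19877 (iv D37317)) (tt N22696 D38623) (tt N19897 F173085) (tt N22066 (iv F175839)))
theorem Q21392 : ∀ i, i < 21392 → P i := stepQ 21391 Q21391 (allL N21391 (tt N21937 (iv F175028)) (tt N22086 (iv F175968)) (tt N22690 (iv F179006)) (tt N19881 F173086) (tt N22697 D38624) (tt N19879 (iv D37318)) (tt N21391 F173087) (tt N20307 F173088) (tt N22035 (iv F175652)) (tt N22698 D38625))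
theorem Q21393 : ∀ i, i < 21393 → P i := stepQ 21392 Q21392 (allL N21392 (tt N21938 (iv F175034)) (tt N19976 F173089) (tt N22691 (iv F179010)) (tt N19882 F173090) (tt N22694 (iv F179020)) (tt N22698 (iv F179033)) (tt N19880 F173091) (tt N20308 F173092) (tt N19973 F173093) (tt N19879 (iv D37319)))
theorem Q21394 : ∀ i, i < 21394 → P i := stepQ 21393 Q21393 (allL N21393 (tt N21939 (iv F175040)) (tt N22087 (iv F175975)) (tt N21393 F173094) (tt N22699 D38626) (tt N19881 (iv D37320)) (tt N22329 (iv F177417)) (tt N21393 F173095) (tt N20309 F173096) (tt N22037 (iv F175665)) (tt N22700 D38627))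
theorem Q21395 : ∀ i, i < 21395 → P i := stepQ 21394 Q21394 (allL N21394 (tt N21940 (iv F175047)) (tt N19978 F173097) (tt N21394 F173098) (tt N22698 (iv F179032)) (tt N22700 (iv F179040)) (tt N19882 F173099) (tt N21394 F173100) (tt N20310 F173101) (tt N22701 D38628) (tt N19881 (iv D37321)))
theorem Q21396 : ∀ i, i < 21396 → P i := stepQ 21395 Q21395 (allL N21395 (tt N22026 (iv F175585)) (tt N22226 (iv F176789)) (tt N19883 (iv D37322)) (tt N21945 (iv F175085)) (tt N19963 F173102) (tt N21959 (iv F175180)) (tt N19901 F173103) (tt N22702 D38629) (tt N20298 F173104) (tt N20115 F173105))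
theorem Q21397 : ∀ i, i < 21397 → P i := stepQ 21396 Q21396 (allL N21396 (tt N22032 (iv F175625)) (tt N19888 F173106) (tt N22702 (iv F179049)) (tt N19884 F173107) (tt N19964 F173108) (tt N22682 (iv F178980)) (tt N22703 D38630) (tt N19883 (iv D37323)) (tt N20304 F173109) (tt N20287 F173110))
theorem Q21398 : ∀ i, i < 21398 → P i := stepQ 21397 Q21397 (allL N21397 (tt N22360 (iv F177577)) (tt N19889 F173111) (tt N22660 (iv F178918)) (tt N22703 (iv F179054)) (tt N19886 F173112) (tt N22704 D38631) (tt N19884 (iv D37324)) (tt N19903 F173113) (tt N22705 D38632) (tt N22305 F177248))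
theorem Q21399 : ∀ i, i < 21399 → P i := stepQ 21398 Q21398 (allL N21398 (tt N22076 (iv F175900)) (tt N19890 F173114) (tt N22393 (iv F177748)) (tt N20304 F173115) (tt N19887 F173116) (tt N22706 D38633) (tt N22705 (iv F179065)) (tt N19885 F173117) (tt N19884 (iv D37325)) (tt N20069 F173118))
theorem Q21400 : ∀ i, i < 21400 → P i := stepQ 21399 Q21399 (allL N21399 (tt N22078 (iv F175914)) (tt N19891 F173119) (tt N22077 (iv F175908)) (tt N20306 F173120) (tt N21399 F173121) (tt N19885 (iv D37326)) (tt N22069 (iv F175857)) (tt N22706 (iv F179071)) (tt N22130 (iv F176259)) (tt N20070 F173122))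
theorem Q21401 : ∀ i, i < 21401 → P i := stepQ 21400 Q21400 (allL N21400 (tt N22080 (iv F175928)) (tt N19892 F173123) (tt N22597 (iv F178641)) (tt N19966 F173124) (tt N22705 (iv F179064)) (tt N22707 D38634) (tt N19887 F173125) (tt N19905 F173126) (tt N19886 (iv D37327)) (tt N20071 F173127))
theorem Q21402 : ∀ i, i < 21402 → P i := stepQ 21401 Q21401 (allL N21401 (tt N21941 (iv F175053)) (tt N22703 (iv F179053)) (tt N22502 (iv F178210)) (tt N19889 F173128) (tt N19967 F173129) (tt N22708 D38635) (tt N19888 (iv D37328)) (tt N19906 F173130) (tt N22161 (iv F176441)) (tt N22156 F176416))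
theorem Q21403 : ∀ i, i < 21403 → P i := stepQ 21402 Q21402 (allL N21402 (tt N21942 (iv F175061)) (tt N22704 (iv F179059)) (tt N19893 F173131) (tt N22708 (iv F179079)) (tt N22445 (iv F177967)) (tt N19889 (iv D37329)) (tt N22686 (iv F178992)) (tt N19909 F173132) (tt N22709 D38636) (tt N22440 (iv F177942)))
theorem Q21404 : ∀ i, i < 21404 → P i := stepQ 21403 Q21403 (allL N21403 (tt N21943 (iv F175067)) (tt N22705 (iv F179062)) (tt N19894 F173133) (tt N22161 (iv F176437)) (tt N19892 F173134) (tt N22710 D38637) (tt N19890 F173135) (tt N19910 F173136) (tt N19889 (iv D37330)) (tt N22150 (iv F176375)))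
theorem Q21405 : ∀ i, i < 21405 → P i := stepQ 21404 Q21404 (allL N21404 (tt N21944 (iv F175075)) (tt N22706 (iv F179068)) (tt N19895 F173137) (tt N22043 (iv F175698)) (tt N21404 F173138) (tt N19890 (iv D37331)) (tt N22711 D38638) (tt N19891 F173139) (tt N22688 (iv F179001)) (tt N22040 F175685))
theorem Q21406 : ∀ i, i < 21406 → P i := stepQ 21405 Q21405 (allL N21405 (tt N21945 (iv F175082)) (tt N22069 (iv F175853)) (tt N19897 F173140) (tt N22026 (iv F175588)) (tt N21405 F173141) (tt N19913 F173142) (tt N19891 (iv D37332)) (tt N22712 D38639) (tt N22119 (iv F176194)) (tt N22022 F175565))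
theorem Q21407 : ∀ i, i < 21407 → P i := stepQ 21406 Q21406 (allL N21406 (tt N21946 (iv F175090)) (tt N22707 (iv F179073)) (tt N19898 F173143) (tt N19969 F173144) (tt N22713 D38640) (tt N19892 (iv D37333)) (tt N21406 F173145) (tt N19915 F173146) (tt N22449 (iv F177994)) (tt N22151 (iv F176383)))
theorem Q21408 : ∀ i, i < 21408 → P i := stepQ 21407 Q21407 (allL N21407 (tt N21947 (iv F175098)) (tt N22663 (iv F178926)) (tt N22709 (iv F179081)) (tt N22634 (iv F178823)) (tt N22451 (iv F178003)) (tt N22714 D38641) (tt N22692 (iv F179015)) (tt N19917 F173147) (tt N19893 (iv D37334)) (tt N22715 D38642))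
theorem Q21409 : ∀ i, i < 21409 → P i := stepQ 21408 Q21408 (allL N21408 (tt N21948 (iv F175103)) (tt N22664 (iv F178928)) (tt N22710 (iv F179083)) (tt N22541 F178365) (tt N22716 D38643) (tt N19894 (iv D37335)) (tt N22717 D38644) (tt N19918 F173148) (tt N22714 (iv F179094)) (tt N22718 D38645))
theorem Q21410 : ∀ i, i < 21410 → P i := stepQ 21409 Q21409 (allL N21409 (tt N21949 (iv F175107)) (tt N22665 (iv F178930)) (tt N22150 (iv F176370)) (tt N22409 (iv F177813)) (tt N19899 F173149) (tt N22718 (iv F179099)) (tt N19896 F173150) (tt N19919 F173151) (tt N22148 (iv F176359)) (tt N19894 (iv D37336)))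
theorem Q21411 : ∀ i, i < 21411 → P i := stepQ 21410 Q21410 (allL N21410 (tt N21950 (iv F175115)) (tt N22666 (iv F178934)) (tt N22711 (iv F179085)) (tt N22408 (iv F177808)) (tt N21410 F173152) (tt N22717 (iv F179098)) (tt N19895 (iv D37337)) (tt N22719 D38646) (tt N22695 (iv F179025)) (tt N22405 F177803))
theorem Q21412 : ∀ i, i < 21412 → P i := stepQ 21411 Q21411 (allL N21411 (tt N21952 (iv F175127)) (tt N22447 (iv F177977)) (tt N22712 (iv F179087)) (tt N22356 (iv F177563)) (tt N21411 F173153) (tt N19922 F173154) (tt N22719 (iv F179102)) (tt N19897 (iv D37338)) (tt N22696 (iv F179028)) (tt N22352 F177547))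
theorem Q21413 : ∀ i, i < 21413 → P i := stepQ 21412 Q21412 (allL N21412 (tt N21954 (iv F175140)) (tt N22667 (iv F178936)) (tt N22713 (iv F179090)) (tt N22578 (iv F178536)) (tt N19898 (iv D37339)) (tt N22716 (iv F179096)) (tt N21412 F173155) (tt N19924 F173156) (tt N22457 (iv F178025)) (tt N22720 D38647))
theorem Q21414 : ∀ i, i < 21414 → P i := stepQ 21413 Q21413 (allL N21413 (tt N21955 (iv F175146)) (tt N22668 (iv F178939)) (tt N22151 (iv F176378)) (tt N19900 F173157) (tt N22720 (iv F179103)) (tt N19899 F173158) (tt N21413 F173159) (tt N19925 F173160) (tt N22487 (iv F178157)) (tt N19898 (iv D37340)))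
theorem Q21415 : ∀ i, i < 21415 → P i := stepQ 21414 Q21414 (allL N21414 (tt N22043 (iv F175695)) (tt N22636 (iv F178830)) (tt N19902 F173161) (tt N21944 (iv F175078)) (tt N19972 F173162) (tt N20114 F173163) (tt N22721 D38648) (tt N19901 (iv D37341)) (tt N22689 (iv F179005)) (tt N20113 F173164))
theorem Q21416 : ∀ i, i < 21416 → P i := stepQ 21415 Q21415 (allL N21415 (tt N22048 (iv F175719)) (tt N19906 F173165) (tt N22721 (iv F179106)) (tt N19903 F173166) (tt N19973 F173167) (tt N22722 D38649) (tt N19902 (iv D37342)) (tt N22703 (iv F179056)) (tt N22694 (iv F179023)) (tt N22018 F175534))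
theorem Q21417 : ∀ i, i < 21417 → P i := stepQ 21416 Q21416 (allL N21416 (tt N22414 (iv F177830)) (tt N19909 F173168) (tt N22669 (iv F178945)) (tt N22722 (iv F179110)) (tt N20386 F173169) (tt N19903 (iv D37343)) (tt N20373 F173170) (tt N22704 (iv F179061)) (tt N22723 D38650) (tt N22336 (iv F177448)))
theorem Q21418 : ∀ i, i < 21418 → P i := stepQ 21417 Q21417 (allL N21417 (tt N22391 (iv F177738)) (tt N19910 F173171) (tt N22392 (iv F177744)) (tt N22694 (iv F179019)) (tt N19905 F173172) (tt N22724 D38651) (tt N19904 F173173) (tt N22705 (iv F179066)) (tt N19903 (iv D37344)) (tt N22326 (iv F177397)))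
theorem Q21419 : ∀ i, i < 21419 → P i := stepQ 21418 Q21418 (allL N21418 (tt N21983 (iv F175301)) (tt N19915 F173174) (tt N22596 (iv F178635)) (tt N19950 F173175) (tt N22725 D38652) (tt N19905 (iv D37345)) (tt N19929 F173176) (tt N22707 (iv F179076)) (tt N19939 F173177) (tt N22328 (iv F177413)))
theorem Q21420 : ∀ i, i < 21420 → P i := stepQ 21419 Q21419 (allL N21419 (tt N21956 (iv F175154)) (tt N22722 (iv F179109)) (tt N22639 (iv F178841)) (tt N19909 F173178) (tt N22726 D38653) (tt N19906 (iv D37346)) (tt N20374 F173179) (tt N22708 (iv F179080)) (tt N22727 D38654) (tt N22495 (iv F178186)))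
theorem Q21421 : ∀ i, i < 21421 → P i := stepQ 21420 Q21420 (allL N21420 (tt N21957 (iv F175159)) (tt N22694 (iv F179018)) (tt N22481 (iv F178122)) (tt N19910 F173180) (tt N19976 F173181) (tt N22728 D38655) (tt N19907 F173182) (tt N22161 (iv F176440)) (tt N19906 (iv D37347)) (tt N22084 (iv F175959)))
theorem Q21422 : ∀ i, i < 21422 → P i := stepQ 21421 Q21421 (allL N21421 (tt N21958 (iv F175167)) (tt N22384 (iv F177707)) (tt N22623 (iv F178782)) (tt N19911 F173183) (tt N21421 F173184) (tt N19907 (iv D37348)) (tt N22729 D38656) (tt N19908 F173185) (tt N20376 F173186) (tt N22085 (iv F175966)))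
theorem Q21423 : ∀ i, i < 21423 → P i := stepQ 21422 Q21422 (allL N21422 (tt N21959 (iv F175175)) (tt N22066 (iv F175834)) (tt N22034 (iv F175641)) (tt N19913 F173187) (tt N21422 F173188) (tt N22026 (iv F175590)) (tt N19908 (iv D37349)) (tt N22730 D38657) (tt N20378 F173189) (tt N22025 F175584))
theorem Q21424 : ∀ i, i < 21424 → P i := stepQ 21423 Q21423 (allL N21423 (tt N21960 (iv F175183)) (tt N22723 (iv F179112)) (tt N19917 F173190) (tt N22727 (iv F179121)) (tt N22506 (iv F178236)) (tt N22731 D38658) (tt N20379 F173191) (tt N22709 (iv F179082)) (tt N19909 (iv D37350)) (tt N22732 D38659))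
theorem Q21425 : ∀ i, i < 21425 → P i := stepQ 21424 Q21424 (allL N21424 (tt N21961 (iv F175188)) (tt N22724 (iv F179115)) (tt N19918 F173192) (tt N22728 (iv F179123)) (tt N22733 D38660) (tt N19910 (iv D37351)) (tt N22734 D38661) (tt N22710 (iv F179084)) (tt N22731 (iv F179131)) (tt N22735 D38662))
theorem Q21426 : ∀ i, i < 21426 → P i := stepQ 21425 Q21425 (allL N21425 (tt N20272 F173193) (tt N22326 (iv F177392)) (tt N19919 F173194) (tt N22084 (iv F175955)) (tt N19916 F173195) (tt N22735 (iv F179140)) (tt N19912 F173196) (tt N22150 (iv F176374)) (tt N20258 F173197) (tt N19910 (iv D37352)))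
theorem Q21427 : ∀ i, i < 21427 → P i := stepQ 21426 Q21426 (allL N21426 (tt N21962 (iv F175192)) (tt N22386 (iv F177718)) (tt N19920 F173198) (tt N22729 (iv F179124)) (tt N19932 F173199) (tt N22734 (iv F179137)) (tt N19911 (iv D37353)) (tt N22736 D38663) (tt N20382 F173200) (tt N22737 D38664))
theorem Q21428 : ∀ i, i < 21428 → P i := stepQ 21427 Q21427 (allL N21427 (tt N20273 F173201) (tt N22327 (iv F177399)) (tt N19921 F173202) (tt N22085 (iv F175962)) (tt N19933 F173203) (tt N19912 F173204) (tt N22737 (iv F179148)) (tt N19914 F173205) (tt N22315 (iv F177317)) (tt N19911 (iv D37354)))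
theorem Q21429 : ∀ i, i < 21429 → P i := stepQ 21428 Q21428 (allL N21428 (tt N21963 (iv F175198)) (tt N22068 (iv F175848)) (tt N19922 F173206) (tt N22730 (iv F179127)) (tt N19934 F173207) (tt N22712 (iv F179089)) (tt N22736 (iv F179143)) (tt N19913 (iv D37355)) (tt N20383 F173208) (tt N22738 D38665))
theorem Q21430 : ∀ i, i < 21430 → P i := stepQ 21429 Q21429 (allL N21429 (tt N20274 F173209) (tt N22070 (iv F175861)) (tt N19923 F173210) (tt N22025 (iv F175580)) (tt N19935 F173211) (tt N22022 F175564) (tt N19914 F173212) (tt N22738 (iv F179152)) (tt N22317 (iv F177333)) (tt N19913 (iv D37356)))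
theorem Q21431 : ∀ i, i < 21431 → P i := stepQ 21430 Q21430 (allL N21430 (tt N21964 (iv F175204)) (tt N22725 (iv F179116)) (tt N19924 F173213) (tt N22739 D38666) (tt N19915 (iv D37357)) (tt N22733 (iv F179135)) (tt N19936 F173214) (tt N22713 (iv F179092)) (tt N22509 (iv F178252)) (tt N22740 D38667))
theorem Q21432 : ∀ i, i < 21432 → P i := stepQ 21431 Q21431 (allL N21431 (tt N20275 F173215) (tt N22328 (iv F177407)) (tt N19925 F173216) (tt N19980 F173217) (tt N22740 (iv F179157)) (tt N19916 F173218) (tt N19937 F173219) (tt N22151 (iv F176381)) (tt N21901 (iv F174793)) (tt N19915 (iv D37358)))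
theorem Q21433 : ∀ i, i < 21433 → P i := stepQ 21432 Q21432 (allL N21432 (tt N21965 (iv F175210)) (tt N22672 (iv F178952)) (tt N22731 (iv F179130)) (tt N22641 (iv F178846)) (tt N22741 D38668) (tt N19917 (iv D37359)) (tt N22742 D38669) (tt N22714 (iv F179093)) (tt N19918 F173220) (tt N22743 D38670))
theorem Q21434 : ∀ i, i < 21434 → P i := stepQ 21433 Q21433 (allL N21433 (tt N21966 (iv F175212)) (tt N22673 (iv F178954)) (tt N22732 (iv F179132)) (tt N22642 (iv F178848)) (tt N22512 (iv F178262)) (tt N22743 (iv F179162)) (tt N20385 F173221) (tt N22715 (iv F179095)) (tt N22498 (iv F178198)) (tt N19917 (iv D37360)))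
theorem Q21435 : ∀ i, i < 21435 → P i := stepQ 21434 Q21434 (allL N21434 (tt N21967 (iv F175216)) (tt N22674 (iv F178956)) (tt N22733 (iv F179134)) (tt N22744 D38671) (tt N19918 (iv D37361)) (tt N19924 F173222) (tt N22745 D38672) (tt N22716 (iv F179097)) (tt N22741 (iv F179159)) (tt N22746 D38673))
theorem Q21436 : ∀ i, i < 21436 → P i := stepQ 21435 Q21435 (allL N21435 (tt N21968 (iv F175218)) (tt N22507 (iv F178239)) (tt N22734 (iv F179136)) (tt N22643 (iv F178850)) (tt N22745 (iv F179164)) (tt N19920 F173223) (tt N19918 (iv D37362)) (tt N22747 D38674) (tt N22742 (iv F179161)) (tt N22748 D38675))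
theorem Q21437 : ∀ i, i < 21437 → P i := stepQ 21436 Q21436 (allL N21436 (tt N21969 (iv F175220)) (tt N22675 (iv F178958)) (tt N22735 (iv F179139)) (tt N22644 (iv F178852)) (tt N22746 (iv F179166)) (tt N19919 F173224) (tt N22748 (iv F179170)) (tt N22718 (iv F179100)) (tt N22749 D38676) (tt N19918 (iv D37363)))
theorem Q21438 : ∀ i, i < 21438 → P i := stepQ 21437 Q21437 (allL N21437 (tt N21970 (iv F175223)) (tt N22446 (iv F177971)) (tt N22736 (iv F179141)) (tt N22645 (iv F178854)) (tt N19941 F173225) (tt N22747 (iv F179168)) (tt N19922 F173226) (tt N19920 (iv D37364)) (tt N20388 F173227) (tt N22750 D38677))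
theorem Q21439 : ∀ i, i < 21439 → P i := stepQ 21438 Q21438 (allL N21438 (tt N21971 (iv F175227)) (tt N22508 (iv F178243)) (tt N22737 (iv F179146)) (tt N22646 (iv F178858)) (tt N19942 F173228) (tt N22748 (iv F179169)) (tt N19921 F173229) (tt N22750 (iv F179173)) (tt N22530 (iv F178329)) (tt N19920 (iv D37365)))
theorem Q21440 : ∀ i, i < 21440 → P i := stepQ 21439 Q21439 (allL N21439 (tt N21972 (iv F175231)) (tt N22448 (iv F177982)) (tt N22738 (iv F179150)) (tt N22355 (iv F177557)) (tt N19943 F173230) (tt N22352 F177546) (tt N22750 (iv F179172)) (tt N19923 F173231) (tt N22465 (iv F178063)) (tt N19922 (iv D37366)))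
theorem Q21441 : ∀ i, i < 21441 → P i := stepQ 21440 Q21440 (allL N21440 (tt N21973 (iv F175238)) (tt N22676 (iv F178960)) (tt N22751 D38678) (tt N19924 (iv D37367)) (tt N19926 F173232) (tt N22744 (iv F179163)) (tt N19944 F173233) (tt N22578 (iv F178538)) (tt N22519 (iv F178290)) (tt N22752 D38679))
theorem Q21442 : ∀ i, i < 21442 → P i := stepQ 21441 Q21441 (allL N21441 (tt N21974 (iv F175243)) (tt N22677 (iv F178963)) (tt N22740 (iv F179156)) (tt N22752 (iv F179176)) (tt N19925 F173234) (tt N22746 (iv F179167)) (tt N19945 F173235) (tt N22720 (iv F179105)) (tt N22753 D38680) (tt N19924 (iv D37368)))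
theorem Q21443 : ∀ i, i < 21443 → P i := stepQ 21442 Q21442 (allL N21442 (tt N21909 (iv F174843)) (tt N21988 (iv F175326)) (tt N21901 (iv F174789)) (tt N19928 F173236) (tt N22753 (iv F179179)) (tt N21897 (iv F174762)) (tt N19946 F173237) (tt N22487 (iv F178156)) (tt N19925 (iv D37369)) (tt N21919 (iv F174909)))
theorem Q21444 : ∀ i, i < 21444 → P i := stepQ 21443 Q21443 (allL N21443 (tt N21975 (iv F175247)) (tt N22754 D38681) (tt N19926 (iv D37370)) (tt N19984 F173238) (tt N22751 (iv F179174)) (tt N22275 F177061) (tt N19947 F173239) (tt N22293 (iv F177164)) (tt N22521 (iv F178297)) (tt N22567 (iv F178487)))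
theorem Q21445 : ∀ i, i < 21445 → P i := stepQ 21444 Q21444 (allL N21444 (tt N21976 (iv F175255)) (tt N22679 (iv F178968)) (tt N22567 (iv F178483)) (tt N19927 F173240) (tt N22752 (iv F179177)) (tt N22561 (iv F178451)) (tt N19948 F173241) (tt N22579 (iv F178543)) (tt N22281 F177098) (tt N19926 (iv D37371)))
theorem Q21446 : ∀ i, i < 21446 → P i := stepQ 21445 Q21445 (allL N21445 (tt N21982 (iv F175295)) (tt N19936 F173242) (tt N22595 (iv F178629)) (tt N22755 D38682) (tt N19929 (iv D37372)) (tt N22594 (iv F178625)) (tt N22725 (iv F179117)) (tt N21445 F173243) (tt N19938 F173244) (tt N22592 (iv F178615)))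
theorem Q21447 : ∀ i, i < 21447 → P i := stepQ 21446 Q21446 (allL N21446 (tt N21978 (iv F175270)) (tt N22594 (iv F178623)) (tt N19938 F173245) (tt N22756 D38683) (tt N19930 (iv D37373)) (tt N19936 F173246) (tt N22757 D38684) (tt N21446 F173247) (tt N22595 (iv F178632)) (tt N22758 D38685))
theorem Q21448 : ∀ i, i < 21448 → P i := stepQ 21447 Q21447 (allL N21447 (tt N21979 (iv F175276)) (tt N22387 (iv F177723)) (tt N19939 F173248) (tt N21447 F173249) (tt N22757 (iv F179192)) (tt N19932 F173250) (tt N19930 (iv D37374)) (tt N22759 D38686) (tt N22596 (iv F178638)) (tt N22760 D38687))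
theorem Q21449 : ∀ i, i < 21449 → P i := stepQ 21448 Q21448 (allL N21448 (tt N20410 F173251) (tt N21977 (iv F175264)) (tt N19940 F173252) (tt N21448 F173253) (tt N22758 (iv F179195)) (tt N19931 F173254) (tt N22760 (iv F179207)) (tt N21448 F173255) (tt N20420 F173256) (tt N19930 (iv D37375)))
theorem Q21450 : ∀ i, i < 21450 → P i := stepQ 21449 Q21449 (allL N21449 (tt N21980 (iv F175282)) (tt N22071 (iv F175869)) (tt N19941 F173257) (tt N21449 F173258) (tt N22736 (iv F179142)) (tt N22759 (iv F179201)) (tt N19934 F173259) (tt N19932 (iv D37376)) (tt N20389 F173260) (tt N22761 D38688))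
theorem Q21451 : ∀ i, i < 21451 → P i := stepQ 21450 Q21450 (allL N21450 (tt N20411 F173261) (tt N22388 (iv F177729)) (tt N19942 F173262) (tt N21450 F173263) (tt N22737 (iv F179147)) (tt N22760 (iv F179206)) (tt N19933 F173264) (tt N22761 (iv F179213)) (tt N22337 (iv F177454)) (tt N19932 (iv D37377)))
theorem Q21452 : ∀ i, i < 21452 → P i := stepQ 21451 Q21451 (allL N21451 (tt N20412 F173265) (tt N22072 (iv F175875)) (tt N19943 F173266) (tt N21451 F173267) (tt N22738 (iv F179151)) (tt N21451 F173268) (tt N22761 (iv F179212)) (tt N19935 F173269) (tt N22338 (iv F177461)) (tt N19934 (iv D37378)))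
theorem Q21453 : ∀ i, i < 21453 → P i := stepQ 21452 Q21452 (allL N21452 (tt N21981 (iv F175289)) (tt N22755 (iv F179184)) (tt N22762 D38689) (tt N19936 (iv D37379)) (tt N19985 F173270) (tt N22756 (iv F179189)) (tt N22739 (iv F179154)) (tt N21452 F173271) (tt N22600 (iv F178659)) (tt N22653 F178892))
theorem Q21454 : ∀ i, i < 21454 → P i := stepQ 21453 Q21453 (allL N21453 (tt N20413 F173272) (tt N22592 (iv F178611)) (tt N19945 F173273) (tt N22653 (iv F178889)) (tt N19937 F173274) (tt N22758 (iv F179196)) (tt N22740 (iv F179158)) (tt N21453 F173275) (tt N21904 (iv F174815)) (tt N19936 (iv D37380)))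
theorem Q21455 : ∀ i, i < 21455 → P i := stepQ 21454 Q21454 (allL N21454 (tt N21984 (iv F175307)) (tt N22600 (iv F178655)) (tt N22763 D38690) (tt N19938 (iv D37381)) (tt N19951 F173276) (tt N19944 F173277) (tt N22764 D38691) (tt N21454 F173278) (tt N22755 (iv F179187)) (tt N22765 D38692))
theorem Q21456 : ∀ i, i < 21456 → P i := stepQ 21455 Q21455 (allL N21455 (tt N21985 (iv F175312)) (tt N22509 (iv F178249)) (tt N22757 (iv F179191)) (tt N22764 (iv F179221)) (tt N19939 F173279) (tt N22745 (iv F179165)) (tt N19938 (iv D37382)) (tt N22766 D38693) (tt N22725 (iv F179118)) (tt N22767 D38694))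
theorem Q21457 : ∀ i, i < 21457 → P i := stepQ 21456 Q21456 (allL N21456 (tt N21986 (iv F175314)) (tt N22601 (iv F178661)) (tt N22758 (iv F179194)) (tt N22765 (iv F179223)) (tt N19940 F173280) (tt N19945 F173281) (tt N22767 (iv F179230)) (tt N21456 F173282) (tt N22659 (iv F178916)) (tt N19938 (iv D37383)))
theorem Q21458 : ∀ i, i < 21458 → P i := stepQ 21457 Q21457 (allL N21457 (tt N21987 (iv F175321)) (tt N22449 (iv F177989)) (tt N22759 (iv F179199)) (tt N19954 F173283) (tt N22766 (iv F179227)) (tt N19941 F173284) (tt N21457 F173285) (tt N19939 (iv D37384)) (tt N22707 (iv F179077)) (tt N22768 D38695))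
theorem Q21459 : ∀ i, i < 21459 → P i := stepQ 21458 Q21458 (allL N21458 (tt N21988 (iv F175325)) (tt N22510 (iv F178254)) (tt N22760 (iv F179204)) (tt N19955 F173286) (tt N22767 (iv F179229)) (tt N19942 F173287) (tt N19940 F173288) (tt N22768 (iv F179234)) (tt N22658 (iv F178910)) (tt N19939 (iv D37385)))
theorem Q21460 : ∀ i, i < 21460 → P i := stepQ 21459 Q21459 (allL N21459 (tt N21989 (iv F175332)) (tt N22450 (iv F177996)) (tt N22761 (iv F179210)) (tt N19956 F173289) (tt N22750 (iv F179171)) (tt N22768 (iv F179232)) (tt N19943 F173290) (tt N19942 F173291) (tt N22466 (iv F178070)) (tt N19941 (iv D37386)))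
theorem Q21461 : ∀ i, i < 21461 → P i := stepQ 21460 Q21460 (allL N21460 (tt N21990 (iv F175339)) (tt N22769 D38696) (tt N19944 (iv D37387)) (tt N22762 (iv F179214)) (tt N19947 F173292) (tt N22763 (iv F179219)) (tt N22751 (iv F179175)) (tt N21460 F173293) (tt N22591 (iv F178609)) (tt N22585 F178581))
theorem Q21462 : ∀ i, i < 21462 → P i := stepQ 21461 Q21461 (allL N21461 (tt N21991 (iv F175345)) (tt N22681 (iv F178973)) (tt N22585 (iv F178577)) (tt N19945 F173294) (tt N19948 F173295) (tt N22765 (iv F179225)) (tt N22752 (iv F179178)) (tt N21461 F173296) (tt N22296 (iv F177184)) (tt N19944 (iv D37388)))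
theorem Q21463 : ∀ i, i < 21463 → P i := stepQ 21462 Q21462 (allL N21462 (tt N21917 (iv F174890)) (tt N21986 (iv F175315)) (tt N21904 (iv F174811)) (tt N22296 (iv F177181)) (tt N19946 F173297) (tt N21921 (iv F174921)) (tt N22753 (iv F179180)) (tt N21462 F173298) (tt N19945 (iv D37389)) (tt N21918 (iv F174903)))
theorem Q21464 : ∀ i, i < 21464 → P i := stepQ 21463 Q21463 (allL N21463 (tt N22246 (iv F176876)) (tt N19947 (iv D37390)) (tt N22618 (iv F178761)) (tt N19987 F173299) (tt N22769 (iv F179235)) (tt N19960 F173300) (tt N22754 (iv F179182)) (tt N21463 F173301) (tt N22589 (iv F178601)) (tt N20189 F173302))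
theorem Q21465 : ∀ i, i < 21465 → P i := stepQ 21464 Q21464 (allL N21464 (tt N21992 (iv F175352)) (tt N19985 F173303) (tt N22770 D38697) (tt N19949 (iv D37391)) (tt N22755 (iv F179185)) (tt N21464 F173304) (tt N22771 D38698) (tt N21464 F173305) (tt N19951 F173306) (tt N22593 (iv F178621)))
theorem Q21466 : ∀ i, i < 21466 → P i := stepQ 21465 Q21465 (allL N21465 (tt N21993 (iv F175358)) (tt N19979 F173307) (tt N21465 F173308) (tt N22771 (iv F179243)) (tt N19950 F173309) (tt N22700 (iv F179041)) (tt N19949 (iv D37392)) (tt N22772 D38699) (tt N19952 F173310) (tt N22329 (iv F177421)))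
theorem Q21467 : ∀ i, i < 21467 → P i := stepQ 21466 Q21466 (allL N21466 (tt N21994 (iv F175364)) (tt N19969 F173311) (tt N21466 F173312) (tt N22707 (iv F179074)) (tt N22772 (iv F179247)) (tt N19966 F173313) (tt N21466 F173314) (tt N19950 (iv D37393)) (tt N19954 F173315) (tt N20072 F173316))
theorem Q21468 : ∀ i, i < 21468 → P i := stepQ 21467 Q21467 (allL N21467 (tt N21995 (iv F175371)) (tt N22615 (iv F178744)) (tt N19951 (iv D37394)) (tt N21467 F173317) (tt N22763 (iv F179218)) (tt N19957 F173318) (tt N22773 D38700) (tt N21467 F173319) (tt N22770 (iv F179241)) (tt N22613 (iv F178737)))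
theorem Q21469 : ∀ i, i < 21469 → P i := stepQ 21468 Q21468 (allL N21468 (tt N21996 (iv F175377)) (tt N22569 (iv F178497)) (tt N22773 (iv F179252)) (tt N19952 F173320) (tt N22764 (iv F179222)) (tt N22286 (iv F177132)) (tt N19951 (iv D37395)) (tt N22774 D38701) (tt N22771 (iv F179244)) (tt N22775 D38702))
theorem Q21470 : ∀ i, i < 21470 → P i := stepQ 21469 Q21469 (allL N21469 (tt N21997 (iv F175381)) (tt N22582 (iv F178557)) (tt N22613 (iv F178733)) (tt N19953 F173321) (tt N22765 (iv F179224)) (tt N19958 F173322) (tt N22775 (iv F179257)) (tt N21469 F173323) (tt N22580 (iv F178549)) (tt N19951 (iv D37396)))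
theorem Q21471 : ∀ i, i < 21471 → P i := stepQ 21470 Q21470 (allL N21470 (tt N21998 (iv F175388)) (tt N22284 (iv F177115)) (tt N21470 F173324) (tt N22774 (iv F179254)) (tt N19954 F173325) (tt N22268 F177016) (tt N21470 F173326) (tt N19952 (iv D37397)) (tt N22772 (iv F179250)) (tt N22280 (iv F177092)))
theorem Q21472 : ∀ i, i < 21472 → P i := stepQ 21471 Q21471 (allL N21471 (tt N21999 (iv F175394)) (tt N22267 (iv F177002)) (tt N21471 F173327) (tt N22775 (iv F179256)) (tt N19955 F173328) (tt N22264 F176986) (tt N19953 F173329) (tt N22280 (iv F177091)) (tt N22563 (iv F178465)) (tt N19952 (iv D37398)))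
theorem Q21473 : ∀ i, i < 21473 → P i := stepQ 21472 Q21472 (allL N21472 (tt N22000 (iv F175401)) (tt N22283 (iv F177107)) (tt N21472 F173330) (tt N22768 (iv F179231)) (tt N22280 (iv F177089)) (tt N19956 F173331) (tt N21472 F173332) (tt N19955 F173333) (tt N22375 (iv F177679)) (tt N19954 (iv D37399)))
theorem Q21474 : ∀ i, i < 21474 → P i := stepQ 21473 Q21473 (allL N21473 (tt N22028 (iv F175599)) (tt N22251 (iv F176907)) (tt N19964 F173334) (tt N21473 F173335) (tt N22702 (iv F179050)) (tt N21473 F173336) (tt N22776 D38703) (tt N19963 (iv D37400)) (tt N20300 F173337) (tt N20175 F173338))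
theorem Q21475 : ∀ i, i < 21475 → P i := stepQ 21474 Q21474 (allL N21474 (tt N22036 (iv F175653)) (tt N19967 F173339) (tt N22776 (iv F179258)) (tt N19965 F173340) (tt N22703 (iv F179055)) (tt N22777 D38704) (tt N19964 (iv D37401)) (tt N19973 F173341) (tt N20308 F173342) (tt N20289 F173343))
theorem Q21476 : ∀ i, i < 21476 → P i := stepQ 21475 Q21475 (allL N21475 (tt N22038 (iv F175667)) (tt N19968 F173344) (tt N21475 F173345) (tt N22777 (iv F179264)) (tt N20197 F173346) (tt N19965 (iv D37402)) (tt N21475 F173347) (tt N19974 F173348) (tt N22778 D38705) (tt N20290 F173349))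
theorem Q21477 : ∀ i, i < 21477 → P i := stepQ 21476 Q21476 (allL N21476 (tt N22001 (iv F175408)) (tt N22777 (iv F179263)) (tt N22494 (iv F178179)) (tt N19968 F173350) (tt N22779 D38706) (tt N19967 (iv D37403)) (tt N21476 F173351) (tt N19975 F173352) (tt N22780 D38707) (tt N22157 (iv F176423)))
theorem Q21478 : ∀ i, i < 21478 → P i := stepQ 21477 Q21477 (allL N21477 (tt N22002 (iv F175415)) (tt N22778 (iv F179268)) (tt N19970 F173353) (tt N22780 (iv F179276)) (tt N22295 (iv F177174)) (tt N22166 (iv F176469)) (tt N21477 F173354) (tt N19977 F173355) (tt N19968 (iv D37404)) (tt N22198 (iv F176646)))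
theorem Q21479 : ∀ i, i < 21479 → P i := stepQ 21478 Q21478 (allL N21478 (tt N22003 (iv F175423)) (tt N22772 (iv F179245)) (tt N19971 F173356) (tt N22781 D38708) (tt N19969 (iv D37405)) (tt N22165 (iv F176461)) (tt N21478 F173357) (tt N19979 F173358) (tt N22284 (iv F177121)) (tt N22152 (iv F176391)))
theorem Q21480 : ∀ i, i < 21480 → P i := stepQ 21479 Q21479 (allL N21479 (tt N22045 (iv F175708)) (tt N22647 (iv F178861)) (tt N19973 F173359) (tt N21479 F173360) (tt N22721 (iv F179107)) (tt N22782 D38709) (tt N19972 (iv D37406)) (tt N22776 (iv F179260)) (tt N22691 (iv F179014)) (tt N20174 F173361))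
theorem Q21481 : ∀ i, i < 21481 → P i := stepQ 21480 Q21480 (allL N21480 (tt N22052 (iv F175741)) (tt N19975 F173362) (tt N22782 (iv F179281)) (tt N19974 F173363) (tt N22783 D38710) (tt N19973 (iv D37407)) (tt N19989 F173364) (tt N22777 (iv F179266)) (tt N22784 D38711) (tt N22019 (iv F175542)))
theorem Q21482 : ∀ i, i < 21482 → P i := stepQ 21481 Q21481 (allL N21481 (tt N22054 (iv F175752)) (tt N19977 F173365) (tt N21481 F173366) (tt N22784 (iv F179289)) (tt N20196 F173367) (tt N22701 (iv F179046)) (tt N19990 F173368) (tt N22778 (iv F179273)) (tt N19974 (iv D37408)) (tt N22439 (iv F177937)))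
theorem Q21483 : ∀ i, i < 21483 → P i := stepQ 21482 Q21482 (allL N21482 (tt N22004 (iv F175431)) (tt N22783 (iv F179285)) (tt N22649 (iv F178869)) (tt N22566 (iv F178478)) (tt N19975 (iv D37409)) (tt N22726 (iv F179119)) (tt N19991 F173369) (tt N22779 (iv F179275)) (tt N22785 D38712) (tt N22565 (iv F178475)))
theorem Q21484 : ∀ i, i < 21484 → P i := stepQ 21483 Q21483 (allL N21483 (tt N22005 (iv F175436)) (tt N22784 (iv F179288)) (tt N22650 (iv F178872)) (tt N19977 F173370) (tt N22785 (iv F179291)) (tt N22786 D38713) (tt N19992 F173371) (tt N22780 (iv F179278)) (tt N19975 (iv D37410)) (tt N22787 D38714))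
theorem Q21485 : ∀ i, i < 21485 → P i := stepQ 21484 Q21484 (allL N21484 (tt N22006 (iv F175441)) (tt N22698 (iv F179031)) (tt N22144 (iv F176328)) (tt N19978 F173372) (tt N22788 D38715) (tt N19976 (iv D37411)) (tt N21484 F173373) (tt N22163 (iv F176452)) (tt N22786 (iv F179295)) (tt N22086 (iv F175973)))
theorem Q21486 : ∀ i, i < 21486 → P i := stepQ 21485 Q21485 (allL N21485 (tt N22007 (iv F175448)) (tt N22701 (iv F179044)) (tt N19981 F173374) (tt N22786 (iv F179293)) (tt N22277 (iv F177071)) (tt N19977 (iv D37412)) (tt N21485 F173375) (tt N22166 (iv F176471)) (tt N19978 F173376) (tt N22145 (iv F176338)))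
theorem Q21487 : ∀ i, i < 21487 → P i := stepQ 21486 Q21486 (allL N21486 (tt N22008 (iv F175456)) (tt N22439 (iv F177933)) (tt N19982 F173377) (tt N22787 (iv F179297)) (tt N19984 F173378) (tt N22145 (iv F176335)) (tt N19986 F173379) (tt N22198 (iv F176645)) (tt N22108 (iv F176125)) (tt N19977 (iv D37413)))
theorem Q21488 : ∀ i, i < 21488 → P i := stepQ 21487 Q21487 (allL N21487 (tt N22009 (iv F175464)) (tt N22700 (iv F179038)) (tt N19983 F173380) (tt N22789 D38716) (tt N19978 (iv D37414)) (tt N19979 F173381) (tt N21487 F173382) (tt N22165 (iv F176463)) (tt N22277 (iv F177075)) (tt N22087 (iv F175981)))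
theorem Q21489 : ∀ i, i < 21489 → P i := stepQ 21488 Q21488 (allL N21488 (tt N22010 (iv F175472)) (tt N22771 (iv F179242)) (tt N22787 (iv F179296)) (tt N19979 (iv D37415)) (tt N22739 (iv F179153)) (tt N22789 (iv F179300)) (tt N19985 F173383) (tt N22781 (iv F179280)) (tt N22569 (iv F178500)) (tt N22650 F178875))
theorem Q21490 : ∀ i, i < 21490 → P i := stepQ 21489 Q21489 (allL N21489 (tt N22260 (iv F176951)) (tt N19984 (iv D37416)) (tt N21489 F173384) (tt N22754 (iv F179181)) (tt N22439 (iv F177935)) (tt N22272 F177042) (tt N19987 F173385) (tt N22290 (iv F177150)) (tt N22438 (iv F177931)) (tt N20196 F173386))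
theorem Q21491 : ∀ i, i < 21491 → P i := stepQ 21490 Q21490 (allL N21490 (tt N22011 (iv F175477)) (tt N22622 (iv F178776)) (tt N19985 (iv D37417)) (tt N19986 F173387) (tt N22762 (iv F179215)) (tt N21490 F173388) (tt N22787 (iv F179298)) (tt N21490 F173389) (tt N22584 (iv F178574)) (tt N19992 F173390))
theorem Q21492 : ∀ i, i < 21492 → P i := stepQ 21491 Q21491 (allL N21491 (tt N22056 (iv F175764)) (tt N22651 (iv F178877)) (tt N19989 F173391) (tt N21491 F173392) (tt N22790 D38717) (tt N19988 (iv D37418)) (tt N22782 (iv F179283)) (tt N21491 F173393) (tt N22791 D38718) (tt N20173 F173394))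
theorem Q21493 : ∀ i, i < 21493 → P i := stepQ 21492 Q21492 (allL N21492 (tt N22061 (iv F175799)) (tt N19991 F173395) (tt N22790 (iv F179302)) (tt N20190 F173396) (tt N19989 (iv D37419)) (tt N20193 F173397) (tt N22783 (iv F179287)) (tt N21492 F173398) (tt N22792 D38719) (tt N22020 (iv F175550)))
theorem Q21494 : ∀ i, i < 21494 → P i := stepQ 21493 Q21493 (allL N21493 (tt N22062 (iv F175805)) (tt N19992 F173399) (tt N22791 (iv F179306)) (tt N19990 F173400) (tt N22792 (iv F179312)) (tt N21493 F173401) (tt N22784 (iv F179290)) (tt N21493 F173402) (tt N19989 (iv D37420)) (tt N22622 (iv F178780)))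
theorem Q21495 : ∀ i, i < 21495 → P i := stepQ 21494 Q21494 (allL N21494 (tt N22012 (iv F175484)) (tt N22792 (iv F179310)) (tt N22653 (iv F178888)) (tt N22585 (iv F178578)) (tt N19992 F173403) (tt N22793 D38720) (tt N22785 (iv F179292)) (tt N21494 F173404) (tt N19991 (iv D37421)) (tt N22762 (iv F179217)))
theorem Q21496 : ∀ i, i < 21496 → P i := stepQ 21495 Q21495 (allL N21495 (tt N22355 (iv F177554)) (tt N19995 F173405) (tt N22013 (iv F175492)) (tt N21972 (iv F175234)) (tt N19994 F173406) (tt N22302 F177225) (tt N22794 D38721) (tt N19993 (iv D37422)) (tt N22482 (iv F178132)) (tt N21884 (iv F174669)))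
theorem Q21497 : ∀ i, i < 21497 → P i := stepQ 21496 Q21496 (allL N21496 (tt N22610 (iv F178710)) (tt N19996 F173407) (tt N22014 (iv F175500)) (tt N20443 F173408) (tt N22794 (iv F179318)) (tt N22093 (iv F176021)) (tt N19994 (iv D37423)) (tt N21887 (iv F174692)) (tt N22562 (iv F178458)) (tt N21886 F174685))
theorem Q21498 : ∀ i, i < 21498 → P i := stepQ 21497 Q21497 (allL N21497 (tt N20045 F173409) (tt N22794 (iv F179317)) (tt N19997 F173410) (tt N22486 (iv F178149)) (tt N19996 F173411) (tt N22795 D38722) (tt N19995 (iv D37424)) (tt N22153 (iv F176395)) (tt N22484 (iv F178141)) (tt N22082 (iv F175945)))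
theorem Q21499 : ∀ i, i < 21499 → P i := stepQ 21498 Q21498 (allL N21498 (tt N20048 F173412) (tt N22017 (iv F175521)) (tt N22795 (iv F179320)) (tt N20259 F173413) (tt N22100 (iv F176066)) (tt N19997 (iv D37425)) (tt N22341 (iv F177479)) (tt N22155 (iv F176408)) (tt N22796 D38723) (tt N22083 (iv F175952)))
theorem Q21500 : ∀ i, i < 21500 → P i := stepQ 21499 Q21499 (allL N21499 (tt N22505 (iv F178225)) (tt N20002 F173414) (tt N20076 F173415) (tt N20359 F173416) (tt N20001 F173417) (tt N22146 (iv F176344)) (tt N22797 D38724) (tt N20000 (iv D37426)) (tt N20377 F173418) (tt N20105 F173419))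
theorem Q21501 : ∀ i, i < 21501 → P i := stepQ 21500 Q21500 (allL N21500 (tt N22568 (iv F178488)) (tt N20003 F173420) (tt N20078 F173421) (tt N20224 F173422) (tt N22797 (iv F179326)) (tt N20123 F173423) (tt N20001 (iv D37427)) (tt N20042 F173424) (tt N20405 F173425) (tt N20106 F173426))
theorem Q21502 : ∀ i, i < 21502 → P i := stepQ 21501 Q21501 (allL N21501 (tt N22153 (iv F176392)) (tt N22797 (iv F179323)) (tt N20005 F173427) (tt N21908 (iv F174838)) (tt N20003 F173428) (tt N22798 D38725) (tt N20002 (iv D37428)) (tt N20045 F173429) (tt N21906 (iv F174828)) (tt N20108 F173430))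
theorem Q21503 : ∀ i, i < 21503 → P i := stepQ 21502 Q21502 (allL N21502 (tt N22154 (iv F176397)) (tt N20405 F173431) (tt N20007 F173432) (tt N20226 F173433) (tt N21906 (iv F174826)) (tt N22799 D38726) (tt N20004 F173434) (tt N20047 F173435) (tt N20003 (iv D37429)) (tt N20354 F173436))
theorem Q21504 : ∀ i, i < 21504 → P i := stepQ 21503 Q21503 (allL N21503 (tt N22155 (iv F176403)) (tt N20088 F173437) (tt N22798 (iv F179330)) (tt N20261 F173438) (tt N20131 F173439) (tt N20005 (iv D37430)) (tt N22149 (iv F176365)) (tt N20048 F173440) (tt N22800 D38727) (tt N20111 F173441))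
theorem Q21505 : ∀ i, i < 21505 → P i := stepQ 21504 Q21504 (allL N21504 (tt N22156 (iv F176410)) (tt N20089 F173442) (tt N21906 (iv F174824)) (tt N20262 F173443) (tt N20007 F173444) (tt N22801 D38728) (tt N20006 F173445) (tt N20049 F173446) (tt N20005 (iv D37431)) (tt N21941 (iv F175060)))
theorem Q21506 : ∀ i, i < 21506 → P i := stepQ 21505 Q21505 (allL N21505 (tt N22157 (iv F176417)) (tt N20094 F173447) (tt N22799 (iv F179335)) (tt N20008 F173448) (tt N22802 D38729) (tt N20007 (iv D37432)) (tt N21505 F173449) (tt N20050 F173450) (tt N20137 F173451) (tt N22001 (iv F175414)))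
theorem Q21507 : ∀ i, i < 21507 → P i := stepQ 21506 Q21506 (allL N21506 (tt N22177 (iv F176530)) (tt N20012 F173452) (tt N20105 F173453) (tt N20127 F173454) (tt N20010 F173455) (tt N22298 (iv F177197)) (tt N22803 D38730) (tt N20009 (iv D37433)) (tt N20125 F173456) (tt N20076 F173457))
theorem Q21508 : ∀ i, i < 21508 → P i := stepQ 21507 Q21507 (allL N21507 (tt N22282 (iv F177099)) (tt N20014 F173458) (tt N20106 F173459) (tt N20205 F173460) (tt N22803 (iv F179356)) (tt N20042 F173461) (tt N20010 (iv D37434)) (tt N20123 F173462) (tt N20233 F173463) (tt N20078 F173464))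
theorem Q21509 : ∀ i, i < 21509 → P i := stepQ 21508 Q21508 (allL N21508 (tt N22095 (iv F176031)) (tt N20127 F173465) (tt N20314 F173466) (tt N20012 F173467) (tt N20124 F173468) (tt N22300 (iv F177213)) (tt N22804 D38731) (tt N20011 (iv D37435)) (tt N20122 F173469) (tt N20080 F173470))
theorem Q21510 : ∀ i, i < 21510 → P i := stepQ 21509 Q21509 (allL N21509 (tt N22096 (iv F176038)) (tt N22803 (iv F179353)) (tt N20016 F173471) (tt N22804 (iv F179362)) (tt N20014 F173472) (tt N22805 D38732) (tt N20012 (iv D37436)) (tt N20126 F173473) (tt N22806 D38733) (tt N20082 F173474))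
theorem Q21511 : ∀ i, i < 21511 → P i := stepQ 21510 Q21510 (allL N21510 (tt N22097 (iv F176043)) (tt N20125 F173475) (tt N20017 F173476) (tt N20122 F173477) (tt N20015 F173478) (tt N22482 (iv F178131)) (tt N22806 (iv F179375)) (tt N20013 F173479) (tt N20012 (iv D37437)) (tt N20146 (iv F173480)))
theorem Q21512 : ∀ i, i < 21512 → P i := stepQ 21511 Q21511 (allL N21511 (tt N22099 (iv F176057)) (tt N20233 F173481) (tt N20020 F173482) (tt N20207 F173483) (tt N22806 (iv F179374)) (tt N22807 D38734) (tt N20015 F173484) (tt N20129 F173485) (tt N20014 (iv D37438)) (tt N20243 (iv F173486)))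
theorem Q21513 : ∀ i, i < 21513 → P i := stepQ 21512 Q21512 (allL N21512 (tt N22100 (iv F176063)) (tt N20111 F173487) (tt N22805 (iv F179367)) (tt N20320 F173488) (tt N20048 F173489) (tt N20016 (iv D37439)) (tt N22304 (iv F177239)) (tt N20131 F173490) (tt N22808 D38735) (tt N20088 F173491))
theorem Q21514 : ∀ i, i < 21514 → P i := stepQ 21513 Q21513 (allL N21513 (tt N22101 (iv F176070)) (tt N20112 F173492) (tt N22806 (iv F179372)) (tt N20321 F173493) (tt N20020 F173494) (tt N22809 D38736) (tt N20017 F173495) (tt N20132 F173496) (tt N20016 (iv D37440)) (tt N22810 D38737))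
theorem Q21515 : ∀ i, i < 21515 → P i := stepQ 21514 Q21514 (allL N21514 (tt N22102 (iv F176076)) (tt N20113 F173497) (tt N22482 (iv F178128)) (tt N20322 F173498) (tt N20053 F173499) (tt N20017 (iv D37441)) (tt N22811 D38738) (tt N20018 F173500) (tt N22013 (iv F175496)) (tt N22636 (iv F178835)))
theorem Q21516 : ∀ i, i < 21516 → P i := stepQ 21515 Q21515 (allL N21515 (tt N22103 (iv F176082)) (tt N20114 F173501) (tt N20146 F173502) (tt N20323 F173503) (tt N20021 F173504) (tt N22636 (iv F178834)) (tt N22810 (iv F179396)) (tt N20019 F173505) (tt N20091 F173506) (tt N20017 (iv D37442)))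
theorem Q21517 : ∀ i, i < 21517 → P i := stepQ 21516 Q21516 (allL N21516 (tt N22104 (iv F176089)) (tt N20115 F173507) (tt N21885 (iv F174672)) (tt N20324 F173508) (tt N20054 F173509) (tt N20135 F173510) (tt N20018 (iv D37443)) (tt N22812 D38739) (tt N20281 F173511) (tt N22226 (iv F176795)))
theorem Q21518 : ∀ i, i < 21518 → P i := stepQ 21517 Q21517 (allL N21517 (tt N22106 (iv F176105)) (tt N20116 F173512) (tt N22807 (iv F179379)) (tt N20022 F173513) (tt N22813 D38740) (tt N20020 (iv D37444)) (tt N20055 F173514) (tt N20137 F173515) (tt N20050 F173516) (tt N22814 D38741))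
theorem Q21519 : ∀ i, i < 21519 → P i := stepQ 21518 Q21518 (allL N21518 (tt N22107 (iv F176111)) (tt N20117 F173517) (tt N20243 F173518) (tt N20023 F173519) (tt N22810 (iv F179395)) (tt N22814 (iv F179415)) (tt N20021 F173520) (tt N20138 F173521) (tt N20095 F173522) (tt N20020 (iv D37445)))
theorem Q21520 : ∀ i, i < 21520 → P i := stepQ 21519 Q21519 (allL N21519 (tt N22108 (iv F176118)) (tt N20119 F173523) (tt N20210 F173524) (tt N22814 (iv F179414)) (tt N20401 F173525) (tt N20023 F173526) (tt N20057 F173527) (tt N20140 F173528) (tt N22008 (iv F175463)) (tt N20022 (iv D37446)))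
theorem Q21521 : ∀ i, i < 21521 → P i := stepQ 21520 Q21520 (allL N21520 (tt N22444 (iv F177957)) (tt N20028 F173529) (tt N20122 F173530) (tt N20316 F173531) (tt N20026 F173532) (tt N22365 (iv F177607)) (tt N22815 D38742) (tt N20025 (iv D37447)) (tt N20314 F173533) (tt N20040 F173534))
theorem Q21522 : ∀ i, i < 21522 → P i := stepQ 21521 Q21521 (allL N21521 (tt N22553 (iv F178400)) (tt N20030 F173535) (tt N20123 F173536) (tt N20198 F173537) (tt N22815 (iv F179421)) (tt N20078 F173538) (tt N20026 (iv D37448)) (tt N20106 F173539) (tt N20390 F173540) (tt N20042 F173541))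
theorem Q21523 : ∀ i, i < 21523 → P i := stepQ 21522 Q21522 (allL N21522 (tt N21914 (iv F174871)) (tt N20316 F173542) (tt N20269 F173543) (tt N20028 F173544) (tt N20199 F173545) (tt N22367 (iv F177622)) (tt N22816 D38743) (tt N20027 (iv D37449)) (tt N20312 F173546) (tt N20044 F173547))
theorem Q21524 : ∀ i, i < 21524 → P i := stepQ 21523 Q21523 (allL N21523 (tt N22082 (iv F175941)) (tt N22815 (iv F179418)) (tt N20032 F173548) (tt N22816 (iv F179427)) (tt N20030 F173549) (tt N22817 D38744) (tt N20028 (iv D37450)) (tt N20108 F173550) (tt N22818 D38745) (tt N20045 F173551))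
theorem Q21525 : ∀ i, i < 21525 → P i := stepQ 21524 Q21524 (allL N21524 (tt N22050 (iv F175731)) (tt N20314 F173552) (tt N20033 F173553) (tt N20312 F173554) (tt N20031 F173555) (tt N22819 D38746) (tt N22818 (iv F179440)) (tt N20029 F173556) (tt N20028 (iv D37451)) (tt N20330 F173557))
theorem Q21526 : ∀ i, i < 21526 → P i := stepQ 21525 Q21525 (allL N21525 (tt N22033 (iv F175631)) (tt N20283 F173558) (tt N20034 F173559) (tt N20281 F173560) (tt N21525 F173561) (tt N20029 (iv D37452)) (tt N20288 F173562) (tt N22819 (iv F179447)) (tt N20324 F173563) (tt N20291 F173564))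
theorem Q21527 : ∀ i, i < 21527 → P i := stepQ 21526 Q21526 (allL N21526 (tt N22059 (iv F175785)) (tt N20390 F173565) (tt N20035 F173566) (tt N20201 F173567) (tt N22818 (iv F179439)) (tt N22820 D38747) (tt N20031 F173568) (tt N20110 F173569) (tt N20030 (iv D37453)) (tt N20345 F173570))
theorem Q21528 : ∀ i, i < 21528 → P i := stepQ 21527 Q21527 (allL N21527 (tt N22083 (iv F175946)) (tt N20131 F173571) (tt N22817 (iv F179432)) (tt N20271 F173572) (tt N20088 F173573) (tt N20032 (iv D37454)) (tt N22369 (iv F177635)) (tt N20111 F173574) (tt N22821 D38748) (tt N20048 F173575))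
theorem Q21529 : ∀ i, i < 21529 → P i := stepQ 21528 Q21528 (allL N21528 (tt N22084 (iv F175953)) (tt N20132 F173576) (tt N22818 (iv F179437)) (tt N20272 F173577) (tt N20035 F173578) (tt N22822 D38749) (tt N20033 F173579) (tt N20112 F173580) (tt N20032 (iv D37455)) (tt N21957 (iv F175166)))
theorem Q21530 : ∀ i, i < 21530 → P i := stepQ 21529 Q21529 (allL N21529 (tt N22085 (iv F175960)) (tt N20133 F173581) (tt N22819 (iv F179444)) (tt N20273 F173582) (tt N21529 F173583) (tt N20033 (iv D37456)) (tt N22823 D38750) (tt N20034 F173584) (tt N22371 (iv F177651)) (tt N21958 (iv F175174)))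
theorem Q21531 : ∀ i, i < 21531 → P i := stepQ 21530 Q21530 (allL N21530 (tt N22025 (iv F175577)) (tt N20135 F173585) (tt N20288 F173586) (tt N20274 F173587) (tt N21530 F173588) (tt N20115 F173589) (tt N20034 (iv D37457)) (tt N22824 D38751) (tt N20317 F173590) (tt N21959 (iv F175182)))
theorem Q21532 : ∀ i, i < 21532 → P i := stepQ 21531 Q21531 (allL N21531 (tt N22086 (iv F175967)) (tt N20137 F173591) (tt N22820 (iv F179451)) (tt N20036 F173592) (tt N22825 D38752) (tt N20035 (iv D37458)) (tt N21531 F173593) (tt N20116 F173594) (tt N20094 F173595) (tt N22006 (iv F175447)))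
theorem Q21533 : ∀ i, i < 21533 → P i := stepQ 21532 Q21532 (allL N21532 (tt N22087 (iv F175974)) (tt N20139 F173596) (tt N20204 F173597) (tt N22826 D38753) (tt N20036 (iv D37459)) (tt N20276 F173598) (tt N21532 F173599) (tt N20118 F173600) (tt N20096 F173601) (tt N22009 (iv F175471)))
theorem Q21534 : ∀ i, i < 21534 → P i := stepQ 21533 Q21533 (allL N21533 (tt N20040 F173602) (tt N22355 (iv F177555)) (tt N20142 F173603) (tt N22448 (iv F177984)) (tt N20038 F173604) (tt N22349 F177532) (tt N22827 D38754) (tt N20037 (iv D37460)) (tt N22469 (iv F178084)) (tt N22444 F177963))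
theorem Q21535 : ∀ i, i < 21535 → P i := stepQ 21534 Q21534 (allL N21534 (tt N20042 F173605) (tt N22610 (iv F178711)) (tt N20144 F173606) (tt N20444 F173607) (tt N22827 (iv F179484)) (tt N22282 F177105) (tt N20038 (iv D37461)) (tt N22568 (iv F178494)) (tt N22561 (iv F178454)) (tt N22553 (iv F178407)))
theorem Q21536 : ∀ i, i < 21536 → P i := stepQ 21535 Q21535 (allL N21535 (tt N22448 (iv F177981)) (tt N20044 F173608) (tt N20323 F173609) (tt N20040 F173610) (tt N20319 F173611) (tt N22626 (iv F178800)) (tt N22828 D38755) (tt N20039 (iv D37462)) (tt N20336 F173612) (tt N20316 F173613))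
theorem Q21537 : ∀ i, i < 21537 → P i := stepQ 21536 Q21536 (allL N21536 (tt N22827 (iv F179482)) (tt N20045 F173614) (tt N20147 F173615) (tt N22828 (iv F179487)) (tt N20042 F173616) (tt N22829 D38756) (tt N20040 (iv D37463)) (tt N22797 (iv F179327)) (tt N22830 D38757) (tt N22815 (iv F179424)))
theorem Q21538 : ∀ i, i < 21538 → P i := stepQ 21537 Q21537 (allL N21537 (tt N22469 (iv F178079)) (tt N20046 F173617) (tt N20148 F173618) (tt N20336 F173619) (tt N20043 F173620) (tt N22170 (iv F176496)) (tt N22830 (iv F179498)) (tt N20041 F173621) (tt N20040 (iv D37464)) (tt N20333 F173622))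
theorem Q21539 : ∀ i, i < 21539 → P i := stepQ 21538 Q21538 (allL N21538 (tt N22561 (iv F178448)) (tt N20047 F173623) (tt N20150 F173624) (tt N20396 F173625) (tt N22830 (iv F179497)) (tt N21976 (iv F175259)) (tt N20043 F173626) (tt N20405 F173627) (tt N20042 (iv D37465)) (tt N20395 F173628))
theorem Q21540 : ∀ i, i < 21540 → P i := stepQ 21539 Q21539 (allL N21539 (tt N22486 (iv F178147)) (tt N22828 (iv F179485)) (tt N20277 F173629) (tt N20045 F173630) (tt N20347 F173631) (tt N22831 D38758) (tt N20044 (iv D37466)) (tt N21908 (iv F174841)) (tt N20346 F173632) (tt N22816 (iv F179431)))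
theorem Q21541 : ∀ i, i < 21541 → P i := stepQ 21540 Q21540 (allL N21540 (tt N22795 (iv F179319)) (tt N22829 (iv F179492)) (tt N20048 F173633) (tt N22831 (iv F179502)) (tt N22805 (iv F179368)) (tt N20045 (iv D37467)) (tt N22629 (iv F178809)) (tt N22798 (iv F179332)) (tt N22832 D38759) (tt N22817 (iv F179435)))
theorem Q21542 : ∀ i, i < 21542 → P i := stepQ 21541 Q21541 (allL N21541 (tt N22484 (iv F178137)) (tt N22830 (iv F179494)) (tt N20049 F173634) (tt N20346 F173635) (tt N20047 F173636) (tt N22833 D38760) (tt N20046 F173637) (tt N21906 (iv F174827)) (tt N20045 (iv D37468)) (tt N21877 (iv F174621)))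
theorem Q21543 : ∀ i, i < 21543 → P i := stepQ 21542 Q21542 (allL N21542 (tt N22564 (iv F178467)) (tt N21976 (iv F175256)) (tt N20050 F173638) (tt N20397 F173639) (tt N22834 D38761) (tt N20047 (iv D37469)) (tt N20059 F173640) (tt N22799 (iv F179338)) (tt N22807 (iv F179383)) (tt N21890 (iv F174713)))
theorem Q21544 : ∀ i, i < 21544 → P i := stepQ 21543 Q21543 (allL N21543 (tt N22796 (iv F179321)) (tt N20162 F173641) (tt N22832 (iv F179503)) (tt N20279 F173642) (tt N22808 (iv F179387)) (tt N22835 D38762) (tt N22631 (iv F178815)) (tt N22800 (iv F179344)) (tt N20048 (iv D37470)) (tt N22836 D38763))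
theorem Q21545 : ∀ i, i < 21545 → P i := stepQ 21544 Q21544 (allL N21544 (tt N22495 (iv F178183)) (tt N20163 F173643) (tt N22833 (iv F179504)) (tt N20280 F173644) (tt N22837 D38764) (tt N20049 (iv D37471)) (tt N22503 (iv F178218)) (tt N22801 (iv F179347)) (tt N22835 (iv F179510)) (tt N21956 (iv F175158)))
theorem Q21546 : ∀ i, i < 21546 → P i := stepQ 21545 Q21545 (allL N21545 (tt N22565 (iv F178472)) (tt N20167 F173645) (tt N22834 (iv F179506)) (tt N20402 F173646) (tt N20050 (iv D37472)) (tt N22837 (iv F179515)) (tt N20060 F173647) (tt N22802 (iv F179351)) (tt N22813 (iv F179411)) (tt N22004 (iv F175435)))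
theorem Q21547 : ∀ i, i < 21547 → P i := stepQ 21546 Q21546 (allL N21546 (tt N22582 (iv F178556)) (tt N20254 F173648) (tt N20055 F173649) (tt N20253 F173650) (tt N22838 D38765) (tt N20051 (iv D37473)) (tt N22807 (iv F179381)) (tt N21546 F173651) (tt N20059 F173652) (tt N20255 F173653))
theorem Q21548 : ∀ i, i < 21548 → P i := stepQ 21547 Q21547 (allL N21547 (tt N22608 (iv F178699)) (tt N20173 F173654) (tt N22580 (iv F178546)) (tt N21547 F173655) (tt N22839 D38766) (tt N20052 (iv D37474)) (tt N22840 D38767) (tt N21547 F173656) (tt N22613 (iv F178736)) (tt N22651 (iv F178881)))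
theorem Q21549 : ∀ i, i < 21549 → P i := stepQ 21548 Q21548 (allL N21548 (tt N22609 (iv F178706)) (tt N20174 F173657) (tt N22562 (iv F178456)) (tt N21548 F173658) (tt N22811 (iv F179401)) (tt N22840 (iv F179528)) (tt N20053 (iv D37475)) (tt N22841 D38768) (tt N22014 (iv F175504)) (tt N22647 (iv F178864)))
theorem Q21550 : ∀ i, i < 21550 → P i := stepQ 21549 Q21549 (allL N21549 (tt N22572 (iv F178508)) (tt N20175 F173659) (tt N21888 (iv F174695)) (tt N21549 F173660) (tt N22812 (iv F179404)) (tt N21549 F173661) (tt N22841 (iv F179531)) (tt N20054 (iv D37476)) (tt N20282 F173662) (tt N22251 (iv F176912)))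
theorem Q21551 : ∀ i, i < 21551 → P i := stepQ 21550 Q21550 (allL N21550 (tt N22583 (iv F178563)) (tt N20176 F173663) (tt N22838 (iv F179517)) (tt N20408 F173664) (tt N20055 (iv D37477)) (tt N22839 (iv F179523)) (tt N22813 (iv F179409)) (tt N21550 F173665) (tt N20060 F173666) (tt N22842 D38769))
theorem Q21552 : ∀ i, i < 21552 → P i := stepQ 21551 Q21551 (allL N21551 (tt N22584 (iv F178568)) (tt N20177 F173667) (tt N20255 F173668) (tt N20057 F173669) (tt N22842 (iv F179536)) (tt N20056 F173670) (tt N22814 (iv F179416)) (tt N21551 F173671) (tt N22011 (iv F175482)) (tt N20055 (iv D37478)))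
theorem Q21553 : ∀ i, i < 21553 → P i := stepQ 21552 Q21552 (allL N21552 (tt N22581 (iv F178551)) (tt N21991 (iv F175346)) (tt N20060 F173672) (tt N21921 (iv F174919)) (tt N20059 (iv D37479)) (tt N22296 (iv F177182)) (tt N22834 (iv F179507)) (tt N21552 F173673) (tt N22838 (iv F179520)) (tt N21891 (iv F174722)))
theorem Q21554 : ∀ i, i < 21554 → P i := stepQ 21553 Q21553 (allL N21553 (tt N22183 (iv F176565)) (tt N20063 F173674) (tt N20136 F173675) (tt N20061 (iv D37480)) (tt N21553 F173676) (tt N20075 F173677) (tt N22193 (iv F176620)) (tt N22843 D38770) (tt N22192 (iv F176613)) (tt N20128 F173678))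
theorem Q21555 : ∀ i, i < 21555 → P i := stepQ 21554 Q21554 (allL N21554 (tt N22532 (iv F178333)) (tt N20064 F173679) (tt N22146 (iv F176341)) (tt N22843 (iv F179540)) (tt N20062 F173680) (tt N20076 F173681) (tt N22844 D38771) (tt N20061 (iv D37481)) (tt N22518 (iv F178286)) (tt N22298 (iv F177199)))
theorem Q21556 : ∀ i, i < 21556 → P i := stepQ 21555 Q21555 (allL N21555 (tt N22551 (iv F178387)) (tt N20066 F173682) (tt N22147 (iv F176349)) (tt N21555 F173683) (tt N22844 (iv F179545)) (tt N22366 (iv F177613)) (tt N20062 (iv D37482)) (tt N22320 (iv F177355)) (tt N22607 (iv F178698)) (tt N22299 (iv F177207)))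
theorem Q21557 : ∀ i, i < 21557 → P i := stepQ 21556 Q21556 (allL N21556 (tt N22065 (iv F175826)) (tt N22843 (iv F179538)) (tt N20294 F173684) (tt N20064 F173685) (tt N21556 F173686) (tt N20080 F173687) (tt N22845 D38772) (tt N20063 (iv D37483)) (tt N22846 D38773) (tt N22300 (iv F177214)))
theorem Q21558 : ∀ i, i < 21558 → P i := stepQ 21557 Q21557 (allL N21557 (tt N22066 (iv F175833)) (tt N22192 (iv F176607)) (tt N20295 F173688) (tt N20065 F173689) (tt N21557 F173690) (tt N22205 (iv F176686)) (tt N21936 (iv F175026)) (tt N22846 (iv F179552)) (tt N20063 (iv D37484)) (tt N21935 F175019))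
theorem Q21559 : ∀ i, i < 21559 → P i := stepQ 21558 Q21558 (allL N21558 (tt N22067 (iv F175841)) (tt N22844 (iv F179544)) (tt N20068 F173691) (tt N22845 (iv F179547)) (tt N20066 F173692) (tt N22847 D38774) (tt N20064 (iv D37485)) (tt N22322 (iv F177367)) (tt N22848 D38775) (tt N22301 (iv F177219)))
theorem Q21560 : ∀ i, i < 21560 → P i := stepQ 21559 Q21559 (allL N21559 (tt N22068 (iv F175847)) (tt N22518 (iv F178282)) (tt N20069 F173693) (tt N22846 (iv F179550)) (tt N20067 F173694) (tt N22849 D38776) (tt N22848 (iv F179557)) (tt N20065 F173695) (tt N20064 (iv D37486)) (tt N22393 (iv F177751)))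
theorem Q21561 : ∀ i, i < 21561 → P i := stepQ 21560 Q21560 (allL N21560 (tt N22069 (iv F175852)) (tt N22399 (iv F177774)) (tt N20070 F173696) (tt N22205 (iv F176684)) (tt N21560 F173697) (tt N20065 (iv D37487)) (tt N22078 (iv F175920)) (tt N22849 (iv F179560)) (tt N20084 F173698) (tt N22077 F175913))
theorem Q21562 : ∀ i, i < 21562 → P i := stepQ 21561 Q21561 (allL N21561 (tt N22071 (iv F175868)) (tt N22607 (iv F178693)) (tt N20071 F173699) (tt N21561 F173700) (tt N22848 (iv F179556)) (tt N22850 D38777) (tt N20067 F173701) (tt N22324 (iv F177382)) (tt N20066 (iv D37488)) (tt N22597 (iv F178645)))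
theorem Q21563 : ∀ i, i < 21563 → P i := stepQ 21562 Q21562 (allL N21562 (tt N22073 (iv F175881)) (tt N22149 (iv F176362)) (tt N22847 (iv F179553)) (tt N20301 F173702) (tt N22369 (iv F177634)) (tt N20068 (iv D37489)) (tt N20088 F173703) (tt N22325 (iv F177389)) (tt N22851 D38778) (tt N22304 (iv F177241)))
theorem Q21564 : ∀ i, i < 21564 → P i := stepQ 21563 Q21563 (allL N21563 (tt N22074 (iv F175888)) (tt N22150 (iv F176369)) (tt N22848 (iv F179555)) (tt N20302 F173704) (tt N20071 F173705) (tt N22852 D38779) (tt N20069 F173706) (tt N22326 (iv F177396)) (tt N20068 (iv D37490)) (tt N22705 (iv F179067)))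
theorem Q21565 : ∀ i, i < 21565 → P i := stepQ 21564 Q21564 (allL N21564 (tt N22075 (iv F175894)) (tt N22040 (iv F175679)) (tt N22849 (iv F179558)) (tt N20303 F173707) (tt N21564 F173708) (tt N20069 (iv D37491)) (tt N22853 D38780) (tt N20070 F173709) (tt N20090 F173710) (tt N22706 (iv F179072)))
theorem Q21566 : ∀ i, i < 21566 → P i := stepQ 21565 Q21565 (allL N21565 (tt N22077 (iv F175906)) (tt N22022 (iv F175559)) (tt N22078 (iv F175916)) (tt N20305 F173711) (tt N21565 F173712) (tt N22070 (iv F175865)) (tt N20070 (iv D37492)) (tt N22854 D38781) (tt N20092 F173713) (tt N22069 F175859))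
theorem Q21567 : ∀ i, i < 21567 → P i := stepQ 21566 Q21566 (allL N21566 (tt N22079 (iv F175922)) (tt N22151 (iv F176377)) (tt N22850 (iv F179562)) (tt N20072 F173714) (tt N22855 D38782) (tt N20071 (iv D37493)) (tt N21566 F173715) (tt N22328 (iv F177411)) (tt N22373 (iv F177665)) (tt N22707 (iv F179078)))
theorem Q21568 : ∀ i, i < 21568 → P i := stepQ 21567 Q21567 (allL N21567 (tt N22081 (iv F175934)) (tt N22152 (iv F176385)) (tt N21567 F173716) (tt N22856 D38783) (tt N20072 (iv D37494)) (tt N20309 F173717) (tt N21567 F173718) (tt N22329 (iv F177419)) (tt N22261 (iv F176964)) (tt N22772 (iv F179251)))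
theorem Q21569 : ∀ i, i < 21569 → P i := stepQ 21568 Q21568 (allL N21568 (tt N20076 F173719) (tt N22110 (iv F176135)) (tt N22505 (iv F178227)) (tt N22181 (iv F176553)) (tt N20074 F173720) (tt N22532 (iv F178337)) (tt N22857 D38784) (tt N20073 (iv D37495)) (tt N22216 (iv F176739)) (tt N22177 F176536))
theorem Q21570 : ∀ i, i < 21570 → P i := stepQ 21569 Q21569 (allL N21569 (tt N20078 F173721) (tt N22112 (iv F176148)) (tt N22568 (iv F178490)) (tt N20211 F173722) (tt N22857 (iv F179580)) (tt N22553 F178406) (tt N20074 (iv D37496)) (tt N20144 F173723) (tt N22294 (iv F177170)) (tt N22282 F177104))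

end Cfsg.Agent.Helper17.SP6TC
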