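import Cfsg.Agent.Helper17.SP6TC.Fin5

set_option autoImplicit false
set_option linter.all false
set_option maxRecDepth 100000

noncomputable section

namespace Cfsg.Agent.Helper17.SP6TC

theorem Q21571 : ∀ i, i < 21571 → P i := stepQ 21570 Q21570 (allL N21570 (tt N22181 (iv F176551)) (tt N20080 F173724) (tt N20134 F173725) (tt N20076 F173726) (tt N20130 F173727) (tt N22843 (iv F179542)) (tt N22858 D38785) (tt N20075 (iv D37497)) (tt N20158 F173728) (tt N20127 F173729))
theorem Q21572 : ∀ i, i < 21572 → P i := stepQ 21571 Q21571 (allL N21571 (tt N22857 (iv F179579)) (tt N20082 F173730) (tt N22797 (iv F179324)) (tt N22858 (iv F179584)) (tt N20078 F173731) (tt N22859 D38786) (tt N20076 (iv D37498)) (tt N20147 F173732) (tt N22860 D38787) (tt N22803 (iv F179359)))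
theorem Q21573 : ∀ i, i < 21573 → P i := stepQ 21572 Q21572 (allL N21572 (tt N22216 (iv F176734)) (tt N20083 F173733) (tt N20377 F173734) (tt N20158 F173735) (tt N20079 F173736) (tt N22398 (iv F177771)) (tt N22860 (iv F179595)) (tt N20077 F173737) (tt N20076 (iv D37499)) (tt N20153 F173738))
theorem Q21574 : ∀ i, i < 21574 → P i := stepQ 21573 Q21573 (allL N21573 (tt N22294 (iv F177165)) (tt N20086 F173739) (tt N20405 F173740) (tt N20213 F173741) (tt N22860 (iv F179594)) (tt N22861 D38788) (tt N20079 F173742) (tt N20150 F173743) (tt N20078 (iv D37500)) (tt N20247 F173744))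
theorem Q21575 : ∀ i, i < 21575 → P i := stepQ 21574 Q21574 (allL N21574 (tt N22123 (iv F176216)) (tt N22858 (iv F179582)) (tt N20332 F173745) (tt N20082 F173746) (tt N20214 F173747) (tt N22862 D38789) (tt N20080 (iv D37501)) (tt N20152 F173748) (tt N22863 D38790) (tt N22804 (iv F179366)))
theorem Q21576 : ∀ i, i < 21576 → P i := stepQ 21575 Q21575 (allL N21575 (tt N22124 (iv F176221)) (tt N20158 F173749) (tt N20333 F173750) (tt N20083 F173751) (tt N20151 F173752) (tt N22204 (iv F176679)) (tt N22863 (iv F179612)) (tt N20081 F173753) (tt N20080 (iv D37502)) (tt N20148 F173754))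
theorem Q21577 : ∀ i, i < 21577 → P i := stepQ 21576 Q21576 (allL N21576 (tt N22126 (iv F176235)) (tt N22859 (iv F179589)) (tt N20088 F173755) (tt N22862 (iv F179606)) (tt N22817 (iv F179433)) (tt N20082 (iv D37503)) (tt N22847 (iv F179554)) (tt N20155 F173756) (tt N22864 D38791) (tt N22805 (iv F179370)))
theorem Q21578 : ∀ i, i < 21578 → P i := stepQ 21577 Q21577 (allL N21577 (tt N22127 (iv F176238)) (tt N22860 (iv F179591)) (tt N20089 F173757) (tt N22863 (iv F179610)) (tt N20086 F173758) (tt N22865 D38792) (tt N20083 F173759) (tt N20156 F173760) (tt N20082 (iv D37504)) (tt N22866 D38793))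
theorem Q21579 : ∀ i, i < 21579 → P i := stepQ 21578 Q21578 (allL N21578 (tt N22128 (iv F176243)) (tt N22398 (iv F177767)) (tt N20090 F173761) (tt N22204 (iv F176677)) (tt N21578 F173762) (tt N20083 (iv D37505)) (tt N22867 D38794) (tt N20084 F173763) (tt N22849 (iv F179561)) (tt N22868 D38795))
theorem Q21580 : ∀ i, i < 21580 → P i := stepQ 21579 Q21579 (allL N21579 (tt N22129 (iv F176247)) (tt N20153 F173764) (tt N20091 F173765) (tt N20148 F173766) (tt N20087 F173767) (tt N22868 (iv F179632)) (tt N22866 (iv F179623)) (tt N20085 F173768) (tt N20146 F173769) (tt N20083 (iv D37506)))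
theorem Q21581 : ∀ i, i < 21581 → P i := stepQ 21580 Q21580 (allL N21580 (tt N22130 (iv F176253)) (tt N22345 (iv F177503)) (tt N20092 F173770) (tt N22114 (iv F176162)) (tt N21580 F173771) (tt N20159 F173772) (tt N20084 (iv D37507)) (tt N22869 D38796) (tt N22078 F175921) (tt N22141 (iv F176318)))
theorem Q21582 : ∀ i, i < 21582 → P i := stepQ 21581 Q21581 (allL N21581 (tt N22131 (iv F176261)) (tt N20154 F173773) (tt N20093 F173774) (tt N20149 F173775) (tt N21581 F173776) (tt N20085 F173777) (tt N22141 (iv F176317)) (tt N22868 (iv F179633)) (tt N22140 (iv F176310)) (tt N20084 (iv D37508)))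
theorem Q21583 : ∀ i, i < 21583 → P i := stepQ 21582 Q21582 (allL N21582 (tt N22132 (iv F176269)) (tt N22861 (iv F179598)) (tt N20094 F173778) (tt N20217 F173779) (tt N22870 D38797) (tt N20086 (iv D37509)) (tt N21582 F173780) (tt N20160 F173781) (tt N22820 (iv F179455)) (tt N22871 D38798))
theorem Q21584 : ∀ i, i < 21584 → P i := stepQ 21583 Q21583 (allL N21583 (tt N22133 (iv F176274)) (tt N20247 F173782) (tt N20095 F173783) (tt N20218 F173784) (tt N22866 (iv F179622)) (tt N22871 (iv F179643)) (tt N20087 F173785) (tt N20161 F173786) (tt N20243 F173787) (tt N20086 (iv D37510)))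
theorem Q21585 : ∀ i, i < 21585 → P i := stepQ 21584 Q21584 (allL N21584 (tt N22134 (iv F176280)) (tt N22800 (iv F179341)) (tt N22864 (iv F179615)) (tt N20338 F173788) (tt N22821 (iv F179459)) (tt N22872 D38799) (tt N22851 (iv F179568)) (tt N20162 F173789) (tt N20088 (iv D37511)) (tt N22873 D38800))
theorem Q21586 : ∀ i, i < 21586 → P i := stepQ 21585 Q21585 (allL N21585 (tt N22135 (iv F176283)) (tt N22801 (iv F179345)) (tt N22865 (iv F179617)) (tt N20339 F173790) (tt N22874 D38801) (tt N20089 (iv D37512)) (tt N22875 D38802) (tt N20163 F173791) (tt N22872 (iv F179648)) (tt N22876 D38803))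
theorem Q21587 : ∀ i, i < 21587 → P i := stepQ 21586 Q21586 (allL N21586 (tt N22136 (iv F176286)) (tt N21941 (iv F175054)) (tt N22866 (iv F179620)) (tt N20340 F173792) (tt N20095 F173793) (tt N22876 (iv F179656)) (tt N20091 F173794) (tt N20164 F173795) (tt N22810 (iv F179398)) (tt N20089 (iv D37513)))
theorem Q21588 : ∀ i, i < 21588 → P i := stepQ 21587 Q21587 (allL N21587 (tt N22137 (iv F176291)) (tt N22039 (iv F175674)) (tt N22867 (iv F179626)) (tt N20341 F173796) (tt N21587 F173797) (tt N22875 (iv F179654)) (tt N20090 (iv D37514)) (tt N22877 D38804) (tt N22853 (iv F179572)) (tt N22878 D38805))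
theorem Q21589 : ∀ i, i < 21589 → P i := stepQ 21588 Q21588 (allL N21588 (tt N22138 (iv F176294)) (tt N21923 (iv F174933)) (tt N22868 (iv F179629)) (tt N20342 F173798) (tt N21588 F173799) (tt N20091 F173800) (tt N22878 (iv F179663)) (tt N20093 F173801) (tt N22879 D38806) (tt N20090 (iv D37515)))
theorem Q21590 : ∀ i, i < 21590 → P i := stepQ 21589 Q21589 (allL N21589 (tt N22139 (iv F176299)) (tt N22021 (iv F175552)) (tt N22869 (iv F179634)) (tt N20343 F173802) (tt N21589 F173803) (tt N20166 F173804) (tt N22877 (iv F179660)) (tt N20092 (iv D37516)) (tt N22854 (iv F179575)) (tt N22418 (iv F177858)))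
theorem Q21591 : ∀ i, i < 21591 → P i := stepQ 21590 Q21590 (allL N21590 (tt N22141 (iv F176311)) (tt N21924 (iv F174940)) (tt N22140 (iv F176305)) (tt N20344 F173805) (tt N21590 F173806) (tt N22225 (iv F176785)) (tt N22131 (iv F176267)) (tt N22879 (iv F179666)) (tt N20093 (iv D37517)) (tt N22130 F176260))
theorem Q21592 : ∀ i, i < 21592 → P i := stepQ 21591 Q21591 (allL N21591 (tt N22142 (iv F176319)) (tt N22802 (iv F179348)) (tt N22870 (iv F179637)) (tt N22880 D38807) (tt N20094 (iv D37518)) (tt N22874 (iv F179651)) (tt N21591 F173807) (tt N20167 F173808) (tt N22825 (iv F179476)) (tt N22881 D38808))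
theorem Q21593 : ∀ i, i < 21593 → P i := stepQ 21592 Q21592 (allL N21592 (tt N22143 (iv F176322)) (tt N22001 (iv F175409)) (tt N22871 (iv F179641)) (tt N20097 F173809) (tt N22881 (iv F179671)) (tt N20095 F173810) (tt N21592 F173811) (tt N20168 F173812) (tt N22882 D38809) (tt N20094 (iv D37519)))
theorem Q21594 : ∀ i, i < 21594 → P i := stepQ 21593 Q21593 (allL N21593 (tt N22144 (iv F176327)) (tt N20394 F173813) (tt N22006 (iv F175443)) (tt N20096 (iv D37520)) (tt N22880 (iv F179668)) (tt N20345 F173814) (tt N21593 F173815) (tt N20169 F173816) (tt N22826 (iv F179481)) (tt N22820 (iv F179456)))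
theorem Q21595 : ∀ i, i < 21595 → P i := stepQ 21594 Q21594 (allL N21594 (tt N22064 (iv F175818)) (tt N20391 F173817) (tt N20203 F173818) (tt N22820 (iv F179452)) (tt N20097 F173819) (tt N20201 F173820) (tt N21594 F173821) (tt N20170 F173822) (tt N20217 (iv F173823)) (tt N20096 (iv D37521)))
theorem Q21596 : ∀ i, i < 21596 → P i := stepQ 21595 Q21595 (allL N21595 (tt N22145 (iv F176332)) (tt N22002 (iv F175416)) (tt N20220 F173824) (tt N22882 (iv F179674)) (tt N20217 F173825) (tt N22008 (iv F175460)) (tt N21595 F173826) (tt N20171 F173827) (tt N20097 (iv D37522)) (tt N22007 F175455))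
theorem Q21597 : ∀ i, i < 21597 → P i := stepQ 21596 Q21596 (allL N21596 (tt N22148 (iv F176355)) (tt N21881 (iv F174642)) (tt N20100 F173828) (tt N21912 (iv F174861)) (tt N20099 F173829) (tt N22883 D38810) (tt N20098 (iv D37523)) (tt N20270 F173830) (tt N21949 (iv F175114)) (tt N20260 F173831))
theorem Q21598 : ∀ i, i < 21598 → P i := stepQ 21597 Q21597 (allL N21597 (tt N22149 (iv F176361)) (tt N20320 F173832) (tt N22883 (iv F179677)) (tt N20111 F173833) (tt N20348 F173834) (tt N20100 (iv D37524)) (tt N22155 (iv F176407)) (tt N20271 F173835) (tt N22884 D38811) (tt N20261 F173836))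
theorem Q21599 : ∀ i, i < 21599 → P i := stepQ 21598 Q21598 (allL N21598 (tt N22150 (iv F176368)) (tt N20321 F173837) (tt N21949 (iv F175109)) (tt N20112 F173838) (tt N20103 F173839) (tt N22885 D38812) (tt N20101 F173840) (tt N20272 F173841) (tt N20100 (iv D37525)) (tt N21943 (iv F175074)))
theorem Q21600 : ∀ i, i < 21600 → P i := stepQ 21599 Q21599 (allL N21599 (tt N22040 (iv F175678)) (tt N20322 F173842) (tt N21951 (iv F175121)) (tt N20113 F173843) (tt N21599 F173844) (tt N20101 (iv D37526)) (tt N22886 D38813) (tt N20102 F173845) (tt N22015 (iv F175512)) (tt N21944 (iv F175081)))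
theorem Q21601 : ∀ i, i < 21601 → P i := stepQ 21600 Q21600 (allL N21600 (tt N22022 (iv F175558)) (tt N20324 F173846) (tt N21953 (iv F175134)) (tt N20115 F173847) (tt N21600 F173848) (tt N20274 F173849) (tt N20102 (iv D37527)) (tt N22887 D38814) (tt N20283 F173850) (tt N21945 (iv F175089)))
theorem Q21602 : ∀ i, i < 21602 → P i := stepQ 21601 Q21601 (allL N21601 (tt N22151 (iv F176376)) (tt N20326 F173851) (tt N21955 (iv F175148)) (tt N20104 F173852) (tt N22888 D38815) (tt N20103 (iv D37528)) (tt N21601 F173853) (tt N20275 F173854) (tt N20349 F173855) (tt N21946 (iv F175097)))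
theorem Q21603 : ∀ i, i < 21603 → P i := stepQ 21602 Q21602 (allL N21602 (tt N22152 (iv F176384)) (tt N20328 F173856) (tt N20223 F173857) (tt N22889 D38816) (tt N20104 (iv D37529)) (tt N20118 F173858) (tt N21602 F173859) (tt N20276 F173860) (tt N20351 F173861) (tt N22003 (iv F175430)))
theorem Q21604 : ∀ i, i < 21604 → P i := stepQ 21603 Q21603 (allL N21603 (tt N22504 (iv F178220)) (tt N20108 F173862) (tt N22803 (iv F179354)) (tt N20358 F173863) (tt N20106 F173864) (tt N22890 D38817) (tt N20105 (iv D37530)) (tt N22815 (iv F179422)) (tt N20356 F173865) (tt N22797 (iv F179329)))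
theorem Q21605 : ∀ i, i < 21605 → P i := stepQ 21604 Q21604 (allL N21604 (tt N21913 (iv F174866)) (tt N20358 F173866) (tt N21912 (iv F174860)) (tt N20108 F173867) (tt N20228 F173868) (tt N22891 D38818) (tt N20107 (iv D37531)) (tt N22816 (iv F179429)) (tt N20355 F173869) (tt N21908 (iv F174842)))
theorem Q21606 : ∀ i, i < 21606 → P i := stepQ 21605 Q21605 (allL N21605 (tt N22158 (iv F176424)) (tt N22890 (iv F179705)) (tt N20111 F173870) (tt N22891 (iv F179709)) (tt N20155 F173871) (tt N20108 (iv D37532)) (tt N22442 (iv F177949)) (tt N22817 (iv F179434)) (tt N22892 D38819) (tt N22798 (iv F179333)))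
theorem Q21607 : ∀ i, i < 21607 → P i := stepQ 21606 Q21606 (allL N21606 (tt N22049 (iv F175724)) (tt N20356 F173872) (tt N20112 F173873) (tt N20355 F173874) (tt N20110 F173875) (tt N22893 D38820) (tt N20109 F173876) (tt N22818 (iv F179441)) (tt N20108 (iv D37533)) (tt N20372 (iv F173877)))
theorem Q21608 : ∀ i, i < 21608 → P i := stepQ 21607 Q21607 (allL N21607 (tt N22058 (iv F175778)) (tt N20399 F173878) (tt N20116 F173879) (tt N20170 F173880) (tt N22894 D38821) (tt N20110 (iv D37534)) (tt N20172 F173881) (tt N22820 (iv F179454)) (tt N20160 F173882) (tt N20169 F173883))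
theorem Q21609 : ∀ i, i < 21609 → P i := stepQ 21608 Q21608 (allL N21608 (tt N22159 (iv F176428)) (tt N22808 (iv F179385)) (tt N22892 (iv F179710)) (tt N22884 (iv F179682)) (tt N20162 F173884) (tt N22895 D38822) (tt N22635 (iv F178828)) (tt N22821 (iv F179460)) (tt N20111 (iv D37535)) (tt N22896 D38823))
theorem Q21610 : ∀ i, i < 21610 → P i := stepQ 21609 Q21609 (allL N21609 (tt N22160 (iv F176432)) (tt N22809 (iv F179389)) (tt N22893 (iv F179713)) (tt N22885 (iv F179686)) (tt N22897 D38824) (tt N20112 (iv D37536)) (tt N22898 D38825) (tt N22822 (iv F179463)) (tt N22895 (iv F179722)) (tt N22899 D38826))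
theorem Q21611 : ∀ i, i < 21611 → P i := stepQ 21610 Q21610 (allL N21610 (tt N22161 (iv F176434)) (tt N22810 (iv F179392)) (tt N20372 F173885) (tt N21943 (iv F175070)) (tt N20117 F173886) (tt N22899 (iv F179727)) (tt N20114 F173887) (tt N21957 (iv F175165)) (tt N21941 (iv F175059)) (tt N20112 (iv D37537)))
theorem Q21612 : ∀ i, i < 21612 → P i := stepQ 21611 Q21611 (allL N21611 (tt N22042 (iv F175690)) (tt N22811 (iv F179399)) (tt N22018 (iv F175529)) (tt N22886 (iv F179689)) (tt N20174 F173888) (tt N22898 (iv F179725)) (tt N20113 (iv D37538)) (tt N22900 D38827) (tt N22016 (iv F175518)) (tt N22721 (iv F179108)))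
theorem Q21613 : ∀ i, i < 21613 → P i := stepQ 21612 Q21612 (allL N21612 (tt N22024 (iv F175572)) (tt N22812 (iv F179402)) (tt N20287 F173889) (tt N22887 (iv F179692)) (tt N20175 F173890) (tt N22824 (iv F179471)) (tt N22900 (iv F179730)) (tt N20115 (iv D37539)) (tt N20284 F173891) (tt N22702 (iv F179052)))
theorem Q21614 : ∀ i, i < 21614 → P i := stepQ 21613 Q21613 (allL N21613 (tt N22162 (iv F176442)) (tt N22813 (iv F179407)) (tt N22894 (iv F179717)) (tt N22901 D38828) (tt N20116 (iv D37540)) (tt N22897 (iv F179724)) (tt N20176 F173892) (tt N22825 (iv F179475)) (tt N20167 F173893) (tt N22902 D38829))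
theorem Q21615 : ∀ i, i < 21615 → P i := stepQ 21614 Q21614 (allL N21614 (tt N22163 (iv F176446)) (tt N22814 (iv F179412)) (tt N20169 F173894) (tt N20119 F173895) (tt N22902 (iv F179737)) (tt N20117 F173896) (tt N20177 F173897) (tt N22006 (iv F175446)) (tt N22903 D38830) (tt N20116 (iv D37541)))
theorem Q21616 : ∀ i, i < 21616 → P i := stepQ 21615 Q21615 (allL N21615 (tt N22164 (iv F176453)) (tt N20403 F173898) (tt N22903 (iv F179739)) (tt N20118 (iv D37542)) (tt N22901 (iv F179733)) (tt N22889 (iv F179701)) (tt N20178 F173899) (tt N22826 (iv F179480)) (tt N20169 F173900) (tt N22904 D38831))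
theorem Q21617 : ∀ i, i < 21617 → P i := stepQ 21616 Q21616 (allL N21616 (tt N22165 (iv F176457)) (tt N20401 F173901) (tt N20231 F173902) (tt N22904 (iv F179745)) (tt N20119 F173903) (tt N22003 (iv F175426)) (tt N20179 F173904) (tt N22009 (iv F175469)) (tt N20250 F173905) (tt N20118 (iv D37543)))
theorem Q21618 : ∀ i, i < 21618 → P i := stepQ 21617 Q21617 (allL N21617 (tt N22166 (iv F176465)) (tt N22008 (iv F175457)) (tt N20230 F173906) (tt N22903 (iv F179740)) (tt N20250 F173907) (tt N22002 (iv F175419)) (tt N20180 F173908) (tt N22007 (iv F175453)) (tt N20119 (iv D37544)) (tt N20171 F173909))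
theorem Q21619 : ∀ i, i < 21619 → P i := stepQ 21618 Q21618 (allL N21618 (tt N20122 F173910) (tt N22167 (iv F176474)) (tt N22444 (iv F177959)) (tt N22097 (iv F176045)) (tt N20121 F173911) (tt N22465 (iv F178061)) (tt N22905 D38832) (tt N20120 (iv D37545)) (tt N22095 (iv F176036)) (tt N20142 F173912))
theorem Q21620 : ∀ i, i < 21620 → P i := stepQ 21619 Q21619 (allL N21619 (tt N20123 F173913) (tt N22168 (iv F176480)) (tt N22553 (iv F178402)) (tt N20232 F173914) (tt N22905 (iv F179749)) (tt N22568 (iv F178492)) (tt N20121 (iv D37546)) (tt N22282 (iv F177103)) (tt N22265 (iv F176992)) (tt N20144 F173915))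
theorem Q21621 : ∀ i, i < 21621 → P i := stepQ 21620 Q21620 (allL N21620 (tt N22905 (iv F179748)) (tt N20126 F173916) (tt N22815 (iv F179419)) (tt N22806 (iv F179373)) (tt N20123 F173917) (tt N22906 D38833) (tt N20122 (iv D37547)) (tt N22803 (iv F179357)) (tt N22804 (iv F179365)) (tt N20147 F173918))
theorem Q21622 : ∀ i, i < 21622 → P i := stepQ 21621 Q21621 (allL N21621 (tt N22265 (iv F176988)) (tt N20129 F173919) (tt N20390 F173920) (tt N20206 F173921) (tt N22804 (iv F179363)) (tt N22907 D38834) (tt N20124 F173922) (tt N20233 F173923) (tt N20123 (iv D37548)) (tt N20214 (iv F173924)))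
theorem Q21623 : ∀ i, i < 21623 → P i := stepQ 21622 Q21622 (allL N21622 (tt N22176 (iv F176525)) (tt N22806 (iv F179371)) (tt N20356 F173925) (tt N20126 F173926) (tt N20233 F173927) (tt N22908 D38835) (tt N20125 (iv D37549)) (tt N22804 (iv F179364)) (tt N22803 (iv F179358)) (tt N20152 F173928))
theorem Q21624 : ∀ i, i < 21624 → P i := stepQ 21623 Q21623 (allL N21623 (tt N22178 (iv F176537)) (tt N22906 (iv F179751)) (tt N20131 F173929) (tt N22908 (iv F179761)) (tt N22798 (iv F179331)) (tt N20126 (iv D37550)) (tt N22485 (iv F178145)) (tt N22805 (iv F179369)) (tt N22909 D38836) (tt N20155 F173930))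
theorem Q21625 : ∀ i, i < 21625 → P i := stepQ 21624 Q21624 (allL N21624 (tt N22179 (iv F176541)) (tt N22804 (iv F179360)) (tt N20132 F173931) (tt N22803 (iv F179355)) (tt N20129 F173932) (tt N22910 D38837) (tt N20127 F173933) (tt N22806 (iv F179376)) (tt N20126 (iv D37551)) (tt N22858 (iv F179588)))
theorem Q21626 : ∀ i, i < 21626 → P i := stepQ 21625 Q21625 (allL N21625 (tt N22180 (iv F176545)) (tt N22300 (iv F177209)) (tt N20133 F173934) (tt N22298 (iv F177195)) (tt N21625 F173935) (tt N20127 (iv D37552)) (tt N22911 D38838) (tt N20128 F173936) (tt N22339 (iv F177468)) (tt N22843 (iv F179543)))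
theorem Q21627 : ∀ i, i < 21627 → P i := stepQ 21626 Q21626 (allL N21626 (tt N22184 (iv F176573)) (tt N22907 (iv F179753)) (tt N20137 F173937) (tt N20235 F173938) (tt N22912 D38839) (tt N20129 (iv D37553)) (tt N21626 F173939) (tt N22807 (iv F179382)) (tt N22799 (iv F179339)) (tt N22913 D38840))
theorem Q21628 : ∀ i, i < 21628 → P i := stepQ 21627 Q21627 (allL N21627 (tt N22185 (iv F176577)) (tt N20214 F173940) (tt N20138 F173941) (tt N20212 F173942) (tt N22858 (iv F179585)) (tt N22913 (iv F179772)) (tt N20130 F173943) (tt N20243 F173944) (tt N20161 F173945) (tt N20129 (iv D37554)))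
theorem Q21629 : ∀ i, i < 21629 → P i := stepQ 21628 Q21628 (allL N21628 (tt N22186 (iv F176583)) (tt N22821 (iv F179457)) (tt N22909 (iv F179763)) (tt N20362 F173946) (tt N22800 (iv F179343)) (tt N22914 D38841) (tt N22488 (iv F178160)) (tt N22808 (iv F179388)) (tt N20131 (iv D37555)) (tt N22915 D38842))
theorem Q21630 : ∀ i, i < 21630 → P i := stepQ 21629 Q21629 (allL N21629 (tt N22187 (iv F176586)) (tt N22822 (iv F179461)) (tt N22910 (iv F179764)) (tt N20363 F173947) (tt N22916 D38843) (tt N20132 (iv D37556)) (tt N22917 D38844) (tt N22809 (iv F179391)) (tt N22914 (iv F179776)) (tt N22918 D38845))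
theorem Q21631 : ∀ i, i < 21631 → P i := stepQ 21630 Q21630 (allL N21630 (tt N22188 (iv F176588)) (tt N21957 (iv F175160)) (tt N22858 (iv F179583)) (tt N20364 F173948) (tt N20138 F173949) (tt N22918 (iv F179783)) (tt N20134 F173950) (tt N22810 (iv F179397)) (tt N20164 F173951) (tt N20132 (iv D37557)))
theorem Q21632 : ∀ i, i < 21632 → P i := stepQ 21631 Q21631 (allL N21631 (tt N22189 (iv F176593)) (tt N22823 (iv F179464)) (tt N22911 (iv F179765)) (tt N20365 F173952) (tt N21631 F173953) (tt N22917 (iv F179781)) (tt N20133 (iv D37558)) (tt N22919 D38846) (tt N22491 (iv F178171)) (tt N22920 D38847))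
theorem Q21633 : ∀ i, i < 21633 → P i := stepQ 21632 Q21632 (allL N21632 (tt N22190 (iv F176597)) (tt N21958 (iv F175168)) (tt N22843 (iv F179539)) (tt N20366 F173954) (tt N21632 F173955) (tt N20134 F173956) (tt N22920 (iv F179789)) (tt N20136 F173957) (tt N22526 (iv F178317)) (tt N20133 (iv D37559)))
theorem Q21634 : ∀ i, i < 21634 → P i := stepQ 21633 Q21633 (allL N21633 (tt N22191 (iv F176602)) (tt N22824 (iv F179467)) (tt N22330 (iv F177423)) (tt N20367 F173958) (tt N21633 F173959) (tt N22812 (iv F179405)) (tt N22919 (iv F179786)) (tt N20135 (iv D37560)) (tt N22367 (iv F177623)) (tt N22921 D38848))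
theorem Q21635 : ∀ i, i < 21635 → P i := stepQ 21634 Q21634 (allL N21634 (tt N22192 (iv F176606)) (tt N21959 (iv F175176)) (tt N22193 (iv F176616)) (tt N20368 F173960) (tt N21634 F173961) (tt N22226 (iv F176793)) (tt N20136 F173962) (tt N22921 (iv F179792)) (tt N22183 (iv F176572)) (tt N20135 (iv D37561)))
theorem Q21636 : ∀ i, i < 21636 → P i := stepQ 21635 Q21635 (allL N21635 (tt N22194 (iv F176622)) (tt N22825 (iv F179473)) (tt N22912 (iv F179767)) (tt N22922 D38849) (tt N20137 (iv D37562)) (tt N22916 (iv F179779)) (tt N21635 F173963) (tt N22813 (iv F179410)) (tt N22802 (iv F179352)) (tt N22923 D38850))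
theorem Q21637 : ∀ i, i < 21637 → P i := stepQ 21636 Q21636 (allL N21636 (tt N22195 (iv F176624)) (tt N22006 (iv F175442)) (tt N22913 (iv F179770)) (tt N20140 F173964) (tt N22923 (iv F179797)) (tt N20138 F173965) (tt N21636 F173966) (tt N22814 (iv F179417)) (tt N22924 D38851) (tt N20137 (iv D37563)))
theorem Q21638 : ∀ i, i < 21638 → P i := stepQ 21637 Q21637 (allL N21637 (tt N22196 (iv F176628)) (tt N22826 (iv F179477)) (tt N22925 D38852) (tt N20139 (iv D37564)) (tt N22922 (iv F179793)) (tt N20371 F173967) (tt N21637 F173968) (tt N20403 F173969) (tt N20394 F173970) (tt N22926 D38853))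
theorem Q21639 : ∀ i, i < 21639 → P i := stepQ 21638 Q21638 (allL N21638 (tt N22197 (iv F176633)) (tt N22009 (iv F175465)) (tt N20238 F173971) (tt N22926 (iv F179809)) (tt N20140 F173972) (tt N20248 F173973) (tt N21638 F173974) (tt N20401 F173975) (tt N20249 (iv F173976)) (tt N20139 (iv D37565)))
theorem Q21640 : ∀ i, i < 21640 → P i := stepQ 21639 Q21639 (allL N21639 (tt N22198 (iv F176640)) (tt N22007 (iv F175449)) (tt N20239 F173977) (tt N22924 (iv F179799)) (tt N20249 F173978) (tt N20171 F173979) (tt N21639 F173980) (tt N22008 (iv F175462)) (tt N20140 (iv D37566)) (tt N22002 (iv F175422)))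
theorem Q21641 : ∀ i, i < 21641 → P i := stepQ 21640 Q21640 (allL N21640 (tt N20146 F173981) (tt N22199 (iv F176648)) (tt N22103 (iv F176084)) (tt N20142 F173982) (tt N20240 F173983) (tt N22462 F178049) (tt N22927 D38854) (tt N20141 (iv D37567)) (tt N22129 (iv F176252)) (tt N22097 F176048))
theorem Q21642 : ∀ i, i < 21642 → P i := stepQ 21641 Q21641 (allL N21641 (tt N20147 F173984) (tt N22200 (iv F176653)) (tt N22827 (iv F179483)) (tt N22927 (iv F179815)) (tt N20144 F173985) (tt N22928 D38855) (tt N20142 (iv D37568)) (tt N22857 (iv F179581)) (tt N22929 D38856) (tt N22905 (iv F179750)))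
theorem Q21643 : ∀ i, i < 21643 → P i := stepQ 21642 Q21642 (allL N21642 (tt N20148 F173986) (tt N22201 (iv F176657)) (tt N22469 (iv F178080)) (tt N22129 (iv F176249)) (tt N20145 F173987) (tt N22420 (iv F177866)) (tt N22929 (iv F179820)) (tt N20143 F173988) (tt N20142 (iv D37569)) (tt N22124 (iv F176226)))
theorem Q21644 : ∀ i, i < 21644 → P i := stepQ 21643 Q21643 (allL N21643 (tt N20150 F173989) (tt N22202 (iv F176663)) (tt N22561 (iv F178449)) (tt N20242 F173990) (tt N22929 (iv F179819)) (tt N22567 (iv F178485)) (tt N20145 F173991) (tt N22294 (iv F177169)) (tt N20144 (iv D37570)) (tt N22275 (iv F177060)))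
theorem Q21645 : ∀ i, i < 21645 → P i := stepQ 21644 Q21644 (allL N21644 (tt N22927 (iv F179814)) (tt N20152 F173992) (tt N22810 (iv F179393)) (tt N20147 F173993) (tt N20243 F173994) (tt N22930 D38857) (tt N20146 (iv D37571)) (tt N22858 (iv F179586)) (tt N22866 (iv F179625)) (tt N22806 F179377))
theorem Q21646 : ∀ i, i < 21646 → P i := stepQ 21645 Q21645 (allL N21645 (tt N22928 (iv F179817)) (tt N20155 F173995) (tt N22829 (iv F179493)) (tt N22930 (iv F179822)) (tt N22890 (iv F179707)) (tt N20147 (iv D37572)) (tt N22638 (iv F178840)) (tt N22859 (iv F179590)) (tt N22931 D38858) (tt N22906 (iv F179752)))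
theorem Q21647 : ∀ i, i < 21647 → P i := stepQ 21646 Q21646 (allL N21646 (tt N22929 (iv F179818)) (tt N20156 F173996) (tt N22830 (iv F179495)) (tt N22866 (iv F179621)) (tt N20150 F173997) (tt N22932 D38859) (tt N20148 F173998) (tt N22860 (iv F179596)) (tt N20147 (iv D37573)) (tt N22863 (iv F179614)))
theorem Q21648 : ∀ i, i < 21648 → P i := stepQ 21647 Q21647 (allL N21647 (tt N22420 (iv F177863)) (tt N20157 F173999) (tt N22170 (iv F176493)) (tt N22868 (iv F179630)) (tt N20182 F174000) (tt N20148 (iv D37574)) (tt N22933 D38860) (tt N20149 F174001) (tt N22416 (iv F177845)) (tt N22204 (iv F176680)))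
theorem Q21649 : ∀ i, i < 21649 → P i := stepQ 21648 Q21648 (allL N21648 (tt N22567 (iv F178481)) (tt N20160 F174002) (tt N21976 (iv F175257)) (tt N20245 F174003) (tt N22934 D38861) (tt N20150 (iv D37575)) (tt N20183 F174004) (tt N22861 (iv F179602)) (tt N20399 F174005) (tt N21975 F175254))
theorem Q21650 : ∀ i, i < 21650 → P i := stepQ 21649 Q21649 (allL N21649 (tt N22275 (iv F177055)) (tt N20161 F174006) (tt N20395 F174007) (tt N20216 F174008) (tt N22863 (iv F179611)) (tt N21975 (iv F175250)) (tt N20151 F174009) (tt N20247 F174010) (tt N20214 F174011) (tt N20150 (iv D37576)))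
theorem Q21651 : ∀ i, i < 21651 → P i := stepQ 21650 Q21650 (allL N21650 (tt N22213 (iv F176719)) (tt N22930 (iv F179821)) (tt N20374 F174012) (tt N20155 F174013) (tt N22935 D38862) (tt N20152 (iv D37577)) (tt N22639 (iv F178843)) (tt N22862 (iv F179607)) (tt N22936 D38863) (tt N22908 (iv F179762)))
theorem Q21652 : ∀ i, i < 21652 → P i := stepQ 21651 Q21651 (allL N21651 (tt N22214 (iv F176722)) (tt N22866 (iv F179619)) (tt N20375 F174014) (tt N20156 F174015) (tt N20247 F174016) (tt N22937 D38864) (tt N20153 F174017) (tt N22863 (iv F179613)) (tt N20152 (iv D37578)) (tt N22860 (iv F179597)))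
theorem Q21653 : ∀ i, i < 21653 → P i := stepQ 21652 Q21652 (allL N21652 (tt N22215 (iv F176727)) (tt N22868 (iv F179628)) (tt N20376 F174018) (tt N20157 F174019) (tt N21652 F174020) (tt N20153 (iv D37579)) (tt N22938 D38865) (tt N20154 F174021) (tt N22623 (iv F178786)) (tt N22398 (iv F177772)))
theorem Q21654 : ∀ i, i < 21654 → P i := stepQ 21653 Q21653 (allL N21653 (tt N22217 (iv F176740)) (tt N22141 (iv F176312)) (tt N20378 F174022) (tt N20159 F174023) (tt N21653 F174024) (tt N22114 (iv F176164)) (tt N20154 (iv D37580)) (tt N22939 D38866) (tt N22034 F175646) (tt N22345 (iv F177508)))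
theorem Q21655 : ∀ i, i < 21655 → P i := stepQ 21654 Q21654 (allL N21654 (tt N22219 (iv F176756)) (tt N22931 (iv F179823)) (tt N20162 F174025) (tt N22936 (iv F179833)) (tt N22892 (iv F179711)) (tt N22940 D38867) (tt N22640 (iv F178845)) (tt N22864 (iv F179616)) (tt N20155 (iv D37581)) (tt N22941 D38868))
theorem Q21656 : ∀ i, i < 21656 → P i := stepQ 21655 Q21655 (allL N21655 (tt N22220 (iv F176758)) (tt N22932 (iv F179824)) (tt N20163 F174026) (tt N22937 (iv F179835)) (tt N22942 D38869) (tt N20156 (iv D37582)) (tt N22943 D38870) (tt N22865 (iv F179618)) (tt N22940 (iv F179843)) (tt N22944 D38871))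
theorem Q21657 : ∀ i, i < 21657 → P i := stepQ 21656 Q21656 (allL N21656 (tt N22221 (iv F176760)) (tt N22863 (iv F179608)) (tt N20164 F174027) (tt N22860 (iv F179593)) (tt N20161 F174028) (tt N22944 (iv F179850)) (tt N20158 F174029) (tt N22866 (iv F179624)) (tt N22858 (iv F179587)) (tt N20156 (iv D37583)))
theorem Q21658 : ∀ i, i < 21658 → P i := stepQ 21657 Q21657 (allL N21657 (tt N22222 (iv F176764)) (tt N22933 (iv F179825)) (tt N20165 F174030) (tt N22938 (iv F179837)) (tt N20185 F174031) (tt N22943 (iv F179848)) (tt N20157 (iv D37584)) (tt N22945 D38872) (tt N22624 (iv F178790)) (tt N22522 (iv F178301)))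
theorem Q21659 : ∀ i, i < 21659 → P i := stepQ 21658 Q21658 (allL N21658 (tt N22224 (iv F176775)) (tt N22480 (iv F178118)) (tt N20166 F174032) (tt N22939 (iv F179840)) (tt N20186 F174033) (tt N22869 (iv F179636)) (tt N22945 (iv F179853)) (tt N20159 (iv D37585)) (tt N22362 F177590) (tt N22460 (iv F178038)))
theorem Q21660 : ∀ i, i < 21660 → P i := stepQ 21659 Q21659 (allL N21659 (tt N22227 (iv F176796)) (tt N22934 (iv F179827)) (tt N20167 F174034) (tt N22946 D38873) (tt N20160 (iv D37586)) (tt N22942 (iv F179846)) (tt N20187 F174035) (tt N22870 (iv F179639)) (tt N22894 (iv F179720)) (tt N22947 D38874))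
theorem Q21661 : ∀ i, i < 21661 → P i := stepQ 21660 Q21660 (allL N21660 (tt N22228 (iv F176799)) (tt N21975 (iv F175248)) (tt N20168 F174036) (tt N20250 F174037) (tt N22947 (iv F179858)) (tt N20161 F174038) (tt N20188 F174039) (tt N22871 (iv F179645)) (tt N22904 (iv F179747)) (tt N20160 (iv D37587)))
theorem Q21662 : ∀ i, i < 21662 → P i := stepQ 21661 Q21661 (allL N21661 (tt N22229 (iv F176804)) (tt N22835 (iv F179508)) (tt N22940 (iv F179842)) (tt N20384 F174040) (tt N22948 D38875) (tt N20162 (iv D37588)) (tt N22949 D38876) (tt N22872 (iv F179647)) (tt N20163 F174041) (tt N22950 D38877))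
theorem Q21663 : ∀ i, i < 21663 → P i := stepQ 21662 Q21662 (allL N21662 (tt N22230 (iv F176807)) (tt N22836 (iv F179511)) (tt N22941 (iv F179844)) (tt N20385 F174042) (tt N22896 (iv F179723)) (tt N22950 (iv F179864)) (tt N22642 (iv F178849)) (tt N22873 (iv F179650)) (tt N22915 (iv F179778)) (tt N20162 (iv D37589)))
theorem Q21664 : ∀ i, i < 21664 → P i := stepQ 21663 Q21663 (allL N21663 (tt N22231 (iv F176809)) (tt N22837 (iv F179513)) (tt N22942 (iv F179845)) (tt N22951 D38878) (tt N20163 (iv D37590)) (tt N20167 F174043) (tt N22952 D38879) (tt N22874 (iv F179652)) (tt N22948 (iv F179860)) (tt N22953 D38880))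
theorem Q21665 : ∀ i, i < 21665 → P i := stepQ 21664 Q21664 (allL N21664 (tt N22232 (iv F176811)) (tt N22503 (iv F178216)) (tt N22943 (iv F179847)) (tt N20386 F174044) (tt N22952 (iv F179868)) (tt N20165 F174045) (tt N20163 (iv D37591)) (tt N22954 D38881) (tt N22949 (iv F179862)) (tt N22524 (iv F178308)))
theorem Q21666 : ∀ i, i < 21666 → P i := stepQ 21665 Q21665 (allL N21665 (tt N22233 (iv F176814)) (tt N21956 (iv F175155)) (tt N22944 (iv F179849)) (tt N20387 F174046) (tt N22953 (iv F179870)) (tt N20164 F174047) (tt N22524 (iv F178307)) (tt N22876 (iv F179657)) (tt N22955 D38882) (tt N20163 (iv D37592)))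
theorem Q21667 : ∀ i, i < 21667 → P i := stepQ 21666 Q21666 (allL N21666 (tt N22234 (iv F176817)) (tt N22443 (iv F177952)) (tt N22945 (iv F179851)) (tt N20388 F174048) (tt N20192 F174049) (tt N22954 (iv F179873)) (tt N20166 F174050) (tt N20165 (iv D37593)) (tt N22645 (iv F178857)) (tt N22461 (iv F178043)))
theorem Q21668 : ∀ i, i < 21668 → P i := stepQ 21667 Q21667 (allL N21667 (tt N22238 (iv F176837)) (tt N20402 F174051) (tt N22902 (iv F179736)) (tt N20167 (iv D37594)) (tt N20169 F174052) (tt N22951 (iv F179867)) (tt N20193 F174053) (tt N22880 (iv F179670)) (tt N22901 (iv F179735)) (tt N22894 (iv F179721)))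
theorem Q21669 : ∀ i, i < 21669 → P i := stepQ 21668 Q21668 (allL N21668 (tt N22239 (iv F176840)) (tt N22004 (iv F175432)) (tt N22947 (iv F179857)) (tt N22894 (iv F179718)) (tt N20168 F174054) (tt N22953 (iv F179871)) (tt N20194 F174055) (tt N22881 (iv F179673)) (tt N22946 (iv F179856)) (tt N20167 (iv D37595)))
theorem Q21670 : ∀ i, i < 21670 → P i := stepQ 21669 Q21669 (allL N21669 (tt N22240 (iv F176843)) (tt N22005 (iv F175437)) (tt N22904 (iv F179744)) (tt N20171 F174056) (tt N22946 (iv F179854)) (tt N22924 (iv F179800)) (tt N20195 F174057) (tt N22882 (iv F179676)) (tt N20168 (iv D37596)) (tt N22903 (iv F179742)))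
theorem Q21671 : ∀ i, i < 21671 → P i := stepQ 21670 Q21670 (allL N21670 (tt N22057 (iv F175770)) (tt N20407 F174058) (tt N20176 F174059) (tt N20194 F174060) (tt N20172 (iv D37597)) (tt N22020 (iv F175547)) (tt N22894 (iv F179719)) (tt N21670 F174061) (tt N20187 F174062) (tt N20193 F174063))
theorem Q21672 : ∀ i, i < 21672 → P i := stepQ 21671 Q21671 (allL N21671 (tt N22055 (iv F175758)) (tt N22839 (iv F179522)) (tt N22020 (iv F175545)) (tt N22956 D38883) (tt N20173 (iv D37598)) (tt N20176 F174064) (tt N22957 D38884) (tt N21671 F174065) (tt N22614 (iv F178742)) (tt N22790 (iv F179305)))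
theorem Q21673 : ∀ i, i < 21673 → P i := stepQ 21672 Q21672 (allL N21672 (tt N22044 (iv F175702)) (tt N22840 (iv F179526)) (tt N22019 (iv F175537)) (tt N21672 F174066) (tt N22957 (iv F179879)) (tt N20174 F174067) (tt N20173 (iv D37599)) (tt N22958 D38885) (tt N22427 (iv F177895)) (tt N22782 (iv F179284)))
theorem Q21674 : ∀ i, i < 21674 → P i := stepQ 21673 Q21673 (allL N21673 (tt N22027 (iv F175593)) (tt N22841 (iv F179529)) (tt N20289 F174068) (tt N21673 F174069) (tt N22900 (iv F179729)) (tt N22958 (iv F179882)) (tt N20175 F174070) (tt N20174 (iv D37600)) (tt N20285 F174071) (tt N22776 (iv F179262)))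
theorem Q21675 : ∀ i, i < 21675 → P i := stepQ 21674 Q21674 (allL N21674 (tt N22241 (iv F176846)) (tt N20408 F174072) (tt N22959 D38886) (tt N20176 (iv D37601)) (tt N20178 F174073) (tt N22956 (iv F179877)) (tt N22901 (iv F179734)) (tt N21674 F174074) (tt N20193 F174075) (tt N22960 D38887))
theorem Q21676 : ∀ i, i < 21676 → P i := stepQ 21675 Q21675 (allL N21675 (tt N22242 (iv F176851)) (tt N22842 (iv F179533)) (tt N20193 F174076) (tt N22960 (iv F179891)) (tt N20177 F174077) (tt N22790 (iv F179303)) (tt N22902 (iv F179738)) (tt N21675 F174078) (tt N22959 (iv F179887)) (tt N20176 (iv D37602)))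
theorem Q21677 : ∀ i, i < 21677 → P i := stepQ 21676 Q21676 (allL N21676 (tt N22243 (iv F176856)) (tt N22011 (iv F175478)) (tt N20178 F174079) (tt N20180 F174080) (tt N22959 (iv F179885)) (tt N21676 F174081) (tt N22903 (iv F179741)) (tt N21676 F174082) (tt N20177 (iv D37603)) (tt N20195 F174083))
theorem Q21678 : ∀ i, i < 21678 → P i := stepQ 21677 Q21677 (allL N21677 (tt N22244 (iv F176863)) (tt N20409 F174084) (tt N20195 F174085) (tt N20179 F174086) (tt N22960 (iv F179892)) (tt N21677 F174087) (tt N22904 (iv F179746)) (tt N21677 F174088) (tt N20188 F174089) (tt N20178 (iv D37604)))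
theorem Q21679 : ∀ i, i < 21679 → P i := stepQ 21678 Q21678 (allL N21678 (tt N22613 (iv F178731)) (tt N20184 F174090) (tt N21997 (iv F175383)) (tt N21678 F174091) (tt N22961 D38888) (tt N20181 (iv D37605)) (tt N22962 D38889) (tt N21678 F174092) (tt N22608 (iv F178704)) (tt N21995 F175376))
theorem Q21680 : ∀ i, i < 21680 → P i := stepQ 21679 Q21679 (allL N21679 (tt N22421 (iv F177868)) (tt N20185 F174093) (tt N22279 (iv F177084)) (tt N21679 F174094) (tt N22933 (iv F179826)) (tt N22962 (iv F179900)) (tt N20182 (iv D37606)) (tt N22625 (iv F178795)) (tt N22417 (iv F177852)) (tt N22287 (iv F177136)))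
theorem Q21681 : ∀ i, i < 21681 → P i := stepQ 21680 Q21680 (allL N21680 (tt N22585 (iv F178575)) (tt N20187 F174095) (tt N21991 (iv F175347)) (tt N22012 (iv F175487)) (tt N20183 (iv D37607)) (tt N22961 (iv F179896)) (tt N22934 (iv F179828)) (tt N21680 F174096) (tt N20407 F174097) (tt N21990 F175344))
theorem Q21682 : ∀ i, i < 21682 → P i := stepQ 21681 Q21681 (allL N21681 (tt N22247 (iv F176883)) (tt N22961 (iv F179895)) (tt N20190 F174098) (tt N22963 D38890) (tt N20184 (iv D37608)) (tt N20187 F174099) (tt N22964 D38891) (tt N21681 F174100) (tt N22616 (iv F178753)) (tt N22586 (iv F178585)))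
theorem Q21683 : ∀ i, i < 21683 → P i := stepQ 21682 Q21682 (allL N21682 (tt N22248 (iv F176889)) (tt N22962 (iv F179898)) (tt N20191 F174101) (tt N21682 F174102) (tt N22964 (iv F179905)) (tt N20185 F174103) (tt N20184 (iv D37609)) (tt N22965 D38892) (tt N22617 (iv F178758)) (tt N22570 (iv F178504)))
theorem Q21684 : ∀ i, i < 21684 → P i := stepQ 21683 Q21683 (allL N21683 (tt N22249 (iv F176895)) (tt N22625 (iv F178792)) (tt N20192 F174104) (tt N21683 F174105) (tt N22945 (iv F179852)) (tt N22965 (iv F179908)) (tt N20186 F174106) (tt N20185 (iv D37610)) (tt N22612 F178730) (tt N22554 (iv F178411)))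
theorem Q21685 : ∀ i, i < 21685 → P i := stepQ 21684 Q21684 (allL N21684 (tt N22253 (iv F176920)) (tt N22012 (iv F175485)) (tt N22960 (iv F179890)) (tt N20187 (iv D37611)) (tt N20195 F174107) (tt N22963 (iv F179902)) (tt N22946 (iv F179855)) (tt N21684 F174108) (tt N20194 F174109) (tt N22959 F179888))
theorem Q21686 : ∀ i, i < 21686 → P i := stepQ 21685 Q21685 (allL N21685 (tt N22254 (iv F176924)) (tt N21990 (iv F175340)) (tt N20194 F174110) (tt N22959 (iv F179884)) (tt N20188 F174111) (tt N22586 (iv F178583)) (tt N22947 (iv F179859)) (tt N21685 F174112) (tt N22960 (iv F179894)) (tt N20187 (iv D37612)))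
theorem Q21687 : ∀ i, i < 21687 → P i := stepQ 21686 Q21686 (allL N21686 (tt N22245 (iv F176870)) (tt N22585 (iv F178576)) (tt N22616 (iv F178750)) (tt N22792 (iv F179311)) (tt N20189 (iv D37613)) (tt N22614 (iv F178740)) (tt N22966 D38893) (tt N21686 F174113) (tt N20190 F174114) (tt N22769 (iv F179237)))
theorem Q21688 : ∀ i, i < 21688 → P i := stepQ 21687 Q21687 (allL N21687 (tt N22211 (iv F176709)) (tt N22567 (iv F178482)) (tt N22617 (iv F178755)) (tt N20196 F174115) (tt N22966 (iv F179910)) (tt N22202 (iv F176666)) (tt N20189 (iv D37614)) (tt N22967 D38894) (tt N20191 F174116) (tt N22754 (iv F179183)))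
theorem Q21689 : ∀ i, i < 21689 → P i := stepQ 21688 Q21688 (allL N21688 (tt N22255 (iv F176928)) (tt N22566 (iv F178477)) (tt N22964 (iv F179904)) (tt N22783 (iv F179286)) (tt N20191 F174117) (tt N22952 (iv F179869)) (tt N20190 (iv D37615)) (tt N22968 D38895) (tt N22966 (iv F179911)) (tt N22573 (iv F178517)))
theorem Q21690 : ∀ i, i < 21690 → P i := stepQ 21689 Q21689 (allL N21689 (tt N22256 (iv F176930)) (tt N22552 (iv F178395)) (tt N22965 (iv F179906)) (tt N20197 F174118) (tt N22968 (iv F179915)) (tt N20192 F174119) (tt N21689 F174120) (tt N20191 (iv D37616)) (tt N22967 (iv F179914)) (tt N22556 (iv F178423)))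
theorem Q21691 : ∀ i, i < 21691 → P i := stepQ 21690 Q21690 (allL N21690 (tt N22259 (iv F176945)) (tt N22295 (iv F177172)) (tt N21690 F174121) (tt N22967 (iv F179912)) (tt N22778 (iv F179270)) (tt N22269 (iv F177021)) (tt N21690 F174122) (tt N20196 (iv D37617)) (tt N20197 F174123) (tt N22290 (iv F177151)))
theorem Q21692 : ∀ i, i < 21692 → P i := stepQ 21691 Q21691 (allL N21691 (tt N21920 (iv F174910)) (tt N20318 F174124) (tt N20350 F174125) (tt N20200 F174126) (tt N22816 (iv F179428)) (tt N22969 D38896) (tt N20199 (iv D37618)) (tt N20228 F174127) (tt N20313 F174128) (tt N20347 F174129))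
theorem Q21693 : ∀ i, i < 21693 → P i := stepQ 21692 Q21692 (allL N21692 (tt N21922 (iv F174924)) (tt N20392 F174130) (tt N20202 F174131) (tt N22969 (iv F179919)) (tt N20215 F174132) (tt N20200 (iv D37619)) (tt N21692 F174133) (tt N20229 F174134) (tt N20329 F174135) (tt N20398 F174136))
theorem Q21694 : ∀ i, i < 21694 → P i := stepQ 21693 Q21693 (allL N21693 (tt N22266 (iv F176994)) (tt N20235 F174137) (tt N20208 F174138) (tt N22907 (iv F179755)) (tt N20398 F174139) (tt N20206 (iv D37620)) (tt N21693 F174140) (tt N20234 F174141) (tt N20406 F174142) (tt N20215 F174143))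
theorem Q21695 : ∀ i, i < 21695 → P i := stepQ 21694 Q21694 (allL N21694 (tt N22267 (iv F177001)) (tt N20234 F174144) (tt N20209 F174145) (tt N22807 (iv F179380)) (tt N20400 F174146) (tt N20207 (iv D37621)) (tt N20253 F174147) (tt N20235 F174148) (tt N20397 F174149) (tt N20244 F174150))
theorem Q21696 : ∀ i, i < 21696 → P i := stepQ 21695 Q21695 (allL N21695 (tt N22284 (iv F177114)) (tt N20215 F174151) (tt N20237 F174152) (tt N22913 (iv F179771)) (tt N20392 F174153) (tt N20212 (iv D37622)) (tt N21695 F174154) (tt N20244 F174155) (tt N22003 (iv F175429)) (tt N20235 F174156))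
theorem Q21697 : ∀ i, i < 21697 → P i := stepQ 21696 Q21696 (allL N21696 (tt N22295 (iv F177171)) (tt N20217 F174157) (tt N20251 F174158) (tt N22861 (iv F179600)) (tt N22002 (iv F175418)) (tt N20213 (iv D37623)) (tt N21696 F174159) (tt N20245 F174160) (tt N20391 F174161) (tt N20249 F174162))
theorem Q21698 : ∀ i, i < 21698 → P i := stepQ 21697 Q21697 (allL N21697 (tt N22274 (iv F177050)) (tt N22913 (iv F179769)) (tt N20394 F174163) (tt N20215 F174164) (tt N22970 D38897) (tt N20214 (iv D37624)) (tt N21697 F174165) (tt N20246 F174166) (tt N22925 (iv F179806)) (tt N22907 (iv F179759)))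
theorem Q21699 : ∀ i, i < 21699 → P i := stepQ 21698 Q21698 (allL N21698 (tt N22276 (iv F177062)) (tt N22003 (iv F175424)) (tt N20219 F174167) (tt N22925 (iv F179802)) (tt N20329 F174168) (tt N20401 F174169) (tt N21698 F174170) (tt N20248 F174171) (tt N20215 (iv D37625)) (tt N20328 F174172))
theorem Q21700 : ∀ i, i < 21700 → P i := stepQ 21699 Q21699 (allL N21699 (tt N22277 (iv F177069)) (tt N20249 F174173) (tt N20221 F174174) (tt N22871 (iv F179642)) (tt N22007 (iv F175451)) (tt N20218 F174175) (tt N21699 F174176) (tt N20250 F174177) (tt N22009 (iv F175470)) (tt N20217 (iv D37626)))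
theorem Q21701 : ∀ i, i < 21701 → P i := stepQ 21700 Q21700 (allL N21700 (tt N22278 (iv F177076)) (tt N20406 F174178) (tt N20227 F174179) (tt N22799 (iv F179336)) (tt N20352 F174180) (tt N20226 (iv D37627)) (tt N21700 F174181) (tt N20397 F174182) (tt N20235 F174183) (tt N20351 F174184))
theorem Q21702 : ∀ i, i < 21702 → P i := stepQ 21701 Q21701 (allL N21701 (tt N21919 (iv F174904)) (tt N20360 F174185) (tt N21916 (iv F174884)) (tt N20229 F174186) (tt N22971 D38898) (tt N20228 (iv D37628)) (tt N20252 F174187) (tt N22969 (iv F179921)) (tt N20370 F174188) (tt N21909 (iv F174850)))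
theorem Q21703 : ∀ i, i < 21703 → P i := stepQ 21702 Q21702 (allL N21702 (tt N22281 (iv F177093)) (tt N22807 (iv F179378)) (tt N20399 F174189) (tt N20234 F174190) (tt N22972 D38899) (tt N20233 (iv D37629)) (tt N20254 F174191) (tt N22907 (iv F179757)) (tt N21976 (iv F175262)) (tt N20246 F174192))
theorem Q21704 : ∀ i, i < 21704 → P i := stepQ 21703 Q21703 (allL N21703 (tt N22283 (iv F177106)) (tt N20398 F174193) (tt N20236 F174194) (tt N22973 D38900) (tt N20235 (iv D37630)) (tt N20393 F174195) (tt N21703 F174196) (tt N20400 F174197) (tt N20352 F174198) (tt N20392 F174199))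
theorem Q21705 : ∀ i, i < 21705 → P i := stepQ 21704 Q21704 (allL N21704 (tt N20243 F174200) (tt N22286 (iv F177130)) (tt N22107 (iv F176113)) (tt N20241 F174201) (tt N22927 (iv F179816)) (tt N22569 (iv F178498)) (tt N20240 (iv D37631)) (tt N22185 (iv F176581)) (tt N22133 (iv F176279)) (tt N22099 F176062))
theorem Q21706 : ∀ i, i < 21706 → P i := stepQ 21705 Q21705 (allL N21705 (tt N22569 (iv F178496)) (tt N20246 F174202) (tt N22814 (iv F179413)) (tt N20244 F174203) (tt N22974 D38901) (tt N20243 (iv D37632)) (tt N20255 F174204) (tt N22913 (iv F179774)) (tt N22010 (iv F175475)) (tt N22807 (iv F179384)))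
theorem Q21707 : ∀ i, i < 21707 → P i := stepQ 21706 Q21706 (allL N21706 (tt N22291 (iv F177152)) (tt N22974 (iv F179941)) (tt N20402 F174205) (tt N22971 (iv F179928)) (tt N20246 (iv D37633)) (tt N22935 (iv F179831)) (tt N20256 F174206) (tt N22970 (iv F179926)) (tt N22975 D38902) (tt N22972 (iv F179933)))
theorem Q21708 : ∀ i, i < 21708 → P i := stepQ 21707 Q21707 (allL N21707 (tt N22292 (iv F177155)) (tt N22010 (iv F175473)) (tt N20403 F174207) (tt N20248 F174208) (tt N22975 (iv F179946)) (tt N22926 (iv F179810)) (tt N20257 F174209) (tt N22925 (iv F179805)) (tt N20246 (iv D37634)) (tt N20371 (iv F174210)))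
theorem Q21709 : ∀ i, i < 21709 → P i := stepQ 21708 Q21708 (allL N21708 (tt N22293 (iv F177160)) (tt N22871 (iv F179640)) (tt N20404 F174211) (tt N20249 F174212) (tt N22976 D38903) (tt N20247 (iv D37635)) (tt N21708 F174213) (tt N21975 (iv F175252)) (tt N22926 (iv F179813)) (tt N22861 (iv F179604)))
theorem Q21710 : ∀ i, i < 21710 → P i := stepQ 21709 Q21709 (allL N21709 (tt N21918 (iv F174897)) (tt N20415 F174214) (tt N21921 (iv F174918)) (tt N20256 F174215) (tt N20252 (iv D37636)) (tt N21904 (iv F174813)) (tt N22971 (iv F179929)) (tt N21709 F174216) (tt N20425 F174217) (tt N21917 (iv F174896)))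
theorem Q21711 : ∀ i, i < 21711 → P i := stepQ 21710 Q21710 (allL N21710 (tt N22296 (iv F177179)) (tt N22838 (iv F179516)) (tt N20407 F174218) (tt N21917 (iv F174893)) (tt N20254 (iv D37637)) (tt N22581 (iv F178553)) (tt N22972 (iv F179932)) (tt N21710 F174219) (tt N21991 (iv F175351)) (tt N20256 F174220))
theorem Q21712 : ∀ i, i < 21712 → P i := stepQ 21711 Q21711 (allL N21711 (tt N22600 (iv F178654)) (tt N20256 F174221) (tt N22842 (iv F179534)) (tt N20415 F174222) (tt N20255 (iv D37638)) (tt N22652 (iv F178885)) (tt N22974 (iv F179943)) (tt N21711 F174223) (tt N21981 (iv F175293)) (tt N22838 (iv F179521)))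
theorem Q21713 : ∀ i, i < 21713 → P i := stepQ 21712 Q21712 (allL N21712 (tt N22297 (iv F177186)) (tt N21981 (iv F175290)) (tt N20408 F174224) (tt N20425 F174225) (tt N20257 F174226) (tt N22977 D38904) (tt N22975 (iv F179947)) (tt N21712 F174227) (tt N20256 (iv D37639)) (tt N20424 (iv F174228)))
theorem Q21714 : ∀ i, i < 21714 → P i := stepQ 21713 Q21713 (allL N21713 (tt N20271 F174229) (tt N22325 (iv F177385)) (tt N22501 (iv F178207)) (tt N22083 (iv F175948)) (tt N21898 (iv F174769)) (tt N20258 (iv D37640)) (tt N22313 (iv F177302)) (tt N22149 (iv F176366)) (tt N22978 D38905) (tt N20259 F174230))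
theorem Q21715 : ∀ i, i < 21715 → P i := stepQ 21714 Q21714 (allL N21714 (tt N20279 F174231) (tt N22335 (iv F177443)) (tt N22497 (iv F178193)) (tt N22796 (iv F179322)) (tt N22634 (iv F178824)) (tt N22496 (iv F178190)) (tt N22654 (iv F178894)) (tt N22635 (iv F178829)) (tt N20259 (iv D37641)) (tt N22979 D38906))
theorem Q21716 : ∀ i, i < 21716 → P i := stepQ 21715 Q21715 (allL N21715 (tt N22442 (iv F177946)) (tt N21880 (iv F174636)) (tt N20261 F174232) (tt N21911 (iv F174857)) (tt N21878 (iv F174625)) (tt N20260 (iv D37642)) (tt N22158 (iv F176427)) (tt N20278 F174233) (tt N22980 D38907) (tt N22883 (iv F179680)))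
theorem Q21717 : ∀ i, i < 21717 → P i := stepQ 21716 Q21716 (allL N21716 (tt N22635 (iv F178826)) (tt N20338 F174234) (tt N22980 (iv F179958)) (tt N22800 (iv F179342)) (tt N21879 (iv F174632)) (tt N22981 D38908) (tt N22159 (iv F176431)) (tt N20279 F174235) (tt N20261 (iv D37643)) (tt N22982 D38909))
theorem Q21718 : ∀ i, i < 21718 → P i := stepQ 21717 Q21717 (allL N21717 (tt N22440 (iv F177938)) (tt N20339 F174236) (tt N20311 F174237) (tt N22801 (iv F179346)) (tt N20334 F174238) (tt N20262 (iv D37644)) (tt N22041 (iv F175689)) (tt N20280 F174239) (tt N22981 (iv F179964)) (tt N21942 (iv F175066)))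
theorem Q21719 : ∀ i, i < 21719 → P i := stepQ 21718 Q21718 (allL N21718 (tt N22502 (iv F178209)) (tt N20375 F174240) (tt N21941 (iv F175055)) (tt N20264 F174241) (tt N20354 F174242) (tt N22983 D38910) (tt N20263 (iv D37645)) (tt N21877 (iv F174619)) (tt N20372 F174243) (tt N21906 (iv F174829)))
theorem Q21720 : ∀ i, i < 21720 → P i := stepQ 21719 Q21719 (allL N21719 (tt N22499 (iv F178199)) (tt N20380 F174244) (tt N20265 F174245) (tt N22983 (iv F179969)) (tt N20278 F174246) (tt N20264 (iv D37646)) (tt N22385 (iv F177716)) (tt N21878 (iv F174627)) (tt N22984 D38911) (tt N21907 (iv F174835)))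
theorem Q21721 : ∀ i, i < 21721 → P i := stepQ 21720 Q21720 (allL N21720 (tt N22634 (iv F178822)) (tt N20353 F174247) (tt N22984 (iv F179971)) (tt N21947 (iv F175100)) (tt N20279 F174248) (tt N22985 D38912) (tt N22389 (iv F177736)) (tt N21879 (iv F174634)) (tt N20265 (iv D37647)) (tt N22986 D38913))
theorem Q21722 : ∀ i, i < 21722 → P i := stepQ 21721 Q21721 (allL N21721 (tt N22541 (iv F178361)) (tt N20278 F174249) (tt N20373 F174250) (tt N21948 (iv F175105)) (tt N20380 F174251) (tt N20266 (iv D37648)) (tt N22669 (iv F178947)) (tt N21880 (iv F174640)) (tt N22985 (iv F179977)) (tt N22987 D38914))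
theorem Q21723 : ∀ i, i < 21723 → P i := stepQ 21722 Q21722 (allL N21722 (tt N22409 (iv F177811)) (tt N20270 F174252) (tt N20355 F174253) (tt N21949 (iv F175110)) (tt N20268 F174254) (tt N22987 (iv F179983)) (tt N20267 F174255) (tt N21881 (iv F174647)) (tt N21912 (iv F174865)) (tt N20266 (iv D37649)))
theorem Q21724 : ∀ i, i < 21724 → P i := stepQ 21723 Q21723 (allL N21723 (tt N22490 (iv F178163)) (tt N21949 (iv F175108)) (tt N22816 (iv F179426)) (tt N20270 F174256) (tt N20350 F174257) (tt N22988 D38915) (tt N20269 (iv D37650)) (tt N21912 (iv F174864)) (tt N21881 (iv F174648)) (tt N20277 F174258))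
theorem Q21725 : ∀ i, i < 21725 → P i := stepQ 21724 Q21724 (allL N21724 (tt N22501 (iv F178206)) (tt N22987 (iv F179980)) (tt N20271 F174259) (tt N22988 (iv F179984)) (tt N21907 (iv F174832)) (tt N20270 (iv D37651)) (tt N22377 (iv F177685)) (tt N22883 (iv F179679)) (tt N22989 D38916) (tt N20278 F174260))
theorem Q21726 : ∀ i, i < 21726 → P i := stepQ 21725 Q21725 (allL N21725 (tt N22978 (iv F179956)) (tt N20362 F174261) (tt N22989 (iv F179986)) (tt N22821 (iv F179458)) (tt N21910 (iv F174853)) (tt N22990 D38917) (tt N22378 (iv F177689)) (tt N22884 (iv F179684)) (tt N20271 (iv D37652)) (tt N22991 D38918))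
theorem Q21727 : ∀ i, i < 21727 → P i := stepQ 21726 Q21726 (allL N21726 (tt N22735 (iv F179138)) (tt N20363 F174262) (tt N21969 (iv F175221)) (tt N22822 (iv F179462)) (tt N22992 D38919) (tt N20272 (iv D37653)) (tt N22993 D38920) (tt N22885 (iv F179687)) (tt N22990 (iv F179988)) (tt N21961 (iv F175191)))
theorem Q21728 : ∀ i, i < 21728 → P i := stepQ 21727 Q21727 (allL N21727 (tt N22737 (iv F179145)) (tt N20365 F174263) (tt N21971 (iv F175228)) (tt N22823 (iv F179465)) (tt N20411 F174264) (tt N22993 (iv F179994)) (tt N20273 (iv D37654)) (tt N22994 D38921) (tt N22381 (iv F177697)) (tt N21962 (iv F175197)))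
theorem Q21729 : ∀ i, i < 21729 → P i := stepQ 21728 Q21728 (allL N21728 (tt N22738 (iv F179149)) (tt N20367 F174265) (tt N21972 (iv F175233)) (tt N22824 (iv F179469)) (tt N20412 F174266) (tt N22887 (iv F179694)) (tt N22994 (iv F179997)) (tt N20274 (iv D37655)) (tt N22365 (iv F177608)) (tt N21963 (iv F175203)))
theorem Q21730 : ∀ i, i < 21730 → P i := stepQ 21729 Q21729 (allL N21729 (tt N22740 (iv F179155)) (tt N20369 F174267) (tt N21974 (iv F175244)) (tt N22995 D38922) (tt N20275 (iv D37656)) (tt N22992 (iv F179992)) (tt N20413 F174268) (tt N22888 (iv F179698)) (tt N21915 (iv F174882)) (tt N21964 (iv F175209)))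
theorem Q21731 : ∀ i, i < 21731 → P i := stepQ 21730 Q21730 (allL N21730 (tt N22650 (iv F178871)) (tt N20371 F174269) (tt N22005 (iv F175438)) (tt N20276 (iv D37657)) (tt N22995 (iv F179999)) (tt N22826 (iv F179478)) (tt N20414 F174270) (tt N22889 (iv F179703)) (tt N21890 F174714) (tt N22010 (iv F175476)))
theorem Q21732 : ∀ i, i < 21732 → P i := stepQ 21731 Q21731 (allL N21731 (tt N22489 (iv F178161)) (tt N21948 (iv F175104)) (tt N22831 (iv F179501)) (tt N20278 F174271) (tt N22996 D38923) (tt N20277 (iv D37658)) (tt N22670 (iv F178949)) (tt N21911 (iv F174858)) (tt N22997 D38924) (tt N22988 (iv F179985)))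
theorem Q21733 : ∀ i, i < 21733 → P i := stepQ 21732 Q21732 (allL N21732 (tt N22497 (iv F178192)) (tt N22985 (iv F179974)) (tt N20279 F174272) (tt N22997 (iv F180002)) (tt N22984 (iv F179972)) (tt N20353 F174273) (tt N22671 (iv F178951)) (tt N22980 (iv F179960)) (tt N20278 (iv D37659)) (tt N22998 D38925))
theorem Q21734 : ∀ i, i < 21734 → P i := stepQ 21733 Q21733 (allL N21733 (tt N22496 (iv F178187)) (tt N20384 F174274) (tt N20353 F174275) (tt N22835 (iv F179509)) (tt N20379 (iv F174277)) (tt N20279 (iv D37660)) (tt N22506 (iv F178237)) (tt N22981 (iv F179963)) (tt N20280 F174276) (tt N22999 D38926))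
theorem Q21735 : ∀ i, i < 21735 → P i := stepQ 21734 Q21734 (allL N21734 (tt N22979 (iv F179957)) (tt N20385 F174278) (tt N22998 (iv F180004)) (tt N22836 (iv F179512)) (tt N22986 (iv F179979)) (tt N22999 (iv F180009)) (tt N22673 (iv F178955)) (tt N22982 (iv F179967)) (tt N22991 (iv F179990)) (tt N20279 (iv D37661)))
theorem Q21736 : ∀ i, i < 21736 → P i := stepQ 21735 Q21735 (allL N21735 (tt N22363 (iv F177591)) (tt N20284 F174279) (tt N21883 (iv F174657)) (tt N22819 (iv F179445)) (tt N20282 F174280) (tt N20312 F174281) (tt N23000 D38927) (tt N20281 (iv D37662)) (tt N22812 (iv F179406)) (tt N20292 F174282))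
theorem Q21737 : ∀ i, i < 21737 → P i := stepQ 21736 Q21736 (allL N21736 (tt N22611 (iv F178716)) (tt N20285 F174283) (tt N21887 (iv F174688)) (tt N21736 F174284) (tt N23000 (iv F180011)) (tt N20441 F174285) (tt N20282 (iv D37663)) (tt N22014 (iv F175503)) (tt N22841 (iv F179532)) (tt N20293 F174286))
theorem Q21738 : ∀ i, i < 21738 → P i := stepQ 21737 Q21737 (allL N21737 (tt N22021 (iv F175551)) (tt N22819 (iv F179443)) (tt N22300 (iv F177210)) (tt N20284 F174287) (tt N21737 F174288) (tt N20314 F174289) (tt N23001 D38928) (tt N20283 (iv D37664)) (tt N22887 (iv F179695)) (tt N20294 F174290))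
theorem Q21739 : ∀ i, i < 21739 → P i := stepQ 21738 Q21738 (allL N21738 (tt N22023 (iv F175566)) (tt N23000 (iv F180010)) (tt N20286 F174291) (tt N23001 (iv F180013)) (tt N20285 F174292) (tt N23002 D38929) (tt N20284 (iv D37665)) (tt N22016 (iv F175517)) (tt N22900 (iv F179731)) (tt N20296 F174293))
theorem Q21740 : ∀ i, i < 21740 → P i := stepQ 21739 Q21739 (allL N21739 (tt N22029 (iv F175606)) (tt N22155 (iv F176404)) (tt N23002 (iv F180016)) (tt N22304 (iv F177237)) (tt N21931 (iv F174990)) (tt N20286 (iv D37666)) (tt N20320 F174294) (tt N22017 (iv F175525)) (tt N23003 D38930) (tt N20301 F174295))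
theorem Q21741 : ∀ i, i < 21741 → P i := stepQ 21740 Q21740 (allL N21740 (tt N22030 (iv F175613)) (tt N22156 (iv F176411)) (tt N22900 (iv F179728)) (tt N22305 (iv F177244)) (tt N20289 F174296) (tt N23004 D38931) (tt N20287 F174297) (tt N22018 (iv F175533)) (tt N20286 (iv D37667)) (tt N22703 (iv F179058)))
theorem Q21742 : ∀ i, i < 21742 → P i := stepQ 21741 Q21741 (allL N21741 (tt N22031 (iv F175619)) (tt N22015 (iv F175507)) (tt N22824 (iv F179468)) (tt N22013 (iv F175493)) (tt N21741 F174298) (tt N20287 (iv D37668)) (tt N23005 D38932) (tt N20288 F174299) (tt N20322 F174300) (tt N22682 (iv F178981)))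
theorem Q21743 : ∀ i, i < 21743 → P i := stepQ 21742 Q21742 (allL N21742 (tt N22035 (iv F175647)) (tt N22157 (iv F176418)) (tt N22958 (iv F179880)) (tt N20290 F174301) (tt N23006 D38933) (tt N20289 (iv D37669)) (tt N21742 F174302) (tt N22019 (iv F175540)) (tt N21937 (iv F175033)) (tt N22777 (iv F179267)))
theorem Q21744 : ∀ i, i < 21744 → P i := stepQ 21743 Q21743 (allL N21743 (tt N22623 (iv F178781)) (tt N20294 F174303) (tt N21958 (iv F175169)) (tt N20292 F174304) (tt N21743 F174305) (tt N20330 F174306) (tt N23007 D38934) (tt N20291 (iv D37670)) (tt N22215 (iv F176733)) (tt N22819 (iv F179449)))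
theorem Q21745 : ∀ i, i < 21745 → P i := stepQ 21744 Q21744 (allL N21744 (tt N22624 (iv F178787)) (tt N20296 F174307) (tt N21882 (iv F174651)) (tt N23007 (iv F180024)) (tt N20293 F174308) (tt N23008 D38935) (tt N20292 (iv D37671)) (tt N22683 (iv F178984)) (tt N22222 (iv F176768)) (tt N23000 (iv F180012)))
theorem Q21746 : ∀ i, i < 21746 → P i := stepQ 21745 Q21745 (allL N21745 (tt N22422 (iv F177873)) (tt N23007 (iv F180023)) (tt N22845 (iv F179546)) (tt N20296 F174309) (tt N21745 F174310) (tt N23009 D38936) (tt N20294 (iv D37672)) (tt N22684 (iv F178987)) (tt N23010 D38937) (tt N23001 (iv F180015)))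
theorem Q21747 : ∀ i, i < 21747 → P i := stepQ 21746 Q21746 (allL N21746 (tt N22423 (iv F177876)) (tt N22215 (iv F176728)) (tt N22846 (iv F179549)) (tt N20297 F174311) (tt N21746 F174312) (tt N22207 (iv F176695)) (tt N23010 (iv F180033)) (tt N20295 F174313) (tt N20294 (iv D37673)) (tt N23011 D38938))
theorem Q21748 : ∀ i, i < 21748 → P i := stepQ 21747 Q21747 (allL N21747 (tt N22119 (iv F176188)) (tt N22218 (iv F176749)) (tt N21935 (iv F175014)) (tt N20298 F174314) (tt N21747 F174315) (tt N22111 (iv F176144)) (tt N21927 (iv F174965)) (tt N23011 (iv F180036)) (tt N21945 (iv F175088)) (tt N20295 (iv D37674)))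
theorem Q21749 : ∀ i, i < 21749 → P i := stepQ 21748 Q21748 (allL N21748 (tt N22424 (iv F177880)) (tt N23008 (iv F180026)) (tt N20301 F174316) (tt N23009 (iv F180029)) (tt N22041 (iv F175688)) (tt N20296 (iv D37675)) (tt N20334 F174317) (tt N22686 (iv F178993)) (tt N23012 D38939) (tt N23002 (iv F180018)))
theorem Q21750 : ∀ i, i < 21750 → P i := stepQ 21749 Q21749 (allL N21749 (tt N22425 (iv F177883)) (tt N22222 (iv F176765)) (tt N20302 F174318) (tt N23010 (iv F180031)) (tt N20299 F174319) (tt N23013 D38940) (tt N20297 F174320) (tt N22687 (iv F178997)) (tt N20296 (iv D37676)) (tt N23014 D38941))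
theorem Q21751 : ∀ i, i < 21751 → P i := stepQ 21750 Q21750 (allL N21750 (tt N22426 (iv F177887)) (tt N22223 (iv F176770)) (tt N20304 F174321) (tt N23011 (iv F180034)) (tt N20300 F174322) (tt N22210 (iv F176707)) (tt N23014 (iv F180042)) (tt N20298 F174323) (tt N22702 (iv F179051)) (tt N20297 (iv D37677)))
theorem Q21752 : ∀ i, i < 21752 → P i := stepQ 21751 Q21751 (allL N21751 (tt N22427 (iv F177891)) (tt N22248 (iv F176890)) (tt N20307 F174324) (tt N21751 F174325) (tt N23015 D38942) (tt N20299 (iv D37678)) (tt N20426 F174326) (tt N22690 (iv F179009)) (tt N22044 (iv F175707)) (tt N23016 D38943))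
theorem Q21753 : ∀ i, i < 21753 → P i := stepQ 21752 Q21752 (allL N21752 (tt N22428 (iv F177896)) (tt N22250 (iv F176902)) (tt N20308 F174327) (tt N21752 F174328) (tt N23014 (iv F180041)) (tt N23016 (iv F180047)) (tt N20300 F174329) (tt N22691 (iv F179013)) (tt N22776 (iv F179261)) (tt N20299 (iv D37679)))
theorem Q21754 : ∀ i, i < 21754 → P i := stepQ 21753 Q21753 (allL N21753 (tt N22429 (iv F177900)) (tt N22159 (iv F176429)) (tt N23012 (iv F180037)) (tt N22851 (iv F179567)) (tt N22046 (iv F175715)) (tt N23017 D38944) (tt N20338 F174330) (tt N22692 (iv F179016)) (tt N20301 (iv D37680)) (tt N23018 D38945))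
theorem Q21755 : ∀ i, i < 21755 → P i := stepQ 21754 Q21754 (allL N21754 (tt N22430 (iv F177902)) (tt N22160 (iv F176433)) (tt N23013 (iv F180039)) (tt N22852 (iv F179569)) (tt N23019 D38946) (tt N20302 (iv D37681)) (tt N23020 D38947) (tt N22693 (iv F179017)) (tt N23017 (iv F180049)) (tt N23021 D38948))
theorem Q21756 : ∀ i, i < 21756 → P i := stepQ 21755 Q21755 (allL N21755 (tt N22431 (iv F177903)) (tt N22161 (iv F176435)) (tt N23014 (iv F180040)) (tt N22705 (iv F179063)) (tt N20308 F174331) (tt N23021 (iv F180053)) (tt N20304 F174332) (tt N22694 (iv F179022)) (tt N22703 (iv F179057)) (tt N20302 (iv D37682)))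
theorem Q21757 : ∀ i, i < 21757 → P i := stepQ 21756 Q21756 (allL N21756 (tt N22432 (iv F177906)) (tt N22042 (iv F175691)) (tt N22209 (iv F176701)) (tt N22853 (iv F179570)) (tt N20430 F174333) (tt N23020 (iv F180052)) (tt N20303 (iv D37683)) (tt N23022 D38949) (tt N20341 F174334) (tt N23023 D38950))
theorem Q21758 : ∀ i, i < 21758 → P i := stepQ 21757 Q21757 (allL N21757 (tt N22433 (iv F177909)) (tt N22043 (iv F175696)) (tt N22210 (iv F176705)) (tt N22706 (iv F179069)) (tt N20431 F174335) (tt N20304 F174336) (tt N23023 (iv F180058)) (tt N20306 F174337) (tt N23024 D38951) (tt N20303 (iv D37684)))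
theorem Q21759 : ∀ i, i < 21759 → P i := stepQ 21758 Q21758 (allL N21758 (tt N22434 (iv F177913)) (tt N22024 (iv F175573)) (tt N22118 (iv F176185)) (tt N22854 (iv F179573)) (tt N20432 F174338) (tt N22696 (iv F179027)) (tt N23022 (iv F180055)) (tt N20305 (iv D37685)) (tt N20343 F174339) (tt N23025 D38952))
theorem Q21760 : ∀ i, i < 21760 → P i := stepQ 21759 Q21759 (allL N21759 (tt N22205 (iv F176681)) (tt N22026 (iv F175586)) (tt N22120 (iv F176198)) (tt N22069 (iv F175855)) (tt N20433 F174340) (tt N22066 F175840) (tt N20306 F174341) (tt N23025 (iv F180063)) (tt N22125 (iv F176232)) (tt N20305 (iv D37686)))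
theorem Q21761 : ∀ i, i < 21761 → P i := stepQ 21760 Q21760 (allL N21760 (tt N22114 (iv F176160)) (tt N21928 (iv F174967)) (tt N22109 F176132) (tt N22130 (iv F176256)) (tt N20434 F174342) (tt N22217 (iv F176745)) (tt N22125 F176234) (tt N23024 (iv F180060)) (tt N20306 (iv D37687)) (tt N20344 F174343))
theorem Q21762 : ∀ i, i < 21762 → P i := stepQ 21761 Q21761 (allL N21761 (tt N22435 (iv F177916)) (tt N22162 (iv F176443)) (tt N23015 (iv F180043)) (tt N23026 D38953) (tt N20307 (iv D37688)) (tt N23019 (iv F180051)) (tt N20435 F174344) (tt N22697 (iv F179030)) (tt N22051 (iv F175740)) (tt N23027 D38954))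
theorem Q21763 : ∀ i, i < 21763 → P i := stepQ 21762 Q21762 (allL N21762 (tt N22436 (iv F177918)) (tt N22163 (iv F176447)) (tt N23016 (iv F180045)) (tt N20310 F174345) (tt N23027 (iv F180066)) (tt N20308 F174346) (tt N20436 F174347) (tt N22698 (iv F179035)) (tt N23028 D38955) (tt N20307 (iv D37689)))
theorem Q21764 : ∀ i, i < 21764 → P i := stepQ 21763 Q21763 (allL N21763 (tt N22437 (iv F177922)) (tt N22164 (iv F176454)) (tt N23029 D38956) (tt N20309 (iv D37690)) (tt N23026 (iv F180064)) (tt N22856 (iv F179577)) (tt N20437 F174348) (tt N22699 (iv F179037)) (tt N22053 (iv F175750)) (tt N23030 D38957))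
theorem Q21765 : ∀ i, i < 21765 → P i := stepQ 21764 Q21764 (allL N21764 (tt N22438 (iv F177926)) (tt N22165 (iv F176458)) (tt N21764 F174349) (tt N23030 (iv F180072)) (tt N20310 F174350) (tt N22772 (iv F179248)) (tt N20438 F174351) (tt N22700 (iv F179043)) (tt N22260 (iv F176957)) (tt N20309 (iv D37691)))
theorem Q21766 : ∀ i, i < 21766 → P i := stepQ 21765 Q21765 (allL N21765 (tt N22439 (iv F177932)) (tt N22166 (iv F176466)) (tt N21765 F174352) (tt N23028 (iv F180068)) (tt N22260 (iv F176954)) (tt N22778 (iv F179271)) (tt N20439 F174353) (tt N22701 (iv F179048)) (tt N20310 (iv D37692)) (tt N22054 (iv F175757)))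
theorem Q21767 : ∀ i, i < 21767 → P i := stepQ 21766 Q21766 (allL N21766 (tt N22441 (iv F177943)) (tt N21879 (iv F174630)) (tt N22981 (iv F179962)) (tt N21910 (iv F174852)) (tt N20338 F174354) (tt N22980 (iv F179959)) (tt N22046 (iv F175716)) (tt N20353 F174355) (tt N20311 (iv D37693)) (tt N23031 D38958))
theorem Q21768 : ∀ i, i < 21768 → P i := stepQ 21767 Q21767 (allL N21767 (tt N22415 (iv F177835)) (tt N20315 F174356) (tt N21881 (iv F174643)) (tt N22818 (iv F179438)) (tt N20313 F174357) (tt N23032 D38959) (tt N20312 (iv D37694)) (tt N20355 F174358) (tt N22816 (iv F179430)) (tt N20331 F174359))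
theorem Q21769 : ∀ i, i < 21769 → P i := stepQ 21768 Q21768 (allL N21768 (tt N22443 (iv F177951)) (tt N22818 (iv F179436)) (tt N22804 (iv F179361)) (tt N20315 F174360) (tt N20390 F174361) (tt N23033 D38960) (tt N20314 (iv D37695)) (tt N20356 F174362) (tt N22815 (iv F179423)) (tt N20332 F174363))
theorem Q21770 : ∀ i, i < 21770 → P i := stepQ 21769 Q21769 (allL N21769 (tt N22445 (iv F177964)) (tt N23032 (iv F180076)) (tt N20320 F174364) (tt N23033 (iv F180080)) (tt N21942 (iv F175064)) (tt N20315 (iv D37696)) (tt N23002 (iv F180017)) (tt N20357 F174365) (tt N23034 D38961) (tt N20334 F174366))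
theorem Q21771 : ∀ i, i < 21771 → P i := stepQ 21770 Q21770 (allL N21770 (tt N22446 (iv F177970)) (tt N22816 (iv F179425)) (tt N20321 F174367) (tt N22815 (iv F179420)) (tt N20318 F174368) (tt N23035 D38962) (tt N20316 F174369) (tt N20358 F174370) (tt N20315 (iv D37697)) (tt N22828 (iv F179491)))
theorem Q21772 : ∀ i, i < 21772 → P i := stepQ 21771 Q21771 (allL N21771 (tt N22447 (iv F177976)) (tt N22367 (iv F177618)) (tt N20322 F174371) (tt N22365 (iv F177605)) (tt N21771 F174372) (tt N20316 (iv D37698)) (tt N23036 D38963) (tt N20317 F174373) (tt N22824 (iv F179472)) (tt N22626 (iv F178801)))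
theorem Q21773 : ∀ i, i < 21773 → P i := stepQ 21772 Q21772 (allL N21772 (tt N22449 (iv F177988)) (tt N22969 (iv F179917)) (tt N20326 F174374) (tt N20392 F174375) (tt N23037 D38964) (tt N20318 (iv D37699)) (tt N21772 F174376) (tt N20360 F174377) (tt N21946 (iv F175096)) (tt N22973 (iv F179940)))
theorem Q21774 : ∀ i, i < 21774 → P i := stepQ 21773 Q21773 (allL N21773 (tt N22450 (iv F177995)) (tt N20347 F174378) (tt N20327 F174379) (tt N20393 F174380) (tt N22828 (iv F179488)) (tt N22973 (iv F179936)) (tt N20319 F174381) (tt N20361 F174382) (tt N20337 F174383) (tt N20318 (iv D37700)))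
theorem Q21775 : ∀ i, i < 21775 → P i := stepQ 21774 Q21774 (allL N21774 (tt N22451 (iv F178002)) (tt N22884 (iv F179681)) (tt N23034 (iv F180083)) (tt N22808 (iv F179386)) (tt N21947 (iv F175101)) (tt N23038 D38965) (tt N23003 (iv F180019)) (tt N20362 F174384) (tt N20320 (iv D37701)) (tt N23039 D38966))
theorem Q21776 : ∀ i, i < 21776 → P i := stepQ 21775 Q21775 (allL N21775 (tt N22452 (iv F178005)) (tt N22885 (iv F179685)) (tt N23035 (iv F180085)) (tt N22809 (iv F179390)) (tt N23040 D38967) (tt N20321 (iv D37702)) (tt N23041 D38968) (tt N20363 F174385) (tt N23038 (iv F180093)) (tt N23042 D38969))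
theorem Q21777 : ∀ i, i < 21777 → P i := stepQ 21776 Q21776 (allL N21776 (tt N22453 (iv F178007)) (tt N21943 (iv F175068)) (tt N22828 (iv F179486)) (tt N22810 (iv F179394)) (tt N20327 F174386) (tt N23042 (iv F180099)) (tt N20323 F174387) (tt N20364 F174388) (tt N20340 F174389) (tt N20321 (iv D37703)))
theorem Q21778 : ∀ i, i < 21778 → P i := stepQ 21777 Q21777 (allL N21777 (tt N22454 (iv F178012)) (tt N22886 (iv F179688)) (tt N23036 (iv F180087)) (tt N22811 (iv F179400)) (tt N21777 F174390) (tt N23041 (iv F180098)) (tt N20322 (iv D37704)) (tt N23043 D38970) (tt N23005 (iv F180021)) (tt N23044 D38971))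
theorem Q21779 : ∀ i, i < 21779 → P i := stepQ 21778 Q21778 (allL N21778 (tt N22455 (iv F178014)) (tt N21944 (iv F175076)) (tt N22626 (iv F178797)) (tt N22636 (iv F178832)) (tt N21778 F174391) (tt N20323 F174392) (tt N23044 (iv F180104)) (tt N20325 F174393) (tt N23045 D38972) (tt N20322 (iv D37705)))
theorem Q21780 : ∀ i, i < 21780 → P i := stepQ 21779 Q21779 (allL N21779 (tt N22456 (iv F178018)) (tt N22887 (iv F179691)) (tt N22371 (iv F177647)) (tt N22812 (iv F179403)) (tt N21779 F174394) (tt N20367 F174395) (tt N23043 (iv F180102)) (tt N20324 (iv D37706)) (tt N22819 (iv F179448)) (tt N23046 D38973))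
theorem Q21781 : ∀ i, i < 21781 → P i := stepQ 21780 Q21780 (allL N21780 (tt N22399 (iv F177773)) (tt N21945 (iv F175083)) (tt N22306 (iv F177251)) (tt N22226 (iv F176791)) (tt N21780 F174396) (tt N20368 F174397) (tt N20325 F174398) (tt N23046 (iv F180110)) (tt N22218 (iv F176755)) (tt N20324 (iv D37707)))
theorem Q21782 : ∀ i, i < 21782 → P i := stepQ 21781 Q21781 (allL N21781 (tt N22345 (iv F177502)) (tt N21927 (iv F174959)) (tt N22173 (iv F176508)) (tt N22225 (iv F176783)) (tt N21781 F174399) (tt N20344 F174400) (tt N22218 (iv F176754)) (tt N23045 (iv F180107)) (tt N20325 (iv D37708)) (tt N22217 F176747))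
theorem Q21783 : ∀ i, i < 21783 → P i := stepQ 21782 Q21782 (allL N21782 (tt N22457 (iv F178022)) (tt N22888 (iv F179696)) (tt N23037 (iv F180089)) (tt N23047 D38974) (tt N20326 (iv D37709)) (tt N23040 (iv F180096)) (tt N21782 F174401) (tt N20369 F174402) (tt N21954 (iv F175145)) (tt N23048 D38975))
theorem Q21784 : ∀ i, i < 21784 → P i := stepQ 21783 Q21783 (allL N21783 (tt N22458 (iv F178026)) (tt N21946 (iv F175091)) (tt N22973 (iv F179935)) (tt N20329 F174403) (tt N23048 (iv F180115)) (tt N20327 F174404) (tt N21783 F174405) (tt N20370 F174406) (tt N22969 (iv F179922)) (tt N20326 (iv D37710)))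
theorem Q21785 : ∀ i, i < 21785 → P i := stepQ 21784 Q21784 (allL N21784 (tt N22459 (iv F178031)) (tt N22889 (iv F179700)) (tt N22926 (iv F179808)) (tt N20328 (iv D37711)) (tt N23047 (iv F180111)) (tt N20403 F174407) (tt N21784 F174408) (tt N20371 F174409) (tt N20404 F174410) (tt N22925 F179807))
theorem Q21786 : ∀ i, i < 21786 → P i := stepQ 21785 Q21785 (allL N21785 (tt N22481 (iv F178121)) (tt N20332 F174411) (tt N21957 (iv F175161)) (tt N20331 F174412) (tt N20345 F174413) (tt N23049 D38976) (tt N20330 (iv D37712)) (tt N20372 F174414) (tt N21877 (iv F174620)) (tt N22818 (iv F179442)))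
theorem Q21787 : ∀ i, i < 21787 → P i := stepQ 21786 Q21786 (allL N21786 (tt N22475 (iv F178102)) (tt N20334 F174415) (tt N21880 (iv F174637)) (tt N23049 (iv F180119)) (tt N20339 F174416) (tt N20331 (iv D37713)) (tt N23008 (iv F180028)) (tt N20373 F174417) (tt N23050 D38977) (tt N23032 (iv F180079)))
theorem Q21788 : ∀ i, i < 21788 → P i := stepQ 21787 Q21787 (allL N21787 (tt N22467 (iv F178071)) (tt N23049 (iv F180118)) (tt N22862 (iv F179605)) (tt N20334 F174418) (tt N23051 D38978) (tt N20332 (iv D37714)) (tt N23009 (iv F180030)) (tt N20374 F174419) (tt N23052 D38979) (tt N23033 (iv F180082)))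
theorem Q21789 : ∀ i, i < 21789 → P i := stepQ 21788 Q21788 (allL N21788 (tt N22468 (iv F178074)) (tt N21877 (iv F174615)) (tt N22863 (iv F179609)) (tt N20335 F174420) (tt N20395 F174421) (tt N23053 D38980) (tt N20333 F174422) (tt N20375 F174423) (tt N20332 (iv D37715)) (tt N22830 (iv F179500)))
theorem Q21790 : ∀ i, i < 21790 → P i := stepQ 21789 Q21789 (allL N21789 (tt N22470 (iv F178085)) (tt N23050 (iv F180121)) (tt N20338 F174424) (tt N23052 (iv F180126)) (tt N22981 F179965) (tt N23054 D38981) (tt N23012 (iv F180038)) (tt N20379 F174425) (tt N20334 (iv D37716)) (tt N23055 D38982))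
theorem Q21791 : ∀ i, i < 21791 → P i := stepQ 21790 Q21790 (allL N21790 (tt N22471 (iv F178088)) (tt N21878 (iv F174623)) (tt N20339 F174426) (tt N23053 (iv F180128)) (tt N21880 (iv F174639)) (tt N20335 (iv D37717)) (tt N22208 (iv F176699)) (tt N20380 F174427) (tt N23054 (iv F180132)) (tt N23056 D38983))
theorem Q21792 : ∀ i, i < 21792 → P i := stepQ 21791 Q21791 (allL N21791 (tt N22472 (iv F178092)) (tt N20346 F174428) (tt N20340 F174429) (tt N22830 (iv F179496)) (tt N20337 F174430) (tt N23056 (iv F180137)) (tt N20336 F174431) (tt N20381 F174432) (tt N22828 (iv F179490)) (tt N20335 (iv D37718)))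
theorem Q21793 : ∀ i, i < 21793 → P i := stepQ 21792 Q21792 (allL N21792 (tt N22473 (iv F178097)) (tt N22981 (iv F179961)) (tt N23054 (iv F180130)) (tt N22872 (iv F179646)) (tt N23050 (iv F180122)) (tt N20338 (iv D37719)) (tt N23057 D38984) (tt N20384 F174433) (tt N20339 F174434) (tt N23058 D38985))
theorem Q21794 : ∀ i, i < 21794 → P i := stepQ 21793 Q21793 (allL N21793 (tt N22474 (iv F178100)) (tt N22982 (iv F179966)) (tt N23055 (iv F180133)) (tt N22873 (iv F179649)) (tt N23031 (iv F180074)) (tt N23058 (iv F180140)) (tt N23018 (iv F180050)) (tt N20385 F174435) (tt N23039 (iv F180095)) (tt N20338 (iv D37720)))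
theorem Q21795 : ∀ i, i < 21795 → P i := stepQ 21794 Q21794 (allL N21794 (tt N22476 (iv F178106)) (tt N22041 (iv F175686)) (tt N22208 (iv F176698)) (tt N22875 (iv F179653)) (tt N23008 (iv F180027)) (tt N20341 F174436) (tt N20339 (iv D37721)) (tt N23059 D38986) (tt N23057 (iv F180139)) (tt N23060 D38987))
theorem Q21796 : ∀ i, i < 21796 → P i := stepQ 21795 Q21795 (allL N21795 (tt N22477 (iv F178108)) (tt N21942 (iv F175062)) (tt N23056 (iv F180136)) (tt N22876 (iv F179655)) (tt N23032 (iv F180077)) (tt N20340 F174437) (tt N23060 (iv F180145)) (tt N20387 F174438) (tt N23061 D38988) (tt N20339 (iv D37722)))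
theorem Q21797 : ∀ i, i < 21797 → P i := stepQ 21796 Q21796 (allL N21796 (tt N22478 (iv F178111)) (tt N22023 (iv F175567)) (tt N22117 (iv F176181)) (tt N22877 (iv F179658)) (tt N20440 F174439) (tt N23059 (iv F180142)) (tt N20343 F174440) (tt N20341 (iv D37723)) (tt N23022 (iv F180056)) (tt N22419 (iv F177862)))
theorem Q21798 : ∀ i, i < 21798 → P i := stepQ 21797 Q21797 (allL N21797 (tt N22479 (iv F178114)) (tt N21925 (iv F174948)) (tt N22171 (iv F176499)) (tt N22878 (iv F179661)) (tt N20441 F174441) (tt N23060 (iv F180144)) (tt N20342 F174442) (tt N22419 (iv F177861)) (tt N23062 D38989) (tt N20341 (iv D37724)))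
theorem Q21799 : ∀ i, i < 21799 → P i := stepQ 21798 Q21798 (allL N21798 (tt N22480 (iv F178117)) (tt N21926 (iv F174954)) (tt N22172 (iv F176503)) (tt N22879 (iv F179664)) (tt N20442 F174443) (tt N23045 (iv F180106)) (tt N23062 (iv F180148)) (tt N20344 F174444) (tt N20342 (iv D37725)) (tt N23024 (iv F180061)))
theorem Q21800 : ∀ i, i < 21800 → P i := stepQ 21799 Q21799 (allL N21799 (tt N22485 (iv F178143)) (tt N23056 (iv F180135)) (tt N20348 F174445) (tt N22833 (iv F179505)) (tt N22883 (iv F179678)) (tt N20346 (iv D37726)) (tt N22178 (iv F176539)) (tt N21907 (iv F174834)) (tt N23063 D38990) (tt N21878 (iv F174628)))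
theorem Q21801 : ∀ i, i < 21801 → P i := stepQ 21800 Q21800 (allL N21800 (tt N22487 (iv F178152)) (tt N22973 (iv F179934)) (tt N20349 F174446) (tt N20398 F174447) (tt N23064 D38991) (tt N20347 (iv D37727)) (tt N21800 F174448) (tt N21909 (iv F174848)) (tt N21955 F175153) (tt N22969 (iv F179923)))
theorem Q21802 : ∀ i, i < 21802 → P i := stepQ 21801 Q21801 (allL N21801 (tt N22488 (iv F178158)) (tt N21947 (iv F175099)) (tt N23063 (iv F180149)) (tt N20353 F174449) (tt N22884 (iv F179683)) (tt N22997 (iv F180003)) (tt N22186 (iv F176585)) (tt N21910 (iv F174855)) (tt N20348 (iv D37728)) (tt N23065 D38992))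
theorem Q21803 : ∀ i, i < 21803 → P i := stepQ 21802 Q21802 (allL N21802 (tt N22492 (iv F178172)) (tt N21954 (iv F175141)) (tt N23064 (iv F180150)) (tt N23066 D38993) (tt N20349 (iv D37729)) (tt N22996 (iv F180001)) (tt N21802 F174450) (tt N21915 (iv F174881)) (tt N22888 (iv F179699)) (tt N23067 D38994))
theorem Q21804 : ∀ i, i < 21804 → P i := stepQ 21803 Q21803 (allL N21803 (tt N22493 (iv F178174)) (tt N21955 (iv F175147)) (tt N22969 (iv F179918)) (tt N20352 F174451) (tt N23067 (iv F180156)) (tt N20350 F174452) (tt N21803 F174453) (tt N21916 (iv F174888)) (tt N22973 (iv F179939)) (tt N20349 (iv D37730)))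
theorem Q21805 : ∀ i, i < 21805 → P i := stepQ 21804 Q21804 (allL N21804 (tt N22494 (iv F178178)) (tt N20404 F174454) (tt N22001 (iv F175410)) (tt N20351 (iv D37731)) (tt N23066 (iv F180154)) (tt N20354 F174455) (tt N21804 F174456) (tt N21890 (iv F174712)) (tt N22889 (iv F179704)) (tt N22799 (iv F179340)))
theorem Q21806 : ∀ i, i < 21806 → P i := stepQ 21805 Q21805 (allL N21805 (tt N22498 (iv F178195)) (tt N22986 (iv F179978)) (tt N22999 (iv F180007)) (tt N23065 (iv F180152)) (tt N20385 F174457) (tt N22998 (iv F180005)) (tt N22512 (iv F178263)) (tt N23031 (iv F180075)) (tt N21966 (iv F175215)) (tt N20353 (iv D37732)))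
theorem Q21807 : ∀ i, i < 21807 → P i := stepQ 21806 Q21806 (allL N21806 (tt N22413 (iv F177825)) (tt N20357 F174458) (tt N22987 (iv F179981)) (tt N22893 (iv F179714)) (tt N20387 F174459) (tt N20355 (iv D37733)) (tt N22336 (iv F177447)) (tt N23032 (iv F180078)) (tt N23068 D38995) (tt N20373 F174460))
theorem Q21808 : ∀ i, i < 21808 → P i := stepQ 21807 Q21807 (allL N21807 (tt N22503 (iv F178215)) (tt N22893 (iv F179712)) (tt N22908 (iv F179760)) (tt N20357 F174461) (tt N23069 D38996) (tt N20356 (iv D37734)) (tt N22495 (iv F178185)) (tt N23033 (iv F180081)) (tt N23070 D38997) (tt N20374 F174462))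
theorem Q21809 : ∀ i, i < 21809 → P i := stepQ 21808 Q21808 (allL N21808 (tt N22506 (iv F178233)) (tt N23068 (iv F180158)) (tt N20362 F174463) (tt N23070 (iv F180162)) (tt N21960 (iv F175186)) (tt N23071 D38998) (tt N22496 (iv F178191)) (tt N23034 (iv F180084)) (tt N20357 (iv D37735)) (tt N23072 D38999))
theorem Q21810 : ∀ i, i < 21810 → P i := stepQ 21809 Q21809 (allL N21809 (tt N22507 (iv F178238)) (tt N22891 (iv F179708)) (tt N20363 F174464) (tt N22890 (iv F179706)) (tt N23073 D39000) (tt N20358 (iv D37736)) (tt N22655 (iv F178897)) (tt N23035 (iv F180086)) (tt N23071 (iv F180164)) (tt N23074 D39001))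
theorem Q21811 : ∀ i, i < 21811 → P i := stepQ 21810 Q21810 (allL N21810 (tt N22508 (iv F178242)) (tt N21908 (iv F174836)) (tt N20364 F174465) (tt N22797 (iv F179325)) (tt N20361 F174466) (tt N23074 (iv F180170)) (tt N20359 F174467) (tt N22828 (iv F179489)) (tt N20381 F174468) (tt N20358 (iv D37737)))
theorem Q21812 : ∀ i, i < 21812 → P i := stepQ 21811 Q21811 (allL N21811 (tt N22509 (iv F178248)) (tt N22971 (iv F179927)) (tt N20369 F174469) (tt N22974 (iv F179942)) (tt N20360 (iv D37738)) (tt N23073 (iv F180168)) (tt N20415 F174470) (tt N23037 (iv F180091)) (tt N21964 (iv F175208)) (tt N23075 D39002))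
theorem Q21813 : ∀ i, i < 21813 → P i := stepQ 21812 Q21812 (allL N21812 (tt N22510 (iv F178253)) (tt N21909 (iv F174844)) (tt N20370 F174471) (tt N20400 F174472) (tt N23075 (iv F180172)) (tt N20361 F174473) (tt N20416 F174474) (tt N22973 (iv F179938)) (tt N21916 (iv F174889)) (tt N20360 (iv D37739)))
theorem Q21814 : ∀ i, i < 21814 → P i := stepQ 21813 Q21813 (allL N21813 (tt N22511 (iv F178259)) (tt N22990 (iv F179987)) (tt N23071 (iv F180163)) (tt N22914 (iv F179775)) (tt N23076 D39003) (tt N20362 (iv D37740)) (tt N23077 D39004) (tt N23038 (iv F180092)) (tt N20363 F174475) (tt N23078 D39005))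
theorem Q21815 : ∀ i, i < 21815 → P i := stepQ 21814 Q21814 (allL N21814 (tt N22512 (iv F178261)) (tt N22991 (iv F179989)) (tt N23072 (iv F180165)) (tt N22915 (iv F179777)) (tt N21966 (iv F175213)) (tt N23078 (iv F180176)) (tt N22498 (iv F178197)) (tt N23039 (iv F180094)) (tt N20385 F174476) (tt N20362 (iv D37741)))
theorem Q21816 : ∀ i, i < 21816 → P i := stepQ 21815 Q21815 (allL N21815 (tt N22513 (iv F178265)) (tt N22992 (iv F179991)) (tt N23073 (iv F180167)) (tt N23079 D39006) (tt N20363 (iv D37742)) (tt N20369 F174477) (tt N23080 D39007) (tt N23040 (iv F180097)) (tt N23076 (iv F180174)) (tt N23081 D39008))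
theorem Q21817 : ∀ i, i < 21817 → P i := stepQ 21816 Q21816 (allL N21816 (tt N22514 (iv F178267)) (tt N22993 (iv F179993)) (tt N22655 (iv F178896)) (tt N22917 (iv F179780)) (tt N23080 (iv F180178)) (tt N20365 F174478) (tt N20363 (iv D37743)) (tt N23082 D39009) (tt N23077 (iv F180175)) (tt N23083 D39010))
theorem Q21818 : ∀ i, i < 21818 → P i := stepQ 21817 Q21817 (allL N21817 (tt N22515 (iv F178270)) (tt N21961 (iv F175189)) (tt N23074 (iv F180169)) (tt N22918 (iv F179782)) (tt N23081 (iv F180180)) (tt N20364 F174479) (tt N23083 (iv F180184)) (tt N23042 (iv F180100)) (tt N23084 D39011) (tt N20363 (iv D37744)))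
theorem Q21819 : ∀ i, i < 21819 → P i := stepQ 21818 Q21818 (allL N21818 (tt N22516 (iv F178272)) (tt N22994 (iv F179995)) (tt N22370 (iv F177640)) (tt N22919 (iv F179784)) (tt N20421 F174480) (tt N23082 (iv F180182)) (tt N20367 F174481) (tt N20365 (iv D37745)) (tt N22368 (iv F177629)) (tt N23085 D39012))
theorem Q21820 : ∀ i, i < 21820 → P i := stepQ 21819 Q21819 (allL N21819 (tt N22517 (iv F178277)) (tt N21962 (iv F175193)) (tt N22656 (iv F178899)) (tt N22920 (iv F179787)) (tt N20422 F174482) (tt N23083 (iv F180183)) (tt N20366 F174483) (tt N23085 (iv F180188)) (tt N22531 (iv F178332)) (tt N20365 (iv D37746)))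
theorem Q21821 : ∀ i, i < 21821 → P i := stepQ 21820 Q21820 (allL N21820 (tt N22518 (iv F178281)) (tt N21963 (iv F175199)) (tt N22372 (iv F177654)) (tt N22921 (iv F179790)) (tt N20423 F174484) (tt N23046 (iv F180109)) (tt N23085 (iv F180187)) (tt N20368 F174485) (tt N22532 (iv F178338)) (tt N20367 (iv D37747)))
theorem Q21822 : ∀ i, i < 21822 → P i := stepQ 21821 Q21821 (allL N21821 (tt N22519 (iv F178287)) (tt N22995 (iv F179998)) (tt N23086 D39013) (tt N20369 (iv D37748)) (tt N20371 F174486) (tt N23079 (iv F180177)) (tt N20424 F174487) (tt N23047 (iv F180113)) (tt N21973 (iv F175242)) (tt N22975 F179948))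
theorem Q21823 : ∀ i, i < 21823 → P i := stepQ 21822 Q21822 (allL N21822 (tt N22520 (iv F178291)) (tt N21964 (iv F175205)) (tt N23075 (iv F180171)) (tt N22975 (iv F179945)) (tt N20370 F174488) (tt N23081 (iv F180181)) (tt N20425 F174489) (tt N23048 (iv F180117)) (tt N22971 (iv F179930)) (tt N20369 (iv D37749)))
theorem Q21824 : ∀ i, i < 21824 → P i := stepQ 21823 Q21823 (allL N21823 (tt N22521 (iv F178294)) (tt N22904 (iv F179743)) (tt N20371 (iv D37750)) (tt N20401 F174490) (tt N23086 (iv F180189)) (tt N22925 (iv F179803)) (tt N20409 F174491) (tt N22926 (iv F179812)) (tt N21975 (iv F175253)) (tt N20403 F174492))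
theorem Q21825 : ∀ i, i < 21825 → P i := stepQ 21824 Q21824 (allL N21824 (tt N22548 (iv F178382)) (tt N20374 F174493) (tt N22899 (iv F179726)) (tt N20373 F174494) (tt N22951 (iv F179866)) (tt N20372 (iv D37751)) (tt N22722 (iv F179111)) (tt N23049 (iv F180120)) (tt N23087 D39014) (tt N22893 (iv F179715)))
theorem Q21826 : ∀ i, i < 21826 → P i := stepQ 21825 Q21825 (allL N21825 (tt N22545 (iv F178376)) (tt N20379 F174495) (tt N22985 (iv F179975)) (tt N23087 (iv F180193)) (tt N20384 F174496) (tt N22984 (iv F179973)) (tt N22723 (iv F179114)) (tt N23050 (iv F180123)) (tt N20373 (iv D37752)) (tt N23088 D39015))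
theorem Q21827 : ∀ i, i < 21827 → P i := stepQ 21826 Q21826 (allL N21826 (tt N22533 (iv F178340)) (tt N22951 (iv F179865)) (tt N22935 (iv F179830)) (tt N22837 (iv F179514)) (tt N20374 (iv D37753)) (tt N20402 F174497) (tt N22726 (iv F179120)) (tt N23051 (iv F180125)) (tt N23089 D39016) (tt N23069 (iv F180161)))
theorem Q21828 : ∀ i, i < 21828 → P i := stepQ 21827 Q21827 (allL N21827 (tt N22534 (iv F178342)) (tt N23087 (iv F180192)) (tt N22936 (iv F179832)) (tt N20379 F174498) (tt N23089 (iv F180196)) (tt N23090 D39017) (tt N22727 (iv F179122)) (tt N23052 (iv F180127)) (tt N20374 (iv D37754)) (tt N23091 D39018))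
theorem Q21829 : ∀ i, i < 21829 → P i := stepQ 21828 Q21828 (allL N21828 (tt N22535 (iv F178344)) (tt N22983 (iv F179968)) (tt N22937 (iv F179834)) (tt N20380 F174499) (tt N23092 D39019) (tt N20375 (iv D37755)) (tt N23093 D39020) (tt N23053 (iv F180129)) (tt N23090 (iv F180198)) (tt N23094 D39021))
theorem Q21830 : ∀ i, i < 21830 → P i := stepQ 21829 Q21829 (allL N21829 (tt N22536 (iv F178346)) (tt N21906 (iv F174823)) (tt N22860 (iv F179592)) (tt N20381 F174500) (tt N20405 F174501) (tt N23094 (iv F180204)) (tt N20377 F174502) (tt N22830 (iv F179499)) (tt N22797 (iv F179328)) (tt N20375 (iv D37756)))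
theorem Q21831 : ∀ i, i < 21831 → P i := stepQ 21830 Q21830 (allL N21830 (tt N22537 (iv F178350)) (tt N22383 (iv F177703)) (tt N22938 (iv F179836)) (tt N20382 F174503) (tt N21830 F174504) (tt N23093 (iv F180202)) (tt N20376 (iv D37757)) (tt N23095 D39022) (tt N22729 (iv F179126)) (tt N22400 (iv F177784)))
theorem Q21832 : ∀ i, i < 21832 → P i := stepQ 21831 Q21831 (allL N21831 (tt N22538 (iv F178353)) (tt N22065 (iv F175827)) (tt N22939 (iv F179839)) (tt N20383 F174505) (tt N21831 F174506) (tt N22115 (iv F176171)) (tt N23095 (iv F180207)) (tt N20378 (iv D37758)) (tt N22730 (iv F179129)) (tt N22346 (iv F177513)))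
theorem Q21833 : ∀ i, i < 21833 → P i := stepQ 21832 Q21832 (allL N21832 (tt N22539 (iv F178356)) (tt N22984 (iv F179970)) (tt N20384 F174507) (tt N23090 (iv F180197)) (tt N22985 (iv F179976)) (tt N20379 (iv D37759)) (tt N23096 D39023) (tt N23054 (iv F180131)) (tt N20380 F174508) (tt N23097 D39024))
theorem Q21834 : ∀ i, i < 21834 → P i := stepQ 21833 Q21833 (allL N21833 (tt N22540 (iv F178359)) (tt N23088 (iv F180194)) (tt N20385 F174509) (tt N23091 (iv F180199)) (tt N22999 (iv F180008)) (tt N23097 (iv F180211)) (tt N22732 (iv F179133)) (tt N23055 (iv F180134)) (tt N23072 (iv F180166)) (tt N20379 (iv D37760)))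
theorem Q21835 : ∀ i, i < 21835 → P i := stepQ 21834 Q21834 (allL N21834 (tt N22542 (iv F178366)) (tt N22385 (iv F177713)) (tt N20386 F174510) (tt N23093 (iv F180201)) (tt N22669 (iv F178946)) (tt N20382 F174511) (tt N20380 (iv D37761)) (tt N23098 D39025) (tt N23096 (iv F180209)) (tt N22402 (iv F177794)))
theorem Q21836 : ∀ i, i < 21836 → P i := stepQ 21835 Q21835 (allL N21835 (tt N22543 (iv F178369)) (tt N21907 (iv F174830)) (tt N20387 F174512) (tt N23094 (iv F180203)) (tt N22987 (iv F179982)) (tt N20381 F174513) (tt N22402 (iv F177793)) (tt N23056 (iv F180138)) (tt N23099 D39026) (tt N20380 (iv D37762)))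
theorem Q21837 : ∀ i, i < 21837 → P i := stepQ 21836 Q21836 (allL N21836 (tt N22544 (iv F178372)) (tt N22067 (iv F175842)) (tt N20388 F174514) (tt N23095 (iv F180205)) (tt N20389 F174515) (tt N23098 (iv F180213)) (tt N20383 F174516) (tt N20382 (iv D37763)) (tt N22736 (iv F179144)) (tt N22348 (iv F177526)))
theorem Q21838 : ∀ i, i < 21838 → P i := stepQ 21837 Q21837 (allL N21837 (tt N22546 (iv F178378)) (tt N22506 (iv F178234)) (tt N23096 (iv F180208)) (tt N22949 (iv F179861)) (tt N22723 (iv F179113)) (tt N22742 (iv F179160)) (tt N20384 (iv D37764)) (tt N23100 D39027) (tt N20386 F174517) (tt N23101 D39028))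
theorem Q21839 : ∀ i, i < 21839 → P i := stepQ 21838 Q21838 (allL N21838 (tt N22547 (iv F178380)) (tt N22999 (iv F180006)) (tt N23097 (iv F180210)) (tt N22950 (iv F179863)) (tt N23088 (iv F180195)) (tt N20385 F174518) (tt N23101 (iv F180216)) (tt N23058 (iv F180141)) (tt N23102 D39029) (tt N20384 (iv D37765)))
theorem Q21840 : ∀ i, i < 21840 → P i := stepQ 21839 Q21839 (allL N21839 (tt N22549 (iv F178384)) (tt N22445 (iv F177965)) (tt N23098 (iv F180212)) (tt N22954 (iv F179872)) (tt N22704 (iv F179060)) (tt N20388 F174519) (tt N23059 (iv F180143)) (tt N20386 (iv D37766)) (tt N23100 (iv F180215)) (tt N22463 (iv F178052)))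
theorem Q21841 : ∀ i, i < 21841 → P i := stepQ 21840 Q21840 (allL N21840 (tt N22550 (iv F178386)) (tt N21960 (iv F175184)) (tt N23099 (iv F180214)) (tt N22955 (iv F179874)) (tt N23068 (iv F180159)) (tt N23084 (iv F180185)) (tt N22528 (iv F178324)) (tt N23061 (iv F180146)) (tt N20387 (iv D37767)) (tt N23102 (iv F180217)))
theorem Q21842 : ∀ i, i < 21842 → P i := stepQ 21841 Q21841 (allL N21841 (tt N22552 (iv F178394)) (tt N22820 (iv F179450)) (tt N22907 (iv F179754)) (tt N20391 F174520) (tt N23103 D39030) (tt N20390 (iv D37768)) (tt N21841 F174521) (tt N20399 F174522) (tt N22861 (iv F179603)) (tt N20394 F174523))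
theorem Q21843 : ∀ i, i < 21843 → P i := stepQ 21842 Q21842 (allL N21842 (tt N22560 (iv F178445)) (tt N22880 (iv F179667)) (tt N22970 (iv F179924)) (tt N22802 (iv F179349)) (tt N20394 (iv D37769)) (tt N23051 (iv F180124)) (tt N21842 F174524) (tt N20402 F174525) (tt N22922 (iv F179796)) (tt N23103 (iv F180220)))
theorem Q21844 : ∀ i, i < 21844 → P i := stepQ 21843 Q21843 (allL N21843 (tt N22566 (iv F178476)) (tt N22894 (iv F179716)) (tt N22972 (iv F179931)) (tt N22004 (iv F175433)) (tt N20399 (iv D37770)) (tt N23069 (iv F180160)) (tt N20407 F174526) (tt N23103 (iv F180219)) (tt N22934 (iv F179829)) (tt N20402 F174527))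
theorem Q21845 : ∀ i, i < 21845 → P i := stepQ 21844 Q21844 (allL N21844 (tt N22577 (iv F178532)) (tt N22901 (iv F179732)) (tt N22975 (iv F179944)) (tt N22813 (iv F179408)) (tt N20403 F174528) (tt N23104 D39031) (tt N20408 F174529) (tt N22922 (iv F179795)) (tt N20402 (iv D37771)) (tt N23086 (iv F180191)))
theorem Q21846 : ∀ i, i < 21846 → P i := stepQ 21845 Q21845 (allL N21845 (tt N22578 (iv F178535)) (tt N23066 (iv F180153)) (tt N22976 (iv F179949)) (tt N21954 (iv F175142)) (tt N20404 (iv D37772)) (tt N23092 (iv F180200)) (tt N21845 F174530) (tt N21973 (iv F175241)) (tt N23047 (iv F180114)) (tt N23105 D39032))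
theorem Q21847 : ∀ i, i < 21847 → P i := stepQ 21846 Q21846 (allL N21846 (tt N22579 (iv F178539)) (tt N22799 (iv F179334)) (tt N22861 (iv F179599)) (tt N20406 F174531) (tt N23105 (iv F180221)) (tt N20405 F174532) (tt N21846 F174533) (tt N21976 (iv F175261)) (tt N22907 (iv F179758)) (tt N20404 (iv D37773)))
theorem Q21848 : ∀ i, i < 21848 → P i := stepQ 21847 Q21847 (allL N21847 (tt N22590 (iv F178602)) (tt N22956 (iv F179875)) (tt N22977 (iv F179951)) (tt N22839 F179525) (tt N21847 F174534) (tt N20408 (iv D37774)) (tt N23106 D39033) (tt N21847 F174535) (tt N22793 (iv F179316)) (tt N23107 D39034))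
theorem Q21849 : ∀ i, i < 21849 → P i := stepQ 21848 Q21848 (allL N21848 (tt N22591 (iv F178605)) (tt N22960 (iv F179889)) (tt N20424 F174536) (tt N22842 (iv F179535)) (tt N20409 F174537) (tt N23107 (iv F180226)) (tt N23086 (iv F180190)) (tt N21848 F174538) (tt N21990 (iv F175343)) (tt N20408 (iv D37775)))
theorem Q21850 : ∀ i, i < 21850 → P i := stepQ 21849 Q21849 (allL N21849 (tt N22758 (iv F179193)) (tt N20418 F174539) (tt N21986 (iv F175316)) (tt N23108 D39035) (tt N20410 (iv D37776)) (tt N20413 F174540) (tt N23109 D39036) (tt N21849 F174541) (tt N22604 F178679) (tt N21978 (iv F175275)))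
theorem Q21851 : ∀ i, i < 21851 → P i := stepQ 21850 Q21850 (allL N21850 (tt N22760 (iv F179203)) (tt N20419 F174542) (tt N21988 (iv F175327)) (tt N21850 F174543) (tt N23109 (iv F180233)) (tt N20411 F174544) (tt N20410 (iv D37777)) (tt N23110 D39037) (tt N22606 F178691) (tt N21979 (iv F175281)))
theorem Q21852 : ∀ i, i < 21852 → P i := stepQ 21851 Q21851 (allL N21851 (tt N22761 (iv F179209)) (tt N20421 F174545) (tt N21989 (iv F175334)) (tt N21851 F174546) (tt N22994 (iv F179996)) (tt N23110 (iv F180236)) (tt N20412 F174547) (tt N20411 (iv D37778)) (tt N22366 (iv F177615)) (tt N21980 (iv F175288)))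
theorem Q21853 : ∀ i, i < 21853 → P i := stepQ 21852 Q21852 (allL N21852 (tt N22653 (iv F178887)) (tt N20424 F174548) (tt N22012 (iv F175486)) (tt N20413 (iv D37779)) (tt N20414 F174549) (tt N23108 (iv F180230)) (tt N22995 (iv F180000)) (tt N21852 F174550) (tt N21891 (iv F174721)) (tt N21981 (iv F175294)))
theorem Q21854 : ∀ i, i < 21854 → P i := stepQ 21853 Q21853 (allL N21853 (tt N22601 (iv F178660)) (tt N21917 (iv F174891)) (tt N20425 F174551) (tt N22838 (iv F179518)) (tt N20416 F174552) (tt N22659 (iv F178914)) (tt N23075 (iv F180173)) (tt N21853 F174553) (tt N21921 (iv F174923)) (tt N20415 (iv D37780)))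
theorem Q21855 : ∀ i, i < 21855 → P i := stepQ 21854 Q21854 (allL N21854 (tt N22594 (iv F178622)) (tt N22604 (iv F178674)) (tt N22592 (iv F178612)) (tt N23111 D39038) (tt N20417 (iv D37781)) (tt N21982 (iv F175297)) (tt N23112 D39039) (tt N21854 F174554) (tt N20418 F174555) (tt N22595 (iv F178633)))
theorem Q21856 : ∀ i, i < 21856 → P i := stepQ 21855 Q21855 (allL N21855 (tt N22387 (iv F177722)) (tt N22606 (iv F178686)) (tt N22328 (iv F177408)) (tt N21855 F174556) (tt N23112 (iv F180241)) (tt N22324 (iv F177380)) (tt N20417 (iv D37782)) (tt N22850 (iv F179565)) (tt N20419 F174557) (tt N22596 (iv F178639)))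
theorem Q21857 : ∀ i, i < 21857 → P i := stepQ 21856 Q21856 (allL N21856 (tt N22602 (iv F178666)) (tt N23108 (iv F180228)) (tt N23107 (iv F180224)) (tt N20418 (iv D37783)) (tt N21856 F174558) (tt N20424 F174559) (tt N23113 D39040) (tt N21856 F174560) (tt N23111 (iv F180240)) (tt N22977 (iv F179955)))
theorem Q21858 : ∀ i, i < 21858 → P i := stepQ 21857 Q21857 (allL N21857 (tt N22603 (iv F178670)) (tt N23109 (iv F180232)) (tt N22657 (iv F178903)) (tt N23113 (iv F180243)) (tt N20419 F174561) (tt N23080 (iv F180179)) (tt N20418 (iv D37784)) (tt N23114 D39041) (tt N23112 (iv F180242)) (tt N23115 D39042))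
theorem Q21859 : ∀ i, i < 21859 → P i := stepQ 21858 Q21858 (allL N21858 (tt N22604 (iv F178673)) (tt N21978 (iv F175271)) (tt N22659 (iv F178912)) (tt N22977 (iv F179952)) (tt N20420 F174562) (tt N20425 F174563) (tt N23115 (iv F180248)) (tt N21858 F174564) (tt N22758 (iv F179198)) (tt N20418 (iv D37785)))
theorem Q21860 : ∀ i, i < 21860 → P i := stepQ 21859 Q21859 (allL N21859 (tt N22605 (iv F178680)) (tt N23110 (iv F180234)) (tt N22373 (iv F177661)) (tt N21859 F174565) (tt N23114 (iv F180245)) (tt N20421 F174566) (tt N21859 F174567) (tt N20419 (iv D37786)) (tt N22850 (iv F179566)) (tt N23116 D39043))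
theorem Q21861 : ∀ i, i < 21861 → P i := stepQ 21860 Q21860 (allL N21860 (tt N22606 (iv F178685)) (tt N21979 (iv F175277)) (tt N22658 (iv F178906)) (tt N21860 F174568) (tt N23115 (iv F180247)) (tt N20422 F174569) (tt N20420 F174570) (tt N23116 (iv F180252)) (tt N22760 (iv F179208)) (tt N20419 (iv D37787)))
theorem Q21862 : ∀ i, i < 21862 → P i := stepQ 21861 Q21861 (allL N21861 (tt N22607 (iv F178692)) (tt N21980 (iv F175283)) (tt N22374 (iv F177668)) (tt N21861 F174571) (tt N23085 (iv F180186)) (tt N23116 (iv F180250)) (tt N20423 F174572) (tt N20422 F174573) (tt N22551 (iv F178392)) (tt N20421 (iv D37788)))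
theorem Q21863 : ∀ i, i < 21863 → P i := stepQ 21862 Q21862 (allL N21862 (tt N22614 (iv F178738)) (tt N22247 (iv F176884)) (tt N20435 F174574) (tt N23117 D39044) (tt N20426 (iv D37789)) (tt N22245 (iv F176873)) (tt N23015 (iv F180044)) (tt N21862 F174575) (tt N22055 (iv F175763)) (tt N23118 D39045))
theorem Q21864 : ∀ i, i < 21864 → P i := stepQ 21863 Q21863 (allL N21863 (tt N22615 (iv F178743)) (tt N22063 (iv F175812)) (tt N20436 F174576) (tt N21863 F174577) (tt N23118 (iv F180256)) (tt N20427 F174578) (tt N23016 (iv F180048)) (tt N21863 F174579) (tt N23119 D39046) (tt N20426 (iv D37790)))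
theorem Q21865 : ∀ i, i < 21865 → P i := stepQ 21864 Q21864 (allL N21864 (tt N22616 (iv F178749)) (tt N22055 (iv F175759)) (tt N22245 (iv F176872)) (tt N23120 D39047) (tt N20428 (iv D37791)) (tt N20435 F174580) (tt N23121 D39048) (tt N21864 F174581) (tt N22247 (iv F176888)) (tt N23122 D39049))
theorem Q21866 : ∀ i, i < 21866 → P i := stepQ 21865 Q21865 (allL N21865 (tt N22617 (iv F178754)) (tt N22044 (iv F175703)) (tt N22211 (iv F176711)) (tt N21865 F174582) (tt N23121 (iv F180266)) (tt N20430 F174583) (tt N20428 (iv D37792)) (tt N23123 D39050) (tt N22248 (iv F176894)) (tt N23124 D39051))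
theorem Q21867 : ∀ i, i < 21867 → P i := stepQ 21866 Q21866 (allL N21866 (tt N22618 (iv F178759)) (tt N22056 (iv F175765)) (tt N22246 (iv F176878)) (tt N21866 F174584) (tt N23122 (iv F180267)) (tt N20429 F174585) (tt N23124 (iv F180275)) (tt N21866 F174586) (tt N23125 D39052) (tt N20428 (iv D37793)))
theorem Q21868 : ∀ i, i < 21868 → P i := stepQ 21867 Q21867 (allL N21867 (tt N22619 (iv F178765)) (tt N22027 (iv F175594)) (tt N22121 (iv F176205)) (tt N21867 F174587) (tt N23022 (iv F180054)) (tt N23123 (iv F180271)) (tt N20432 F174588) (tt N20430 (iv D37794)) (tt N20440 F174589) (tt N23126 D39053))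
theorem Q21869 : ∀ i, i < 21869 → P i := stepQ 21868 Q21868 (allL N21868 (tt N22620 (iv F178769)) (tt N22045 (iv F175709)) (tt N22212 (iv F176716)) (tt N21868 F174590) (tt N23023 (iv F180057)) (tt N23124 (iv F180274)) (tt N20431 F174591) (tt N23126 (iv F180283)) (tt N23127 D39054) (tt N20430 (iv D37795)))
theorem Q21870 : ∀ i, i < 21870 → P i := stepQ 21869 Q21869 (allL N21869 (tt N22270 (iv F177025)) (tt N21930 (iv F174981)) (tt N22175 (iv F176520)) (tt N21869 F174592) (tt N23024 (iv F180059)) (tt N21869 F174593) (tt N23127 (iv F180285)) (tt N20434 F174594) (tt N20431 (iv D37796)) (tt N20442 F174595))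
theorem Q21871 : ∀ i, i < 21871 → P i := stepQ 21870 Q21870 (allL N21870 (tt N22288 (iv F177137)) (tt N22028 (iv F175600)) (tt N22122 (iv F176211)) (tt N21870 F174596) (tt N23025 (iv F180062)) (tt N21870 F174597) (tt N23126 (iv F180282)) (tt N20433 F174598) (tt N22285 (iv F177127)) (tt N20432 (iv D37797)))
theorem Q21872 : ∀ i, i < 21872 → P i := stepQ 21871 Q21871 (allL N21871 (tt N22588 (iv F178591)) (tt N22241 (iv F176847)) (tt N23128 D39055) (tt N20435 (iv D37798)) (tt N20437 F174599) (tt N23120 (iv F180264)) (tt N23026 (iv F180065)) (tt N21871 F174600) (tt N22060 (iv F175797)) (tt N23129 D39056))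
theorem Q21873 : ∀ i, i < 21873 → P i := stepQ 21872 Q21872 (allL N21872 (tt N22621 (iv F178772)) (tt N22242 (iv F176852)) (tt N23118 (iv F180255)) (tt N23129 (iv F180289)) (tt N20436 F174601) (tt N23122 (iv F180268)) (tt N23027 (iv F180067)) (tt N21872 F174602) (tt N23130 D39057) (tt N20435 (iv D37799)))
theorem Q21874 : ∀ i, i < 21874 → P i := stepQ 21873 Q21873 (allL N21873 (tt N22622 (iv F178775)) (tt N22243 (iv F176857)) (tt N23119 (iv F180259)) (tt N20439 F174603) (tt N23130 (iv F180292)) (tt N21873 F174604) (tt N23028 (iv F180069)) (tt N21873 F174605) (tt N20436 (iv D37800)) (tt N22062 (iv F175810)))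
theorem Q21875 : ∀ i, i < 21875 → P i := stepQ 21874 Q21874 (allL N21874 (tt N22587 (iv F178586)) (tt N23119 (iv F180258)) (tt N20437 (iv D37801)) (tt N21874 F174606) (tt N23128 (iv F180287)) (tt N21874 F174607) (tt N23029 (iv F180071)) (tt N21874 F174608) (tt N22063 (iv F175816)) (tt N23125 (iv F180280)))
theorem Q21876 : ∀ i, i < 21876 → P i := stepQ 21875 Q21875 (allL N21875 (tt N22589 (iv F178596)) (tt N22244 (iv F176864)) (tt N23125 (iv F180276)) (tt N20438 F174609) (tt N23129 (iv F180290)) (tt N21875 F174610) (tt N23030 (iv F180073)) (tt N21875 F174611) (tt N22246 (iv F176882)) (tt N20437 (iv D37802)))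
theorem Q21877 : ∀ i, i < 21877 → P i := stepQ 21876 Q21876 (allL N21876 (tt N22625 (iv F178791)) (tt N21929 (iv F174975)) (tt N22174 (iv F176515)) (tt N21876 F174612) (tt N23062 (iv F180147)) (tt N23131 D39058) (tt N20442 F174613) (tt N22421 (iv F177872)) (tt N20441 (iv D37803)) (tt N23127 (iv F180286)))
theorem Q21878 : ∀ i, i < 21878 → P i := stepQ 21877 Q21877 (allL N21877 (tt N21322 F174614) (tt N21788 F174615) (tt N20535 F174616) (tt N20451 F174617) (tt N20466 F174618) (tt N23132 D39059) (tt N20450 (iv D37804)) (tt N21718 F174619) (tt N21785 F174620) (tt N21541 F174621))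
theorem Q21879 : ∀ i, i < 21879 → P i := stepQ 21878 Q21878 (allL N21878 (tt N21323 F174622) (tt N21790 F174623) (tt N20452 F174624) (tt N23132 (iv F180299)) (tt N21715 F174625) (tt N20451 (iv D37805)) (tt N20788 F174626) (tt N21719 F174627) (tt N23133 D39060) (tt N21799 F174628))
theorem Q21880 : ∀ i, i < 21880 → P i := stepQ 21879 Q21879 (allL N21879 (tt N21324 F174629) (tt N21766 F174630) (tt N23133 (iv F180305)) (tt N20543 F174631) (tt N21716 F174632) (tt N23134 D39061) (tt N20796 F174633) (tt N21720 F174634) (tt N20452 (iv D37806)) (tt N23135 D39062))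
theorem Q21881 : ∀ i, i < 21881 → P i := stepQ 21880 Q21880 (allL N21880 (tt N21325 F174635) (tt N21715 F174636) (tt N21786 F174637) (tt N20544 F174638) (tt N21790 F174639) (tt N20453 (iv D37807)) (tt N23136 D39063) (tt N21721 F174640) (tt N23134 (iv F180316)) (tt N23137 D39064))
theorem Q21882 : ∀ i, i < 21882 → P i := stepQ 21881 Q21881 (allL N21881 (tt N21326 F174641) (tt N21596 F174642) (tt N21767 F174643) (tt N20545 F174644) (tt N20458 F174645) (tt N23137 (iv F180335)) (tt N20455 F174646) (tt N21722 F174647) (tt N21723 F174648) (tt N20453 (iv D37808)))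
theorem Q21883 : ∀ i, i < 21883 → P i := stepQ 21882 Q21882 (allL N21882 (tt N21327 F174649) (tt N20735 F174650) (tt N21744 F174651) (tt N20546 F174652) (tt N20459 F174653) (tt N23136 (iv F180329)) (tt N20454 (iv D37809)) (tt N23138 D39065) (tt N20799 F174654) (tt N23139 D39066))
theorem Q21884 : ∀ i, i < 21884 → P i := stepQ 21883 Q21883 (allL N21883 (tt N21328 F174655) (tt N20728 F174656) (tt N21735 F174657) (tt N20547 F174658) (tt N20460 F174659) (tt N20455 F174660) (tt N23139 (iv F180350)) (tt N20457 F174661) (tt N23140 D39067) (tt N20454 (iv D37810)))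
theorem Q21885 : ∀ i, i < 21885 → P i := stepQ 21884 Q21884 (allL N21884 (tt N21329 F174662) (tt N20668 F174663) (tt N21376 F174664) (tt N20548 F174665) (tt N20461 F174666) (tt N21350 F174667) (tt N23138 (iv F180342)) (tt N20456 (iv D37811)) (tt N20801 F174668) (tt N21495 F174669))
theorem Q21886 : ∀ i, i < 21886 → P i := stepQ 21885 Q21885 (allL N21885 (tt N21167 F174670) (tt N20471 F174671) (tt N21516 F174672) (tt N20469 F174673) (tt N20462 F174674) (tt N20949 F174675) (tt N21121 F174676) (tt N23140 (iv F180358)) (tt N20457 (iv D37812)) (tt N20803 F174677))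
theorem Q21887 : ∀ i, i < 21887 → P i := stepQ 21886 Q21886 (allL N21886 (tt N21330 F174678) (tt N20669 F174679) (tt N21377 F174680) (tt N20463 F174681) (tt N23138 (iv F180341)) (tt N20699 F174682) (tt N20461 F174683) (tt N20459 (iv D37813)) (tt N20826 F174684) (tt N21496 (iv F174685)))
theorem Q21888 : ∀ i, i < 21888 → P i := stepQ 21887 Q21887 (allL N21887 (tt N21331 F174686) (tt N20729 F174687) (tt N21736 F174688) (tt N20464 F174689) (tt N23139 (iv F180349)) (tt N20749 F174690) (tt N20460 F174691) (tt N21496 F174692) (tt N23141 D39068) (tt N20459 (iv D37814)))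
theorem Q21889 : ∀ i, i < 21889 → P i := stepQ 21888 Q21888 (allL N21888 (tt N21234 F174693) (tt N20730 F174694) (tt N21549 F174695) (tt N20465 F174696) (tt N23140 (iv F180356)) (tt N21888 F174697) (tt N23141 (iv F180364)) (tt N20462 F174698) (tt N20460 (iv D37815)) (tt N20828 F174699))
theorem Q21890 : ∀ i, i < 21890 → P i := stepQ 21889 Q21889 (allL N21889 (tt N21236 F174700) (tt N20872 F174701) (tt N21889 F174702) (tt N23141 (iv F180363)) (tt N20579 F174703) (tt N23142 D39069) (tt N20465 F174704) (tt N21216 F174705) (tt N20464 (iv D37816)) (tt N20837 F174706))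
theorem Q21891 : ∀ i, i < 21891 → P i := stepQ 21890 Q21890 (allL N21890 (tt N21336 F174707) (tt N20552 F174708) (tt N20588 F174709) (tt N20467 F174710) (tt N23143 D39070) (tt N20466 (iv D37817)) (tt N20468 F174711) (tt N21804 F174712) (tt N21730 (iv F174714)) (tt N21542 F174713))
theorem Q21892 : ∀ i, i < 21892 → P i := stepQ 21891 Q21891 (allL N21891 (tt N21340 F174715) (tt N20567 F174716) (tt N20599 F174717) (tt N20502 F174718) (tt N20468 (iv D37818)) (tt N20911 F174719) (tt N23143 (iv F180379)) (tt N21891 F174720) (tt N21852 F174721) (tt N21552 F174722))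
theorem Q21893 : ∀ i, i < 21893 → P i := stepQ 21892 Q21892 (allL N21892 (tt N21171 F174723) (tt N20472 F174724) (tt N21007 F174725) (tt N23140 (iv F180355)) (tt N20470 F174726) (tt N20950 F174727) (tt N23144 D39071) (tt N20469 (iv D37819)) (tt N20547 F174728) (tt N21048 F174729))
theorem Q21894 : ∀ i, i < 21894 → P i := stepQ 21893 Q21893 (allL N21893 (tt N21173 F174730) (tt N20474 F174731) (tt N21047 F174732) (tt N20579 F174733) (tt N23144 (iv F180386)) (tt N21010 F174734) (tt N20470 (iv D37820)) (tt N21123 F174735) (tt N20565 F174736) (tt N21009 F174737))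
theorem Q21895 : ∀ i, i < 21895 → P i := stepQ 21894 Q21894 (allL N21894 (tt N20486 F174738) (tt N23140 (iv F180353)) (tt N20732 F174739) (tt N20472 F174740) (tt N20730 F174741) (tt N20952 F174742) (tt N23145 D39072) (tt N20471 (iv D37821)) (tt N20728 F174743) (tt N21192 F174744))
theorem Q21896 : ∀ i, i < 21896 → P i := stepQ 21895 Q21895 (allL N21895 (tt N20487 F174745) (tt N23144 (iv F180384)) (tt N20476 F174746) (tt N23145 (iv F180392)) (tt N20474 F174747) (tt N23146 D39073) (tt N20472 (iv D37822)) (tt N21125 F174748) (tt N23147 D39074) (tt N21142 F174749))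
theorem Q21897 : ∀ i, i < 21897 → P i := stepQ 21896 Q21896 (allL N21896 (tt N20488 F174750) (tt N20547 F174751) (tt N20477 F174752) (tt N20728 F174753) (tt N20475 F174754) (tt N20493 F174755) (tt N23147 (iv F180408)) (tt N20473 F174756) (tt N20472 (iv D37823)) (tt N20492 F174757))
theorem Q21898 : ∀ i, i < 21898 → P i := stepQ 21897 Q21897 (allL N21897 (tt N20489 F174758) (tt N20565 F174759) (tt N20479 F174760) (tt N20506 F174761) (tt N23147 (iv F180407)) (tt N21442 F174762) (tt N20475 F174763) (tt N21127 F174764) (tt N20474 (iv D37824)) (tt N20500 F174765))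
theorem Q21899 : ∀ i, i < 21899 → P i := stepQ 21898 Q21898 (allL N21898 (tt N20490 F174766) (tt N21342 F174767) (tt N23146 (iv F180398)) (tt N21076 F174768) (tt N21713 F174769) (tt N20476 (iv D37825)) (tt N20956 F174770) (tt N21128 F174771) (tt N23148 D39075) (tt N21317 F174772))
theorem Q21900 : ∀ i, i < 21900 → P i := stepQ 21899 Q21899 (allL N21899 (tt N20491 F174773) (tt N21343 F174774) (tt N23147 (iv F180405)) (tt N21077 F174775) (tt N20479 F174776) (tt N23149 D39076) (tt N20477 F174777) (tt N21129 F174778) (tt N20476 (iv D37826)) (tt N23150 D39077))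
theorem Q21901 : ∀ i, i < 21901 → P i := stepQ 21900 Q21900 (allL N21900 (tt N20493 F174779) (tt N21344 F174780) (tt N20492 F174781) (tt N20722 F174782) (tt N20480 F174783) (tt N20488 F174784) (tt N23150 (iv F180427)) (tt N20478 F174785) (tt N21038 F174786) (tt N20477 (iv D37827)))
theorem Q21902 : ∀ i, i < 21902 → P i := stepQ 21901 Q21901 (allL N21901 (tt N20495 F174787) (tt N21345 F174788) (tt N21442 F174789) (tt N20481 F174790) (tt N23151 D39078) (tt N20479 (iv D37828)) (tt N20483 F174791) (tt N21132 F174792) (tt N21431 F174793) (tt N23152 D39079))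
theorem Q21903 : ∀ i, i < 21903 → P i := stepQ 21902 Q21902 (allL N21902 (tt N20496 F174794) (tt N21346 F174795) (tt N20500 F174796) (tt N20482 F174797) (tt N23150 (iv F180426)) (tt N23152 (iv F180441)) (tt N20480 F174798) (tt N21133 F174799) (tt N21049 F174800) (tt N20479 (iv D37829)))
theorem Q21904 : ∀ i, i < 21904 → P i := stepQ 21903 Q21903 (allL N21903 (tt N20497 F174801) (tt N21347 F174802) (tt N20870 F174803) (tt N23152 (iv F180440)) (tt N21218 F174804) (tt N20482 F174805) (tt N20485 F174806) (tt N21135 F174807) (tt N21227 F174808) (tt N20481 (iv D37830)))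
theorem Q21905 : ∀ i, i < 21905 → P i := stepQ 21904 Q21904 (allL N21904 (tt N20502 F174809) (tt N21348 F174810) (tt N21462 F174811) (tt N21340 F174812) (tt N20483 (iv D37831)) (tt N21709 F174813) (tt N23151 (iv F180434)) (tt N21904 F174814) (tt N21453 F174815) (tt N23153 D39080))
theorem Q21906 : ∀ i, i < 21906 → P i := stepQ 21905 Q21905 (allL N21905 (tt N20503 F174816) (tt N21349 F174817) (tt N20499 F174818) (tt N20485 F174819) (tt N23153 (iv F180449)) (tt N20484 F174820) (tt N23152 (iv F180442)) (tt N21905 F174821) (tt N21267 F174822) (tt N20483 (iv D37832)))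
theorem Q21907 : ∀ i, i < 21907 → P i := stepQ 21906 Q21906 (allL N21906 (tt N23145 (iv F180390)) (tt N21829 F174823) (tt N21504 F174824) (tt N20487 F174825) (tt N21502 F174826) (tt N23154 D39081) (tt N20486 (iv D37833)) (tt N21541 F174827) (tt N21501 F174828) (tt N21718 F174829))
theorem Q21908 : ∀ i, i < 21908 → P i := stepQ 21907 Q21907 (allL N21907 (tt N23146 (iv F180397)) (tt N21835 F174830) (tt N20490 F174831) (tt N23154 (iv F180455)) (tt N21724 F174832) (tt N20487 (iv D37834)) (tt N21036 F174833) (tt N21799 F174834) (tt N23155 D39082) (tt N21719 F174835))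
theorem Q21909 : ∀ i, i < 21909 → P i := stepQ 21908 Q21908 (allL N21908 (tt N23147 (iv F180403)) (tt N21810 F174836) (tt N20491 F174837) (tt N21501 F174838) (tt N20489 F174839) (tt N23156 D39083) (tt N20488 F174840) (tt N21539 F174841) (tt N20487 (iv D37835)) (tt N21604 F174842))
theorem Q21910 : ∀ i, i < 21910 → P i := stepQ 21909 Q21909 (allL N21909 (tt N21442 F174843) (tt N21812 F174844) (tt N20495 F174845) (tt N20554 F174846) (tt N23157 D39084) (tt N20489 (iv D37836)) (tt N20498 F174847) (tt N21800 F174848) (tt N20551 F174849) (tt N21701 F174850))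
theorem Q21911 : ∀ i, i < 21911 → P i := stepQ 21910 Q21910 (allL N21910 (tt N23148 (iv F180411)) (tt N20543 F174851) (tt N23155 (iv F180460)) (tt N21766 F174852) (tt N21725 F174853) (tt N23158 D39085) (tt N21041 F174854) (tt N21801 F174855) (tt N20490 (iv D37837)) (tt N23159 D39086))
theorem Q21912 : ∀ i, i < 21912 → P i := stepQ 21911 Q21911 (allL N21911 (tt N23149 (iv F180417)) (tt N20544 F174856) (tt N23156 (iv F180465)) (tt N21715 F174857) (tt N23160 D39087) (tt N20491 (iv D37838)) (tt N23161 D39088) (tt N21731 F174858) (tt N23158 (iv F180480)) (tt N23162 D39089))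
theorem Q21913 : ∀ i, i < 21913 → P i := stepQ 21912 Q21912 (allL N21912 (tt N23150 (iv F180422)) (tt N20545 F174859) (tt N21604 F174860) (tt N21596 F174861) (tt N20496 F174862) (tt N23162 (iv F180497)) (tt N20493 F174863) (tt N21723 F174864) (tt N21722 F174865) (tt N20491 (iv D37839)))
theorem Q21914 : ∀ i, i < 21914 → P i := stepQ 21913 Q21913 (allL N21913 (tt N21604 F174866) (tt N20546 F174867) (tt N23150 (iv F180424)) (tt N20735 F174868) (tt N20500 F174869) (tt N23161 (iv F180493)) (tt N20492 (iv D37840)) (tt N23163 D39090) (tt N21044 F174870) (tt N23147 (iv F180410)))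
theorem Q21915 : ∀ i, i < 21915 → P i := stepQ 21914 Q21914 (allL N21914 (tt N21522 F174871) (tt N20548 F174872) (tt N21131 F174873) (tt N20668 F174874) (tt N20501 F174875) (tt N21352 F174876) (tt N23163 (iv F180504)) (tt N20494 (iv D37841)) (tt N21045 F174877) (tt N21126 F174878))
theorem Q21916 : ∀ i, i < 21916 → P i := stepQ 21915 Q21915 (allL N21915 (tt N23151 (iv F180430)) (tt N20550 F174879) (tt N23157 (iv F180471)) (tt N23143 (iv F180378)) (tt N20495 (iv D37842)) (tt N23160 (iv F180488)) (tt N20502 F174880) (tt N21802 F174881) (tt N21729 F174882) (tt N23164 D39091))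
theorem Q21917 : ∀ i, i < 21917 → P i := stepQ 21916 Q21916 (allL N21916 (tt N23152 (iv F180437)) (tt N20551 F174883) (tt N21701 F174884) (tt N20497 F174885) (tt N23164 (iv F180510)) (tt N20496 F174886) (tt N20503 F174887) (tt N21803 F174888) (tt N21812 F174889) (tt N20495 (iv D37843)))
theorem Q21918 : ∀ i, i < 21918 → P i := stepQ 21917 Q21917 (allL N21917 (tt N21462 F174890) (tt N21853 F174891) (tt N20502 F174892) (tt N21710 F174893) (tt N20498 (iv D37844)) (tt N23153 (iv F180450)) (tt N23157 (iv F180473)) (tt N21917 F174894) (tt N20568 F174895) (tt N21709 F174896))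
theorem Q21919 : ∀ i, i < 21919 → P i := stepQ 21918 Q21918 (allL N21918 (tt N21709 F174897) (tt N20561 F174898) (tt N23153 (iv F180447)) (tt N20911 F174899) (tt N20499 (iv D37845)) (tt N20502 F174900) (tt N23165 D39092) (tt N21918 F174901) (tt N21275 F174902) (tt N21462 F174903))
theorem Q21920 : ∀ i, i < 21920 → P i := stepQ 21919 Q21919 (allL N21919 (tt N21701 F174904) (tt N20562 F174905) (tt N23152 (iv F180439)) (tt N20504 F174906) (tt N23165 (iv F180517)) (tt N20500 F174907) (tt N20499 (iv D37846)) (tt N23166 D39093) (tt N21160 F174908) (tt N21442 F174909))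
theorem Q21921 : ∀ i, i < 21921 → P i := stepQ 21920 Q21920 (allL N21920 (tt N21691 F174910) (tt N20564 F174911) (tt N21133 F174912) (tt N20505 F174913) (tt N23163 (iv F180503)) (tt N23166 (iv F180524)) (tt N20501 F174914) (tt N20500 (iv D37847)) (tt N21050 F174915) (tt N21127 F174916))
theorem Q21922 : ∀ i, i < 21922 → P i := stepQ 21921 Q21921 (allL N21921 (tt N23153 (iv F180445)) (tt N20568 F174917) (tt N21709 F174918) (tt N21552 F174919) (tt N20503 F174920) (tt N21462 F174921) (tt N23164 (iv F180511)) (tt N21921 F174922) (tt N21853 F174923) (tt N20502 (iv D37848)))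
theorem Q21923 : ∀ i, i < 21923 → P i := stepQ 21922 Q21922 (allL N21922 (tt N21692 F174924) (tt N20576 F174925) (tt N20838 F174926) (tt N23166 (iv F180523)) (tt N20862 F174927) (tt N20505 F174928) (tt N21922 F174929) (tt N20504 (iv D37849)) (tt N21095 F174930) (tt N21219 F174931))
theorem Q21924 : ∀ i, i < 21924 → P i := stepQ 21923 Q21923 (allL N21923 (tt N21378 F174932) (tt N21588 F174933) (tt N21011 F174934) (tt N20508 F174935) (tt N21923 F174936) (tt N20521 F174937) (tt N23167 D39094) (tt N20507 (iv D37850)) (tt N23168 D39095) (tt N20625 F174938))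
theorem Q21925 : ∀ i, i < 21925 → P i := stepQ 21924 Q21924 (allL N21924 (tt N21379 F174939) (tt N21590 F174940) (tt N21012 F174941) (tt N20509 F174942) (tt N21924 F174943) (tt N21383 F174944) (tt N21059 F174945) (tt N23168 (iv F180541)) (tt N20507 (iv D37851)) (tt N21382 F174946))
theorem Q21926 : ∀ i, i < 21926 → P i := stepQ 21925 Q21925 (allL N21925 (tt N21380 F174947) (tt N21797 F174948) (tt N20513 F174949) (tt N23167 (iv F180531)) (tt N20510 F174950) (tt N23169 D39096) (tt N20508 (iv D37852)) (tt N21060 F174951) (tt N23170 D39097) (tt N20627 F174952))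
theorem Q21927 : ∀ i, i < 21927 → P i := stepQ 21926 Q21926 (allL N21926 (tt N21381 F174953) (tt N21798 F174954) (tt N20514 F174955) (tt N23168 (iv F180538)) (tt N20511 F174956) (tt N23171 D39098) (tt N23170 (iv F180554)) (tt N20509 F174957) (tt N20508 (iv D37853)) (tt N23172 D39099))
theorem Q21928 : ∀ i, i < 21928 → P i := stepQ 21927 Q21927 (allL N21927 (tt N21382 F174958) (tt N21781 F174959) (tt N20515 F174960) (tt N21383 F174961) (tt N21927 F174962) (tt N20509 (iv D37854)) (tt N21747 F174965) (tt N23171 (iv F180561)) (tt N20524 F174963) (tt N21379 (iv F174964)))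
theorem Q21929 : ∀ i, i < 21929 → P i := stepQ 21928 Q21928 (allL N21928 (tt N21383 F174966) (tt N21760 F174967) (tt N20516 F174968) (tt N21382 F174969) (tt N20512 F174970) (tt N21379 F174971) (tt N21062 F174972) (tt N23172 (iv F180570)) (tt N20629 F174973) (tt N20509 (iv D37855)))
theorem Q21930 : ∀ i, i < 21930 → P i := stepQ 21929 Q21929 (allL N21929 (tt N21384 F174974) (tt N21876 F174975) (tt N20517 F174976) (tt N21929 F174977) (tt N23170 (iv F180553)) (tt N23173 D39100) (tt N20511 F174978) (tt N21063 F174979) (tt N20510 (iv D37856)) (tt N23174 D39101))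
theorem Q21931 : ∀ i, i < 21931 → P i := stepQ 21930 Q21930 (allL N21930 (tt N21385 F174980) (tt N21869 F174981) (tt N20518 F174982) (tt N21930 F174983) (tt N23172 (iv F180568)) (tt N21930 F174984) (tt N23174 (iv F180583)) (tt N20512 F174985) (tt N20631 F174986) (tt N20511 (iv D37857)))
theorem Q21932 : ∀ i, i < 21932 → P i := stepQ 21931 Q21931 (allL N21931 (tt N21386 F174987) (tt N20760 F174988) (tt N23169 (iv F180545)) (tt N21017 F174989) (tt N21739 F174990) (tt N20513 (iv D37858)) (tt N20526 F174991) (tt N21065 F174992) (tt N23175 D39102) (tt N20632 F174993))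
theorem Q21933 : ∀ i, i < 21933 → P i := stepQ 21932 Q21932 (allL N21932 (tt N21387 F174994) (tt N20761 F174995) (tt N23170 (iv F180552)) (tt N21018 F174996) (tt N20517 F174997) (tt N23176 D39103) (tt N20514 F174998) (tt N21066 F174999) (tt N20513 (iv D37859)) (tt N23177 D39104))
theorem Q21934 : ∀ i, i < 21934 → P i := stepQ 21933 Q21933 (allL N21933 (tt N21388 F175000) (tt N20762 F175001) (tt N23171 (iv F180558)) (tt N21019 F175002) (tt N21933 F175003) (tt N20514 (iv D37860)) (tt N23178 D39105) (tt N20515 F175004) (tt N20528 F175005) (tt N23179 D39106))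
theorem Q21935 : ∀ i, i < 21935 → P i := stepQ 21934 Q21934 (allL N21934 (tt N21389 F175006) (tt N20763 F175007) (tt N23172 (iv F180566)) (tt N21020 F175008) (tt N20518 F175009) (tt N23179 (iv F180613)) (tt N23177 (iv F180600)) (tt N20516 F175010) (tt N20635 F175011) (tt N20514 (iv D37861)))
theorem Q21936 : ∀ i, i < 21936 → P i := stepQ 21935 Q21935 (allL N21935 (tt N21390 F175012) (tt N20764 F175013) (tt N21747 F175014) (tt N21021 F175015) (tt N21935 F175016) (tt N21069 F175017) (tt N20515 (iv D37862)) (tt N23180 D39107) (tt N20530 F175018) (tt N21557 (iv F175019)))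
theorem Q21937 : ∀ i, i < 21937 → P i := stepQ 21936 Q21936 (allL N21936 (tt N21012 F175020) (tt N20765 F175021) (tt N21379 F175022) (tt N20941 F175023) (tt N21936 F175024) (tt N20516 F175025) (tt N21557 F175026) (tt N23179 (iv F180614)) (tt N20939 F175027) (tt N20515 (iv D37863)))
theorem Q21938 : ∀ i, i < 21938 → P i := stepQ 21937 Q21937 (allL N21937 (tt N21391 F175028) (tt N20766 F175029) (tt N23173 (iv F180574)) (tt N20519 F175030) (tt N23181 D39108) (tt N20517 (iv D37864)) (tt N21937 F175031) (tt N21071 F175032) (tt N21742 F175033) (tt N23182 D39109))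
theorem Q21939 : ∀ i, i < 21939 → P i := stepQ 21938 Q21938 (allL N21938 (tt N21392 F175034) (tt N20767 F175035) (tt N23174 (iv F180581)) (tt N20520 F175036) (tt N23177 (iv F180599)) (tt N23182 (iv F180632)) (tt N20518 F175037) (tt N21072 F175038) (tt N20638 F175039) (tt N20517 (iv D37865)))
theorem Q21940 : ∀ i, i < 21940 → P i := stepQ 21939 Q21939 (allL N21939 (tt N21393 F175040) (tt N20768 F175041) (tt N21939 F175042) (tt N23183 D39110) (tt N20519 (iv D37866)) (tt N21024 F175043) (tt N21939 F175044) (tt N21073 F175045) (tt N21207 F175046) (tt N23184 D39111))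
theorem Q21941 : ∀ i, i < 21941 → P i := stepQ 21940 Q21940 (allL N21940 (tt N21394 F175047) (tt N20769 F175048) (tt N21940 F175049) (tt N23182 (iv F180631)) (tt N23184 (iv F180644)) (tt N20520 F175050) (tt N21940 F175051) (tt N21074 F175052) (tt N23185 D39112) (tt N20519 (iv D37867)))
theorem Q21942 : ∀ i, i < 21942 → P i := stepQ 21941 Q21941 (allL N21941 (tt N21401 F175053) (tt N21586 F175054) (tt N21718 F175055) (tt N20522 F175056) (tt N20583 F175057) (tt N23186 D39113) (tt N20521 (iv D37868)) (tt N20535 F175058) (tt N21610 F175059) (tt N21504 F175060))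
theorem Q21943 : ∀ i, i < 21943 → P i := stepQ 21942 Q21942 (allL N21942 (tt N21402 F175061) (tt N21795 F175062) (tt N20526 F175063) (tt N23186 (iv F180660)) (tt N21769 F175064) (tt N20522 (iv D37869)) (tt N23169 (iv F180547)) (tt N20538 F175065) (tt N23187 D39114) (tt N21717 F175066))
theorem Q21944 : ∀ i, i < 21944 → P i := stepQ 21943 Q21943 (allL N21943 (tt N21403 F175067) (tt N21776 F175068) (tt N20527 F175069) (tt N21610 F175070) (tt N20525 F175071) (tt N23188 D39115) (tt N20523 F175072) (tt N20539 F175073) (tt N20522 (iv D37870)) (tt N21598 F175074))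
theorem Q21945 : ∀ i, i < 21945 → P i := stepQ 21944 Q21944 (allL N21944 (tt N21404 F175075) (tt N21778 F175076) (tt N20528 F175077) (tt N21414 F175078) (tt N21944 F175079) (tt N20523 (iv D37871)) (tt N23189 D39116) (tt N20524 F175080) (tt N23171 (iv F180562)) (tt N21599 F175081))
theorem Q21946 : ∀ i, i < 21946 → P i := stepQ 21945 Q21945 (allL N21945 (tt N21405 F175082) (tt N21780 F175083) (tt N20530 F175084) (tt N21395 F175085) (tt N21945 F175086) (tt N20541 F175087) (tt N20524 (iv D37872)) (tt N23190 D39117) (tt N21747 F175088) (tt N21600 F175089))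
theorem Q21947 : ∀ i, i < 21947 → P i := stepQ 21946 Q21946 (allL N21946 (tt N21406 F175090) (tt N21783 F175091) (tt N20532 F175092) (tt N20585 F175093) (tt N23191 D39118) (tt N20525 (iv D37873)) (tt N21946 F175094) (tt N20542 F175095) (tt N21772 F175096) (tt N21601 F175097))
theorem Q21948 : ∀ i, i < 21948 → P i := stepQ 21947 Q21947 (allL N21947 (tt N21407 F175098) (tt N21801 F175099) (tt N23187 (iv F180665)) (tt N21720 F175100) (tt N21774 F175101) (tt N23192 D39119) (tt N23175 (iv F180590)) (tt N20543 F175102) (tt N20526 (iv D37874)) (tt N23193 D39120))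
theorem Q21949 : ∀ i, i < 21949 → P i := stepQ 21948 Q21948 (allL N21948 (tt N21408 F175103) (tt N21731 F175104) (tt N23188 (iv F180670)) (tt N21721 F175105) (tt N23194 D39121) (tt N20527 (iv D37875)) (tt N23195 D39122) (tt N20544 F175106) (tt N23192 (iv F180699)) (tt N23196 D39123))
theorem Q21950 : ∀ i, i < 21950 → P i := stepQ 21949 Q21949 (allL N21949 (tt N21409 F175107) (tt N21723 F175108) (tt N21598 F175109) (tt N21722 F175110) (tt N20533 F175111) (tt N23196 (iv F180719)) (tt N20529 F175112) (tt N20545 F175113) (tt N21596 F175114) (tt N20527 (iv D37876)))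
theorem Q21951 : ∀ i, i < 21951 → P i := stepQ 21950 Q21950 (allL N21950 (tt N21410 F175115) (tt N21362 F175116) (tt N23189 (iv F180676)) (tt N21361 F175117) (tt N21950 F175118) (tt N23195 (iv F180714)) (tt N20528 (iv D37877)) (tt N23197 D39124) (tt N23178 (iv F180607)) (tt N23198 D39125))
theorem Q21952 : ∀ i, i < 21952 → P i := stepQ 21951 Q21951 (allL N21951 (tt N21035 F175119) (tt N21003 F175120) (tt N21599 F175121) (tt N20954 F175122) (tt N21951 F175123) (tt N20529 F175124) (tt N23198 (iv F180731)) (tt N20531 F175125) (tt N20952 (iv F175126)) (tt N20528 (iv D37878)))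
theorem Q21953 : ∀ i, i < 21953 → P i := stepQ 21952 Q21952 (allL N21952 (tt N21411 F175127) (tt N21352 F175128) (tt N23190 (iv F180682)) (tt N21350 F175129) (tt N21952 F175130) (tt N20548 F175131) (tt N23197 (iv F180725)) (tt N20530 (iv D37879)) (tt N23180 (iv F180622)) (tt N23199 D39126))
theorem Q21954 : ∀ i, i < 21954 → P i := stepQ 21953 Q21953 (allL N21953 (tt N20974 F175132) (tt N20960 F175133) (tt N21600 F175134) (tt N20917 F175135) (tt N21953 F175136) (tt N20549 F175137) (tt N20531 F175138) (tt N23199 (iv F180739)) (tt N20915 F175139) (tt N20530 (iv D37880)))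
theorem Q21955 : ∀ i, i < 21955 → P i := stepQ 21954 Q21954 (allL N21954 (tt N21412 F175140) (tt N21802 F175141) (tt N23191 (iv F180690)) (tt N21845 F175142) (tt N20532 (iv D37881)) (tt N23194 (iv F180709)) (tt N21954 F175143) (tt N20550 F175144) (tt N21782 F175145) (tt N23200 D39127))
theorem Q21956 : ∀ i, i < 21956 → P i := stepQ 21955 Q21955 (allL N21955 (tt N21413 F175146) (tt N21803 F175147) (tt N21601 F175148) (tt N20534 F175149) (tt N23200 (iv F180745)) (tt N20533 F175150) (tt N21955 F175151) (tt N20551 F175152) (tt N21800 (iv F175153)) (tt N20532 (iv D37882)))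
theorem Q21957 : ∀ i, i < 21957 → P i := stepQ 21956 Q21956 (allL N21956 (tt N21419 F175154) (tt N21665 F175155) (tt N23132 (iv F180298)) (tt N20538 F175156) (tt N23201 D39128) (tt N20535 (iv D37883)) (tt N21174 F175157) (tt N23186 (iv F180661)) (tt N23202 D39129) (tt N21544 F175158))
theorem Q21958 : ∀ i, i < 21958 → P i := stepQ 21957 Q21957 (allL N21957 (tt N21420 F175159) (tt N21630 F175160) (tt N21785 F175161) (tt N20539 F175162) (tt N20589 F175163) (tt N23203 D39130) (tt N20536 F175164) (tt N21610 F175165) (tt N20535 (iv D37884)) (tt N21528 F175166))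
theorem Q21959 : ∀ i, i < 21959 → P i := stepQ 21958 Q21958 (allL N21958 (tt N21421 F175167) (tt N21632 F175168) (tt N21743 F175169) (tt N20540 F175170) (tt N21958 F175171) (tt N20536 (iv D37885)) (tt N23204 D39131) (tt N20537 F175172) (tt N21176 F175173) (tt N21529 F175174))
theorem Q21960 : ∀ i, i < 21960 → P i := stepQ 21959 Q21959 (allL N21959 (tt N21422 F175175) (tt N21634 F175176) (tt N21375 F175177) (tt N20541 F175178) (tt N21959 F175179) (tt N21395 F175180) (tt N20537 (iv D37886)) (tt N23205 D39132) (tt N21178 F175181) (tt N21530 F175182))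
theorem Q21961 : ∀ i, i < 21961 → P i := stepQ 21960 Q21960 (allL N21960 (tt N21423 F175183) (tt N21840 F175184) (tt N20543 F175185) (tt N23202 (iv F180757)) (tt N21808 F175186) (tt N23206 D39133) (tt N21179 F175187) (tt N23187 (iv F180667)) (tt N20538 (iv D37887)) (tt N23207 D39134))
theorem Q21962 : ∀ i, i < 21962 → P i := stepQ 21961 Q21961 (allL N21961 (tt N21424 F175188) (tt N21817 F175189) (tt N20544 F175190) (tt N23203 (iv F180762)) (tt N23208 D39135) (tt N20539 (iv D37888)) (tt N23209 D39136) (tt N23188 (iv F180672)) (tt N23206 (iv F180783)) (tt N21726 F175191))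
theorem Q21963 : ∀ i, i < 21963 → P i := stepQ 21962 Q21962 (allL N21962 (tt N21426 F175192) (tt N21819 F175193) (tt N20546 F175194) (tt N23204 (iv F180768)) (tt N20557 F175195) (tt N23209 (iv F180798)) (tt N20540 (iv D37889)) (tt N23210 D39137) (tt N21182 F175196) (tt N21727 F175197))
theorem Q21964 : ∀ i, i < 21964 → P i := stepQ 21963 Q21963 (allL N21963 (tt N21428 F175198) (tt N21820 F175199) (tt N20548 F175200) (tt N23205 (iv F180775)) (tt N20558 F175201) (tt N23190 (iv F180685)) (tt N23210 (iv F180804)) (tt N20541 (iv D37890)) (tt N21183 F175202) (tt N21728 F175203))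
theorem Q21965 : ∀ i, i < 21965 → P i := stepQ 21964 Q21964 (allL N21964 (tt N21430 F175204) (tt N21822 F175205) (tt N20550 F175206) (tt N23211 D39138) (tt N20542 (iv D37891)) (tt N23208 (iv F180793)) (tt N20559 F175207) (tt N23191 (iv F180692)) (tt N21811 F175208) (tt N21729 F175209))
theorem Q21966 : ∀ i, i < 21966 → P i := stepQ 21965 Q21965 (allL N21965 (tt N21432 F175210) (tt N23158 (iv F180477)) (tt N23206 (iv F180782)) (tt N23134 (iv F180313)) (tt N23212 D39139) (tt N20543 (iv D37892)) (tt N23213 D39140) (tt N23192 (iv F180698)) (tt N20544 F175211) (tt N23214 D39141))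
theorem Q21967 : ∀ i, i < 21967 → P i := stepQ 21966 Q21966 (allL N21966 (tt N21433 F175212) (tt N23159 (iv F180481)) (tt N23207 (iv F180786)) (tt N23135 (iv F180319)) (tt N21814 F175213) (tt N23214 (iv F180820)) (tt N21186 F175214) (tt N23193 (iv F180704)) (tt N21805 F175215) (tt N20543 (iv D37893)))
theorem Q21968 : ∀ i, i < 21968 → P i := stepQ 21967 Q21967 (allL N21967 (tt N21434 F175216) (tt N23160 (iv F180487)) (tt N23208 (iv F180792)) (tt N23215 D39142) (tt N20544 (iv D37894)) (tt N20550 F175217) (tt N23216 D39143) (tt N23194 (iv F180710)) (tt N23212 (iv F180815)) (tt N23217 D39144))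
theorem Q21969 : ∀ i, i < 21969 → P i := stepQ 21968 Q21968 (allL N21968 (tt N21435 F175218) (tt N23161 (iv F180491)) (tt N23209 (iv F180797)) (tt N23136 (iv F180327)) (tt N23216 (iv F180826)) (tt N20546 F175219) (tt N20544 (iv D37895)) (tt N23218 D39145) (tt N23213 (iv F180818)) (tt N23219 D39146))
theorem Q21970 : ∀ i, i < 21970 → P i := stepQ 21969 Q21969 (allL N21969 (tt N21436 F175220) (tt N23162 (iv F180494)) (tt N21726 F175221) (tt N23137 (iv F180333)) (tt N23217 (iv F180830)) (tt N20545 F175222) (tt N23219 (iv F180837)) (tt N23196 (iv F180720)) (tt N23220 D39147) (tt N20544 (iv D37896)))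
theorem Q21971 : ∀ i, i < 21971 → P i := stepQ 21970 Q21970 (allL N21970 (tt N21437 F175223) (tt N23163 (iv F180500)) (tt N23210 (iv F180802)) (tt N23138 (iv F180340)) (tt N20564 F175224) (tt N23218 (iv F180833)) (tt N20548 F175225) (tt N20546 (iv D37897)) (tt N21190 F175226) (tt N23221 D39148))
theorem Q21972 : ∀ i, i < 21972 → P i := stepQ 21971 Q21971 (allL N21971 (tt N21438 F175227) (tt N23147 (iv F180404)) (tt N21727 F175228) (tt N23139 (iv F180348)) (tt N20565 F175229) (tt N23219 (iv F180836)) (tt N20547 F175230) (tt N23221 (iv F180847)) (tt N23144 (iv F180388)) (tt N20546 (iv D37898)))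
theorem Q21973 : ∀ i, i < 21973 → P i := stepQ 21972 Q21972 (allL N21972 (tt N21439 F175231) (tt N21126 F175232) (tt N21728 F175233) (tt N21495 F175234) (tt N20566 F175235) (tt N23199 (iv F180738)) (tt N23221 (iv F180846)) (tt N20549 F175236) (tt N21122 F175237) (tt N20548 (iv D37899)))
theorem Q21974 : ∀ i, i < 21974 → P i := stepQ 21973 Q21973 (allL N21973 (tt N21440 F175238) (tt N23143 (iv F180376)) (tt N23222 D39149) (tt N20550 (iv D37900)) (tt N20552 F175239) (tt N23215 (iv F180823)) (tt N20567 F175240) (tt N21845 F175241) (tt N21821 F175242) (tt N23223 D39150))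
theorem Q21975 : ∀ i, i < 21975 → P i := stepQ 21974 Q21974 (allL N21974 (tt N21441 F175243) (tt N23164 (iv F180507)) (tt N21729 F175244) (tt N23223 (iv F180859)) (tt N20551 F175245) (tt N23217 (iv F180831)) (tt N20568 F175246) (tt N23200 (iv F180747)) (tt N23157 (iv F180475)) (tt N20550 (iv D37901)))
theorem Q21976 : ∀ i, i < 21976 → P i := stepQ 21975 Q21975 (allL N21975 (tt N21443 F175247) (tt N21660 F175248) (tt N20552 (iv D37902)) (tt N20596 F175249) (tt N23222 (iv F180851)) (tt N21649 F175250) (tt N20569 F175251) (tt N21708 F175252) (tt N21823 F175253) (tt N21648 (iv F175254)))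
theorem Q21977 : ∀ i, i < 21977 → P i := stepQ 21976 Q21976 (allL N21976 (tt N21444 F175255) (tt N21542 F175256) (tt N21648 F175257) (tt N20553 F175258) (tt N23223 (iv F180860)) (tt N21538 F175259) (tt N20570 F175260) (tt N21846 F175261) (tt N21702 F175262) (tt N20552 (iv D37903)))
theorem Q21978 : ∀ i, i < 21978 → P i := stepQ 21977 Q21977 (allL N21977 (tt N21261 F175263) (tt N21448 F175264) (tt N20560 F175265) (tt N21977 F175266) (tt N23224 D39151) (tt N20555 (iv D37904)) (tt N23225 D39152) (tt N21977 F175267) (tt N20556 F175268) (tt N21260 F175269))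
theorem Q21979 : ∀ i, i < 21979 → P i := stepQ 21978 Q21978 (allL N21978 (tt N21446 F175270) (tt N21858 F175271) (tt N20561 F175272) (tt N23226 D39153) (tt N20556 (iv D37905)) (tt N20559 F175273) (tt N23227 D39154) (tt N21978 F175274) (tt N23224 (iv F180869)) (tt N21849 F175275))
theorem Q21980 : ∀ i, i < 21980 → P i := stepQ 21979 Q21979 (allL N21979 (tt N21447 F175276) (tt N21860 F175277) (tt N20562 F175278) (tt N21979 F175279) (tt N23227 (iv F180887)) (tt N20557 F175280) (tt N20556 (iv D37906)) (tt N23228 D39155) (tt N23225 (iv F180876)) (tt N21850 F175281))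
theorem Q21981 : ∀ i, i < 21981 → P i := stepQ 21980 Q21980 (allL N21980 (tt N21449 F175282) (tt N21861 F175283) (tt N20564 F175284) (tt N21980 F175285) (tt N23210 (iv F180803)) (tt N23228 (iv F180893)) (tt N20558 F175286) (tt N20557 (iv D37907)) (tt N21195 F175287) (tt N21851 F175288))
theorem Q21982 : ∀ i, i < 21982 → P i := stepQ 21981 Q21981 (allL N21981 (tt N21452 F175289) (tt N21712 F175290) (tt N23229 D39156) (tt N20559 (iv D37908)) (tt N20597 F175291) (tt N23226 (iv F180881)) (tt N23211 (iv F180810)) (tt N21981 F175292) (tt N21711 F175293) (tt N21852 F175294))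
theorem Q21983 : ∀ i, i < 21983 → P i := stepQ 21982 Q21982 (allL N21982 (tt N21445 F175295) (tt N21275 F175296) (tt N23224 (iv F180866)) (tt N23230 D39157) (tt N20560 (iv D37909)) (tt N21854 F175297) (tt N23231 D39158) (tt N21982 F175298) (tt N20561 F175299) (tt N21264 F175300))
theorem Q21984 : ∀ i, i < 21984 → P i := stepQ 21983 Q21983 (allL N21983 (tt N21418 F175301) (tt N21160 F175302) (tt N23225 (iv F180873)) (tt N20572 F175303) (tt N23231 (iv F180912)) (tt N21023 F175304) (tt N20560 (iv D37910)) (tt N23232 D39159) (tt N20562 F175305) (tt N21022 F175306))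
theorem Q21985 : ∀ i, i < 21985 → P i := stepQ 21984 Q21984 (allL N21984 (tt N21454 F175307) (tt N20911 F175308) (tt N23233 D39160) (tt N20561 (iv D37911)) (tt N20573 F175309) (tt N20567 F175310) (tt N23234 D39161) (tt N21984 F175311) (tt N23230 (iv F180908)) (tt N23235 D39162))
theorem Q21986 : ∀ i, i < 21986 → P i := stepQ 21985 Q21985 (allL N21985 (tt N21455 F175312) (tt N23165 (iv F180515)) (tt N23227 (iv F180886)) (tt N23234 (iv F180930)) (tt N20562 F175313) (tt N23216 (iv F180827)) (tt N20561 (iv D37912)) (tt N23236 D39163) (tt N23231 (iv F180913)) (tt N23237 D39164))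
theorem Q21987 : ∀ i, i < 21987 → P i := stepQ 21986 Q21986 (allL N21986 (tt N21456 F175314) (tt N21462 F175315) (tt N21849 F175316) (tt N23235 (iv F180935)) (tt N20563 F175317) (tt N20568 F175318) (tt N23237 (iv F180947)) (tt N21986 F175319) (tt N21372 F175320) (tt N20561 (iv D37913)))
theorem Q21988 : ∀ i, i < 21988 → P i := stepQ 21987 Q21987 (allL N21987 (tt N21457 F175321) (tt N23166 (iv F180521)) (tt N23228 (iv F180891)) (tt N20576 F175322) (tt N23236 (iv F180941)) (tt N20564 F175323) (tt N21987 F175324) (tt N20562 (iv D37914)) (tt N23232 (iv F180920)) (tt N23238 D39165))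
theorem Q21989 : ∀ i, i < 21989 → P i := stepQ 21988 Q21988 (allL N21988 (tt N21458 F175325) (tt N21442 F175326) (tt N21850 F175327) (tt N20577 F175328) (tt N23237 (iv F180946)) (tt N20565 F175329) (tt N20563 F175330) (tt N23238 (iv F180955)) (tt N21368 F175331) (tt N20562 (iv D37915)))
theorem Q21990 : ∀ i, i < 21990 → P i := stepQ 21989 Q21989 (allL N21989 (tt N21459 F175332) (tt N21127 F175333) (tt N21851 F175334) (tt N20578 F175335) (tt N23221 (iv F180845)) (tt N23238 (iv F180953)) (tt N20566 F175336) (tt N20565 F175337) (tt N21123 F175338) (tt N20564 (iv D37916)))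
theorem Q21991 : ∀ i, i < 21991 → P i := stepQ 21990 Q21990 (allL N21990 (tt N21460 F175339) (tt N21685 F175340) (tt N20567 (iv D37917)) (tt N23229 (iv F180898)) (tt N20569 F175341) (tt N23233 (iv F180925)) (tt N23222 (iv F180852)) (tt N21990 F175342) (tt N21848 F175343) (tt N21680 (iv F175344)))
theorem Q21992 : ∀ i, i < 21992 → P i := stepQ 21991 Q21991 (allL N21991 (tt N21461 F175345) (tt N21552 F175346) (tt N21680 F175347) (tt N20568 F175348) (tt N20570 F175349) (tt N23235 (iv F180937)) (tt N23223 (iv F180861)) (tt N21991 F175350) (tt N21710 F175351) (tt N20567 (iv D37918)))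
theorem Q21993 : ∀ i, i < 21993 → P i := stepQ 21992 Q21992 (allL N21992 (tt N21464 F175352) (tt N20912 F175353) (tt N23239 D39166) (tt N20571 (iv D37919)) (tt N23230 (iv F180905)) (tt N21992 F175354) (tt N23240 D39167) (tt N21992 F175355) (tt N20573 F175356) (tt N21265 F175357))
theorem Q21994 : ∀ i, i < 21994 → P i := stepQ 21993 Q21993 (allL N21993 (tt N21465 F175358) (tt N20903 F175359) (tt N21993 F175360) (tt N23240 (iv F180966)) (tt N20572 F175361) (tt N23184 (iv F180645)) (tt N20571 (iv D37920)) (tt N23241 D39168) (tt N20574 F175362) (tt N21024 F175363))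
theorem Q21995 : ∀ i, i < 21995 → P i := stepQ 21994 Q21994 (allL N21994 (tt N21466 F175364) (tt N21095 F175365) (tt N21994 F175366) (tt N23232 (iv F180917)) (tt N23241 (iv F180972)) (tt N20666 F175367) (tt N21994 F175368) (tt N20572 (iv D37921)) (tt N20576 F175369) (tt N20665 F175370))
theorem Q21996 : ∀ i, i < 21996 → P i := stepQ 21995 Q21995 (allL N21995 (tt N21467 F175371) (tt N21252 F175372) (tt N20573 (iv D37922)) (tt N21995 F175373) (tt N23233 (iv F180924)) (tt N20580 F175374) (tt N23242 D39169) (tt N21995 F175375) (tt N23239 (iv F180962)) (tt N21678 (iv F175376)))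
theorem Q21997 : ∀ i, i < 21997 → P i := stepQ 21996 Q21996 (allL N21996 (tt N21468 F175377) (tt N20900 F175378) (tt N23242 (iv F180979)) (tt N20574 F175379) (tt N23234 (iv F180931)) (tt N20896 F175380) (tt N20573 (iv D37923)) (tt N23243 D39170) (tt N23240 (iv F180967)) (tt N23244 D39171))
theorem Q21998 : ∀ i, i < 21998 → P i := stepQ 21997 Q21997 (allL N21997 (tt N21469 F175381) (tt N20909 F175382) (tt N21678 F175383) (tt N20575 F175384) (tt N23235 (iv F180936)) (tt N20581 F175385) (tt N23244 (iv F180993)) (tt N21997 F175386) (tt N21374 F175387) (tt N20573 (iv D37924)))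
theorem Q21999 : ∀ i, i < 21999 → P i := stepQ 21998 Q21998 (allL N21998 (tt N21470 F175388) (tt N20862 F175389) (tt N21998 F175390) (tt N23243 (iv F180985)) (tt N20576 F175391) (tt N20856 F175392) (tt N21998 F175393) (tt N20574 (iv D37925)) (tt N23241 (iv F180975)) (tt N23245 D39172))
theorem Q22000 : ∀ i, i < 22000 → P i := stepQ 21999 Q21999 (allL N21999 (tt N21471 F175394) (tt N20882 F175395) (tt N21999 F175396) (tt N23244 (iv F180991)) (tt N20577 F175397) (tt N20878 F175398) (tt N20575 F175399) (tt N23245 (iv F181001)) (tt N21370 F175400) (tt N20574 (iv D37926)))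
theorem Q22001 : ∀ i, i < 22001 → P i := stepQ 22000 Q22000 (allL N22000 (tt N21472 F175401) (tt N21219 F175402) (tt N22000 F175403) (tt N23238 (iv F180952)) (tt N23245 (iv F180998)) (tt N20578 F175404) (tt N22000 F175405) (tt N20577 F175406) (tt N21360 F175407) (tt N20576 (iv D37927)))
theorem Q22002 : ∀ i, i < 22002 → P i := stepQ 22001 Q22001 (allL N22001 (tt N21476 F175408) (tt N21592 F175409) (tt N21804 F175410) (tt N20584 F175411) (tt N23246 D39173) (tt N20583 (iv D37928)) (tt N22001 F175412) (tt N20588 F175413) (tt N23247 D39174) (tt N21505 F175414))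
theorem Q22003 : ∀ i, i < 22003 → P i := stepQ 22002 Q22002 (allL N22002 (tt N21477 F175415) (tt N21595 F175416) (tt N20586 F175417) (tt N23247 (iv F181013)) (tt N21696 F175418) (tt N21617 F175419) (tt N22002 F175420) (tt N20590 F175421) (tt N20584 (iv D37929)) (tt N21639 F175422))
theorem Q22004 : ∀ i, i < 22004 → P i := stepQ 22003 Q22003 (allL N22003 (tt N21478 F175423) (tt N21698 F175424) (tt N20587 F175425) (tt N23248 D39175) (tt N20585 (iv D37930)) (tt N21616 F175426) (tt N22003 F175427) (tt N20592 F175428) (tt N21695 F175429) (tt N21602 F175430))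
theorem Q22005 : ∀ i, i < 22005 → P i := stepQ 22004 Q22004 (allL N22004 (tt N21482 F175431) (tt N21668 F175432) (tt N23143 (iv F180377)) (tt N21843 F175433) (tt N20588 (iv D37931)) (tt N23201 (iv F180752)) (tt N20599 F175434) (tt N23246 (iv F181008)) (tt N23249 D39176) (tt N21545 F175435))
theorem Q22006 : ∀ i, i < 22006 → P i := stepQ 22005 Q22005 (allL N22005 (tt N21483 F175436) (tt N21669 F175437) (tt N21730 F175438) (tt N20590 F175439) (tt N23249 (iv F181030)) (tt N23250 D39177) (tt N20600 F175440) (tt N23247 (iv F181016)) (tt N20588 (iv D37932)) (tt N23251 D39178))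
theorem Q22007 : ∀ i, i < 22007 → P i := stepQ 22006 Q22006 (allL N22006 (tt N21484 F175441) (tt N21636 F175442) (tt N21593 F175443) (tt N20591 F175444) (tt N23252 D39179) (tt N20589 (iv D37933)) (tt N22006 F175445) (tt N21614 F175446) (tt N23250 (iv F181038)) (tt N21531 F175447))
theorem Q22008 : ∀ i, i < 22008 → P i := stepQ 22007 Q22007 (allL N22007 (tt N21485 F175448) (tt N21639 F175449) (tt N20593 F175450) (tt N23250 (iv F181035)) (tt N21699 F175451) (tt N20590 (iv D37934)) (tt N22007 F175452) (tt N21617 F175453) (tt N20591 F175454) (tt N21595 (iv F175455)))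
theorem Q22009 : ∀ i, i < 22009 → P i := stepQ 22008 Q22008 (allL N22008 (tt N21486 F175456) (tt N21617 F175457) (tt N20594 F175458) (tt N23251 (iv F181043)) (tt N20596 F175459) (tt N21595 F175460) (tt N20598 F175461) (tt N21639 F175462) (tt N21519 F175463) (tt N20590 (iv D37935)))
theorem Q22010 : ∀ i, i < 22010 → P i := stepQ 22009 Q22009 (allL N22009 (tt N21487 F175464) (tt N21638 F175465) (tt N20595 F175466) (tt N23253 D39180) (tt N20591 (iv D37936)) (tt N20592 F175467) (tt N22009 F175468) (tt N21616 F175469) (tt N21699 F175470) (tt N21532 F175471))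
theorem Q22011 : ∀ i, i < 22011 → P i := stepQ 22010 Q22010 (allL N22010 (tt N21488 F175472) (tt N21707 F175473) (tt N23251 (iv F181042)) (tt N20592 (iv D37937)) (tt N23211 (iv F180809)) (tt N23253 (iv F181057)) (tt N20597 F175474) (tt N23248 (iv F181023)) (tt N21705 F175475) (tt N21730 F175476))
theorem Q22012 : ∀ i, i < 22012 → P i := stepQ 22011 Q22011 (allL N22011 (tt N21490 F175477) (tt N21676 F175478) (tt N20597 (iv D37938)) (tt N20598 F175479) (tt N23229 (iv F180899)) (tt N22011 F175480) (tt N23251 (iv F181045)) (tt N22011 F175481) (tt N21551 F175482) (tt N20600 F175483))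
theorem Q22013 : ∀ i, i < 22013 → P i := stepQ 22012 Q22012 (allL N22012 (tt N21494 F175484) (tt N21684 F175485) (tt N21852 F175486) (tt N21680 F175487) (tt N20600 F175488) (tt N23254 D39181) (tt N23249 (iv F181031)) (tt N22012 F175489) (tt N20599 (iv D37939)) (tt N23229 (iv F180902)))
theorem Q22014 : ∀ i, i < 22014 → P i := stepQ 22013 Q22013 (allL N22013 (tt N20983 F175490) (tt N20604 F175491) (tt N21495 F175492) (tt N21741 F175493) (tt N20602 F175494) (tt N20921 F175495) (tt N23255 D39182) (tt N20601 (iv D37940)) (tt N21514 F175496) (tt N21376 F175497))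
theorem Q22015 : ∀ i, i < 22015 → P i := stepQ 22014 Q22014 (allL N22014 (tt N21285 F175498) (tt N20605 F175499) (tt N21496 F175500) (tt N22014 F175501) (tt N23255 (iv F181073)) (tt N21056 F175502) (tt N20602 (iv D37941)) (tt N21736 F175503) (tt N21548 F175504) (tt N21377 F175505))
theorem Q22016 : ∀ i, i < 22016 → P i := stepQ 22015 Q22015 (allL N22015 (tt N20625 F175506) (tt N21741 F175507) (tt N20952 F175508) (tt N20604 F175509) (tt N22015 F175510) (tt N20732 F175511) (tt N23256 D39183) (tt N20603 (iv D37942)) (tt N21599 F175512) (tt N21378 F175513))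
theorem Q22017 : ∀ i, i < 22017 → P i := stepQ 22016 Q22016 (allL N22016 (tt N20627 F175514) (tt N23255 (iv F181070)) (tt N20606 F175515) (tt N23256 (iv F181080)) (tt N20605 F175516) (tt N23257 D39184) (tt N20604 (iv D37943)) (tt N21738 F175517) (tt N21611 F175518) (tt N21380 F175519))
theorem Q22018 : ∀ i, i < 22018 → P i := stepQ 22017 Q22017 (allL N22017 (tt N20632 F175520) (tt N21498 F175521) (tt N23257 (iv F181086)) (tt N20956 F175522) (tt N21065 F175523) (tt N20606 (iv D37944)) (tt N21076 F175524) (tt N21739 F175525) (tt N23258 D39185) (tt N21386 F175526))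
theorem Q22019 : ∀ i, i < 22019 → P i := stepQ 22018 Q22018 (allL N22018 (tt N20633 F175527) (tt N21136 F175528) (tt N21611 F175529) (tt N20957 F175530) (tt N20608 F175531) (tt N23259 D39186) (tt N20607 F175532) (tt N21740 F175533) (tt N20606 (iv D37945)) (tt N21415 (iv F175534)))
theorem Q22020 : ∀ i, i < 22020 → P i := stepQ 22019 Q22019 (allL N22019 (tt N20637 F175535) (tt N21220 F175536) (tt N21672 F175537) (tt N20609 F175538) (tt N23260 D39187) (tt N20608 (iv D37946)) (tt N20610 F175539) (tt N21742 F175540) (tt N21071 F175541) (tt N21480 F175542))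
theorem Q22021 : ∀ i, i < 22021 → P i := stepQ 22020 Q22020 (allL N22020 (tt N20646 F175543) (tt N21247 F175544) (tt N21671 F175545) (tt N21253 F175546) (tt N20610 (iv D37947)) (tt N21670 F175547) (tt N23260 (iv F181108)) (tt N22020 F175548) (tt N21296 F175549) (tt N21492 F175550))
theorem Q22022 : ∀ i, i < 22022 → P i := stepQ 22021 Q22021 (allL N22021 (tt N21737 F175551) (tt N21589 F175552) (tt N20973 F175553) (tt N20612 F175554) (tt N22021 F175555) (tt N21078 F175556) (tt N23261 D39188) (tt N20611 (iv D37948)) (tt N23262 D39189) (tt N21058 F175557))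
theorem Q22023 : ∀ i, i < 22023 → P i := stepQ 22022 Q22022 (allL N22022 (tt N21600 F175558) (tt N21565 F175559) (tt N20974 F175560) (tt N20613 F175561) (tt N22022 F175562) (tt N21429 (iv F175564)) (tt N20626 F175563) (tt N23262 (iv F181124)) (tt N20611 (iv D37949)) (tt N21405 (iv F175565)))
theorem Q22024 : ∀ i, i < 22024 → P i := stepQ 22023 Q22023 (allL N22023 (tt N21738 F175566) (tt N21796 F175567) (tt N20617 F175568) (tt N23261 (iv F181115)) (tt N20614 F175569) (tt N23263 D39190) (tt N20612 (iv D37950)) (tt N20627 F175570) (tt N23264 D39191) (tt N21060 F175571))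
theorem Q22025 : ∀ i, i < 22025 → P i := stepQ 22024 Q22024 (allL N22024 (tt N21612 F175572) (tt N21758 F175573) (tt N20618 F175574) (tt N23262 (iv F181122)) (tt N20615 F175575) (tt N23265 D39192) (tt N23264 (iv F181138)) (tt N20613 F175576) (tt N20612 (iv D37951)) (tt N23266 D39193))
theorem Q22026 : ∀ i, i < 22026 → P i := stepQ 22025 Q22025 (allL N22025 (tt N21530 F175577) (tt N21390 F175578) (tt N20619 F175579) (tt N21429 F175580) (tt N22025 F175581) (tt N20613 (iv D37952)) (tt N20672 F175582) (tt N23265 (iv F181145)) (tt N21082 F175583) (tt N21422 (iv F175584)))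
theorem Q22027 : ∀ i, i < 22027 → P i := stepQ 22026 Q22026 (allL N22026 (tt N21395 F175585) (tt N21759 F175586) (tt N20620 F175587) (tt N21405 F175588) (tt N20616 F175589) (tt N21422 F175590) (tt N20629 F175591) (tt N23266 (iv F181154)) (tt N21062 F175592) (tt N20613 (iv D37953)))
theorem Q22028 : ∀ i, i < 22028 → P i := stepQ 22027 Q22027 (allL N22027 (tt N21673 F175593) (tt N21867 F175594) (tt N20621 F175595) (tt N22027 F175596) (tt N23264 (iv F181137)) (tt N23267 D39194) (tt N20615 F175597) (tt N20630 F175598) (tt N20614 (iv D37954)) (tt N23268 D39195))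
theorem Q22029 : ∀ i, i < 22029 → P i := stepQ 22028 Q22028 (allL N22028 (tt N21473 F175599) (tt N21870 F175600) (tt N20622 F175601) (tt N22028 F175602) (tt N23266 (iv F181152)) (tt N22028 F175603) (tt N23268 (iv F181167)) (tt N20616 F175604) (tt N21064 F175605) (tt N20615 (iv D37955)))
theorem Q22030 : ∀ i, i < 22030 → P i := stepQ 22029 Q22029 (allL N22029 (tt N21739 F175606) (tt N20710 F175607) (tt N23263 (iv F181129)) (tt N20981 F175608) (tt N21386 F175609) (tt N20617 (iv D37956)) (tt N21086 F175610) (tt N20632 F175611) (tt N23269 D39196) (tt N21065 F175612))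
theorem Q22031 : ∀ i, i < 22031 → P i := stepQ 22030 Q22030 (allL N22030 (tt N21740 F175613) (tt N20711 F175614) (tt N23264 (iv F181136)) (tt N20982 F175615) (tt N20621 F175616) (tt N23270 D39197) (tt N20618 F175617) (tt N20633 F175618) (tt N20617 (iv D37957)) (tt N23271 D39198))
theorem Q22032 : ∀ i, i < 22032 → P i := stepQ 22031 Q22031 (allL N22031 (tt N21741 F175619) (tt N20712 F175620) (tt N23265 (iv F181142)) (tt N20983 F175621) (tt N22031 F175622) (tt N20618 (iv D37958)) (tt N23272 D39199) (tt N20619 F175623) (tt N21088 F175624) (tt N23273 D39200))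
theorem Q22033 : ∀ i, i < 22033 → P i := stepQ 22032 Q22032 (allL N22032 (tt N21396 F175625) (tt N20713 F175626) (tt N23266 (iv F181150)) (tt N20984 F175627) (tt N20622 F175628) (tt N23273 (iv F181197)) (tt N23271 (iv F181184)) (tt N20620 F175629) (tt N21068 F175630) (tt N20618 (iv D37959)))
theorem Q22034 : ∀ i, i < 22034 → P i := stepQ 22033 Q22033 (allL N22033 (tt N21525 F175631) (tt N20714 F175632) (tt N20672 F175633) (tt N20985 F175634) (tt N22033 F175635) (tt N20636 F175636) (tt N20619 (iv D37960)) (tt N23274 D39201) (tt N21090 F175637) (tt N21305 (iv F175638)))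
theorem Q22035 : ∀ i, i < 22035 → P i := stepQ 22034 Q22034 (allL N22034 (tt N21375 F175639) (tt N20715 F175640) (tt N21422 F175641) (tt N20986 F175642) (tt N22034 F175643) (tt N20620 F175644) (tt N21305 F175645) (tt N23273 (iv F181198)) (tt N21653 (iv F175646)) (tt N20619 (iv D37961)))
theorem Q22036 : ∀ i, i < 22036 → P i := stepQ 22035 Q22035 (allL N22035 (tt N21742 F175647) (tt N20716 F175648) (tt N23267 (iv F181158)) (tt N20623 F175649) (tt N23275 D39202) (tt N20621 (iv D37962)) (tt N22035 F175650) (tt N20637 F175651) (tt N21391 F175652) (tt N23276 D39203))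
theorem Q22037 : ∀ i, i < 22037 → P i := stepQ 22036 Q22036 (allL N22036 (tt N21474 F175653) (tt N20717 F175654) (tt N23268 (iv F181165)) (tt N20624 F175655) (tt N23271 (iv F181183)) (tt N23276 (iv F181216)) (tt N20622 F175656) (tt N20638 F175657) (tt N21072 F175658) (tt N20621 (iv D37963)))
theorem Q22038 : ∀ i, i < 22038 → P i := stepQ 22037 Q22037 (allL N22037 (tt N21207 F175659) (tt N20718 F175660) (tt N22037 F175661) (tt N23277 D39204) (tt N20623 (iv D37964)) (tt N20836 F175662) (tt N22037 F175663) (tt N20639 F175664) (tt N21393 F175665) (tt N20835 (iv F175666)))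
theorem Q22039 : ∀ i, i < 22039 → P i := stepQ 22038 Q22038 (allL N22038 (tt N21475 F175667) (tt N20719 F175668) (tt N22038 F175669) (tt N23276 (iv F181215)) (tt N20835 F175670) (tt N20624 F175671) (tt N22038 F175672) (tt N20640 F175673) (tt N23278 D39205) (tt N20623 (iv D37965)))
theorem Q22040 : ∀ i, i < 22040 → P i := stepQ 22039 Q22039 (allL N22039 (tt N23256 (iv F181077)) (tt N21587 F175674) (tt N21034 F175675) (tt N20627 F175676) (tt N22039 F175677) (tt N23279 D39206) (tt N20625 (iv D37966)) (tt N23261 (iv F181117)) (tt N23280 D39207) (tt N23167 (iv F180534)))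
theorem Q22041 : ∀ i, i < 22041 → P i := stepQ 22040 Q22040 (allL N22040 (tt N21599 F175678) (tt N21564 F175679) (tt N21035 F175680) (tt N20628 F175681) (tt N22040 F175682) (tt N20725 F175683) (tt N23280 (iv F181243)) (tt N20626 F175684) (tt N20625 (iv D37967)) (tt N21404 (iv F175685)))
theorem Q22042 : ∀ i, i < 22042 → P i := stepQ 22041 Q22041 (allL N22041 (tt N23257 (iv F181085)) (tt N21794 F175686) (tt N20632 F175687) (tt N23279 (iv F181236)) (tt N21748 F175688) (tt N20627 (iv D37968)) (tt N21717 F175689) (tt N23263 (iv F181132)) (tt N23281 D39208) (tt N23169 (iv F180549)))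
theorem Q22043 : ∀ i, i < 22043 → P i := stepQ 22042 Q22042 (allL N22042 (tt N21611 F175690) (tt N21756 F175691) (tt N20633 F175692) (tt N23280 (iv F181241)) (tt N20630 F175693) (tt N23282 D39209) (tt N20628 F175694) (tt N23264 (iv F181139)) (tt N20627 (iv D37969)) (tt N23283 D39210))
theorem Q22044 : ∀ i, i < 22044 → P i := stepQ 22043 Q22043 (allL N22043 (tt N21414 F175695) (tt N21757 F175696) (tt N20635 F175697) (tt N21404 F175698) (tt N20631 F175699) (tt N20738 F175700) (tt N23283 (iv F181258)) (tt N20629 F175701) (tt N23172 (iv F180571)) (tt N20628 (iv D37970)))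
theorem Q22045 : ∀ i, i < 22045 → P i := stepQ 22044 Q22044 (allL N22044 (tt N21672 F175702) (tt N21865 F175703) (tt N20637 F175704) (tt N22044 F175705) (tt N23284 D39211) (tt N20630 (iv D37971)) (tt N20641 F175706) (tt N23267 (iv F181161)) (tt N21751 F175707) (tt N23285 D39212))
theorem Q22046 : ∀ i, i < 22046 → P i := stepQ 22045 Q22045 (allL N22045 (tt N21479 F175708) (tt N21868 F175709) (tt N20638 F175710) (tt N22045 F175711) (tt N23283 (iv F181257)) (tt N23285 (iv F181268)) (tt N20631 F175712) (tt N23268 (iv F181168)) (tt N23174 (iv F180585)) (tt N20630 (iv D37972)))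
theorem Q22047 : ∀ i, i < 22047 → P i := stepQ 22046 Q22046 (allL N22046 (tt N23258 (iv F181091)) (tt N20796 F175713) (tt N23281 (iv F181246)) (tt N21041 F175714) (tt N21753 F175715) (tt N23286 D39213) (tt N21766 F175716) (tt N23269 (iv F181175)) (tt N20632 (iv D37973)) (tt N23287 D39214))
theorem Q22048 : ∀ i, i < 22048 → P i := stepQ 22047 Q22047 (allL N22047 (tt N23259 (iv F181097)) (tt N20797 F175717) (tt N23282 (iv F181251)) (tt N21042 F175718) (tt N23288 D39215) (tt N20633 (iv D37974)) (tt N23289 D39216) (tt N23270 (iv F181179)) (tt N23286 (iv F181272)) (tt N23290 D39217))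
theorem Q22049 : ∀ i, i < 22049 → P i := stepQ 22048 Q22048 (allL N22048 (tt N21415 F175719) (tt N20798 F175720) (tt N23283 (iv F181255)) (tt N21043 F175721) (tt N20638 F175722) (tt N23290 (iv F181288)) (tt N20635 F175723) (tt N23271 (iv F181185)) (tt N23177 (iv F180602)) (tt N20633 (iv D37975)))
theorem Q22050 : ∀ i, i < 22050 → P i := stepQ 22049 Q22049 (allL N22049 (tt N21606 F175724) (tt N20799 F175725) (tt N20737 F175726) (tt N21044 F175727) (tt N20644 F175728) (tt N23289 (iv F181283)) (tt N20634 (iv D37976)) (tt N23291 D39218) (tt N20735 F175729) (tt N21191 F175730))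
theorem Q22051 : ∀ i, i < 22051 → P i := stepQ 22050 Q22050 (allL N22050 (tt N21524 F175731) (tt N20801 F175732) (tt N20671 F175733) (tt N21045 F175734) (tt N20645 F175735) (tt N23274 (iv F181205)) (tt N23291 (iv F181295)) (tt N20636 (iv D37977)) (tt N20668 F175736) (tt N21304 F175737))
theorem Q22052 : ∀ i, i < 22052 → P i := stepQ 22051 Q22051 (allL N22051 (tt N23260 (iv F181104)) (tt N20804 F175738) (tt N23284 (iv F181261)) (tt N23292 D39219) (tt N20637 (iv D37978)) (tt N23288 (iv F181278)) (tt N20646 F175739) (tt N23275 (iv F181211)) (tt N21761 F175740) (tt N23293 D39220))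
theorem Q22053 : ∀ i, i < 22053 → P i := stepQ 22052 Q22052 (allL N22052 (tt N21480 F175741) (tt N20805 F175742) (tt N23285 (iv F181266)) (tt N20640 F175743) (tt N23293 (iv F181307)) (tt N20638 F175744) (tt N20647 F175745) (tt N23276 (iv F181218)) (tt N23294 D39221) (tt N20637 (iv D37979)))
theorem Q22054 : ∀ i, i < 22054 → P i := stepQ 22053 Q22053 (allL N22053 (tt N21232 F175746) (tt N20806 F175747) (tt N23295 D39222) (tt N20639 (iv D37980)) (tt N23292 (iv F181300)) (tt N20827 F175748) (tt N20648 F175749) (tt N23277 (iv F181223)) (tt N21763 F175750) (tt N20825 F175751))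
theorem Q22055 : ∀ i, i < 22055 → P i := stepQ 22054 Q22054 (allL N22054 (tt N21481 F175752) (tt N20807 F175753) (tt N22054 F175754) (tt N23294 (iv F181311)) (tt N20833 F175755) (tt N23185 (iv F180653)) (tt N20649 F175756) (tt N23278 (iv F181232)) (tt N20640 (iv D37981)) (tt N21765 F175757))
theorem Q22056 : ∀ i, i < 22056 → P i := stepQ 22055 Q22055 (allL N22055 (tt N21671 F175758) (tt N21864 F175759) (tt N20646 F175760) (tt N23296 D39223) (tt N20641 (iv D37982)) (tt N20808 F175761) (tt N23284 (iv F181262)) (tt N22055 F175762) (tt N21862 F175763) (tt N23297 D39224))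
theorem Q22057 : ∀ i, i < 22057 → P i := stepQ 22056 Q22056 (allL N22056 (tt N21491 F175764) (tt N21866 F175765) (tt N20647 F175766) (tt N22056 F175767) (tt N23297 (iv F181330)) (tt N20642 F175768) (tt N23285 (iv F181269)) (tt N22056 F175769) (tt N23298 D39225) (tt N20641 (iv D37983)))
theorem Q22058 : ∀ i, i < 22058 → P i := stepQ 22057 Q22057 (allL N22057 (tt N21670 F175770) (tt N20824 F175771) (tt N20808 F175772) (tt N20831 F175773) (tt N20643 (iv D37984)) (tt N20646 F175774) (tt N23299 D39226) (tt N22057 F175775) (tt N20822 F175776) (tt N20830 F175777))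
theorem Q22059 : ∀ i, i < 22059 → P i := stepQ 22058 Q22058 (allL N22058 (tt N21607 F175778) (tt N20825 F175779) (tt N20739 F175780) (tt N20650 F175781) (tt N23299 (iv F181344)) (tt N20644 F175782) (tt N20643 (iv D37985)) (tt N23300 D39227) (tt N20794 F175783) (tt N20806 F175784))
theorem Q22060 : ∀ i, i < 22060 → P i := stepQ 22059 Q22059 (allL N22059 (tt N21526 F175785) (tt N20826 F175786) (tt N20673 F175787) (tt N20651 F175788) (tt N23291 (iv F181294)) (tt N23300 (iv F181351)) (tt N20645 F175789) (tt N20644 (iv D37986)) (tt N20669 F175790) (tt N21120 F175791))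
theorem Q22061 : ∀ i, i < 22061 → P i := stepQ 22060 Q22060 (allL N22060 (tt N21253 F175792) (tt N20830 F175793) (tt N23301 D39228) (tt N20646 (iv D37987)) (tt N20648 F175794) (tt N20831 F175795) (tt N23292 (iv F181301)) (tt N22060 F175796) (tt N21871 F175797) (tt N20824 (iv F175798)))
theorem Q22062 : ∀ i, i < 22062 → P i := stepQ 22061 Q22061 (allL N22061 (tt N21492 F175799) (tt N20831 F175800) (tt N23297 (iv F181329)) (tt N20824 F175801) (tt N20647 F175802) (tt N20830 F175803) (tt N23293 (iv F181308)) (tt N22061 F175804) (tt N23302 D39229) (tt N20646 (iv D37988)))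
theorem Q22063 : ∀ i, i < 22063 → P i := stepQ 22062 Q22062 (allL N22062 (tt N21493 F175805) (tt N20832 F175806) (tt N23298 (iv F181335)) (tt N20649 F175807) (tt N23302 (iv F181365)) (tt N22062 F175808) (tt N23294 (iv F181312)) (tt N22062 F175809) (tt N20647 (iv D37989)) (tt N21873 F175810))
theorem Q22064 : ∀ i, i < 22064 → P i := stepQ 22063 Q22063 (allL N22063 (tt N21252 F175811) (tt N21863 F175812) (tt N20648 (iv D37990)) (tt N22063 F175813) (tt N23301 (iv F181357)) (tt N20652 F175814) (tt N23295 (iv F181318)) (tt N22063 F175815) (tt N21874 F175816) (tt N20816 F175817))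
theorem Q22065 : ∀ i, i < 22065 → P i := stepQ 22064 Q22064 (allL N22064 (tt N21594 F175818) (tt N20835 F175819) (tt N20839 F175820) (tt N23300 (iv F181350)) (tt N20719 F175821) (tt N20651 F175822) (tt N22064 F175823) (tt N20650 (iv D37991)) (tt N20864 F175824) (tt N20718 F175825))
theorem Q22066 : ∀ i, i < 22066 → P i := stepQ 22065 Q22065 (allL N22065 (tt N21556 F175826) (tt N21831 F175827) (tt N21058 F175828) (tt N20654 F175829) (tt N22065 F175830) (tt N20702 F175831) (tt N23303 D39230) (tt N20653 (iv D37992)) (tt N23304 D39231) (tt N20973 F175832))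
theorem Q22067 : ∀ i, i < 22067 → P i := stepQ 22066 Q22066 (allL N22066 (tt N21557 F175833) (tt N21422 F175834) (tt N21059 F175835) (tt N20655 F175836) (tt N22066 F175837) (tt N21759 (iv F175840)) (tt N21012 F175838) (tt N23304 (iv F181381)) (tt N20653 (iv D37993)) (tt N21390 F175839))
theorem Q22068 : ∀ i, i < 22068 → P i := stepQ 22067 Q22067 (allL N22067 (tt N21558 F175841) (tt N21836 F175842) (tt N20659 F175843) (tt N23303 (iv F181372)) (tt N20656 F175844) (tt N23305 D39232) (tt N20654 (iv D37994)) (tt N21013 F175845) (tt N23306 D39233) (tt N20975 F175846))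
theorem Q22069 : ∀ i, i < 22069 → P i := stepQ 22068 Q22068 (allL N22068 (tt N21559 F175847) (tt N21428 F175848) (tt N20660 F175849) (tt N23304 (iv F181379)) (tt N20657 F175850) (tt N23307 D39234) (tt N23306 (iv F181395)) (tt N20655 F175851) (tt N20654 (iv D37995)) (tt N23308 D39235))
theorem Q22070 : ∀ i, i < 22070 → P i := stepQ 22069 Q22069 (allL N22069 (tt N21560 F175852) (tt N21405 F175853) (tt N20661 F175854) (tt N21759 F175855) (tt N22069 F175856) (tt N20655 (iv D37996)) (tt N21399 F175857) (tt N23307 (iv F181402)) (tt N20706 F175858) (tt N21565 (iv F175859)))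
theorem Q22071 : ∀ i, i < 22071 → P i := stepQ 22070 Q22070 (allL N22070 (tt N21021 F175860) (tt N21429 F175861) (tt N20662 F175862) (tt N21390 F175863) (tt N20658 F175864) (tt N21565 F175865) (tt N20946 F175866) (tt N23308 (iv F181411)) (tt N20978 F175867) (tt N20655 (iv D37997)))
theorem Q22072 : ∀ i, i < 22072 → P i := stepQ 22071 Q22071 (allL N22071 (tt N21561 F175868) (tt N21449 F175869) (tt N20663 F175870) (tt N22071 F175871) (tt N23306 (iv F181394)) (tt N23309 D39236) (tt N20657 F175872) (tt N21015 F175873) (tt N20656 (iv D37998)) (tt N23310 D39237))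
theorem Q22073 : ∀ i, i < 22073 → P i := stepQ 22072 Q22072 (allL N22072 (tt N21263 F175874) (tt N21451 F175875) (tt N20664 F175876) (tt N22072 F175877) (tt N23308 (iv F181409)) (tt N22072 F175878) (tt N23310 (iv F181424)) (tt N20658 F175879) (tt N20980 F175880) (tt N20657 (iv D37999)))
theorem Q22074 : ∀ i, i < 22074 → P i := stepQ 22073 Q22073 (allL N22073 (tt N21562 F175881) (tt N21086 F175882) (tt N23305 (iv F181386)) (tt N21065 F175883) (tt N21354 F175884) (tt N20659 (iv D38000)) (tt N20710 F175885) (tt N21017 F175886) (tt N23311 D39238) (tt N20981 F175887))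
theorem Q22075 : ∀ i, i < 22075 → P i := stepQ 22074 Q22074 (allL N22074 (tt N21563 F175888) (tt N21087 F175889) (tt N23306 (iv F181393)) (tt N21066 F175890) (tt N20663 F175891) (tt N23312 D39239) (tt N20660 F175892) (tt N21018 F175893) (tt N20659 (iv D38001)) (tt N23313 D39240))
theorem Q22076 : ∀ i, i < 22076 → P i := stepQ 22075 Q22075 (allL N22075 (tt N21564 F175894) (tt N21088 F175895) (tt N23307 (iv F181399)) (tt N21067 F175896) (tt N22075 F175897) (tt N20660 (iv D38002)) (tt N23314 D39241) (tt N20661 F175898) (tt N20712 F175899) (tt N23315 D39242))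
theorem Q22077 : ∀ i, i < 22077 → P i := stepQ 22076 Q22076 (allL N22076 (tt N21398 F175900) (tt N21089 F175901) (tt N23308 (iv F181407)) (tt N21068 F175902) (tt N20664 F175903) (tt N23315 (iv F181454)) (tt N23313 (iv F181441)) (tt N20662 F175904) (tt N20984 F175905) (tt N20660 (iv D38003)))
theorem Q22078 : ∀ i, i < 22078 → P i := stepQ 22077 Q22077 (allL N22077 (tt N21565 F175906) (tt N21090 F175907) (tt N21399 F175908) (tt N21069 F175909) (tt N22077 F175910) (tt N21021 F175911) (tt N20661 (iv D38004)) (tt N23316 D39243) (tt N20714 F175912) (tt N21560 (iv F175913)))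
theorem Q22079 : ∀ i, i < 22079 → P i := stepQ 22078 Q22078 (allL N22078 (tt N21399 F175914) (tt N21091 F175915) (tt N21565 F175916) (tt N21070 F175917) (tt N22078 F175918) (tt N20662 F175919) (tt N21560 F175920) (tt N23315 (iv F181455)) (tt N21580 (iv F175921)) (tt N20661 (iv D38005)))
theorem Q22080 : ∀ i, i < 22080 → P i := stepQ 22079 Q22079 (allL N22079 (tt N21566 F175922) (tt N21092 F175923) (tt N23309 (iv F181415)) (tt N20665 F175924) (tt N23317 D39244) (tt N20663 (iv D38006)) (tt N22079 F175925) (tt N21022 F175926) (tt N21358 F175927) (tt N23232 (iv F180921)))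
theorem Q22081 : ∀ i, i < 22081 → P i := stepQ 22080 Q22080 (allL N22080 (tt N21400 F175928) (tt N21093 F175929) (tt N23310 (iv F181422)) (tt N20666 F175930) (tt N23313 (iv F181440)) (tt N23232 (iv F180918)) (tt N20664 F175931) (tt N21023 F175932) (tt N20988 F175933) (tt N20663 (iv D38007)))
theorem Q22082 : ∀ i, i < 22082 → P i := stepQ 22081 Q22081 (allL N22081 (tt N21567 F175934) (tt N21094 F175935) (tt N22081 F175936) (tt N23318 D39245) (tt N20665 (iv D38008)) (tt N21073 F175937) (tt N22081 F175938) (tt N21024 F175939) (tt N21235 F175940) (tt N23241 (iv F180976)))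
theorem Q22083 : ∀ i, i < 22083 → P i := stepQ 22082 Q22082 (allL N22082 (tt N21523 F175941) (tt N23138 (iv F180338)) (tt N20670 F175942) (tt N23163 (iv F180502)) (tt N20669 F175943) (tt N23319 D39246) (tt N20668 (iv D38009)) (tt N20735 F175944) (tt N23291 (iv F181296)) (tt N21497 F175945))
theorem Q22084 : ∀ i, i < 22084 → P i := stepQ 22083 Q22083 (allL N22083 (tt N21527 F175946) (tt N21386 F175947) (tt N23319 (iv F181477)) (tt N21713 F175948) (tt N20710 F175949) (tt N20670 (iv D38010)) (tt N21354 F175950) (tt N20736 F175951) (tt N23320 D39247) (tt N21498 F175952))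
theorem Q22085 : ∀ i, i < 22085 → P i := stepQ 22084 Q22084 (allL N22084 (tt N21528 F175953) (tt N21387 F175954) (tt N23291 (iv F181292)) (tt N21425 F175955) (tt N20673 F175956) (tt N23321 D39248) (tt N20671 F175957) (tt N20737 F175958) (tt N20670 (iv D38011)) (tt N21420 F175959))
theorem Q22086 : ∀ i, i < 22086 → P i := stepQ 22085 Q22085 (allL N22085 (tt N21529 F175960) (tt N21388 F175961) (tt N23274 (iv F181202)) (tt N21427 F175962) (tt N22085 F175963) (tt N20671 (iv D38012)) (tt N23322 D39249) (tt N20672 F175964) (tt N21356 F175965) (tt N21421 F175966))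
theorem Q22087 : ∀ i, i < 22087 → P i := stepQ 22086 Q22086 (allL N22086 (tt N21531 F175967) (tt N21391 F175968) (tt N23300 (iv F181349)) (tt N20674 F175969) (tt N23323 D39250) (tt N20673 (iv D38013)) (tt N22086 F175970) (tt N20739 F175971) (tt N20716 F175972) (tt N21484 F175973))
theorem Q22088 : ∀ i, i < 22088 → P i := stepQ 22087 Q22087 (allL N22087 (tt N21532 F175974) (tt N21393 F175975) (tt N20840 F175976) (tt N23324 D39251) (tt N20674 (iv D38014)) (tt N21337 F175977) (tt N22087 F175978) (tt N20741 F175979) (tt N20718 F175980) (tt N21487 F175981))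
theorem Q22089 : ∀ i, i < 22089 → P i := stepQ 22088 Q22088 (allL N22088 (tt N20677 F175982) (tt N20753 F175983) (tt N21051 F175984) (tt N20748 F175985) (tt N20675 (iv D38015)) (tt N20966 F175986) (tt N20743 F175987) (tt N23325 D39252) (tt N20746 F175988) (tt N20693 F175989))
theorem Q22090 : ∀ i, i < 22090 → P i := stepQ 22089 Q22089 (allL N22089 (tt N20678 F175990) (tt N20881 F175991) (tt N21052 F175992) (tt N20841 F175993) (tt N23325 (iv F181517)) (tt N20676 F175994) (tt N23326 D39253) (tt N20675 (iv D38016)) (tt N20877 F175995) (tt N20694 F175996))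
theorem Q22091 : ∀ i, i < 22091 → P i := stepQ 22090 Q22090 (allL N22090 (tt N20748 F175997) (tt N20680 F175998) (tt N21118 (iv F176003)) (tt N20677 (iv D38017)) (tt N20745 F175999) (tt N20968 F176000) (tt N20746 F176001) (tt N23327 D39254) (tt N20743 (iv F176004)) (tt N20696 F176002))
theorem Q22092 : ∀ i, i < 22092 → P i := stepQ 22091 Q22091 (allL N22091 (tt N23325 (iv F181513)) (tt N20681 F176005) (tt N21054 F176006) (tt N23327 (iv F181532)) (tt N20678 F176007) (tt N20969 F176008) (tt N23328 D39255) (tt N20677 (iv D38018)) (tt N23329 D39256) (tt N20697 F176009))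
theorem Q22093 : ∀ i, i < 22093 → P i := stepQ 22092 Q22092 (allL N22092 (tt N20746 F176010) (tt N20682 F176011) (tt N21055 F176012) (tt N20743 F176013) (tt N20679 F176014) (tt N21107 F176015) (tt N20748 F176016) (tt N23329 (iv F181548)) (tt N20677 (iv D38019)) (tt N20770 (iv F176017)))
theorem Q22094 : ∀ i, i < 22094 → P i := stepQ 22093 Q22093 (allL N22093 (tt N23326 (iv F181521)) (tt N20683 F176018) (tt N21056 F176019) (tt N20843 F176020) (tt N23328 (iv F181539)) (tt N21496 F176021) (tt N20678 (iv D38020)) (tt N20749 F176022) (tt N23330 D39257) (tt N20699 F176023))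
theorem Q22095 : ∀ i, i < 22095 → P i := stepQ 22094 Q22094 (allL N22094 (tt N20877 F176024) (tt N20684 F176025) (tt N21057 F176026) (tt N20844 F176027) (tt N23329 (iv F181546)) (tt N20908 F176028) (tt N23330 (iv F181554)) (tt N20679 F176029) (tt N20678 (iv D38021)) (tt N20891 (iv F176030)))
theorem Q22096 : ∀ i, i < 22096 → P i := stepQ 22095 Q22095 (allL N22095 (tt N21508 F176031) (tt N23327 (iv F181530)) (tt N21078 F176032) (tt N20681 F176033) (tt N20845 F176034) (tt N20973 F176035) (tt N23331 D39258) (tt N20680 (iv D38022)) (tt N21618 F176036) (tt N20702 F176037))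
theorem Q22097 : ∀ i, i < 22097 → P i := stepQ 22096 Q22096 (allL N22096 (tt N21509 F176038) (tt N23328 (iv F181537)) (tt N20685 F176039) (tt N23331 (iv F181560)) (tt N20683 F176040) (tt N23332 D39259) (tt N20681 (iv D38023)) (tt N20754 F176041) (tt N23333 D39260) (tt N20704 F176042))
theorem Q22098 : ∀ i, i < 22098 → P i := stepQ 22097 Q22097 (allL N22097 (tt N21510 F176043) (tt N23329 (iv F181543)) (tt N20686 F176044) (tt N21618 F176045) (tt N20684 F176046) (tt N23334 D39261) (tt N23333 (iv F181575)) (tt N20682 F176047) (tt N20681 (iv D38024)) (tt N21640 (iv F176048)))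
theorem Q22099 : ∀ i, i < 22099 → P i := stepQ 22098 Q22098 (allL N22098 (tt N21121 F176049) (tt N21107 F176050) (tt N20687 F176051) (tt N21102 F176052) (tt N21206 F176053) (tt N20682 (iv D38025)) (tt N21167 (iv F176056)) (tt N23334 (iv F181583)) (tt N20977 F176054) (tt N21099 F176055))
theorem Q22100 : ∀ i, i < 22100 → P i := stepQ 22099 Q22099 (allL N22099 (tt N21511 F176057) (tt N23330 (iv F181551)) (tt N20689 F176058) (tt N20847 F176059) (tt N23333 (iv F181574)) (tt N23335 D39262) (tt N20684 F176060) (tt N20758 F176061) (tt N20683 (iv D38026)) (tt N21704 (iv F176062)))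
theorem Q22101 : ∀ i, i < 22101 → P i := stepQ 22100 Q22100 (allL N22100 (tt N21512 F176063) (tt N21065 F176064) (tt N23332 (iv F181566)) (tt N21086 F176065) (tt N21498 F176066) (tt N20685 (iv D38027)) (tt N20981 F176067) (tt N20760 F176068) (tt N23336 D39263) (tt N20710 F176069))
theorem Q22102 : ∀ i, i < 22102 → P i := stepQ 22101 Q22101 (allL N22101 (tt N21513 F176070) (tt N21066 F176071) (tt N23333 (iv F181572)) (tt N21087 F176072) (tt N20689 F176073) (tt N23337 D39264) (tt N20686 F176074) (tt N20761 F176075) (tt N20685 (iv D38028)) (tt N23338 D39265))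
theorem Q22103 : ∀ i, i < 22103 → P i := stepQ 22102 Q22102 (allL N22102 (tt N21514 F176076) (tt N21067 F176077) (tt N23334 (iv F181580)) (tt N21088 F176078) (tt N21281 F176079) (tt N20686 (iv D38029)) (tt N23339 D39266) (tt N20687 F176080) (tt N20983 F176081) (tt N23340 D39267))
theorem Q22104 : ∀ i, i < 22104 → P i := stepQ 22103 Q22103 (allL N22103 (tt N21515 F176082) (tt N21068 F176083) (tt N21640 F176084) (tt N21089 F176085) (tt N20690 F176086) (tt N23340 (iv F181622)) (tt N23338 (iv F181609)) (tt N20688 F176087) (tt N20713 F176088) (tt N20686 (iv D38030)))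
theorem Q22105 : ∀ i, i < 22105 → P i := stepQ 22104 Q22104 (allL N22104 (tt N21516 F176089) (tt N21069 F176090) (tt N21167 F176091) (tt N21090 F176092) (tt N21231 F176093) (tt N20764 F176094) (tt N20687 (iv D38031)) (tt N23341 D39268) (tt N20985 F176095) (tt N21163 (iv F176096)))
theorem Q22106 : ∀ i, i < 22106 → P i := stepQ 22105 Q22105 (allL N22105 (tt N21319 F176097) (tt N21070 F176098) (tt N21099 F176099) (tt N21091 F176100) (tt N21203 F176101) (tt N20688 F176102) (tt N21163 F176103) (tt N23340 (iv F181623)) (tt N21097 F176104) (tt N20687 (iv D38032)))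
theorem Q22107 : ∀ i, i < 22107 → P i := stepQ 22106 Q22106 (allL N22106 (tt N21517 F176105) (tt N21071 F176106) (tt N23335 (iv F181588)) (tt N20691 F176107) (tt N23342 D39269) (tt N20689 (iv D38033)) (tt N21248 F176108) (tt N20766 F176109) (tt N21220 F176110) (tt N23343 D39270))
theorem Q22108 : ∀ i, i < 22108 → P i := stepQ 22107 Q22107 (allL N22107 (tt N21518 F176111) (tt N21072 F176112) (tt N21704 F176113) (tt N20692 F176114) (tt N23338 (iv F181608)) (tt N23343 (iv F181643)) (tt N20690 F176115) (tt N20767 F176116) (tt N20717 F176117) (tt N20689 (iv D38034)))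
theorem Q22109 : ∀ i, i < 22109 → P i := stepQ 22108 Q22108 (allL N22108 (tt N21519 F176118) (tt N21074 F176119) (tt N20850 F176120) (tt N23343 (iv F181642)) (tt N21228 F176121) (tt N20692 F176122) (tt N21249 F176123) (tt N20769 F176124) (tt N21486 F176125) (tt N20691 (iv D38035)))
theorem Q22110 : ∀ i, i < 22110 → P i := stepQ 22109 Q22109 (allL N22109 (tt N20696 F176126) (tt N20757 F176127) (tt N21760 (iv F176132)) (tt N20693 (iv D38036)) (tt N20751 F176128) (tt N21178 F176129) (tt N20770 F176130) (tt N23344 D39271) (tt N20781 (iv F176133)) (tt N20748 F176131))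
theorem Q22111 : ∀ i, i < 22111 → P i := stepQ 22110 Q22110 (allL N22110 (tt N20697 F176134) (tt N21568 F176135) (tt N21117 F176136) (tt N23344 (iv F181650)) (tt N20694 F176137) (tt N21183 F176138) (tt N23345 D39272) (tt N20693 (iv D38037)) (tt N23346 D39273) (tt N23325 (iv F181520)))
theorem Q22112 : ∀ i, i < 22112 → P i := stepQ 22111 Q22111 (allL N22111 (tt N20698 F176139) (tt N20787 F176140) (tt N21069 F176141) (tt N20781 F176142) (tt N20695 F176143) (tt N21747 F176144) (tt N20772 F176145) (tt N23346 (iv F181666)) (tt N20693 (iv D38038)) (tt N20778 F176146))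
theorem Q22113 : ∀ i, i < 22113 → P i := stepQ 22112 Q22112 (allL N22112 (tt N20699 F176147) (tt N21569 F176148) (tt N21301 F176149) (tt N20852 F176150) (tt N23345 (iv F181658)) (tt N21330 F176151) (tt N20694 (iv D38039)) (tt N20773 F176152) (tt N23347 D39274) (tt N23326 (iv F181528)))
theorem Q22114 : ∀ i, i < 22114 → P i := stepQ 22113 Q22113 (allL N22113 (tt N20700 F176153) (tt N20902 F176154) (tt N21295 F176155) (tt N20853 F176156) (tt N23346 (iv F181664)) (tt N22113 F176157) (tt N23347 (iv F181673)) (tt N20695 F176158) (tt N20694 (iv D38040)) (tt N20897 F176159))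
theorem Q22115 : ∀ i, i < 22115 → P i := stepQ 22114 Q22114 (allL N22114 (tt N21760 F176160) (tt N21097 F176161) (tt N20696 (iv D38041)) (tt N21580 F176162) (tt N20854 F176163) (tt N21653 F176164) (tt N20776 F176165) (tt N23348 D39275) (tt N21070 (iv F176167)) (tt N21118 F176166))
theorem Q22116 : ∀ i, i < 22116 → P i := stepQ 22115 Q22115 (allL N22115 (tt N23344 (iv F181647)) (tt N20702 F176168) (tt N23348 (iv F181678)) (tt N20697 F176169) (tt N20855 F176170) (tt N21831 F176171) (tt N23349 D39276) (tt N20696 (iv D38042)) (tt N23350 D39277) (tt N23327 (iv F181536)))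
theorem Q22117 : ∀ i, i < 22117 → P i := stepQ 22116 Q22116 (allL N22116 (tt N20781 F176172) (tt N20703 F176173) (tt N21070 F176174) (tt N20698 F176175) (tt N20775 F176176) (tt N21062 F176177) (tt N20778 F176178) (tt N23350 (iv F181694)) (tt N20696 (iv D38043)) (tt N20772 F176179))
theorem Q22118 : ∀ i, i < 22118 → P i := stepQ 22117 Q22117 (allL N22117 (tt N23345 (iv F181655)) (tt N20704 F176180) (tt N21796 F176181) (tt N23349 (iv F181685)) (tt N20699 F176182) (tt N23351 D39278) (tt N20697 (iv D38044)) (tt N20779 F176183) (tt N23352 D39279) (tt N23328 (iv F181541)))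
theorem Q22119 : ∀ i, i < 22119 → P i := stepQ 22118 Q22118 (allL N22118 (tt N23346 (iv F181660)) (tt N20705 F176184) (tt N21758 F176185) (tt N23350 (iv F181691)) (tt N20700 F176186) (tt N23353 D39280) (tt N23352 (iv F181703)) (tt N20698 F176187) (tt N20697 (iv D38045)) (tt N23354 D39281))
theorem Q22120 : ∀ i, i < 22120 → P i := stepQ 22119 Q22119 (allL N22119 (tt N21747 F176188) (tt N20706 F176189) (tt N21390 F176190) (tt N21062 F176191) (tt N22119 F176192) (tt N20698 (iv D38046)) (tt N21382 F176193) (tt N23353 (iv F181710)) (tt N21405 F176194) (tt N21059 (iv F176195)))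
theorem Q22121 : ∀ i, i < 22121 → P i := stepQ 22120 Q22120 (allL N22120 (tt N20778 F176196) (tt N20707 F176197) (tt N21759 F176198) (tt N20772 F176199) (tt N20701 F176200) (tt N21059 F176201) (tt N20781 F176202) (tt N23354 (iv F181719)) (tt N20770 F176203) (tt N20698 (iv D38047)))
theorem Q22122 : ∀ i, i < 22122 → P i := stepQ 22121 Q22121 (allL N22121 (tt N23347 (iv F181668)) (tt N20708 F176204) (tt N21867 F176205) (tt N20858 F176206) (tt N23352 (iv F181702)) (tt N23355 D39282) (tt N20700 F176207) (tt N20782 F176208) (tt N20699 (iv D38048)) (tt N23356 D39283))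
theorem Q22123 : ∀ i, i < 22123 → P i := stepQ 22122 Q22122 (allL N22122 (tt N20897 F176209) (tt N20709 F176210) (tt N21870 F176211) (tt N20859 F176212) (tt N23354 (iv F181717)) (tt N22122 F176213) (tt N23356 (iv F181732)) (tt N20701 F176214) (tt N20891 F176215) (tt N20700 (iv D38049)))
theorem Q22124 : ∀ i, i < 22124 → P i := stepQ 22123 Q22123 (allL N22123 (tt N21574 F176216) (tt N23349 (iv F181684)) (tt N21105 F176217) (tt N20704 F176218) (tt N20860 F176219) (tt N23357 D39284) (tt N20702 (iv D38050)) (tt N20784 F176220) (tt N23358 D39285) (tt N23331 (iv F181564)))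
theorem Q22125 : ∀ i, i < 22125 → P i := stepQ 22124 Q22124 (allL N22124 (tt N21575 F176221) (tt N23350 (iv F181689)) (tt N21106 F176222) (tt N20705 F176223) (tt N20861 F176224) (tt N23359 D39286) (tt N23358 (iv F181743)) (tt N20703 F176225) (tt N20702 (iv D38051)) (tt N21642 F176226))
theorem Q22126 : ∀ i, i < 22126 → P i := stepQ 22125 Q22125 (allL N22125 (tt N20776 F176227) (tt N21062 F176228) (tt N20770 F176229) (tt N20706 F176230) (tt N20890 F176231) (tt N20703 (iv D38052)) (tt N21760 (iv F176234)) (tt N23359 (iv F181751)) (tt N21759 F176232) (tt N21055 F176233))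
theorem Q22127 : ∀ i, i < 22127 → P i := stepQ 22126 Q22126 (allL N22126 (tt N21576 F176235) (tt N23351 (iv F181696)) (tt N20710 F176236) (tt N23357 (iv F181737)) (tt N23319 (iv F181478)) (tt N20704 (iv D38053)) (tt N23305 (iv F181388)) (tt N20788 F176237) (tt N23360 D39287) (tt N23332 (iv F181570)))
theorem Q22128 : ∀ i, i < 22128 → P i := stepQ 22127 Q22127 (allL N22127 (tt N21577 F176238) (tt N23352 (iv F181700)) (tt N20711 F176239) (tt N23358 (iv F181741)) (tt N20708 F176240) (tt N23361 D39288) (tt N20705 F176241) (tt N20789 F176242) (tt N20704 (iv D38054)) (tt N23362 D39289))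
theorem Q22129 : ∀ i, i < 22129 → P i := stepQ 22128 Q22128 (allL N22128 (tt N21578 F176243) (tt N23353 (iv F181706)) (tt N20712 F176244) (tt N23359 (iv F181749)) (tt N22128 F176245) (tt N20705 (iv D38055)) (tt N23363 D39290) (tt N20706 F176246) (tt N23307 (iv F181403)) (tt N23364 D39291))
theorem Q22130 : ∀ i, i < 22130 → P i := stepQ 22129 Q22129 (allL N22129 (tt N21579 F176247) (tt N23354 (iv F181714)) (tt N20713 F176248) (tt N21642 F176249) (tt N20709 F176250) (tt N23364 (iv F181775)) (tt N23362 (iv F181764)) (tt N20707 F176251) (tt N21640 F176252) (tt N20705 (iv D38056)))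
theorem Q22131 : ∀ i, i < 22131 → P i := stepQ 22130 Q22130 (allL N22130 (tt N21580 F176253) (tt N21382 F176254) (tt N20714 F176255) (tt N21760 F176256) (tt N22130 F176257) (tt N20792 F176258) (tt N20706 (iv D38057)) (tt N23365 D39292) (tt N21399 F176259) (tt N21590 (iv F176260)))
theorem Q22132 : ∀ i, i < 22132 → P i := stepQ 22131 Q22131 (allL N22131 (tt N21581 F176261) (tt N21059 F176262) (tt N20715 F176263) (tt N21055 F176264) (tt N22131 F176265) (tt N20707 F176266) (tt N21590 F176267) (tt N23364 (iv F181776)) (tt N21053 F176268) (tt N20706 (iv D38058)))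
theorem Q22133 : ∀ i, i < 22133 → P i := stepQ 22132 Q22132 (allL N22132 (tt N21582 F176269) (tt N23355 (iv F181722)) (tt N20716 F176270) (tt N20864 F176271) (tt N23366 D39293) (tt N20708 (iv D38059)) (tt N22132 F176272) (tt N20794 F176273) (tt N23300 (iv F181353)) (tt N23367 D39294))
theorem Q22134 : ∀ i, i < 22134 → P i := stepQ 22133 Q22133 (allL N22133 (tt N21583 F176274) (tt N23356 (iv F181729)) (tt N20717 F176275) (tt N20865 F176276) (tt N23362 (iv F181763)) (tt N23367 (iv F181793)) (tt N20709 F176277) (tt N20795 F176278) (tt N21704 F176279) (tt N20708 (iv D38060)))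
theorem Q22135 : ∀ i, i < 22135 → P i := stepQ 22134 Q22134 (allL N22134 (tt N21584 F176280) (tt N23269 (iv F181171)) (tt N23360 (iv F181755)) (tt N21112 F176281) (tt N23320 (iv F181485)) (tt N23368 D39295) (tt N23311 (iv F181431)) (tt N20796 F176282) (tt N20710 (iv D38061)) (tt N23369 D39296))
theorem Q22136 : ∀ i, i < 22136 → P i := stepQ 22135 Q22135 (allL N22135 (tt N21585 F176283) (tt N23270 (iv F181177)) (tt N23361 (iv F181758)) (tt N21113 F176284) (tt N23370 D39297) (tt N20711 (iv D38062)) (tt N23371 D39298) (tt N20797 F176285) (tt N23368 (iv F181800)) (tt N23372 D39299))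
theorem Q22137 : ∀ i, i < 22137 → P i := stepQ 22136 Q22136 (allL N22136 (tt N21586 F176286) (tt N23271 (iv F181181)) (tt N23362 (iv F181761)) (tt N21114 F176287) (tt N20717 F176288) (tt N23372 (iv F181812)) (tt N20713 F176289) (tt N20798 F176290) (tt N23338 (iv F181611)) (tt N20711 (iv D38063)))
theorem Q22138 : ∀ i, i < 22138 → P i := stepQ 22137 Q22137 (allL N22137 (tt N21587 F176291) (tt N23272 (iv F181188)) (tt N23363 (iv F181768)) (tt N21115 F176292) (tt N22137 F176293) (tt N23371 (iv F181809)) (tt N20712 (iv D38064)) (tt N23373 D39300) (tt N23314 (iv F181448)) (tt N23374 D39301))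
theorem Q22139 : ∀ i, i < 22139 → P i := stepQ 22138 Q22138 (allL N22138 (tt N21588 F176294) (tt N23273 (iv F181193)) (tt N23364 (iv F181772)) (tt N21116 F176295) (tt N22138 F176296) (tt N20713 F176297) (tt N23374 (iv F181821)) (tt N20715 F176298) (tt N23375 D39302) (tt N20712 (iv D38065)))
theorem Q22140 : ∀ i, i < 22140 → P i := stepQ 22139 Q22139 (allL N22139 (tt N21589 F176299) (tt N23274 (iv F181201)) (tt N23365 (iv F181780)) (tt N21117 F176300) (tt N22139 F176301) (tt N20801 F176302) (tt N23373 (iv F181817)) (tt N20714 (iv D38066)) (tt N23316 (iv F181463)) (tt N23376 D39303))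
theorem Q22141 : ∀ i, i < 22141 → P i := stepQ 22140 Q22140 (allL N22140 (tt N21053 F176303) (tt N21305 F176304) (tt N21590 F176305) (tt N21051 F176306) (tt N22140 F176307) (tt N20802 F176308) (tt N20715 F176309) (tt N23376 (iv F181836)) (tt N21581 F176310) (tt N20714 (iv D38067)))
theorem Q22142 : ∀ i, i < 22142 → P i := stepQ 22141 Q22141 (allL N22141 (tt N21590 F176311) (tt N21653 F176312) (tt N21053 F176313) (tt N21118 F176314) (tt N22141 F176315) (tt N21097 F176316) (tt N21581 F176317) (tt N23375 (iv F181828)) (tt N20715 (iv D38068)) (tt N21580 F176318))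
theorem Q22143 : ∀ i, i < 22143 → P i := stepQ 22142 Q22142 (allL N22142 (tt N21591 F176319) (tt N23275 (iv F181209)) (tt N23366 (iv F181787)) (tt N23377 D39304) (tt N20716 (iv D38069)) (tt N23370 (iv F181805)) (tt N22142 F176320) (tt N20804 F176321) (tt N23323 (iv F181503)) (tt N23378 D39305))
theorem Q22144 : ∀ i, i < 22144 → P i := stepQ 22143 Q22143 (allL N22143 (tt N21592 F176322) (tt N23276 (iv F181214)) (tt N23367 (iv F181791)) (tt N20719 F176323) (tt N23378 (iv F181844)) (tt N20717 F176324) (tt N22143 F176325) (tt N20805 F176326) (tt N23379 D39306) (tt N20716 (iv D38070)))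
theorem Q22145 : ∀ i, i < 22145 → P i := stepQ 22144 Q22144 (allL N22144 (tt N21593 F176327) (tt N23277 (iv F181220)) (tt N21484 F176328) (tt N20718 (iv D38071)) (tt N23377 (iv F181839)) (tt N21120 F176329) (tt N22144 F176330) (tt N20806 F176331) (tt N23324 (iv F181511)) (tt N23300 (iv F181354)))
theorem Q22146 : ∀ i, i < 22146 → P i := stepQ 22145 Q22145 (allL N22145 (tt N21595 F176332) (tt N23278 (iv F181227)) (tt N20867 F176333) (tt N23379 (iv F181849)) (tt N20864 F176334) (tt N21486 F176335) (tt N22145 F176336) (tt N20807 F176337) (tt N20719 (iv D38072)) (tt N21485 F176338))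
theorem Q22147 : ∀ i, i < 22147 → P i := stepQ 22146 Q22146 (allL N22146 (tt N21315 F176339) (tt N20722 F176340) (tt N21554 F176341) (tt N21344 F176342) (tt N20721 F176343) (tt N21499 F176344) (tt N23380 D39307) (tt N20720 (iv D38073)) (tt N21357 F176345) (tt N20964 F176346))
theorem Q22148 : ∀ i, i < 22148 → P i := stepQ 22147 Q22147 (allL N22147 (tt N21316 F176347) (tt N20723 F176348) (tt N21555 F176349) (tt N20869 F176350) (tt N23380 (iv F181858)) (tt N21123 F176351) (tt N20721 (iv D38074)) (tt N21010 F176352) (tt N21359 F176353) (tt N20965 F176354))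
theorem Q22149 : ∀ i, i < 22149 → P i := stepQ 22148 Q22148 (allL N22148 (tt N21596 F176355) (tt N23380 (iv F181855)) (tt N20724 F176356) (tt N23150 (iv F180425)) (tt N20723 F176357) (tt N23381 D39308) (tt N20722 (iv D38075)) (tt N21140 F176358) (tt N21409 F176359) (tt N21077 F176360))
theorem Q22150 : ∀ i, i < 22150 → P i := stepQ 22149 Q22149 (allL N22149 (tt N21597 F176361) (tt N21562 F176362) (tt N23381 (iv F181863)) (tt N20736 F176363) (tt N21128 F176364) (tt N20724 (iv D38076)) (tt N21503 F176365) (tt N21713 F176366) (tt N23382 D39309) (tt N21318 F176367))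
theorem Q22151 : ∀ i, i < 22151 → P i := stepQ 22150 Q22150 (allL N22150 (tt N21598 F176368) (tt N21563 F176369) (tt N21409 F176370) (tt N20737 F176371) (tt N20726 F176372) (tt N23383 D39310) (tt N20725 F176373) (tt N21425 F176374) (tt N20724 (iv D38077)) (tt N21403 F176375))
theorem Q22152 : ∀ i, i < 22152 → P i := stepQ 22151 Q22151 (allL N22151 (tt N21601 F176376) (tt N21566 F176377) (tt N21413 F176378) (tt N20727 F176379) (tt N23384 D39311) (tt N20726 (iv D38078)) (tt N22151 F176380) (tt N21431 F176381) (tt N21132 F176382) (tt N21406 F176383))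
theorem Q22153 : ∀ i, i < 22153 → P i := stepQ 22152 Q22152 (allL N22152 (tt N21602 F176384) (tt N21567 F176385) (tt N20871 F176386) (tt N23385 D39312) (tt N20727 (iv D38079)) (tt N20741 F176387) (tt N22152 F176388) (tt N21337 F176389) (tt N21134 F176390) (tt N21478 F176391))
theorem Q22154 : ∀ i, i < 22154 → P i := stepQ 22153 Q22153 (allL N22153 (tt N21501 F176392) (tt N23139 (iv F180346)) (tt N20731 F176393) (tt N23147 (iv F180406)) (tt N20729 F176394) (tt N23386 D39313) (tt N20728 (iv D38080)) (tt N21497 F176395) (tt N23145 (iv F180395)) (tt N20735 F176396))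
theorem Q22155 : ∀ i, i < 22155 → P i := stepQ 22154 Q22154 (allL N22154 (tt N21502 F176397) (tt N23141 (iv F180361)) (tt N20733 F176398) (tt N20872 F176399) (tt N23145 (iv F180393)) (tt N23387 D39314) (tt N20730 F176400) (tt N21217 F176401) (tt N20729 (iv D38081)) (tt N21143 F176402))
theorem Q22156 : ∀ i, i < 22156 → P i := stepQ 22155 Q22155 (allL N22155 (tt N21503 F176403) (tt N21739 F176404) (tt N23386 (iv F181896)) (tt N21318 F176405) (tt N20760 F176406) (tt N20731 (iv D38082)) (tt N21597 F176407) (tt N21498 F176408) (tt N23388 D39315) (tt N20736 F176409))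
theorem Q22157 : ∀ i, i < 22157 → P i := stepQ 22156 Q22156 (allL N22156 (tt N21504 F176410) (tt N21740 F176411) (tt N23145 (iv F180391)) (tt N21075 F176412) (tt N20733 F176413) (tt N23389 D39316) (tt N20732 F176414) (tt N21136 F176415) (tt N20731 (iv D38083)) (tt N21401 (iv F176416)))
theorem Q22158 : ∀ i, i < 22158 → P i := stepQ 22157 Q22157 (allL N22157 (tt N21505 F176417) (tt N21742 F176418) (tt N23387 (iv F181902)) (tt N20734 F176419) (tt N23390 D39317) (tt N20733 (iv D38084)) (tt N22157 F176420) (tt N21220 F176421) (tt N20766 F176422) (tt N21476 F176423))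
theorem Q22159 : ∀ i, i < 22159 → P i := stepQ 22158 Q22158 (allL N22158 (tt N21605 F176424) (tt N23136 (iv F180325)) (tt N20736 F176425) (tt N23161 (iv F180492)) (tt N20788 F176426) (tt N20735 (iv D38085)) (tt N21715 F176427) (tt N23319 (iv F181480)) (tt N23391 D39318) (tt N23386 (iv F181900)))
theorem Q22160 : ∀ i, i < 22160 → P i := stepQ 22159 Q22159 (allL N22159 (tt N21608 F176428) (tt N21753 F176429) (tt N23391 (iv F181927)) (tt N23382 (iv F181870)) (tt N20796 F176430) (tt N23392 D39319) (tt N21716 F176431) (tt N23320 (iv F181487)) (tt N20736 (iv D38086)) (tt N23393 D39320))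
theorem Q22161 : ∀ i, i < 22161 → P i := stepQ 22160 Q22160 (allL N22160 (tt N21609 F176432) (tt N21754 F176433) (tt N23289 (iv F181281)) (tt N23383 (iv F181877)) (tt N23394 D39321) (tt N20737 (iv D38087)) (tt N23282 (iv F181252)) (tt N23321 (iv F181491)) (tt N23392 (iv F181932)) (tt N23395 D39322))
theorem Q22162 : ∀ i, i < 22162 → P i := stepQ 22161 Q22161 (allL N22161 (tt N21610 F176434) (tt N21755 F176435) (tt N21191 F176436) (tt N21403 F176437) (tt N20740 F176438) (tt N23395 (iv F181944)) (tt N20738 F176439) (tt N21420 F176440) (tt N21401 F176441) (tt N20737 (iv D38088)))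
theorem Q22163 : ∀ i, i < 22163 → P i := stepQ 22162 Q22162 (allL N22162 (tt N21613 F176442) (tt N21761 F176443) (tt N23299 (iv F181342)) (tt N23396 D39323) (tt N20739 (iv D38089)) (tt N23394 (iv F181939)) (tt N20808 F176444) (tt N23323 (iv F181502)) (tt N20804 F176445) (tt N23397 D39324))
theorem Q22164 : ∀ i, i < 22164 → P i := stepQ 22163 Q22163 (allL N22163 (tt N21614 F176446) (tt N21762 F176447) (tt N20806 F176448) (tt N20742 F176449) (tt N23397 (iv F181954)) (tt N20740 F176450) (tt N20809 F176451) (tt N21484 F176452) (tt N23398 D39325) (tt N20739 (iv D38090)))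
theorem Q22165 : ∀ i, i < 22165 → P i := stepQ 22164 Q22164 (allL N22164 (tt N21615 F176453) (tt N21763 F176454) (tt N23398 (iv F181959)) (tt N20741 (iv D38091)) (tt N23396 (iv F181948)) (tt N23385 (iv F181890)) (tt N20810 F176455) (tt N23324 (iv F181510)) (tt N20806 F176456) (tt N23399 D39326))
theorem Q22166 : ∀ i, i < 22166 → P i := stepQ 22165 Q22165 (allL N22165 (tt N21616 F176457) (tt N21764 F176458) (tt N20875 F176459) (tt N23399 (iv F181968)) (tt N20742 F176460) (tt N21478 F176461) (tt N20811 F176462) (tt N21487 F176463) (tt N20906 F176464) (tt N20741 (iv D38092)))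
theorem Q22167 : ∀ i, i < 22167 → P i := stepQ 22166 Q22166 (allL N22166 (tt N21617 F176465) (tt N21765 F176466) (tt N20874 F176467) (tt N23398 (iv F181960)) (tt N20906 F176468) (tt N21477 F176469) (tt N20812 F176470) (tt N21485 F176471) (tt N20742 (iv D38093)) (tt N20807 F176472))
theorem Q22168 : ∀ i, i < 22168 → P i := stepQ 22167 Q22167 (allL N22167 (tt N20747 F176473) (tt N21618 F176474) (tt N21116 F176475) (tt N23329 (iv F181545)) (tt N20744 F176476) (tt N21110 F176477) (tt N23400 D39327) (tt N20743 (iv D38094)) (tt N23327 (iv F181535)) (tt N20771 F176478))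
theorem Q22169 : ∀ i, i < 22169 → P i := stepQ 22168 Q22168 (allL N22168 (tt N20749 F176479) (tt N21619 F176480) (tt N21302 F176481) (tt N20876 F176482) (tt N23400 (iv F181976)) (tt N21331 F176483) (tt N20744 (iv D38095)) (tt N23326 (iv F181526)) (tt N23401 D39328) (tt N20773 F176484))
theorem Q22170 : ∀ i, i < 22170 → P i := stepQ 22169 Q22169 (allL N22169 (tt N20750 F176485) (tt N20845 F176486) (tt N21303 F176487) (tt N20842 F176488) (tt N23327 (iv F181533)) (tt N22169 F176489) (tt N23401 (iv F181982)) (tt N20745 F176490) (tt N20744 (iv D38096)) (tt N20855 (iv F176491)))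
theorem Q22171 : ∀ i, i < 22171 → P i := stepQ 22170 Q22170 (allL N22170 (tt N23329 (iv F181542)) (tt N20752 F176492) (tt N21647 F176493) (tt N20747 F176494) (tt N20877 F176495) (tt N21537 F176496) (tt N23402 D39329) (tt N20746 (iv D38097)) (tt N23325 (iv F181519)) (tt N20777 F176497))
theorem Q22172 : ∀ i, i < 22172 → P i := stepQ 22171 Q22171 (allL N22171 (tt N23400 (iv F181973)) (tt N20754 F176498) (tt N21797 F176499) (tt N23402 (iv F181987)) (tt N20749 F176500) (tt N23403 D39330) (tt N20747 (iv D38098)) (tt N23328 (iv F181540)) (tt N23404 D39331) (tt N20779 F176501))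
theorem Q22173 : ∀ i, i < 22173 → P i := stepQ 22172 Q22172 (allL N22172 (tt N23327 (iv F181529)) (tt N20755 F176502) (tt N21798 F176503) (tt N23325 (iv F181516)) (tt N20750 F176504) (tt N23405 D39332) (tt N23404 (iv F181997)) (tt N20748 F176505) (tt N20747 (iv D38099)) (tt N23344 (iv F181654)))
theorem Q22174 : ∀ i, i < 22174 → P i := stepQ 22173 Q22173 (allL N22173 (tt N20968 F176506) (tt N20756 F176507) (tt N21781 F176508) (tt N20966 F176509) (tt N22173 F176510) (tt N20748 (iv D38100)) (tt N21025 F176511) (tt N23405 (iv F182003)) (tt N21306 F176512) (tt N21178 F176513))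
theorem Q22175 : ∀ i, i < 22175 → P i := stepQ 22174 Q22174 (allL N22174 (tt N23401 (iv F181978)) (tt N20758 F176514) (tt N21876 F176515) (tt N20879 F176516) (tt N23404 (iv F181996)) (tt N23406 D39333) (tt N20750 F176517) (tt N23330 (iv F181555)) (tt N20749 (iv D38101)) (tt N23407 D39334))
theorem Q22176 : ∀ i, i < 22176 → P i := stepQ 22175 Q22175 (allL N22175 (tt N20855 F176518) (tt N20759 F176519) (tt N21869 F176520) (tt N20851 F176521) (tt N23344 (iv F181651)) (tt N22175 F176522) (tt N23407 (iv F182017)) (tt N20751 F176523) (tt N20783 F176524) (tt N20750 (iv D38102)))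
theorem Q22177 : ∀ i, i < 22177 → P i := stepQ 22176 Q22176 (allL N22176 (tt N21622 F176525) (tt N23402 (iv F181985)) (tt N21144 F176526) (tt N20754 F176527) (tt N20880 F176528) (tt N23408 D39335) (tt N20752 (iv D38103)) (tt N23331 (iv F181562)) (tt N23409 D39336) (tt N20784 F176529))
theorem Q22178 : ∀ i, i < 22178 → P i := stepQ 22177 Q22177 (allL N22177 (tt N21506 F176530) (tt N23325 (iv F181514)) (tt N21145 F176531) (tt N20755 F176532) (tt N20881 F176533) (tt N21311 F176534) (tt N23409 (iv F182029)) (tt N20753 F176535) (tt N20752 (iv D38104)) (tt N21568 (iv F176536)))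
theorem Q22179 : ∀ i, i < 22179 → P i := stepQ 22178 Q22178 (allL N22178 (tt N21623 F176537) (tt N23403 (iv F181990)) (tt N20760 F176538) (tt N23408 (iv F182022)) (tt N23386 (iv F181897)) (tt N20754 (iv D38105)) (tt N21799 F176539) (tt N23332 (iv F181569)) (tt N23410 D39337) (tt N20788 F176540))
theorem Q22180 : ∀ i, i < 22180 → P i := stepQ 22179 Q22179 (allL N22179 (tt N21624 F176541) (tt N23404 (iv F181994)) (tt N20761 F176542) (tt N23409 (iv F182027)) (tt N20758 F176543) (tt N23411 D39338) (tt N20755 F176544) (tt N23333 (iv F181576)) (tt N20754 (iv D38106)) (tt N23412 D39339))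
theorem Q22181 : ∀ i, i < 22181 → P i := stepQ 22180 Q22180 (allL N22180 (tt N21625 F176545) (tt N23405 (iv F181999)) (tt N20762 F176546) (tt N21311 F176547) (tt N22180 F176548) (tt N20755 (iv D38107)) (tt N23413 D39340) (tt N20756 F176549) (tt N21309 F176550) (tt N23414 D39341))
theorem Q22182 : ∀ i, i < 22182 → P i := stepQ 22181 Q22181 (allL N22181 (tt N21570 F176551) (tt N23344 (iv F181648)) (tt N20763 F176552) (tt N21568 F176553) (tt N20759 F176554) (tt N23414 (iv F182054)) (tt N23412 (iv F182041)) (tt N20757 F176555) (tt N20791 F176556) (tt N20755 (iv D38108)))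
theorem Q22183 : ∀ i, i < 22183 → P i := stepQ 22182 Q22182 (allL N22182 (tt N20949 F176557) (tt N21025 F176558) (tt N20764 F176559) (tt N20927 F176560) (tt N22182 F176561) (tt N21167 F176562) (tt N20756 (iv D38109)) (tt N23415 D39342) (tt N20925 F176563) (tt N21166 (iv F176564)))
theorem Q22184 : ∀ i, i < 22184 → P i := stepQ 22183 Q22183 (allL N22183 (tt N21553 F176565) (tt N21178 F176566) (tt N20765 F176567) (tt N21172 F176568) (tt N22183 F176569) (tt N20757 F176570) (tt N21166 F176571) (tt N23414 (iv F182055)) (tt N21634 F176572) (tt N20756 (iv D38110)))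
theorem Q22185 : ∀ i, i < 22185 → P i := stepQ 22184 Q22184 (allL N22184 (tt N21626 F176573) (tt N23406 (iv F182006)) (tt N20766 F176574) (tt N20884 F176575) (tt N23416 D39343) (tt N20758 (iv D38111)) (tt N22184 F176576) (tt N23335 (iv F181591)) (tt N23387 (iv F181906)) (tt N23417 D39344))
theorem Q22186 : ∀ i, i < 22186 → P i := stepQ 22185 Q22185 (allL N22185 (tt N21627 F176577) (tt N23407 (iv F182013)) (tt N20767 F176578) (tt N20885 F176579) (tt N23412 (iv F182040)) (tt N23417 (iv F182072)) (tt N20759 F176580) (tt N21704 F176581) (tt N20795 F176582) (tt N20758 (iv D38112)))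
theorem Q22187 : ∀ i, i < 22187 → P i := stepQ 22186 Q22186 (allL N22186 (tt N21628 F176583) (tt N23175 (iv F180587)) (tt N23410 (iv F182033)) (tt N21152 F176584) (tt N23388 (iv F181911)) (tt N23418 D39345) (tt N21801 F176585) (tt N23336 (iv F181599)) (tt N20760 (iv D38113)) (tt N23419 D39346))
theorem Q22188 : ∀ i, i < 22188 → P i := stepQ 22187 Q22187 (allL N22187 (tt N21629 F176586) (tt N23176 (iv F180593)) (tt N23411 (iv F182036)) (tt N21153 F176587) (tt N23420 D39347) (tt N20761 (iv D38114)) (tt N23421 D39348) (tt N23337 (iv F181603)) (tt N23418 (iv F182078)) (tt N23422 D39349))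
theorem Q22189 : ∀ i, i < 22189 → P i := stepQ 22188 Q22188 (allL N22188 (tt N21630 F176588) (tt N23177 (iv F180597)) (tt N23412 (iv F182038)) (tt N21154 F176589) (tt N20767 F176590) (tt N23422 (iv F182090)) (tt N20763 F176591) (tt N23338 (iv F181610)) (tt N20798 F176592) (tt N20761 (iv D38115)))
theorem Q22190 : ∀ i, i < 22190 → P i := stepQ 22189 Q22189 (allL N22189 (tt N21631 F176593) (tt N23178 (iv F180604)) (tt N23413 (iv F182045)) (tt N21155 F176594) (tt N22189 F176595) (tt N23421 (iv F182087)) (tt N20762 (iv D38116)) (tt N23423 D39350) (tt N21362 F176596) (tt N23424 D39351))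
theorem Q22191 : ∀ i, i < 22191 → P i := stepQ 22190 Q22190 (allL N22190 (tt N21632 F176597) (tt N23179 (iv F180609)) (tt N23414 (iv F182051)) (tt N21156 F176598) (tt N22190 F176599) (tt N20763 F176600) (tt N23424 (iv F182099)) (tt N20765 F176601) (tt N23425 D39352) (tt N20762 (iv D38117)))
theorem Q22192 : ∀ i, i < 22192 → P i := stepQ 22191 Q22191 (allL N22191 (tt N21633 F176602) (tt N23180 (iv F180617)) (tt N23415 (iv F182059)) (tt N21157 F176603) (tt N22191 F176604) (tt N23341 (iv F181630)) (tt N23423 (iv F182094)) (tt N20764 (iv D38118)) (tt N21352 F176605) (tt N23426 D39353))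
theorem Q22193 : ∀ i, i < 22193 → P i := stepQ 22192 Q22192 (allL N22192 (tt N21634 F176606) (tt N21557 F176607) (tt N21166 F176608) (tt N21158 F176609) (tt N22192 F176610) (tt N21163 F176611) (tt N20765 F176612) (tt N23426 (iv F182114)) (tt N21553 F176613) (tt N20764 (iv D38119)))
theorem Q22194 : ∀ i, i < 22194 → P i := stepQ 22193 Q22193 (allL N22193 (tt N21166 F176614) (tt N20939 F176615) (tt N21634 F176616) (tt N20937 F176617) (tt N22193 F176618) (tt N20803 F176619) (tt N21553 F176620) (tt N23425 (iv F182106)) (tt N20765 (iv D38120)) (tt N20949 F176621))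
theorem Q22195 : ∀ i, i < 22195 → P i := stepQ 22194 Q22194 (allL N22194 (tt N21635 F176622) (tt N23181 (iv F180625)) (tt N23416 (iv F182066)) (tt N23427 D39354) (tt N20766 (iv D38121)) (tt N23420 (iv F182084)) (tt N22194 F176623) (tt N23342 (iv F181637)) (tt N23390 (iv F181924)) (tt N23428 D39355))
theorem Q22196 : ∀ i, i < 22196 → P i := stepQ 22195 Q22195 (allL N22195 (tt N21636 F176624) (tt N23182 (iv F180630)) (tt N23417 (iv F182070)) (tt N20769 F176625) (tt N23428 (iv F182122)) (tt N20767 F176626) (tt N22195 F176627) (tt N23343 (iv F181645)) (tt N23429 D39356) (tt N20766 (iv D38122)))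
theorem Q22197 : ∀ i, i < 22197 → P i := stepQ 22196 Q22196 (allL N22196 (tt N21637 F176628) (tt N23183 (iv F180636)) (tt N23430 D39357) (tt N20768 (iv D38123)) (tt N23427 (iv F182117)) (tt N21161 F176629) (tt N22196 F176630) (tt N21238 F176631) (tt N21211 F176632) (tt N23431 D39358))
theorem Q22198 : ∀ i, i < 22198 → P i := stepQ 22197 Q22197 (allL N22197 (tt N21638 F176633) (tt N23184 (iv F180642)) (tt N20888 F176634) (tt N23431 (iv F182140)) (tt N20769 F176635) (tt N20903 F176636) (tt N22197 F176637) (tt N21228 F176638) (tt N20904 (iv F176639)) (tt N20768 (iv D38124)))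
theorem Q22199 : ∀ i, i < 22199 → P i := stepQ 22198 Q22198 (allL N22198 (tt N21639 F176640) (tt N23185 (iv F180650)) (tt N20889 F176641) (tt N23429 (iv F182126)) (tt N20904 F176642) (tt N20807 F176643) (tt N22198 F176644) (tt N21486 F176645) (tt N20769 (iv D38125)) (tt N21477 F176646))
theorem Q22200 : ∀ i, i < 22200 → P i := stepQ 22199 Q22199 (allL N22199 (tt N20777 F176647) (tt N21640 F176648) (tt N23359 (iv F181748)) (tt N20771 F176649) (tt N20891 F176650) (tt N21106 F176651) (tt N23432 D39359) (tt N20770 (iv D38126)) (tt N23354 (iv F181720)) (tt N23329 F181549))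
theorem Q22201 : ∀ i, i < 22201 → P i := stepQ 22200 Q22200 (allL N22200 (tt N20779 F176652) (tt N21641 F176653) (tt N21115 F176654) (tt N23432 (iv F182147)) (tt N20773 F176655) (tt N23433 D39360) (tt N20771 (iv D38127)) (tt N23345 (iv F181659)) (tt N23434 D39361) (tt N23400 (iv F181977)))
theorem Q22202 : ∀ i, i < 22202 → P i := stepQ 22201 Q22201 (allL N22201 (tt N20780 F176656) (tt N21642 F176657) (tt N21067 F176658) (tt N23354 (iv F181716)) (tt N20774 F176659) (tt N21061 F176660) (tt N23434 (iv F182158)) (tt N20772 F176661) (tt N20771 (iv D38128)) (tt N23350 (iv F181695)))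
theorem Q22203 : ∀ i, i < 22203 → P i := stepQ 22202 Q22202 (allL N22202 (tt N20782 F176662) (tt N21643 F176663) (tt N21293 F176664) (tt N20893 F176665) (tt N23434 (iv F182157)) (tt N21687 F176666) (tt N20774 F176667) (tt N23347 (iv F181674)) (tt N20773 (iv D38129)) (tt N23435 D39362))
theorem Q22204 : ∀ i, i < 22204 → P i := stepQ 22203 Q22203 (allL N22203 (tt N20783 F176668) (tt N20861 F176669) (tt N21294 F176670) (tt N20857 F176671) (tt N23350 (iv F181692)) (tt N20813 F176672) (tt N23435 (iv F182164)) (tt N20775 F176673) (tt N20855 F176674) (tt N20774 (iv D38130)))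
theorem Q22205 : ∀ i, i < 22205 → P i := stepQ 22204 Q22204 (allL N22204 (tt N23359 (iv F181746)) (tt N21162 F176675) (tt N20777 F176676) (tt N21578 F176677) (tt N20894 F176678) (tt N21575 F176679) (tt N23436 D39363) (tt N20776 (iv D38131)) (tt N23437 D39364) (tt N21647 F176680))
theorem Q22206 : ∀ i, i < 22206 → P i := stepQ 22205 Q22205 (allL N22205 (tt N21759 F176681) (tt N21163 F176682) (tt N20778 F176683) (tt N21560 F176684) (tt N20895 F176685) (tt N21557 F176686) (tt N21070 F176687) (tt N23437 (iv F182178)) (tt N20776 (iv D38132)) (tt N21069 F176688))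
theorem Q22207 : ∀ i, i < 22207 → P i := stepQ 22206 Q22206 (allL N22206 (tt N23432 (iv F182145)) (tt N20784 F176689) (tt N23436 (iv F182168)) (tt N20779 F176690) (tt N20896 F176691) (tt N23438 D39365) (tt N20777 (iv D38133)) (tt N23349 (iv F181687)) (tt N23439 D39366) (tt N23402 (iv F181989)))
theorem Q22208 : ∀ i, i < 22208 → P i := stepQ 22207 Q22207 (allL N22207 (tt N23354 (iv F181713)) (tt N20785 F176692) (tt N23437 (iv F182174)) (tt N20780 F176693) (tt N20897 F176694) (tt N21746 F176695) (tt N23439 (iv F182186)) (tt N20778 F176696) (tt N20777 (iv D38134)) (tt N23346 (iv F181667)))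
theorem Q22209 : ∀ i, i < 22209 → P i := stepQ 22208 Q22208 (allL N22208 (tt N23433 (iv F182149)) (tt N20788 F176697) (tt N21794 F176698) (tt N23438 (iv F182181)) (tt N23136 (iv F180328)) (tt N20779 (iv D38135)) (tt N21790 F176699) (tt N23351 (iv F181699)) (tt N23440 D39367) (tt N23403 (iv F181993)))
theorem Q22210 : ∀ i, i < 22210 → P i := stepQ 22209 Q22209 (allL N22209 (tt N23434 (iv F182154)) (tt N20789 F176700) (tt N21756 F176701) (tt N23439 (iv F182184)) (tt N20782 F176702) (tt N23441 D39368) (tt N20780 F176703) (tt N23352 (iv F181704)) (tt N20779 (iv D38136)) (tt N23442 D39369))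
theorem Q22211 : ∀ i, i < 22211 → P i := stepQ 22210 Q22210 (allL N22210 (tt N23350 (iv F181688)) (tt N20791 F176704) (tt N21757 F176705) (tt N23346 (iv F181663)) (tt N20783 F176706) (tt N21750 F176707) (tt N23442 (iv F182196)) (tt N20781 F176708) (tt N23344 (iv F181653)) (tt N20780 (iv D38137)))
theorem Q22212 : ∀ i, i < 22212 → P i := stepQ 22211 Q22211 (allL N22211 (tt N21687 F176709) (tt N20794 F176710) (tt N21865 F176711) (tt N20833 F176712) (tt N23443 D39370) (tt N20782 (iv D38138)) (tt N20814 F176713) (tt N23355 (iv F181726)) (tt N20825 F176714) (tt N23444 D39371))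
theorem Q22213 : ∀ i, i < 22213 → P i := stepQ 22212 Q22212 (allL N22212 (tt N23435 (iv F182159)) (tt N20795 F176715) (tt N21868 F176716) (tt N20899 F176717) (tt N23442 (iv F182195)) (tt N23444 (iv F182206)) (tt N20783 F176718) (tt N23356 (iv F181733)) (tt N23407 (iv F182019)) (tt N20782 (iv D38139)))
theorem Q22214 : ∀ i, i < 22214 → P i := stepQ 22213 Q22213 (allL N22213 (tt N21650 F176719) (tt N23438 (iv F182180)) (tt N21174 F176720) (tt N20788 F176721) (tt N23445 D39372) (tt N20784 (iv D38140)) (tt N23132 (iv F180300)) (tt N23357 (iv F181738)) (tt N23446 D39373) (tt N23408 (iv F182024)))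
theorem Q22215 : ∀ i, i < 22215 → P i := stepQ 22214 Q22214 (allL N22214 (tt N21651 F176722) (tt N23439 (iv F182183)) (tt N21175 F176723) (tt N20789 F176724) (tt N20901 F176725) (tt N23447 D39374) (tt N20785 F176726) (tt N23358 (iv F181744)) (tt N20784 (iv D38141)) (tt N23448 D39375))
theorem Q22216 : ∀ i, i < 22216 → P i := stepQ 22215 Q22215 (allL N22215 (tt N21652 F176727) (tt N21746 F176728) (tt N21176 F176729) (tt N20790 F176730) (tt N22215 F176731) (tt N20785 (iv D38142)) (tt N23449 D39376) (tt N20786 F176732) (tt N21743 F176733) (tt N23450 D39377))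
theorem Q22217 : ∀ i, i < 22217 → P i := stepQ 22216 Q22216 (allL N22216 (tt N21572 F176734) (tt N23346 (iv F181661)) (tt N21177 F176735) (tt N20791 F176736) (tt N20902 F176737) (tt N23450 (iv F182236)) (tt N23448 (iv F182222)) (tt N20787 F176738) (tt N21568 F176739) (tt N20785 (iv D38143)))
theorem Q22218 : ∀ i, i < 22218 → P i := stepQ 22217 Q22217 (allL N22217 (tt N21653 F176740) (tt N21379 F176741) (tt N21178 F176742) (tt N20792 F176743) (tt N22217 F176744) (tt N21760 F176745) (tt N20786 (iv D38144)) (tt N23451 D39378) (tt N21375 F176746) (tt N21781 (iv F176747)))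
theorem Q22219 : ∀ i, i < 22219 → P i := stepQ 22218 Q22218 (allL N22218 (tt N21028 F176748) (tt N21747 F176749) (tt N21025 F176750) (tt N20793 F176751) (tt N22218 F176752) (tt N20787 F176753) (tt N21781 F176754) (tt N23450 (iv F182237)) (tt N21780 F176755) (tt N20786 (iv D38145)))
theorem Q22220 : ∀ i, i < 22220 → P i := stepQ 22219 Q22219 (allL N22219 (tt N21654 F176756) (tt N23440 (iv F182187)) (tt N20796 F176757) (tt N23446 (iv F182214)) (tt N23391 (iv F181928)) (tt N23452 D39379) (tt N23133 (iv F180308)) (tt N23360 (iv F181756)) (tt N20788 (iv D38146)) (tt N23453 D39380))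
theorem Q22221 : ∀ i, i < 22221 → P i := stepQ 22220 Q22220 (allL N22220 (tt N21655 F176758) (tt N23441 (iv F182190)) (tt N20797 F176759) (tt N23447 (iv F182217)) (tt N23454 D39381) (tt N20789 (iv D38147)) (tt N23455 D39382) (tt N23361 (iv F181759)) (tt N23452 (iv F182249)) (tt N23456 D39383))
theorem Q22222 : ∀ i, i < 22222 → P i := stepQ 22221 Q22221 (allL N22221 (tt N21656 F176760) (tt N23442 (iv F182193)) (tt N20798 F176761) (tt N23448 (iv F182220)) (tt N20795 F176762) (tt N23456 (iv F182261)) (tt N20791 F176763) (tt N23362 (iv F181765)) (tt N23412 (iv F182043)) (tt N20789 (iv D38148)))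
theorem Q22223 : ∀ i, i < 22223 → P i := stepQ 22222 Q22222 (allL N22222 (tt N21657 F176764) (tt N21749 F176765) (tt N20799 F176766) (tt N23449 (iv F182228)) (tt N20817 F176767) (tt N23455 (iv F182258)) (tt N20790 (iv D38149)) (tt N23457 D39384) (tt N21744 F176768) (tt N23458 D39385))
theorem Q22224 : ∀ i, i < 22224 → P i := stepQ 22223 Q22223 (allL N22223 (tt N21162 F176769) (tt N21750 F176770) (tt N20800 F176771) (tt N23450 (iv F182234)) (tt N20818 F176772) (tt N20791 F176773) (tt N23458 (iv F182272)) (tt N20793 F176774) (tt N23459 D39386) (tt N20790 (iv D38150)))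
theorem Q22225 : ∀ i, i < 22225 → P i := stepQ 22224 Q22224 (allL N22224 (tt N21658 F176775) (tt N21381 F176776) (tt N20801 F176777) (tt N23451 (iv F182242)) (tt N20819 F176778) (tt N23365 (iv F181783)) (tt N23457 (iv F182266)) (tt N20792 (iv D38151)) (tt N21376 F176779) (tt N23460 D39387))
theorem Q22226 : ∀ i, i < 22226 → P i := stepQ 22225 Q22225 (allL N22225 (tt N21097 F176780) (tt N21383 F176781) (tt N20802 F176782) (tt N21781 F176783) (tt N20820 F176784) (tt N21590 F176785) (tt N20793 F176786) (tt N23460 (iv F182287)) (tt N21319 F176787) (tt N20792 (iv D38152)))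
theorem Q22227 : ∀ i, i < 22227 → P i := stepQ 22226 Q22226 (allL N22226 (tt N21163 F176788) (tt N21395 F176789) (tt N20803 F176790) (tt N21780 F176791) (tt N20821 F176792) (tt N21634 F176793) (tt N21319 F176794) (tt N23459 (iv F182279)) (tt N20793 (iv D38153)) (tt N21516 F176795))
theorem Q22228 : ∀ i, i < 22228 → P i := stepQ 22227 Q22227 (allL N22227 (tt N21659 F176796) (tt N23443 (iv F182198)) (tt N20804 F176797) (tt N23461 D39388) (tt N20794 (iv D38154)) (tt N23454 (iv F182254)) (tt N20822 F176798) (tt N23366 (iv F181789)) (tt N23299 (iv F181345)) (tt N23462 D39389))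
theorem Q22229 : ∀ i, i < 22229 → P i := stepQ 22228 Q22228 (allL N22228 (tt N21660 F176799) (tt N23444 (iv F182203)) (tt N20805 F176800) (tt N20906 F176801) (tt N23462 (iv F182295)) (tt N20795 F176802) (tt N20823 F176803) (tt N23367 (iv F181795)) (tt N23399 (iv F181972)) (tt N20794 (iv D38155)))
theorem Q22230 : ∀ i, i < 22230 → P i := stepQ 22229 Q22229 (allL N22229 (tt N21661 F176804) (tt N23286 (iv F181270)) (tt N23452 (iv F182248)) (tt N21185 F176805) (tt N23463 D39390) (tt N20796 (iv D38156)) (tt N23464 D39391) (tt N23368 (iv F181799)) (tt N20797 F176806) (tt N23465 D39392))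
theorem Q22231 : ∀ i, i < 22231 → P i := stepQ 22230 Q22230 (allL N22230 (tt N21662 F176807) (tt N23287 (iv F181273)) (tt N23453 (iv F182251)) (tt N21186 F176808) (tt N23393 (iv F181935)) (tt N23465 (iv F182304)) (tt N23135 (iv F180321)) (tt N23369 (iv F181803)) (tt N23419 (iv F182082)) (tt N20796 (iv D38157)))
theorem Q22232 : ∀ i, i < 22232 → P i := stepQ 22231 Q22231 (allL N22231 (tt N21663 F176809) (tt N23288 (iv F181277)) (tt N23454 (iv F182253)) (tt N23466 D39393) (tt N20797 (iv D38158)) (tt N20804 F176810) (tt N23467 D39394) (tt N23370 (iv F181806)) (tt N23463 (iv F182298)) (tt N23468 D39395))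
theorem Q22233 : ∀ i, i < 22233 → P i := stepQ 22232 Q22232 (allL N22232 (tt N21664 F176811) (tt N23289 (iv F181280)) (tt N23455 (iv F182257)) (tt N21188 F176812) (tt N23467 (iv F182309)) (tt N20799 F176813) (tt N20797 (iv D38159)) (tt N23469 D39396) (tt N23464 (iv F182301)) (tt N23470 D39397))
theorem Q22234 : ∀ i, i < 22234 → P i := stepQ 22233 Q22233 (allL N22233 (tt N21665 F176814) (tt N23290 (iv F181286)) (tt N23456 (iv F182260)) (tt N21189 F176815) (tt N23468 (iv F182312)) (tt N20798 F176816) (tt N23470 (iv F182321)) (tt N23372 (iv F181813)) (tt N23471 D39398) (tt N20797 (iv D38160)))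
theorem Q22235 : ∀ i, i < 22235 → P i := stepQ 22234 Q22234 (allL N22234 (tt N21666 F176817) (tt N23291 (iv F181291)) (tt N23457 (iv F182264)) (tt N21190 F176818) (tt N20826 F176819) (tt N23469 (iv F182316)) (tt N20801 F176820) (tt N20799 (iv D38161)) (tt N23138 (iv F180343)) (tt N23472 D39399))
theorem Q22236 : ∀ i, i < 22236 → P i := stepQ 22235 Q22235 (allL N22235 (tt N21164 F176821) (tt N21191 F176822) (tt N23458 (iv F182270)) (tt N21046 F176823) (tt N20827 F176824) (tt N23470 (iv F182320)) (tt N20800 F176825) (tt N23472 (iv F182329)) (tt N23473 D39400) (tt N20799 (iv D38162)))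
theorem Q22237 : ∀ i, i < 22237 → P i := stepQ 22236 Q22236 (allL N22236 (tt N21165 F176826) (tt N21192 F176827) (tt N23459 (iv F182275)) (tt N21048 F176828) (tt N20828 F176829) (tt N23425 (iv F182105)) (tt N23473 (iv F182335)) (tt N20803 F176830) (tt N20800 (iv D38163)) (tt N23140 (iv F180359)))
theorem Q22238 : ∀ i, i < 22238 → P i := stepQ 22237 Q22237 (allL N22237 (tt N21098 F176831) (tt N21304 F176832) (tt N23460 (iv F182283)) (tt N21096 F176833) (tt N20829 F176834) (tt N23376 (iv F181835)) (tt N23472 (iv F182328)) (tt N20802 F176835) (tt N21320 (iv F176836)) (tt N20801 (iv D38164)))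
theorem Q22239 : ∀ i, i < 22239 → P i := stepQ 22238 Q22238 (allL N22238 (tt N21667 F176837) (tt N23292 (iv F181299)) (tt N23397 (iv F181953)) (tt N20804 (iv D38165)) (tt N20806 F176838) (tt N23466 (iv F182307)) (tt N20830 F176839) (tt N23377 (iv F181841)) (tt N23396 (iv F181950)) (tt N23299 (iv F181346)))
theorem Q22240 : ∀ i, i < 22240 → P i := stepQ 22239 Q22239 (allL N22239 (tt N21668 F176840) (tt N23293 (iv F181305)) (tt N23462 (iv F182294)) (tt N23299 (iv F181343)) (tt N20805 F176841) (tt N23468 (iv F182313)) (tt N20831 F176842) (tt N23378 (iv F181846)) (tt N23461 (iv F182292)) (tt N20804 (iv D38166)))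
theorem Q22241 : ∀ i, i < 22241 → P i := stepQ 22240 Q22240 (allL N22240 (tt N21669 F176843) (tt N23294 (iv F181310)) (tt N23399 (iv F181967)) (tt N20807 F176844) (tt N23461 (iv F182290)) (tt N23429 (iv F182127)) (tt N20832 F176845) (tt N23379 (iv F181852)) (tt N20805 (iv D38167)) (tt N23398 (iv F181964)))
theorem Q22242 : ∀ i, i < 22242 → P i := stepQ 22241 Q22241 (allL N22241 (tt N21674 F176846) (tt N21871 F176847) (tt N23474 D39401) (tt N20808 (iv D38168)) (tt N20810 F176848) (tt N23296 (iv F181324)) (tt N23396 (iv F181949)) (tt N22241 F176849) (tt N20830 F176850) (tt N23475 D39402))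
theorem Q22243 : ∀ i, i < 22243 → P i := stepQ 22242 Q22242 (allL N22242 (tt N21675 F176851) (tt N21872 F176852) (tt N20830 F176853) (tt N23475 (iv F182347)) (tt N20809 F176854) (tt N23297 (iv F181331)) (tt N23397 (iv F181955)) (tt N22242 F176855) (tt N23474 (iv F182341)) (tt N20808 (iv D38169)))
theorem Q22244 : ∀ i, i < 22244 → P i := stepQ 22243 Q22243 (allL N22243 (tt N21676 F176856) (tt N21873 F176857) (tt N20810 F176858) (tt N20812 F176859) (tt N23474 (iv F182339)) (tt N22243 F176860) (tt N23398 (iv F181962)) (tt N22243 F176861) (tt N20809 (iv D38170)) (tt N20832 F176862))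
theorem Q22245 : ∀ i, i < 22245 → P i := stepQ 22244 Q22244 (allL N22244 (tt N21677 F176863) (tt N21875 F176864) (tt N20832 F176865) (tt N20811 F176866) (tt N23475 (iv F182348)) (tt N22244 F176867) (tt N23399 (iv F181970)) (tt N22244 F176868) (tt N20823 F176869) (tt N20810 (iv D38171)))
theorem Q22246 : ∀ i, i < 22246 → P i := stepQ 22245 Q22245 (allL N22245 (tt N21686 F176870) (tt N20822 F176871) (tt N21864 F176872) (tt N23302 (iv F181364)) (tt N20814 (iv D38172)) (tt N21862 F176873) (tt N23443 (iv F182200)) (tt N22245 F176874) (tt N20824 F176875) (tt N23476 D39403))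
theorem Q22247 : ∀ i, i < 22247 → P i := stepQ 22246 Q22246 (allL N22246 (tt N21463 F176876) (tt N20823 F176877) (tt N21866 F176878) (tt N20834 F176879) (tt N23476 (iv F182355)) (tt N20815 F176880) (tt N23444 (iv F182207)) (tt N22246 F176881) (tt N21875 F176882) (tt N20814 (iv D38173)))
theorem Q22248 : ∀ i, i < 22248 → P i := stepQ 22247 Q22247 (allL N22247 (tt N21681 F176883) (tt N21862 F176884) (tt N20824 F176885) (tt N23477 D39404) (tt N20816 (iv D38174)) (tt N20822 F176886) (tt N23478 D39405) (tt N22247 F176887) (tt N21864 F176888) (tt N23301 (iv F181361)))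
theorem Q22249 : ∀ i, i < 22249 → P i := stepQ 22248 Q22248 (allL N22248 (tt N21682 F176889) (tt N21751 F176890) (tt N20825 F176891) (tt N22248 F176892) (tt N23478 (iv F182368)) (tt N20817 F176893) (tt N20816 (iv D38175)) (tt N23479 D39406) (tt N21865 F176894) (tt N23295 (iv F181320)))
theorem Q22250 : ∀ i, i < 22250 → P i := stepQ 22249 Q22249 (allL N22249 (tt N21683 F176895) (tt N21384 F176896) (tt N20826 F176897) (tt N22249 F176898) (tt N23457 (iv F182265)) (tt N23479 (iv F182374)) (tt N20819 F176899) (tt N20817 (iv D38176)) (tt N21377 F176900) (tt N23480 D39407))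
theorem Q22251 : ∀ i, i < 22251 → P i := stepQ 22250 Q22250 (allL N22250 (tt N21229 F176901) (tt N21752 F176902) (tt N20827 F176903) (tt N22250 F176904) (tt N23458 (iv F182271)) (tt N23295 (iv F181317)) (tt N20818 F176905) (tt N23480 (iv F182382)) (tt N23481 D39408) (tt N20817 (iv D38177)))
theorem Q22252 : ∀ i, i < 22252 → P i := stepQ 22251 Q22251 (allL N22251 (tt N21230 F176906) (tt N21473 F176907) (tt N20828 F176908) (tt N22251 F176909) (tt N23459 (iv F182277)) (tt N22251 F176910) (tt N23481 (iv F182388)) (tt N20821 F176911) (tt N20818 (iv D38178)) (tt N21549 F176912))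
theorem Q22253 : ∀ i, i < 22253 → P i := stepQ 22252 Q22252 (allL N22252 (tt N21202 F176913) (tt N21385 F176914) (tt N20829 F176915) (tt N22252 F176916) (tt N23460 (iv F182285)) (tt N22252 F176917) (tt N23480 (iv F182381)) (tt N20820 F176918) (tt N21333 F176919) (tt N20819 (iv D38179)))
theorem Q22254 : ∀ i, i < 22254 → P i := stepQ 22253 Q22253 (allL N22253 (tt N21684 F176920) (tt N23302 (iv F181363)) (tt N23475 (iv F182346)) (tt N20822 (iv D38180)) (tt N20832 F176921) (tt N23477 (iv F182362)) (tt N23461 (iv F182291)) (tt N22253 F176922) (tt N20831 F176923) (tt N23474 F182343))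
theorem Q22255 : ∀ i, i < 22255 → P i := stepQ 22254 Q22254 (allL N22254 (tt N21685 F176924) (tt N23476 (iv F182352)) (tt N20831 F176925) (tt N23474 (iv F182338)) (tt N20823 F176926) (tt N23301 (iv F181358)) (tt N23462 (iv F182296)) (tt N22254 F176927) (tt N23475 (iv F182350)) (tt N20822 (iv D38181)))
theorem Q22256 : ∀ i, i < 22256 → P i := stepQ 22255 Q22255 (allL N22255 (tt N21688 F176928) (tt N23299 (iv F181341)) (tt N23478 (iv F182367)) (tt N23293 (iv F181306)) (tt N20825 F176929) (tt N23467 (iv F182310)) (tt N20824 (iv D38182)) (tt N23482 D39409) (tt N23443 (iv F182201)) (tt N23292 F181303))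
theorem Q22257 : ∀ i, i < 22257 → P i := stepQ 22256 Q22256 (allL N22256 (tt N21689 F176930) (tt N23300 (iv F181348)) (tt N23479 (iv F182372)) (tt N20835 F176931) (tt N23482 (iv F182392)) (tt N20826 F176932) (tt N22256 F176933) (tt N20825 (iv D38183)) (tt N23355 (iv F181727)) (tt N23277 (iv F181225)))
theorem Q22258 : ∀ i, i < 22258 → P i := stepQ 22257 Q22257 (allL N22257 (tt N21204 F176934) (tt N21120 F176935) (tt N23480 (iv F182379)) (tt N20836 F176936) (tt N23472 (iv F182327)) (tt N23277 (iv F181221)) (tt N20829 F176937) (tt N20827 F176938) (tt N21334 (iv F176939)) (tt N20826 (iv D38184)))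
theorem Q22259 : ∀ i, i < 22259 → P i := stepQ 22258 Q22258 (allL N22258 (tt N21233 F176940) (tt N21143 F176941) (tt N23481 (iv F182386)) (tt N20837 F176942) (tt N23473 (iv F182334)) (tt N23483 D39410) (tt N20828 F176943) (tt N21334 F176944) (tt N20827 (iv D38185)) (tt N23141 (iv F180366)))
theorem Q22260 : ∀ i, i < 22260 → P i := stepQ 22259 Q22259 (allL N22259 (tt N21690 F176945) (tt N20864 F176946) (tt N22259 F176947) (tt N23355 (iv F181724)) (tt N23278 (iv F181229)) (tt N20858 F176948) (tt N22259 F176949) (tt N20833 (iv D38186)) (tt N20835 F176950) (tt N23484 D39411))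
theorem Q22261 : ∀ i, i < 22261 → P i := stepQ 22260 Q22260 (allL N22260 (tt N21489 F176951) (tt N20906 F176952) (tt N22260 F176953) (tt N23444 (iv F182205)) (tt N21765 F176954) (tt N20899 F176955) (tt N20834 F176956) (tt N23484 (iv F182406)) (tt N21764 F176957) (tt N20833 (iv D38187)))
theorem Q22262 : ∀ i, i < 22262 → P i := stepQ 22261 Q22261 (allL N22261 (tt N21235 F176958) (tt N21134 F176959) (tt N22261 F176960) (tt N23483 (iv F182396)) (tt N21001 F176961) (tt N20837 (iv D38188)) (tt N22261 F176962) (tt N21335 F176963) (tt N21567 F176964) (tt N23142 (iv F180374)))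
theorem Q22263 : ∀ i, i < 22263 → P i := stepQ 22262 Q22262 (allL N22262 (tt N20843 F176965) (tt N20883 F176966) (tt N22262 F176967) (tt N23326 (iv F181524)) (tt N20879 F176968) (tt N21332 F176969) (tt N20841 (iv D38189)) (tt N20876 F176970) (tt N20878 F176971) (tt N20852 F176972))
theorem Q22264 : ∀ i, i < 22264 → P i := stepQ 22263 Q22263 (allL N22263 (tt N20879 F176973) (tt N20846 F176974) (tt N22263 F176975) (tt N23401 (iv F181981)) (tt N20843 F176976) (tt N23245 (iv F180999)) (tt N20842 (iv D38190)) (tt N20878 F176977) (tt N20876 F176978) (tt N20856 F176979))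
theorem Q22265 : ∀ i, i < 22265 → P i := stepQ 22264 Q22264 (allL N22264 (tt N20878 F176980) (tt N20847 F176981) (tt N22264 F176982) (tt N23330 (iv F181553)) (tt N20876 F176983) (tt N21471 (iv F176986)) (tt N20844 F176984) (tt N20879 F176985) (tt N20843 (iv D38191)) (tt N20892 (iv F176987)))
theorem Q22266 : ∀ i, i < 22266 → P i := stepQ 22265 Q22265 (allL N22265 (tt N21621 F176988) (tt N23401 (iv F181979)) (tt N21196 F176989) (tt N20846 F176990) (tt N23331 (iv F181561)) (tt N23485 D39412) (tt N20845 (iv D38192)) (tt N20880 F176991) (tt N21619 F176992) (tt N20860 F176993))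
theorem Q22267 : ∀ i, i < 22267 → P i := stepQ 22266 Q22266 (allL N22266 (tt N21693 F176994) (tt N23245 (iv F180996)) (tt N20848 F176995) (tt N23485 (iv F182410)) (tt N21219 F176996) (tt N20846 (iv D38193)) (tt N22266 F176997) (tt N20882 F176998) (tt N21241 F176999) (tt N20862 F177000))
theorem Q22268 : ∀ i, i < 22268 → P i := stepQ 22267 Q22267 (allL N22267 (tt N21694 F177001) (tt N21471 F177002) (tt N20849 F177003) (tt N23335 (iv F181589)) (tt N21227 F177004) (tt N20847 (iv D38194)) (tt N21246 F177005) (tt N20884 F177006) (tt N21218 F177007) (tt N21226 F177008))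
theorem Q22269 : ∀ i, i < 22269 → P i := stepQ 22268 Q22268 (allL N22268 (tt N20856 F177009) (tt N20885 F177010) (tt N22268 F177011) (tt N23407 (iv F182015)) (tt N20852 F177012) (tt N21470 (iv F177016)) (tt N20851 (iv D38195)) (tt N20892 F177013) (tt N20899 F177014) (tt N20879 F177015))
theorem Q22270 : ∀ i, i < 22270 → P i := stepQ 22269 Q22269 (allL N22269 (tt N20858 F177017) (tt N20905 F177018) (tt N22269 F177019) (tt N23347 (iv F181671)) (tt N20899 F177020) (tt N21690 F177021) (tt N20853 F177022) (tt N20893 F177023) (tt N20852 (iv D38196)) (tt N20898 F177024))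
theorem Q22271 : ∀ i, i < 22271 → P i := stepQ 22270 Q22270 (allL N22270 (tt N21869 F177025) (tt N21202 F177026) (tt N20855 F177027) (tt N22270 F177028) (tt N23348 (iv F181680)) (tt N22270 F177029) (tt N23486 D39413) (tt N20854 (iv D38197)) (tt N21294 F177030) (tt N21303 F177031))
theorem Q22272 : ∀ i, i < 22272 → P i := stepQ 22271 Q22271 (allL N22271 (tt N23407 (iv F182012)) (tt N20860 F177032) (tt N23486 (iv F182417)) (tt N20856 F177033) (tt N23349 (iv F181686)) (tt N23243 (iv F180986)) (tt N20855 (iv D38198)) (tt N20896 F177034) (tt N23435 (iv F182166)) (tt N23401 F181984))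
theorem Q22273 : ∀ i, i < 22273 → P i := stepQ 22272 Q22272 (allL N22272 (tt N20899 F177035) (tt N20863 F177036) (tt N22272 F177037) (tt N23435 (iv F182162)) (tt N20858 F177038) (tt N21489 (iv F177042)) (tt N20857 F177039) (tt N20898 F177040) (tt N20856 (iv D38199)) (tt N20893 F177041))
theorem Q22274 : ∀ i, i < 22274 → P i := stepQ 22273 Q22273 (allL N22273 (tt N20898 F177043) (tt N20865 F177044) (tt N22273 F177045) (tt N23356 (iv F181731)) (tt N20893 F177046) (tt N23484 (iv F182404)) (tt N20859 F177047) (tt N20899 F177048) (tt N20892 F177049) (tt N20858 (iv D38200)))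
theorem Q22275 : ∀ i, i < 22275 → P i := stepQ 22274 Q22274 (allL N22274 (tt N21697 F177050) (tt N23243 (iv F180984)) (tt N21211 F177051) (tt N20862 F177052) (tt N23487 D39414) (tt N20860 (iv D38201)) (tt N22274 F177053) (tt N20900 F177054) (tt N23430 (iv F182136)) (tt N23485 (iv F182414)))
theorem Q22276 : ∀ i, i < 22276 → P i := stepQ 22275 Q22275 (allL N22275 (tt N21649 F177055) (tt N23435 (iv F182160)) (tt N21212 F177056) (tt N20863 F177057) (tt N23358 (iv F181742)) (tt N21443 (iv F177061)) (tt N20861 F177058) (tt N20901 F177059) (tt N20860 (iv D38202)) (tt N21643 F177060))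
theorem Q22277 : ∀ i, i < 22277 → P i := stepQ 22276 Q22276 (allL N22276 (tt N21698 F177062) (tt N23241 (iv F180970)) (tt N20866 F177063) (tt N23430 (iv F182132)) (tt N21095 F177064) (tt N21228 F177065) (tt N22276 F177066) (tt N20903 F177067) (tt N20862 (iv D38203)) (tt N21094 F177068))
theorem Q22278 : ∀ i, i < 22278 → P i := stepQ 22277 Q22277 (allL N22277 (tt N21699 F177069) (tt N23484 (iv F182401)) (tt N20868 F177070) (tt N23367 (iv F181792)) (tt N21485 F177071) (tt N20865 F177072) (tt N22277 F177073) (tt N20906 F177074) (tt N21487 F177075) (tt N20864 (iv D38204)))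
theorem Q22279 : ∀ i, i < 22279 → P i := stepQ 22278 Q22278 (allL N22278 (tt N21700 F177076) (tt N23142 (iv F180368)) (tt N20873 F177077) (tt N23387 (iv F181903)) (tt N21135 F177078) (tt N20872 (iv D38205)) (tt N22278 F177079) (tt N21218 F177080) (tt N20884 F177081) (tt N21134 F177082))
theorem Q22280 : ∀ i, i < 22280 → P i := stepQ 22279 Q22279 (allL N22279 (tt N23330 (iv F181550)) (tt N20880 F177083) (tt N21679 F177084) (tt N20878 F177085) (tt N23402 (iv F181988)) (tt N23244 (iv F180992)) (tt N20877 (iv D38206)) (tt N23401 (iv F181983)) (tt N23326 (iv F181527)) (tt N20896 F177086))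
theorem Q22281 : ∀ i, i < 22281 → P i := stepQ 22280 Q22280 (allL N22280 (tt N23245 (iv F180995)) (tt N20884 F177087) (tt N22280 F177088) (tt N23406 (iv F182008)) (tt N21472 F177089) (tt N20879 (iv D38207)) (tt N22280 F177090) (tt N21471 F177091) (tt N23142 (iv F180373)) (tt N21470 F177092))
theorem Q22282 : ∀ i, i < 22282 → P i := stepQ 22281 Q22281 (allL N22281 (tt N21702 F177093) (tt N23244 (iv F180989)) (tt N21221 F177094) (tt N20882 F177095) (tt N23488 D39415) (tt N20880 (iv D38208)) (tt N20909 F177096) (tt N23485 (iv F182412)) (tt N21444 (iv F177098)) (tt N20900 F177097))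
theorem Q22283 : ∀ i, i < 22283 → P i := stepQ 22282 Q22282 (allL N22282 (tt N21507 F177099) (tt N23326 (iv F181522)) (tt N21222 F177100) (tt N20883 F177101) (tt N23409 (iv F182028)) (tt N21534 (iv F177105)) (tt N20881 F177102) (tt N21619 F177103) (tt N20880 (iv D38209)) (tt N21569 (iv F177104)))
theorem Q22284 : ∀ i, i < 22284 → P i := stepQ 22283 Q22283 (allL N22283 (tt N21703 F177106) (tt N21472 F177107) (tt N20886 F177108) (tt N23489 D39416) (tt N20884 (iv D38210)) (tt N21201 F177109) (tt N22283 F177110) (tt N21227 F177111) (tt N21135 F177112) (tt N21200 (iv F177113)))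
theorem Q22285 : ∀ i, i < 22285 → P i := stepQ 22284 Q22284 (allL N22284 (tt N21695 F177114) (tt N21470 F177115) (tt N20887 F177116) (tt N23417 (iv F182071)) (tt N21200 F177117) (tt N20885 F177118) (tt N22284 F177119) (tt N21226 F177120) (tt N21478 F177121) (tt N20884 (iv D38211)))
theorem Q22286 : ∀ i, i < 22286 → P i := stepQ 22285 Q22285 (allL N22285 (tt N20894 F177122) (tt N21064 F177123) (tt N20891 F177124) (tt N22285 F177125) (tt N23359 (iv F181750)) (tt N20910 F177126) (tt N23490 D39417) (tt N20890 (iv D38212)) (tt N21870 F177127) (tt N21057 F177128))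
theorem Q22287 : ∀ i, i < 22287 → P i := stepQ 22286 Q22286 (allL N22286 (tt N20896 F177129) (tt N21704 F177130) (tt N23490 (iv F182442)) (tt N20892 F177131) (tt N23432 (iv F182148)) (tt N21468 F177132) (tt N20891 (iv D38213)) (tt N23407 (iv F182018)) (tt N23356 (iv F181734)) (tt N23330 F181557))
theorem Q22288 : ∀ i, i < 22288 → P i := stepQ 22287 Q22287 (allL N22287 (tt N23490 (iv F182440)) (tt N21229 F177133) (tt N20896 F177134) (tt N22287 F177135) (tt N23436 (iv F182170)) (tt N23242 (iv F180981)) (tt N20894 (iv D38214)) (tt N23486 (iv F182419)) (tt N23491 D39418) (tt N21679 F177136))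
theorem Q22289 : ∀ i, i < 22289 → P i := stepQ 22288 Q22288 (allL N22288 (tt N21870 F177137) (tt N21230 F177138) (tt N20897 F177139) (tt N22288 F177140) (tt N23437 (iv F182176)) (tt N22288 F177141) (tt N23491 (iv F182452)) (tt N20895 F177142) (tt N20894 (iv D38215)) (tt N21295 F177143))
theorem Q22290 : ∀ i, i < 22290 → P i := stepQ 22289 Q22289 (allL N22289 (tt N23356 (iv F181728)) (tt N20901 F177144) (tt N23491 (iv F182450)) (tt N20898 F177145) (tt N23439 (iv F182185)) (tt N23492 D39419) (tt N20897 F177146) (tt N23435 (iv F182165)) (tt N20896 (iv D38216)) (tt N23347 (iv F181675)))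
theorem Q22291 : ∀ i, i < 22291 → P i := stepQ 22290 Q22290 (allL N22290 (tt N23484 (iv F182400)) (tt N20904 F177147) (tt N22290 F177148) (tt N23492 (iv F182456)) (tt N23185 (iv F180652)) (tt N20898 (iv D38217)) (tt N22290 F177149) (tt N21489 F177150) (tt N23184 (iv F180648)) (tt N21690 F177151))
theorem Q22292 : ∀ i, i < 22292 → P i := stepQ 22291 Q22291 (allL N22291 (tt N21706 F177152) (tt N23234 (iv F180929)) (tt N21237 F177153) (tt N23165 (iv F180516)) (tt N20900 (iv D38218)) (tt N23445 (iv F182211)) (tt N20911 F177154) (tt N23487 (iv F182425)) (tt N23493 D39420) (tt N23488 (iv F182431)))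
theorem Q22293 : ∀ i, i < 22293 → P i := stepQ 22292 Q22292 (allL N22292 (tt N21707 F177155) (tt N23240 (iv F180965)) (tt N21238 F177156) (tt N20903 F177157) (tt N23493 (iv F182463)) (tt N23431 (iv F182141)) (tt N20912 F177158) (tt N23430 (iv F182135)) (tt N20900 (iv D38219)) (tt N21161 F177159))
theorem Q22294 : ∀ i, i < 22294 → P i := stepQ 22293 Q22293 (allL N22293 (tt N21708 F177160) (tt N23492 (iv F182455)) (tt N21239 F177161) (tt N20904 F177162) (tt N23494 D39421) (tt N20901 (iv D38220)) (tt N22293 F177163) (tt N21443 F177164) (tt N23431 F182144) (tt N23495 D39422))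
theorem Q22295 : ∀ i, i < 22295 → P i := stepQ 22294 Q22294 (allL N22294 (tt N21573 F177165) (tt N23347 (iv F181669)) (tt N21240 F177166) (tt N20905 F177167) (tt N23448 (iv F182221)) (tt N23495 (iv F182474)) (tt N20902 F177168) (tt N21643 F177169) (tt N21569 F177170) (tt N20901 (iv D38221)))
theorem Q22296 : ∀ i, i < 22296 → P i := stepQ 22295 Q22295 (allL N22295 (tt N21696 F177171) (tt N21690 F177172) (tt N20907 F177173) (tt N23495 (iv F182473)) (tt N21477 F177174) (tt N20905 F177175) (tt N22295 F177176) (tt N21224 F177177) (tt N21198 F177178) (tt N20904 (iv D38222)))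
theorem Q22297 : ∀ i, i < 22297 → P i := stepQ 22296 Q22296 (allL N22296 (tt N21710 F177179) (tt N23235 (iv F180933)) (tt N21250 F177180) (tt N21462 F177181) (tt N20909 (iv D38223)) (tt N21552 F177182) (tt N23488 (iv F182429)) (tt N22296 F177183) (tt N21461 F177184) (tt N20911 F177185))
theorem Q22298 : ∀ i, i < 22298 → P i := stepQ 22297 Q22297 (allL N22297 (tt N21712 F177186) (tt N23230 (iv F180904)) (tt N21256 F177187) (tt N21275 F177188) (tt N20912 F177189) (tt N23496 D39423) (tt N23493 (iv F182464)) (tt N22297 F177190) (tt N20911 (iv D38224)) (tt N21274 F177191))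
theorem Q22299 : ∀ i, i < 22299 → P i := stepQ 22298 Q22298 (allL N22298 (tt N21311 F177192) (tt N20916 F177193) (tt N20964 F177194) (tt N21625 F177195) (tt N20914 F177196) (tt N21506 F177197) (tt N23497 D39424) (tt N20913 (iv D38225)) (tt N20961 F177198) (tt N21554 F177199))
theorem Q22300 : ∀ i, i < 22300 → P i := stepQ 22299 Q22299 (allL N22299 (tt N21312 F177200) (tt N20918 F177201) (tt N20965 F177202) (tt N22299 F177203) (tt N23497 (iv F182490)) (tt N21308 F177204) (tt N20914 (iv D38226)) (tt N20951 F177205) (tt N20962 F177206) (tt N21555 F177207))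
theorem Q22301 : ∀ i, i < 22301 → P i := stepQ 22300 Q22300 (allL N22300 (tt N20973 F177208) (tt N21625 F177209) (tt N21737 F177210) (tt N20916 F177211) (tt N22300 F177212) (tt N21508 F177213) (tt N23498 D39425) (tt N20915 (iv D38227)) (tt N23199 (iv F180740)) (tt N21556 F177214))
theorem Q22302 : ∀ i, i < 22302 → P i := stepQ 22301 Q22301 (allL N22301 (tt N20975 F177215) (tt N23497 (iv F182487)) (tt N20920 F177216) (tt N23498 (iv F182497)) (tt N20918 F177217) (tt N23499 D39426) (tt N20916 (iv D38228)) (tt N20953 F177218) (tt N23500 D39427) (tt N21558 F177219))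
theorem Q22303 : ∀ i, i < 22303 → P i := stepQ 22302 Q22302 (allL N22302 (tt N20976 F177220) (tt N20961 F177221) (tt N20921 F177222) (tt N23199 (iv F180736)) (tt N20919 F177223) (tt N21495 (iv F177225)) (tt N23500 (iv F182511)) (tt N20917 F177224) (tt N20916 (iv D38229)) (tt N21350 (iv F177226)))
theorem Q22304 : ∀ i, i < 22304 → P i := stepQ 22303 Q22303 (allL N22303 (tt N20979 F177227) (tt N20962 F177228) (tt N20922 F177229) (tt N22303 F177230) (tt N23500 (iv F182510)) (tt N20971 (iv F177233)) (tt N20919 F177231) (tt N20955 F177232) (tt N20918 (iv D38230)) (tt N21351 (iv F177234)))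
theorem Q22305 : ∀ i, i < 22305 → P i := stepQ 22304 Q22304 (allL N22304 (tt N20981 F177235) (tt N21318 F177236) (tt N23499 (iv F182502)) (tt N21739 F177237) (tt N21313 F177238) (tt N20920 (iv D38231)) (tt N21512 F177239) (tt N20956 F177240) (tt N23501 D39428) (tt N21562 F177241))
theorem Q22306 : ∀ i, i < 22306 → P i := stepQ 22305 Q22305 (allL N22305 (tt N20982 F177242) (tt N21075 F177243) (tt N23500 (iv F182509)) (tt N21740 F177244) (tt N20922 F177245) (tt N23502 D39429) (tt N20921 F177246) (tt N20957 F177247) (tt N20920 (iv D38232)) (tt N21397 (iv F177248)))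
theorem Q22307 : ∀ i, i < 22307 → P i := stepQ 22306 Q22306 (allL N22306 (tt N21030 F177249) (tt N20925 F177250) (tt N21780 F177251) (tt N20923 (iv D38233)) (tt N22306 F177252) (tt N20998 F177253) (tt N21306 F177254) (tt N23503 D39430) (tt N21025 F177255) (tt N20997 F177256))
theorem Q22308 : ∀ i, i < 22308 → P i := stepQ 22307 Q22307 (allL N22307 (tt N21032 F177257) (tt N20926 F177258) (tt N21048 F177259) (tt N23503 (iv F182529)) (tt N20924 F177260) (tt N21008 F177261) (tt N23504 D39431) (tt N20923 (iv D38234)) (tt N21026 F177262) (tt N21007 F177263))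
theorem Q22309 : ∀ i, i < 22309 → P i := stepQ 22308 Q22308 (allL N22308 (tt N21033 F177264) (tt N20928 F177265) (tt N21009 F177266) (tt N22308 F177267) (tt N23504 (iv F182537)) (tt N20951 F177268) (tt N20924 (iv D38235)) (tt N21308 F177269) (tt N21027 F177270) (tt N21047 F177271))
theorem Q22310 : ∀ i, i < 22310 → P i := stepQ 22309 Q22309 (allL N22309 (tt N21003 F177272) (tt N23503 (iv F182527)) (tt N21352 F177273) (tt N20926 F177274) (tt N22309 F177275) (tt N21131 F177276) (tt N23505 D39432) (tt N20925 (iv D38236)) (tt N23415 (iv F182063)) (tt N21130 F177277))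
theorem Q22311 : ∀ i, i < 22311 → P i := stepQ 22310 Q22310 (allL N22310 (tt N21004 F177278) (tt N23504 (iv F182535)) (tt N20930 F177279) (tt N23505 (iv F182543)) (tt N20928 F177280) (tt N23506 D39433) (tt N20926 (iv D38237)) (tt N21310 F177281) (tt N23507 D39434) (tt N21141 F177282))
theorem Q22312 : ∀ i, i < 22312 → P i := stepQ 22311 Q22311 (allL N22311 (tt N20950 F177283) (tt N21026 F177284) (tt N20931 F177285) (tt N23415 (iv F182060)) (tt N20929 F177286) (tt N21171 F177287) (tt N23507 (iv F182557)) (tt N20927 F177288) (tt N20926 (iv D38238)) (tt N21170 F177289))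
theorem Q22313 : ∀ i, i < 22313 → P i := stepQ 22312 Q22312 (allL N22312 (tt N20951 F177290) (tt N21027 F177291) (tt N20934 F177292) (tt N22312 F177293) (tt N23507 (iv F182556)) (tt N21033 F177294) (tt N20929 F177295) (tt N21312 F177296) (tt N20928 (iv D38239)) (tt N21193 F177297))
theorem Q22314 : ∀ i, i < 22314 → P i := stepQ 22313 Q22313 (allL N22313 (tt N21005 F177298) (tt N21317 F177299) (tt N23506 (iv F182548)) (tt N21354 F177300) (tt N20956 F177301) (tt N20930 (iv D38240)) (tt N21713 F177302) (tt N21313 F177303) (tt N23508 D39435) (tt N21342 F177304))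
theorem Q22315 : ∀ i, i < 22315 → P i := stepQ 22314 Q22314 (allL N22314 (tt N21006 F177305) (tt N21184 F177306) (tt N23507 (iv F182555)) (tt N21355 F177307) (tt N20934 F177308) (tt N23509 D39436) (tt N20931 F177309) (tt N21314 F177310) (tt N20930 (iv D38241)) (tt N23510 D39437))
theorem Q22316 : ∀ i, i < 22316 → P i := stepQ 22315 Q22315 (allL N22315 (tt N21007 F177311) (tt N21039 F177312) (tt N21171 F177313) (tt N21356 F177314) (tt N20958 F177315) (tt N20931 (iv D38242)) (tt N23511 D39438) (tt N20932 F177316) (tt N21427 F177317) (tt N21032 (iv F177318)))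
theorem Q22317 : ∀ i, i < 22317 → P i := stepQ 22316 Q22316 (allL N22316 (tt N21008 F177319) (tt N21038 F177320) (tt N21170 F177321) (tt N21357 F177322) (tt N20935 F177323) (tt N21032 F177324) (tt N23510 (iv F182576)) (tt N20933 F177325) (tt N21344 F177326) (tt N20931 (iv D38243)))
theorem Q22318 : ∀ i, i < 22318 → P i := stepQ 22317 Q22317 (allL N22317 (tt N20990 F177327) (tt N20978 F177328) (tt N21102 F177329) (tt N21082 F177330) (tt N20959 F177331) (tt N21079 F177332) (tt N20932 (iv D38244)) (tt N23512 D39439) (tt N21429 F177333) (tt N20970 F177334))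
theorem Q22319 : ∀ i, i < 22319 → P i := stepQ 22318 Q22318 (allL N22318 (tt N21010 F177335) (tt N21049 F177336) (tt N21193 F177337) (tt N20936 F177338) (tt N23510 (iv F182575)) (tt N21173 F177339) (tt N20935 F177340) (tt N21316 F177341) (tt N21346 F177342) (tt N20934 (iv D38245)))
theorem Q22320 : ∀ i, i < 22320 → P i := stepQ 22319 Q22319 (allL N22319 (tt N21170 F177343) (tt N20940 F177344) (tt N21008 F177345) (tt N23425 (iv F182103)) (tt N20938 F177346) (tt N21048 F177347) (tt N23513 D39440) (tt N20937 (iv D38246)) (tt N21156 F177348) (tt N20950 F177349))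
theorem Q22321 : ∀ i, i < 22321 → P i := stepQ 22320 Q22320 (allL N22320 (tt N21193 F177350) (tt N20942 F177351) (tt N21010 F177352) (tt N22320 F177353) (tt N23513 (iv F182597)) (tt N21047 F177354) (tt N20938 (iv D38247)) (tt N21555 F177355) (tt N21272 F177356) (tt N20951 F177357))
theorem Q22322 : ∀ i, i < 22322 → P i := stepQ 22321 Q22321 (allL N22321 (tt N21011 F177358) (tt N23425 (iv F182101)) (tt N21378 F177359) (tt N20940 F177360) (tt N22321 F177361) (tt N21192 F177362) (tt N23514 D39441) (tt N20939 (iv D38248)) (tt N23179 (iv F180615)) (tt N20952 F177363))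
theorem Q22323 : ∀ i, i < 22323 → P i := stepQ 22322 Q22322 (allL N22322 (tt N21013 F177364) (tt N23513 (iv F182595)) (tt N20944 F177365) (tt N23514 (iv F182603)) (tt N20942 F177366) (tt N23515 D39442) (tt N20940 (iv D38249)) (tt N21558 F177367) (tt N23516 D39443) (tt N20953 F177368))
theorem Q22324 : ∀ i, i < 22324 → P i := stepQ 22323 Q22323 (allL N22323 (tt N21014 F177369) (tt N21156 F177370) (tt N20945 F177371) (tt N23179 (iv F180611)) (tt N20943 F177372) (tt N21020 F177373) (tt N23516 (iv F182617)) (tt N20941 F177374) (tt N20940 (iv D38250)) (tt N21019 F177375))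
theorem Q22325 : ∀ i, i < 22325 → P i := stepQ 22324 Q22324 (allL N22324 (tt N21015 F177376) (tt N21272 F177377) (tt N20947 F177378) (tt N22324 F177379) (tt N23516 (iv F182616)) (tt N21855 F177380) (tt N20943 F177381) (tt N21561 F177382) (tt N20942 (iv D38251)) (tt N21262 F177383))
theorem Q22326 : ∀ i, i < 22326 → P i := stepQ 22325 Q22325 (allL N22325 (tt N21017 F177384) (tt N21713 F177385) (tt N23515 (iv F182608)) (tt N21386 F177386) (tt N21342 F177387) (tt N20944 (iv D38252)) (tt N21317 F177388) (tt N21562 F177389) (tt N23517 D39444) (tt N20956 F177390))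
theorem Q22327 : ∀ i, i < 22327 → P i := stepQ 22326 Q22326 (allL N22326 (tt N21018 F177391) (tt N21425 F177392) (tt N23516 (iv F182615)) (tt N21387 F177393) (tt N20947 F177394) (tt N23518 D39445) (tt N20945 F177395) (tt N21563 F177396) (tt N20944 (iv D38253)) (tt N21417 F177397))
theorem Q22328 : ∀ i, i < 22328 → P i := stepQ 22327 Q22327 (allL N22327 (tt N21019 F177398) (tt N21427 F177399) (tt N21020 F177400) (tt N21388 F177401) (tt N21016 F177402) (tt N20945 (iv D38254)) (tt N23519 D39446) (tt N20946 F177403) (tt N21039 F177404) (tt N21014 F177405))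
theorem Q22329 : ∀ i, i < 22329 → P i := stepQ 22328 Q22328 (allL N22328 (tt N21022 F177406) (tt N21431 F177407) (tt N21855 F177408) (tt N20948 F177409) (tt N23520 D39447) (tt N20947 (iv D38255)) (tt N21258 F177410) (tt N21566 F177411) (tt N21345 F177412) (tt N21418 F177413))
theorem Q22330 : ∀ i, i < 22330 → P i := stepQ 22329 Q22329 (allL N22329 (tt N21024 F177414) (tt N21337 F177415) (tt N22329 F177416) (tt N23521 D39448) (tt N20948 (iv D38256)) (tt N21393 F177417) (tt N21259 F177418) (tt N21567 F177419) (tt N21335 F177420) (tt N21465 F177421))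
theorem Q22331 : ∀ i, i < 22331 → P i := stepQ 22330 Q22330 (allL N22330 (tt N23415 (iv F182057)) (tt N20952 F177422) (tt N21633 F177423) (tt N20950 F177424) (tt N22330 F177425) (tt N23140 (iv F180357)) (tt N23522 D39449) (tt N20949 (iv D38257)) (tt N21003 F177426) (tt N23425 (iv F182107)))
theorem Q22332 : ∀ i, i < 22332 → P i := stepQ 22331 Q22331 (allL N22331 (tt N23507 (iv F182553)) (tt N20953 F177427) (tt N21006 F177428) (tt N23522 (iv F182654)) (tt N20951 F177429) (tt N23523 D39450) (tt N20950 (iv D38258)) (tt N23497 (iv F182491)) (tt N21004 F177430) (tt N23513 (iv F182600)))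
theorem Q22333 : ∀ i, i < 22333 → P i := stepQ 22332 Q22332 (allL N22332 (tt N21034 F177431) (tt N23522 (iv F182652)) (tt N23256 (iv F181079)) (tt N20953 F177432) (tt N22332 F177433) (tt N23524 D39451) (tt N20952 (iv D38259)) (tt N23498 (iv F182499)) (tt N23198 F180732) (tt N23514 (iv F182606)))
theorem Q22334 : ∀ i, i < 22334 → P i := stepQ 22333 Q22333 (allL N22333 (tt N21036 F177434) (tt N23523 (iv F182658)) (tt N20956 F177435) (tt N23524 (iv F182661)) (tt N23506 (iv F182549)) (tt N20953 (iv D38260)) (tt N23146 (iv F180400)) (tt N23499 (iv F182505)) (tt N23525 D39452) (tt N23515 (iv F182612)))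
theorem Q22335 : ∀ i, i < 22335 → P i := stepQ 22334 Q22334 (allL N22334 (tt N21037 F177436) (tt N21004 F177437) (tt N20957 F177438) (tt N23198 (iv F180729)) (tt N20955 F177439) (tt N23526 D39453) (tt N20954 F177440) (tt N23500 (iv F182512)) (tt N20953 (iv D38261)) (tt N21361 (iv F177441)))
theorem Q22336 : ∀ i, i < 22336 → P i := stepQ 22335 Q22335 (allL N22335 (tt N21041 F177442) (tt N21714 F177443) (tt N23525 (iv F182663)) (tt N23258 (iv F181093)) (tt N23508 (iv F182563)) (tt N23527 D39454) (tt N23148 (iv F180415)) (tt N23501 (iv F182519)) (tt N20956 (iv D38262)) (tt N23528 D39455))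
theorem Q22337 : ∀ i, i < 22337 → P i := stepQ 22336 Q22336 (allL N22336 (tt N21042 F177444) (tt N21137 F177445) (tt N23526 (iv F182666)) (tt N23259 (iv F181100)) (tt N21168 F177446) (tt N20957 (iv D38263)) (tt N21806 F177447) (tt N23502 (iv F182524)) (tt N23527 (iv F182672)) (tt N21416 F177448))
theorem Q22338 : ∀ i, i < 22338 → P i := stepQ 22337 Q22337 (allL N22337 (tt N21047 F177449) (tt N21040 F177450) (tt N21173 F177451) (tt N22337 F177452) (tt N23511 (iv F182583)) (tt N21193 F177453) (tt N20958 (iv D38264)) (tt N23529 D39456) (tt N21450 F177454) (tt N21033 F177455))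
theorem Q22339 : ∀ i, i < 22339 → P i := stepQ 22338 Q22338 (allL N22338 (tt N20991 F177456) (tt N20980 F177457) (tt N21104 F177458) (tt N22338 F177459) (tt N23512 (iv F182590)) (tt N20989 F177460) (tt N23529 (iv F182682)) (tt N20959 (iv D38265)) (tt N21451 F177461) (tt N20972 F177462))
theorem Q22340 : ∀ i, i < 22340 → P i := stepQ 22339 Q22339 (allL N22339 (tt N21309 F177463) (tt N23199 (iv F180734)) (tt N21130 F177464) (tt N20961 F177465) (tt N22339 F177466) (tt N21126 F177467) (tt N23530 D39457) (tt N20960 (iv D38266)) (tt N21625 F177468) (tt N21352 F177469))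
theorem Q22341 : ∀ i, i < 22341 → P i := stepQ 22340 Q22340 (allL N22340 (tt N21310 F177470) (tt N23500 (iv F182508)) (tt N20963 F177471) (tt N23530 (iv F182687)) (tt N20962 F177472) (tt N23531 D39458) (tt N20961 (iv D38267)) (tt N21004 F177473) (tt N23497 (iv F182492)) (tt N21353 F177474))
theorem Q22342 : ∀ i, i < 22342 → P i := stepQ 22341 Q22341 (allL N22341 (tt N21313 F177475) (tt N21076 F177476) (tt N23531 (iv F182693)) (tt N21342 F177477) (tt N20981 F177478) (tt N20963 (iv D38268)) (tt N21498 F177479) (tt N21005 F177480) (tt N23532 D39459) (tt N21354 F177481))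
theorem Q22343 : ∀ i, i < 22343 → P i := stepQ 22342 Q22342 (allL N22342 (tt N21314 F177482) (tt N21077 F177483) (tt N23497 (iv F182488)) (tt N21343 F177484) (tt N20965 F177485) (tt N23533 D39460) (tt N20964 F177486) (tt N21006 F177487) (tt N20963 (iv D38269)) (tt N23380 (iv F181861)))
theorem Q22344 : ∀ i, i < 22344 → P i := stepQ 22343 Q22343 (allL N22343 (tt N20969 F177488) (tt N21311 F177489) (tt N21096 F177490) (tt N23405 (iv F182001)) (tt N20967 F177491) (tt N23325 (iv F181518)) (tt N23534 D39461) (tt N20966 (iv D38270)) (tt N21307 F177492) (tt N21183 F177493))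
theorem Q22345 : ∀ i, i < 22345 → P i := stepQ 22344 Q22344 (allL N22344 (tt N20971 F177494) (tt N21312 F177495) (tt N20987 F177496) (tt N22344 F177497) (tt N23534 (iv F182713)) (tt N20979 F177498) (tt N20967 (iv D38271)) (tt N21027 F177499) (tt N21308 F177500) (tt N21195 F177501))
theorem Q22346 : ∀ i, i < 22346 → P i := stepQ 22345 Q22345 (allL N22345 (tt N21781 F177502) (tt N21580 F177503) (tt N20968 (iv D38272)) (tt N21097 F177504) (tt N22345 F177505) (tt N21118 F177506) (tt N21028 F177507) (tt N23535 D39462) (tt N21091 (iv F177509)) (tt N21653 F177508))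
theorem Q22347 : ∀ i, i < 22347 → P i := stepQ 22346 Q22346 (allL N22346 (tt N23405 (iv F181998)) (tt N20973 F177510) (tt N23535 (iv F182719)) (tt N20969 F177511) (tt N22346 F177512) (tt N23327 (iv F181534)) (tt N23536 D39463) (tt N20968 (iv D38273)) (tt N23537 D39464) (tt N21831 F177513))
theorem Q22348 : ∀ i, i < 22348 → P i := stepQ 22347 Q22347 (allL N22347 (tt N21306 F177514) (tt N20974 F177515) (tt N21091 F177516) (tt N20970 F177517) (tt N22347 F177518) (tt N21083 F177519) (tt N21030 F177520) (tt N23537 (iv F182736)) (tt N20968 (iv D38274)) (tt N21082 F177521))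
theorem Q22349 : ∀ i, i < 22349 → P i := stepQ 22348 Q22348 (allL N22348 (tt N23534 (iv F182710)) (tt N20975 F177522) (tt N21100 F177523) (tt N23536 (iv F182726)) (tt N20971 F177524) (tt N23538 D39465) (tt N20969 (iv D38275)) (tt N21031 F177525) (tt N23539 D39466) (tt N21836 F177526))
theorem Q22350 : ∀ i, i < 22350 → P i := stepQ 22349 Q22349 (allL N22349 (tt N21307 F177527) (tt N20976 F177528) (tt N21101 F177529) (tt N23537 (iv F182733)) (tt N20972 F177530) (tt N21533 (iv F177532)) (tt N23539 (iv F182746)) (tt N20970 F177531) (tt N20969 (iv D38276)) (tt N23512 (iv F182593)))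
theorem Q22351 : ∀ i, i < 22351 → P i := stepQ 22350 Q22350 (allL N22350 (tt N21308 F177533) (tt N20979 F177534) (tt N21103 F177535) (tt N22350 F177536) (tt N23539 (iv F182745)) (tt N21312 F177537) (tt N20972 F177538) (tt N21033 F177539) (tt N20971 (iv D38277)) (tt N23529 (iv F182684)))
theorem Q22352 : ∀ i, i < 22352 → P i := stepQ 22351 Q22351 (allL N22351 (tt N23498 (iv F182494)) (tt N23536 (iv F182725)) (tt N23261 (iv F181114)) (tt N20975 F177540) (tt N22351 F177541) (tt N23540 D39467) (tt N20973 (iv D38278)) (tt N21034 F177542) (tt N23541 D39468) (tt N23303 (iv F181375)))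
theorem Q22353 : ∀ i, i < 22353 → P i := stepQ 22352 Q22352 (allL N22352 (tt N23199 (iv F180733)) (tt N23537 (iv F182731)) (tt N23262 (iv F181121)) (tt N20976 F177543) (tt N22352 F177544) (tt N21439 (iv F177546)) (tt N23541 (iv F182752)) (tt N20974 F177545) (tt N20973 (iv D38279)) (tt N21411 (iv F177547)))
theorem Q22354 : ∀ i, i < 22354 → P i := stepQ 22353 Q22353 (allL N22353 (tt N23499 (iv F182501)) (tt N23538 (iv F182738)) (tt N20981 F177548) (tt N23540 (iv F182748)) (tt N23531 (iv F182694)) (tt N20975 (iv D38280)) (tt N23332 (iv F181568)) (tt N21036 F177549) (tt N23542 D39469) (tt N23305 (iv F181390)))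
theorem Q22355 : ∀ i, i < 22355 → P i := stepQ 22354 Q22354 (allL N22354 (tt N23500 (iv F182507)) (tt N23539 (iv F182743)) (tt N20982 F177550) (tt N23541 (iv F182750)) (tt N20979 F177551) (tt N23543 D39470) (tt N20976 F177552) (tt N21037 F177553) (tt N20975 (iv D38281)) (tt N23544 D39471))
theorem Q22356 : ∀ i, i < 22356 → P i := stepQ 22355 Q22355 (allL N22355 (tt N21495 F177554) (tt N21533 F177555) (tt N20983 F177556) (tt N21439 F177557) (tt N21284 F177558) (tt N20976 (iv D38282)) (tt N23545 D39472) (tt N20977 F177559) (tt N23334 (iv F181584)) (tt N21329 (iv F177560)))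
theorem Q22357 : ∀ i, i < 22357 → P i := stepQ 22356 Q22356 (allL N22356 (tt N21350 F177561) (tt N23512 (iv F182587)) (tt N20984 F177562) (tt N21411 F177563) (tt N20980 F177564) (tt N21329 F177565) (tt N23544 (iv F182763)) (tt N20978 F177566) (tt N23308 (iv F181412)) (tt N20976 (iv D38283)))
theorem Q22358 : ∀ i, i < 22358 → P i := stepQ 22357 Q22357 (allL N22357 (tt N21351 F177567) (tt N23529 (iv F182678)) (tt N20988 F177568) (tt N22357 F177569) (tt N23544 (iv F182762)) (tt N21195 F177570) (tt N20980 F177571) (tt N21040 F177572) (tt N23310 (iv F181426)) (tt N20979 (iv D38284)))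
theorem Q22359 : ∀ i, i < 22359 → P i := stepQ 22358 Q22358 (allL N22358 (tt N23501 (iv F182514)) (tt N21112 F177573) (tt N23542 (iv F182755)) (tt N23269 (iv F181172)) (tt N23532 (iv F182701)) (tt N23546 D39473) (tt N23336 (iv F181598)) (tt N21041 F177574) (tt N20981 (iv D38285)) (tt N23547 D39474))
theorem Q22360 : ∀ i, i < 22360 → P i := stepQ 22359 Q22359 (allL N22359 (tt N23502 (iv F182520)) (tt N21113 F177575) (tt N23543 (iv F182757)) (tt N23270 (iv F181178)) (tt N23548 D39475) (tt N20982 (iv D38286)) (tt N23549 D39476) (tt N21042 F177576) (tt N23546 (iv F182774)) (tt N23550 D39477))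
theorem Q22361 : ∀ i, i < 22361 → P i := stepQ 22360 Q22360 (allL N22360 (tt N21397 F177577) (tt N21114 F177578) (tt N23544 (iv F182760)) (tt N23271 (iv F181182)) (tt N20988 F177579) (tt N23550 (iv F182787)) (tt N20984 F177580) (tt N21043 F177581) (tt N23313 (iv F181443)) (tt N20982 (iv D38287)))
theorem Q22362 : ∀ i, i < 22362 → P i := stepQ 22361 Q22361 (allL N22361 (tt N23255 (iv F181069)) (tt N21115 F177582) (tt N23545 (iv F182767)) (tt N23272 (iv F181189)) (tt N21285 F177583) (tt N23549 (iv F182783)) (tt N20983 (iv D38288)) (tt N23551 D39478) (tt N23339 (iv F181616)) (tt N23552 D39479))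
theorem Q22363 : ∀ i, i < 22363 → P i := stepQ 22362 Q22362 (allL N22362 (tt N21376 F177584) (tt N21116 F177585) (tt N21329 F177586) (tt N23273 (iv F181195)) (tt N21286 F177587) (tt N20984 F177588) (tt N23552 (iv F182799)) (tt N20986 F177589) (tt N21658 (iv F177590)) (tt N20983 (iv D38289)))
theorem Q22364 : ∀ i, i < 22364 → P i := stepQ 22363 Q22363 (allL N22363 (tt N21735 F177591) (tt N21117 F177592) (tt N21328 F177593) (tt N23274 (iv F181203)) (tt N21287 F177594) (tt N21045 F177595) (tt N23551 (iv F182793)) (tt N20985 (iv D38290)) (tt N23341 (iv F181631)) (tt N21299 F177596))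
theorem Q22365 : ∀ i, i < 22365 → P i := stepQ 22364 Q22364 (allL N22364 (tt N21100 F177597) (tt N21119 F177598) (tt N23534 (iv F182712)) (tt N23472 (iv F182326)) (tt N20987 (iv D38291)) (tt N23548 (iv F182779)) (tt N21096 F177599) (tt N21046 F177600) (tt N21321 F177601) (tt N21190 F177602))
theorem Q22366 : ∀ i, i < 22366 → P i := stepQ 22365 Q22365 (allL N22365 (tt N23512 (iv F182586)) (tt N20993 F177603) (tt N21122 F177604) (tt N21771 F177605) (tt N20991 F177606) (tt N21520 F177607) (tt N23553 D39480) (tt N20990 (iv D38292)) (tt N21728 F177608) (tt N21307 F177609))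
theorem Q22367 : ∀ i, i < 22367 → P i := stepQ 22366 Q22366 (allL N22366 (tt N23529 (iv F182677)) (tt N20994 F177610) (tt N21123 F177611) (tt N22366 F177612) (tt N23553 (iv F182805)) (tt N21555 F177613) (tt N20991 (iv D38293)) (tt N21047 F177614) (tt N21851 F177615) (tt N21308 F177616))
theorem Q22368 : ∀ i, i < 22368 → P i := stepQ 22367 Q22367 (allL N22367 (tt N21352 F177617) (tt N21771 F177618) (tt N21003 F177619) (tt N20993 F177620) (tt N22367 F177621) (tt N21522 F177622) (tt N23554 D39481) (tt N20992 (iv D38294)) (tt N21633 F177623) (tt N21309 F177624))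
theorem Q22369 : ∀ i, i < 22369 → P i := stepQ 22368 Q22368 (allL N22368 (tt N21353 F177625) (tt N23553 (iv F182802)) (tt N20995 F177626) (tt N23554 (iv F182812)) (tt N20994 F177627) (tt N23555 D39482) (tt N20993 (iv D38295)) (tt N21141 F177628) (tt N21818 F177629) (tt N21310 F177630))
theorem Q22370 : ∀ i, i < 22370 → P i := stepQ 22369 Q22369 (allL N22369 (tt N21354 F177631) (tt N21128 F177632) (tt N23555 (iv F182818)) (tt N21005 F177633) (tt N21562 F177634) (tt N20995 (iv D38296)) (tt N21527 F177635) (tt N21342 F177636) (tt N23556 D39483) (tt N21313 F177637))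
theorem Q22371 : ∀ i, i < 22371 → P i := stepQ 22370 Q22370 (allL N22370 (tt N21355 F177638) (tt N21129 F177639) (tt N21818 F177640) (tt N21006 F177641) (tt N20999 F177642) (tt N23557 D39484) (tt N20996 F177643) (tt N21343 F177644) (tt N20995 (iv D38297)) (tt N23558 D39485))
theorem Q22372 : ∀ i, i < 22372 → P i := stepQ 22371 Q22371 (allL N22371 (tt N21356 F177645) (tt N21130 F177646) (tt N21779 F177647) (tt N21007 F177648) (tt N22371 F177649) (tt N20996 (iv D38298)) (tt N23559 D39486) (tt N20997 F177650) (tt N21529 F177651) (tt N23503 (iv F182533)))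
theorem Q22373 : ∀ i, i < 22373 → P i := stepQ 22372 Q22372 (allL N22372 (tt N21357 F177652) (tt N21131 F177653) (tt N21820 F177654) (tt N21008 F177655) (tt N21000 F177656) (tt N23503 (iv F182531)) (tt N23558 (iv F182839)) (tt N20998 F177657) (tt N21315 F177658) (tt N20996 (iv D38299)))
theorem Q22374 : ∀ i, i < 22374 → P i := stepQ 22373 Q22373 (allL N22373 (tt N21358 F177659) (tt N21132 F177660) (tt N21859 F177661) (tt N21001 F177662) (tt N23560 D39487) (tt N20999 (iv D38300)) (tt N22373 F177663) (tt N21345 F177664) (tt N21566 F177665) (tt N23561 D39488))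
theorem Q22375 : ∀ i, i < 22375 → P i := stepQ 22374 Q22374 (allL N22374 (tt N21359 F177666) (tt N21133 F177667) (tt N21861 F177668) (tt N21002 F177669) (tt N23558 (iv F182838)) (tt N23561 (iv F182859)) (tt N21000 F177670) (tt N21346 F177671) (tt N21316 F177672) (tt N20999 (iv D38301)))
theorem Q22376 : ∀ i, i < 22376 → P i := stepQ 22375 Q22375 (allL N22375 (tt N21360 F177673) (tt N21135 F177674) (tt N22375 F177675) (tt N23561 (iv F182858)) (tt N23142 (iv F180370)) (tt N21002 F177676) (tt N22375 F177677) (tt N21347 F177678) (tt N21472 F177679) (tt N21001 (iv D38302)))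
theorem Q22377 : ∀ i, i < 22377 → P i := stepQ 22376 Q22376 (allL N22376 (tt N23505 (iv F182541)) (tt N23198 (iv F180727)) (tt N23554 (iv F182811)) (tt N21004 F177680) (tt N22376 F177681) (tt N23562 D39489) (tt N21003 (iv D38303)) (tt N23530 (iv F182689)) (tt N23522 (iv F182657)) (tt N21362 F177682))
theorem Q22378 : ∀ i, i < 22378 → P i := stepQ 22377 Q22377 (allL N22377 (tt N23506 (iv F182547)) (tt N23526 (iv F182665)) (tt N21005 F177683) (tt N23562 (iv F182863)) (tt N21036 F177684) (tt N21004 (iv D38304)) (tt N21724 F177685) (tt N23531 (iv F182696)) (tt N23563 D39490) (tt N21363 F177686))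
theorem Q22379 : ∀ i, i < 22379 → P i := stepQ 22378 Q22378 (allL N22378 (tt N23508 (iv F182560)) (tt N21138 F177687) (tt N23563 (iv F182866)) (tt N23556 (iv F182825)) (tt N21041 F177688) (tt N23564 D39491) (tt N21725 F177689) (tt N23532 (iv F182703)) (tt N21005 (iv D38305)) (tt N23565 D39492))
theorem Q22380 : ∀ i, i < 22380 → P i := stepQ 22379 Q22379 (allL N22379 (tt N23509 (iv F182566)) (tt N21139 F177690) (tt N23523 (iv F182659)) (tt N23557 (iv F182832)) (tt N23566 D39493) (tt N21006 (iv D38306)) (tt N23567 D39494) (tt N23533 (iv F182709)) (tt N23564 (iv F182870)) (tt N23568 D39495))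
theorem Q22381 : ∀ i, i < 22381 → P i := stepQ 22380 Q22380 (allL N22380 (tt N23510 (iv F182571)) (tt N21140 F177691) (tt N23513 (iv F182596)) (tt N23558 (iv F182837)) (tt N21010 F177692) (tt N23568 (iv F182882)) (tt N21008 F177693) (tt N23380 (iv F181859)) (tt N21366 F177694) (tt N21006 (iv D38307)))
theorem Q22382 : ∀ i, i < 22382 → P i := stepQ 22381 Q22381 (allL N22381 (tt N23511 (iv F182579)) (tt N21141 F177695) (tt N23144 (iv F180385)) (tt N23559 (iv F182845)) (tt N21047 F177696) (tt N23567 (iv F182880)) (tt N21007 (iv D38308)) (tt N23553 (iv F182806)) (tt N21727 F177697) (tt N23504 (iv F182540)))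
theorem Q22383 : ∀ i, i < 22383 → P i := stepQ 22382 Q22382 (allL N22382 (tt N21169 F177698) (tt N21142 F177699) (tt N23504 (iv F182536)) (tt N23473 (iv F182333)) (tt N21009 (iv D38309)) (tt N23566 (iv F182877)) (tt N21048 F177700) (tt N21321 F177701) (tt N21046 F177702) (tt N23144 (iv F180389)))
theorem Q22384 : ∀ i, i < 22384 → P i := stepQ 22383 Q22383 (allL N22383 (tt N23514 (iv F182601)) (tt N21830 F177703) (tt N23167 (iv F180530)) (tt N21013 F177704) (tt N22383 F177705) (tt N23569 D39496) (tt N21011 (iv D38310)) (tt N23303 (iv F181374)) (tt N23570 D39497) (tt N21034 F177706))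
theorem Q22385 : ∀ i, i < 22385 → P i := stepQ 22384 Q22384 (allL N22384 (tt N23179 (iv F180608)) (tt N21421 F177707) (tt N23168 (iv F180537)) (tt N21014 F177708) (tt N22384 F177709) (tt N21389 F177710) (tt N23570 (iv F182890)) (tt N21012 F177711) (tt N21011 (iv D38311)) (tt N21388 F177712))
theorem Q22386 : ∀ i, i < 22386 → P i := stepQ 22385 Q22385 (allL N22385 (tt N23515 (iv F182607)) (tt N21834 F177713) (tt N21017 F177714) (tt N23569 (iv F182884)) (tt N21363 F177715) (tt N21013 (iv D38312)) (tt N21719 F177716) (tt N23305 (iv F181389)) (tt N23571 D39498) (tt N21036 F177717))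
theorem Q22387 : ∀ i, i < 22387 → P i := stepQ 22386 Q22386 (allL N22386 (tt N23516 (iv F182613)) (tt N21426 F177718) (tt N21018 F177719) (tt N23570 (iv F182888)) (tt N21015 F177720) (tt N23572 D39499) (tt N21014 F177721) (tt N23306 (iv F181396)) (tt N21013 (iv D38313)) (tt N23519 (iv F182637)))
theorem Q22388 : ∀ i, i < 22388 → P i := stepQ 22387 Q22387 (allL N22387 (tt N21855 F177722) (tt N21447 F177723) (tt N21022 F177724) (tt N22387 F177725) (tt N23573 D39500) (tt N21015 (iv D38314)) (tt N21260 F177726) (tt N23309 (iv F181418)) (tt N21269 F177727) (tt N23225 (iv F180877)))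
theorem Q22389 : ∀ i, i < 22389 → P i := stepQ 22388 Q22388 (allL N22388 (tt N21262 F177728) (tt N21450 F177729) (tt N21023 F177730) (tt N22388 F177731) (tt N23519 (iv F182635)) (tt N23225 (iv F180875)) (tt N21016 F177732) (tt N23310 (iv F181425)) (tt N21040 F177733) (tt N21015 (iv D38315)))
theorem Q22390 : ∀ i, i < 22390 → P i := stepQ 22389 Q22389 (allL N22389 (tt N23517 (iv F182620)) (tt N21152 F177734) (tt N23571 (iv F182893)) (tt N23175 (iv F180588)) (tt N21364 F177735) (tt N23574 D39501) (tt N21720 F177736) (tt N23311 (iv F181432)) (tt N21017 (iv D38316)) (tt N23575 D39502))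
theorem Q22391 : ∀ i, i < 22391 → P i := stepQ 22390 Q22390 (allL N22390 (tt N23518 (iv F182626)) (tt N21153 F177737) (tt N23572 (iv F182897)) (tt N23176 (iv F180594)) (tt N23576 D39503) (tt N21018 (iv D38317)) (tt N23577 D39504) (tt N23312 (iv F181436)) (tt N23574 (iv F182905)) (tt N23578 D39505))
theorem Q22392 : ∀ i, i < 22392 → P i := stepQ 22391 Q22391 (allL N22391 (tt N21417 F177738) (tt N21154 F177739) (tt N23519 (iv F182633)) (tt N23177 (iv F180598)) (tt N21023 F177740) (tt N23578 (iv F182917)) (tt N21020 F177741) (tt N23313 (iv F181442)) (tt N21043 F177742) (tt N21018 (iv D38318)))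
theorem Q22393 : ∀ i, i < 22393 → P i := stepQ 22392 Q22392 (allL N22392 (tt N23519 (iv F182631)) (tt N21155 F177743) (tt N21417 F177744) (tt N23178 (iv F180605)) (tt N21262 F177745) (tt N23577 (iv F182914)) (tt N21019 (iv D38319)) (tt N23579 D39506) (tt N21361 F177746) (tt N23516 (iv F182619)))
theorem Q22394 : ∀ i, i < 22394 → P i := stepQ 22393 Q22393 (allL N22393 (tt N23308 (iv F181405)) (tt N21157 F177747) (tt N21398 F177748) (tt N23180 (iv F180619)) (tt N21263 F177749) (tt N23316 (iv F181462)) (tt N23579 (iv F182921)) (tt N21021 (iv D38320)) (tt N21350 F177750) (tt N21559 F177751))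
theorem Q22395 : ∀ i, i < 22395 → P i := stepQ 22394 Q22394 (allL N22394 (tt N23520 (iv F182638)) (tt N21159 F177752) (tt N23573 (iv F182901)) (tt N23580 D39507) (tt N21022 (iv D38321)) (tt N23576 (iv F182911)) (tt N21264 F177753) (tt N23317 (iv F181468)) (tt N21367 F177754) (tt N23231 (iv F180914)))
theorem Q22396 : ∀ i, i < 22396 → P i := stepQ 22395 Q22395 (allL N22395 (tt N23521 (iv F182645)) (tt N21161 F177755) (tt N23581 D39508) (tt N21024 (iv D38322)) (tt N23580 (iv F182925)) (tt N23183 (iv F180637)) (tt N21265 F177756) (tt N23318 (iv F181474)) (tt N21369 F177757) (tt N23240 (iv F180968)))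
theorem Q22397 : ∀ i, i < 22397 → P i := stepQ 22396 Q22396 (allL N22396 (tt N21029 F177758) (tt N23415 (iv F182058)) (tt N23450 (iv F182233)) (tt N21026 F177759) (tt N22396 F177760) (tt N21177 F177761) (tt N23582 D39509) (tt N21025 (iv D38323)) (tt N23503 (iv F182532)) (tt N21176 F177762))
theorem Q22398 : ∀ i, i < 22398 → P i := stepQ 22397 Q22397 (allL N22397 (tt N21031 F177763) (tt N23507 (iv F182554)) (tt N21046 F177764) (tt N23582 (iv F182932)) (tt N21027 F177765) (tt N23583 D39510) (tt N21026 (iv D38324)) (tt N23534 (iv F182714)) (tt N23504 (iv F182539)) (tt N21182 F177766))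
theorem Q22399 : ∀ i, i < 22399 → P i := stepQ 22398 Q22398 (allL N22398 (tt N23450 (iv F182231)) (tt N21578 F177767) (tt N21029 F177768) (tt N21162 F177769) (tt N22398 F177770) (tt N21572 F177771) (tt N23584 D39511) (tt N21028 (iv D38325)) (tt N23585 D39512) (tt N21652 F177772))
theorem Q22400 : ∀ i, i < 22400 → P i := stepQ 22399 Q22399 (allL N22399 (tt N21780 F177773) (tt N21560 F177774) (tt N21030 F177775) (tt N21163 F177776) (tt N22399 F177777) (tt N21158 F177778) (tt N21091 F177779) (tt N23585 (iv F182951)) (tt N21028 (iv D38326)) (tt N21090 F177780))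
theorem Q22401 : ∀ i, i < 22401 → P i := stepQ 22400 Q22400 (allL N22400 (tt N23582 (iv F182931)) (tt N21034 F177781) (tt N23584 (iv F182941)) (tt N21031 F177782) (tt N22400 F177783) (tt N23586 D39513) (tt N21029 (iv D38327)) (tt N23536 (iv F182728)) (tt N23587 D39514) (tt N21830 F177784))
theorem Q22402 : ∀ i, i < 22402 → P i := stepQ 22401 Q22401 (allL N22401 (tt N23503 (iv F182526)) (tt N21035 F177785) (tt N23585 (iv F182947)) (tt N21032 F177786) (tt N22401 F177787) (tt N21357 F177788) (tt N23587 (iv F182960)) (tt N21030 F177789) (tt N21029 (iv D38328)) (tt N21356 F177790))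
theorem Q22403 : ∀ i, i < 22403 → P i := stepQ 22402 Q22402 (allL N22402 (tt N23583 (iv F182935)) (tt N21036 F177791) (tt N21168 F177792) (tt N23586 (iv F182954)) (tt N23526 (iv F182667)) (tt N21031 (iv D38329)) (tt N21835 F177793) (tt N23538 (iv F182740)) (tt N23588 D39515) (tt N21834 F177794))
theorem Q22404 : ∀ i, i < 22404 → P i := stepQ 22403 Q22403 (allL N22403 (tt N23504 (iv F182534)) (tt N21037 F177795) (tt N21169 F177796) (tt N23587 (iv F182958)) (tt N21033 F177797) (tt N23589 D39516) (tt N21032 F177798) (tt N23539 (iv F182747)) (tt N21031 (iv D38330)) (tt N23511 (iv F182585)))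
theorem Q22405 : ∀ i, i < 22405 → P i := stepQ 22404 Q22404 (allL N22404 (tt N23524 (iv F182660)) (tt N23586 (iv F182953)) (tt N23279 (iv F181235)) (tt N21036 F177799) (tt N23590 D39517) (tt N21034 (iv D38331)) (tt N23154 (iv F180456)) (tt N23540 (iv F182749)) (tt N23591 D39518) (tt N23569 (iv F182886)))
theorem Q22406 : ∀ i, i < 22406 → P i := stepQ 22405 Q22405 (allL N22405 (tt N23198 (iv F180726)) (tt N23587 (iv F182957)) (tt N23280 (iv F181240)) (tt N21037 F177800) (tt N22405 F177801) (tt N23592 D39519) (tt N21035 F177802) (tt N23541 (iv F182753)) (tt N21034 (iv D38332)) (tt N21410 (iv F177803)))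
theorem Q22407 : ∀ i, i < 22407 → P i := stepQ 22406 Q22406 (allL N22406 (tt N23525 (iv F182662)) (tt N23588 (iv F182962)) (tt N21041 F177804) (tt N23591 (iv F182968)) (tt N23563 (iv F182867)) (tt N23593 D39520) (tt N23155 (iv F180462)) (tt N23542 (iv F182756)) (tt N21036 (iv D38333)) (tt N23594 D39521))
theorem Q22408 : ∀ i, i < 22408 → P i := stepQ 22407 Q22407 (allL N22407 (tt N23526 (iv F182664)) (tt N23589 (iv F182965)) (tt N21042 F177805) (tt N23592 (iv F182969)) (tt N23583 (iv F182937)) (tt N21037 (iv D38334)) (tt N23595 D39522) (tt N23543 (iv F182758)) (tt N23593 (iv F182973)) (tt N23596 D39523))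
theorem Q22409 : ∀ i, i < 22409 → P i := stepQ 22408 Q22408 (allL N22408 (tt N21361 F177806) (tt N23511 (iv F182580)) (tt N21043 F177807) (tt N21410 F177808) (tt N21040 F177809) (tt N23596 (iv F182986)) (tt N21039 F177810) (tt N23544 (iv F182764)) (tt N23519 (iv F182636)) (tt N21037 (iv D38335)))
theorem Q22410 : ∀ i, i < 22410 → P i := stepQ 22409 Q22409 (allL N22409 (tt N21722 F177811) (tt N23510 (iv F182572)) (tt N21044 F177812) (tt N21409 F177813) (tt N21049 F177814) (tt N23595 (iv F182979)) (tt N21038 (iv D38336)) (tt N21326 F177815) (tt N23150 (iv F180429)) (tt N21184 F177816))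
theorem Q22411 : ∀ i, i < 22411 → P i := stepQ 22410 Q22410 (allL N22410 (tt N23527 (iv F182670)) (tt N21185 F177817) (tt N23593 (iv F182972)) (tt N23286 (iv F181271)) (tt N23597 D39524) (tt N21041 (iv D38337)) (tt N23598 D39525) (tt N23546 (iv F182773)) (tt N21042 F177818) (tt N23599 D39526))
theorem Q22412 : ∀ i, i < 22412 → P i := stepQ 22411 Q22411 (allL N22411 (tt N23528 (iv F182675)) (tt N21186 F177819) (tt N23594 (iv F182974)) (tt N23287 (iv F181274)) (tt N23565 (iv F182872)) (tt N23599 (iv F182997)) (tt N23159 (iv F180484)) (tt N23547 (iv F182776)) (tt N23575 (iv F182909)) (tt N21041 (iv D38338)))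
theorem Q22413 : ∀ i, i < 22413 → P i := stepQ 22412 Q22412 (allL N22412 (tt N21168 F177820) (tt N21187 F177821) (tt N23583 (iv F182936)) (tt N23470 (iv F182319)) (tt N21042 (iv D38339)) (tt N21046 F177822) (tt N21189 (iv F177823)) (tt N23548 (iv F182780)) (tt N23597 (iv F182990)) (tt N21188 (iv F177824)))
theorem Q22414 : ∀ i, i < 22414 → P i := stepQ 22413 Q22413 (allL N22413 (tt N21806 F177825) (tt N21188 F177826) (tt N23595 (iv F182976)) (tt N23289 (iv F181282)) (tt N21189 F177827) (tt N21044 F177828) (tt N21042 (iv D38340)) (tt N23600 D39527) (tt N23598 (iv F182995)) (tt N21187 (iv F177829)))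
theorem Q22415 : ∀ i, i < 22415 → P i := stepQ 22414 Q22414 (allL N22414 (tt N21416 F177830) (tt N21189 F177831) (tt N23596 (iv F182983)) (tt N23290 (iv F181287)) (tt N21188 F177832) (tt N21043 F177833) (tt N21187 F177834) (tt N23550 (iv F182788)) (tt N23601 D39528) (tt N21042 (iv D38341)))
theorem Q22416 : ∀ i, i < 22416 → P i := stepQ 22415 Q22415 (allL N22415 (tt N21767 F177835) (tt N21190 F177836) (tt N21326 F177837) (tt N23291 (iv F181293)) (tt N21050 F177838) (tt N23600 (iv F183002)) (tt N21045 F177839) (tt N21044 (iv D38342)) (tt N23163 (iv F180505)) (tt N21119 F177840))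
theorem Q22417 : ∀ i, i < 22417 → P i := stepQ 22416 Q22416 (allL N22416 (tt N21054 F177841) (tt N21299 F177842) (tt N23325 (iv F181515)) (tt N23376 (iv F181833)) (tt N21052 F177843) (tt N21096 F177844) (tt N23602 D39529) (tt N21051 (iv D38343)) (tt N21647 F177845) (tt N21117 F177846))
theorem Q22418 : ∀ i, i < 22418 → P i := stepQ 22417 Q22417 (allL N22417 (tt N21056 F177847) (tt N21300 F177848) (tt N23326 (iv F181523)) (tt N22417 F177849) (tt N23602 (iv F183010)) (tt N21285 F177850) (tt N21052 (iv D38344)) (tt N21302 F177851) (tt N21679 F177852) (tt N21301 F177853))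
theorem Q22419 : ∀ i, i < 22419 → P i := stepQ 22418 Q22418 (allL N22418 (tt N23376 (iv F181830)) (tt N21058 F177854) (tt N23375 (iv F181824)) (tt N21054 F177855) (tt N22418 F177856) (tt N21098 F177857) (tt N23603 D39530) (tt N21053 (iv D38345)) (tt N23364 (iv F181777)) (tt N21589 F177858))
theorem Q22420 : ∀ i, i < 22420 → P i := stepQ 22419 Q22419 (allL N22419 (tt N23602 (iv F183008)) (tt N21060 F177859) (tt N23328 (iv F181538)) (tt N23603 (iv F183015)) (tt N21056 F177860) (tt N23604 D39531) (tt N21054 (iv D38346)) (tt N21797 F177861) (tt N23605 D39532) (tt N21796 F177862))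
theorem Q22421 : ∀ i, i < 22421 → P i := stepQ 22420 Q22420 (allL N22420 (tt N21647 F177863) (tt N21061 F177864) (tt N23329 (iv F181544)) (tt N23364 (iv F181773)) (tt N21057 F177865) (tt N21642 F177866) (tt N23605 (iv F183026)) (tt N21055 F177867) (tt N21054 (iv D38347)) (tt N23359 (iv F181753)))
theorem Q22422 : ∀ i, i < 22422 → P i := stepQ 22421 Q22421 (allL N22421 (tt N21679 F177868) (tt N21063 F177869) (tt N23330 (iv F181552)) (tt N22421 F177870) (tt N23605 (iv F183025)) (tt N23606 D39533) (tt N21057 F177871) (tt N21876 F177872) (tt N21056 (iv D38348)) (tt N23490 (iv F182447)))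
theorem Q22423 : ∀ i, i < 22423 → P i := stepQ 22422 Q22422 (allL N22422 (tt N21745 F177873) (tt N23603 (iv F183014)) (tt N23303 (iv F181371)) (tt N21060 F177874) (tt N22422 F177875) (tt N23607 D39534) (tt N21058 (iv D38349)) (tt N23167 (iv F180533)) (tt N23608 D39535) (tt N23261 (iv F181118)))
theorem Q22424 : ∀ i, i < 22424 → P i := stepQ 22423 Q22423 (allL N22423 (tt N21746 F177876) (tt N23364 (iv F181771)) (tt N23304 (iv F181378)) (tt N21061 F177877) (tt N22423 F177878) (tt N23354 (iv F181718)) (tt N23608 (iv F183042)) (tt N21059 F177879) (tt N21058 (iv D38350)) (tt N23353 F181712))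
theorem Q22425 : ∀ i, i < 22425 → P i := stepQ 22424 Q22424 (allL N22424 (tt N21748 F177880) (tt N23604 (iv F183019)) (tt N21065 F177881) (tt N23607 (iv F183037)) (tt N23257 (iv F181087)) (tt N21060 (iv D38351)) (tt N21108 F177882) (tt N23169 (iv F180548)) (tt N23609 D39536) (tt N23263 (iv F181133)))
theorem Q22426 : ∀ i, i < 22426 → P i := stepQ 22425 Q22425 (allL N22425 (tt N21749 F177883) (tt N23605 (iv F183024)) (tt N21066 F177884) (tt N23608 (iv F183040)) (tt N21063 F177885) (tt N23610 D39537) (tt N21061 F177886) (tt N23170 (iv F180555)) (tt N21060 (iv D38352)) (tt N23611 D39538))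
theorem Q22427 : ∀ i, i < 22427 → P i := stepQ 22426 Q22426 (allL N22426 (tt N21750 F177887) (tt N23359 (iv F181747)) (tt N21068 F177888) (tt N23353 (iv F181708)) (tt N21064 F177889) (tt N23350 (iv F181693)) (tt N23611 (iv F183051)) (tt N21062 F177890) (tt N23266 (iv F181155)) (tt N21061 (iv D38353)))
theorem Q22428 : ∀ i, i < 22428 → P i := stepQ 22427 Q22427 (allL N22427 (tt N21751 F177891) (tt N23606 (iv F183029)) (tt N21071 F177892) (tt N22427 F177893) (tt N23612 D39539) (tt N21063 (iv D38354)) (tt N21289 F177894) (tt N23173 (iv F180577)) (tt N21672 F177895) (tt N23613 D39540))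
theorem Q22429 : ∀ i, i < 22429 → P i := stepQ 22428 Q22428 (allL N22428 (tt N21752 F177896) (tt N23490 (iv F182441)) (tt N21072 F177897) (tt N22428 F177898) (tt N23611 (iv F183050)) (tt N23613 (iv F183060)) (tt N21064 F177899) (tt N23174 (iv F180584)) (tt N23268 (iv F181169)) (tt N21063 (iv D38355)))
theorem Q22430 : ∀ i, i < 22430 → P i := stepQ 22429 Q22429 (allL N22429 (tt N21753 F177900) (tt N23336 (iv F181595)) (tt N23609 (iv F183044)) (tt N23311 (iv F181429)) (tt N23258 (iv F181094)) (tt N23614 D39541) (tt N21112 F177901) (tt N23175 (iv F180591)) (tt N21065 (iv D38356)) (tt N23615 D39542))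
theorem Q22431 : ∀ i, i < 22431 → P i := stepQ 22430 Q22430 (allL N22430 (tt N21754 F177902) (tt N23337 (iv F181601)) (tt N23610 (iv F183047)) (tt N23312 (iv F181435)) (tt N23616 D39543) (tt N21066 (iv D38357)) (tt N23617 D39544) (tt N23176 (iv F180595)) (tt N23614 (iv F183063)) (tt N23618 D39545))
theorem Q22432 : ∀ i, i < 22432 → P i := stepQ 22431 Q22431 (allL N22431 (tt N21755 F177903) (tt N23338 (iv F181605)) (tt N23611 (iv F183049)) (tt N23313 (iv F181439)) (tt N21072 F177904) (tt N23618 (iv F183071)) (tt N21068 F177905) (tt N23177 (iv F180601)) (tt N23271 (iv F181186)) (tt N21066 (iv D38358)))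
theorem Q22433 : ∀ i, i < 22433 → P i := stepQ 22432 Q22432 (allL N22432 (tt N21756 F177906) (tt N23339 (iv F181613)) (tt N23434 (iv F182156)) (tt N23314 (iv F181446)) (tt N21293 F177907) (tt N23617 (iv F183069)) (tt N21067 (iv D38359)) (tt N23619 D39546) (tt N21115 F177908) (tt N23620 D39547))
theorem Q22434 : ∀ i, i < 22434 → P i := stepQ 22433 Q22433 (allL N22433 (tt N21757 F177909) (tt N23340 (iv F181618)) (tt N23350 (iv F181690)) (tt N23315 (iv F181452)) (tt N21294 F177910) (tt N21068 F177911) (tt N23620 (iv F183078)) (tt N21070 F177912) (tt N23348 (iv F181682)) (tt N21067 (iv D38360)))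
theorem Q22435 : ∀ i, i < 22435 → P i := stepQ 22434 Q22434 (allL N22434 (tt N21758 F177913) (tt N23341 (iv F181626)) (tt N23346 (iv F181662)) (tt N23316 (iv F181460)) (tt N21295 F177914) (tt N23180 (iv F180621)) (tt N23619 (iv F183074)) (tt N21069 (iv D38361)) (tt N21117 F177915) (tt N23437 (iv F182179)))
theorem Q22436 : ∀ i, i < 22436 → P i := stepQ 22435 Q22435 (allL N22435 (tt N21761 F177916) (tt N23342 (iv F181634)) (tt N23612 (iv F183053)) (tt N23621 D39548) (tt N21071 (iv D38362)) (tt N23616 (iv F183067)) (tt N21296 F177917) (tt N23181 (iv F180627)) (tt N23260 (iv F181110)) (tt N23622 D39549))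
theorem Q22437 : ∀ i, i < 22437 → P i := stepQ 22436 Q22436 (allL N22436 (tt N21762 F177918) (tt N23343 (iv F181640)) (tt N23613 (iv F183058)) (tt N21074 F177919) (tt N23622 (iv F183085)) (tt N21072 F177920) (tt N21297 F177921) (tt N23182 (iv F180634)) (tt N23623 D39550) (tt N21071 (iv D38363)))
theorem Q22438 : ∀ i, i < 22438 → P i := stepQ 22437 Q22437 (allL N22437 (tt N21763 F177922) (tt N21238 F177923) (tt N23624 D39551) (tt N21073 (iv D38364)) (tt N23621 (iv F183081)) (tt N23318 (iv F181472)) (tt N21254 F177924) (tt N23183 (iv F180639)) (tt N21232 F177925) (tt N23625 D39552))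
theorem Q22439 : ∀ i, i < 22439 → P i := stepQ 22438 Q22438 (allL N22438 (tt N21764 F177926) (tt N21228 F177927) (tt N22438 F177928) (tt N23625 (iv F183098)) (tt N21074 F177929) (tt N23241 (iv F180973)) (tt N21255 F177930) (tt N23184 (iv F180647)) (tt N21489 F177931) (tt N21073 (iv D38365)))
theorem Q22440 : ∀ i, i < 22440 → P i := stepQ 22439 Q22439 (allL N22439 (tt N21765 F177932) (tt N21486 F177933) (tt N22439 F177934) (tt N23623 (iv F183089)) (tt N21489 F177935) (tt N23278 (iv F181230)) (tt N21298 F177936) (tt N23185 (iv F180655)) (tt N21074 (iv D38366)) (tt N21481 F177937))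
theorem Q22441 : ∀ i, i < 22441 → P i := stepQ 22440 Q22440 (allL N22440 (tt N21717 F177938) (tt N23502 (iv F182521)) (tt N21076 F177939) (tt N23389 (iv F181916)) (tt N21108 F177940) (tt N21075 (iv D38367)) (tt N23257 (iv F181088)) (tt N21137 F177941) (tt N23626 D39553) (tt N21402 F177942))
theorem Q22442 : ∀ i, i < 22442 → P i := stepQ 22441 Q22441 (allL N22441 (tt N21766 F177943) (tt N23532 (iv F182699)) (tt N23626 (iv F183102)) (tt N23148 (iv F180413)) (tt N21112 F177944) (tt N23627 D39554) (tt N23258 (iv F181095)) (tt N21138 F177945) (tt N21076 (iv D38368)) (tt N23628 D39555))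
theorem Q22443 : ∀ i, i < 22443 → P i := stepQ 22442 Q22442 (allL N22442 (tt N21715 F177946) (tt N23533 (iv F182705)) (tt N21318 F177947) (tt N23149 (iv F180419)) (tt N21323 F177948) (tt N21077 (iv D38369)) (tt N21605 F177949) (tt N21139 F177950) (tt N23627 (iv F183109)) (tt N23381 (iv F181867)))
theorem Q22444 : ∀ i, i < 22444 → P i := stepQ 22443 Q22443 (allL N22443 (tt N21768 F177951) (tt N21666 F177952) (tt N23331 (iv F181559)) (tt N21080 F177953) (tt N21196 F177954) (tt N23629 D39556) (tt N21078 (iv D38370)) (tt N21144 F177955) (tt N23630 D39557) (tt N21105 F177956))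
theorem Q22445 : ∀ i, i < 22445 → P i := stepQ 22444 Q22444 (allL N22444 (tt N21520 F177957) (tt N21329 F177958) (tt N21618 F177959) (tt N21081 F177960) (tt N21197 F177961) (tt N23512 (iv F182591)) (tt N23630 (iv F183126)) (tt N21079 F177962) (tt N21078 (iv D38371)) (tt N21533 (iv F177963)))
theorem Q22446 : ∀ i, i < 22446 → P i := stepQ 22445 Q22445 (allL N22445 (tt N21769 F177964) (tt N21839 F177965) (tt N21086 F177966) (tt N23629 (iv F183118)) (tt N21402 F177967) (tt N21080 (iv D38372)) (tt N23263 (iv F181131)) (tt N21147 F177968) (tt N23631 D39558) (tt N21108 F177969))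
theorem Q22447 : ∀ i, i < 22447 → P i := stepQ 22446 Q22446 (allL N22446 (tt N21770 F177970) (tt N21437 F177971) (tt N21087 F177972) (tt N23630 (iv F183124)) (tt N21084 F177973) (tt N23632 D39559) (tt N21081 F177974) (tt N21148 F177975) (tt N21080 (iv D38373)) (tt N23633 D39560))
theorem Q22448 : ∀ i, i < 22448 → P i := stepQ 22447 Q22447 (allL N22447 (tt N21771 F177976) (tt N21411 F177977) (tt N21088 F177978) (tt N23512 (iv F182589)) (tt N22447 F177979) (tt N21081 (iv D38374)) (tt N23634 D39561) (tt N21082 F177980) (tt N23265 (iv F181146)) (tt N23537 (iv F182737)))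
theorem Q22449 : ∀ i, i < 22449 → P i := stepQ 22448 Q22448 (allL N22448 (tt N21535 F177981) (tt N21439 F177982) (tt N21089 F177983) (tt N21533 F177984) (tt N21085 F177985) (tt N23537 (iv F182735)) (tt N23633 (iv F183143)) (tt N21083 F177986) (tt N21110 F177987) (tt N21081 (iv D38375)))
theorem Q22450 : ∀ i, i < 22450 → P i := stepQ 22449 Q22449 (allL N22449 (tt N21772 F177988) (tt N21457 F177989) (tt N21092 F177990) (tt N21200 F177991) (tt N23635 D39562) (tt N21084 (iv D38376)) (tt N22449 F177992) (tt N21150 F177993) (tt N21406 F177994) (tt N23489 (iv F182439)))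
theorem Q22451 : ∀ i, i < 22451 → P i := stepQ 22450 Q22450 (allL N22450 (tt N21773 F177995) (tt N21459 F177996) (tt N21093 F177997) (tt N21201 F177998) (tt N23633 (iv F183142)) (tt N23489 (iv F182435)) (tt N21085 F177999) (tt N21151 F178000) (tt N21111 F178001) (tt N21084 (iv D38377)))
theorem Q22452 : ∀ i, i < 22452 → P i := stepQ 22451 Q22451 (allL N22451 (tt N21774 F178002) (tt N23311 (iv F181428)) (tt N23631 (iv F183131)) (tt N23336 (iv F181596)) (tt N21407 F178003) (tt N23636 D39563) (tt N23269 (iv F181174)) (tt N21152 F178004) (tt N21086 (iv D38378)) (tt N23637 D39564))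
theorem Q22453 : ∀ i, i < 22453 → P i := stepQ 22452 Q22452 (allL N22452 (tt N21775 F178005) (tt N23312 (iv F181434)) (tt N23632 (iv F183136)) (tt N23337 (iv F181602)) (tt N23638 D39565) (tt N21087 (iv D38379)) (tt N23639 D39566) (tt N21153 F178006) (tt N23636 (iv F183159)) (tt N23640 D39567))
theorem Q22454 : ∀ i, i < 22454 → P i := stepQ 22453 Q22453 (allL N22453 (tt N21776 F178007) (tt N23313 (iv F181438)) (tt N23633 (iv F183140)) (tt N23338 (iv F181607)) (tt N21093 F178008) (tt N23640 (iv F183170)) (tt N21089 F178009) (tt N21154 F178010) (tt N21114 F178011) (tt N21087 (iv D38380)))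
theorem Q22455 : ∀ i, i < 22455 → P i := stepQ 22454 Q22454 (allL N22454 (tt N21777 F178012) (tt N23314 (iv F181445)) (tt N23634 (iv F183148)) (tt N23339 (iv F181614)) (tt N22454 F178013) (tt N23639 (iv F183168)) (tt N21088 (iv D38381)) (tt N23641 D39568) (tt N23272 (iv F181191)) (tt N23642 D39569))
theorem Q22456 : ∀ i, i < 22456 → P i := stepQ 22455 Q22455 (allL N22455 (tt N21778 F178014) (tt N23315 (iv F181450)) (tt N23537 (iv F182732)) (tt N23340 (iv F181620)) (tt N22455 F178015) (tt N21089 F178016) (tt N23642 (iv F183178)) (tt N21091 F178017) (tt N23535 (iv F182723)) (tt N21088 (iv D38382)))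
theorem Q22457 : ∀ i, i < 22457 → P i := stepQ 22456 Q22456 (allL N22456 (tt N21779 F178018) (tt N23316 (iv F181458)) (tt N21356 F178019) (tt N23341 (iv F181628)) (tt N22456 F178020) (tt N21157 F178021) (tt N23641 (iv F183175)) (tt N21090 (iv D38383)) (tt N23274 (iv F181206)) (tt N23585 (iv F182952)))
theorem Q22458 : ∀ i, i < 22458 → P i := stepQ 22457 Q22457 (allL N22457 (tt N21782 F178022) (tt N23317 (iv F181466)) (tt N23635 (iv F183153)) (tt N23643 D39570) (tt N21092 (iv D38384)) (tt N23638 (iv F183165)) (tt N22457 F178023) (tt N21159 F178024) (tt N21412 F178025) (tt N23644 D39571))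
theorem Q22459 : ∀ i, i < 22459 → P i := stepQ 22458 Q22458 (allL N22458 (tt N21783 F178026) (tt N23232 (iv F180916)) (tt N23489 (iv F182434)) (tt N21095 F178027) (tt N23644 (iv F183185)) (tt N21093 F178028) (tt N22458 F178029) (tt N21160 F178030) (tt N23166 (iv F180526)) (tt N21092 (iv D38385)))
theorem Q22460 : ∀ i, i < 22460 → P i := stepQ 22459 Q22459 (allL N22459 (tt N21784 F178031) (tt N23318 (iv F181471)) (tt N23431 (iv F182139)) (tt N21094 (iv D38386)) (tt N23643 (iv F183180)) (tt N21238 F178032) (tt N22459 F178033) (tt N21161 F178034) (tt N21239 F178035) (tt N23430 F182137))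
theorem Q22461 : ∀ i, i < 22461 → P i := stepQ 22460 Q22460 (allL N22460 (tt N23460 (iv F182281)) (tt N23348 (iv F181677)) (tt N21098 F178036) (tt N23535 (iv F182720)) (tt N21202 F178037) (tt N23375 (iv F181827)) (tt N23645 D39572) (tt N21097 (iv D38387)) (tt N23340 (iv F181624)) (tt N21658 F178038))
theorem Q22462 : ∀ i, i < 22462 → P i := stepQ 22461 Q22461 (allL N22461 (tt N23472 (iv F182324)) (tt N21105 F178039) (tt N23645 (iv F183188)) (tt N21100 F178040) (tt N21204 F178041) (tt N23646 D39573) (tt N21098 (iv D38388)) (tt N21164 F178042) (tt N23647 D39574) (tt N21666 F178043))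
theorem Q22463 : ∀ i, i < 22463 → P i := stepQ 22462 Q22462 (allL N22462 (tt N21320 F178044) (tt N21106 F178045) (tt N23340 (iv F181619)) (tt N21101 F178046) (tt N21205 F178047) (tt N21640 (iv F178049)) (tt N23647 (iv F183200)) (tt N21099 F178048) (tt N21098 (iv D38389)) (tt N23334 (iv F181585)))
theorem Q22464 : ∀ i, i < 22464 → P i := stepQ 22463 Q22463 (allL N22463 (tt N23548 (iv F182777)) (tt N21108 F178050) (tt N23538 (iv F182739)) (tt N23646 (iv F183193)) (tt N23502 (iv F182523)) (tt N21100 (iv D38390)) (tt N23604 (iv F183020)) (tt N21168 F178051) (tt N23648 D39575) (tt N21839 F178052))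
theorem Q22465 : ∀ i, i < 22465 → P i := stepQ 22464 Q22464 (allL N22464 (tt N21321 F178053) (tt N21109 F178054) (tt N23539 (iv F182744)) (tt N23647 (iv F183198)) (tt N21103 F178055) (tt N23649 D39576) (tt N21101 F178056) (tt N21169 F178057) (tt N21100 (iv D38391)) (tt N23650 D39577))
theorem Q22466 : ∀ i, i < 22466 → P i := stepQ 22465 Q22465 (allL N22465 (tt N21122 F178058) (tt N21110 F178059) (tt N23512 (iv F182588)) (tt N23334 (iv F181581)) (tt N21104 F178060) (tt N21618 F178061) (tt N23650 (iv F183212)) (tt N21102 F178062) (tt N21439 F178063) (tt N21101 (iv D38392)))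
theorem Q22467 : ∀ i, i < 22467 → P i := stepQ 22466 Q22466 (allL N22466 (tt N21123 F178064) (tt N21111 F178065) (tt N23529 (iv F182679)) (tt N21210 F178066) (tt N23650 (iv F183211)) (tt N21316 F178067) (tt N21104 F178068) (tt N21173 F178069) (tt N21459 F178070) (tt N21103 (iv D38393)))
theorem Q22468 : ∀ i, i < 22468 → P i := stepQ 22467 Q22467 (allL N22467 (tt N21787 F178071) (tt N23646 (iv F183192)) (tt N23357 (iv F181736)) (tt N21108 F178072) (tt N23651 D39578) (tt N21105 (iv D38394)) (tt N23607 (iv F183038)) (tt N21174 F178073) (tt N23652 D39579) (tt N23629 (iv F183120)))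
theorem Q22469 : ∀ i, i < 22469 → P i := stepQ 22468 Q22468 (allL N22468 (tt N21788 F178074) (tt N23647 (iv F183197)) (tt N23358 (iv F181740)) (tt N21109 F178075) (tt N21212 F178076) (tt N23653 D39580) (tt N21106 F178077) (tt N21175 F178078) (tt N21105 (iv D38395)) (tt N23654 D39581))
theorem Q22470 : ∀ i, i < 22470 → P i := stepQ 22469 Q22469 (allL N22469 (tt N21537 F178079) (tt N23334 (iv F181579)) (tt N21642 F178080) (tt N21110 F178081) (tt N21213 F178082) (tt N23329 (iv F181547)) (tt N23654 (iv F183229)) (tt N21107 F178083) (tt N21533 F178084) (tt N21106 (iv D38396)))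
theorem Q22471 : ∀ i, i < 22471 → P i := stepQ 22470 Q22470 (allL N22470 (tt N21789 F178085) (tt N23648 (iv F183202)) (tt N21112 F178086) (tt N23652 (iv F183219)) (tt N23626 (iv F183103)) (tt N23655 D39582) (tt N23609 (iv F183045)) (tt N21179 F178087) (tt N21108 (iv D38397)) (tt N23656 D39583))
theorem Q22472 : ∀ i, i < 22472 → P i := stepQ 22471 Q22471 (allL N22471 (tt N21790 F178088) (tt N23649 (iv F183205)) (tt N21113 F178089) (tt N23653 (iv F183222)) (tt N21325 F178090) (tt N21109 (iv D38398)) (tt N23433 (iv F182153)) (tt N21180 F178091) (tt N23655 (iv F183236)) (tt N23657 D39584))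
theorem Q22473 : ∀ i, i < 22473 → P i := stepQ 22472 Q22472 (allL N22472 (tt N21791 F178092) (tt N23650 (iv F183210)) (tt N21114 F178093) (tt N23654 (iv F183227)) (tt N21111 F178094) (tt N23657 (iv F183243)) (tt N21110 F178095) (tt N21181 F178096) (tt N23633 (iv F183145)) (tt N21109 (iv D38399)))
theorem Q22474 : ∀ i, i < 22474 → P i := stepQ 22473 Q22473 (allL N22473 (tt N21792 F178097) (tt N23546 (iv F182772)) (tt N23655 (iv F183233)) (tt N23368 (iv F181798)) (tt N23658 D39585) (tt N21112 (iv D38400)) (tt N23659 D39586) (tt N21185 F178098) (tt N21113 F178099) (tt N23660 D39587))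
theorem Q22475 : ∀ i, i < 22475 → P i := stepQ 22474 Q22474 (allL N22474 (tt N21793 F178100) (tt N23547 (iv F182775)) (tt N23656 (iv F183238)) (tt N23369 (iv F181802)) (tt N23628 (iv F183113)) (tt N23660 (iv F183253)) (tt N23615 (iv F183065)) (tt N21186 F178101) (tt N23637 (iv F183163)) (tt N21112 (iv D38401)))
theorem Q22476 : ∀ i, i < 22476 → P i := stepQ 22475 Q22475 (allL N22475 (tt N21786 F178102) (tt N23548 (iv F182778)) (tt N21325 F178103) (tt N23661 D39588) (tt N21113 (iv D38402)) (tt N21119 F178104) (tt N23662 D39589) (tt N21187 F178105) (tt N23658 (iv F183249)) (tt N23600 (iv F183003)))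
theorem Q22477 : ∀ i, i < 22477 → P i := stepQ 22476 Q22476 (allL N22476 (tt N21794 F178106) (tt N23549 (iv F182782)) (tt N23433 (iv F182151)) (tt N23371 (iv F181808)) (tt N23662 (iv F183261)) (tt N21115 F178107) (tt N21113 (iv D38403)) (tt N23663 D39590) (tt N23659 (iv F183251)) (tt N23664 D39591))
theorem Q22478 : ∀ i, i < 22478 → P i := stepQ 22477 Q22477 (allL N22477 (tt N21795 F178108) (tt N23550 (iv F182785)) (tt N23657 (iv F183241)) (tt N23372 (iv F181811)) (tt N23600 (iv F183001)) (tt N21114 F178109) (tt N23664 (iv F183268)) (tt N21189 F178110) (tt N23665 D39592) (tt N21113 (iv D38404)))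
theorem Q22479 : ∀ i, i < 22479 → P i := stepQ 22478 Q22478 (allL N22478 (tt N21796 F178111) (tt N23551 (iv F182790)) (tt N23345 (iv F181657)) (tt N23373 (iv F181815)) (tt N21301 F178112) (tt N23663 (iv F183264)) (tt N21117 F178113) (tt N21115 (iv D38405)) (tt N23619 (iv F183075)) (tt N23602 (iv F183013)))
theorem Q22480 : ∀ i, i < 22480 → P i := stepQ 22479 Q22479 (allL N22479 (tt N21797 F178114) (tt N23552 (iv F182796)) (tt N23400 (iv F181975)) (tt N23374 (iv F181819)) (tt N21302 F178115) (tt N23664 (iv F183267)) (tt N21116 F178116) (tt N23602 (iv F183011)) (tt N23666 D39593) (tt N21115 (iv D38406)))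
theorem Q22481 : ∀ i, i < 22481 → P i := stepQ 22480 Q22480 (allL N22480 (tt N21798 F178117) (tt N21658 F178118) (tt N23327 (iv F181531)) (tt N23375 (iv F181825)) (tt N21303 F178119) (tt N23535 (iv F182722)) (tt N23666 (iv F183274)) (tt N21118 F178120) (tt N21116 (iv D38407)) (tt N23348 (iv F181683)))
theorem Q22482 : ∀ i, i < 22482 → P i := stepQ 22481 Q22481 (allL N22481 (tt N21785 F178121) (tt N23472 (iv F182325)) (tt N21420 F178122) (tt N21119 (iv D38408)) (tt N21120 F178123) (tt N23661 (iv F183257)) (tt N21304 F178124) (tt N21191 F178125) (tt N21322 F178126) (tt N23291 (iv F181297)))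
theorem Q22483 : ∀ i, i < 22483 → P i := stepQ 22482 Q22482 (allL N22482 (tt N23334 (iv F181578)) (tt N21124 F178127) (tt N21514 F178128) (tt N21122 F178129) (tt N21215 F178130) (tt N21510 F178131) (tt N23667 D39594) (tt N21121 (iv D38409)) (tt N21495 F178132) (tt N21320 F178133))
theorem Q22484 : ∀ i, i < 22484 → P i := stepQ 22483 Q22483 (allL N22483 (tt N23650 (iv F183209)) (tt N21125 F178134) (tt N23553 (iv F182803)) (tt N23667 (iv F183278)) (tt N21123 F178135) (tt N23668 D39595) (tt N21122 (iv D38410)) (tt N23144 (iv F180387)) (tt N23221 (iv F180848)) (tt N21321 F178136))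
theorem Q22485 : ∀ i, i < 22485 → P i := stepQ 22484 Q22484 (allL N22484 (tt N21541 F178137) (tt N23667 (iv F183276)) (tt N21136 F178138) (tt N21125 F178139) (tt N21217 F178140) (tt N23669 D39596) (tt N21124 (iv D38411)) (tt N23145 (iv F180394)) (tt N21497 F178141) (tt N21322 F178142))
theorem Q22486 : ∀ i, i < 22486 → P i := stepQ 22485 Q22485 (allL N22485 (tt N21799 F178143) (tt N23668 (iv F183282)) (tt N21128 F178144) (tt N23669 (iv F183287)) (tt N23381 (iv F181864)) (tt N21125 (iv D38412)) (tt N21623 F178145) (tt N23146 (iv F180401)) (tt N23670 D39597) (tt N21323 F178146))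
theorem Q22487 : ∀ i, i < 22487 → P i := stepQ 22486 Q22486 (allL N22486 (tt N21539 F178147) (tt N23221 (iv F180842)) (tt N21129 F178148) (tt N21497 F178149) (tt N21127 F178150) (tt N23671 D39598) (tt N21126 F178151) (tt N23147 (iv F180409)) (tt N21125 (iv D38413)) (tt N23163 (iv F180506)))
theorem Q22488 : ∀ i, i < 22488 → P i := stepQ 22487 Q22487 (allL N22487 (tt N21800 F178152) (tt N23238 (iv F180950)) (tt N21132 F178153) (tt N21219 F178154) (tt N23672 D39599) (tt N21127 (iv D38414)) (tt N22487 F178155) (tt N21442 F178156) (tt N21413 F178157) (tt N23166 (iv F180527)))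
theorem Q22489 : ∀ i, i < 22489 → P i := stepQ 22488 Q22488 (allL N22488 (tt N21801 F178158) (tt N23556 (iv F182824)) (tt N23670 (iv F183291)) (tt N21138 F178159) (tt N23382 (iv F181871)) (tt N23673 D39600) (tt N21628 F178160) (tt N23148 (iv F180416)) (tt N21128 (iv D38415)) (tt N23674 D39601))
theorem Q22490 : ∀ i, i < 22490 → P i := stepQ 22489 Q22489 (allL N22489 (tt N21731 F178161) (tt N23557 (iv F182830)) (tt N23671 (iv F183294)) (tt N21139 F178162) (tt N23675 D39602) (tt N21129 (iv D38416)) (tt N23676 D39603) (tt N23149 (iv F180421)) (tt N23673 (iv F183303)) (tt N23677 D39604))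
theorem Q22491 : ∀ i, i < 22491 → P i := stepQ 22490 Q22490 (allL N22490 (tt N21723 F178163) (tt N23558 (iv F182835)) (tt N23163 (iv F180501)) (tt N21140 F178164) (tt N21133 F178165) (tt N23677 (iv F183315)) (tt N21131 F178166) (tt N23150 (iv F180428)) (tt N21326 F178167) (tt N21129 (iv D38417)))
theorem Q22492 : ∀ i, i < 22492 → P i := stepQ 22491 Q22491 (allL N22491 (tt N21362 F178168) (tt N23559 (iv F182843)) (tt N23530 (iv F182686)) (tt N21141 F178169) (tt N22491 F178170) (tt N23676 (iv F183312)) (tt N21130 (iv D38418)) (tt N23554 (iv F182814)) (tt N21631 F178171) (tt N23505 (iv F182546)))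
theorem Q22493 : ∀ i, i < 22493 → P i := stepQ 22492 Q22492 (allL N22492 (tt N21802 F178172) (tt N23560 (iv F182850)) (tt N23672 (iv F183297)) (tt N23678 D39605) (tt N21132 (iv D38419)) (tt N23675 (iv F183309)) (tt N22492 F178173) (tt N23151 (iv F180435)) (tt N23384 (iv F181885)) (tt N23679 D39606))
theorem Q22494 : ∀ i, i < 22494 → P i := stepQ 22493 Q22493 (allL N22493 (tt N21803 F178174) (tt N23561 (iv F182856)) (tt N23166 (iv F180522)) (tt N21135 F178175) (tt N23679 (iv F183322)) (tt N21133 F178176) (tt N22493 F178177) (tt N23152 (iv F180443)) (tt N23489 (iv F182438)) (tt N21132 (iv D38420)))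
theorem Q22495 : ∀ i, i < 22495 → P i := stepQ 22494 Q22494 (allL N22494 (tt N21804 F178178) (tt N23483 (iv F182395)) (tt N21476 F178179) (tt N21134 (iv D38421)) (tt N23678 (iv F183317)) (tt N21143 F178180) (tt N22494 F178181) (tt N21336 F178182) (tt N23385 (iv F181893)) (tt N23387 (iv F181907)))
theorem Q22496 : ∀ i, i < 22496 → P i := stepQ 22495 Q22495 (allL N22495 (tt N21544 F178183) (tt N23259 (iv F181098)) (tt N23669 (iv F183286)) (tt N21137 F178184) (tt N23680 D39607) (tt N21136 (iv D38422)) (tt N21807 F178185) (tt N23389 (iv F181917)) (tt N23681 D39608) (tt N21419 F178186))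
theorem Q22497 : ∀ i, i < 22497 → P i := stepQ 22496 Q22496 (allL N22496 (tt N21733 F178187) (tt N23527 (iv F182671)) (tt N21138 F178188) (tt N23681 (iv F183330)) (tt N21179 F178189) (tt N21714 F178190) (tt N21808 F178191) (tt N23626 (iv F183105)) (tt N21137 (iv D38423)) (tt N23682 D39609))
theorem Q22498 : ∀ i, i < 22498 → P i := stepQ 22497 Q22497 (allL N22497 (tt N21732 F178192) (tt N23564 (iv F182869)) (tt N21714 F178193) (tt N23673 (iv F183302)) (tt N23683 D39610) (tt N21138 (iv D38424)) (tt N23684 D39611) (tt N23627 (iv F183108)) (tt N21139 F178194) (tt N23685 D39612))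
theorem Q22499 : ∀ i, i < 22499 → P i := stepQ 22498 Q22498 (allL N22498 (tt N21805 F178195) (tt N23565 (iv F182871)) (tt N23682 (iv F183334)) (tt N23674 (iv F183305)) (tt N21186 F178196) (tt N23685 (iv F183350)) (tt N21814 F178197) (tt N23628 (iv F183114)) (tt N21433 F178198) (tt N21138 (iv D38425)))
theorem Q22500 : ∀ i, i < 22500 → P i := stepQ 22499 Q22499 (allL N22499 (tt N21719 F178199) (tt N23566 (iv F182876)) (tt N21317 F178200) (tt N23686 D39613) (tt N21139 (iv D38426)) (tt N21142 F178201) (tt N23515 (iv F182610)) (tt N21323 F178202) (tt N23683 (iv F183343)) (tt N23146 (iv F180402)))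
theorem Q22501 : ∀ i, i < 22501 → P i := stepQ 22500 Q22500 (allL N22500 (tt N21363 F178203) (tt N23567 (iv F182879)) (tt N21342 F178204) (tt N23676 (iv F183311)) (tt N23515 (iv F182609)) (tt N21141 F178205) (tt N21139 (iv D38427)) (tt N23555 (iv F182821)) (tt N23684 (iv F183347)) (tt N23506 (iv F182552)))
theorem Q22502 : ∀ i, i < 22502 → P i := stepQ 22501 Q22501 (allL N22501 (tt N21724 F178206) (tt N23568 (iv F182881)) (tt N21713 F178207) (tt N23677 (iv F183314)) (tt N23146 (iv F180399)) (tt N21140 F178208) (tt N23506 (iv F182550)) (tt N23381 (iv F181866)) (tt N23687 D39614) (tt N21139 (iv D38428)))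
theorem Q22503 : ∀ i, i < 22503 → P i := stepQ 22502 Q22502 (allL N22502 (tt N21718 F178209) (tt N23473 (iv F182332)) (tt N21401 F178210) (tt N21142 (iv D38429)) (tt N21143 F178211) (tt N23686 (iv F183353)) (tt N21192 F178212) (tt N21322 F178213) (tt N21191 F178214) (tt N23145 (iv F180396)))
theorem Q22504 : ∀ i, i < 22504 → P i := stepQ 22503 Q22503 (allL N22503 (tt N21807 F178215) (tt N21664 F178216) (tt N23408 (iv F182021)) (tt N21147 F178217) (tt N23688 D39615) (tt N21144 (iv D38430)) (tt N21544 F178218) (tt N23629 (iv F183119)) (tt N23689 D39616) (tt N21174 F178219))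
theorem Q22505 : ∀ i, i < 22505 → P i := stepQ 22504 Q22504 (allL N22504 (tt N21603 F178220) (tt N21327 F178221) (tt N23409 (iv F182026)) (tt N21148 F178222) (tt N21222 F178223) (tt N23690 D39617) (tt N21145 F178224) (tt N23630 (iv F183127)) (tt N21144 (iv D38431)) (tt N23691 D39618))
theorem Q22506 : ∀ i, i < 22506 → P i := stepQ 22505 Q22505 (allL N22505 (tt N21499 F178225) (tt N21328 F178226) (tt N21568 F178227) (tt N21149 F178228) (tt N21223 F178229) (tt N21315 F178230) (tt N23691 (iv F183378)) (tt N21146 F178231) (tt N21177 F178232) (tt N21145 (iv D38432)))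
theorem Q22507 : ∀ i, i < 22507 → P i := stepQ 22506 Q22506 (allL N22506 (tt N21808 F178233) (tt N21837 F178234) (tt N21152 F178235) (tt N23689 (iv F183366)) (tt N21423 F178236) (tt N23692 D39619) (tt N21733 F178237) (tt N23631 (iv F183133)) (tt N21147 (iv D38433)) (tt N23693 D39620))
theorem Q22508 : ∀ i, i < 22508 → P i := stepQ 22507 Q22507 (allL N22507 (tt N21809 F178238) (tt N21435 F178239) (tt N21153 F178240) (tt N23690 (iv F183370)) (tt N23694 D39621) (tt N21148 (iv D38434)) (tt N21365 F178241) (tt N23632 (iv F183137)) (tt N23692 (iv F183385)) (tt N23695 D39622))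
theorem Q22509 : ∀ i, i < 22509 → P i := stepQ 22508 Q22508 (allL N22508 (tt N21810 F178242) (tt N21438 F178243) (tt N21154 F178244) (tt N23691 (iv F183376)) (tt N21151 F178245) (tt N23695 (iv F183400)) (tt N21149 F178246) (tt N23633 (iv F183144)) (tt N21181 F178247) (tt N21148 (iv D38435)))
theorem Q22510 : ∀ i, i < 22510 → P i := stepQ 22509 Q22509 (allL N22509 (tt N21811 F178248) (tt N21455 F178249) (tt N21159 F178250) (tt N23696 D39623) (tt N21150 (iv D38436)) (tt N23694 (iv F183395)) (tt N21266 F178251) (tt N23635 (iv F183155)) (tt N21430 F178252) (tt N23697 D39624))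
theorem Q22511 : ∀ i, i < 22511 → P i := stepQ 22510 Q22510 (allL N22510 (tt N21812 F178253) (tt N21458 F178254) (tt N21160 F178255) (tt N21227 F178256) (tt N23697 (iv F183410)) (tt N21151 F178257) (tt N21267 F178258) (tt N23489 (iv F182437)) (tt N23152 (iv F180444)) (tt N21150 (iv D38437)))
theorem Q22512 : ∀ i, i < 22512 → P i := stepQ 22511 Q22511 (allL N22511 (tt N21813 F178259) (tt N23574 (iv F182904)) (tt N23692 (iv F183383)) (tt N23418 (iv F182077)) (tt N23698 D39625) (tt N21152 (iv D38438)) (tt N23699 D39626) (tt N23636 (iv F183158)) (tt N21153 F178260) (tt N23700 D39627))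
theorem Q22513 : ∀ i, i < 22513 → P i := stepQ 22512 Q22512 (allL N22512 (tt N21814 F178261) (tt N23575 (iv F182906)) (tt N23693 (iv F183388)) (tt N23419 (iv F182080)) (tt N21433 F178262) (tt N23700 (iv F183420)) (tt N21805 F178263) (tt N23637 (iv F183162)) (tt N21186 F178264) (tt N21152 (iv D38439)))
theorem Q22514 : ∀ i, i < 22514 → P i := stepQ 22513 Q22513 (allL N22513 (tt N21815 F178265) (tt N23576 (iv F182910)) (tt N23694 (iv F183394)) (tt N23701 D39628) (tt N21153 (iv D38440)) (tt N21159 F178266) (tt N23702 D39629) (tt N23638 (iv F183166)) (tt N23698 (iv F183414)) (tt N23703 D39630))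
theorem Q22515 : ∀ i, i < 22515 → P i := stepQ 22514 Q22514 (allL N22514 (tt N21816 F178267) (tt N23577 (iv F182912)) (tt N21365 F178268) (tt N23421 (iv F182086)) (tt N23702 (iv F183425)) (tt N21155 F178269) (tt N21153 (iv D38441)) (tt N23704 D39631) (tt N23699 (iv F183418)) (tt N23705 D39632))
theorem Q22516 : ∀ i, i < 22516 → P i := stepQ 22515 Q22515 (allL N22515 (tt N21817 F178270) (tt N23578 (iv F182916)) (tt N23695 (iv F183399)) (tt N23422 (iv F182089)) (tt N23703 (iv F183428)) (tt N21154 F178271) (tt N23705 (iv F183436)) (tt N23640 (iv F183171)) (tt N23706 D39633) (tt N21153 (iv D38442)))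
theorem Q22517 : ∀ i, i < 22517 → P i := stepQ 22516 Q22516 (allL N22516 (tt N21818 F178272) (tt N23579 (iv F182918)) (tt N21355 F178273) (tt N23423 (iv F182092)) (tt N21271 F178274) (tt N23704 (iv F183432)) (tt N21157 F178275) (tt N21155 (iv D38443)) (tt N21353 F178276) (tt N23707 D39634))
theorem Q22518 : ∀ i, i < 22518 → P i := stepQ 22517 Q22517 (allL N22517 (tt N21819 F178277) (tt N23516 (iv F182614)) (tt N21366 F178278) (tt N23424 (iv F182097)) (tt N21272 F178279) (tt N23705 (iv F183435)) (tt N21156 F178280) (tt N23707 (iv F183444)) (tt N23513 (iv F182599)) (tt N21155 (iv D38444)))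
theorem Q22519 : ∀ i, i < 22519 → P i := stepQ 22518 Q22518 (allL N22518 (tt N21820 F178281) (tt N21559 F178282) (tt N21357 F178283) (tt N23426 (iv F182111)) (tt N21273 F178284) (tt N23585 (iv F182950)) (tt N23707 (iv F183443)) (tt N21158 F178285) (tt N21554 F178286) (tt N21157 (iv D38445)))
theorem Q22520 : ∀ i, i < 22520 → P i := stepQ 22519 Q22519 (allL N22519 (tt N21821 F178287) (tt N23580 (iv F182924)) (tt N23708 D39635) (tt N21159 (iv D38446)) (tt N21161 F178288) (tt N23701 (iv F183422)) (tt N21274 F178289) (tt N23643 (iv F183182)) (tt N21440 F178290) (tt N23493 (iv F182465)))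
theorem Q22521 : ∀ i, i < 22521 → P i := stepQ 22520 Q22520 (allL N22520 (tt N21822 F178291) (tt N23231 (iv F180911)) (tt N23697 (iv F183409)) (tt N23493 (iv F182462)) (tt N21160 F178292) (tt N23703 (iv F183429)) (tt N21275 F178293) (tt N23644 (iv F183187)) (tt N23165 (iv F180518)) (tt N21159 (iv D38447)))
theorem Q22522 : ∀ i, i < 22522 → P i := stepQ 22521 Q22521 (allL N22521 (tt N21823 F178294) (tt N23625 (iv F183097)) (tt N21161 (iv D38448)) (tt N21228 F178295) (tt N23708 (iv F183447)) (tt N23430 (iv F182133)) (tt N21257 F178296) (tt N23431 (iv F182143)) (tt N21443 F178297) (tt N21238 F178298))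
theorem Q22523 : ∀ i, i < 22523 → P i := stepQ 22522 Q22522 (allL N22522 (tt N23458 (iv F182268)) (tt N23436 (iv F182167)) (tt N21164 F178299) (tt N23584 (iv F182942)) (tt N21229 F178300) (tt N23709 D39636) (tt N21162 (iv D38449)) (tt N23645 (iv F183190)) (tt N23710 D39637) (tt N21657 F178301))
theorem Q22524 : ∀ i, i < 22524 → P i := stepQ 22523 Q22523 (allL N22523 (tt N23459 (iv F182273)) (tt N23437 (iv F182173)) (tt N21165 F178302) (tt N23585 (iv F182948)) (tt N21230 F178303) (tt N23426 (iv F182113)) (tt N23710 (iv F183456)) (tt N21163 F178304) (tt N21162 (iv D38450)) (tt N23341 (iv F181632)))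
theorem Q22525 : ∀ i, i < 22525 → P i := stepQ 22524 Q22524 (allL N22524 (tt N23470 (iv F182317)) (tt N21174 F178305) (tt N23709 (iv F183451)) (tt N21168 F178306) (tt N23711 D39638) (tt N21164 (iv D38451)) (tt N21665 F178307) (tt N23646 (iv F183194)) (tt N23712 D39639) (tt N21664 F178308))
theorem Q22526 : ∀ i, i < 22526 → P i := stepQ 22525 Q22525 (allL N22525 (tt N23473 (iv F182331)) (tt N21175 F178309) (tt N23710 (iv F183454)) (tt N21169 F178310) (tt N21233 F178311) (tt N23713 D39640) (tt N21165 F178312) (tt N23647 (iv F183201)) (tt N21164 (iv D38452)) (tt N23714 D39641))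
theorem Q22527 : ∀ i, i < 22527 → P i := stepQ 22526 Q22526 (allL N22526 (tt N23425 (iv F182100)) (tt N21176 F178313) (tt N23426 (iv F182110)) (tt N21170 F178314) (tt N22526 F178315) (tt N21165 (iv D38453)) (tt N23715 D39642) (tt N21166 F178316) (tt N21632 F178317) (tt N23415 (iv F182064)))
theorem Q22528 : ∀ i, i < 22528 → P i := stepQ 22527 Q22527 (allL N22527 (tt N23140 (iv F180352)) (tt N21177 F178318) (tt N23341 (iv F181627)) (tt N21171 F178319) (tt N21234 F178320) (tt N23415 (iv F182062)) (tt N23714 (iv F183469)) (tt N21167 F178321) (tt N21328 F178322) (tt N21165 (iv D38454)))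
theorem Q22529 : ∀ i, i < 22529 → P i := stepQ 22528 Q22528 (allL N22528 (tt N23597 (iv F182988)) (tt N21179 F178323) (tt N23588 (iv F182963)) (tt N23712 (iv F183462)) (tt N23527 F182673) (tt N23716 D39643) (tt N21840 F178324) (tt N23648 (iv F183203)) (tt N21168 (iv D38455)) (tt N23717 D39644))
theorem Q22530 : ∀ i, i < 22530 → P i := stepQ 22529 Q22529 (allL N22529 (tt N23566 (iv F182875)) (tt N21180 F178325) (tt N23589 (iv F182966)) (tt N23713 (iv F183465)) (tt N23509 (iv F182569)) (tt N21169 (iv D38456)) (tt N23718 D39645) (tt N23649 (iv F183208)) (tt N23716 (iv F183476)) (tt N23719 D39646))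
theorem Q22531 : ∀ i, i < 22531 → P i := stepQ 22530 Q22530 (allL N22530 (tt N23144 (iv F180383)) (tt N21181 F178326) (tt N23511 (iv F182581)) (tt N23714 (iv F183467)) (tt N21173 F178327) (tt N23719 (iv F183483)) (tt N21171 F178328) (tt N23650 (iv F183213)) (tt N21438 F178329) (tt N21169 (iv D38457)))
theorem Q22532 : ∀ i, i < 22532 → P i := stepQ 22531 Q22531 (allL N22531 (tt N23513 (iv F182594)) (tt N21182 F178330) (tt N23510 (iv F182573)) (tt N23715 (iv F183472)) (tt N21193 F178331) (tt N23718 (iv F183481)) (tt N21170 (iv D38458)) (tt N23720 D39647) (tt N21819 F178332) (tt N23507 (iv F182559)))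
theorem Q22533 : ∀ i, i < 22533 → P i := stepQ 22532 Q22532 (allL N22532 (tt N21554 F178333) (tt N21183 F178334) (tt N21315 F178335) (tt N23414 (iv F182052)) (tt N21194 F178336) (tt N21568 F178337) (tt N23720 (iv F183488)) (tt N21172 (iv D38459)) (tt N21820 F178338) (tt N21311 F178339))
theorem Q22534 : ∀ i, i < 22534 → P i := stepQ 22533 Q22533 (allL N22533 (tt N21826 F178340) (tt N23711 (iv F183457)) (tt N23445 (iv F182210)) (tt N23680 (iv F183325)) (tt N21174 (iv D38460)) (tt N21237 F178341) (tt N23201 (iv F180753)) (tt N23651 (iv F183217)) (tt N23721 D39648) (tt N23688 (iv F183363)))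
theorem Q22535 : ∀ i, i < 22535 → P i := stepQ 22534 Q22534 (allL N22534 (tt N21827 F178342) (tt N23712 (iv F183461)) (tt N23446 (iv F182213)) (tt N21179 F178343) (tt N23721 (iv F183492)) (tt N23722 D39649) (tt N23202 (iv F180758)) (tt N23652 (iv F183220)) (tt N21174 (iv D38461)) (tt N23723 D39650))
theorem Q22536 : ∀ i, i < 22536 → P i := stepQ 22535 Q22535 (allL N22535 (tt N21828 F178344) (tt N23713 (iv F183464)) (tt N23447 (iv F182216)) (tt N21180 F178345) (tt N23724 D39651) (tt N21175 (iv D38462)) (tt N23725 D39652) (tt N23653 (iv F183224)) (tt N23722 (iv F183495)) (tt N23726 D39653))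
theorem Q22537 : ∀ i, i < 22537 → P i := stepQ 22536 Q22536 (allL N22536 (tt N21829 F178346) (tt N23714 (iv F183466)) (tt N23448 (iv F182219)) (tt N21181 F178347) (tt N21240 F178348) (tt N23726 (iv F183507)) (tt N21177 F178349) (tt N23654 (iv F183230)) (tt N23691 (iv F183380)) (tt N21175 (iv D38463)))
theorem Q22538 : ∀ i, i < 22538 → P i := stepQ 22537 Q22537 (allL N22537 (tt N21830 F178350) (tt N23715 (iv F183471)) (tt N23449 (iv F182227)) (tt N21182 F178351) (tt N22537 F178352) (tt N23725 (iv F183504)) (tt N21176 (iv D38464)) (tt N23727 D39654) (tt N23204 (iv F180770)) (tt N23582 (iv F182934)))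
theorem Q22539 : ∀ i, i < 22539 → P i := stepQ 22538 Q22538 (allL N22538 (tt N21831 F178353) (tt N23414 (iv F182050)) (tt N23451 (iv F182241)) (tt N21183 F178354) (tt N22538 F178355) (tt N23344 (iv F181652)) (tt N23727 (iv F183511)) (tt N21178 (iv D38465)) (tt N23205 (iv F180778)) (tt N23405 (iv F182005)))
theorem Q22540 : ∀ i, i < 22540 → P i := stepQ 22539 Q22539 (allL N22539 (tt N21832 F178356) (tt N23716 (iv F183475)) (tt N21185 F178357) (tt N23722 (iv F183494)) (tt N23728 D39655) (tt N21179 (iv D38466)) (tt N23729 D39656) (tt N23655 (iv F183235)) (tt N21180 F178358) (tt N23730 D39657))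
theorem Q22541 : ∀ i, i < 22541 → P i := stepQ 22540 Q22540 (allL N22540 (tt N21833 F178359) (tt N23717 (iv F183477)) (tt N21186 F178360) (tt N23723 (iv F183497)) (tt N23682 (iv F183335)) (tt N23730 (iv F183523)) (tt N23207 (iv F180788)) (tt N23656 (iv F183239)) (tt N23693 (iv F183391)) (tt N21179 (iv D38467)))
theorem Q22542 : ∀ i, i < 22542 → P i := stepQ 22541 Q22541 (allL N22541 (tt N21721 F178361) (tt N23509 (iv F182567)) (tt N21187 F178362) (tt N21408 (iv F178365)) (tt N21180 (iv D38468)) (tt N21184 F178363) (tt N23596 (iv F182987)) (tt N21325 F178364) (tt N23728 (iv F183516)) (tt N23595 F182981))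
theorem Q22543 : ∀ i, i < 22543 → P i := stepQ 22542 Q22542 (allL N22542 (tt N21834 F178366) (tt N23718 (iv F183480)) (tt N21188 F178367) (tt N23725 (iv F183503)) (tt N23596 (iv F182985)) (tt N21182 F178368) (tt N21180 (iv D38469)) (tt N23731 D39658) (tt N23729 (iv F183520)) (tt N23583 (iv F182939)))
theorem Q22544 : ∀ i, i < 22544 → P i := stepQ 22543 Q22543 (allL N22543 (tt N21835 F178369) (tt N23719 (iv F183482)) (tt N21189 F178370) (tt N23726 (iv F183506)) (tt N23595 (iv F182978)) (tt N21181 F178371) (tt N23583 (iv F182938)) (tt N23657 (iv F183244)) (tt N23732 D39659) (tt N21180 (iv D38470)))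
theorem Q22545 : ∀ i, i < 22545 → P i := stepQ 22544 Q22544 (allL N22544 (tt N21836 F178372) (tt N23720 (iv F183485)) (tt N21190 F178373) (tt N23727 (iv F183509)) (tt N21195 F178374) (tt N23731 (iv F183526)) (tt N21183 F178375) (tt N21182 (iv D38471)) (tt N23210 (iv F180805)) (tt N23534 (iv F182716)))
theorem Q22546 : ∀ i, i < 22546 → P i := stepQ 22545 Q22545 (allL N22545 (tt N21825 F178376) (tt N23597 (iv F182989)) (tt N23728 (iv F183513)) (tt N23733 D39660) (tt N21185 (iv D38472)) (tt N23683 (iv F183341)) (tt N23601 (iv F183007)) (tt N23658 (iv F183248)) (tt N21187 F178377) (tt N23734 D39661))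
theorem Q22547 : ∀ i, i < 22547 → P i := stepQ 22546 Q22546 (allL N22546 (tt N21837 F178378) (tt N23598 (iv F182993)) (tt N23729 (iv F183519)) (tt N23464 (iv F182300)) (tt N23601 (iv F183006)) (tt N23213 (iv F180817)) (tt N21185 (iv D38473)) (tt N23735 D39662) (tt N21188 F178379) (tt N23736 D39663))
theorem Q22548 : ∀ i, i < 22548 → P i := stepQ 22547 Q22547 (allL N22547 (tt N21838 F178380) (tt N23599 (iv F182996)) (tt N23730 (iv F183522)) (tt N23465 (iv F182303)) (tt N23734 (iv F183532)) (tt N21186 F178381) (tt N23736 (iv F183536)) (tt N23660 (iv F183254)) (tt N23737 D39664) (tt N21185 (iv D38474)))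
theorem Q22549 : ∀ i, i < 22549 → P i := stepQ 22548 Q22548 (allL N22548 (tt N21824 F178382) (tt N23470 (iv F182318)) (tt N23395 (iv F181942)) (tt N21187 (iv D38475)) (tt N23466 (iv F182306)) (tt N21191 F178383) (tt N23290 (iv F181289)) (tt N23661 (iv F183258)) (tt N23733 (iv F183530)) (tt N23289 F181284))
theorem Q22550 : ∀ i, i < 22550 → P i := stepQ 22549 Q22549 (allL N22549 (tt N21839 F178384) (tt N23600 (iv F182999)) (tt N23731 (iv F183525)) (tt N23469 (iv F182315)) (tt N23550 (iv F182786)) (tt N21190 F178385) (tt N23663 (iv F183265)) (tt N21188 (iv D38476)) (tt N23735 (iv F183534)) (tt N23548 F182781))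
theorem Q22551 : ∀ i, i < 22551 → P i := stepQ 22550 Q22550 (allL N22550 (tt N21840 F178386) (tt N23601 (iv F183005)) (tt N23732 (iv F183528)) (tt N23471 (iv F182323)) (tt N23598 (iv F182994)) (tt N23706 (iv F183438)) (tt N23597 F182991) (tt N23665 (iv F183270)) (tt N21189 (iv D38477)) (tt N23737 (iv F183538)))
theorem Q22552 : ∀ i, i < 22552 → P i := stepQ 22551 Q22551 (allL N22551 (tt N21555 F178387) (tt N21195 F178388) (tt N21316 F178389) (tt N22551 F178390) (tt N23720 (iv F183487)) (tt N23529 (iv F182681)) (tt N21194 F178391) (tt N21193 (iv D38478)) (tt N21861 F178392) (tt N21312 F178393))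
theorem Q22553 : ∀ i, i < 22553 → P i := stepQ 22552 Q22552 (allL N22552 (tt N21841 F178394) (tt N21689 F178395) (tt N23485 (iv F182409)) (tt N21198 F178396) (tt N23738 D39665) (tt N21196 (iv D38479)) (tt N22552 F178397) (tt N21221 F178398) (tt N23495 (iv F182477)) (tt N21211 F178399))
theorem Q22554 : ∀ i, i < 22554 → P i := stepQ 22553 Q22553 (allL N22553 (tt N21521 F178400) (tt N21330 F178401) (tt N21619 F178402) (tt N21199 F178403) (tt N23630 (iv F183125)) (tt N21569 (iv F178406)) (tt N21197 F178404) (tt N21222 F178405) (tt N21196 (iv D38480)) (tt N21534 F178407))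
theorem Q22555 : ∀ i, i < 22555 → P i := stepQ 22554 Q22554 (allL N22554 (tt N23480 (iv F182377)) (tt N23486 (iv F182416)) (tt N21204 F178408) (tt N22554 F178409) (tt N23645 (iv F183189)) (tt N23739 D39666) (tt N21202 (iv D38481)) (tt N21229 F178410) (tt N23740 D39667) (tt N21683 F178411))
theorem Q22556 : ∀ i, i < 22556 → P i := stepQ 22555 Q22555 (allL N22555 (tt N21333 F178412) (tt N21294 F178413) (tt N21205 F178414) (tt N22555 F178415) (tt N23340 (iv F181621)) (tt N21282 (iv F178418)) (tt N23740 (iv F183554)) (tt N21203 F178416) (tt N21202 (iv D38482)) (tt N21281 F178417))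
theorem Q22557 : ∀ i, i < 22557 → P i := stepQ 22556 Q22556 (allL N22556 (tt N23277 (iv F181219)) (tt N21211 F178419) (tt N23739 (iv F183545)) (tt N21207 F178420) (tt N23741 D39668) (tt N21204 (iv D38483)) (tt N22556 F178421) (tt N21232 F178422) (tt N23183 (iv F180640)) (tt N21689 F178423))
theorem Q22558 : ∀ i, i < 22558 → P i := stepQ 22557 Q22557 (allL N22557 (tt N21334 F178424) (tt N21212 F178425) (tt N23740 (iv F183552)) (tt N21208 F178426) (tt N23647 (iv F183199)) (tt N21369 (iv F178429)) (tt N21205 F178427) (tt N21233 F178428) (tt N21204 (iv D38484)) (tt N23742 D39669))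
theorem Q22559 : ∀ i, i < 22559 → P i := stepQ 22558 Q22558 (allL N22558 (tt N21215 F178430) (tt N21213 F178431) (tt N21281 F178432) (tt N21209 F178433) (tt N23334 (iv F181582)) (tt N21242 F178434) (tt N23742 (iv F183568)) (tt N21206 F178435) (tt N21284 F178436) (tt N21205 (iv D38485)))
theorem Q22560 : ∀ i, i < 22560 → P i := stepQ 22559 Q22559 (allL N22559 (tt N21216 F178437) (tt N21214 F178438) (tt N22559 F178439) (tt N23742 (iv F183566)) (tt N21210 F178440) (tt N21370 F178441) (tt N21209 F178442) (tt N21236 F178443) (tt N21332 F178444) (tt N21208 (iv D38486)))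
theorem Q22561 : ∀ i, i < 22561 → P i := stepQ 22560 Q22560 (allL N22560 (tt N21842 F178445) (tt N23741 (iv F183558)) (tt N23487 (iv F182423)) (tt N23390 (iv F181921)) (tt N21211 (iv D38487)) (tt N23651 (iv F183216)) (tt N22560 F178446) (tt N21237 F178447) (tt N23427 (iv F182120)) (tt N23738 (iv F183544)))
theorem Q22562 : ∀ i, i < 22562 → P i := stepQ 22561 Q22561 (allL N22561 (tt N21538 F178448) (tt N23742 (iv F183564)) (tt N21643 F178449) (tt N21214 F178450) (tt N23654 (iv F183228)) (tt N21444 F178451) (tt N21213 F178452) (tt N21240 F178453) (tt N21534 F178454) (tt N21212 (iv D38488)))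
theorem Q22563 : ∀ i, i < 22563 → P i := stepQ 22562 Q22562 (allL N22562 (tt N23742 (iv F183563)) (tt N21217 F178455) (tt N21548 F178456) (tt N21216 F178457) (tt N23667 (iv F183279)) (tt N23743 D39670) (tt N21215 (iv D38489)) (tt N23141 (iv F180365)) (tt N21496 F178458) (tt N21334 F178459))
theorem Q22564 : ∀ i, i < 22564 → P i := stepQ 22563 Q22563 (allL N22563 (tt N21370 F178460) (tt N21218 F178461) (tt N22563 F178462) (tt N23743 (iv F183574)) (tt N21347 F178463) (tt N21216 (iv D38490)) (tt N21244 F178464) (tt N23142 (iv F180372)) (tt N21471 F178465) (tt N21335 F178466))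
theorem Q22565 : ∀ i, i < 22565 → P i := stepQ 22564 Q22564 (allL N22564 (tt N21542 F178467) (tt N23743 (iv F183572)) (tt N21220 F178468) (tt N21218 F178469) (tt N23744 D39671) (tt N21217 (iv D38491)) (tt N21245 F178470) (tt N23387 (iv F181905)) (tt N23335 (iv F181592)) (tt N21336 F178471))
theorem Q22566 : ∀ i, i < 22566 → P i := stepQ 22565 Q22565 (allL N22565 (tt N21545 F178472) (tt N23260 (iv F181105)) (tt N23744 (iv F183579)) (tt N21237 F178473) (tt N21220 (iv D38492)) (tt N23680 (iv F183326)) (tt N21247 F178474) (tt N23390 (iv F181923)) (tt N23342 (iv F181638)) (tt N21482 F178475))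
theorem Q22567 : ∀ i, i < 22567 → P i := stepQ 22566 Q22566 (allL N22566 (tt N21843 F178476) (tt N21688 F178477) (tt N23488 (iv F182427)) (tt N21482 F178478) (tt N21221 (iv D38493)) (tt N23688 (iv F183361)) (tt N21250 F178479) (tt N23738 (iv F183543)) (tt N23745 D39672) (tt N21237 F178480))
theorem Q22568 : ∀ i, i < 22568 → P i := stepQ 22567 Q22567 (allL N22567 (tt N21648 F178481) (tt N21687 F178482) (tt N21444 F178483) (tt N21224 F178484) (tt N23745 (iv F183586)) (tt N21643 F178485) (tt N21251 F178486) (tt N23495 (iv F182476)) (tt N21221 (iv D38494)) (tt N21443 F178487))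
theorem Q22569 : ∀ i, i < 22569 → P i := stepQ 22568 Q22568 (allL N22568 (tt N21500 F178488) (tt N21331 F178489) (tt N21569 F178490) (tt N21225 F178491) (tt N23691 (iv F183377)) (tt N21619 F178492) (tt N21223 F178493) (tt N21534 F178494) (tt N21240 F178495) (tt N21222 (iv D38495)))
theorem Q22570 : ∀ i, i < 22570 → P i := stepQ 22569 Q22569 (allL N22569 (tt N21705 F178496) (tt N21468 F178497) (tt N23343 (iv F181641)) (tt N21226 (iv D38496)) (tt N23696 (iv F183404)) (tt N21704 F178498) (tt N21276 F178499) (tt N23417 (iv F182074)) (tt N21488 F178500) (tt N23335 (iv F181593)))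
theorem Q22571 : ∀ i, i < 22571 → P i := stepQ 22570 Q22570 (allL N22570 (tt N23295 (iv F181314)) (tt N23242 (iv F180978)) (tt N21232 F178501) (tt N22570 F178502) (tt N23746 D39673) (tt N21229 (iv D38497)) (tt N21252 F178503) (tt N23739 (iv F183548)) (tt N23624 (iv F183095)) (tt N21682 F178504))
theorem Q22572 : ∀ i, i < 22572 → P i := stepQ 22571 Q22571 (allL N22571 (tt N23481 (iv F182384)) (tt N23491 (iv F182449)) (tt N21233 F178505) (tt N22571 F178506) (tt N23710 (iv F183455)) (tt N23747 D39674) (tt N21230 F178507) (tt N23740 (iv F183555)) (tt N21229 (iv D38498)) (tt N23748 D39675))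
theorem Q22573 : ∀ i, i < 22573 → P i := stepQ 22572 Q22572 (allL N22572 (tt N21549 F178508) (tt N21295 F178509) (tt N21234 F178510) (tt N22572 F178511) (tt N23341 (iv F181629)) (tt N22572 F178512) (tt N23748 (iv F183600)) (tt N21231 F178513) (tt N21287 F178514) (tt N21230 (iv D38499)))
theorem Q22574 : ∀ i, i < 22574 → P i := stepQ 22573 Q22573 (allL N22573 (tt N23292 (iv F181298)) (tt N21237 F178515) (tt N23746 (iv F183589)) (tt N23260 (iv F181107)) (tt N21232 (iv D38500)) (tt N23711 (iv F183458)) (tt N21253 F178516) (tt N23741 (iv F183561)) (tt N23621 (iv F183083)) (tt N21688 F178517))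
theorem Q22575 : ∀ i, i < 22575 → P i := stepQ 22574 Q22574 (allL N22574 (tt N23483 (iv F182394)) (tt N21239 F178518) (tt N23747 (iv F183592)) (tt N21235 F178519) (tt N23749 D39676) (tt N21233 (iv D38501)) (tt N22574 F178520) (tt N21369 F178521) (tt N23318 (iv F181475)) (tt N23750 D39677))
theorem Q22576 : ∀ i, i < 22576 → P i := stepQ 22575 Q22575 (allL N22575 (tt N23141 (iv F180360)) (tt N21240 F178522) (tt N23748 (iv F183598)) (tt N21236 F178523) (tt N23714 (iv F183468)) (tt N23750 (iv F183609)) (tt N21234 F178524) (tt N23742 (iv F183569)) (tt N21331 F178525) (tt N21233 (iv D38502)))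
theorem Q22577 : ∀ i, i < 22577 → P i := stepQ 22576 Q22576 (allL N22576 (tt N23142 (iv F180367)) (tt N21241 F178526) (tt N22576 F178527) (tt N23750 (iv F183608)) (tt N21360 F178528) (tt N21236 F178529) (tt N22576 F178530) (tt N21370 F178531) (tt N23245 (iv F181002)) (tt N21235 (iv D38503)))
theorem Q22578 : ∀ i, i < 22578 → P i := stepQ 22577 Q22577 (allL N22577 (tt N21844 F178532) (tt N23621 (iv F183080)) (tt N23493 (iv F182461)) (tt N23342 (iv F181635)) (tt N21238 F178533) (tt N23751 D39678) (tt N21256 F178534) (tt N23427 (iv F182119)) (tt N21237 (iv D38504)) (tt N23708 (iv F183450)))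
theorem Q22579 : ∀ i, i < 22579 → P i := stepQ 22578 Q22578 (allL N22578 (tt N21845 F178535) (tt N23749 (iv F183603)) (tt N23494 (iv F182467)) (tt N21412 F178536) (tt N21239 (iv D38505)) (tt N23724 (iv F183500)) (tt N22578 F178537) (tt N21440 F178538) (tt N23643 (iv F183183)) (tt N23752 D39679))
theorem Q22580 : ∀ i, i < 22580 → P i := stepQ 22579 Q22579 (allL N22579 (tt N21846 F178539) (tt N23750 (iv F183607)) (tt N23495 (iv F182472)) (tt N21241 F178540) (tt N23752 (iv F183615)) (tt N21240 F178541) (tt N22579 F178542) (tt N21444 F178543) (tt N23485 (iv F182413)) (tt N21239 (iv D38506)))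
theorem Q22581 : ∀ i, i < 22581 → P i := stepQ 22580 Q22580 (allL N22580 (tt N21374 F178544) (tt N21245 F178545) (tt N21547 F178546) (tt N21244 F178547) (tt N23753 D39680) (tt N21243 (iv D38507)) (tt N23743 (iv F183575)) (tt N22580 F178548) (tt N21469 F178549) (tt N21339 F178550))
theorem Q22582 : ∀ i, i < 22582 → P i := stepQ 22581 Q22581 (allL N22581 (tt N21552 F178551) (tt N23753 (iv F183619)) (tt N21247 F178552) (tt N23153 (iv F180448)) (tt N21245 (iv D38508)) (tt N21710 F178553) (tt N23744 (iv F183580)) (tt N22581 F178554) (tt N23754 D39681) (tt N21340 F178555))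
theorem Q22583 : ∀ i, i < 22583 → P i := stepQ 22582 Q22582 (allL N22582 (tt N21546 F178556) (tt N21469 F178557) (tt N21248 F178558) (tt N21246 F178559) (tt N23754 (iv F183630)) (tt N21279 F178560) (tt N23335 (iv F181590)) (tt N22582 F178561) (tt N21245 (iv D38509)) (tt N21276 F178562))
theorem Q22584 : ∀ i, i < 22584 → P i := stepQ 22583 Q22583 (allL N22583 (tt N21550 F178563) (tt N21296 F178564) (tt N23754 (iv F183628)) (tt N21256 F178565) (tt N21248 F178566) (tt N23755 D39682) (tt N23342 (iv F181636)) (tt N22583 F178567) (tt N21247 (iv D38510)) (tt N23756 D39683))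
theorem Q22585 : ∀ i, i < 22585 → P i := stepQ 22584 Q22584 (allL N22584 (tt N21551 F178568) (tt N21297 F178569) (tt N21276 F178570) (tt N21249 F178571) (tt N23756 (iv F183646)) (tt N21283 F178572) (tt N23343 (iv F181644)) (tt N22584 F178573) (tt N21490 F178574) (tt N21248 (iv D38511)))
theorem Q22586 : ∀ i, i < 22586 → P i := stepQ 22585 Q22585 (allL N22585 (tt N21680 F178575) (tt N21686 F178576) (tt N21461 F178577) (tt N21494 F178578) (tt N21251 F178579) (tt N23757 D39684) (tt N23745 (iv F183587)) (tt N22585 F178580) (tt N21250 (iv D38512)) (tt N21460 (iv F178581)))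
theorem Q22587 : ∀ i, i < 22587 → P i := stepQ 22586 Q22586 (allL N22586 (tt N23301 (iv F181355)) (tt N23233 (iv F180923)) (tt N21253 F178582) (tt N23758 D39685) (tt N21252 (iv D38513)) (tt N21685 F178583) (tt N23746 (iv F183590)) (tt N22586 F178584) (tt N23759 D39686) (tt N21681 F178585))
theorem Q22588 : ∀ i, i < 22588 → P i := stepQ 22587 Q22587 (allL N22587 (tt N21874 F178586) (tt N23239 (iv F180958)) (tt N21254 F178587) (tt N22587 F178588) (tt N23759 (iv F183665)) (tt N22587 F178589) (tt N23624 (iv F183094)) (tt N22587 F178590) (tt N21252 (iv D38514)) (tt N23760 D39687))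
theorem Q22589 : ∀ i, i < 22589 → P i := stepQ 22588 Q22588 (allL N22588 (tt N21871 F178591) (tt N21256 F178592) (tt N23759 (iv F183664)) (tt N21296 F178593) (tt N21254 F178594) (tt N23761 D39688) (tt N23621 (iv F183082)) (tt N22588 F178595) (tt N21253 (iv D38515)) (tt N23762 D39689))
theorem Q22590 : ∀ i, i < 22590 → P i := stepQ 22589 Q22589 (allL N22589 (tt N21875 F178596) (tt N21257 F178597) (tt N23760 (iv F183669)) (tt N21255 F178598) (tt N23762 (iv F183683)) (tt N22589 F178599) (tt N23625 (iv F183099)) (tt N22589 F178600) (tt N21463 F178601) (tt N21254 (iv D38516)))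
theorem Q22591 : ∀ i, i < 22591 → P i := stepQ 22590 Q22590 (allL N22590 (tt N21847 F178602) (tt N23761 (iv F183675)) (tt N23496 (iv F182480)) (tt N23755 (iv F183637)) (tt N22590 F178603) (tt N21256 (iv D38517)) (tt N23763 D39690) (tt N22590 F178604) (tt N23254 (iv F181068)) (tt N23764 D39691))
theorem Q22592 : ∀ i, i < 22592 → P i := stepQ 22591 Q22591 (allL N22591 (tt N21848 F178605) (tt N23762 (iv F183681)) (tt N21274 F178606) (tt N23756 (iv F183645)) (tt N21257 F178607) (tt N23764 (iv F183692)) (tt N23708 (iv F183448)) (tt N22591 F178608) (tt N21460 F178609) (tt N21256 (iv D38518)))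
theorem Q22593 : ∀ i, i < 22593 → P i := stepQ 22592 Q22592 (allL N22592 (tt N21264 F178610) (tt N21453 F178611) (tt N21854 F178612) (tt N23765 D39692) (tt N21258 (iv D38519)) (tt N23224 (iv F180867)) (tt N23520 (iv F182641)) (tt N22592 F178613) (tt N21348 F178614) (tt N21445 F178615))
theorem Q22594 : ∀ i, i < 22594 → P i := stepQ 22593 Q22593 (allL N22593 (tt N21265 F178616) (tt N21341 F178617) (tt N23766 D39693) (tt N21259 (iv D38520)) (tt N23765 (iv F183696)) (tt N22593 F178618) (tt N23521 (iv F182648)) (tt N22593 F178619) (tt N21339 F178620) (tt N21464 F178621))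
theorem Q22595 : ∀ i, i < 22595 → P i := stepQ 22594 Q22594 (allL N22594 (tt N21854 F178622) (tt N21446 F178623) (tt N21264 F178624) (tt N23767 D39694) (tt N21260 (iv D38521)) (tt N21445 F178625) (tt N23573 (iv F182902)) (tt N22594 F178626) (tt N21268 F178627) (tt N23224 (iv F180870)))
theorem Q22596 : ∀ i, i < 22596 → P i := stepQ 22595 Q22595 (allL N22595 (tt N23224 (iv F180864)) (tt N21268 F178628) (tt N21445 F178629) (tt N23768 D39695) (tt N21261 (iv D38522)) (tt N21264 F178630) (tt N23769 D39696) (tt N22595 F178631) (tt N21446 F178632) (tt N21854 F178633))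
theorem Q22597 : ∀ i, i < 22597 → P i := stepQ 22596 Q22596 (allL N22596 (tt N23225 (iv F180871)) (tt N21269 F178634) (tt N21418 F178635) (tt N22596 F178636) (tt N23769 (iv F183721)) (tt N21262 F178637) (tt N21261 (iv D38523)) (tt N23770 D39697) (tt N21447 F178638) (tt N21855 F178639))
theorem Q22598 : ∀ i, i < 22598 → P i := stepQ 22597 Q22597 (allL N22597 (tt N23310 (iv F181420)) (tt N21271 F178640) (tt N21400 F178641) (tt N22597 F178642) (tt N23579 (iv F182920)) (tt N23770 (iv F183727)) (tt N21263 F178643) (tt N21262 (iv D38524)) (tt N21351 F178644) (tt N21561 F178645))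
theorem Q22599 : ∀ i, i < 22599 → P i := stepQ 22598 Q22598 (allL N22598 (tt N23765 (iv F183694)) (tt N21274 F178646) (tt N23771 D39698) (tt N21264 (iv D38525)) (tt N21265 F178647) (tt N23768 (iv F183715)) (tt N23580 (iv F182926)) (tt N22598 F178648) (tt N21371 F178649) (tt N23230 (iv F180909)))
theorem Q22600 : ∀ i, i < 22600 → P i := stepQ 22599 Q22599 (allL N22599 (tt N23766 (iv F183700)) (tt N23760 (iv F183668)) (tt N21265 (iv D38526)) (tt N22599 F178650) (tt N23771 (iv F183731)) (tt N22599 F178651) (tt N23581 (iv F182929)) (tt N22599 F178652) (tt N21373 F178653) (tt N23239 (iv F180963)))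
theorem Q22601 : ∀ i, i < 22601 → P i := stepQ 22600 Q22600 (allL N22600 (tt N21711 F178654) (tt N21454 F178655) (tt N23756 (iv F183644)) (tt N21266 (iv D38527)) (tt N21276 F178656) (tt N21371 F178657) (tt N23696 (iv F183405)) (tt N22600 F178658) (tt N21452 F178659) (tt N23754 (iv F183633)))
theorem Q22602 : ∀ i, i < 22602 → P i := stepQ 22601 Q22601 (allL N22601 (tt N21853 F178660) (tt N21456 F178661) (tt N21275 F178662) (tt N23754 (iv F183629)) (tt N21267 F178663) (tt N21372 F178664) (tt N23697 (iv F183411)) (tt N22601 F178665) (tt N23153 (iv F180452)) (tt N21266 (iv D38528)))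
theorem Q22603 : ∀ i, i < 22603 → P i := stepQ 22602 Q22602 (allL N22602 (tt N21856 F178666) (tt N23768 (iv F183713)) (tt N23764 (iv F183689)) (tt N21268 (iv D38529)) (tt N22602 F178667) (tt N21274 F178668) (tt N23772 D39699) (tt N22602 F178669) (tt N23767 (iv F183712)) (tt N23496 (iv F182485)))
theorem Q22604 : ∀ i, i < 22604 → P i := stepQ 22603 Q22603 (allL N22603 (tt N21857 F178670) (tt N23769 (iv F183719)) (tt N21367 F178671) (tt N23772 (iv F183735)) (tt N21269 F178672) (tt N23702 (iv F183426)) (tt N21268 (iv D38530)) (tt N23773 D39700) (tt N23573 (iv F182903)) (tt N23774 D39701))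
theorem Q22605 : ∀ i, i < 22605 → P i := stepQ 22604 Q22604 (allL N22604 (tt N21858 F178673) (tt N21854 F178674) (tt N21372 F178675) (tt N23496 (iv F182481)) (tt N21270 F178676) (tt N21275 F178677) (tt N23774 (iv F183745)) (tt N22604 F178678) (tt N21849 (iv F178679)) (tt N21268 (iv D38531)))
theorem Q22606 : ∀ i, i < 22606 → P i := stepQ 22605 Q22605 (allL N22605 (tt N21859 F178680) (tt N23770 (iv F183724)) (tt N21358 F178681) (tt N22605 F178682) (tt N23773 (iv F183739)) (tt N21271 F178683) (tt N22605 F178684) (tt N21269 (iv D38532)) (tt N23309 (iv F181419)) (tt N23775 D39702))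
theorem Q22607 : ∀ i, i < 22607 → P i := stepQ 22606 Q22606 (allL N22606 (tt N21860 F178685) (tt N21855 F178686) (tt N21368 F178687) (tt N22606 F178688) (tt N23774 (iv F183744)) (tt N21272 F178689) (tt N21270 F178690) (tt N23775 (iv F183753)) (tt N21850 (iv F178691)) (tt N21269 (iv D38533)))
theorem Q22608 : ∀ i, i < 22608 → P i := stepQ 22607 Q22607 (allL N22607 (tt N21861 F178692) (tt N21561 F178693) (tt N21359 F178694) (tt N22607 F178695) (tt N23707 (iv F183442)) (tt N23775 (iv F183751)) (tt N21273 F178696) (tt N21272 F178697) (tt N21555 F178698) (tt N21271 (iv D38534)))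
theorem Q22609 : ∀ i, i < 22609 → P i := stepQ 22608 Q22608 (allL N22608 (tt N21547 F178699) (tt N21291 F178700) (tt N21374 F178701) (tt N22608 F178702) (tt N23755 (iv F183638)) (tt N21280 (iv D38535)) (tt N23776 D39703) (tt N22608 F178703) (tt N21678 F178704) (tt N21373 F178705))
theorem Q22610 : ∀ i, i < 22610 → P i := stepQ 22609 Q22609 (allL N22609 (tt N21548 F178706) (tt N21293 F178707) (tt N23742 (iv F183565)) (tt N22609 F178708) (tt N23339 (iv F181615)) (tt N23776 (iv F183759)) (tt N21281 (iv D38536)) (tt N23748 (iv F183601)) (tt N21285 F178709) (tt N23740 (iv F183556)))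
theorem Q22611 : ∀ i, i < 22611 → P i := stepQ 22610 Q22610 (allL N22610 (tt N21496 F178710) (tt N21534 F178711) (tt N21285 F178712) (tt N21332 F178713) (tt N23545 (iv F182769)) (tt N23326 (iv F181525)) (tt N21284 (iv D38537)) (tt N21331 F178714) (tt N23742 (iv F183570)) (tt N21330 F178715))
theorem Q22612 : ∀ i, i < 22612 → P i := stepQ 22611 Q22611 (allL N22611 (tt N21736 F178716) (tt N21301 F178717) (tt N21331 F178718) (tt N22611 F178719) (tt N23551 (iv F182792)) (tt N21302 F178720) (tt N21287 F178721) (tt N21285 (iv D38538)) (tt N23748 (iv F183602)) (tt N21300 (iv F178722)))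
theorem Q22613 : ∀ i, i < 22613 → P i := stepQ 22612 Q22612 (allL N22612 (tt N21377 F178723) (tt N21302 F178724) (tt N21330 F178725) (tt N22612 F178726) (tt N23552 (iv F182798)) (tt N21301 F178727) (tt N21286 F178728) (tt N21300 F178729) (tt N21683 (iv F178730)) (tt N21285 (iv D38539)))
theorem Q22614 : ∀ i, i < 22614 → P i := stepQ 22613 Q22613 (allL N22613 (tt N21678 F178731) (tt N21289 F178732) (tt N21469 F178733) (tt N22613 F178734) (tt N23757 (iv F183654)) (tt N21288 (iv D38540)) (tt N23606 (iv F183032)) (tt N22613 F178735) (tt N21547 F178736) (tt N21467 F178737))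
theorem Q22615 : ∀ i, i < 22615 → P i := stepQ 22614 Q22614 (allL N22614 (tt N21862 F178738) (tt N23757 (iv F183651)) (tt N21296 F178739) (tt N23777 D39704) (tt N21289 (iv D38541)) (tt N21686 F178740) (tt N23612 (iv F183054)) (tt N22614 F178741) (tt N21671 F178742) (tt N23778 D39705))
theorem Q22616 : ∀ i, i < 22616 → P i := stepQ 22615 Q22615 (allL N22615 (tt N21863 F178743) (tt N21467 F178744) (tt N21297 F178745) (tt N22615 F178746) (tt N23778 (iv F183771)) (tt N21290 F178747) (tt N23613 (iv F183061)) (tt N22615 F178748) (tt N23779 D39706) (tt N21289 (iv D38542)))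
theorem Q22617 : ∀ i, i < 22617 → P i := stepQ 22616 Q22616 (allL N22616 (tt N21864 F178749) (tt N23755 (iv F183635)) (tt N21686 F178750) (tt N23761 (iv F183676)) (tt N21291 (iv D38543)) (tt N21296 F178751) (tt N23780 D39707) (tt N22616 F178752) (tt N21681 F178753) (tt N23781 D39708))
theorem Q22618 : ∀ i, i < 22618 → P i := stepQ 22617 Q22617 (allL N22617 (tt N21865 F178754) (tt N23776 (iv F183756)) (tt N21687 F178755) (tt N22617 F178756) (tt N23780 (iv F183783)) (tt N21293 F178757) (tt N21291 (iv D38544)) (tt N23782 D39709) (tt N21682 F178758) (tt N23783 D39710))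
theorem Q22619 : ∀ i, i < 22619 → P i := stepQ 22618 Q22618 (allL N22618 (tt N21866 F178759) (tt N21373 F178760) (tt N21463 F178761) (tt N22618 F178762) (tt N23781 (iv F183788)) (tt N21292 F178763) (tt N23783 (iv F183802)) (tt N22618 F178764) (tt N23760 (iv F183673)) (tt N21291 (iv D38545)))
theorem Q22620 : ∀ i, i < 22620 → P i := stepQ 22619 Q22619 (allL N22619 (tt N21867 F178765) (tt N23748 (iv F183597)) (tt N23347 (iv F181670)) (tt N22619 F178766) (tt N23619 (iv F183073)) (tt N23782 (iv F183794)) (tt N21295 F178767) (tt N21293 (iv D38546)) (tt N21301 F178768) (tt N23491 (iv F182454)))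
theorem Q22621 : ∀ i, i < 22621 → P i := stepQ 22620 Q22620 (allL N22620 (tt N21868 F178769) (tt N23740 (iv F183551)) (tt N23435 (iv F182161)) (tt N22620 F178770) (tt N23620 (iv F183077)) (tt N23783 (iv F183801)) (tt N21294 F178771) (tt N23491 (iv F182453)) (tt N23486 (iv F182420)) (tt N21293 (iv D38547)))
theorem Q22622 : ∀ i, i < 22622 → P i := stepQ 22621 Q22621 (allL N22621 (tt N21872 F178772) (tt N23756 (iv F183643)) (tt N23778 (iv F183770)) (tt N23762 (iv F183682)) (tt N21297 F178773) (tt N23781 (iv F183789)) (tt N23622 (iv F183086)) (tt N22621 F178774) (tt N23784 D39711) (tt N21296 (iv D38548)))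
theorem Q22623 : ∀ i, i < 22623 → P i := stepQ 22622 Q22622 (allL N22622 (tt N21873 F178775) (tt N21490 F178776) (tt N23779 (iv F183776)) (tt N21298 F178777) (tt N23784 (iv F183806)) (tt N22622 F178778) (tt N23623 (iv F183090)) (tt N22622 F178779) (tt N21297 (iv D38549)) (tt N21493 F178780))
theorem Q22624 : ∀ i, i < 22624 → P i := stepQ 22623 Q22623 (allL N22623 (tt N21743 F178781) (tt N23376 (iv F181831)) (tt N21421 F178782) (tt N21299 (iv D38550)) (tt N22623 F178783) (tt N21304 F178784) (tt N23785 D39712) (tt N21305 F178785) (tt N21652 F178786) (tt N23274 (iv F181207)))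
theorem Q22625 : ∀ i, i < 22625 → P i := stepQ 22624 Q22624 (allL N22624 (tt N21744 F178787) (tt N23602 (iv F183009)) (tt N21327 F178788) (tt N23785 (iv F183811)) (tt N21300 F178789) (tt N23662 (iv F183262)) (tt N21299 (iv D38551)) (tt N23552 (iv F182800)) (tt N21657 F178790) (tt N23551 F182794))
theorem Q22626 : ∀ i, i < 22626 → P i := stepQ 22625 Q22625 (allL N22625 (tt N21876 F178791) (tt N21683 F178792) (tt N23401 (iv F181980)) (tt N22625 F178793) (tt N23666 (iv F183273)) (tt N23786 D39713) (tt N21303 F178794) (tt N21679 F178795) (tt N21302 (iv D38552)) (tt N23486 (iv F182421)))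
theorem Q22627 : ∀ i, i < 22627 → P i := stepQ 22626 Q22626 (allL N22626 (tt N23537 (iv F182730)) (tt N21309 F178796) (tt N21778 F178797) (tt N21307 F178798) (tt N22626 F178799) (tt N21535 F178800) (tt N23787 D39714) (tt N21306 (iv D38553)) (tt N23405 (iv F182004)) (tt N21771 F178801))
theorem Q22628 : ∀ i, i < 22628 → P i := stepQ 22627 Q22627 (allL N22627 (tt N23539 (iv F182742)) (tt N21310 F178802) (tt N21321 F178803) (tt N23787 (iv F183821)) (tt N21308 F178804) (tt N23788 D39715) (tt N21307 (iv D38554)) (tt N23504 (iv F182538)) (tt N23534 (iv F182715)) (tt N23553 (iv F182808)))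
theorem Q22629 : ∀ i, i < 22629 → P i := stepQ 22628 Q22628 (allL N22628 (tt N23530 (iv F182685)) (tt N23787 (iv F183819)) (tt N21362 F178805) (tt N21310 F178806) (tt N22628 F178807) (tt N23789 D39716) (tt N21309 (iv D38555)) (tt N23505 (iv F182545)) (tt N23413 (iv F182048)) (tt N23554 (iv F182816)))
theorem Q22630 : ∀ i, i < 22630 → P i := stepQ 22629 Q22629 (allL N22629 (tt N23531 (iv F182692)) (tt N23788 (iv F183824)) (tt N21313 F178808) (tt N23789 (iv F183828)) (tt N23499 (iv F182503)) (tt N21310 (iv D38556)) (tt N21540 F178809) (tt N23506 (iv F182551)) (tt N23790 D39717) (tt N23555 (iv F182822)))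
theorem Q22631 : ∀ i, i < 22631 → P i := stepQ 22630 Q22630 (allL N22630 (tt N23497 (iv F182486)) (tt N23534 (iv F182711)) (tt N21314 F178810) (tt N23413 (iv F182046)) (tt N21312 F178811) (tt N23791 D39718) (tt N21311 F178812) (tt N23507 (iv F182558)) (tt N21310 (iv D38557)) (tt N23720 (iv F183490)))
theorem Q22632 : ∀ i, i < 22632 → P i := stepQ 22631 Q22631 (allL N22631 (tt N23532 (iv F182698)) (tt N21324 F178813) (tt N23790 (iv F183830)) (tt N21364 F178814) (tt N23501 (iv F182517)) (tt N23792 D39719) (tt N21543 F178815) (tt N23508 (iv F182565)) (tt N21313 (iv D38558)) (tt N23793 D39720))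
theorem Q22633 : ∀ i, i < 22633 → P i := stepQ 22632 Q22632 (allL N22632 (tt N23533 (iv F182704)) (tt N21325 F178816) (tt N23791 (iv F183832)) (tt N21365 F178817) (tt N23649 (iv F183206)) (tt N21314 (iv D38559)) (tt N23690 (iv F183372)) (tt N23509 (iv F182570)) (tt N23792 (iv F183835)) (tt N23794 D39721))
theorem Q22634 : ∀ i, i < 22634 → P i := stepQ 22633 Q22633 (allL N22633 (tt N23380 (iv F181854)) (tt N21326 F178818) (tt N23720 (iv F183486)) (tt N21366 F178819) (tt N21316 F178820) (tt N23794 (iv F183841)) (tt N21315 F178821) (tt N23510 (iv F182577)) (tt N23558 (iv F182841)) (tt N21314 (iv D38560)))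
theorem Q22635 : ∀ i, i < 22635 → P i := stepQ 22634 Q22634 (allL N22634 (tt N21720 F178822) (tt N23508 (iv F182561)) (tt N23683 (iv F183340)) (tt N21407 F178823) (tt N21714 F178824) (tt N23728 (iv F183514)) (tt N23517 (iv F182624)) (tt N21324 F178825) (tt N21317 (iv D38561)) (tt N23795 D39722))
theorem Q22636 : ∀ i, i < 22636 → P i := stepQ 22635 Q22635 (allL N22635 (tt N21716 F178826) (tt N23501 (iv F182515)) (tt N23627 (iv F183107)) (tt N23388 (iv F181910)) (tt N21324 F178827) (tt N23626 (iv F183104)) (tt N21608 F178828) (tt N21714 F178829) (tt N21318 (iv D38562)) (tt N23796 D39723))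
theorem Q22637 : ∀ i, i < 22637 → P i := stepQ 22636 Q22636 (allL N22636 (tt N23340 (iv F181617)) (tt N21414 F178830) (tt N21320 F178831) (tt N21778 F178832) (tt N21333 F178833) (tt N21515 F178834) (tt N23797 D39724) (tt N21319 (iv D38563)) (tt N23460 (iv F182288)) (tt N21514 F178835))
theorem Q22638 : ∀ i, i < 22638 → P i := stepQ 22637 Q22637 (allL N22637 (tt N23647 (iv F183196)) (tt N21322 F178836) (tt N23797 (iv F183851)) (tt N21321 F178837) (tt N21334 F178838) (tt N23798 D39725) (tt N21320 (iv D38564)) (tt N23473 (iv F182336)) (tt N23472 F182330) (tt N23667 (iv F183281)))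
theorem Q22639 : ∀ i, i < 22639 → P i := stepQ 22638 Q22638 (allL N22638 (tt N23649 (iv F183204)) (tt N21323 F178839) (tt N23788 (iv F183825)) (tt N23798 (iv F183856)) (tt N23533 (iv F182707)) (tt N21321 (iv D38565)) (tt N21645 F178840) (tt N23566 (iv F182878)) (tt N23799 D39726) (tt N23668 (iv F183284)))
theorem Q22640 : ∀ i, i < 22640 → P i := stepQ 22639 Q22639 (allL N22639 (tt N23132 (iv F180296)) (tt N23798 (iv F183855)) (tt N21419 F178841) (tt N21323 F178842) (tt N23800 D39727) (tt N21322 (iv D38566)) (tt N21650 F178843) (tt N23686 (iv F183354)) (tt N23801 D39728) (tt N23669 (iv F183289)))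
theorem Q22641 : ∀ i, i < 22641 → P i := stepQ 22640 Q22640 (allL N22640 (tt N23133 (iv F180303)) (tt N23799 (iv F183858)) (tt N21324 F178844) (tt N23801 (iv F183864)) (tt N23627 F183110) (tt N23658 (iv F183247)) (tt N21654 F178845) (tt N23683 (iv F183342)) (tt N21323 (iv D38567)) (tt N23802 D39729))
theorem Q22642 : ∀ i, i < 22642 → P i := stepQ 22641 Q22641 (allL N22641 (tt N23134 (iv F180310)) (tt N23792 (iv F183833)) (tt N23658 (iv F183246)) (tt N21432 F178846) (tt N23655 (iv F183234)) (tt N21324 (iv D38568)) (tt N23803 D39730) (tt N23728 (iv F183515)) (tt N21325 F178847) (tt N23804 D39731))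
theorem Q22643 : ∀ i, i < 22643 → P i := stepQ 22642 Q22642 (allL N22642 (tt N23135 (iv F180317)) (tt N23793 (iv F183836)) (tt N23802 (iv F183866)) (tt N21433 F178848) (tt N23796 (iv F183847)) (tt N23804 (iv F183872)) (tt N21662 F178849) (tt N23795 (iv F183845)) (tt N23674 (iv F183307)) (tt N21324 (iv D38569)))
theorem Q22644 : ∀ i, i < 22644 → P i := stepQ 22643 Q22643 (allL N22643 (tt N23136 (iv F180324)) (tt N23690 (iv F183369)) (tt N23662 (iv F183260)) (tt N21435 F178850) (tt N23433 (iv F182152)) (tt N21327 F178851) (tt N21325 (iv D38570)) (tt N23805 D39732) (tt N23803 (iv F183870)) (tt N23806 D39733))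
theorem Q22645 : ∀ i, i < 22645 → P i := stepQ 22644 Q22644 (allL N22644 (tt N23137 (iv F180330)) (tt N23794 (iv F183839)) (tt N23600 (iv F183000)) (tt N21436 F178852) (tt N23657 (iv F183242)) (tt N21326 F178853) (tt N23806 (iv F183877)) (tt N23595 F182980) (tt N23807 D39734) (tt N21325 (iv D38571)))
theorem Q22646 : ∀ i, i < 22646 → P i := stepQ 22645 Q22645 (allL N22645 (tt N23138 (iv F180337)) (tt N23630 (iv F183122)) (tt N23552 (iv F182797)) (tt N21437 F178854) (tt N21330 F178855) (tt N23805 (iv F183874)) (tt N21329 F178856) (tt N21327 (iv D38572)) (tt N21666 F178857) (tt N23545 (iv F182771)))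
theorem Q22647 : ∀ i, i < 22647 → P i := stepQ 22646 Q22646 (allL N22646 (tt N23139 (iv F180345)) (tt N23691 (iv F183374)) (tt N23551 (iv F182791)) (tt N21438 F178858) (tt N21331 F178859) (tt N23806 (iv F183876)) (tt N21328 F178860) (tt N23545 (iv F182770)) (tt N23714 (iv F183470)) (tt N21327 (iv D38573)))
theorem Q22648 : ∀ i, i < 22648 → P i := stepQ 22647 Q22647 (allL N22647 (tt N23740 (iv F183550)) (tt N21479 F178861) (tt N21334 F178862) (tt N22647 F178863) (tt N23797 (iv F183853)) (tt N23808 D39735) (tt N21333 (iv D38574)) (tt N23481 (iv F182389)) (tt N23480 (iv F182383)) (tt N21548 F178864))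
theorem Q22649 : ∀ i, i < 22649 → P i := stepQ 22648 Q22648 (allL N22648 (tt N21369 F178865) (tt N21336 F178866) (tt N23808 (iv F183881)) (tt N21335 F178867) (tt N23809 D39736) (tt N21334 (iv D38575)) (tt N21339 F178868) (tt N23483 (iv F182398)) (tt N23521 (iv F182650)) (tt N23743 (iv F183577)))
theorem Q22650 : ∀ i, i < 22650 → P i := stepQ 22649 Q22649 (allL N22649 (tt N23143 (iv F180375)) (tt N23809 (iv F183886)) (tt N21482 F178869) (tt N23151 (iv F180433)) (tt N21336 (iv D38576)) (tt N23800 (iv F183861)) (tt N21340 F178870) (tt N23678 (iv F183319)) (tt N23810 D39737) (tt N23744 (iv F183581)))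
theorem Q22651 : ∀ i, i < 22651 → P i := stepQ 22650 Q22650 (allL N22650 (tt N21730 F178871) (tt N23521 (iv F182646)) (tt N21483 F178872) (tt N21337 F178873) (tt N23810 (iv F183892)) (tt N23324 (iv F181508)) (tt N21341 F178874) (tt N23385 (iv F181892)) (tt N21336 (iv D38577)) (tt N21488 (iv F178875)))
theorem Q22652 : ∀ i, i < 22652 → P i := stepQ 22651 Q22651 (allL N22651 (tt N21373 F178876) (tt N21491 F178877) (tt N21339 F178878) (tt N22651 F178879) (tt N23811 D39738) (tt N21338 (iv D38578)) (tt N23808 (iv F183883)) (tt N22651 F178880) (tt N23766 (iv F183705)) (tt N21547 F178881))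
theorem Q22653 : ∀ i, i < 22653 → P i := stepQ 22652 Q22652 (allL N22652 (tt N21371 F178882) (tt N21340 F178883) (tt N23811 (iv F183897)) (tt N21348 F178884) (tt N21339 (iv D38579)) (tt N21711 F178885) (tt N23809 (iv F183888)) (tt N22652 F178886) (tt N23765 (iv F183698)) (tt N23753 (iv F183625)))
theorem Q22654 : ∀ i, i < 22654 → P i := stepQ 22653 Q22653 (allL N22653 (tt N21852 F178887) (tt N23765 (iv F183695)) (tt N21494 F178888) (tt N21453 F178889) (tt N21341 F178890) (tt N23812 D39739) (tt N23810 (iv F183893)) (tt N22653 F178891) (tt N21340 (iv D38580)) (tt N21452 (iv F178892)))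
theorem Q22655 : ∀ i, i < 22655 → P i := stepQ 22654 Q22654 (allL N22654 (tt N21364 F178893) (tt N23148 (iv F180412)) (tt N23684 (iv F183345)) (tt N23532 (iv F182700)) (tt N23517 (iv F182623)) (tt N23813 D39740) (tt N21714 F178894) (tt N23556 (iv F182828)) (tt N21342 (iv D38581)) (tt N23814 D39741))
theorem Q22656 : ∀ i, i < 22656 → P i := stepQ 22655 Q22655 (allL N22655 (tt N21365 F178895) (tt N23149 (iv F180418)) (tt N21816 F178896) (tt N23533 (iv F182706)) (tt N23815 D39742) (tt N21343 (iv D38582)) (tt N21809 F178897) (tt N23557 (iv F182833)) (tt N23813 (iv F183912)) (tt N23816 D39743))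
theorem Q22657 : ∀ i, i < 22657 → P i := stepQ 22656 Q22656 (allL N22656 (tt N21366 F178898) (tt N23150 (iv F180423)) (tt N21819 F178899) (tt N23380 (iv F181857)) (tt N21346 F178900) (tt N23816 (iv F183921)) (tt N21344 F178901) (tt N23558 (iv F182840)) (tt N23510 (iv F182578)) (tt N21343 (iv D38583)))
theorem Q22658 : ∀ i, i < 22658 → P i := stepQ 22657 Q22657 (allL N22657 (tt N21367 F178902) (tt N23151 (iv F180431)) (tt N21857 F178903) (tt N23809 (iv F183887)) (tt N21345 (iv D38584)) (tt N23815 (iv F183917)) (tt N21348 F178904) (tt N23560 (iv F182853)) (tt N23520 (iv F182643)) (tt N23817 D39744))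
theorem Q22659 : ∀ i, i < 22659 → P i := stepQ 22658 Q22658 (allL N22658 (tt N21368 F178905) (tt N23152 (iv F180438)) (tt N21860 F178906) (tt N21347 F178907) (tt N23817 (iv F183925)) (tt N21346 F178908) (tt N21349 F178909) (tt N23561 (iv F182861)) (tt N21458 F178910) (tt N21345 (iv D38585)))
theorem Q22660 : ∀ i, i < 22660 → P i := stepQ 22659 Q22659 (allL N22659 (tt N21372 F178911) (tt N23153 (iv F180446)) (tt N21858 F178912) (tt N23753 (iv F183621)) (tt N21349 F178913) (tt N21853 F178914) (tt N23817 (iv F183926)) (tt N22659 F178915) (tt N21456 F178916) (tt N21348 (iv D38586)))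
theorem Q22661 : ∀ i, i < 22661 → P i := stepQ 22660 Q22660 (allL N22660 (tt N23544 (iv F182759)) (tt N21353 F178917) (tt N21397 F178918) (tt N23197 (iv F180723)) (tt N21351 F178919) (tt N23818 D39745) (tt N21350 (iv D38587)) (tt N21361 F178920) (tt N23579 (iv F182922)) (tt N23500 F182513))
theorem Q22662 : ∀ i, i < 22662 → P i := stepQ 22661 Q22661 (allL N22661 (tt N23554 (iv F182809)) (tt N23197 (iv F180722)) (tt N23505 (iv F182542)) (tt N21353 F178921) (tt N22661 F178922) (tt N23819 D39746) (tt N21352 (iv D38588)) (tt N21362 F178923) (tt N23423 (iv F182095)) (tt N23530 (iv F182691)))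
theorem Q22663 : ∀ i, i < 22663 → P i := stepQ 22662 Q22662 (allL N22662 (tt N23555 (iv F182817)) (tt N23818 (iv F183928)) (tt N21354 F178924) (tt N23819 (iv F183932)) (tt N23305 (iv F181387)) (tt N21353 (iv D38589)) (tt N23319 (iv F181479)) (tt N21363 F178925) (tt N23820 D39747) (tt N23531 (iv F182697)))
theorem Q22664 : ∀ i, i < 22664 → P i := stepQ 22663 Q22663 (allL N22663 (tt N23556 (iv F182823)) (tt N21407 F178926) (tt N23820 (iv F183934)) (tt N23508 (iv F182562)) (tt N23311 (iv F181430)) (tt N23821 D39748) (tt N23320 (iv F181486)) (tt N21364 F178927) (tt N21354 (iv D38590)) (tt N23822 D39749))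
theorem Q22665 : ∀ i, i < 22665 → P i := stepQ 22664 Q22664 (allL N22664 (tt N23557 (iv F182829)) (tt N21408 F178928) (tt N23704 (iv F183431)) (tt N23509 (iv F182568)) (tt N23823 D39750) (tt N21355 (iv D38591)) (tt N23824 D39751) (tt N21365 F178929) (tt N23821 (iv F183938)) (tt N23825 D39752))
theorem Q22666 : ∀ i, i < 22666 → P i := stepQ 22665 Q22665 (allL N22665 (tt N23558 (iv F182834)) (tt N21409 F178930) (tt N23707 (iv F183441)) (tt N23510 (iv F182574)) (tt N21359 F178931) (tt N23825 (iv F183947)) (tt N21357 F178932) (tt N21366 F178933) (tt N23380 (iv F181860)) (tt N21355 (iv D38592)))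
theorem Q22667 : ∀ i, i < 22667 → P i := stepQ 22666 Q22666 (allL N22666 (tt N23559 (iv F182842)) (tt N21410 F178934) (tt N23641 (iv F183173)) (tt N23511 (iv F182582)) (tt N22666 F178935) (tt N23824 (iv F183945)) (tt N21356 (iv D38593)) (tt N23634 (iv F183150)) (tt N23322 (iv F181497)) (tt N23587 (iv F182961)))
theorem Q22668 : ∀ i, i < 22668 → P i := stepQ 22667 Q22667 (allL N22667 (tt N23560 (iv F182849)) (tt N21412 F178936) (tt N23773 (iv F183738)) (tt N23749 (iv F183604)) (tt N21358 (iv D38594)) (tt N23823 (iv F183942)) (tt N22667 F178937) (tt N21367 F178938) (tt N23317 (iv F181469)) (tt N23826 D39753))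
theorem Q22669 : ∀ i, i < 22669 → P i := stepQ 22668 Q22668 (allL N22668 (tt N23561 (iv F182855)) (tt N21413 F178939) (tt N23775 (iv F183749)) (tt N21360 F178940) (tt N23826 (iv F183950)) (tt N21359 F178941) (tt N22668 F178942) (tt N21368 F178943) (tt N23238 (iv F180956)) (tt N21358 (iv D38595)))
theorem Q22670 : ∀ i, i < 22670 → P i := stepQ 22669 Q22669 (allL N22669 (tt N23596 (iv F182982)) (tt N21363 F178944) (tt N21416 F178945) (tt N23195 (iv F180713)) (tt N21834 F178946) (tt N21361 (iv D38596)) (tt N21721 F178947) (tt N23818 (iv F183931)) (tt N23827 D39754) (tt N23526 (iv F182669)))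
theorem Q22671 : ∀ i, i < 22671 → P i := stepQ 22670 Q22670 (allL N22670 (tt N23676 (iv F183310)) (tt N23195 (iv F180712)) (tt N23789 (iv F183827)) (tt N21363 F178948) (tt N23828 D39755) (tt N21362 (iv D38597)) (tt N21731 F178949) (tt N23819 (iv F183933)) (tt N23829 D39756) (tt N23562 (iv F182865)))
theorem Q22672 : ∀ i, i < 22672 → P i := stepQ 22671 Q22671 (allL N22671 (tt N23684 (iv F183344)) (tt N23827 (iv F183953)) (tt N21364 F178950) (tt N23829 (iv F183959)) (tt N23571 (iv F182894)) (tt N23699 (iv F183417)) (tt N21732 F178951) (tt N23820 (iv F183935)) (tt N21363 (iv D38598)) (tt N23830 D39757))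
theorem Q22673 : ∀ i, i < 22673 → P i := stepQ 22672 Q22672 (allL N22672 (tt N23813 (iv F183909)) (tt N21432 F178952) (tt N23699 (iv F183416)) (tt N23792 (iv F183834)) (tt N23831 D39758) (tt N21364 (iv D38599)) (tt N23692 (iv F183384)) (tt N23821 (iv F183937)) (tt N21365 F178953) (tt N23832 D39759))
theorem Q22674 : ∀ i, i < 22674 → P i := stepQ 22673 Q22673 (allL N22673 (tt N23814 (iv F183913)) (tt N21433 F178954) (tt N23830 (iv F183961)) (tt N23793 (iv F183837)) (tt N23575 (iv F182907)) (tt N23832 (iv F183966)) (tt N21734 F178955) (tt N23822 (iv F183940)) (tt N23565 (iv F182874)) (tt N21364 (iv D38600)))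
theorem Q22675 : ∀ i, i < 22675 → P i := stepQ 22674 Q22674 (allL N22674 (tt N23815 (iv F183915)) (tt N21434 F178956) (tt N23702 (iv F183424)) (tt N23833 D39760) (tt N21365 (iv D38601)) (tt N21367 F178957) (tt N23694 (iv F183396)) (tt N23823 (iv F183943)) (tt N23831 (iv F183964)) (tt N23834 D39761))
theorem Q22676 : ∀ i, i < 22676 → P i := stepQ 22675 Q22675 (allL N22675 (tt N23816 (iv F183919)) (tt N21436 F178958) (tt N23705 (iv F183434)) (tt N23794 (iv F183840)) (tt N23834 (iv F183970)) (tt N21366 F178959) (tt N23695 (iv F183401)) (tt N23825 (iv F183948)) (tt N23835 D39762) (tt N21365 (iv D38602)))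
theorem Q22677 : ∀ i, i < 22677 → P i := stepQ 22676 Q22676 (allL N22676 (tt N23809 (iv F183885)) (tt N21440 F178960) (tt N23836 D39763) (tt N21367 (iv D38603)) (tt N21369 F178961) (tt N23833 (iv F183968)) (tt N21371 F178962) (tt N23749 (iv F183606)) (tt N23580 (iv F182927)) (tt N23837 D39764))
theorem Q22678 : ∀ i, i < 22678 → P i := stepQ 22677 Q22677 (allL N22677 (tt N23817 (iv F183923)) (tt N21441 F178963) (tt N23774 (iv F183743)) (tt N23837 (iv F183976)) (tt N21368 F178964) (tt N23834 (iv F183971)) (tt N21372 F178965) (tt N23826 (iv F183952)) (tt N23237 (iv F180948)) (tt N21367 (iv D38604)))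
theorem Q22679 : ∀ i, i < 22679 → P i := stepQ 22678 Q22678 (allL N22678 (tt N23808 (iv F183879)) (tt N23783 (iv F183798)) (tt N21369 (iv D38605)) (tt N22678 F178966) (tt N23836 (iv F183973)) (tt N23740 F183557) (tt N21373 F178967) (tt N23747 (iv F183595)) (tt N23581 (iv F182930)) (tt N23776 (iv F183761)))
theorem Q22680 : ∀ i, i < 22680 → P i := stepQ 22679 Q22679 (allL N22679 (tt N23743 (iv F183571)) (tt N21444 F178968) (tt N23776 (iv F183757)) (tt N21370 F178969) (tt N23837 (iv F183977)) (tt N23742 (iv F183567)) (tt N21374 F178970) (tt N23750 (iv F183611)) (tt N23244 (iv F180994)) (tt N21369 (iv D38606)))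
theorem Q22681 : ∀ i, i < 22681 → P i := stepQ 22680 Q22680 (allL N22680 (tt N23811 (iv F183895)) (tt N23781 (iv F183786)) (tt N21371 (iv D38607)) (tt N23764 (iv F183690)) (tt N21373 F178971) (tt N23756 (iv F183647)) (tt N23836 (iv F183974)) (tt N22680 F178972) (tt N23771 (iv F183733)) (tt N23755 F183641))
theorem Q22682 : ∀ i, i < 22682 → P i := stepQ 22681 Q22681 (allL N22681 (tt N23753 (iv F183618)) (tt N21461 F178973) (tt N23755 (iv F183636)) (tt N21372 F178974) (tt N21374 F178975) (tt N23754 (iv F183631)) (tt N23837 (iv F183978)) (tt N22681 F178976) (tt N23235 (iv F180939)) (tt N21371 (iv D38608)))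
theorem Q22683 : ∀ i, i < 22683 → P i := stepQ 22682 Q22682 (allL N22682 (tt N23273 (iv F181192)) (tt N21378 F178977) (tt N23205 (iv F180774)) (tt N21376 F178978) (tt N22682 F178979) (tt N21396 F178980) (tt N23838 D39765) (tt N21375 (iv D38609)) (tt N23451 (iv F182245)) (tt N21741 F178981))
theorem Q22684 : ∀ i, i < 22684 → P i := stepQ 22683 Q22683 (allL N22683 (tt N23552 (iv F182795)) (tt N21380 F178982) (tt N23138 (iv F180339)) (tt N23838 (iv F183980)) (tt N21377 F178983) (tt N23839 D39766) (tt N21376 (iv D38610)) (tt N21744 F178984) (tt N23457 (iv F182267)) (tt N23255 (iv F181076)))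
theorem Q22685 : ∀ i, i < 22685 → P i := stepQ 22684 Q22684 (allL N22684 (tt N23167 (iv F180528)) (tt N23838 (iv F183979)) (tt N23514 (iv F182602)) (tt N21380 F178985) (tt N22684 F178986) (tt N23840 D39767) (tt N21378 (iv D38611)) (tt N21745 F178987) (tt N23841 D39768) (tt N23256 (iv F181084)))
theorem Q22686 : ∀ i, i < 22686 → P i := stepQ 22685 Q22685 (allL N22685 (tt N23168 (iv F180535)) (tt N23451 (iv F182240)) (tt N23179 (iv F180610)) (tt N21381 F178988) (tt N22685 F178989) (tt N23172 (iv F180569)) (tt N23841 (iv F183993)) (tt N21379 F178990) (tt N21378 (iv D38612)) (tt N23171 F180563))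
theorem Q22687 : ∀ i, i < 22687 → P i := stepQ 22686 Q22686 (allL N22686 (tt N23169 (iv F180543)) (tt N23839 (iv F183984)) (tt N21386 F178991) (tt N23840 (iv F183988)) (tt N23263 (iv F181130)) (tt N21380 (iv D38613)) (tt N21402 F178992) (tt N21748 F178993) (tt N23842 D39769) (tt N23257 (iv F181090)))
theorem Q22688 : ∀ i, i < 22688 → P i := stepQ 22687 Q22687 (allL N22687 (tt N23170 (iv F180550)) (tt N23457 (iv F182263)) (tt N21387 F178994) (tt N23841 (iv F183991)) (tt N21384 F178995) (tt N23843 D39770) (tt N21381 F178996) (tt N21749 F178997) (tt N21380 (iv D38614)) (tt N23844 D39771))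
theorem Q22689 : ∀ i, i < 22689 → P i := stepQ 22688 Q22688 (allL N22688 (tt N23171 (iv F180556)) (tt N23365 (iv F181779)) (tt N21388 F178998) (tt N23172 (iv F180567)) (tt N22688 F178999) (tt N21381 (iv D38615)) (tt N23845 D39772) (tt N21382 F179000) (tt N21404 F179001) (tt N23168 (iv F180542)))
theorem Q22690 : ∀ i, i < 22690 → P i := stepQ 22689 Q22689 (allL N22689 (tt N23172 (iv F180564)) (tt N23460 (iv F182282)) (tt N21389 F179002) (tt N23171 (iv F180559)) (tt N21385 F179003) (tt N23168 (iv F180540)) (tt N23844 (iv F184002)) (tt N21383 F179004) (tt N21414 F179005) (tt N21381 (iv D38616)))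
theorem Q22691 : ∀ i, i < 22691 → P i := stepQ 22690 Q22690 (allL N22690 (tt N23173 (iv F180572)) (tt N23479 (iv F182371)) (tt N21391 F179006) (tt N22690 F179007) (tt N23846 D39773) (tt N21384 (iv D38617)) (tt N22690 F179008) (tt N21751 F179009) (tt N23267 (iv F181162)) (tt N23847 D39774))
theorem Q22692 : ∀ i, i < 22692 → P i := stepQ 22691 Q22691 (allL N22691 (tt N23174 (iv F180579)) (tt N23480 (iv F182378)) (tt N21392 F179010) (tt N22691 F179011) (tt N23844 (iv F184001)) (tt N23847 (iv F184013)) (tt N21385 F179012) (tt N21752 F179013) (tt N21479 F179014) (tt N21384 (iv D38618)))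
theorem Q22693 : ∀ i, i < 22693 → P i := stepQ 22692 Q22692 (allL N22692 (tt N23175 (iv F180586)) (tt N23320 (iv F181483)) (tt N23842 (iv F183995)) (tt N23517 (iv F182622)) (tt N23269 (iv F181173)) (tt N23848 D39775) (tt N21407 F179015) (tt N21753 F179016) (tt N21386 (iv D38619)) (tt N23849 D39776))
theorem Q22694 : ∀ i, i < 22694 → P i := stepQ 22693 Q22693 (allL N22693 (tt N23176 (iv F180592)) (tt N23321 (iv F181489)) (tt N23843 (iv F183998)) (tt N23518 (iv F182628)) (tt N23850 D39777) (tt N21387 (iv D38620)) (tt N23851 D39778) (tt N21754 F179017) (tt N23848 (iv F184017)) (tt N23852 D39779))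
theorem Q22695 : ∀ i, i < 22695 → P i := stepQ 22694 Q22694 (allL N22694 (tt N23177 (iv F180596)) (tt N21420 F179018) (tt N23844 (iv F184000)) (tt N21417 F179019) (tt N21392 F179020) (tt N23852 (iv F184025)) (tt N21389 F179021) (tt N21755 F179022) (tt N21415 F179023) (tt N21387 (iv D38621)))
theorem Q22696 : ∀ i, i < 22696 → P i := stepQ 22695 Q22695 (allL N22695 (tt N23178 (iv F180603)) (tt N23322 (iv F181494)) (tt N23845 (iv F184005)) (tt N23519 (iv F182634)) (tt N22695 F179024) (tt N23851 (iv F184022)) (tt N21388 (iv D38622)) (tt N23853 D39780) (tt N21410 F179025) (tt N23570 (iv F182891)))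
theorem Q22697 : ∀ i, i < 22697 → P i := stepQ 22696 Q22696 (allL N22696 (tt N23180 (iv F180616)) (tt N23265 (iv F181141)) (tt N23353 (iv F181707)) (tt N23308 (iv F181408)) (tt N22696 F179026) (tt N21758 F179027) (tt N23853 (iv F184028)) (tt N21390 (iv D38623)) (tt N21411 F179028) (tt N23304 (iv F181382)))
theorem Q22698 : ∀ i, i < 22698 → P i := stepQ 22697 Q22697 (allL N22697 (tt N23181 (iv F180624)) (tt N23323 (iv F181500)) (tt N23846 (iv F184008)) (tt N23854 D39781) (tt N21391 (iv D38624)) (tt N23850 (iv F184020)) (tt N22697 F179029) (tt N21761 F179030) (tt N23275 (iv F181212)) (tt N23855 D39782))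
theorem Q22699 : ∀ i, i < 22699 → P i := stepQ 22698 Q22698 (allL N22698 (tt N23182 (iv F180629)) (tt N21484 F179031) (tt N23847 (iv F184011)) (tt N21394 F179032) (tt N23855 (iv F184034)) (tt N21392 F179033) (tt N22698 F179034) (tt N21762 F179035) (tt N23856 D39783) (tt N21391 (iv D38625)))
theorem Q22700 : ∀ i, i < 22700 → P i := stepQ 22699 Q22699 (allL N22699 (tt N23183 (iv F180635)) (tt N23324 (iv F181506)) (tt N23857 D39784) (tt N21393 (iv D38626)) (tt N23854 (iv F184030)) (tt N23521 (iv F182647)) (tt N22699 F179036) (tt N21763 F179037) (tt N23277 (iv F181224)) (tt N23858 D39785))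
theorem Q22701 : ∀ i, i < 22701 → P i := stepQ 22700 Q22700 (allL N22700 (tt N23184 (iv F180641)) (tt N21487 F179038) (tt N22700 F179039) (tt N23858 (iv F184046)) (tt N21394 F179040) (tt N21465 F179041) (tt N22700 F179042) (tt N21764 F179043) (tt N23484 (iv F182407)) (tt N21393 (iv D38627)))
theorem Q22702 : ∀ i, i < 22702 → P i := stepQ 22701 Q22701 (allL N22701 (tt N23185 (iv F180649)) (tt N21485 F179044) (tt N22701 F179045) (tt N23856 (iv F184038)) (tt N23484 (iv F182403)) (tt N21481 F179046) (tt N22701 F179047) (tt N21765 F179048) (tt N21394 (iv D38628)) (tt N23278 (iv F181233)))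
theorem Q22703 : ∀ i, i < 22703 → P i := stepQ 22702 Q22702 (allL N22702 (tt N23266 (iv F181148)) (tt N23459 (iv F182274)) (tt N21396 F179049) (tt N23190 (iv F180683)) (tt N21473 F179050) (tt N23205 (iv F180777)) (tt N23859 D39786) (tt N21395 (iv D38629)) (tt N21750 F179051) (tt N21612 F179052))
theorem Q22704 : ∀ i, i < 22704 → P i := stepQ 22703 Q22703 (allL N22703 (tt N23271 (iv F181180)) (tt N21401 F179053) (tt N23859 (iv F184050)) (tt N21397 F179054) (tt N21474 F179055) (tt N23860 D39787) (tt N21396 (iv D38630)) (tt N21415 F179056) (tt N21755 F179057) (tt N21740 F179058))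
theorem Q22705 : ∀ i, i < 22705 → P i := stepQ 22704 Q22704 (allL N22704 (tt N23550 (iv F182784)) (tt N21402 F179059) (tt N23818 (iv F183929)) (tt N23860 (iv F184056)) (tt N21839 F179060) (tt N21397 (iv D38631)) (tt N23839 (iv F183986)) (tt N21416 F179061) (tt N23861 D39788) (tt N23502 (iv F182525)))
theorem Q22706 : ∀ i, i < 22706 → P i := stepQ 22705 Q22705 (allL N22705 (tt N23313 (iv F181437)) (tt N21403 F179062) (tt N23579 (iv F182919)) (tt N21755 F179063) (tt N21400 F179064) (tt N23862 D39789) (tt N21398 F179065) (tt N21417 F179066) (tt N21397 (iv D38632)) (tt N21563 F179067))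
theorem Q22707 : ∀ i, i < 22707 → P i := stepQ 22706 Q22706 (allL N22706 (tt N23315 (iv F181449)) (tt N21404 F179068) (tt N23316 (iv F181459)) (tt N21757 F179069) (tt N22706 F179070) (tt N21398 (iv D38633)) (tt N23863 D39790) (tt N21399 F179071) (tt N23365 (iv F181784)) (tt N21564 F179072))
theorem Q22708 : ∀ i, i < 22708 → P i := stepQ 22707 Q22707 (allL N22707 (tt N23232 (iv F180915)) (tt N21406 F179073) (tt N23770 (iv F183725)) (tt N21466 F179074) (tt N23864 D39791) (tt N21400 (iv D38634)) (tt N22707 F179075) (tt N21418 F179076) (tt N21457 F179077) (tt N21566 F179078))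
theorem Q22709 : ∀ i, i < 22709 → P i := stepQ 22708 Q22708 (allL N22708 (tt N23186 (iv F180657)) (tt N23860 (iv F184055)) (tt N23686 (iv F183352)) (tt N21402 F179079) (tt N23865 D39792) (tt N21401 (iv D38635)) (tt N23840 (iv F183989)) (tt N21419 F179080) (tt N23866 D39793) (tt N23389 (iv F181918)))
theorem Q22710 : ∀ i, i < 22710 → P i := stepQ 22709 Q22709 (allL N22709 (tt N23187 (iv F180663)) (tt N23861 (iv F184059)) (tt N21407 F179081) (tt N23866 (iv F184077)) (tt N23631 (iv F183132)) (tt N23867 D39794) (tt N23842 (iv F183996)) (tt N21423 F179082) (tt N21402 (iv D38636)) (tt N23868 D39795))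
theorem Q22711 : ∀ i, i < 22711 → P i := stepQ 22710 Q22710 (allL N22710 (tt N23188 (iv F180668)) (tt N23862 (iv F184062)) (tt N21408 F179083) (tt N23395 (iv F181943)) (tt N23869 D39796) (tt N21403 (iv D38637)) (tt N23870 D39797) (tt N21424 F179084) (tt N23867 (iv F184081)) (tt N23383 (iv F181879)))
theorem Q22712 : ∀ i, i < 22712 → P i := stepQ 22711 Q22711 (allL N22711 (tt N23189 (iv F180674)) (tt N23863 (iv F184066)) (tt N21410 F179085) (tt N23283 (iv F181256)) (tt N22711 F179086) (tt N23870 (iv F184088)) (tt N21404 (iv D38638)) (tt N23871 D39798) (tt N23845 (iv F184007)) (tt N23280 F181244))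
theorem Q22713 : ∀ i, i < 22713 → P i := stepQ 22712 Q22712 (allL N22712 (tt N23190 (iv F180680)) (tt N23307 (iv F181398)) (tt N21411 F179087) (tt N23266 (iv F181151)) (tt N22712 F179088) (tt N21428 F179089) (tt N23871 (iv F184091)) (tt N21405 (iv D38639)) (tt N23353 (iv F181711)) (tt N23262 F181126))
theorem Q22714 : ∀ i, i < 22714 → P i := stepQ 22713 Q22713 (allL N22713 (tt N23191 (iv F180688)) (tt N23864 (iv F184070)) (tt N21412 F179090) (tt N23872 D39799) (tt N21406 (iv D38640)) (tt N23869 (iv F184085)) (tt N22713 F179091) (tt N21430 F179092) (tt N23635 (iv F183156)) (tt N23384 (iv F181886)))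
theorem Q22715 : ∀ i, i < 22715 → P i := stepQ 22714 Q22714 (allL N22714 (tt N23192 (iv F180695)) (tt N23821 (iv F183936)) (tt N23867 (iv F184079)) (tt N23728 F183517) (tt N23873 D39800) (tt N21407 (iv D38641)) (tt N23874 D39801) (tt N21432 F179093) (tt N21408 F179094) (tt N23875 D39802))
theorem Q22716 : ∀ i, i < 22716 → P i := stepQ 22715 Q22715 (allL N22715 (tt N23193 (iv F180700)) (tt N23822 (iv F183939)) (tt N23868 (iv F184082)) (tt N23795 (iv F183843)) (tt N23637 (iv F183161)) (tt N23875 (iv F184098)) (tt N23849 (iv F184018)) (tt N21433 F179095) (tt N23628 (iv F183115)) (tt N21407 (iv D38642)))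
theorem Q22717 : ∀ i, i < 22717 → P i := stepQ 22716 Q22716 (allL N22716 (tt N23194 (iv F180706)) (tt N23823 (iv F183941)) (tt N23869 (iv F184084)) (tt N23724 (iv F183499)) (tt N21408 (iv D38643)) (tt N21412 F179096) (tt N23876 D39803) (tt N21434 F179097) (tt N23873 (iv F184096)) (tt N23877 D39804))
theorem Q22718 : ∀ i, i < 22718 → P i := stepQ 22717 Q22717 (allL N22717 (tt N23195 (iv F180711)) (tt N23824 (iv F183944)) (tt N23870 (iv F184087)) (tt N23596 (iv F182984)) (tt N23876 (iv F184100)) (tt N21410 F179098) (tt N21408 (iv D38644)) (tt N23878 D39805) (tt N23874 (iv F184097)) (tt N23592 (iv F182971)))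
theorem Q22719 : ∀ i, i < 22719 → P i := stepQ 22718 Q22718 (allL N22718 (tt N23196 (iv F180715)) (tt N23825 (iv F183946)) (tt N23383 (iv F181876)) (tt N23595 (iv F182977)) (tt N23877 (iv F184102)) (tt N21409 F179099) (tt N23592 (iv F182970)) (tt N21436 F179100) (tt N23879 D39806) (tt N21408 (iv D38645)))
theorem Q22720 : ∀ i, i < 22720 → P i := stepQ 22719 Q22719 (allL N22719 (tt N23197 (iv F180721)) (tt N23634 (iv F183147)) (tt N23871 (iv F184089)) (tt N23544 (iv F182761)) (tt N22719 F179101) (tt N23878 (iv F184105)) (tt N21411 F179102) (tt N21410 (iv D38646)) (tt N23853 (iv F184029)) (tt N23541 F182754))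
theorem Q22721 : ∀ i, i < 22721 → P i := stepQ 22720 Q22720 (allL N22720 (tt N23200 (iv F180741)) (tt N23826 (iv F183949)) (tt N23384 (iv F181882)) (tt N23752 (iv F183614)) (tt N21413 F179103) (tt N23877 (iv F184103)) (tt N22720 F179104) (tt N21441 F179105) (tt N23672 (iv F183300)) (tt N21412 (iv D38647)))
theorem Q22722 : ∀ i, i < 22722 → P i := stepQ 22721 Q22721 (allL N22721 (tt N23283 (iv F181253)) (tt N23797 (iv F183850)) (tt N21415 F179106) (tt N23189 (iv F180677)) (tt N21479 F179107) (tt N23880 D39807) (tt N21414 (iv D38648)) (tt N23859 (iv F184052)) (tt N23844 (iv F184004)) (tt N21611 F179108))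
theorem Q22723 : ∀ i, i < 22723 → P i := stepQ 22722 Q22722 (allL N22722 (tt N23290 (iv F181285)) (tt N21419 F179109) (tt N23880 (iv F184108)) (tt N21416 F179110) (tt N23881 D39808) (tt N21415 (iv D38649)) (tt N21824 F179111) (tt N23860 (iv F184057)) (tt N23882 D39809) (tt N23259 (iv F181103)))
theorem Q22724 : ∀ i, i < 22724 → P i := stepQ 22723 Q22723 (allL N22723 (tt N23601 (iv F183004)) (tt N21423 F179112) (tt N23827 (iv F183954)) (tt N23882 (iv F184116)) (tt N21837 F179113) (tt N23883 D39810) (tt N21825 F179114) (tt N23861 (iv F184061)) (tt N21416 (iv D38650)) (tt N23884 D39811))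
theorem Q22725 : ∀ i, i < 22725 → P i := stepQ 22724 Q22724 (allL N22724 (tt N23578 (iv F182915)) (tt N21424 F179115) (tt N23577 (iv F182913)) (tt N23852 (iv F184024)) (tt N23885 D39812) (tt N21417 (iv D38651)) (tt N23572 (iv F182898)) (tt N23862 (iv F184064)) (tt N23883 (iv F184119)) (tt N23518 (iv F182630)))
theorem Q22726 : ∀ i, i < 22726 → P i := stepQ 22725 Q22725 (allL N22725 (tt N23231 (iv F180910)) (tt N21430 F179116) (tt N23769 (iv F183720)) (tt N23886 D39813) (tt N21418 (iv D38652)) (tt N23885 (iv F184124)) (tt N21445 F179117) (tt N23864 (iv F184072)) (tt N21455 F179118) (tt N23520 (iv F182644)))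
theorem Q22727 : ∀ i, i < 22727 → P i := stepQ 22726 Q22726 (allL N22726 (tt N23201 (iv F180749)) (tt N23881 (iv F184111)) (tt N23800 (iv F183860)) (tt N23688 (iv F183360)) (tt N21419 (iv D38653)) (tt N21482 F179119) (tt N21826 F179120) (tt N23865 (iv F184076)) (tt N23887 D39814) (tt N23680 (iv F183328)))
theorem Q22728 : ∀ i, i < 22728 → P i := stepQ 22727 Q22727 (allL N22727 (tt N23202 (iv F180755)) (tt N23882 (iv F184115)) (tt N23801 (iv F183863)) (tt N21423 F179121) (tt N23887 (iv F184129)) (tt N23888 D39815) (tt N21827 F179122) (tt N23866 (iv F184078)) (tt N21419 (iv D38654)) (tt N23889 D39816))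
theorem Q22729 : ∀ i, i < 22729 → P i := stepQ 22728 Q22728 (allL N22728 (tt N23203 (iv F180759)) (tt N23852 (iv F184023)) (tt N23661 (iv F183256)) (tt N21424 F179123) (tt N23890 D39817) (tt N21420 (iv D38655)) (tt N23891 D39818) (tt N23395 (iv F181945)) (tt N23888 (iv F184132)) (tt N23321 (iv F181492)))
theorem Q22730 : ∀ i, i < 22730 → P i := stepQ 22729 Q22729 (allL N22729 (tt N23204 (iv F180765)) (tt N23570 (iv F182887)) (tt N23785 (iv F183810)) (tt N21426 F179124) (tt N22729 F179125) (tt N23891 (iv F184137)) (tt N21421 (iv D38656)) (tt N23892 D39819) (tt N21830 F179126) (tt N23322 (iv F181498)))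
theorem Q22731 : ∀ i, i < 22731 → P i := stepQ 22730 Q22730 (allL N22730 (tt N23205 (iv F180772)) (tt N23304 (iv F181377)) (tt N23273 (iv F181194)) (tt N21428 F179127) (tt N22730 F179128) (tt N23266 (iv F181153)) (tt N23892 (iv F184140)) (tt N21422 (iv D38657)) (tt N21831 F179129) (tt N23265 F181147))
theorem Q22732 : ∀ i, i < 22732 → P i := stepQ 22731 Q22731 (allL N22731 (tt N23206 (iv F180780)) (tt N23883 (iv F184118)) (tt N21432 F179130) (tt N23888 (iv F184131)) (tt N23893 D39820) (tt N21423 (iv D38658)) (tt N23894 D39821) (tt N23867 (iv F184080)) (tt N21424 F179131) (tt N23895 D39822))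
theorem Q22733 : ∀ i, i < 22733 → P i := stepQ 22732 Q22732 (allL N22732 (tt N23207 (iv F180784)) (tt N23884 (iv F184120)) (tt N21433 F179132) (tt N23889 (iv F184133)) (tt N23693 (iv F183389)) (tt N23895 (iv F184148)) (tt N21833 F179133) (tt N23868 (iv F184083)) (tt N23682 (iv F183338)) (tt N21423 (iv D38659)))
theorem Q22734 : ∀ i, i < 22734 → P i := stepQ 22733 Q22733 (allL N22733 (tt N23208 (iv F180790)) (tt N23885 (iv F184123)) (tt N21434 F179134) (tt N23896 D39823) (tt N21424 (iv D38660)) (tt N21430 F179135) (tt N23897 D39824) (tt N23869 (iv F184086)) (tt N23893 (iv F184143)) (tt N23898 D39825))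
theorem Q22735 : ∀ i, i < 22735 → P i := stepQ 22734 Q22734 (allL N22734 (tt N23209 (iv F180795)) (tt N23572 (iv F182896)) (tt N21435 F179136) (tt N23891 (iv F184136)) (tt N23897 (iv F184151)) (tt N21426 F179137) (tt N21424 (iv D38661)) (tt N23899 D39826) (tt N23894 (iv F184146)) (tt N23900 D39827))
theorem Q22736 : ∀ i, i < 22736 → P i := stepQ 22735 Q22735 (allL N22735 (tt N21726 F179138) (tt N23518 (iv F182627)) (tt N21436 F179139) (tt N23321 (iv F181490)) (tt N23898 (iv F184155)) (tt N21425 F179140) (tt N23900 (iv F184162)) (tt N23383 (iv F181878)) (tt N23901 D39828) (tt N21424 (iv D38662)))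
theorem Q22737 : ∀ i, i < 22737 → P i := stepQ 22736 Q22736 (allL N22736 (tt N23210 (iv F180800)) (tt N23306 (iv F181392)) (tt N21437 F179141) (tt N23892 (iv F184138)) (tt N21449 F179142) (tt N23899 (iv F184158)) (tt N21428 F179143) (tt N21426 (iv D38663)) (tt N21836 F179144) (tt N23902 D39829))
theorem Q22738 : ∀ i, i < 22738 → P i := stepQ 22737 Q22737 (allL N22737 (tt N21727 F179145) (tt N23519 (iv F182632)) (tt N21438 F179146) (tt N23322 (iv F181495)) (tt N21450 F179147) (tt N23900 (iv F184161)) (tt N21427 F179148) (tt N23902 (iv F184170)) (tt N23511 (iv F182584)) (tt N21426 (iv D38664)))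
theorem Q22739 : ∀ i, i < 22739 → P i := stepQ 22738 Q22738 (allL N22738 (tt N21728 F179149) (tt N23308 (iv F181406)) (tt N21439 F179150) (tt N23265 (iv F181143)) (tt N21451 F179151) (tt N23262 F181125) (tt N23902 (iv F184169)) (tt N21429 F179152) (tt N23512 (iv F182592)) (tt N21428 (iv D38665)))
theorem Q22740 : ∀ i, i < 22740 → P i := stepQ 22739 Q22739 (allL N22739 (tt N23211 (iv F180807)) (tt N23886 (iv F184125)) (tt N23903 D39830) (tt N21430 (iv D38666)) (tt N21488 F179153) (tt N23896 (iv F184149)) (tt N21452 F179154) (tt N23872 (iv F184094)) (tt N23696 (iv F183406)) (tt N23810 F183894))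
theorem Q22741 : ∀ i, i < 22741 → P i := stepQ 22740 Q22740 (allL N22740 (tt N21729 F179155) (tt N23520 (iv F182639)) (tt N21441 F179156) (tt N23810 (iv F183891)) (tt N21431 F179157) (tt N23898 (iv F184156)) (tt N21453 F179158) (tt N23384 (iv F181884)) (tt N23151 (iv F180436)) (tt N21430 (iv D38667)))
theorem Q22742 : ∀ i, i < 22742 → P i := stepQ 22741 Q22741 (allL N22741 (tt N23212 (iv F180813)) (tt N23831 (iv F183963)) (tt N23893 (iv F184142)) (tt N23904 D39831) (tt N21432 (iv D38668)) (tt N23698 (iv F183413)) (tt N23905 D39832) (tt N23873 (iv F184095)) (tt N21434 F179159) (tt N23906 D39833))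
theorem Q22743 : ∀ i, i < 22743 → P i := stepQ 22742 Q22742 (allL N22742 (tt N23213 (iv F180816)) (tt N23692 (iv F183382)) (tt N23894 (iv F184144)) (tt N23803 (iv F183868)) (tt N23905 (iv F184176)) (tt N21837 F179160) (tt N21432 (iv D38669)) (tt N23907 D39834) (tt N21435 F179161) (tt N23908 D39835))
theorem Q22744 : ∀ i, i < 22744 → P i := stepQ 22743 Q22743 (allL N22743 (tt N23214 (iv F180819)) (tt N23832 (iv F183965)) (tt N23895 (iv F184147)) (tt N23804 (iv F183871)) (tt N23906 (iv F184178)) (tt N21433 F179162) (tt N23908 (iv F184182)) (tt N23875 (iv F184099)) (tt N23909 D39836) (tt N21432 (iv D38670)))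
theorem Q22745 : ∀ i, i < 22745 → P i := stepQ 22744 Q22744 (allL N22744 (tt N23215 (iv F180821)) (tt N23833 (iv F183967)) (tt N23910 D39837) (tt N21434 (iv D38671)) (tt N23653 (iv F183223)) (tt N21440 F179163) (tt N23911 D39838) (tt N23724 (iv F183501)) (tt N23904 (iv F184175)) (tt N23912 D39839))
theorem Q22746 : ∀ i, i < 22746 → P i := stepQ 22745 Q22745 (allL N22745 (tt N23216 (iv F180825)) (tt N23694 (iv F183393)) (tt N23897 (iv F184150)) (tt N23911 (iv F184185)) (tt N21435 F179164) (tt N21455 F179165) (tt N21434 (iv D38672)) (tt N23913 D39840) (tt N23905 (iv F184177)) (tt N23914 D39841))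
theorem Q22747 : ∀ i, i < 22747 → P i := stepQ 22746 Q22746 (allL N22746 (tt N23217 (iv F180828)) (tt N23834 (iv F183969)) (tt N23898 (iv F184154)) (tt N23912 (iv F184187)) (tt N21436 F179166) (tt N21441 F179167) (tt N23914 (iv F184193)) (tt N23877 (iv F184104)) (tt N23915 D39842) (tt N21434 (iv D38673)))
theorem Q22748 : ∀ i, i < 22748 → P i := stepQ 22747 Q22747 (allL N22747 (tt N23218 (iv F180832)) (tt N23632 (iv F183135)) (tt N23899 (iv F184157)) (tt N23805 (iv F183873)) (tt N23913 (iv F184189)) (tt N21437 F179168) (tt N23878 (iv F184106)) (tt N21435 (iv D38674)) (tt N23907 (iv F184180)) (tt N23916 D39843))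
theorem Q22749 : ∀ i, i < 22749 → P i := stepQ 22748 Q22748 (allL N22748 (tt N23219 (iv F180834)) (tt N23695 (iv F183398)) (tt N23900 (iv F184160)) (tt N23806 (iv F183875)) (tt N23914 (iv F184191)) (tt N21438 F179169) (tt N21436 F179170) (tt N23916 (iv F184196)) (tt N23917 D39844) (tt N21435 (iv D38675)))
theorem Q22750 : ∀ i, i < 22750 → P i := stepQ 22749 Q22749 (allL N22749 (tt N23220 (iv F180838)) (tt N23835 (iv F183972)) (tt N23901 (iv F184164)) (tt N23807 (iv F183878)) (tt N23915 (iv F184194)) (tt N23687 (iv F183357)) (tt N23917 (iv F184197)) (tt N23879 (iv F184107)) (tt N21436 (iv D38676)) (tt N23909 (iv F184183)))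
theorem Q22751 : ∀ i, i < 22751 → P i := stepQ 22750 Q22750 (allL N22750 (tt N23221 (iv F180841)) (tt N23633 (iv F183139)) (tt N23902 (iv F184167)) (tt N23545 (iv F182768)) (tt N21459 F179171) (tt N23916 (iv F184195)) (tt N21439 F179172) (tt N21438 F179173) (tt N23650 (iv F183214)) (tt N21437 (iv D38677)))
theorem Q22752 : ∀ i, i < 22752 → P i := stepQ 22751 Q22751 (allL N22751 (tt N23222 (iv F180849)) (tt N23918 D39845) (tt N21440 (iv D38678)) (tt N23903 (iv F184171)) (tt N21443 F179174) (tt N23910 (iv F184184)) (tt N21460 F179175) (tt N23494 (iv F182469)) (tt N23708 (iv F183449)) (tt N23745 (iv F183588)))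
theorem Q22753 : ∀ i, i < 22753 → P i := stepQ 22752 Q22752 (allL N22752 (tt N23223 (iv F180856)) (tt N23837 (iv F183975)) (tt N23745 (iv F183584)) (tt N21441 F179176) (tt N21444 F179177) (tt N23912 (iv F184188)) (tt N21461 F179178) (tt N23752 (iv F183617)) (tt N23488 (iv F182430)) (tt N21440 (iv D38679)))
theorem Q22754 : ∀ i, i < 22754 → P i := stepQ 22753 Q22753 (allL N22753 (tt N23157 (iv F180469)) (tt N23237 (iv F180944)) (tt N23151 (iv F180432)) (tt N23488 (iv F182428)) (tt N21442 F179179) (tt N23919 D39846) (tt N21462 F179180) (tt N23672 (iv F183299)) (tt N21441 (iv D38680)) (tt N23165 (iv F180519)))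
theorem Q22755 : ∀ i, i < 22755 → P i := stepQ 22754 Q22754 (allL N22754 (tt N23444 (iv F182202)) (tt N21443 (iv D38681)) (tt N23783 (iv F183799)) (tt N21489 F179181) (tt N23918 (iv F184198)) (tt N23435 (iv F182163)) (tt N21463 F179182) (tt N23492 (iv F182458)) (tt N23625 (iv F183100)) (tt N21687 F179183))
theorem Q22756 : ∀ i, i < 22756 → P i := stepQ 22755 Q22755 (allL N22755 (tt N23230 (iv F180903)) (tt N21452 F179184) (tt N23920 D39847) (tt N21445 (iv D38682)) (tt N21464 F179185) (tt N23767 (iv F183710)) (tt N23886 (iv F184127)) (tt N22755 F179186) (tt N21454 F179187) (tt N23765 (iv F183699)))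
theorem Q22757 : ∀ i, i < 22757 → P i := stepQ 22756 Q22756 (allL N22756 (tt N23226 (iv F180878)) (tt N23767 (iv F183708)) (tt N23921 D39848) (tt N21446 (iv D38683)) (tt N22756 F179188) (tt N21452 F179189) (tt N23922 D39849) (tt N22756 F179190) (tt N23768 (iv F183717)) (tt N23812 (iv F183908)))
theorem Q22758 : ∀ i, i < 22758 → P i := stepQ 22757 Q22757 (allL N22757 (tt N23227 (iv F180884)) (tt N23573 (iv F182900)) (tt N21455 F179191) (tt N23922 (iv F184209)) (tt N21447 F179192) (tt N23897 (iv F184152)) (tt N21446 (iv D38684)) (tt N23923 D39850) (tt N23769 (iv F183722)) (tt N23924 D39851))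
theorem Q22759 : ∀ i, i < 22759 → P i := stepQ 22758 Q22758 (allL N22758 (tt N21849 F179193) (tt N23224 (iv F180865)) (tt N21456 F179194) (tt N23812 (iv F183904)) (tt N21448 F179195) (tt N21453 F179196) (tt N23924 (iv F184217)) (tt N22758 F179197) (tt N21858 F179198) (tt N21446 (iv D38685)))
theorem Q22760 : ∀ i, i < 22760 → P i := stepQ 22759 Q22759 (allL N22759 (tt N23228 (iv F180889)) (tt N23309 (iv F181414)) (tt N21457 F179199) (tt N22759 F179200) (tt N23923 (iv F184212)) (tt N21449 F179201) (tt N22759 F179202) (tt N21447 (iv D38686)) (tt N23770 (iv F183729)) (tt N23925 D39852))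
theorem Q22761 : ∀ i, i < 22761 → P i := stepQ 22760 Q22760 (allL N22760 (tt N21850 F179203) (tt N23225 (iv F180872)) (tt N21458 F179204) (tt N22760 F179205) (tt N23924 (iv F184216)) (tt N21450 F179206) (tt N21448 F179207) (tt N23925 (iv F184224)) (tt N21860 F179208) (tt N21447 (iv D38687)))
theorem Q22762 : ∀ i, i < 22762 → P i := stepQ 22761 Q22761 (allL N22761 (tt N21851 F179209) (tt N23310 (iv F181421)) (tt N21459 F179210) (tt N22761 F179211) (tt N23902 (iv F184168)) (tt N23925 (iv F184222)) (tt N21451 F179212) (tt N21450 F179213) (tt N23529 (iv F182683)) (tt N21449 (iv D38688)))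
theorem Q22763 : ∀ i, i < 22763 → P i := stepQ 22762 Q22762 (allL N22762 (tt N23229 (iv F180896)) (tt N23784 (iv F183804)) (tt N21452 (iv D38689)) (tt N21460 F179214) (tt N21490 F179215) (tt N23921 (iv F184206)) (tt N23903 (iv F184173)) (tt N22762 F179216) (tt N23756 (iv F183649)) (tt N21494 F179217))
theorem Q22764 : ∀ i, i < 22764 → P i := stepQ 22763 Q22763 (allL N22763 (tt N23233 (iv F180922)) (tt N23778 (iv F183769)) (tt N21454 (iv D38690)) (tt N23921 (iv F184204)) (tt N21467 F179218) (tt N21460 F179219) (tt N23926 D39853) (tt N22763 F179220) (tt N23920 (iv F184203)) (tt N23757 (iv F183657)))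
theorem Q22765 : ∀ i, i < 22765 → P i := stepQ 22764 Q22764 (allL N22764 (tt N23234 (iv F180928)) (tt N23696 (iv F183403)) (tt N23926 (iv F184226)) (tt N21455 F179221) (tt N21468 F179222) (tt N23911 (iv F184186)) (tt N21454 (iv D38691)) (tt N23927 D39854) (tt N23886 (iv F184128)) (tt N23928 D39855))
theorem Q22766 : ∀ i, i < 22766 → P i := stepQ 22765 Q22765 (allL N22765 (tt N23235 (iv F180932)) (tt N23754 (iv F183627)) (tt N23757 (iv F183652)) (tt N21456 F179223) (tt N21469 F179224) (tt N21461 F179225) (tt N23928 (iv F184233)) (tt N22765 F179226) (tt N23753 (iv F183624)) (tt N21454 (iv D38692)))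
theorem Q22767 : ∀ i, i < 22767 → P i := stepQ 22766 Q22766 (allL N22766 (tt N23236 (iv F180940)) (tt N23635 (iv F183152)) (tt N23923 (iv F184211)) (tt N23927 (iv F184228)) (tt N21457 F179227) (tt N23913 (iv F184190)) (tt N22766 F179228) (tt N21455 (iv D38693)) (tt N23864 (iv F184073)) (tt N23929 D39856))
theorem Q22768 : ∀ i, i < 22768 → P i := stepQ 22767 Q22767 (allL N22767 (tt N23237 (iv F180943)) (tt N23697 (iv F183408)) (tt N23924 (iv F184215)) (tt N23928 (iv F184231)) (tt N21458 F179229) (tt N23914 (iv F184192)) (tt N21456 F179230) (tt N23929 (iv F184236)) (tt N23817 (iv F183927)) (tt N21455 (iv D38694)))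
theorem Q22769 : ∀ i, i < 22769 → P i := stepQ 22768 Q22768 (allL N22768 (tt N23238 (iv F180949)) (tt N23489 (iv F182433)) (tt N23925 (iv F184220)) (tt N21472 F179231) (tt N23929 (iv F184234)) (tt N21459 F179232) (tt N22768 F179233) (tt N21458 F179234) (tt N23561 (iv F182862)) (tt N21457 (iv D38695)))
theorem Q22770 : ∀ i, i < 22770 → P i := stepQ 22769 Q22769 (allL N22769 (tt N23476 (iv F182351)) (tt N21460 (iv D38696)) (tt N23781 (iv F183787)) (tt N23784 (iv F183805)) (tt N21463 F179235) (tt N23778 (iv F183772)) (tt N23918 (iv F184199)) (tt N22769 F179236) (tt N23762 (iv F183685)) (tt N21686 F179237))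
theorem Q22771 : ∀ i, i < 22771 → P i := stepQ 22770 Q22770 (allL N22770 (tt N23239 (iv F180957)) (tt N23779 (iv F183775)) (tt N21464 (iv D38697)) (tt N22770 F179238) (tt N23920 (iv F184201)) (tt N22770 F179239) (tt N23930 D39857) (tt N22770 F179240) (tt N21467 F179241) (tt N23766 (iv F183706)))
theorem Q22772 : ∀ i, i < 22772 → P i := stepQ 22771 Q22771 (allL N22771 (tt N23240 (iv F180964)) (tt N21488 F179242) (tt N23930 (iv F184237)) (tt N21465 F179243) (tt N23886 (iv F184126)) (tt N23858 (iv F184047)) (tt N21464 (iv D38698)) (tt N23931 D39858) (tt N21468 F179244) (tt N23521 (iv F182651)))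
theorem Q22773 : ∀ i, i < 22773 → P i := stepQ 22772 Q22772 (allL N22772 (tt N23241 (iv F180969)) (tt N21478 F179245) (tt N22772 F179246) (tt N23931 (iv F184241)) (tt N21466 F179247) (tt N21764 F179248) (tt N22772 F179249) (tt N21465 (iv D38699)) (tt N21470 F179250) (tt N21567 F179251))
theorem Q22774 : ∀ i, i < 22774 → P i := stepQ 22773 Q22773 (allL N22773 (tt N23242 (iv F180977)) (tt N23613 (iv F183057)) (tt N21468 F179252) (tt N22773 F179253) (tt N23926 (iv F184227)) (tt N23490 (iv F182444)) (tt N21467 (iv D38700)) (tt N23932 D39859) (tt N23930 (iv F184239)) (tt N23606 (iv F183035)))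
theorem Q22775 : ∀ i, i < 22775 → P i := stepQ 22774 Q22774 (allL N22774 (tt N23243 (iv F180983)) (tt N23417 (iv F182069)) (tt N23932 (iv F184246)) (tt N21470 F179254) (tt N23927 (iv F184229)) (tt N23407 (iv F182016)) (tt N22774 F179255) (tt N21468 (iv D38701)) (tt N23931 (iv F184244)) (tt N23406 F182011))
theorem Q22776 : ∀ i, i < 22776 → P i := stepQ 22775 Q22775 (allL N22775 (tt N23244 (iv F180988)) (tt N23335 (iv F181587)) (tt N23606 (iv F183030)) (tt N21471 F179256) (tt N23928 (iv F184232)) (tt N23330 F181556) (tt N21469 F179257) (tt N23406 (iv F182010)) (tt N23743 (iv F183576)) (tt N21468 (iv D38702)))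
theorem Q22777 : ∀ i, i < 22777 → P i := stepQ 22776 Q22776 (allL N22776 (tt N23268 (iv F181163)) (tt N23481 (iv F182385)) (tt N21474 F179258) (tt N22776 F179259) (tt N23859 (iv F184051)) (tt N23933 D39860) (tt N21473 (iv D38703)) (tt N21479 F179260) (tt N21752 F179261) (tt N21673 F179262))
theorem Q22778 : ∀ i, i < 22778 → P i := stepQ 22777 Q22777 (allL N22777 (tt N23276 (iv F181213)) (tt N21476 F179263) (tt N23933 (iv F184251)) (tt N21475 F179264) (tt N23934 D39861) (tt N21474 (iv D38704)) (tt N22777 F179265) (tt N21480 F179266) (tt N23935 D39862) (tt N21742 F179267))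
theorem Q22779 : ∀ i, i < 22779 → P i := stepQ 22778 Q22778 (allL N22778 (tt N23278 (iv F181226)) (tt N21477 F179268) (tt N22778 F179269) (tt N23935 (iv F184262)) (tt N21690 F179270) (tt N21765 F179271) (tt N22778 F179272) (tt N21481 F179273) (tt N21475 (iv D38705)) (tt N23185 (iv F180656)))
theorem Q22780 : ∀ i, i < 22780 → P i := stepQ 22779 Q22779 (allL N22779 (tt N23246 (iv F181003)) (tt N23934 (iv F184256)) (tt N23678 F183320) (tt N23738 (iv F183541)) (tt N21476 (iv D38706)) (tt N23865 (iv F184075)) (tt N22779 F179274) (tt N21482 F179275) (tt N23936 D39863) (tt N23390 (iv F181925)))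
theorem Q22781 : ∀ i, i < 22781 → P i := stepQ 22780 Q22780 (allL N22780 (tt N23247 (iv F181010)) (tt N23935 (iv F184261)) (tt N23385 (iv F181889)) (tt N21477 F179276) (tt N23936 (iv F184266)) (tt N23398 (iv F181961)) (tt N22780 F179277) (tt N21483 F179278) (tt N21476 (iv D38707)) (tt N23429 (iv F182130)))
theorem Q22782 : ∀ i, i < 22782 → P i := stepQ 22781 Q22781 (allL N22781 (tt N23248 (iv F181018)) (tt N23931 (iv F184240)) (tt N23429 (iv F182125)) (tt N21478 (iv D38708)) (tt N23872 (iv F184092)) (tt N23399 (iv F181969)) (tt N22781 F179279) (tt N21488 F179280) (tt N23417 (iv F182075)) (tt N23385 (iv F181894)))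
theorem Q22783 : ∀ i, i < 22783 → P i := stepQ 22782 Q22782 (allL N22782 (tt N23285 (iv F181264)) (tt N23808 (iv F183880)) (tt N21480 F179281) (tt N22782 F179282) (tt N23937 D39864) (tt N21479 (iv D38709)) (tt N21491 F179283) (tt N23933 (iv F184254)) (tt N23938 D39865) (tt N21672 F179284))
theorem Q22784 : ∀ i, i < 22784 → P i := stepQ 22783 Q22783 (allL N22783 (tt N23293 (iv F181304)) (tt N21482 F179285) (tt N23937 (iv F184269)) (tt N21688 F179286) (tt N21480 (iv D38710)) (tt N23881 (iv F184113)) (tt N21492 F179287) (tt N23934 (iv F184259)) (tt N23939 D39866) (tt N23260 (iv F181111)))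
theorem Q22785 : ∀ i, i < 22785 → P i := stepQ 22784 Q22784 (allL N22784 (tt N23294 (iv F181309)) (tt N21483 F179288) (tt N23938 (iv F184272)) (tt N21481 F179289) (tt N23939 (iv F184277)) (tt N23856 (iv F184039)) (tt N21493 F179290) (tt N23935 (iv F184265)) (tt N21480 (iv D38711)) (tt N23623 (iv F183091)))
theorem Q22786 : ∀ i, i < 22786 → P i := stepQ 22785 Q22785 (allL N22785 (tt N23249 (iv F181026)) (tt N23939 (iv F184275)) (tt N23810 (iv F183890)) (tt N23745 (iv F183585)) (tt N21483 F179291) (tt N23940 D39867) (tt N21494 F179292) (tt N23936 (iv F184268)) (tt N21482 (iv D38712)) (tt N23903 (iv F184174)))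
theorem Q22787 : ∀ i, i < 22787 → P i := stepQ 22786 Q22786 (allL N22786 (tt N23250 (iv F181032)) (tt N23856 (iv F184037)) (tt N23324 (iv F181507)) (tt N21485 F179293) (tt N23941 D39868) (tt N21483 (iv D38713)) (tt N22786 F179294) (tt N23398 (iv F181963)) (tt N21484 F179295) (tt N23379 (iv F181853)))
theorem Q22788 : ∀ i, i < 22788 → P i := stepQ 22787 Q22787 (allL N22787 (tt N23251 (iv F181040)) (tt N23623 (iv F183088)) (tt N21488 F179296) (tt N21486 F179297) (tt N23903 (iv F184172)) (tt N23379 (iv F181850)) (tt N21490 F179298) (tt N23429 (iv F182129)) (tt N23343 (iv F181646)) (tt N21483 (iv D38714)))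
theorem Q22789 : ∀ i, i < 22789 → P i := stepQ 22788 Q22788 (allL N22788 (tt N23252 (iv F181048)) (tt N23855 (iv F184033)) (tt N23377 F181842) (tt N23942 D39869) (tt N21484 (iv D38715)) (tt N23890 (iv F184135)) (tt N22788 F179299) (tt N23397 (iv F181956)) (tt N23941 (iv F184280)) (tt N23323 (iv F181504)))
theorem Q22790 : ∀ i, i < 22790 → P i := stepQ 22789 Q22789 (allL N22789 (tt N23253 (iv F181054)) (tt N23858 (iv F184045)) (tt N23379 (iv F181848)) (tt N21487 (iv D38716)) (tt N23942 (iv F184281)) (tt N21488 F179300) (tt N22789 F179301) (tt N23399 (iv F181971)) (tt N23367 (iv F181796)) (tt N23324 (iv F181512)))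
theorem Q22791 : ∀ i, i < 22791 → P i := stepQ 22790 Q22790 (allL N22790 (tt N23297 (iv F181327)) (tt N23811 (iv F183896)) (tt N21492 F179302) (tt N23943 D39870) (tt N21491 (iv D38717)) (tt N21675 F179303) (tt N23937 (iv F184270)) (tt N22790 F179304) (tt N23944 D39871) (tt N21671 F179305))
theorem Q22792 : ∀ i, i < 22792 → P i := stepQ 22791 Q22791 (allL N22791 (tt N23298 (iv F181333)) (tt N23766 (iv F183701)) (tt N21493 F179306) (tt N22791 F179307) (tt N23944 (iv F184290)) (tt N22791 F179308) (tt N23938 (iv F184274)) (tt N22791 F179309) (tt N21491 (iv D38718)) (tt N23779 (iv F183780)))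
theorem Q22793 : ∀ i, i < 22793 → P i := stepQ 22792 Q22792 (allL N22792 (tt N23302 (iv F181362)) (tt N21494 F179310) (tt N23944 (iv F184289)) (tt N21686 F179311) (tt N21493 F179312) (tt N23777 (iv F183765)) (tt N23939 (iv F184278)) (tt N22792 F179313) (tt N21492 (iv D38719)) (tt N23784 (iv F183808)))
theorem Q22794 : ∀ i, i < 22794 → P i := stepQ 22793 Q22793 (allL N22793 (tt N23254 (iv F181062)) (tt N23777 (iv F183763)) (tt N23812 (iv F183903)) (tt N23757 (iv F183653)) (tt N22793 F179314) (tt N21494 (iv D38720)) (tt N23945 D39872) (tt N22793 F179315) (tt N21847 F179316) (tt N23921 (iv F184208)))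
theorem Q22795 : ∀ i, i < 22795 → P i := stepQ 22794 Q22794 (allL N22794 (tt N23545 (iv F182765)) (tt N21497 F179317) (tt N23255 (iv F181071)) (tt N23221 (iv F180844)) (tt N21496 F179318) (tt N23946 D39873) (tt N21495 (iv D38721)) (tt N23139 (iv F180351)) (tt N23667 (iv F183280)) (tt N23138 F180344))
theorem Q22796 : ∀ i, i < 22796 → P i := stepQ 22795 Q22795 (allL N22795 (tt N21540 F179319) (tt N23946 (iv F184294)) (tt N21498 F179320) (tt N23671 (iv F183295)) (tt N23332 (iv F181567)) (tt N21497 (iv D38722)) (tt N23531 (iv F182695)) (tt N23386 (iv F181899)) (tt N23947 D39874) (tt N23319 (iv F181481)))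
theorem Q22797 : ∀ i, i < 22797 → P i := stepQ 22796 Q22796 (allL N22796 (tt N21543 F179321) (tt N23258 (iv F181092)) (tt N23947 (iv F184296)) (tt N21714 F179322) (tt N23336 (iv F181597)) (tt N23681 (iv F183331)) (tt N23532 (iv F182702)) (tt N23388 (iv F181913)) (tt N21498 (iv D38723)) (tt N23948 D39875))
theorem Q22798 : ∀ i, i < 22798 → P i := stepQ 22797 Q22797 (allL N22797 (tt N23691 (iv F183373)) (tt N21501 F179323) (tt N21571 F179324) (tt N21810 F179325) (tt N21500 F179326) (tt N23949 D39876) (tt N21499 (iv D38724)) (tt N21536 F179327) (tt N21829 F179328) (tt N21603 F179329))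
theorem Q22799 : ∀ i, i < 22799 → P i := stepQ 22798 Q22798 (allL N22798 (tt N23386 (iv F181895)) (tt N23949 (iv F184299)) (tt N21503 F179330) (tt N23156 (iv F180466)) (tt N21623 F179331) (tt N21501 (iv D38725)) (tt N23381 (iv F181865)) (tt N21540 F179332) (tt N23950 D39877) (tt N21605 F179333))
theorem Q22800 : ∀ i, i < 22800 → P i := stepQ 22799 Q22799 (allL N22799 (tt N23387 (iv F181901)) (tt N21846 F179334) (tt N21505 F179335) (tt N21700 F179336) (tt N23951 D39878) (tt N21502 (iv D38726)) (tt N22799 F179337) (tt N21542 F179338) (tt N21626 F179339) (tt N21804 F179340))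
theorem Q22801 : ∀ i, i < 22801 → P i := stepQ 22800 Q22800 (allL N22800 (tt N23388 (iv F181908)) (tt N21584 F179341) (tt N23950 (iv F184305)) (tt N21716 F179342) (tt N21628 F179343) (tt N23952 D39879) (tt N23382 (iv F181872)) (tt N21543 F179344) (tt N21503 (iv D38727)) (tt N23953 D39880))
theorem Q22802 : ∀ i, i < 22802 → P i := stepQ 22801 Q22801 (allL N22801 (tt N23389 (iv F181914)) (tt N21585 F179345) (tt N23154 (iv F180454)) (tt N21717 F179346) (tt N23954 D39881) (tt N21504 (iv D38728)) (tt N23279 (iv F181237)) (tt N21544 F179347) (tt N23952 (iv F184318)) (tt N23186 (iv F180662)))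
theorem Q22803 : ∀ i, i < 22803 → P i := stepQ 22802 Q22802 (allL N22802 (tt N23390 (iv F181919)) (tt N21591 F179348) (tt N23951 (iv F184309)) (tt N21842 F179349) (tt N21505 (iv D38729)) (tt N23954 (iv F184326)) (tt N22802 F179350) (tt N21545 F179351) (tt N21635 F179352) (tt N23246 (iv F181009)))
theorem Q22804 : ∀ i, i < 22804 → P i := stepQ 22803 Q22803 (allL N22803 (tt N23409 (iv F182025)) (tt N21509 F179353) (tt N21603 F179354) (tt N21624 F179355) (tt N21507 F179356) (tt N23955 D39882) (tt N21506 (iv D38730)) (tt N21620 F179357) (tt N21622 F179358) (tt N21571 F179359))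
theorem Q22805 : ∀ i, i < 22805 → P i := stepQ 22804 Q22804 (allL N22804 (tt N23331 (iv F181558)) (tt N21624 F179360) (tt N21768 F179361) (tt N21509 F179362) (tt N21621 F179363) (tt N23956 D39883) (tt N21508 (iv D38731)) (tt N21622 F179364) (tt N21620 F179365) (tt N21574 F179366))
theorem Q22806 : ∀ i, i < 22806 → P i := stepQ 22805 Q22805 (allL N22805 (tt N23332 (iv F181565)) (tt N23955 (iv F184328)) (tt N21512 F179367) (tt N23956 (iv F184336)) (tt N21540 F179368) (tt N21509 (iv D38732)) (tt N23499 (iv F182504)) (tt N21623 F179369) (tt N23957 D39884) (tt N21576 F179370))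
theorem Q22807 : ∀ i, i < 22807 → P i := stepQ 22806 Q22806 (allL N22806 (tt N23333 (iv F181571)) (tt N21622 F179371) (tt N21513 F179372) (tt N21620 F179373) (tt N21511 F179374) (tt N23958 D39885) (tt N21510 F179375) (tt N21624 F179376) (tt N21509 (iv D38733)) (tt N21644 (iv F179377)))
theorem Q22808 : ∀ i, i < 22808 → P i := stepQ 22807 Q22807 (allL N22807 (tt N23335 (iv F181586)) (tt N21702 F179378) (tt N21517 F179379) (tt N21694 F179380) (tt N23959 D39886) (tt N21511 (iv D38734)) (tt N21546 F179381) (tt N21626 F179382) (tt N21542 F179383) (tt N21705 F179384))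
theorem Q22809 : ∀ i, i < 22809 → P i := stepQ 22808 Q22808 (allL N22808 (tt N23336 (iv F181594)) (tt N21608 F179385) (tt N23957 (iv F184339)) (tt N21774 F179386) (tt N21543 F179387) (tt N23960 D39887) (tt N23501 (iv F182518)) (tt N21628 F179388) (tt N21512 (iv D38735)) (tt N23961 D39888))
theorem Q22810 : ∀ i, i < 22810 → P i := stepQ 22809 Q22809 (allL N22809 (tt N23337 (iv F181600)) (tt N21609 F179389) (tt N23958 (iv F184343)) (tt N21775 F179390) (tt N23962 D39889) (tt N21513 (iv D38736)) (tt N23963 D39890) (tt N21629 F179391) (tt N23960 (iv F184357)) (tt N23964 D39891))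
theorem Q22811 : ∀ i, i < 22811 → P i := stepQ 22810 Q22810 (allL N22810 (tt N23338 (iv F181604)) (tt N21610 F179392) (tt N21644 F179393) (tt N21776 F179394) (tt N21518 F179395) (tt N23964 (iv F184373)) (tt N21515 F179396) (tt N21630 F179397) (tt N21586 F179398) (tt N21513 (iv D38737)))
theorem Q22812 : ∀ i, i < 22812 → P i := stepQ 22811 Q22811 (allL N22811 (tt N23339 (iv F181612)) (tt N21611 F179399) (tt N23667 (iv F183277)) (tt N21777 F179400) (tt N21548 F179401) (tt N23963 (iv F184369)) (tt N21514 (iv D38738)) (tt N23965 D39892) (tt N23255 (iv F181075)) (tt N23797 (iv F183854)))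
theorem Q22813 : ∀ i, i < 22813 → P i := stepQ 22812 Q22812 (allL N22812 (tt N23341 (iv F181625)) (tt N21612 F179402) (tt N23140 (iv F180354)) (tt N21779 F179403) (tt N21549 F179404) (tt N21633 F179405) (tt N23965 (iv F184378)) (tt N21516 (iv D38739)) (tt N21735 F179406) (tt N23459 (iv F182280)))
theorem Q22814 : ∀ i, i < 22814 → P i := stepQ 22813 Q22813 (allL N22813 (tt N23342 (iv F181633)) (tt N21613 F179407) (tt N23959 (iv F184348)) (tt N21844 F179408) (tt N21517 (iv D38740)) (tt N23962 (iv F184364)) (tt N21550 F179409) (tt N21635 F179410) (tt N21545 F179411) (tt N23966 D39893))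
theorem Q22815 : ∀ i, i < 22815 → P i := stepQ 22814 Q22814 (allL N22814 (tt N23343 (iv F181639)) (tt N21614 F179412) (tt N21705 F179413) (tt N21519 F179414) (tt N23966 (iv F184383)) (tt N21518 F179415) (tt N21551 F179416) (tt N21636 F179417) (tt N23251 (iv F181047)) (tt N21517 (iv D38741)))
theorem Q22816 : ∀ i, i < 22816 → P i := stepQ 22815 Q22815 (allL N22815 (tt N23630 (iv F183121)) (tt N21523 F179418) (tt N21620 F179419) (tt N21770 F179420) (tt N21521 F179421) (tt N23967 D39894) (tt N21520 (iv D38742)) (tt N21603 F179422) (tt N21768 F179423) (tt N21536 F179424))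
theorem Q22817 : ∀ i, i < 22817 → P i := stepQ 22816 Q22816 (allL N22816 (tt N23163 (iv F180499)) (tt N21770 F179425) (tt N21723 F179426) (tt N21523 F179427) (tt N21691 F179428) (tt N23968 D39895) (tt N21522 (iv D38743)) (tt N21604 F179429) (tt N21767 F179430) (tt N21539 F179431))
theorem Q22818 : ∀ i, i < 22818 → P i := stepQ 22817 Q22817 (allL N22817 (tt N23319 (iv F181476)) (tt N23967 (iv F184386)) (tt N21527 F179432) (tt N23968 (iv F184394)) (tt N21576 F179433) (tt N21523 (iv D38744)) (tt N23555 (iv F182820)) (tt N21605 F179434) (tt N23969 D39896) (tt N21540 F179435))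
theorem Q22819 : ∀ i, i < 22819 → P i := stepQ 22818 Q22818 (allL N22818 (tt N23291 (iv F181290)) (tt N21768 F179436) (tt N21528 F179437) (tt N21767 F179438) (tt N21526 F179439) (tt N23970 D39897) (tt N21524 F179440) (tt N21606 F179441) (tt N21523 (iv D38745)) (tt N21785 F179442))
theorem Q22820 : ∀ i, i < 22820 → P i := stepQ 22819 Q22819 (allL N22819 (tt N23274 (iv F181200)) (tt N21737 F179443) (tt N21529 F179444) (tt N21735 F179445) (tt N22819 F179446) (tt N21524 (iv D38746)) (tt N23971 D39898) (tt N21525 F179447) (tt N21779 F179448) (tt N21743 F179449))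
theorem Q22821 : ∀ i, i < 22821 → P i := stepQ 22820 Q22820 (allL N22820 (tt N23300 (iv F181347)) (tt N21841 F179450) (tt N21531 F179451) (tt N21594 F179452) (tt N23972 D39899) (tt N21526 (iv D38747)) (tt N22820 F179453) (tt N21607 F179454) (tt N21582 F179455) (tt N21593 F179456))
theorem Q22822 : ∀ i, i < 22822 → P i := stepQ 22821 Q22821 (allL N22821 (tt N23320 (iv F181482)) (tt N21628 F179457) (tt N23969 (iv F184397)) (tt N21725 F179458) (tt N21584 F179459) (tt N23973 D39900) (tt N23556 (iv F182827)) (tt N21608 F179460) (tt N21527 (iv D38748)) (tt N23974 D39901))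
theorem Q22823 : ∀ i, i < 22823 → P i := stepQ 22822 Q22822 (allL N22822 (tt N23321 (iv F181488)) (tt N21629 F179461) (tt N23970 (iv F184401)) (tt N21726 F179462) (tt N23975 D39902) (tt N21528 (iv D38749)) (tt N23976 D39903) (tt N21609 F179463) (tt N23973 (iv F184422)) (tt N23203 (iv F180764)))
theorem Q22824 : ∀ i, i < 22824 → P i := stepQ 22823 Q22823 (allL N22823 (tt N23322 (iv F181493)) (tt N21631 F179464) (tt N23971 (iv F184406)) (tt N21727 F179465) (tt N22823 F179466) (tt N23976 (iv F184433)) (tt N21529 (iv D38750)) (tt N23977 D39904) (tt N23559 (iv F182848)) (tt N23204 (iv F180771)))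
theorem Q22825 : ∀ i, i < 22825 → P i := stepQ 22824 Q22824 (allL N22824 (tt N23265 (iv F181140)) (tt N21633 F179467) (tt N21741 F179468) (tt N21728 F179469) (tt N22824 F179470) (tt N21612 F179471) (tt N23977 (iv F184438)) (tt N21530 (iv D38751)) (tt N21771 F179472) (tt N23205 (iv F180779)))
theorem Q22826 : ∀ i, i < 22826 → P i := stepQ 22825 Q22825 (allL N22825 (tt N23323 (iv F181499)) (tt N21635 F179473) (tt N23972 (iv F184413)) (tt N23978 D39905) (tt N21531 (iv D38752)) (tt N23975 (iv F184429)) (tt N22825 F179474) (tt N21613 F179475) (tt N21591 F179476) (tt N23252 (iv F181053)))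
theorem Q22827 : ∀ i, i < 22827 → P i := stepQ 22826 Q22826 (allL N22826 (tt N23324 (iv F181505)) (tt N21637 F179477) (tt N23250 (iv F181034)) (tt N21532 (iv D38753)) (tt N23978 (iv F184441)) (tt N21730 F179478) (tt N22826 F179479) (tt N21615 F179480) (tt N21593 F179481) (tt N23253 (iv F181061)))
theorem Q22828 : ∀ i, i < 22828 → P i := stepQ 22827 Q22827 (allL N22827 (tt N21536 F179482) (tt N23545 (iv F182766)) (tt N21641 F179483) (tt N23633 (iv F183141)) (tt N21534 F179484) (tt N23979 D39906) (tt N21533 (iv D38754)) (tt N23691 (iv F183379)) (tt N23654 (iv F183231)) (tt N23630 F183128))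
theorem Q22829 : ∀ i, i < 22829 → P i := stepQ 22828 Q22828 (allL N22828 (tt N23633 (iv F183138)) (tt N21539 F179485) (tt N21776 F179486) (tt N21536 F179487) (tt N21773 F179488) (tt N23980 D39907) (tt N21535 (iv D38755)) (tt N21810 F179489) (tt N21791 F179490) (tt N21770 F179491))
theorem Q22830 : ∀ i, i < 22830 → P i := stepQ 22829 Q22829 (allL N22829 (tt N23979 (iv F184445)) (tt N21540 F179492) (tt N21645 F179493) (tt N23980 (iv F184449)) (tt N23955 (iv F184331)) (tt N21536 (iv D38756)) (tt N23788 (iv F183826)) (tt N23949 (iv F184303)) (tt N23981 D39908) (tt N23967 (iv F184391)))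
theorem Q22831 : ∀ i, i < 22831 → P i := stepQ 22830 Q22830 (allL N22830 (tt N23654 (iv F183225)) (tt N21541 F179494) (tt N21646 F179495) (tt N21791 F179496) (tt N21538 F179497) (tt N23982 D39909) (tt N21537 F179498) (tt N21829 F179499) (tt N21536 (iv D38757)) (tt N21788 F179500))
theorem Q22832 : ∀ i, i < 22832 → P i := stepQ 22831 Q22831 (allL N22831 (tt N23671 (iv F183293)) (tt N23980 (iv F184447)) (tt N21731 F179501) (tt N21540 F179502) (tt N23983 D39910) (tt N21539 (iv D38758)) (tt N23789 (iv F183829)) (tt N23156 (iv F180467)) (tt N23984 D39911) (tt N23968 (iv F184396)))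
theorem Q22833 : ∀ i, i < 22833 → P i := stepQ 22832 Q22832 (allL N22832 (tt N23947 (iv F184295)) (tt N23981 (iv F184452)) (tt N21543 F179503) (tt N23984 (iv F184462)) (tt N23957 (iv F184340)) (tt N23985 D39912) (tt N23790 (iv F183831)) (tt N23950 (iv F184307)) (tt N21540 (iv D38759)) (tt N23986 D39913))
theorem Q22834 : ∀ i, i < 22834 → P i := stepQ 22833 Q22833 (allL N22833 (tt N23669 (iv F183285)) (tt N23982 (iv F184454)) (tt N21544 F179504) (tt N21799 F179505) (tt N23987 D39914) (tt N21541 (iv D38760)) (tt N23408 (iv F182023)) (tt N23154 (iv F180457)) (tt N23985 (iv F184466)) (tt N23132 (iv F180302)))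
theorem Q22835 : ∀ i, i < 22835 → P i := stepQ 22834 Q22834 (allL N22834 (tt N23744 (iv F183578)) (tt N23223 (iv F180857)) (tt N21545 F179506) (tt N23164 (iv F180509)) (tt N21542 (iv D38761)) (tt N23987 (iv F184469)) (tt N21552 F179507) (tt N23951 (iv F184312)) (tt N23959 (iv F184352)) (tt N23143 (iv F180382)))
theorem Q22836 : ∀ i, i < 22836 → P i := stepQ 22835 Q22835 (allL N22835 (tt N23681 (iv F183329)) (tt N21661 F179508) (tt N23985 (iv F184464)) (tt N21733 F179509) (tt N23988 D39915) (tt N21543 (iv D38762)) (tt N23689 (iv F183367)) (tt N23952 (iv F184317)) (tt N21544 F179510) (tt N23989 D39916))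
theorem Q22837 : ∀ i, i < 22837 → P i := stepQ 22836 Q22836 (allL N22836 (tt N23948 (iv F184297)) (tt N21662 F179511) (tt N23986 (iv F184467)) (tt N21734 F179512) (tt N23961 (iv F184360)) (tt N23989 (iv F184475)) (tt N23793 (iv F183838)) (tt N23953 (iv F184322)) (tt N23974 (iv F184427)) (tt N21543 (iv D38763)))
theorem Q22838 : ∀ i, i < 22838 → P i := stepQ 22837 Q22837 (allL N22837 (tt N23680 (iv F183324)) (tt N21663 F179513) (tt N23987 (iv F184468)) (tt N21826 F179514) (tt N21544 (iv D38764)) (tt N21545 F179515) (tt N23688 (iv F183362)) (tt N23954 (iv F184327)) (tt N23988 (iv F184472)) (tt N23201 (iv F180754)))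
theorem Q22839 : ∀ i, i < 22839 → P i := stepQ 22838 Q22838 (allL N22838 (tt N23754 (iv F183626)) (tt N21710 F179516) (tt N21550 F179517) (tt N21853 F179518) (tt N21546 (iv D38765)) (tt N23753 (iv F183622)) (tt N23959 (iv F184350)) (tt N22838 F179519) (tt N21552 F179520) (tt N21711 F179521))
theorem Q22840 : ∀ i, i < 22840 → P i := stepQ 22839 Q22839 (allL N22839 (tt N23755 (iv F183634)) (tt N21671 F179522) (tt N23753 (iv F183620)) (tt N21847 (iv F179525)) (tt N21547 (iv D38766)) (tt N21550 F179523) (tt N23990 D39917) (tt N22839 F179524) (tt N23757 (iv F183656)) (tt N23811 (iv F183900)))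
theorem Q22841 : ∀ i, i < 22841 → P i := stepQ 22840 Q22840 (allL N22840 (tt N23776 (iv F183755)) (tt N21672 F179526) (tt N23743 (iv F183573)) (tt N22840 F179527) (tt N23990 (iv F184478)) (tt N21548 F179528) (tt N21547 (iv D38767)) (tt N23991 D39918) (tt N23606 (iv F183034)) (tt N23808 (iv F183884)))
theorem Q22842 : ∀ i, i < 22842 → P i := stepQ 22841 Q22841 (allL N22841 (tt N23748 (iv F183596)) (tt N21673 F179529) (tt N23141 (iv F180362)) (tt N22841 F179530) (tt N23965 (iv F184377)) (tt N23991 (iv F184481)) (tt N21549 F179531) (tt N21548 (iv D38768)) (tt N21736 F179532) (tt N23481 (iv F182390)))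
theorem Q22843 : ∀ i, i < 22843 → P i := stepQ 22842 Q22842 (allL N22842 (tt N23756 (iv F183642)) (tt N21675 F179533) (tt N21711 F179534) (tt N21848 F179535) (tt N21551 F179536) (tt N23811 (iv F183898)) (tt N23966 (iv F184384)) (tt N22842 F179537) (tt N23229 (iv F180901)) (tt N21550 (iv D38769)))
theorem Q22844 : ∀ i, i < 22844 → P i := stepQ 22843 Q22843 (allL N22843 (tt N23414 (iv F182049)) (tt N21556 F179538) (tt N21632 F179539) (tt N21554 F179540) (tt N22843 F179541) (tt N21570 F179542) (tt N23992 D39919) (tt N21553 (iv D38770)) (tt N23426 (iv F182115)) (tt N21625 F179543))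
theorem Q22845 : ∀ i, i < 22845 → P i := stepQ 22844 Q22844 (allL N22844 (tt N23720 (iv F183484)) (tt N21558 F179544) (tt N23380 (iv F181856)) (tt N23992 (iv F184486)) (tt N21555 F179545) (tt N23993 D39920) (tt N21554 (iv D38771)) (tt N23513 (iv F182598)) (tt N23707 (iv F183445)) (tt N23497 (iv F182493)))
theorem Q22846 : ∀ i, i < 22846 → P i := stepQ 22845 Q22845 (allL N22845 (tt N23303 (iv F181369)) (tt N23992 (iv F184484)) (tt N21745 F179546) (tt N21558 F179547) (tt N22845 F179548) (tt N23994 D39921) (tt N21556 (iv D38772)) (tt N23514 (iv F182605)) (tt N23995 D39922) (tt N23498 (iv F182500)))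
theorem Q22847 : ∀ i, i < 22847 → P i := stepQ 22846 Q22846 (allL N22846 (tt N23304 (iv F181376)) (tt N23426 (iv F182109)) (tt N21746 F179549) (tt N21559 F179550) (tt N22846 F179551) (tt N23437 (iv F182177)) (tt N23995 (iv F184497)) (tt N21557 F179552) (tt N21556 (iv D38773)) (tt N23180 (iv F180623)))
theorem Q22848 : ∀ i, i < 22848 → P i := stepQ 22847 Q22847 (allL N22847 (tt N23305 (iv F181384)) (tt N23993 (iv F184489)) (tt N21562 F179553) (tt N23994 (iv F184492)) (tt N23555 (iv F182819)) (tt N21558 (iv D38774)) (tt N21576 F179554) (tt N23515 (iv F182611)) (tt N23996 D39923) (tt N23499 (iv F182506)))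
theorem Q22849 : ∀ i, i < 22849 → P i := stepQ 22848 Q22848 (allL N22848 (tt N23306 (iv F181391)) (tt N23707 (iv F183440)) (tt N21563 F179555) (tt N23995 (iv F184495)) (tt N21561 F179556) (tt N23997 D39924) (tt N21559 F179557) (tt N23516 (iv F182618)) (tt N21558 (iv D38775)) (tt N23579 (iv F182923)))
theorem Q22850 : ∀ i, i < 22850 → P i := stepQ 22849 Q22849 (allL N22849 (tt N23307 (iv F181397)) (tt N23585 (iv F182946)) (tt N21564 F179558) (tt N23437 (iv F182175)) (tt N22849 F179559) (tt N21559 (iv D38776)) (tt N23998 D39925) (tt N21560 F179560) (tt N21578 F179561) (tt N23316 (iv F181464)))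
theorem Q22851 : ∀ i, i < 22851 → P i := stepQ 22850 Q22850 (allL N22850 (tt N23309 (iv F181413)) (tt N23775 (iv F183748)) (tt N21566 F179562) (tt N22850 F179563) (tt N23999 D39926) (tt N21561 (iv D38777)) (tt N22850 F179564) (tt N21855 F179565) (tt N21859 F179566) (tt N23770 (iv F183730)))
theorem Q22852 : ∀ i, i < 22852 → P i := stepQ 22851 Q22851 (allL N22851 (tt N23311 (iv F181427)) (tt N23382 (iv F181869)) (tt N23996 (iv F184498)) (tt N21753 F179567) (tt N23556 (iv F182826)) (tt N24000 D39927) (tt N21584 F179568) (tt N23517 (iv F182625)) (tt N21562 (iv D38778)) (tt N24001 D39928))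
theorem Q22853 : ∀ i, i < 22853 → P i := stepQ 22852 Q22852 (allL N22852 (tt N23312 (iv F181433)) (tt N23383 (iv F181875)) (tt N23997 (iv F184500)) (tt N21754 F179569) (tt N24002 D39929) (tt N21563 (iv D38779)) (tt N24003 D39930) (tt N23518 (iv F182629)) (tt N24000 (iv F184509)) (tt N23862 (iv F184065)))
theorem Q22854 : ∀ i, i < 22854 → P i := stepQ 22853 Q22853 (allL N22853 (tt N23314 (iv F181444)) (tt N23280 (iv F181239)) (tt N23998 (iv F184501)) (tt N21756 F179570) (tt N22853 F179571) (tt N24003 (iv F184514)) (tt N21564 (iv D38780)) (tt N24004 D39931) (tt N21587 F179572) (tt N23863 (iv F184069)))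
theorem Q22855 : ∀ i, i < 22855 → P i := stepQ 22854 Q22854 (allL N22854 (tt N23316 (iv F181457)) (tt N23262 (iv F181120)) (tt N23315 (iv F181451)) (tt N21758 F179573) (tt N22854 F179574) (tt N23308 (iv F181410)) (tt N24004 (iv F184517)) (tt N21565 (iv D38781)) (tt N21589 F179575) (tt N23307 F181404))
theorem Q22856 : ∀ i, i < 22856 → P i := stepQ 22855 Q22855 (allL N22855 (tt N23317 (iv F181465)) (tt N23384 (iv F181881)) (tt N23999 (iv F184504)) (tt N24005 D39932) (tt N21566 (iv D38782)) (tt N24002 (iv F184512)) (tt N22855 F179576) (tt N23520 (iv F182642)) (tt N23560 (iv F182854)) (tt N23864 (iv F184074)))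
theorem Q22857 : ∀ i, i < 22857 → P i := stepQ 22856 Q22856 (allL N22856 (tt N23318 (iv F181470)) (tt N23385 (iv F181888)) (tt N24006 D39933) (tt N21567 (iv D38783)) (tt N24005 (iv F184519)) (tt N21763 F179577) (tt N22856 F179578) (tt N23521 (iv F182649)) (tt N23483 (iv F182399)) (tt N23931 (iv F184245)))
theorem Q22858 : ∀ i, i < 22858 → P i := stepQ 22857 Q22857 (allL N22857 (tt N21571 F179579) (tt N23345 (iv F181656)) (tt N23691 (iv F183375)) (tt N23412 (iv F182039)) (tt N21569 F179580) (tt N24007 D39934) (tt N21568 (iv D38784)) (tt N21641 F179581) (tt N23448 (iv F182224)) (tt N23409 F182031))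
theorem Q22859 : ∀ i, i < 22859 → P i := stepQ 22858 Q22858 (allL N22858 (tt N23412 (iv F182037)) (tt N21574 F179582) (tt N21630 F179583) (tt N21571 F179584) (tt N21627 F179585) (tt N24008 D39935) (tt N21570 (iv D38785)) (tt N21644 F179586) (tt N21656 F179587) (tt N21624 F179588))
theorem Q22860 : ∀ i, i < 22860 → P i := stepQ 22859 Q22859 (allL N22859 (tt N24007 (iv F184524)) (tt N21576 F179589) (tt N23949 (iv F184300)) (tt N24008 (iv F184528)) (tt N23967 (iv F184389)) (tt N21571 (iv D38786)) (tt N23993 (iv F184490)) (tt N21645 F179590) (tt N24009 D39936) (tt N23955 (iv F184333)))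
theorem Q22861 : ∀ i, i < 22861 → P i := stepQ 22860 Q22860 (allL N22860 (tt N23448 (iv F182218)) (tt N21577 F179591) (tt N21829 F179592) (tt N21656 F179593) (tt N21573 F179594) (tt N24010 D39937) (tt N21572 F179595) (tt N21646 F179596) (tt N21571 (iv D38787)) (tt N21651 F179597))
theorem Q22862 : ∀ i, i < 22862 → P i := stepQ 22861 Q22861 (allL N22861 (tt N23495 (iv F182470)) (tt N21582 F179598) (tt N21846 F179599) (tt N21696 F179600) (tt N24011 D39938) (tt N21573 (iv D38788)) (tt N22861 F179601) (tt N21648 F179602) (tt N21841 F179603) (tt N21708 F179604))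
theorem Q22863 : ∀ i, i < 22863 → P i := stepQ 22862 Q22862 (allL N22862 (tt N23357 (iv F181735)) (tt N24008 (iv F184526)) (tt N21787 F179605) (tt N21576 F179606) (tt N24012 D39939) (tt N21574 (iv D38789)) (tt N23994 (iv F184493)) (tt N21650 F179607) (tt N24013 D39940) (tt N23956 (iv F184338)))
theorem Q22864 : ∀ i, i < 22864 → P i := stepQ 22863 Q22863 (allL N22863 (tt N23358 (iv F181739)) (tt N21656 F179608) (tt N21788 F179609) (tt N21577 F179610) (tt N21649 F179611) (tt N24014 D39941) (tt N21575 F179612) (tt N21651 F179613) (tt N21574 (iv D38790)) (tt N21646 F179614))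
theorem Q22865 : ∀ i, i < 22865 → P i := stepQ 22864 Q22864 (allL N22864 (tt N23360 (iv F181754)) (tt N24009 (iv F184531)) (tt N21584 F179615) (tt N24013 (iv F184548)) (tt N23969 (iv F184398)) (tt N24015 D39942) (tt N23996 (iv F184499)) (tt N21654 F179616) (tt N21576 (iv D38791)) (tt N24016 D39943))
theorem Q22866 : ∀ i, i < 22866 → P i := stepQ 22865 Q22865 (allL N22865 (tt N23361 (iv F181757)) (tt N24010 (iv F184533)) (tt N21585 F179617) (tt N24014 (iv F184552)) (tt N24017 D39944) (tt N21577 (iv D38792)) (tt N24018 D39945) (tt N21655 F179618) (tt N24015 (iv F184557)) (tt N24019 D39946))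
theorem Q22867 : ∀ i, i < 22867 → P i := stepQ 22866 Q22866 (allL N22866 (tt N23362 (iv F181760)) (tt N21651 F179619) (tt N21586 F179620) (tt N21646 F179621) (tt N21583 F179622) (tt N24019 (iv F184568)) (tt N21579 F179623) (tt N21656 F179624) (tt N21644 F179625) (tt N21577 (iv D38793)))
theorem Q22868 : ∀ i, i < 22868 → P i := stepQ 22867 Q22867 (allL N22867 (tt N23363 (iv F181767)) (tt N23584 (iv F182940)) (tt N21587 F179626) (tt N23436 (iv F182169)) (tt N22867 F179627) (tt N24018 (iv F184564)) (tt N21578 (iv D38794)) (tt N24020 D39947) (tt N23998 (iv F184503)) (tt N24021 D39948))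
theorem Q22869 : ∀ i, i < 22869 → P i := stepQ 22868 Q22868 (allL N22868 (tt N23364 (iv F181770)) (tt N21652 F179628) (tt N21588 F179629) (tt N21647 F179630) (tt N22868 F179631) (tt N21579 F179632) (tt N24021 (iv F184577)) (tt N21581 F179633) (tt N23376 (iv F181837)) (tt N21578 (iv D38795)))
theorem Q22870 : ∀ i, i < 22870 → P i := stepQ 22869 Q22869 (allL N22869 (tt N23365 (iv F181778)) (tt N23535 (iv F182718)) (tt N21589 F179634) (tt N23348 (iv F181679)) (tt N22869 F179635) (tt N21658 F179636) (tt N24020 (iv F184572)) (tt N21580 (iv D38796)) (tt N23315 F181456) (tt N23375 (iv F181829)))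
theorem Q22871 : ∀ i, i < 22871 → P i := stepQ 22870 Q22870 (allL N22870 (tt N23366 (iv F181786)) (tt N24011 (iv F184538)) (tt N21591 F179637) (tt N24022 D39949) (tt N21582 (iv D38797)) (tt N24017 (iv F184561)) (tt N22870 F179638) (tt N21659 F179639) (tt N23972 (iv F184417)) (tt N24023 D39950))
theorem Q22872 : ∀ i, i < 22872 → P i := stepQ 22871 Q22871 (allL N22871 (tt N23367 (iv F181790)) (tt N21708 F179640) (tt N21592 F179641) (tt N21699 F179642) (tt N24023 (iv F184584)) (tt N21583 F179643) (tt N22871 F179644) (tt N21660 F179645) (tt N23253 (iv F181060)) (tt N21582 (iv D38798)))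
theorem Q22873 : ∀ i, i < 22873 → P i := stepQ 22872 Q22872 (allL N22872 (tt N23368 (iv F181797)) (tt N23952 (iv F184315)) (tt N24015 (iv F184555)) (tt N21792 F179646) (tt N24024 D39951) (tt N21584 (iv D38799)) (tt N24025 D39952) (tt N21661 F179647) (tt N21585 F179648) (tt N24026 D39953))
theorem Q22874 : ∀ i, i < 22874 → P i := stepQ 22873 Q22873 (allL N22873 (tt N23369 (iv F181801)) (tt N23953 (iv F184319)) (tt N24016 (iv F184558)) (tt N21793 F179649) (tt N23974 (iv F184425)) (tt N24026 (iv F184592)) (tt N24001 (iv F184511)) (tt N21662 F179650) (tt N23961 (iv F184362)) (tt N21584 (iv D38800)))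
theorem Q22875 : ∀ i, i < 22875 → P i := stepQ 22874 Q22874 (allL N22874 (tt N23370 (iv F181804)) (tt N23954 (iv F184324)) (tt N24017 (iv F184560)) (tt N24027 D39954) (tt N21585 (iv D38801)) (tt N21591 F179651) (tt N24028 D39955) (tt N21663 F179652) (tt N24024 (iv F184588)) (tt N24029 D39956))
theorem Q22876 : ∀ i, i < 22876 → P i := stepQ 22875 Q22875 (allL N22875 (tt N23371 (iv F181807)) (tt N23279 (iv F181234)) (tt N24018 (iv F184563)) (tt N21794 F179653) (tt N24028 (iv F184598)) (tt N21587 F179654) (tt N21585 (iv D38802)) (tt N24030 D39957) (tt N24025 (iv F184590)) (tt N24031 D39958))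
theorem Q22877 : ∀ i, i < 22877 → P i := stepQ 22876 Q22876 (allL N22876 (tt N23372 (iv F181810)) (tt N23186 (iv F180658)) (tt N24019 (iv F184566)) (tt N21795 F179655) (tt N24029 (iv F184600)) (tt N21586 F179656) (tt N24031 (iv F184608)) (tt N21665 F179657) (tt N24032 D39959) (tt N21585 (iv D38803)))
theorem Q22878 : ∀ i, i < 22878 → P i := stepQ 22877 Q22877 (allL N22877 (tt N23373 (iv F181814)) (tt N23261 (iv F181113)) (tt N24020 (iv F184570)) (tt N21796 F179658) (tt N22877 F179659) (tt N24030 (iv F184604)) (tt N21589 F179660) (tt N21587 (iv D38804)) (tt N24004 (iv F184518)) (tt N23603 (iv F183018)))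
theorem Q22879 : ∀ i, i < 22879 → P i := stepQ 22878 Q22878 (allL N22878 (tt N23374 (iv F181818)) (tt N23167 (iv F180529)) (tt N24021 (iv F184574)) (tt N21797 F179661) (tt N22878 F179662) (tt N24031 (iv F184607)) (tt N21588 F179663) (tt N23603 (iv F183017)) (tt N24033 D39960) (tt N21587 (iv D38805)))
theorem Q22880 : ∀ i, i < 22880 → P i := stepQ 22879 Q22879 (allL N22879 (tt N23375 (iv F181822)) (tt N23168 (iv F180536)) (tt N23376 (iv F181832)) (tt N21798 F179664) (tt N22879 F179665) (tt N23460 (iv F182286)) (tt N24033 (iv F184613)) (tt N21590 F179666) (tt N21588 (iv D38806)) (tt N23365 (iv F181785)))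
theorem Q22881 : ∀ i, i < 22881 → P i := stepQ 22880 Q22880 (allL N22880 (tt N23377 (iv F181838)) (tt N21842 F179667) (tt N23252 (iv F181050)) (tt N21591 (iv D38807)) (tt N21593 F179668) (tt N24027 (iv F184596)) (tt N22880 F179669) (tt N21667 F179670) (tt N23978 (iv F184444)) (tt N23972 (iv F184418)))
theorem Q22882 : ∀ i, i < 22882 → P i := stepQ 22881 Q22881 (allL N22881 (tt N23378 (iv F181843)) (tt N23246 (iv F181004)) (tt N24023 (iv F184583)) (tt N23972 (iv F184414)) (tt N21592 F179671) (tt N24029 (iv F184601)) (tt N22881 F179672) (tt N21668 F179673) (tt N24022 (iv F184581)) (tt N21591 (iv D38808)))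
theorem Q22883 : ∀ i, i < 22883 → P i := stepQ 22882 Q22882 (allL N22882 (tt N23379 (iv F181847)) (tt N23247 (iv F181011)) (tt N23253 (iv F181056)) (tt N21595 F179674) (tt N24022 (iv F184578)) (tt N23251 (iv F181044)) (tt N22882 F179675) (tt N21669 F179676) (tt N21592 (iv D38809)) (tt N23250 F181039))
theorem Q22884 : ∀ i, i < 22884 → P i := stepQ 22883 Q22883 (allL N22883 (tt N23381 (iv F181862)) (tt N23137 (iv F180331)) (tt N21597 F179677) (tt N23162 (iv F180496)) (tt N21799 F179678) (tt N21596 (iv D38810)) (tt N23386 (iv F181898)) (tt N21724 F179679) (tt N24034 D39961) (tt N21715 F179680))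
theorem Q22885 : ∀ i, i < 22885 → P i := stepQ 22884 Q22884 (allL N22884 (tt N23382 (iv F181868)) (tt N21774 F179681) (tt N24034 (iv F184614)) (tt N21608 F179682) (tt N21801 F179683) (tt N24035 D39962) (tt N23388 (iv F181912)) (tt N21725 F179684) (tt N21597 (iv D38811)) (tt N24036 D39963))
theorem Q22886 : ∀ i, i < 22886 → P i := stepQ 22885 Q22885 (allL N22885 (tt N23383 (iv F181874)) (tt N21775 F179685) (tt N23196 (iv F180717)) (tt N21609 F179686) (tt N24037 D39964) (tt N21598 (iv D38812)) (tt N24038 D39965) (tt N21726 F179687) (tt N24035 (iv F184620)) (tt N23188 (iv F180673)))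
theorem Q22887 : ∀ i, i < 22887 → P i := stepQ 22886 Q22886 (allL N22886 (tt N23280 (iv F181238)) (tt N21777 F179688) (tt N23198 (iv F180728)) (tt N21611 F179689) (tt N22886 F179690) (tt N24038 (iv F184631)) (tt N21599 (iv D38813)) (tt N24039 D39966) (tt N23256 (iv F181083)) (tt N23189 (iv F180679)))
theorem Q22888 : ∀ i, i < 22888 → P i := stepQ 22887 Q22887 (allL N22887 (tt N23262 (iv F181119)) (tt N21779 F179691) (tt N23199 (iv F180735)) (tt N21612 F179692) (tt N22887 F179693) (tt N21728 F179694) (tt N24039 (iv F184635)) (tt N21600 (iv D38814)) (tt N21737 F179695) (tt N23190 (iv F180687)))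
theorem Q22889 : ∀ i, i < 22889 → P i := stepQ 22888 Q22888 (allL N22888 (tt N23384 (iv F181880)) (tt N21782 F179696) (tt N23200 (iv F180743)) (tt N24040 D39967) (tt N21601 (iv D38815)) (tt N24037 (iv F184627)) (tt N22888 F179697) (tt N21729 F179698) (tt N21802 F179699) (tt N23191 (iv F180694)))
theorem Q22890 : ∀ i, i < 22890 → P i := stepQ 22889 Q22889 (allL N22889 (tt N23385 (iv F181887)) (tt N21784 F179700) (tt N23247 (iv F181012)) (tt N21602 (iv D38816)) (tt N24040 (iv F184638)) (tt N21615 F179701) (tt N22889 F179702) (tt N21730 F179703) (tt N21804 F179704) (tt N23248 (iv F181025)))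
theorem Q22891 : ∀ i, i < 22891 → P i := stepQ 22890 Q22890 (allL N22890 (tt N23690 (iv F183368)) (tt N21605 F179705) (tt N23955 (iv F184329)) (tt N21809 F179706) (tt N21645 F179707) (tt N21603 (iv D38817)) (tt N23533 (iv F182708)) (tt N23967 (iv F184390)) (tt N24041 D39968) (tt N23949 (iv F184304)))
theorem Q22892 : ∀ i, i < 22892 → P i := stepQ 22891 Q22891 (allL N22891 (tt N23161 (iv F180490)) (tt N21809 F179708) (tt N23162 (iv F180495)) (tt N21605 F179709) (tt N24042 D39969) (tt N21604 (iv D38818)) (tt N23149 (iv F180420)) (tt N23968 (iv F184395)) (tt N24043 D39970) (tt N23156 (iv F180468)))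
theorem Q22893 : ∀ i, i < 22893 → P i := stepQ 22892 Q22892 (allL N22892 (tt N23391 (iv F181926)) (tt N24041 (iv F184642)) (tt N21608 F179710) (tt N24043 (iv F184650)) (tt N21654 F179711) (tt N24044 D39971) (tt N23627 F183111) (tt N23969 (iv F184399)) (tt N21605 (iv D38819)) (tt N24045 D39972))
theorem Q22894 : ∀ i, i < 22894 → P i := stepQ 22893 Q22893 (allL N22893 (tt N23289 (iv F181279)) (tt N21807 F179712) (tt N21609 F179713) (tt N21806 F179714) (tt N24046 D39973) (tt N21606 (iv D38820)) (tt N23259 (iv F181101)) (tt N23970 (iv F184403)) (tt N24044 (iv F184655)) (tt N21824 F179715))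
theorem Q22895 : ∀ i, i < 22895 → P i := stepQ 22894 Q22894 (allL N22894 (tt N23299 (iv F181340)) (tt N21843 F179716) (tt N21613 F179717) (tt N21668 F179718) (tt N21607 (iv D38821)) (tt N24046 (iv F184661)) (tt N21670 F179719) (tt N23972 (iv F184416)) (tt N21659 F179720) (tt N21667 F179721))
theorem Q22896 : ∀ i, i < 22896 → P i := stepQ 22895 Q22895 (allL N22895 (tt N23392 (iv F181930)) (tt N23960 (iv F184354)) (tt N24044 (iv F184653)) (tt N24035 (iv F184618)) (tt N24047 D39974) (tt N21608 (iv D38822)) (tt N24048 D39975) (tt N23973 (iv F184421)) (tt N21609 F179722) (tt N24049 D39976))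
theorem Q22897 : ∀ i, i < 22897 → P i := stepQ 22896 Q22896 (allL N22896 (tt N23393 (iv F181933)) (tt N23961 (iv F184358)) (tt N24045 (iv F184656)) (tt N24036 (iv F184622)) (tt N21662 F179723) (tt N24049 (iv F184666)) (tt N23796 (iv F183848)) (tt N23974 (iv F184426)) (tt N23953 (iv F184323)) (tt N21608 (iv D38823)))
theorem Q22898 : ∀ i, i < 22898 → P i := stepQ 22897 Q22897 (allL N22897 (tt N23394 (iv F181937)) (tt N23962 (iv F184363)) (tt N24046 (iv F184659)) (tt N24050 D39977) (tt N21609 (iv D38824)) (tt N21613 F179724) (tt N24051 D39978) (tt N23975 (iv F184430)) (tt N24047 (iv F184664)) (tt N24052 D39979))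
theorem Q22899 : ∀ i, i < 22899 → P i := stepQ 22898 Q22898 (allL N22898 (tt N23282 (iv F181249)) (tt N23963 (iv F184367)) (tt N23259 (iv F181099)) (tt N24038 (iv F184630)) (tt N24051 (iv F184669)) (tt N21611 F179725) (tt N21609 (iv D38825)) (tt N24053 D39980) (tt N24048 (iv F184665)) (tt N23880 (iv F184110)))
theorem Q22900 : ∀ i, i < 22900 → P i := stepQ 22899 Q22899 (allL N22899 (tt N23395 (iv F181940)) (tt N23964 (iv F184370)) (tt N21824 F179726) (tt N23188 (iv F180671)) (tt N24052 (iv F184672)) (tt N21610 F179727) (tt N23880 (iv F184109)) (tt N23203 (iv F180763)) (tt N24054 D39981) (tt N21609 (iv D38826)))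
theorem Q22901 : ∀ i, i < 22901 → P i := stepQ 22900 Q22900 (allL N22900 (tt N23264 (iv F181134)) (tt N23965 (iv F184375)) (tt N21740 F179728) (tt N24039 (iv F184633)) (tt N21673 F179729) (tt N24053 (iv F184675)) (tt N21612 F179730) (tt N21611 (iv D38827)) (tt N21738 F179731) (tt N23859 (iv F184054)))
theorem Q22902 : ∀ i, i < 22902 → P i := stepQ 22901 Q22901 (allL N22901 (tt N23396 (iv F181946)) (tt N21844 F179732) (tt N24055 D39982) (tt N21613 (iv D38828)) (tt N21615 F179733) (tt N24050 (iv F184668)) (tt N21674 F179734) (tt N23978 (iv F184443)) (tt N21667 F179735) (tt N24056 D39983))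
theorem Q22903 : ∀ i, i < 22903 → P i := stepQ 22902 Q22902 (allL N22902 (tt N23397 (iv F181951)) (tt N23966 (iv F184380)) (tt N21667 F179736) (tt N24056 (iv F184684)) (tt N21614 F179737) (tt N24052 (iv F184673)) (tt N21675 F179738) (tt N23252 (iv F181052)) (tt N24055 (iv F184680)) (tt N21613 (iv D38829)))
theorem Q22904 : ∀ i, i < 22904 → P i := stepQ 22903 Q22903 (allL N22903 (tt N23398 (iv F181957)) (tt N23251 (iv F181041)) (tt N21615 F179739) (tt N21617 F179740) (tt N24055 (iv F184678)) (tt N23247 (iv F181014)) (tt N21676 F179741) (tt N23250 (iv F181037)) (tt N21614 (iv D38830)) (tt N21669 F179742))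
theorem Q22905 : ∀ i, i < 22905 → P i := stepQ 22904 Q22904 (allL N22904 (tt N23399 (iv F181965)) (tt N21823 F179743) (tt N21669 F179744) (tt N21616 F179745) (tt N24056 (iv F184685)) (tt N23248 (iv F181021)) (tt N21677 F179746) (tt N23253 (iv F181059)) (tt N21660 F179747) (tt N21615 (iv D38831)))
theorem Q22906 : ∀ i, i < 22906 → P i := stepQ 22905 Q22905 (allL N22905 (tt N21620 F179748) (tt N23400 (iv F181974)) (tt N23630 (iv F183123)) (tt N23333 (iv F181573)) (tt N21619 F179749) (tt N24057 D39984) (tt N21618 (iv D38832)) (tt N23409 (iv F182030)) (tt N23331 (iv F181563)) (tt N21641 F179750))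
theorem Q22907 : ∀ i, i < 22907 → P i := stepQ 22906 Q22906 (allL N22906 (tt N24057 (iv F184688)) (tt N21623 F179751) (tt N23967 (iv F184387)) (tt N23958 (iv F184344)) (tt N23949 (iv F184302)) (tt N21620 (iv D38833)) (tt N23668 (iv F183283)) (tt N23955 (iv F184332)) (tt N24058 D39985) (tt N21645 F179752))
theorem Q22908 : ∀ i, i < 22908 → P i := stepQ 22907 Q22907 (allL N22907 (tt N23485 (iv F182408)) (tt N21626 F179753) (tt N21841 F179754) (tt N21693 F179755) (tt N24059 D39986) (tt N21621 (iv D38834)) (tt N22907 F179756) (tt N21702 F179757) (tt N21846 F179758) (tt N21697 F179759))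
theorem Q22909 : ∀ i, i < 22909 → P i := stepQ 22908 Q22908 (allL N22908 (tt N23408 (iv F182020)) (tt N23958 (iv F184342)) (tt N21807 F179760) (tt N21623 F179761) (tt N24060 D39987) (tt N21622 (iv D38835)) (tt N23669 (iv F183288)) (tt N23956 (iv F184337)) (tt N24061 D39988) (tt N21650 F179762))
theorem Q22910 : ∀ i, i < 22910 → P i := stepQ 22909 Q22909 (allL N22909 (tt N23410 (iv F182032)) (tt N24058 (iv F184690)) (tt N21628 F179763) (tt N24061 (iv F184702)) (tt N23950 (iv F184306)) (tt N24062 D39989) (tt N23670 (iv F183292)) (tt N23957 (iv F184341)) (tt N21623 (iv D38836)) (tt N24063 D39990))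
theorem Q22911 : ∀ i, i < 22911 → P i := stepQ 22910 Q22910 (allL N22910 (tt N23411 (iv F182035)) (tt N23956 (iv F184334)) (tt N21629 F179764) (tt N23955 (iv F184330)) (tt N24064 D39991) (tt N21624 (iv D38837)) (tt N24065 D39992) (tt N23958 (iv F184345)) (tt N24062 (iv F184704)) (tt N24008 (iv F184530)))
theorem Q22912 : ∀ i, i < 22912 → P i := stepQ 22911 Q22911 (allL N22911 (tt N23413 (iv F182044)) (tt N23498 (iv F182495)) (tt N21631 F179765) (tt N23497 (iv F182489)) (tt N22911 F179766) (tt N24065 (iv F184710)) (tt N21625 (iv D38838)) (tt N23522 (iv F182656)) (tt N23530 (iv F182690)) (tt N23992 (iv F184488)))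
theorem Q22913 : ∀ i, i < 22913 → P i := stepQ 22912 Q22912 (allL N22912 (tt N23416 (iv F182065)) (tt N24059 (iv F184691)) (tt N21635 F179767) (tt N24066 D39993) (tt N21626 (iv D38839)) (tt N24064 (iv F184708)) (tt N22912 F179768) (tt N23959 (iv F184351)) (tt N23951 (iv F184313)) (tt N24067 D39994))
theorem Q22914 : ∀ i, i < 22914 → P i := stepQ 22913 Q22913 (allL N22913 (tt N23417 (iv F182068)) (tt N21697 F179769) (tt N21636 F179770) (tt N21695 F179771) (tt N24067 (iv F184721)) (tt N21627 F179772) (tt N22913 F179773) (tt N21705 F179774) (tt N23248 (iv F181024)) (tt N21626 (iv D38840)))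
theorem Q22915 : ∀ i, i < 22915 → P i := stepQ 22914 Q22914 (allL N22914 (tt N23418 (iv F182076)) (tt N23973 (iv F184419)) (tt N24062 (iv F184703)) (tt N21813 F179775) (tt N24068 D39995) (tt N21628 (iv D38841)) (tt N24069 D39996) (tt N23960 (iv F184356)) (tt N21629 F179776) (tt N24070 D39997))
theorem Q22916 : ∀ i, i < 22916 → P i := stepQ 22915 Q22915 (allL N22915 (tt N23419 (iv F182079)) (tt N23974 (iv F184423)) (tt N24063 (iv F184705)) (tt N21814 F179777) (tt N23953 (iv F184321)) (tt N24070 (iv F184728)) (tt N23674 (iv F183306)) (tt N23961 (iv F184361)) (tt N21662 F179778) (tt N21628 (iv D38842)))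
theorem Q22917 : ∀ i, i < 22917 → P i := stepQ 22916 Q22916 (allL N22916 (tt N23420 (iv F182083)) (tt N23975 (iv F184428)) (tt N24064 (iv F184707)) (tt N24071 D39998) (tt N21629 (iv D38843)) (tt N21635 F179779) (tt N24072 D39999) (tt N23962 (iv F184365)) (tt N24068 (iv F184724)) (tt N24073 D40000))
theorem Q22918 : ∀ i, i < 22918 → P i := stepQ 22917 Q22917 (allL N22917 (tt N23421 (iv F182085)) (tt N23976 (iv F184431)) (tt N24065 (iv F184709)) (tt N21816 F179780) (tt N24072 (iv F184732)) (tt N21631 F179781) (tt N21629 (iv D38844)) (tt N24074 D40001) (tt N24069 (iv F184726)) (tt N24075 D40002))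
theorem Q22919 : ∀ i, i < 22919 → P i := stepQ 22918 Q22918 (allL N22918 (tt N23422 (iv F182088)) (tt N23203 (iv F180760)) (tt N24008 (iv F184527)) (tt N21817 F179782) (tt N24073 (iv F184734)) (tt N21630 F179783) (tt N24075 (iv F184740)) (tt N23964 (iv F184374)) (tt N24076 D40003) (tt N21629 (iv D38845)))
theorem Q22920 : ∀ i, i < 22920 → P i := stepQ 22919 Q22919 (allL N22919 (tt N23423 (iv F182091)) (tt N23977 (iv F184434)) (tt N23522 (iv F182653)) (tt N21818 F179784) (tt N22919 F179785) (tt N24074 (iv F184737)) (tt N21633 F179786) (tt N21631 (iv D38846)) (tt N23554 (iv F182815)) (tt N24077 D40004))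
theorem Q22921 : ∀ i, i < 22921 → P i := stepQ 22920 Q22920 (allL N22920 (tt N23424 (iv F182096)) (tt N23204 (iv F180766)) (tt N23992 (iv F184485)) (tt N21819 F179787) (tt N22920 F179788) (tt N24075 (iv F184739)) (tt N21632 F179789) (tt N24077 (iv F184746)) (tt N23715 (iv F183474)) (tt N21631 (iv D38847)))
theorem Q22922 : ∀ i, i < 22922 → P i := stepQ 22921 Q22921 (allL N22921 (tt N23426 (iv F182108)) (tt N23205 (iv F180773)) (tt N23425 (iv F182102)) (tt N21820 F179790) (tt N22921 F179791) (tt N23459 (iv F182278)) (tt N24077 (iv F184745)) (tt N21634 F179792) (tt N23414 (iv F182056)) (tt N21633 (iv D38848)))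
theorem Q22923 : ∀ i, i < 22923 → P i := stepQ 22922 Q22922 (allL N22922 (tt N23427 (iv F182116)) (tt N23978 (iv F184440)) (tt N24078 D40005) (tt N21635 (iv D38849)) (tt N21637 F179793) (tt N24071 (iv F184730)) (tt N22922 F179794) (tt N21844 F179795) (tt N21842 F179796) (tt N24079 D40006))
theorem Q22924 : ∀ i, i < 22924 → P i := stepQ 22923 Q22923 (allL N22923 (tt N23428 (iv F182121)) (tt N23252 (iv F181049)) (tt N24067 (iv F184719)) (tt N24079 (iv F184754)) (tt N21636 F179797) (tt N24073 (iv F184735)) (tt N22923 F179798) (tt N23966 (iv F184385)) (tt N24080 D40007) (tt N21635 (iv D38850)))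
theorem Q22925 : ∀ i, i < 22925 → P i := stepQ 22924 Q22924 (allL N22924 (tt N23429 (iv F182124)) (tt N23250 (iv F181033)) (tt N23248 (iv F181020)) (tt N21639 F179799) (tt N24080 (iv F184760)) (tt N21669 F179800) (tt N22924 F179801) (tt N23251 (iv F181046)) (tt N21636 (iv D38851)) (tt N23247 (iv F181017)))
theorem Q22926 : ∀ i, i < 22926 → P i := stepQ 22925 Q22925 (allL N22925 (tt N23430 (iv F182131)) (tt N23248 (iv F181019)) (tt N21637 (iv D38852)) (tt N21698 F179802) (tt N24078 (iv F184748)) (tt N21823 F179803) (tt N22925 F179804) (tt N21707 F179805) (tt N21697 F179806) (tt N21784 (iv F179807)))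
theorem Q22927 : ∀ i, i < 22927 → P i := stepQ 22926 Q22926 (allL N22926 (tt N23431 (iv F182138)) (tt N23253 (iv F181055)) (tt N21784 F179808) (tt N21638 F179809) (tt N24079 (iv F184755)) (tt N21707 F179810) (tt N22926 F179811) (tt N21823 F179812) (tt N21708 F179813) (tt N21637 (iv D38853)))
theorem Q22928 : ∀ i, i < 22928 → P i := stepQ 22927 Q22927 (allL N22927 (tt N21644 F179814) (tt N23432 (iv F182146)) (tt N23338 (iv F181606)) (tt N21641 F179815) (tt N21704 F179816) (tt N24081 D40008) (tt N21640 (iv D38854)) (tt N23412 (iv F182042)) (tt N23362 (iv F181766)) (tt N23333 F181577))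
theorem Q22929 : ∀ i, i < 22929 → P i := stepQ 22928 Q22928 (allL N22928 (tt N21645 F179817) (tt N23433 (iv F182150)) (tt N23979 (iv F184446)) (tt N24081 (iv F184763)) (tt N23690 (iv F183371)) (tt N21641 (iv D38855)) (tt N23649 (iv F183207)) (tt N24007 (iv F184525)) (tt N24082 D40009) (tt N24057 (iv F184689)))
theorem Q22930 : ∀ i, i < 22930 → P i := stepQ 22929 Q22929 (allL N22929 (tt N21646 F179818) (tt N23434 (iv F182155)) (tt N23654 (iv F183226)) (tt N23362 (iv F181762)) (tt N21643 F179819) (tt N24083 D40010) (tt N21642 F179820) (tt N23448 (iv F182223)) (tt N21641 (iv D38856)) (tt N23358 (iv F181745)))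
theorem Q22931 : ∀ i, i < 22931 → P i := stepQ 22930 Q22930 (allL N22930 (tt N24081 (iv F184762)) (tt N21650 F179821) (tt N23964 (iv F184371)) (tt N21645 F179822) (tt N24084 D40011) (tt N21644 (iv D38857)) (tt N23798 (iv F183857)) (tt N24008 (iv F184529)) (tt N24085 D40012) (tt N23958 (iv F184346)))
theorem Q22932 : ∀ i, i < 22932 → P i := stepQ 22931 Q22931 (allL N22931 (tt N24082 (iv F184764)) (tt N21654 F179823) (tt N23981 (iv F184453)) (tt N24085 (iv F184770)) (tt N24041 (iv F184644)) (tt N24086 D40013) (tt N23799 (iv F183859)) (tt N24009 (iv F184532)) (tt N21645 (iv D38858)) (tt N24087 D40014))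
theorem Q22933 : ∀ i, i < 22933 → P i := stepQ 22932 Q22932 (allL N22932 (tt N24083 (iv F184765)) (tt N21655 F179824) (tt N23982 (iv F184455)) (tt N24019 (iv F184567)) (tt N24088 D40015) (tt N21646 (iv D38859)) (tt N24089 D40016) (tt N24010 (iv F184536)) (tt N24086 (iv F184772)) (tt N24014 (iv F184554)))
theorem Q22934 : ∀ i, i < 22934 → P i := stepQ 22933 Q22933 (allL N22933 (tt N23605 (iv F183023)) (tt N21657 F179825) (tt N23402 (iv F181986)) (tt N24021 (iv F184575)) (tt N21679 F179826) (tt N24089 (iv F184777)) (tt N21647 (iv D38860)) (tt N23666 (iv F183275)) (tt N23602 (iv F183012)) (tt N23436 (iv F182171)))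
theorem Q22935 : ∀ i, i < 22935 → P i := stepQ 22934 Q22934 (allL N22934 (tt N23745 (iv F183582)) (tt N21659 F179827) (tt N23223 (iv F180858)) (tt N23249 (iv F181029)) (tt N21648 (iv D38861)) (tt N24088 (iv F184775)) (tt N21680 F179828) (tt N24011 (iv F184541)) (tt N21843 F179829) (tt N23222 F180855))
theorem Q22936 : ∀ i, i < 22936 → P i := stepQ 22935 Q22935 (allL N22935 (tt N23445 (iv F182209)) (tt N24084 (iv F184766)) (tt N21826 F179830) (tt N24042 (iv F184647)) (tt N21650 (iv D38862)) (tt N21706 F179831) (tt N23800 (iv F183862)) (tt N24012 (iv F184546)) (tt N24090 D40017) (tt N24060 (iv F184700)))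
theorem Q22937 : ∀ i, i < 22937 → P i := stepQ 22936 Q22936 (allL N22936 (tt N23446 (iv F182212)) (tt N24085 (iv F184769)) (tt N21827 F179832) (tt N21654 F179833) (tt N24090 (iv F184779)) (tt N24091 D40018) (tt N23801 (iv F183865)) (tt N24013 (iv F184549)) (tt N21650 (iv D38863)) (tt N24092 D40019))
theorem Q22938 : ∀ i, i < 22938 → P i := stepQ 22937 Q22937 (allL N22937 (tt N23447 (iv F182215)) (tt N24019 (iv F184565)) (tt N21828 F179834) (tt N21655 F179835) (tt N24093 D40020) (tt N21651 (iv D38864)) (tt N24094 D40021) (tt N24014 (iv F184553)) (tt N24091 (iv F184782)) (tt N24010 (iv F184537)))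
theorem Q22939 : ∀ i, i < 22939 → P i := stepQ 22938 Q22938 (allL N22938 (tt N23449 (iv F182225)) (tt N24021 (iv F184573)) (tt N21830 F179836) (tt N21657 F179837) (tt N22938 F179838) (tt N24094 (iv F184789)) (tt N21652 (iv D38865)) (tt N24095 D40022) (tt N23785 (iv F183813)) (tt N23584 (iv F182944)))
theorem Q22940 : ∀ i, i < 22940 → P i := stepQ 22939 Q22939 (allL N22939 (tt N23451 (iv F182239)) (tt N23375 (iv F181823)) (tt N21831 F179839) (tt N21658 F179840) (tt N22939 F179841) (tt N23348 (iv F181681)) (tt N24095 (iv F184793)) (tt N21653 (iv D38866)) (tt N23273 F181199) (tt N23535 (iv F182724)))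
theorem Q22941 : ∀ i, i < 22941 → P i := stepQ 22940 Q22940 (allL N22940 (tt N23452 (iv F182247)) (tt N24086 (iv F184771)) (tt N21661 F179842) (tt N24091 (iv F184781)) (tt N24096 D40023) (tt N21654 (iv D38867)) (tt N24097 D40024) (tt N24015 (iv F184556)) (tt N21655 F179843) (tt N24098 D40025))
theorem Q22942 : ∀ i, i < 22942 → P i := stepQ 22941 Q22941 (allL N22941 (tt N23453 (iv F182250)) (tt N24087 (iv F184773)) (tt N21662 F179844) (tt N24092 (iv F184784)) (tt N24045 (iv F184657)) (tt N24098 (iv F184799)) (tt N23802 (iv F183867)) (tt N24016 (iv F184559)) (tt N24063 (iv F184706)) (tt N21654 (iv D38868)))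
theorem Q22943 : ∀ i, i < 22943 → P i := stepQ 22942 Q22942 (allL N22942 (tt N23454 (iv F182252)) (tt N24088 (iv F184774)) (tt N21663 F179845) (tt N24099 D40026) (tt N21655 (iv D38869)) (tt N21659 F179846) (tt N24100 D40027) (tt N24017 (iv F184562)) (tt N24096 (iv F184795)) (tt N24101 D40028))
theorem Q22944 : ∀ i, i < 22944 → P i := stepQ 22943 Q22943 (allL N22943 (tt N23455 (iv F182255)) (tt N24089 (iv F184776)) (tt N21664 F179847) (tt N24094 (iv F184788)) (tt N24100 (iv F184802)) (tt N21657 F179848) (tt N21655 (iv D38870)) (tt N24102 D40029) (tt N24097 (iv F184797)) (tt N23709 (iv F183453)))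
theorem Q22945 : ∀ i, i < 22945 → P i := stepQ 22944 Q22944 (allL N22944 (tt N23456 (iv F182259)) (tt N24014 (iv F184550)) (tt N21665 F179849) (tt N24010 (iv F184535)) (tt N24101 (iv F184805)) (tt N21656 F179850) (tt N23709 (iv F183452)) (tt N24019 (iv F184569)) (tt N24103 D40030) (tt N21655 (iv D38871)))
theorem Q22946 : ∀ i, i < 22946 → P i := stepQ 22945 Q22945 (allL N22945 (tt N23457 (iv F182262)) (tt N23666 (iv F183272)) (tt N21666 F179851) (tt N24095 (iv F184791)) (tt N21683 F179852) (tt N24102 (iv F184808)) (tt N21658 F179853) (tt N21657 (iv D38872)) (tt N23552 F182801) (tt N23645 (iv F183191)))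
theorem Q22947 : ∀ i, i < 22947 → P i := stepQ 22946 Q22946 (allL N22946 (tt N23461 (iv F182289)) (tt N23249 (iv F181027)) (tt N24056 (iv F184683)) (tt N21659 (iv D38873)) (tt N21669 F179854) (tt N24099 (iv F184800)) (tt N21684 F179855) (tt N24022 (iv F184580)) (tt N21668 F179856) (tt N24055 F184681))
theorem Q22948 : ∀ i, i < 22948 → P i := stepQ 22947 Q22947 (allL N22947 (tt N23462 (iv F182293)) (tt N23222 (iv F180850)) (tt N21668 F179857) (tt N24055 (iv F184677)) (tt N21660 F179858) (tt N24101 (iv F184806)) (tt N21685 F179859) (tt N24023 (iv F184586)) (tt N24056 (iv F184687)) (tt N21659 (iv D38874)))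
theorem Q22949 : ∀ i, i < 22949 → P i := stepQ 22948 Q22948 (allL N22948 (tt N23463 (iv F182297)) (tt N23988 (iv F184470)) (tt N24096 (iv F184794)) (tt N24104 D40031) (tt N21661 (iv D38875)) (tt N24047 (iv F184663)) (tt N24105 D40032) (tt N24024 (iv F184587)) (tt N21663 F179860) (tt N24106 D40033))
theorem Q22950 : ∀ i, i < 22950 → P i := stepQ 22949 Q22949 (allL N22949 (tt N23464 (iv F182299)) (tt N23689 (iv F183365)) (tt N24097 (iv F184796)) (tt N21837 F179861) (tt N24105 (iv F184813)) (tt N23803 (iv F183869)) (tt N21661 (iv D38876)) (tt N24107 D40034) (tt N21664 F179862) (tt N24108 D40035))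
theorem Q22951 : ∀ i, i < 22951 → P i := stepQ 22950 Q22950 (allL N22950 (tt N23465 (iv F182302)) (tt N23989 (iv F184473)) (tt N24098 (iv F184798)) (tt N21838 F179863) (tt N24106 (iv F184815)) (tt N21662 F179864) (tt N24108 (iv F184819)) (tt N24026 (iv F184593)) (tt N24109 D40036) (tt N21661 (iv D38877)))
theorem Q22952 : ∀ i, i < 22952 → P i := stepQ 22951 Q22951 (allL N22951 (tt N23466 (iv F182305)) (tt N21826 F179865) (tt N24052 (iv F184671)) (tt N21663 (iv D38878)) (tt N21824 F179866) (tt N21667 F179867) (tt N23881 (iv F184114)) (tt N24027 (iv F184597)) (tt N24104 (iv F184812)) (tt N24046 (iv F184662)))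
theorem Q22953 : ∀ i, i < 22953 → P i := stepQ 22952 Q22952 (allL N22952 (tt N23467 (iv F182308)) (tt N23688 (iv F183359)) (tt N24100 (iv F184801)) (tt N23881 (iv F184112)) (tt N21664 F179868) (tt N21688 F179869) (tt N21663 (iv D38879)) (tt N24110 D40037) (tt N24105 (iv F184814)) (tt N23711 (iv F183460)))
theorem Q22954 : ∀ i, i < 22954 → P i := stepQ 22953 Q22953 (allL N22953 (tt N23468 (iv F182311)) (tt N23201 (iv F180750)) (tt N24101 (iv F184804)) (tt N24046 (iv F184660)) (tt N21665 F179870) (tt N21668 F179871) (tt N23711 (iv F183459)) (tt N24029 (iv F184602)) (tt N24111 D40038) (tt N21663 (iv D38880)))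
theorem Q22955 : ∀ i, i < 22955 → P i := stepQ 22954 Q22954 (allL N22954 (tt N23469 (iv F182314)) (tt N23629 (iv F183117)) (tt N24102 (iv F184807)) (tt N21839 F179872) (tt N24110 (iv F184822)) (tt N21666 F179873) (tt N24030 (iv F184605)) (tt N21664 (iv D38881)) (tt N24107 (iv F184817)) (tt N23646 (iv F183195)))
theorem Q22956 : ∀ i, i < 22956 → P i := stepQ 22955 Q22955 (allL N22955 (tt N23471 (iv F182322)) (tt N23202 (iv F180756)) (tt N24103 (iv F184809)) (tt N21840 F179874) (tt N24111 (iv F184824)) (tt N24076 (iv F184742)) (tt N23712 (iv F183463)) (tt N24032 (iv F184610)) (tt N21665 (iv D38882)) (tt N24109 (iv F184821)))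
theorem Q22957 : ∀ i, i < 22957 → P i := stepQ 22956 Q22956 (allL N22956 (tt N23296 (iv F181321)) (tt N21847 F179875) (tt N23758 (iv F183658)) (tt N21671 (iv D38883)) (tt N22956 F179876) (tt N21674 F179877) (tt N24112 D40039) (tt N22956 F179878) (tt N23777 (iv F183767)) (tt N23943 (iv F184288)))
theorem Q22958 : ∀ i, i < 22958 → P i := stepQ 22957 Q22957 (allL N22957 (tt N23284 (iv F181259)) (tt N23990 (iv F184476)) (tt N23260 (iv F181106)) (tt N24112 (iv F184826)) (tt N21672 F179879) (tt N24051 (iv F184670)) (tt N21671 (iv D38884)) (tt N24113 D40040) (tt N23612 (iv F183055)) (tt N23937 (iv F184271)))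
theorem Q22959 : ∀ i, i < 22959 → P i := stepQ 22958 Q22958 (allL N22958 (tt N23267 (iv F181156)) (tt N23991 (iv F184479)) (tt N21742 F179880) (tt N22958 F179881) (tt N24113 (iv F184829)) (tt N21673 F179882) (tt N22958 F179883) (tt N21672 (iv D38885)) (tt N23173 (iv F180578)) (tt N23933 (iv F184255)))
theorem Q22960 : ∀ i, i < 22960 → P i := stepQ 22959 Q22959 (allL N22959 (tt N23474 (iv F182337)) (tt N23229 (iv F180897)) (tt N21674 (iv D38886)) (tt N21685 F179884) (tt N21676 F179885) (tt N23758 (iv F183660)) (tt N24055 (iv F184679)) (tt N22959 F179886) (tt N21675 F179887) (tt N21684 (iv F179888)))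
theorem Q22961 : ∀ i, i < 22961 → P i := stepQ 22960 Q22960 (allL N22960 (tt N23475 (iv F182344)) (tt N21848 F179889) (tt N21684 F179890) (tt N21675 F179891) (tt N21677 F179892) (tt N23943 (iv F184286)) (tt N24056 (iv F184686)) (tt N22960 F179893) (tt N21685 F179894) (tt N21674 (iv D38887)))
theorem Q22962 : ∀ i, i < 22962 → P i := stepQ 22961 Q22961 (allL N22961 (tt N23757 (iv F183650)) (tt N21681 F179895) (tt N23235 (iv F180934)) (tt N23254 (iv F181065)) (tt N21678 (iv D38888)) (tt N21680 F179896) (tt N24114 D40041) (tt N22961 F179897) (tt N23755 (iv F183640)) (tt N23233 F180927))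
theorem Q22963 : ∀ i, i < 22963 → P i := stepQ 22962 Q22962 (allL N22962 (tt N23606 (iv F183028)) (tt N21682 F179898) (tt N23244 (iv F180990)) (tt N22962 F179899) (tt N24114 (iv F184832)) (tt N21679 F179900) (tt N21678 (iv D38889)) (tt N23786 (iv F183818)) (tt N23776 (iv F183760)) (tt N23242 (iv F180982)))
theorem Q22964 : ∀ i, i < 22964 → P i := stepQ 22963 Q22963 (allL N22963 (tt N23477 (iv F182359)) (tt N23254 (iv F181063)) (tt N23943 (iv F184284)) (tt N21681 (iv D38890)) (tt N22963 F179901) (tt N21684 F179902) (tt N24115 D40042) (tt N22963 F179903) (tt N23761 (iv F183679)) (tt N23758 (iv F183662)))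
theorem Q22965 : ∀ i, i < 22965 → P i := stepQ 22964 Q22964 (allL N22964 (tt N23478 (iv F182365)) (tt N24114 (iv F184831)) (tt N21688 F179904) (tt N24115 (iv F184833)) (tt N21682 F179905) (tt N24100 (iv F184803)) (tt N21681 (iv D38891)) (tt N24116 D40043) (tt N23780 (iv F183784)) (tt N23746 (iv F183591)))
theorem Q22966 : ∀ i, i < 22966 → P i := stepQ 22965 Q22965 (allL N22965 (tt N23479 (iv F182370)) (tt N23786 (iv F183815)) (tt N21689 F179906) (tt N22965 F179907) (tt N24116 (iv F184836)) (tt N21683 F179908) (tt N22965 F179909) (tt N21682 (iv D38892)) (tt N23782 (iv F183796)) (tt N23739 (iv F183549)))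
theorem Q22967 : ∀ i, i < 22967 → P i := stepQ 22966 Q22966 (allL N22966 (tt N23443 (iv F182197)) (tt N23745 (iv F183583)) (tt N23780 (iv F183782)) (tt N23939 (iv F184276)) (tt N21687 F179910) (tt N24117 D40044) (tt N21686 (iv D38893)) (tt N24118 D40045) (tt N21688 F179911) (tt N23918 (iv F184200)))
theorem Q22968 : ∀ i, i < 22968 → P i := stepQ 22967 Q22967 (allL N22967 (tt N23355 (iv F181721)) (tt N23495 (iv F182471)) (tt N23782 (iv F183792)) (tt N21690 F179912) (tt N24118 (iv F184838)) (tt N23347 (iv F181672)) (tt N22967 F179913) (tt N21687 (iv D38894)) (tt N21689 F179914) (tt N23492 (iv F182459)))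
theorem Q22969 : ∀ i, i < 22969 → P i := stepQ 22968 Q22968 (allL N22968 (tt N23482 (iv F182391)) (tt N23738 (iv F183540)) (tt N24116 (iv F184835)) (tt N23934 (iv F184257)) (tt N21689 F179915) (tt N24110 (iv F184823)) (tt N22968 F179916) (tt N21688 (iv D38895)) (tt N24118 (iv F184840)) (tt N23741 (iv F183562)))
theorem Q22970 : ∀ i, i < 22970 → P i := stepQ 22969 Q22969 (allL N22969 (tt N23166 (iv F180520)) (tt N21772 F179917) (tt N21803 F179918) (tt N21692 F179919) (tt N24119 D40046) (tt N21691 (iv D38896)) (tt N22969 F179920) (tt N21701 F179921) (tt N21783 F179922) (tt N21800 F179923))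
theorem Q22971 : ∀ i, i < 22971 → P i := stepQ 22970 Q22970 (allL N22970 (tt N23487 (iv F182422)) (tt N24067 (iv F184718)) (tt N21842 F179924) (tt N24119 (iv F184843)) (tt N21697 (iv D38897)) (tt N24012 (iv F184545)) (tt N22970 F179925) (tt N21706 F179926) (tt N24078 (iv F184751)) (tt N24059 (iv F184697)))
theorem Q22972 : ∀ i, i < 22972 → P i := stepQ 22971 Q22971 (allL N22971 (tt N23165 (iv F180514)) (tt N21811 F179927) (tt N23164 (iv F180508)) (tt N21706 F179928) (tt N21701 (iv D38898)) (tt N24042 (iv F184648)) (tt N21709 F179929) (tt N24119 (iv F184845)) (tt N21822 F179930) (tt N23157 (iv F180476)))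
theorem Q22973 : ∀ i, i < 22973 → P i := stepQ 22972 Q22972 (allL N22972 (tt N23488 (iv F182426)) (tt N23959 (iv F184347)) (tt N21843 F179931) (tt N23157 (iv F180472)) (tt N21702 (iv D38899)) (tt N24060 (iv F184699)) (tt N21710 F179932) (tt N24059 (iv F184695)) (tt N23223 (iv F180863)) (tt N21706 F179933))
theorem Q22974 : ∀ i, i < 22974 → P i := stepQ 22973 Q22973 (allL N22973 (tt N23489 (iv F182432)) (tt N21800 F179934) (tt N21783 F179935) (tt N21703 (iv D38900)) (tt N24066 (iv F184712)) (tt N21773 F179936) (tt N22973 F179937) (tt N21812 F179938) (tt N21803 F179939) (tt N21772 F179940))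
theorem Q22975 : ∀ i, i < 22975 → P i := stepQ 22974 Q22974 (allL N22974 (tt N23696 (iv F183402)) (tt N21706 F179941) (tt N23966 (iv F184381)) (tt N21811 F179942) (tt N21705 (iv D38901)) (tt N24084 (iv F184768)) (tt N21711 F179943) (tt N24067 (iv F184723)) (tt N23211 (iv F180811)) (tt N23959 (iv F184353)))
theorem Q22976 : ∀ i, i < 22976 → P i := stepQ 22975 Q22975 (allL N22975 (tt N23493 (iv F182460)) (tt N23211 (iv F180808)) (tt N21844 F179944) (tt N21822 F179945) (tt N21707 F179946) (tt N24120 D40047) (tt N21712 F179947) (tt N24078 (iv F184750)) (tt N21706 (iv D38902)) (tt N21821 (iv F179948)))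
theorem Q22977 : ∀ i, i < 22977 → P i := stepQ 22976 Q22976 (allL N22976 (tt N23494 (iv F182466)) (tt N24023 (iv F184582)) (tt N21845 F179949) (tt N24080 (iv F184759)) (tt N21708 (iv D38903)) (tt N24093 (iv F184786)) (tt N22976 F179950) (tt N23222 (iv F180853)) (tt N24079 (iv F184758)) (tt N24011 (iv F184543)))
theorem Q22978 : ∀ i, i < 22978 → P i := stepQ 22977 Q22977 (allL N22977 (tt N23496 (iv F182478)) (tt N23226 (iv F180879)) (tt N21847 F179951) (tt N21858 F179952) (tt N22977 F179953) (tt N21712 (iv D38904)) (tt N24121 D40048) (tt N22977 F179954) (tt N23812 (iv F183907)) (tt N21856 F179955))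
theorem Q22979 : ∀ i, i < 22979 → P i := stepQ 22978 Q22978 (allL N22978 (tt N21725 F179956) (tt N23517 (iv F182621)) (tt N23687 (iv F183356)) (tt N23320 (iv F181484)) (tt N23148 (iv F180414)) (tt N23901 (iv F184165)) (tt N23508 (iv F182564)) (tt N23382 (iv F181873)) (tt N21713 (iv D38905)) (tt N24122 D40049))
theorem Q22980 : ∀ i, i < 22980 → P i := stepQ 22979 Q22979 (allL N22979 (tt N21734 F179957) (tt N23528 (iv F182676)) (tt N23685 (iv F183349)) (tt N23948 (iv F184298)) (tt N23795 (iv F183844)) (tt N23682 (iv F183336)) (tt N23814 (iv F183914)) (tt N23796 (iv F183849)) (tt N24122 (iv F184856)) (tt N21714 (iv D38906)))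
theorem Q22981 : ∀ i, i < 22981 → P i := stepQ 22980 Q22980 (allL N22980 (tt N23627 (iv F183106)) (tt N23134 (iv F180311)) (tt N21716 F179958) (tt N23158 (iv F180478)) (tt N23133 (iv F180306)) (tt N21766 F179959) (tt N23391 (iv F181929)) (tt N21732 F179960) (tt N21715 (iv D38907)) (tt N24123 D40050))
theorem Q22982 : ∀ i, i < 22982 → P i := stepQ 22981 Q22981 (allL N22981 (tt N23626 (iv F183101)) (tt N21792 F179961) (tt N21766 F179962) (tt N23952 (iv F184316)) (tt N21789 (iv F179965)) (tt N21716 (iv D38908)) (tt N23281 (iv F181248)) (tt N21733 F179963) (tt N21717 F179964) (tt N24124 D40051))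
theorem Q22983 : ∀ i, i < 22983 → P i := stepQ 22982 Q22982 (allL N22982 (tt N23796 (iv F183846)) (tt N21793 F179966) (tt N24123 (iv F184857)) (tt N23953 (iv F184320)) (tt N23135 (iv F180320)) (tt N24124 (iv F184863)) (tt N23393 (iv F181936)) (tt N21734 F179967) (tt N24036 (iv F184625)) (tt N21716 (iv D38909)))
theorem Q22984 : ∀ i, i < 22984 → P i := stepQ 22983 Q22983 (allL N22983 (tt N23686 (iv F183351)) (tt N21828 F179968) (tt N23186 (iv F180659)) (tt N21719 F179969) (tt N24125 D40052) (tt N21718 (iv D38910)) (tt N23569 (iv F182885)) (tt N23132 (iv F180301)) (tt N24126 D40053) (tt N23154 (iv F180458)))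
theorem Q22985 : ∀ i, i < 22985 → P i := stepQ 22984 Q22984 (allL N22984 (tt N23683 (iv F183339)) (tt N21832 F179970) (tt N21720 F179971) (tt N24126 (iv F184869)) (tt N21732 F179972) (tt N21825 F179973) (tt N23571 (iv F182895)) (tt N23133 (iv F180309)) (tt N21719 (iv D38911)) (tt N24127 D40054))
theorem Q22986 : ∀ i, i < 22986 → P i := stepQ 22985 Q22985 (allL N22985 (tt N23728 (iv F183512)) (tt N21732 F179974) (tt N21825 F179975) (tt N23192 (iv F180697)) (tt N21832 F179976) (tt N21720 (iv D38912)) (tt N23827 (iv F183956)) (tt N23134 (iv F180315)) (tt N21721 F179977) (tt N24128 D40055))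
theorem Q22987 : ∀ i, i < 22987 → P i := stepQ 22986 Q22986 (allL N22986 (tt N23795 (iv F183842)) (tt N21805 F179978) (tt N24127 (iv F184872)) (tt N23193 (iv F180702)) (tt N21734 F179979) (tt N24128 (iv F184878)) (tt N23575 (iv F182908)) (tt N23135 (iv F180322)) (tt N23159 (iv F180486)) (tt N21720 (iv D38913)))
theorem Q22988 : ∀ i, i < 22988 → P i := stepQ 22987 Q22987 (allL N22987 (tt N23595 (iv F182975)) (tt N21724 F179980) (tt N21806 F179981) (tt N23196 (iv F180718)) (tt N21835 F179982) (tt N21722 F179983) (tt N23526 (iv F182668)) (tt N23137 (iv F180336)) (tt N24129 D40056) (tt N21721 (iv D38914)))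
theorem Q22989 : ∀ i, i < 22989 → P i := stepQ 22988 Q22988 (allL N22988 (tt N23677 (iv F183313)) (tt N23196 (iv F180716)) (tt N23968 (iv F184393)) (tt N21724 F179984) (tt N24130 D40057) (tt N21723 (iv D38915)) (tt N23562 (iv F182864)) (tt N23162 (iv F180498)) (tt N24131 D40058) (tt N21731 F179985))
theorem Q22990 : ∀ i, i < 22990 → P i := stepQ 22989 Q22989 (allL N22989 (tt N23687 (iv F183355)) (tt N24129 (iv F184879)) (tt N21725 F179986) (tt N24131 (iv F184884)) (tt N23155 (iv F180461)) (tt N23220 (iv F180840)) (tt N23563 (iv F182868)) (tt N24034 (iv F184616)) (tt N21724 (iv D38916)) (tt N24132 D40059))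
theorem Q22991 : ∀ i, i < 22991 → P i := stepQ 22990 Q22990 (allL N22990 (tt N23901 (iv F184163)) (tt N21813 F179987) (tt N23220 (iv F180839)) (tt N23973 (iv F184420)) (tt N24133 D40060) (tt N21725 (iv D38917)) (tt N24134 D40061) (tt N24035 (iv F184619)) (tt N21726 F179988) (tt N24135 D40062))
theorem Q22992 : ∀ i, i < 22992 → P i := stepQ 22991 Q22991 (allL N22991 (tt N24122 (iv F184855)) (tt N21814 F179989) (tt N24132 (iv F184885)) (tt N23974 (iv F184424)) (tt N23159 (iv F180483)) (tt N24135 (iv F184892)) (tt N23565 (iv F182873)) (tt N24036 (iv F184624)) (tt N21734 F179990) (tt N21725 (iv D38918)))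
theorem Q22993 : ∀ i, i < 22993 → P i := stepQ 22992 Q22992 (allL N22992 (tt N23898 (iv F184153)) (tt N21815 F179991) (tt N23217 (iv F180829)) (tt N24136 D40063) (tt N21726 (iv D38919)) (tt N21729 F179992) (tt N24137 D40064) (tt N24037 (iv F184628)) (tt N24133 (iv F184888)) (tt N23208 (iv F180794)))
theorem Q22994 : ∀ i, i < 22994 → P i := stepQ 22993 Q22993 (allL N22993 (tt N23900 (iv F184159)) (tt N21816 F179993) (tt N23219 (iv F180835)) (tt N23976 (iv F184432)) (tt N24137 (iv F184896)) (tt N21727 F179994) (tt N21726 (iv D38920)) (tt N24138 D40065) (tt N24134 (iv F184890)) (tt N23209 (iv F180799)))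
theorem Q22995 : ∀ i, i < 22995 → P i := stepQ 22994 Q22994 (allL N22994 (tt N23902 (iv F184166)) (tt N21818 F179995) (tt N23221 (iv F180843)) (tt N23977 (iv F184436)) (tt N21851 F179996) (tt N24138 (iv F184899)) (tt N21728 F179997) (tt N21727 (iv D38921)) (tt N23553 (iv F182807)) (tt N23210 (iv F180806)))
theorem Q22996 : ∀ i, i < 22996 → P i := stepQ 22995 Q22995 (allL N22995 (tt N23810 (iv F183889)) (tt N21821 F179998) (tt N23249 (iv F181028)) (tt N21729 (iv D38922)) (tt N21730 F179999) (tt N24136 (iv F184894)) (tt N21852 F180000) (tt N24040 (iv F184640)) (tt N23143 (iv F180381)) (tt N23211 (iv F180812)))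
theorem Q22997 : ∀ i, i < 22997 → P i := stepQ 22996 Q22996 (allL N22996 (tt N23675 (iv F183308)) (tt N23194 (iv F180707)) (tt N23983 (iv F184459)) (tt N24125 (iv F184866)) (tt N21731 (iv D38923)) (tt N21802 F180001) (tt N23828 (iv F183958)) (tt N23160 (iv F180489)) (tt N24139 D40066) (tt N24130 (iv F184883)))
theorem Q22998 : ∀ i, i < 22998 → P i := stepQ 22997 Q22997 (allL N22997 (tt N23673 (iv F183301)) (tt N23192 (iv F180696)) (tt N23984 (iv F184461)) (tt N21732 F180002) (tt N24139 (iv F184900)) (tt N21801 F180003) (tt N23829 (iv F183960)) (tt N23158 (iv F180479)) (tt N21731 (iv D38924)) (tt N24140 D40067))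
theorem Q22999 : ∀ i, i < 22999 → P i := stepQ 22998 Q22998 (allL N22998 (tt N23685 (iv F183348)) (tt N24128 (iv F184875)) (tt N21734 F180004) (tt N24140 (iv F184901)) (tt N24127 (iv F184873)) (tt N21805 F180005) (tt N23830 (iv F183962)) (tt N24123 (iv F184859)) (tt N24132 (iv F184886)) (tt N21732 (iv D38925)))
theorem Q23000 : ∀ i, i < 23000 → P i := stepQ 22999 Q22999 (allL N22999 (tt N23682 (iv F183333)) (tt N21838 F180006) (tt N21805 F180007) (tt N23989 (iv F184474)) (tt N21833 F180008) (tt N21734 F180009) (tt N23693 (iv F183390)) (tt N24124 (iv F184864)) (tt N23207 (iv F180789)) (tt N21733 (iv D38926)))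
theorem Q23001 : ∀ i, i < 23001 → P i := stepQ 23000 Q23000 (allL N23000 (tt N23551 (iv F182789)) (tt N21738 F180010) (tt N23139 (iv F180347)) (tt N23971 (iv F184407)) (tt N21736 F180011) (tt N24141 D40068) (tt N21735 (iv D38927)) (tt N23255 (iv F181074)) (tt N23965 (iv F184379)) (tt N21744 F180012))
theorem Q23002 : ∀ i, i < 23002 → P i := stepQ 23001 Q23001 (allL N23001 (tt N23261 (iv F181112)) (tt N23971 (iv F184405)) (tt N23498 (iv F182496)) (tt N21738 F180013) (tt N23001 F180014) (tt N24142 D40069) (tt N21737 (iv D38928)) (tt N23256 (iv F181082)) (tt N24039 (iv F184636)) (tt N21745 F180015))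
theorem Q23003 : ∀ i, i < 23003 → P i := stepQ 23002 Q23002 (allL N23002 (tt N23263 (iv F181127)) (tt N24141 (iv F184903)) (tt N21739 F180016) (tt N24142 (iv F184907)) (tt N23169 (iv F180546)) (tt N21738 (iv D38929)) (tt N21769 F180017) (tt N23257 (iv F181089)) (tt N24143 D40070) (tt N21748 F180018))
theorem Q23004 : ∀ i, i < 23004 → P i := stepQ 23003 Q23003 (allL N23003 (tt N23269 (iv F181170)) (tt N23388 (iv F181909)) (tt N24143 (iv F184910)) (tt N23501 (iv F182516)) (tt N23175 (iv F180589)) (tt N24144 D40071) (tt N21774 F180019) (tt N23258 (iv F181096)) (tt N21739 (iv D38930)) (tt N24145 D40072))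
theorem Q23005 : ∀ i, i < 23005 → P i := stepQ 23004 Q23004 (allL N23004 (tt N23270 (iv F181176)) (tt N23389 (iv F181915)) (tt N24053 (iv F184674)) (tt N23502 (iv F182522)) (tt N24146 D40073) (tt N21740 (iv D38931)) (tt N24147 D40074) (tt N23259 (iv F181102)) (tt N24144 (iv F184912)) (tt N23860 (iv F184058)))
theorem Q23006 : ∀ i, i < 23006 → P i := stepQ 23005 Q23005 (allL N23005 (tt N23272 (iv F181187)) (tt N23256 (iv F181078)) (tt N23977 (iv F184435)) (tt N23255 (iv F181072)) (tt N23005 F180020) (tt N24147 (iv F184916)) (tt N21741 (iv D38932)) (tt N23971 (iv F184409)) (tt N21777 F180021) (tt N23838 (iv F183983)))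
theorem Q23007 : ∀ i, i < 23007 → P i := stepQ 23006 Q23006 (allL N23006 (tt N23275 (iv F181208)) (tt N23390 (iv F181920)) (tt N24113 (iv F184828)) (tt N23741 (iv F183559)) (tt N21742 (iv D38933)) (tt N24146 (iv F184915)) (tt N23006 F180022) (tt N23260 (iv F181109)) (tt N23181 (iv F180628)) (tt N23934 (iv F184260)))
theorem Q23008 : ∀ i, i < 23008 → P i := stepQ 23007 Q23007 (allL N23007 (tt N23785 (iv F183809)) (tt N21745 F180023) (tt N23204 (iv F180767)) (tt N21744 F180024) (tt N23007 F180025) (tt N24148 D40075) (tt N21743 (iv D38934)) (tt N23838 (iv F183982)) (tt N23449 (iv F182230)) (tt N23971 (iv F184411)))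
theorem Q23009 : ∀ i, i < 23009 → P i := stepQ 23008 Q23008 (allL N23008 (tt N23662 (iv F183259)) (tt N21748 F180026) (tt N23136 (iv F180326)) (tt N24148 (iv F184918)) (tt N21794 F180027) (tt N21744 (iv D38935)) (tt N21786 F180028) (tt N23839 (iv F183987)) (tt N24149 D40076) (tt N24141 (iv F184906)))
theorem Q23010 : ∀ i, i < 23010 → P i := stepQ 23009 Q23009 (allL N23009 (tt N23607 (iv F183036)) (tt N24148 (iv F184917)) (tt N23994 (iv F184491)) (tt N21748 F180029) (tt N24150 D40077) (tt N21745 (iv D38936)) (tt N21787 F180030) (tt N23840 (iv F183990)) (tt N24151 D40078) (tt N24142 (iv F184909)))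
theorem Q23011 : ∀ i, i < 23011 → P i := stepQ 23010 Q23010 (allL N23010 (tt N23608 (iv F183039)) (tt N23449 (iv F182226)) (tt N23995 (iv F184494)) (tt N21749 F180031) (tt N23010 F180032) (tt N24152 D40079) (tt N21746 F180033) (tt N23841 (iv F183994)) (tt N21745 (iv D38937)) (tt N24153 D40080))
theorem Q23012 : ∀ i, i < 23012 → P i := stepQ 23011 Q23011 (allL N23011 (tt N23353 (iv F181705)) (tt N23450 (iv F182232)) (tt N23180 (iv F180618)) (tt N21750 F180034) (tt N23011 F180035) (tt N23346 (iv F181665)) (tt N24153 (iv F184930)) (tt N21747 F180036) (tt N23190 (iv F180686)) (tt N21746 (iv D38938)))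
theorem Q23013 : ∀ i, i < 23013 → P i := stepQ 23012 Q23012 (allL N23012 (tt N23609 (iv F183043)) (tt N24149 (iv F184920)) (tt N21753 F180037) (tt N24151 (iv F184925)) (tt N23281 (iv F181247)) (tt N24154 D40081) (tt N21789 F180038) (tt N23842 (iv F183997)) (tt N21748 (iv D38939)) (tt N24155 D40082))
theorem Q23014 : ∀ i, i < 23014 → P i := stepQ 23013 Q23013 (allL N23013 (tt N23610 (iv F183046)) (tt N23455 (iv F182256)) (tt N21754 F180039) (tt N24152 (iv F184927)) (tt N24156 D40083) (tt N21749 (iv D38940)) (tt N23441 (iv F182192)) (tt N23843 (iv F183999)) (tt N24154 (iv F184932)) (tt N24157 D40084))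
theorem Q23015 : ∀ i, i < 23015 → P i := stepQ 23014 Q23014 (allL N23014 (tt N23611 (iv F183048)) (tt N23458 (iv F182269)) (tt N21755 F180040) (tt N24153 (iv F184928)) (tt N21752 F180041) (tt N24157 (iv F184938)) (tt N21750 F180042) (tt N23844 (iv F184003)) (tt N23859 (iv F184053)) (tt N21749 (iv D38941)))
theorem Q23016 : ∀ i, i < 23016 → P i := stepQ 23015 Q23015 (allL N23015 (tt N23612 (iv F183052)) (tt N23478 (iv F182366)) (tt N21761 F180043) (tt N24158 D40085) (tt N21751 (iv D38942)) (tt N24156 (iv F184936)) (tt N21862 F180044) (tt N23846 (iv F184010)) (tt N23284 (iv F181263)) (tt N24159 D40086))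
theorem Q23017 : ∀ i, i < 23017 → P i := stepQ 23016 Q23016 (allL N23016 (tt N23613 (iv F183056)) (tt N23295 (iv F181315)) (tt N21762 F180045) (tt N23016 F180046) (tt N24159 (iv F184942)) (tt N21752 F180047) (tt N21863 F180048) (tt N23847 (iv F184015)) (tt N24160 D40087) (tt N21751 (iv D38943)))
theorem Q23018 : ∀ i, i < 23018 → P i := stepQ 23017 Q23017 (allL N23017 (tt N23614 (iv F183062)) (tt N23392 (iv F181931)) (tt N24154 (iv F184931)) (tt N24000 (iv F184508)) (tt N24161 D40088) (tt N21753 (iv D38944)) (tt N24162 D40089) (tt N23848 (iv F184016)) (tt N21754 F180049) (tt N24163 D40090))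
theorem Q23019 : ∀ i, i < 23019 → P i := stepQ 23018 Q23018 (allL N23018 (tt N23615 (iv F183064)) (tt N23393 (iv F181934)) (tt N24155 (iv F184933)) (tt N24001 (iv F184510)) (tt N23287 (iv F181275)) (tt N24163 (iv F184951)) (tt N21793 F180050) (tt N23849 (iv F184019)) (tt N24145 (iv F184914)) (tt N21753 (iv D38945)))
theorem Q23020 : ∀ i, i < 23020 → P i := stepQ 23019 Q23019 (allL N23019 (tt N23616 (iv F183066)) (tt N23394 (iv F181938)) (tt N24156 (iv F184935)) (tt N24164 D40091) (tt N21754 (iv D38946)) (tt N21761 F180051) (tt N24165 D40092) (tt N23850 (iv F184021)) (tt N24161 (iv F184948)) (tt N24166 D40093))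
theorem Q23021 : ∀ i, i < 23021 → P i := stepQ 23020 Q23020 (allL N23020 (tt N23617 (iv F183068)) (tt N23282 (iv F181250)) (tt N23441 (iv F182191)) (tt N24003 (iv F184513)) (tt N24165 (iv F184953)) (tt N21756 F180052) (tt N21754 (iv D38947)) (tt N24167 D40094) (tt N24162 (iv F184950)) (tt N24168 D40095))
theorem Q23022 : ∀ i, i < 23022 → P i := stepQ 23021 Q23021 (allL N23021 (tt N23618 (iv F183070)) (tt N23395 (iv F181941)) (tt N24157 (iv F184937)) (tt N23862 (iv F184063)) (tt N24166 (iv F184955)) (tt N21755 F180053) (tt N24168 (iv F184959)) (tt N23852 (iv F184026)) (tt N24169 D40096) (tt N21754 (iv D38948)))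
theorem Q23023 : ∀ i, i < 23023 → P i := stepQ 23022 Q23022 (allL N23022 (tt N23619 (iv F183072)) (tt N23264 (iv F181135)) (tt N23352 (iv F181701)) (tt N24004 (iv F184515)) (tt N21867 F180054) (tt N24167 (iv F184957)) (tt N21758 F180055) (tt N21756 (iv D38949)) (tt N21796 F180056) (tt N24170 D40097))
theorem Q23024 : ∀ i, i < 23024 → P i := stepQ 23023 Q23023 (allL N23023 (tt N23620 (iv F183076)) (tt N23283 (iv F181254)) (tt N23442 (iv F182194)) (tt N23863 (iv F184067)) (tt N21868 F180057) (tt N24168 (iv F184958)) (tt N21757 F180058) (tt N24170 (iv F184962)) (tt N24171 D40098) (tt N21756 (iv D38950)))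
theorem Q23025 : ∀ i, i < 23025 → P i := stepQ 23024 Q23024 (allL N23024 (tt N23348 (iv F181676)) (tt N23172 (iv F180565)) (tt N23344 (iv F181649)) (tt N23365 (iv F181781)) (tt N21869 F180059) (tt N23451 (iv F182244)) (tt N24171 (iv F184964)) (tt N21760 F180060) (tt N21757 (iv D38951)) (tt N21798 F180061))
theorem Q23026 : ∀ i, i < 23026 → P i := stepQ 23025 Q23025 (allL N23025 (tt N23437 (iv F182172)) (tt N23266 (iv F181149)) (tt N23354 (iv F181715)) (tt N23307 (iv F181400)) (tt N21870 F180062) (tt N23304 F181383) (tt N24170 (iv F184961)) (tt N21759 F180063) (tt N23359 (iv F181752)) (tt N21758 (iv D38952)))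
theorem Q23027 : ∀ i, i < 23027 → P i := stepQ 23026 Q23026 (allL N23026 (tt N23621 (iv F183079)) (tt N23396 (iv F181947)) (tt N24172 D40099) (tt N21761 (iv D38953)) (tt N21763 F180064) (tt N24164 (iv F184952)) (tt N21871 F180065) (tt N23854 (iv F184032)) (tt N23292 (iv F181302)) (tt N24173 D40100))
theorem Q23028 : ∀ i, i < 23028 → P i := stepQ 23027 Q23027 (allL N23027 (tt N23622 (iv F183084)) (tt N23397 (iv F181952)) (tt N24159 (iv F184941)) (tt N24173 (iv F184968)) (tt N21762 F180066) (tt N24166 (iv F184956)) (tt N21872 F180067) (tt N23855 (iv F184036)) (tt N24174 D40101) (tt N21761 (iv D38954)))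
theorem Q23029 : ∀ i, i < 23029 → P i := stepQ 23028 Q23028 (allL N23028 (tt N23623 (iv F183087)) (tt N23398 (iv F181958)) (tt N24160 (iv F184945)) (tt N21765 F180068) (tt N24174 (iv F184971)) (tt N23935 (iv F184263)) (tt N21873 F180069) (tt N23856 (iv F184041)) (tt N21762 (iv D38955)) (tt N23294 (iv F181313)))
theorem Q23030 : ∀ i, i < 23030 → P i := stepQ 23029 Q23029 (allL N23029 (tt N23624 (iv F183092)) (tt N24160 (iv F184944)) (tt N21763 (iv D38956)) (tt N23029 F180070) (tt N24172 (iv F184966)) (tt N24006 (iv F184522)) (tt N21874 F180071) (tt N23857 (iv F184044)) (tt N23295 (iv F181319)) (tt N24175 D40102))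
theorem Q23031 : ∀ i, i < 23031 → P i := stepQ 23030 Q23030 (allL N23030 (tt N23625 (iv F183096)) (tt N23399 (iv F181966)) (tt N24175 (iv F184973)) (tt N21764 F180072) (tt N24173 (iv F184969)) (tt N23931 (iv F184242)) (tt N21875 F180073) (tt N23858 (iv F184049)) (tt N23444 (iv F182208)) (tt N21763 (iv D38957)))
theorem Q23032 : ∀ i, i < 23032 → P i := stepQ 23031 Q23031 (allL N23031 (tt N23628 (iv F183112)) (tt N23135 (iv F180318)) (tt N24124 (iv F184861)) (tt N23159 (iv F180482)) (tt N21793 F180074) (tt N24123 (iv F184858)) (tt N23287 (iv F181276)) (tt N21805 F180075) (tt N23193 (iv F180705)) (tt N21766 (iv D38958)))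
theorem Q23033 : ∀ i, i < 23033 → P i := stepQ 23032 Q23032 (allL N23032 (tt N23600 (iv F182998)) (tt N21769 F180076) (tt N23137 (iv F180332)) (tt N23970 (iv F184402)) (tt N21795 F180077) (tt N21767 (iv D38959)) (tt N24141 (iv F184905)) (tt N21806 F180078) (tt N24176 D40103) (tt N21786 F180079))
theorem Q23034 : ∀ i, i < 23034 → P i := stepQ 23033 Q23033 (allL N23033 (tt N23629 (iv F183116)) (tt N23970 (iv F184400)) (tt N23956 (iv F184335)) (tt N21769 F180080) (tt N24177 D40104) (tt N21768 (iv D38960)) (tt N24142 (iv F184908)) (tt N21807 F180081) (tt N24178 D40105) (tt N21787 F180082))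
theorem Q23035 : ∀ i, i < 23035 → P i := stepQ 23034 Q23034 (allL N23034 (tt N23631 (iv F183129)) (tt N24176 (iv F184977)) (tt N21774 F180083) (tt N24178 (iv F184983)) (tt N23187 (iv F180666)) (tt N24179 D40106) (tt N24143 (iv F184911)) (tt N21808 F180084) (tt N21769 (iv D38961)) (tt N24180 D40107))
theorem Q23036 : ∀ i, i < 23036 → P i := stepQ 23035 Q23035 (allL N23035 (tt N23632 (iv F183134)) (tt N23968 (iv F184392)) (tt N21775 F180085) (tt N23967 (iv F184388)) (tt N24181 D40108) (tt N21770 (iv D38962)) (tt N24182 D40109) (tt N21809 F180086) (tt N24179 (iv F184987)) (tt N23980 (iv F184451)))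
theorem Q23037 : ∀ i, i < 23037 → P i := stepQ 23036 Q23036 (allL N23036 (tt N23634 (iv F183146)) (tt N23554 (iv F182810)) (tt N21777 F180087) (tt N23553 (iv F182804)) (tt N23036 F180088) (tt N24182 (iv F184995)) (tt N21771 (iv D38963)) (tt N23559 (iv F182847)) (tt N23977 (iv F184439)) (tt N23787 (iv F183823)))
theorem Q23038 : ∀ i, i < 23038 → P i := stepQ 23037 Q23037 (allL N23037 (tt N23635 (iv F183151)) (tt N24119 (iv F184841)) (tt N21782 F180089) (tt N24067 (iv F184720)) (tt N21772 (iv D38964)) (tt N24181 (iv F184992)) (tt N23037 F180090) (tt N21811 F180091) (tt N23191 (iv F180693)) (tt N24066 F184716))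
theorem Q23039 : ∀ i, i < 23039 → P i := stepQ 23038 Q23038 (allL N23038 (tt N23636 (iv F183157)) (tt N24035 (iv F184617)) (tt N24179 (iv F184985)) (tt N23960 (iv F184355)) (tt N24183 D40110) (tt N21774 (iv D38965)) (tt N24184 D40111) (tt N21813 F180092) (tt N21775 F180093) (tt N24185 D40112))
theorem Q23040 : ∀ i, i < 23040 → P i := stepQ 23039 Q23039 (allL N23039 (tt N23637 (iv F183160)) (tt N24036 (iv F184621)) (tt N24180 (iv F184988)) (tt N23961 (iv F184359)) (tt N23193 (iv F180703)) (tt N24185 (iv F184999)) (tt N24145 (iv F184913)) (tt N21814 F180094) (tt N21793 F180095) (tt N21774 (iv D38966)))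
theorem Q23041 : ∀ i, i < 23041 → P i := stepQ 23040 Q23040 (allL N23040 (tt N23638 (iv F183164)) (tt N24037 (iv F184626)) (tt N24181 (iv F184991)) (tt N24186 D40113) (tt N21775 (iv D38967)) (tt N21782 F180096) (tt N24187 D40114) (tt N21815 F180097) (tt N24183 (iv F184997)) (tt N24188 D40115))
theorem Q23042 : ∀ i, i < 23042 → P i := stepQ 23041 Q23041 (allL N23041 (tt N23639 (iv F183167)) (tt N24038 (iv F184629)) (tt N24182 (iv F184994)) (tt N23963 (iv F184368)) (tt N24187 (iv F185004)) (tt N21777 F180098) (tt N21775 (iv D38968)) (tt N24189 D40116) (tt N24184 (iv F184998)) (tt N24190 D40117))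
theorem Q23043 : ∀ i, i < 23043 → P i := stepQ 23042 Q23042 (allL N23042 (tt N23640 (iv F183169)) (tt N23188 (iv F180669)) (tt N23980 (iv F184448)) (tt N23964 (iv F184372)) (tt N24188 (iv F185006)) (tt N21776 F180099) (tt N24190 (iv F185012)) (tt N21817 F180100) (tt N24191 D40118) (tt N21775 (iv D38969)))
theorem Q23044 : ∀ i, i < 23044 → P i := stepQ 23043 Q23043 (allL N23043 (tt N23641 (iv F183172)) (tt N24039 (iv F184632)) (tt N23559 (iv F182844)) (tt N23965 (iv F184376)) (tt N23043 F180101) (tt N24189 (iv F185009)) (tt N21779 F180102) (tt N21777 (iv D38970)) (tt N23971 (iv F184410)) (tt N24192 D40119))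
theorem Q23045 : ∀ i, i < 23045 → P i := stepQ 23044 Q23044 (allL N23044 (tt N23642 (iv F183176)) (tt N23189 (iv F180675)) (tt N23787 (iv F183820)) (tt N23797 (iv F183852)) (tt N23044 F180103) (tt N24190 (iv F185011)) (tt N21778 F180104) (tt N24192 (iv F185017)) (tt N24193 D40120) (tt N21777 (iv D38971)))
theorem Q23046 : ∀ i, i < 23046 → P i := stepQ 23045 Q23045 (allL N23045 (tt N23535 (iv F182717)) (tt N23171 (iv F180557)) (tt N23405 (iv F182000)) (tt N23460 (iv F182284)) (tt N23045 F180105) (tt N21798 F180106) (tt N24193 (iv F185019)) (tt N21781 F180107) (tt N21778 (iv D38972)) (tt N23451 (iv F182246)))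
theorem Q23047 : ∀ i, i < 23047 → P i := stepQ 23046 Q23046 (allL N23046 (tt N23585 (iv F182945)) (tt N23190 (iv F180681)) (tt N23503 (iv F182528)) (tt N23459 (iv F182276)) (tt N23046 F180108) (tt N21820 F180109) (tt N24192 (iv F185016)) (tt N21780 F180110) (tt N23450 (iv F182238)) (tt N21779 (iv D38973)))
theorem Q23048 : ∀ i, i < 23048 → P i := stepQ 23047 Q23047 (allL N23047 (tt N23643 (iv F183179)) (tt N24040 (iv F184637)) (tt N24079 (iv F184753)) (tt N21782 (iv D38974)) (tt N21784 F180111) (tt N24186 (iv F185002)) (tt N23047 F180112) (tt N21821 F180113) (tt N21845 F180114) (tt N24078 F184752))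
theorem Q23049 : ∀ i, i < 23049 → P i := stepQ 23048 Q23048 (allL N23048 (tt N23644 (iv F183184)) (tt N23191 (iv F180689)) (tt N24066 (iv F184717)) (tt N24078 (iv F184747)) (tt N21783 F180115) (tt N24188 (iv F185007)) (tt N23048 F180116) (tt N21822 F180117) (tt N24119 (iv F184846)) (tt N21782 (iv D38975)))
theorem Q23050 : ∀ i, i < 23050 → P i := stepQ 23049 Q23049 (allL N23049 (tt N23661 (iv F183255)) (tt N21787 F180118) (tt N23203 (iv F180761)) (tt N21786 F180119) (tt N24027 (iv F184595)) (tt N21785 (iv D38976)) (tt N24148 (iv F184919)) (tt N21824 F180120) (tt N24194 D40121) (tt N23970 (iv F184404)))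
theorem Q23051 : ∀ i, i < 23051 → P i := stepQ 23050 Q23050 (allL N23050 (tt N23658 (iv F183245)) (tt N21789 F180121) (tt N23134 (iv F180312)) (tt N24194 (iv F185021)) (tt N21792 F180122) (tt N23133 (iv F180307)) (tt N24149 (iv F184922)) (tt N21825 F180123) (tt N21786 (iv D38977)) (tt N24195 D40122))
theorem Q23052 : ∀ i, i < 23052 → P i := stepQ 23051 Q23051 (allL N23051 (tt N23651 (iv F183215)) (tt N24027 (iv F184594)) (tt N24012 (iv F184544)) (tt N23954 (iv F184325)) (tt N21787 (iv D38978)) (tt N21842 F180124) (tt N24150 (iv F184924)) (tt N21826 F180125) (tt N24196 D40123) (tt N24177 (iv F184982)))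
theorem Q23053 : ∀ i, i < 23053 → P i := stepQ 23052 Q23052 (allL N23052 (tt N23652 (iv F183218)) (tt N24194 (iv F185020)) (tt N24013 (iv F184547)) (tt N21789 F180126) (tt N24196 (iv F185026)) (tt N24197 D40124) (tt N24151 (iv F184926)) (tt N21827 F180127) (tt N21787 (iv D38979)) (tt N24198 D40125))
theorem Q23054 : ∀ i, i < 23054 → P i := stepQ 23053 Q23053 (allL N23053 (tt N23653 (iv F183221)) (tt N23132 (iv F180297)) (tt N24014 (iv F184551)) (tt N21790 F180128) (tt N23215 (iv F180822)) (tt N21788 (iv D38980)) (tt N23438 (iv F182182)) (tt N21828 F180129) (tt N24197 (iv F185030)) (tt N23982 (iv F184458)))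
theorem Q23055 : ∀ i, i < 23055 → P i := stepQ 23054 Q23054 (allL N23054 (tt N23655 (iv F183232)) (tt N23133 (iv F180304)) (tt N21792 F180130) (tt N24197 (iv F185028)) (tt N23134 (iv F180314)) (tt N21789 (iv D38981)) (tt N23440 (iv F182189)) (tt N21832 F180131) (tt N21790 F180132) (tt N24199 D40126))
theorem Q23056 : ∀ i, i < 23056 → P i := stepQ 23055 Q23055 (allL N23055 (tt N23656 (iv F183237)) (tt N24195 (iv F185023)) (tt N21793 F180133) (tt N24198 (iv F185031)) (tt N24124 (iv F184862)) (tt N24199 (iv F185034)) (tt N24155 (iv F184934)) (tt N21833 F180134) (tt N24180 (iv F184990)) (tt N21789 (iv D38982)))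
theorem Q23057 : ∀ i, i < 23057 → P i := stepQ 23056 Q23056 (allL N23056 (tt N23657 (iv F183240)) (tt N21799 F180135) (tt N21795 F180136) (tt N23982 (iv F184456)) (tt N23137 (iv F180334)) (tt N21791 F180137) (tt N23403 (iv F181992)) (tt N21835 F180138) (tt N24200 D40127) (tt N21790 (iv D38983)))
theorem Q23058 : ∀ i, i < 23058 → P i := stepQ 23057 Q23057 (allL N23057 (tt N23659 (iv F183250)) (tt N23281 (iv F181245)) (tt N23440 (iv F182188)) (tt N24025 (iv F184589)) (tt N24149 (iv F184921)) (tt N24162 (iv F184949)) (tt N21792 (iv D38984)) (tt N24201 D40128) (tt N21794 F180139) (tt N24202 D40129))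
theorem Q23059 : ∀ i, i < 23059 → P i := stepQ 23058 Q23058 (allL N23058 (tt N23660 (iv F183252)) (tt N24124 (iv F184860)) (tt N24199 (iv F185033)) (tt N24026 (iv F184591)) (tt N24195 (iv F185024)) (tt N21793 F180140) (tt N24202 (iv F185041)) (tt N21838 F180141) (tt N24203 D40130) (tt N21792 (iv D38985)))
theorem Q23060 : ∀ i, i < 23060 → P i := stepQ 23059 Q23059 (allL N23059 (tt N23663 (iv F183263)) (tt N23263 (iv F181128)) (tt N23351 (iv F181697)) (tt N24030 (iv F184603)) (tt N23839 (iv F183985)) (tt N21796 F180142) (tt N21839 F180143) (tt N21794 (iv D38986)) (tt N24201 (iv F185040)) (tt N23604 (iv F183022)))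
theorem Q23061 : ∀ i, i < 23061 → P i := stepQ 23060 Q23060 (allL N23060 (tt N23664 (iv F183266)) (tt N23169 (iv F180544)) (tt N23403 (iv F181991)) (tt N24031 (iv F184606)) (tt N24141 (iv F184904)) (tt N21797 F180144) (tt N21795 F180145) (tt N23604 (iv F183021)) (tt N24204 D40131) (tt N21794 (iv D38987)))
theorem Q23062 : ∀ i, i < 23062 → P i := stepQ 23061 Q23061 (allL N23061 (tt N23665 (iv F183269)) (tt N23187 (iv F180664)) (tt N24200 (iv F185037)) (tt N24032 (iv F184609)) (tt N24176 (iv F184978)) (tt N24191 (iv F185013)) (tt N24204 (iv F185044)) (tt N21840 F180146) (tt N21795 (iv D38988)) (tt N24203 (iv F185043)))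
theorem Q23063 : ∀ i, i < 23063 → P i := stepQ 23062 Q23062 (allL N23062 (tt N23666 (iv F183271)) (tt N23170 (iv F180551)) (tt N23404 (iv F181995)) (tt N24033 (iv F184611)) (tt N21876 F180147) (tt N24205 D40132) (tt N21798 F180148) (tt N23605 (iv F183027)) (tt N21797 (iv D38989)) (tt N24171 (iv F184965)))
theorem Q23064 : ∀ i, i < 23064 → P i := stepQ 23063 Q23063 (allL N23063 (tt N23670 (iv F183290)) (tt N24200 (iv F185036)) (tt N21801 F180149) (tt N23985 (iv F184465)) (tt N24034 (iv F184615)) (tt N23984 (iv F184463)) (tt N23410 (iv F182034)) (tt N23155 (iv F180463)) (tt N21799 (iv D38990)) (tt N24206 D40133))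
theorem Q23065 : ∀ i, i < 23065 → P i := stepQ 23064 Q23064 (allL N23064 (tt N23672 (iv F183296)) (tt N24066 (iv F184711)) (tt N21802 F180150) (tt N24059 (iv F184693)) (tt N21800 (iv D38991)) (tt N23983 (iv F184460)) (tt N23064 F180151) (tt N23157 (iv F180474)) (tt N23200 F180748) (tt N24119 (iv F184847)))
theorem Q23066 : ∀ i, i < 23066 → P i := stepQ 23065 Q23065 (allL N23065 (tt N23674 (iv F183304)) (tt N23193 (iv F180701)) (tt N24206 (iv F185045)) (tt N21805 F180152) (tt N24036 (iv F184623)) (tt N24140 (iv F184902)) (tt N23419 (iv F182081)) (tt N23159 (iv F180485)) (tt N23135 (iv F180323)) (tt N21801 (iv D38992)))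
theorem Q23067 : ∀ i, i < 23067 → P i := stepQ 23066 Q23066 (allL N23066 (tt N23678 (iv F183316)) (tt N21845 F180153) (tt N23246 (iv F181005)) (tt N21802 (iv D38993)) (tt N21804 F180154) (tt N24125 (iv F184867)) (tt N23066 F180155) (tt N23143 (iv F180380)) (tt N24040 (iv F184641)) (tt N23951 (iv F184314)))
theorem Q23068 : ∀ i, i < 23068 → P i := stepQ 23067 Q23067 (allL N23067 (tt N23679 (iv F183321)) (tt N23200 (iv F180742)) (tt N24119 (iv F184842)) (tt N23951 (iv F184310)) (tt N21803 F180156) (tt N24130 (iv F184882)) (tt N23067 F180157) (tt N23164 (iv F180512)) (tt N24066 (iv F184715)) (tt N21802 (iv D38994)))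
theorem Q23069 : ∀ i, i < 23069 → P i := stepQ 23068 Q23068 (allL N23068 (tt N23598 (iv F182992)) (tt N21808 F180158) (tt N24129 (iv F184880)) (tt N24044 (iv F184654)) (tt N21840 F180159) (tt N24043 (iv F184651)) (tt N23527 F182674) (tt N24176 (iv F184979)) (tt N21806 (iv D38995)) (tt N24207 D40134))
theorem Q23070 : ∀ i, i < 23070 → P i := stepQ 23069 Q23069 (allL N23069 (tt N23688 (iv F183358)) (tt N24046 (iv F184658)) (tt N24060 (iv F184698)) (tt N23201 (iv F180751)) (tt N21807 (iv D38996)) (tt N21843 F180160) (tt N23680 (iv F183327)) (tt N24177 (iv F184981)) (tt N24208 D40135) (tt N21826 F180161))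
theorem Q23071 : ∀ i, i < 23071 → P i := stepQ 23070 Q23070 (allL N23070 (tt N23689 (iv F183364)) (tt N24044 (iv F184652)) (tt N24061 (iv F184701)) (tt N21808 F180162) (tt N24208 (iv F185049)) (tt N24041 (iv F184645)) (tt N23681 (iv F183332)) (tt N24178 (iv F184984)) (tt N21807 (iv D38997)) (tt N24209 D40136))
theorem Q23072 : ∀ i, i < 23072 → P i := stepQ 23071 Q23071 (allL N23071 (tt N23692 (iv F183381)) (tt N24043 (iv F184649)) (tt N21813 F180163) (tt N24041 (iv F184643)) (tt N24210 D40137) (tt N21808 (iv D38998)) (tt N23813 (iv F183911)) (tt N24179 (iv F184986)) (tt N21809 F180164) (tt N24211 D40138))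
theorem Q23073 : ∀ i, i < 23073 → P i := stepQ 23072 Q23072 (allL N23072 (tt N23693 (iv F183386)) (tt N24207 (iv F185046)) (tt N21814 F180165) (tt N24209 (iv F185050)) (tt N23207 (iv F180787)) (tt N24211 (iv F185055)) (tt N23682 (iv F183337)) (tt N24180 (iv F184989)) (tt N21833 F180166) (tt N21808 (iv D38999)))
theorem Q23074 : ∀ i, i < 23074 → P i := stepQ 23073 Q23073 (allL N23073 (tt N23694 (iv F183392)) (tt N24042 (iv F184646)) (tt N21815 F180167) (tt N24084 (iv F184767)) (tt N21809 (iv D39000)) (tt N21811 F180168) (tt N23815 (iv F183918)) (tt N24181 (iv F184993)) (tt N24210 (iv F185053)) (tt N24212 D40139))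
theorem Q23075 : ∀ i, i < 23075 → P i := stepQ 23074 Q23074 (allL N23074 (tt N23695 (iv F183397)) (tt N23156 (iv F180464)) (tt N21817 F180169) (tt N23949 (iv F184301)) (tt N24212 (iv F185057)) (tt N21810 F180170) (tt N23816 (iv F183922)) (tt N23980 (iv F184450)) (tt N24213 D40140) (tt N21809 (iv D39001)))
theorem Q23076 : ∀ i, i < 23076 → P i := stepQ 23075 Q23075 (allL N23075 (tt N23697 (iv F183407)) (tt N23157 (iv F180470)) (tt N21822 F180171) (tt N23959 (iv F184349)) (tt N21812 F180172) (tt N24212 (iv F185058)) (tt N21853 F180173) (tt N24066 (iv F184714)) (tt N23164 (iv F180513)) (tt N21811 (iv D39002)))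
theorem Q23077 : ∀ i, i < 23077 → P i := stepQ 23076 Q23076 (allL N23076 (tt N23698 (iv F183412)) (tt N24133 (iv F184887)) (tt N24210 (iv F185052)) (tt N24214 D40141) (tt N21813 (iv D39003)) (tt N23212 (iv F180814)) (tt N24215 D40142) (tt N24183 (iv F184996)) (tt N21815 F180174) (tt N24216 D40143))
theorem Q23078 : ∀ i, i < 23078 → P i := stepQ 23077 Q23077 (allL N23077 (tt N23699 (iv F183415)) (tt N24134 (iv F184889)) (tt N23813 (iv F183910)) (tt N24069 (iv F184725)) (tt N24215 (iv F185062)) (tt N23684 (iv F183346)) (tt N21813 (iv D39004)) (tt N24217 D40144) (tt N21816 F180175) (tt N24218 D40145))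
theorem Q23079 : ∀ i, i < 23079 → P i := stepQ 23078 Q23078 (allL N23078 (tt N23700 (iv F183419)) (tt N24135 (iv F184891)) (tt N24211 (iv F185054)) (tt N24070 (iv F184727)) (tt N24216 (iv F185064)) (tt N21814 F180176) (tt N24218 (iv F185066)) (tt N24185 (iv F185000)) (tt N24219 D40146) (tt N21813 (iv D39005)))
theorem Q23080 : ∀ i, i < 23080 → P i := stepQ 23079 Q23079 (allL N23079 (tt N23701 (iv F183421)) (tt N24136 (iv F184893)) (tt N24220 D40147) (tt N21815 (iv D39006)) (tt N24071 (iv F184729)) (tt N21821 F180177) (tt N24221 D40148) (tt N24186 (iv F185003)) (tt N24214 (iv F185061)) (tt N24120 (iv F184850)))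
theorem Q23081 : ∀ i, i < 23081 → P i := stepQ 23080 Q23080 (allL N23080 (tt N23702 (iv F183423)) (tt N24137 (iv F184895)) (tt N23815 (iv F183916)) (tt N24221 (iv F185071)) (tt N21816 F180178) (tt N21857 F180179) (tt N21815 (iv D39007)) (tt N24222 D40149) (tt N24215 (iv F185063)) (tt N24223 D40150))
theorem Q23082 : ∀ i, i < 23082 → P i := stepQ 23081 Q23081 (allL N23081 (tt N23703 (iv F183427)) (tt N23208 (iv F180791)) (tt N24212 (iv F185056)) (tt N24120 (iv F184849)) (tt N21817 F180180) (tt N21822 F180181) (tt N24223 (iv F185077)) (tt N24188 (iv F185008)) (tt N24224 D40151) (tt N21815 (iv D39008)))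
theorem Q23083 : ∀ i, i < 23083 → P i := stepQ 23082 Q23082 (allL N23082 (tt N23704 (iv F183430)) (tt N24138 (iv F184898)) (tt N23557 (iv F182831)) (tt N24074 (iv F184736)) (tt N24222 (iv F185073)) (tt N21818 F180182) (tt N24189 (iv F185010)) (tt N21816 (iv D39009)) (tt N24217 (iv F185065)) (tt N24225 D40152))
theorem Q23084 : ∀ i, i < 23084 → P i := stepQ 23083 Q23083 (allL N23083 (tt N23705 (iv F183433)) (tt N23209 (iv F180796)) (tt N23816 (iv F183920)) (tt N24075 (iv F184738)) (tt N24223 (iv F185075)) (tt N21819 F180183) (tt N21817 F180184) (tt N24225 (iv F185080)) (tt N24226 D40153) (tt N21816 (iv D39010)))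
theorem Q23085 : ∀ i, i < 23085 → P i := stepQ 23084 Q23084 (allL N23084 (tt N23706 (iv F183437)) (tt N23206 (iv F180781)) (tt N24213 (iv F185059)) (tt N24076 (iv F184741)) (tt N24224 (iv F185078)) (tt N21840 F180185) (tt N24226 (iv F185081)) (tt N24191 (iv F185014)) (tt N21817 (iv D39011)) (tt N24219 (iv F185068)))
theorem Q23086 : ∀ i, i < 23086 → P i := stepQ 23085 Q23085 (allL N23085 (tt N23707 (iv F183439)) (tt N23210 (iv F180801)) (tt N23558 (iv F182836)) (tt N24077 (iv F184743)) (tt N21861 F180186) (tt N24225 (iv F185079)) (tt N21820 F180187) (tt N21819 F180188) (tt N23720 (iv F183489)) (tt N21818 (iv D39012)))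
theorem Q23087 : ∀ i, i < 23087 → P i := stepQ 23086 Q23086 (allL N23086 (tt N23708 (iv F183446)) (tt N24056 (iv F184682)) (tt N21821 (iv D39013)) (tt N23966 (iv F184382)) (tt N21823 F180189) (tt N24220 (iv F185069)) (tt N21848 F180190) (tt N24079 (iv F184757)) (tt N23222 (iv F180854)) (tt N21844 F180191))
theorem Q23088 : ∀ i, i < 23088 → P i := stepQ 23087 Q23087 (allL N23087 (tt N23733 (iv F183529)) (tt N21827 F180192) (tt N24054 (iv F184676)) (tt N21825 F180193) (tt N24104 (iv F184811)) (tt N24126 (iv F184870)) (tt N23882 (iv F184117)) (tt N24194 (iv F185022)) (tt N21824 (iv D39014)) (tt N24227 D40154))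
theorem Q23089 : ∀ i, i < 23089 → P i := stepQ 23088 Q23088 (allL N23088 (tt N23734 (iv F183531)) (tt N21833 F180194) (tt N24128 (iv F184876)) (tt N24227 (iv F185083)) (tt N21838 F180195) (tt N24127 (iv F184874)) (tt N23884 (iv F184122)) (tt N24195 (iv F185025)) (tt N24207 (iv F185048)) (tt N21825 (iv D39015)))
theorem Q23090 : ∀ i, i < 23090 → P i := stepQ 23089 Q23089 (allL N23089 (tt N23721 (iv F183491)) (tt N24104 (iv F184810)) (tt N24090 (iv F184778)) (tt N23988 (iv F184471)) (tt N21827 F180196) (tt N24228 D40155) (tt N23887 (iv F184130)) (tt N24196 (iv F185027)) (tt N21826 (iv D39016)) (tt N24229 D40156))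
theorem Q23091 : ∀ i, i < 23091 → P i := stepQ 23090 Q23090 (allL N23090 (tt N23722 (iv F183493)) (tt N24126 (iv F184868)) (tt N24091 (iv F184780)) (tt N21832 F180197) (tt N24230 D40157) (tt N21827 (iv D39017)) (tt N24231 D40158) (tt N24197 (iv F185029)) (tt N21828 F180198) (tt N24232 D40159))
theorem Q23092 : ∀ i, i < 23092 → P i := stepQ 23091 Q23091 (allL N23091 (tt N23723 (iv F183496)) (tt N24227 (iv F185082)) (tt N24092 (iv F184783)) (tt N21833 F180199) (tt N24229 (iv F185085)) (tt N24232 (iv F185090)) (tt N23889 (iv F184134)) (tt N24198 (iv F185032)) (tt N24209 (iv F185051)) (tt N21827 (iv D39018)))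
theorem Q23093 : ∀ i, i < 23093 → P i := stepQ 23092 Q23092 (allL N23092 (tt N23724 (iv F183498)) (tt N24125 (iv F184865)) (tt N24093 (iv F184785)) (tt N23194 (iv F180708)) (tt N21828 (iv D39019)) (tt N21845 F180200) (tt N24233 D40160) (tt N23215 (iv F180824)) (tt N24230 (iv F185086)) (tt N24234 D40161))
theorem Q23094 : ∀ i, i < 23094 → P i := stepQ 23093 Q23093 (allL N23093 (tt N23725 (iv F183502)) (tt N23569 (iv F182883)) (tt N24094 (iv F184787)) (tt N21834 F180201) (tt N24233 (iv F185091)) (tt N21830 F180202) (tt N21828 (iv D39020)) (tt N24235 D40162) (tt N24231 (iv F185088)) (tt N23586 (iv F182956)))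
theorem Q23095 : ∀ i, i < 23095 → P i := stepQ 23094 Q23094 (allL N23094 (tt N23726 (iv F183505)) (tt N23154 (iv F180453)) (tt N24010 (iv F184534)) (tt N21835 F180203) (tt N24234 (iv F185093)) (tt N21829 F180204) (tt N23586 (iv F182955)) (tt N23982 (iv F184457)) (tt N24236 D40163) (tt N21828 (iv D39021)))
theorem Q23096 : ∀ i, i < 23096 → P i := stepQ 23095 Q23095 (allL N23095 (tt N23727 (iv F183508)) (tt N23303 (iv F181370)) (tt N24095 (iv F184790)) (tt N21836 F180205) (tt N23095 F180206) (tt N24235 (iv F185096)) (tt N21831 F180207) (tt N21830 (iv D39022)) (tt N23892 (iv F184141)) (tt N23536 (iv F182729)))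
theorem Q23097 : ∀ i, i < 23097 → P i := stepQ 23096 Q23096 (allL N23096 (tt N23729 (iv F183518)) (tt N23571 (iv F182892)) (tt N21837 F180208) (tt N24231 (iv F185087)) (tt N23827 (iv F183955)) (tt N23894 (iv F184145)) (tt N21832 (iv D39023)) (tt N24237 D40164) (tt N21834 F180209) (tt N24238 D40165))
theorem Q23098 : ∀ i, i < 23098 → P i := stepQ 23097 Q23097 (allL N23097 (tt N23730 (iv F183521)) (tt N24127 (iv F184871)) (tt N21838 F180210) (tt N24232 (iv F185089)) (tt N24128 (iv F184877)) (tt N21833 F180211) (tt N24238 (iv F185101)) (tt N24199 (iv F185035)) (tt N24239 D40166) (tt N21832 (iv D39024)))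
theorem Q23099 : ∀ i, i < 23099 → P i := stepQ 23098 Q23098 (allL N23098 (tt N23731 (iv F183524)) (tt N23305 (iv F181385)) (tt N21839 F180212) (tt N24235 (iv F185095)) (tt N23818 (iv F183930)) (tt N21836 F180213) (tt N23351 (iv F181698)) (tt N21834 (iv D39025)) (tt N24237 (iv F185099)) (tt N23538 (iv F182741)))
theorem Q23100 : ∀ i, i < 23100 → P i := stepQ 23099 Q23099 (allL N23099 (tt N23732 (iv F183527)) (tt N23155 (iv F180459)) (tt N21840 F180214) (tt N24236 (iv F185097)) (tt N24129 (iv F184881)) (tt N24213 (iv F185060)) (tt N23588 (iv F182964)) (tt N24200 (iv F185038)) (tt N21835 (iv D39026)) (tt N24239 (iv F185103)))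
theorem Q23101 : ∀ i, i < 23101 → P i := stepQ 23100 Q23100 (allL N23100 (tt N23735 (iv F183533)) (tt N23631 (iv F183130)) (tt N24237 (iv F185098)) (tt N24107 (iv F184816)) (tt N23861 (iv F184060)) (tt N23907 (iv F184179)) (tt N24201 (iv F185039)) (tt N21837 (iv D39027)) (tt N21839 F180215) (tt N24240 D40167))
theorem Q23102 : ∀ i, i < 23102 → P i := stepQ 23101 Q23101 (allL N23101 (tt N23736 (iv F183535)) (tt N23693 (iv F183387)) (tt N24238 (iv F185100)) (tt N24108 (iv F184818)) (tt N23884 (iv F184121)) (tt N23908 (iv F184181)) (tt N21838 F180216) (tt N24240 (iv F185104)) (tt N23717 (iv F183479)) (tt N21837 (iv D39028)))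
theorem Q23103 : ∀ i, i < 23103 → P i := stepQ 23102 Q23102 (allL N23102 (tt N23737 (iv F183537)) (tt N23207 (iv F180785)) (tt N24239 (iv F185102)) (tt N24109 (iv F184820)) (tt N24207 (iv F185047)) (tt N24219 (iv F185067)) (tt N23717 (iv F183478)) (tt N24203 (iv F185042)) (tt N21838 (iv D39029)) (tt N21840 F180217))
theorem Q23104 : ∀ i, i < 23104 → P i := stepQ 23103 Q23103 (allL N23103 (tt N23738 (iv F183539)) (tt N23972 (iv F184412)) (tt N24059 (iv F184692)) (tt N23246 (iv F181006)) (tt N21841 (iv D39030)) (tt N24177 (iv F184980)) (tt N23103 F180218) (tt N21843 F180219) (tt N24011 (iv F184542)) (tt N21842 F180220))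
theorem Q23105 : ∀ i, i < 23105 → P i := stepQ 23104 Q23104 (allL N23104 (tt N23751 (iv F183612)) (tt N24050 (iv F184667)) (tt N24120 (iv F184848)) (tt N23962 F184366) (tt N24186 (iv F185001)) (tt N21844 (iv D39031)) (tt N24241 D40168) (tt N24071 (iv F184731)) (tt N24228 (iv F185084)) (tt N24220 (iv F185070)))
theorem Q23106 : ∀ i, i < 23106 → P i := stepQ 23105 Q23105 (allL N23105 (tt N23752 (iv F183613)) (tt N23951 (iv F184308)) (tt N24011 (iv F184539)) (tt N23200 (iv F180744)) (tt N21846 F180221) (tt N24234 (iv F185094)) (tt N23105 F180222) (tt N23223 (iv F180862)) (tt N24059 (iv F184696)) (tt N21845 (iv D39032)))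
theorem Q23107 : ∀ i, i < 23107 → P i := stepQ 23106 Q23106 (allL N23106 (tt N23763 (iv F183686)) (tt N24112 (iv F184825)) (tt N24121 (iv F184851)) (tt N23990 (iv F184477)) (tt N23106 F180223) (tt N24241 (iv F185105)) (tt N21847 (iv D39033)) (tt N24242 D40169) (tt N23945 (iv F184293)) (tt N24243 D40170))
theorem Q23108 : ∀ i, i < 23108 → P i := stepQ 23107 Q23107 (allL N23107 (tt N23764 (iv F183688)) (tt N23943 (iv F184283)) (tt N21856 F180224) (tt N23811 F183901) (tt N23107 F180225) (tt N21848 F180226) (tt N24243 (iv F185110)) (tt N23107 F180227) (tt N24244 D40171) (tt N21847 (iv D39034)))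
theorem Q23109 : ∀ i, i < 23109 → P i := stepQ 23108 Q23108 (allL N23108 (tt N23812 (iv F183902)) (tt N21856 F180228) (tt N23254 (iv F181064)) (tt N21849 (iv D39035)) (tt N23108 F180229) (tt N21852 F180230) (tt N24245 D40172) (tt N23108 F180231) (tt N23496 (iv F182484)) (tt N23226 (iv F180883)))
theorem Q23110 : ∀ i, i < 23110 → P i := stepQ 23109 Q23109 (allL N23109 (tt N23924 (iv F184214)) (tt N21857 F180232) (tt N23237 (iv F180945)) (tt N24245 (iv F185115)) (tt N21850 F180233) (tt N24137 (iv F184897)) (tt N21849 (iv D39036)) (tt N24246 D40173) (tt N23774 F183746) (tt N23227 (iv F180888)))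
theorem Q23111 : ∀ i, i < 23111 → P i := stepQ 23110 Q23110 (allL N23110 (tt N23925 (iv F184219)) (tt N21859 F180234) (tt N23238 (iv F180951)) (tt N23110 F180235) (tt N24246 (iv F185118)) (tt N21851 F180236) (tt N23110 F180237) (tt N21850 (iv D39037)) (tt N23775 F183754) (tt N23228 (iv F180895)))
theorem Q23112 : ∀ i, i < 23112 → P i := stepQ 23111 Q23111 (allL N23111 (tt N23767 (iv F183707)) (tt N23496 (iv F182479)) (tt N24244 (iv F185111)) (tt N21854 (iv D39038)) (tt N23111 F180238) (tt N23230 (iv F180906)) (tt N24247 D40174) (tt N23111 F180239) (tt N21856 F180240) (tt N23768 (iv F183718)))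
theorem Q23113 : ∀ i, i < 23113 → P i := stepQ 23112 Q23112 (allL N23112 (tt N23573 (iv F182899)) (tt N23774 (iv F183742)) (tt N23520 (iv F182640)) (tt N24247 (iv F185120)) (tt N21855 F180241) (tt N24248 D40175) (tt N21854 (iv D39039)) (tt N23999 (iv F184506)) (tt N21857 F180242) (tt N23769 (iv F183723)))
theorem Q23114 : ∀ i, i < 23114 → P i := stepQ 23113 Q23113 (allL N23113 (tt N23772 (iv F183734)) (tt N24245 (iv F185114)) (tt N24243 (iv F185108)) (tt N21857 F180243) (tt N23113 F180244) (tt N24221 (iv F185072)) (tt N21856 (iv D39040)) (tt N24249 D40176) (tt N24247 (iv F185122)) (tt N24121 (iv F184854)))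
theorem Q23115 : ∀ i, i < 23115 → P i := stepQ 23114 Q23114 (allL N23114 (tt N23773 (iv F183737)) (tt N24246 (iv F185117)) (tt N23560 (iv F182851)) (tt N24249 (iv F185123)) (tt N21859 F180245) (tt N24222 (iv F185074)) (tt N23114 F180246) (tt N21857 (iv D39041)) (tt N23999 (iv F184507)) (tt N24250 D40177))
theorem Q23116 : ∀ i, i < 23116 → P i := stepQ 23115 Q23115 (allL N23115 (tt N23774 (iv F183741)) (tt N23227 (iv F180885)) (tt N23817 (iv F183924)) (tt N24121 (iv F184852)) (tt N21860 F180247) (tt N24223 (iv F185076)) (tt N21858 F180248) (tt N24250 (iv F185128)) (tt N23924 (iv F184218)) (tt N21857 (iv D39042)))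
theorem Q23117 : ∀ i, i < 23117 → P i := stepQ 23116 Q23116 (allL N23116 (tt N23775 (iv F183747)) (tt N23228 (iv F180890)) (tt N23561 (iv F182857)) (tt N23116 F180249) (tt N24250 (iv F185126)) (tt N21861 F180250) (tt N23116 F180251) (tt N21860 F180252) (tt N23925 (iv F184225)) (tt N21859 (iv D39043)))
theorem Q23118 : ∀ i, i < 23118 → P i := stepQ 23117 Q23117 (allL N23117 (tt N23777 (iv F183762)) (tt N23477 (iv F182360)) (tt N24251 D40178) (tt N21862 (iv D39044)) (tt N23117 F180253) (tt N23302 (iv F181366)) (tt N24158 (iv F184940)) (tt N23117 F180254) (tt N23296 (iv F181326)) (tt N24252 D40179))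
theorem Q23119 : ∀ i, i < 23119 → P i := stepQ 23118 Q23118 (allL N23118 (tt N23778 (iv F183768)) (tt N23301 (iv F181356)) (tt N21872 F180255) (tt N24252 (iv F185132)) (tt N21863 F180256) (tt N23476 (iv F182356)) (tt N24159 (iv F184943)) (tt N23118 F180257) (tt N24253 D40180) (tt N21862 (iv D39045)))
theorem Q23120 : ∀ i, i < 23120 → P i := stepQ 23119 Q23119 (allL N23119 (tt N23779 (iv F183774)) (tt N21874 F180258) (tt N21873 F180259) (tt N23119 F180260) (tt N24253 (iv F185138)) (tt N23119 F180261) (tt N24160 (iv F184947)) (tt N23119 F180262) (tt N21863 (iv D39046)) (tt N23298 (iv F181339)))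
theorem Q23121 : ∀ i, i < 23121 → P i := stepQ 23120 Q23120 (allL N23120 (tt N23761 (iv F183674)) (tt N23296 (iv F181322)) (tt N24254 D40181) (tt N21864 (iv D39047)) (tt N23120 F180263) (tt N21871 F180264) (tt N24255 D40182) (tt N23120 F180265) (tt N23477 (iv F182364)) (tt N24256 D40183))
theorem Q23122 : ∀ i, i < 23122 → P i := stepQ 23121 Q23121 (allL N23121 (tt N23780 (iv F183781)) (tt N23284 (iv F181260)) (tt N23443 (iv F182199)) (tt N24255 (iv F185143)) (tt N21865 F180266) (tt N24165 (iv F184954)) (tt N21864 (iv D39048)) (tt N24257 D40184) (tt N23478 (iv F182369)) (tt N24258 D40185))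
theorem Q23123 : ∀ i, i < 23123 → P i := stepQ 23122 Q23122 (allL N23122 (tt N23781 (iv F183785)) (tt N23297 (iv F181328)) (tt N23476 (iv F182353)) (tt N24256 (iv F185145)) (tt N21866 F180267) (tt N21872 F180268) (tt N24258 (iv F185152)) (tt N23122 F180269) (tt N24259 D40186) (tt N21864 (iv D39049)))
theorem Q23124 : ∀ i, i < 23124 → P i := stepQ 23123 Q23123 (allL N23123 (tt N23782 (iv F183791)) (tt N23267 (iv F181157)) (tt N23355 (iv F181723)) (tt N23123 F180270) (tt N24257 (iv F185149)) (tt N21867 F180271) (tt N23123 F180272) (tt N21865 (iv D39050)) (tt N23479 (iv F182376)) (tt N24260 D40187))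
theorem Q23125 : ∀ i, i < 23125 → P i := stepQ 23124 Q23124 (allL N23124 (tt N23783 (iv F183797)) (tt N23285 (iv F181265)) (tt N23444 (iv F182204)) (tt N23124 F180273) (tt N24258 (iv F185151)) (tt N21868 F180274) (tt N21866 F180275) (tt N24260 (iv F185160)) (tt N24175 (iv F184976)) (tt N21865 (iv D39051)))
theorem Q23126 : ∀ i, i < 23126 → P i := stepQ 23125 Q23125 (allL N23125 (tt N23760 (iv F183667)) (tt N23298 (iv F181334)) (tt N21875 F180276) (tt N23125 F180277) (tt N24259 (iv F185154)) (tt N23125 F180278) (tt N24175 (iv F184975)) (tt N23125 F180279) (tt N21866 (iv D39052)) (tt N21874 F180280))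
theorem Q23127 : ∀ i, i < 23127 → P i := stepQ 23126 Q23126 (allL N23126 (tt N23491 (iv F182448)) (tt N23268 (iv F181164)) (tt N23356 (iv F181730)) (tt N23126 F180281) (tt N24170 (iv F184960)) (tt N24260 (iv F185158)) (tt N21870 F180282) (tt N21868 F180283) (tt N23490 (iv F182446)) (tt N21867 (iv D39053)))
theorem Q23128 : ∀ i, i < 23128 → P i := stepQ 23127 Q23127 (allL N23127 (tt N23486 (iv F182415)) (tt N23174 (iv F180580)) (tt N23407 (iv F182014)) (tt N23127 F180284) (tt N24171 (iv F184963)) (tt N23932 (iv F184248)) (tt N21869 F180285) (tt N23490 (iv F182445)) (tt N21868 (iv D39054)) (tt N21876 F180286))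
theorem Q23129 : ∀ i, i < 23129 → P i := stepQ 23128 Q23128 (allL N23128 (tt N23759 (iv F183663)) (tt N24253 (iv F185136)) (tt N21871 (iv D39055)) (tt N24251 (iv F185129)) (tt N21874 F180287) (tt N24254 (iv F185141)) (tt N24172 (iv F184967)) (tt N23128 F180288) (tt N23301 (iv F181360)) (tt N24259 (iv F185156)))
theorem Q23130 : ∀ i, i < 23130 → P i := stepQ 23129 Q23129 (allL N23129 (tt N23762 (iv F183680)) (tt N23475 (iv F182345)) (tt N24259 (iv F185153)) (tt N21872 F180289) (tt N21875 F180290) (tt N24256 (iv F185147)) (tt N24173 (iv F184970)) (tt N23129 F180291) (tt N23476 (iv F182358)) (tt N21871 (iv D39056)))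
theorem Q23131 : ∀ i, i < 23131 → P i := stepQ 23130 Q23130 (allL N23130 (tt N23784 (iv F183803)) (tt N23474 F182342) (tt N24253 (iv F185137)) (tt N23476 (iv F182354)) (tt N21873 F180292) (tt N24252 (iv F185134)) (tt N24174 (iv F184972)) (tt N23130 F180293) (tt N21872 (iv D39057)) (tt N23302 (iv F181368)))
theorem Q23132 : ∀ i, i < 23132 → P i := stepQ 23131 Q23131 (allL N23131 (tt N23786 (iv F183814)) (tt N23173 (iv F180573)) (tt N23406 (iv F182007)) (tt N23131 F180294) (tt N24261 D40188) (tt N21876 (iv D39058)) (tt N23131 F180295) (tt N23606 (iv F183033)) (tt N23991 (iv F184483)) (tt N23932 (iv F184250)))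
theorem Q23133 : ∀ i, i < 23133 → P i := stepQ 23132 Q23132 (allL N23132 (tt N22639 F180296) (tt N23053 F180297) (tt N21956 F180298) (tt N21878 F180299) (tt N24262 D40189) (tt N21877 (iv D39059)) (tt N22213 F180300) (tt N22983 F180301) (tt N24263 D40190) (tt N22833 F180302))
theorem Q23134 : ∀ i, i < 23134 → P i := stepQ 23133 Q23133 (allL N23133 (tt N22640 F180303) (tt N23054 F180304) (tt N21879 F180305) (tt N24263 (iv F185173)) (tt N22980 F180306) (tt N23050 F180307) (tt N22219 F180308) (tt N22984 F180309) (tt N21878 (iv D39060)) (tt N24264 D40191))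
theorem Q23135 : ∀ i, i < 23135 → P i := stepQ 23134 Q23134 (allL N23134 (tt N22641 F180310) (tt N22980 F180311) (tt N23050 F180312) (tt N21965 F180313) (tt N23054 F180314) (tt N21879 (iv D39061)) (tt N24265 D40192) (tt N22985 F180315) (tt N21880 F180316) (tt N24266 D40193))
theorem Q23136 : ∀ i, i < 23136 → P i := stepQ 23135 Q23135 (allL N23135 (tt N22642 F180317) (tt N23031 F180318) (tt N24264 (iv F185179)) (tt N21966 F180319) (tt N22982 F180320) (tt N24266 (iv F185197)) (tt N22230 F180321) (tt N22986 F180322) (tt N23065 F180323) (tt N21879 (iv D39062)))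
theorem Q23137 : ∀ i, i < 23137 → P i := stepQ 23136 Q23136 (allL N23136 (tt N22643 F180324) (tt N22158 F180325) (tt N23008 F180326) (tt N21968 F180327) (tt N22208 F180328) (tt N21882 F180329) (tt N21880 (iv D39063)) (tt N24267 D40194) (tt N24265 (iv F185191)) (tt N24268 D40195))
theorem Q23138 : ∀ i, i < 23138 → P i := stepQ 23137 Q23137 (allL N23137 (tt N22644 F180330) (tt N22883 F180331) (tt N23032 F180332) (tt N21969 F180333) (tt N23056 F180334) (tt N21881 F180335) (tt N24268 (iv F185213)) (tt N22987 F180336) (tt N24269 D40196) (tt N21880 (iv D39064)))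
theorem Q23139 : ∀ i, i < 23139 → P i := stepQ 23138 Q23138 (allL N23138 (tt N22645 F180337) (tt N22082 F180338) (tt N22683 F180339) (tt N21970 F180340) (tt N21886 F180341) (tt N24267 (iv F185204)) (tt N21884 F180342) (tt N21882 (iv D39065)) (tt N22234 F180343) (tt N22794 (iv F180344)))
theorem Q23140 : ∀ i, i < 23140 → P i := stepQ 23139 Q23139 (allL N23139 (tt N22646 F180345) (tt N22153 F180346) (tt N23000 F180347) (tt N21971 F180348) (tt N21887 F180349) (tt N24268 (iv F185212)) (tt N21883 F180350) (tt N22794 F180351) (tt N24270 D40197) (tt N21882 (iv D39066)))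
theorem Q23141 : ∀ i, i < 23141 → P i := stepQ 23140 Q23140 (allL N23140 (tt N22527 F180352) (tt N21894 F180353) (tt N22812 F180354) (tt N21892 F180355) (tt N21888 F180356) (tt N22330 F180357) (tt N24270 (iv F185227)) (tt N21885 F180358) (tt N21883 (iv D39067)) (tt N22236 F180359))
theorem Q23142 : ∀ i, i < 23142 → P i := stepQ 23141 Q23141 (allL N23141 (tt N22575 F180360) (tt N22154 F180361) (tt N22841 F180362) (tt N21889 F180363) (tt N24270 (iv F185226)) (tt N24271 D40198) (tt N21888 F180364) (tt N22562 F180365) (tt N21887 (iv D39068)) (tt N22258 F180366))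
theorem Q23143 : ∀ i, i < 23143 → P i := stepQ 23142 Q23142 (allL N23142 (tt N22576 F180367) (tt N22278 F180368) (tt N23142 F180369) (tt N24271 (iv F185233)) (tt N22375 F180370) (tt N21889 (iv D39069)) (tt N23142 F180371) (tt N22563 F180372) (tt N22280 F180373) (tt N22261 F180374))
theorem Q23144 : ∀ i, i < 23144 → P i := stepQ 23143 Q23143 (allL N23143 (tt N22649 F180375) (tt N21973 F180376) (tt N22004 F180377) (tt N21915 F180378) (tt N21890 (iv D39070)) (tt N24262 (iv F185166)) (tt N21891 F180379) (tt N23066 F180380) (tt N22995 F180381) (tt N22834 F180382))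
theorem Q23145 : ∀ i, i < 23145 → P i := stepQ 23144 Q23144 (allL N23144 (tt N22530 F180383) (tt N21895 F180384) (tt N22381 F180385) (tt N24270 (iv F185225)) (tt N21893 F180386) (tt N24272 D40199) (tt N21892 (iv D39071)) (tt N22483 F180387) (tt N21971 F180388) (tt N22382 F180389))
theorem Q23146 : ∀ i, i < 23146 → P i := stepQ 23145 Q23145 (allL N23145 (tt N21906 F180390) (tt N24270 (iv F185223)) (tt N22156 F180391) (tt N21895 F180392) (tt N22154 F180393) (tt N24273 D40200) (tt N21894 (iv D39072)) (tt N22484 F180394) (tt N22153 F180395) (tt N22502 F180396))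
theorem Q23147 : ∀ i, i < 23147 → P i := stepQ 23146 Q23146 (allL N23146 (tt N21907 F180397) (tt N24272 (iv F185239)) (tt N21898 F180398) (tt N24273 (iv F185247)) (tt N22501 F180399) (tt N21895 (iv D39073)) (tt N22333 F180400) (tt N22485 F180401) (tt N24274 D40201) (tt N22499 F180402))
theorem Q23148 : ∀ i, i < 23148 → P i := stepQ 23147 Q23147 (allL N23147 (tt N21908 F180403) (tt N21971 F180404) (tt N21899 F180405) (tt N22153 F180406) (tt N21897 F180407) (tt N24275 D40202) (tt N21896 F180408) (tt N22486 F180409) (tt N21895 (iv D39074)) (tt N21913 F180410))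
theorem Q23149 : ∀ i, i < 23149 → P i := stepQ 23148 Q23148 (allL N23148 (tt N21910 F180411) (tt N22654 F180412) (tt N24274 (iv F185252)) (tt N22441 F180413) (tt N22978 F180414) (tt N24276 D40203) (tt N22335 F180415) (tt N22488 F180416) (tt N21898 (iv D39075)) (tt N24277 D40204))
theorem Q23150 : ∀ i, i < 23150 → P i := stepQ 23149 Q23149 (allL N23149 (tt N21911 F180417) (tt N22655 F180418) (tt N24275 (iv F185258)) (tt N22442 F180419) (tt N24278 D40205) (tt N21899 (iv D39076)) (tt N22891 F180420) (tt N22489 F180421) (tt N24276 (iv F185269)) (tt N24279 D40206))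
theorem Q23151 : ∀ i, i < 23151 → P i := stepQ 23150 Q23150 (allL N23150 (tt N21912 F180422) (tt N22656 F180423) (tt N21913 F180424) (tt N22148 F180425) (tt N21902 F180426) (tt N24279 (iv F185288)) (tt N21900 F180427) (tt N22490 F180428) (tt N22409 F180429) (tt N21899 (iv D39077)))
theorem Q23152 : ∀ i, i < 23152 → P i := stepQ 23151 Q23151 (allL N23151 (tt N21915 F180430) (tt N22657 F180431) (tt N22753 F180432) (tt N22649 F180433) (tt N21901 (iv D39078)) (tt N24278 (iv F185281)) (tt N21904 F180434) (tt N22492 F180435) (tt N22740 F180436) (tt N24280 D40207))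
theorem Q23153 : ∀ i, i < 23153 → P i := stepQ 23152 Q23152 (allL N23152 (tt N21916 F180437) (tt N22658 F180438) (tt N21919 F180439) (tt N21903 F180440) (tt N24280 (iv F185295)) (tt N21902 F180441) (tt N21905 F180442) (tt N22493 F180443) (tt N22510 F180444) (tt N21901 (iv D39079)))
theorem Q23154 : ∀ i, i < 23154 → P i := stepQ 23153 Q23153 (allL N23153 (tt N21921 F180445) (tt N22659 F180446) (tt N21918 F180447) (tt N22581 F180448) (tt N21905 F180449) (tt N21917 F180450) (tt N24280 (iv F185296)) (tt N23153 F180451) (tt N22601 F180452) (tt N21904 (iv D39080)))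
theorem Q23155 : ∀ i, i < 23155 → P i := stepQ 23154 Q23154 (allL N23154 (tt N24273 (iv F185245)) (tt N23094 F180453) (tt N22801 F180454) (tt N21907 F180455) (tt N24281 D40208) (tt N21906 (iv D39081)) (tt N22404 F180456) (tt N22833 F180457) (tt N24282 D40209) (tt N22983 F180458))
theorem Q23156 : ∀ i, i < 23156 → P i := stepQ 23155 Q23155 (allL N23155 (tt N24274 (iv F185251)) (tt N23099 F180459) (tt N21910 F180460) (tt N24282 (iv F185308)) (tt N22989 F180461) (tt N24283 D40210) (tt N22406 F180462) (tt N23063 F180463) (tt N21907 (iv D39082)) (tt N24284 D40211))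
theorem Q23157 : ∀ i, i < 23157 → P i := stepQ 23156 Q23156 (allL N23156 (tt N24275 (iv F185256)) (tt N23074 F180464) (tt N21911 F180465) (tt N22798 F180466) (tt N24285 D40212) (tt N21908 (iv D39083)) (tt N24279 (iv F185289)) (tt N22831 F180467) (tt N24283 (iv F185316)) (tt N22891 F180468))
theorem Q23158 : ∀ i, i < 23158 → P i := stepQ 23157 Q23157 (allL N23157 (tt N22753 F180469) (tt N23075 F180470) (tt N21915 F180471) (tt N22972 F180472) (tt N21909 (iv D39084)) (tt N24285 (iv F185327)) (tt N21917 F180473) (tt N23064 F180474) (tt N21974 F180475) (tt N22971 F180476))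
theorem Q23159 : ∀ i, i < 23159 → P i := stepQ 23158 Q23158 (allL N23158 (tt N24276 (iv F185264)) (tt N21965 F180477) (tt N24283 (iv F185313)) (tt N22980 F180478) (tt N24286 D40213) (tt N21910 (iv D39085)) (tt N24287 D40214) (tt N22997 F180479) (tt N21911 F180480) (tt N24288 D40215))
theorem Q23160 : ∀ i, i < 23160 → P i := stepQ 23159 Q23159 (allL N23159 (tt N24277 (iv F185270)) (tt N21966 F180481) (tt N24284 (iv F185318)) (tt N23031 F180482) (tt N22991 F180483) (tt N24288 (iv F185341)) (tt N22411 F180484) (tt N23065 F180485) (tt N22986 F180486) (tt N21910 (iv D39086)))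
theorem Q23161 : ∀ i, i < 23161 → P i := stepQ 23160 Q23160 (allL N23160 (tt N24278 (iv F185277)) (tt N21967 F180487) (tt N24285 (iv F185325)) (tt N24262 (iv F185165)) (tt N21911 (iv D39087)) (tt N21915 F180488) (tt N24289 D40216) (tt N22996 F180489) (tt N24286 (iv F185333)) (tt N24290 D40217))
theorem Q23162 : ∀ i, i < 23162 → P i := stepQ 23161 Q23161 (allL N23161 (tt N22891 F180490) (tt N21968 F180491) (tt N24279 (iv F185286)) (tt N22158 F180492) (tt N24289 (iv F185346)) (tt N21913 F180493) (tt N21911 (iv D39088)) (tt N24291 D40218) (tt N24287 (iv F185338)) (tt N24275 (iv F185263)))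
theorem Q23163 : ∀ i, i < 23163 → P i := stepQ 23162 Q23162 (allL N23162 (tt N24279 (iv F185284)) (tt N21969 F180494) (tt N22891 F180495) (tt N22883 F180496) (tt N24290 (iv F185352)) (tt N21912 F180497) (tt N24275 (iv F185261)) (tt N22988 F180498) (tt N24292 D40219) (tt N21911 (iv D39089)))
theorem Q23164 : ∀ i, i < 23164 → P i := stepQ 23163 Q23163 (allL N23163 (tt N22816 F180499) (tt N21970 F180500) (tt N22490 F180501) (tt N22082 F180502) (tt N21920 F180503) (tt N24291 (iv F185360)) (tt N21914 F180504) (tt N21913 (iv D39090)) (tt N22415 F180505) (tt N22486 F180506))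
theorem Q23165 : ∀ i, i < 23165 → P i := stepQ 23164 Q23164 (allL N23164 (tt N24280 (iv F185291)) (tt N21974 F180507) (tt N22971 F180508) (tt N22834 F180509) (tt N21916 F180510) (tt N24290 (iv F185353)) (tt N21921 F180511) (tt N23067 F180512) (tt N23075 F180513) (tt N21915 (iv D39091)))
theorem Q23166 : ∀ i, i < 23166 → P i := stepQ 23165 Q23165 (allL N23165 (tt N22971 F180514) (tt N21985 F180515) (tt N24280 (iv F185293)) (tt N22291 F180516) (tt N21919 F180517) (tt N24289 (iv F185347)) (tt N21918 (iv D39092)) (tt N24293 D40220) (tt N22520 F180518) (tt N22753 F180519))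
theorem Q23167 : ∀ i, i < 23167 → P i := stepQ 23166 Q23166 (allL N23166 (tt N22969 F180520) (tt N21987 F180521) (tt N22493 F180522) (tt N21922 F180523) (tt N24293 (iv F185372)) (tt N21920 F180524) (tt N23166 F180525) (tt N21919 (iv D39093)) (tt N22458 F180526) (tt N22487 F180527))
theorem Q23168 : ∀ i, i < 23168 → P i := stepQ 23167 Q23167 (allL N23167 (tt N22684 F180528) (tt N22878 F180529) (tt N22383 F180530) (tt N21925 F180531) (tt N23167 F180532) (tt N24294 D40221) (tt N21923 (iv D39094)) (tt N22422 F180533) (tt N24295 D40222) (tt N22039 F180534))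
theorem Q23169 : ∀ i, i < 23169 → P i := stepQ 23168 Q23168 (allL N23168 (tt N22685 F180535) (tt N22879 F180536) (tt N22384 F180537) (tt N21926 F180538) (tt N23168 F180539) (tt N22689 F180540) (tt N24295 (iv F185388)) (tt N21924 F180541) (tt N21923 (iv D39095)) (tt N22688 F180542))
theorem Q23170 : ∀ i, i < 23170 → P i := stepQ 23169 Q23169 (allL N23169 (tt N22686 F180543) (tt N23060 F180544) (tt N21931 F180545) (tt N24294 (iv F185379)) (tt N23002 F180546) (tt N21925 (iv D39096)) (tt N21942 F180547) (tt N22424 F180548) (tt N24296 D40223) (tt N22041 F180549))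
theorem Q23171 : ∀ i, i < 23171 → P i := stepQ 23170 Q23170 (allL N23170 (tt N22687 F180550) (tt N23062 F180551) (tt N21932 F180552) (tt N24295 (iv F185386)) (tt N21929 F180553) (tt N24297 D40224) (tt N21926 F180554) (tt N22425 F180555) (tt N21925 (iv D39097)) (tt N24298 D40225))
theorem Q23172 : ∀ i, i < 23172 → P i := stepQ 23171 Q23171 (allL N23171 (tt N22688 F180556) (tt N23045 F180557) (tt N21933 F180558) (tt N22689 F180559) (tt N23171 F180560) (tt N21926 (iv D39098)) (tt N24299 D40226) (tt N21927 F180561) (tt N21944 F180562) (tt N22685 (iv F180563)))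
theorem Q23173 : ∀ i, i < 23173 → P i := stepQ 23172 Q23172 (allL N23172 (tt N22689 F180564) (tt N23024 F180565) (tt N21934 F180566) (tt N22688 F180567) (tt N21930 F180568) (tt N22685 F180569) (tt N24298 (iv F185406)) (tt N21928 F180570) (tt N22043 F180571) (tt N21926 (iv D39099)))
theorem Q23174 : ∀ i, i < 23174 → P i := stepQ 23173 Q23173 (allL N23173 (tt N22690 F180572) (tt N23131 F180573) (tt N21937 F180574) (tt N23173 F180575) (tt N24300 D40227) (tt N21929 (iv D39100)) (tt N23173 F180576) (tt N22427 F180577) (tt N22958 F180578) (tt N24301 D40228))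
theorem Q23175 : ∀ i, i < 23175 → P i := stepQ 23174 Q23174 (allL N23174 (tt N22691 F180579) (tt N23127 F180580) (tt N21938 F180581) (tt N23174 F180582) (tt N24298 (iv F185405)) (tt N24301 (iv F185427)) (tt N21930 F180583) (tt N22428 F180584) (tt N22045 F180585) (tt N21929 (iv D39101)))
theorem Q23176 : ∀ i, i < 23176 → P i := stepQ 23175 Q23175 (allL N23175 (tt N22692 F180586) (tt N22186 F180587) (tt N24296 (iv F185393)) (tt N22389 F180588) (tt N23003 F180589) (tt N24302 D40229) (tt N21947 F180590) (tt N22429 F180591) (tt N21931 (iv D39102)) (tt N24303 D40230))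
theorem Q23177 : ∀ i, i < 23177 → P i := stepQ 23176 Q23176 (allL N23176 (tt N22693 F180592) (tt N22187 F180593) (tt N24297 (iv F185399)) (tt N22390 F180594) (tt N24304 D40231) (tt N21932 (iv D39103)) (tt N24305 D40232) (tt N22430 F180595) (tt N24302 (iv F185434)) (tt N24306 D40233))
theorem Q23178 : ∀ i, i < 23178 → P i := stepQ 23177 Q23177 (allL N23177 (tt N22694 F180596) (tt N22188 F180597) (tt N24298 (iv F185403)) (tt N22391 F180598) (tt N21938 F180599) (tt N24306 (iv F185453)) (tt N21934 F180600) (tt N22431 F180601) (tt N22048 F180602) (tt N21932 (iv D39104)))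
theorem Q23179 : ∀ i, i < 23179 → P i := stepQ 23178 Q23178 (allL N23178 (tt N22695 F180603) (tt N22189 F180604) (tt N24299 (iv F185411)) (tt N22392 F180605) (tt N23178 F180606) (tt N24305 (iv F185449)) (tt N21933 (iv D39105)) (tt N24307 D40234) (tt N21950 F180607) (tt N24308 D40235))
theorem Q23180 : ∀ i, i < 23180 → P i := stepQ 23179 Q23179 (allL N23179 (tt N22384 F180608) (tt N22190 F180609) (tt N22685 F180610) (tt N22323 F180611) (tt N23179 F180612) (tt N21934 F180613) (tt N24308 (iv F185468)) (tt N21936 F180614) (tt N22321 F180615) (tt N21933 (iv D39106)))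
theorem Q23181 : ∀ i, i < 23181 → P i := stepQ 23180 Q23180 (allL N23180 (tt N22696 F180616) (tt N22191 F180617) (tt N23011 F180618) (tt N22393 F180619) (tt N23180 F180620) (tt N22434 F180621) (tt N24307 (iv F185460)) (tt N21935 (iv D39107)) (tt N21952 F180622) (tt N22846 F180623))
theorem Q23182 : ∀ i, i < 23182 → P i := stepQ 23181 Q23181 (allL N23181 (tt N22697 F180624) (tt N22194 F180625) (tt N24300 (iv F185419)) (tt N24309 D40236) (tt N21937 (iv D39108)) (tt N24304 (iv F185444)) (tt N23181 F180626) (tt N22435 F180627) (tt N23006 F180628) (tt N24310 D40237))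
theorem Q23183 : ∀ i, i < 23183 → P i := stepQ 23182 Q23182 (allL N23182 (tt N22698 F180629) (tt N22195 F180630) (tt N24301 (iv F185425)) (tt N21940 F180631) (tt N24310 (iv F185479)) (tt N21938 F180632) (tt N23182 F180633) (tt N22436 F180634) (tt N24311 D40238) (tt N21937 (iv D39109)))
theorem Q23184 : ∀ i, i < 23184 → P i := stepQ 23183 Q23183 (allL N23183 (tt N22699 F180635) (tt N22196 F180636) (tt N24312 D40239) (tt N21939 (iv D39110)) (tt N24309 (iv F185473)) (tt N22395 F180637) (tt N23183 F180638) (tt N22437 F180639) (tt N22556 F180640) (tt N24313 D40240))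
theorem Q23185 : ∀ i, i < 23185 → P i := stepQ 23184 Q23184 (allL N23184 (tt N22700 F180641) (tt N22197 F180642) (tt N23184 F180643) (tt N24313 (iv F185497)) (tt N21940 F180644) (tt N21993 F180645) (tt N23184 F180646) (tt N22438 F180647) (tt N22290 F180648) (tt N21939 (iv D39111)))
theorem Q23186 : ∀ i, i < 23186 → P i := stepQ 23185 Q23185 (allL N23185 (tt N22701 F180649) (tt N22198 F180650) (tt N23185 F180651) (tt N24311 (iv F185484)) (tt N22290 F180652) (tt N22054 F180653) (tt N23185 F180654) (tt N22439 F180655) (tt N21940 (iv D39112)) (tt N22778 F180656))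
theorem Q23187 : ∀ i, i < 23187 → P i := stepQ 23186 Q23186 (allL N23186 (tt N22708 F180657) (tt N22876 F180658) (tt N22983 F180659) (tt N21942 F180660) (tt N24314 D40241) (tt N21941 (iv D39113)) (tt N24294 (iv F185380)) (tt N21956 F180661) (tt N24315 D40242) (tt N22801 F180662))
theorem Q23188 : ∀ i, i < 23188 → P i := stepQ 23187 Q23187 (allL N23187 (tt N22709 F180663) (tt N23061 F180664) (tt N21947 F180665) (tt N24315 (iv F185512)) (tt N23034 F180666) (tt N24316 D40243) (tt N24296 (iv F185395)) (tt N21960 F180667) (tt N21942 (iv D39114)) (tt N24317 D40244))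
theorem Q23189 : ∀ i, i < 23189 → P i := stepQ 23188 Q23188 (allL N23188 (tt N22710 F180668) (tt N23042 F180669) (tt N21948 F180670) (tt N22899 F180671) (tt N24318 D40245) (tt N21943 (iv D39115)) (tt N24319 D40246) (tt N21961 F180672) (tt N24316 (iv F185520)) (tt N22885 F180673))
theorem Q23190 : ∀ i, i < 23190 → P i := stepQ 23189 Q23189 (allL N23189 (tt N22711 F180674) (tt N23044 F180675) (tt N21950 F180676) (tt N22721 F180677) (tt N23189 F180678) (tt N24319 (iv F185537)) (tt N21944 (iv D39116)) (tt N24320 D40247) (tt N24299 (iv F185415)) (tt N22886 F180679))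
theorem Q23191 : ∀ i, i < 23191 → P i := stepQ 23190 Q23190 (allL N23190 (tt N22712 F180680) (tt N23046 F180681) (tt N21952 F180682) (tt N22702 F180683) (tt N23190 F180684) (tt N21963 F180685) (tt N24320 (iv F185544)) (tt N21945 (iv D39117)) (tt N23011 F180686) (tt N22887 F180687))
theorem Q23192 : ∀ i, i < 23192 → P i := stepQ 23191 Q23191 (allL N23191 (tt N22713 F180688) (tt N23048 F180689) (tt N21954 F180690) (tt N24321 D40248) (tt N21946 (iv D39118)) (tt N24318 (iv F185530)) (tt N23191 F180691) (tt N21964 F180692) (tt N23037 F180693) (tt N22888 F180694))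
theorem Q23193 : ∀ i, i < 23193 → P i := stepQ 23192 Q23192 (allL N23192 (tt N22714 F180695) (tt N22997 F180696) (tt N24316 (iv F185517)) (tt N22985 F180697) (tt N24322 D40249) (tt N21947 (iv D39119)) (tt N24323 D40250) (tt N21965 F180698) (tt N21948 F180699) (tt N24324 D40251))
theorem Q23194 : ∀ i, i < 23194 → P i := stepQ 23193 Q23193 (allL N23193 (tt N22715 F180700) (tt N23065 F180701) (tt N24317 (iv F185523)) (tt N22986 F180702) (tt N23039 F180703) (tt N24324 (iv F185568)) (tt N24303 (iv F185439)) (tt N21966 F180704) (tt N23031 F180705) (tt N21947 (iv D39120)))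
theorem Q23195 : ∀ i, i < 23195 → P i := stepQ 23194 Q23194 (allL N23194 (tt N22716 F180706) (tt N22996 F180707) (tt N24318 (iv F185529)) (tt N23092 F180708) (tt N21948 (iv D39121)) (tt N21954 F180709) (tt N24325 D40252) (tt N21967 F180710) (tt N24322 (iv F185560)) (tt N24326 D40253))
theorem Q23196 : ∀ i, i < 23196 → P i := stepQ 23195 Q23195 (allL N23195 (tt N22717 F180711) (tt N22670 F180712) (tt N24319 (iv F185535)) (tt N22669 F180713) (tt N24325 (iv F185573)) (tt N21950 F180714) (tt N21948 (iv D39122)) (tt N24327 D40254) (tt N24323 (iv F185564)) (tt N24328 D40255))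
theorem Q23197 : ∀ i, i < 23197 → P i := stepQ 23196 Q23196 (allL N23196 (tt N22718 F180715) (tt N22988 F180716) (tt N22885 F180717) (tt N22987 F180718) (tt N24326 (iv F185579)) (tt N21949 F180719) (tt N24328 (iv F185592)) (tt N21969 F180720) (tt N24329 D40256) (tt N21948 (iv D39123)))
theorem Q23198 : ∀ i, i < 23198 → P i := stepQ 23197 Q23197 (allL N23197 (tt N22719 F180721) (tt N22661 F180722) (tt N24320 (iv F185541)) (tt N22660 F180723) (tt N23197 F180724) (tt N24327 (iv F185585)) (tt N21952 F180725) (tt N21950 (iv D39124)) (tt N24307 (iv F185461)) (tt N24330 D40257))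
theorem Q23199 : ∀ i, i < 23199 → P i := stepQ 23198 Q23198 (allL N23198 (tt N22405 F180726) (tt N22376 F180727) (tt N22886 F180728) (tt N22334 F180729) (tt N23198 F180730) (tt N24328 (iv F185591)) (tt N21951 F180731) (tt N24330 (iv F185605)) (tt N22332 (iv F180732)) (tt N21950 (iv D39125)))
theorem Q23200 : ∀ i, i < 23200 → P i := stepQ 23199 Q23199 (allL N23199 (tt N22352 F180733) (tt N22339 F180734) (tt N22887 F180735) (tt N22302 F180736) (tt N23199 F180737) (tt N21972 F180738) (tt N24330 (iv F185604)) (tt N21953 F180739) (tt N22300 F180740) (tt N21952 (iv D39126)))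
theorem Q23201 : ∀ i, i < 23201 → P i := stepQ 23200 Q23200 (allL N23200 (tt N22720 F180741) (tt N23067 F180742) (tt N22888 F180743) (tt N23105 F180744) (tt N21955 F180745) (tt N24326 (iv F185580)) (tt N23200 F180746) (tt N21974 F180747) (tt N23064 (iv F180748)) (tt N21954 (iv D39127)))
theorem Q23202 : ∀ i, i < 23202 → P i := stepQ 23201 Q23201 (allL N23201 (tt N22726 F180749) (tt N22953 F180750) (tt N24262 (iv F185164)) (tt N23069 F180751) (tt N21956 (iv D39128)) (tt N22004 F180752) (tt N22533 F180753) (tt N24314 (iv F185507)) (tt N24331 D40258) (tt N22837 F180754))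
theorem Q23203 : ∀ i, i < 23203 → P i := stepQ 23202 Q23202 (allL N23202 (tt N22727 F180755) (tt N22955 F180756) (tt N24263 (iv F185172)) (tt N21960 F180757) (tt N24331 (iv F185610)) (tt N24332 D40259) (tt N22534 F180758) (tt N24315 (iv F185514)) (tt N21956 (iv D39129)) (tt N24333 D40260))
theorem Q23204 : ∀ i, i < 23204 → P i := stepQ 23203 Q23203 (allL N23203 (tt N22728 F180759) (tt N22918 F180760) (tt N23049 F180761) (tt N21961 F180762) (tt N24334 D40261) (tt N21957 (iv D39130)) (tt N24335 D40262) (tt N22899 F180763) (tt N24332 (iv F185617)) (tt N22822 F180764))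
theorem Q23205 : ∀ i, i < 23205 → P i := stepQ 23204 Q23204 (allL N23204 (tt N22729 F180765) (tt N22920 F180766) (tt N23007 F180767) (tt N21962 F180768) (tt N23204 F180769) (tt N24335 (iv F185633)) (tt N21958 (iv D39131)) (tt N24336 D40263) (tt N22537 F180770) (tt N22823 F180771))
theorem Q23206 : ∀ i, i < 23206 → P i := stepQ 23205 Q23205 (allL N23205 (tt N22730 F180772) (tt N22921 F180773) (tt N22682 F180774) (tt N21963 F180775) (tt N23205 F180776) (tt N22702 F180777) (tt N24336 (iv F185640)) (tt N21959 (iv D39132)) (tt N22538 F180778) (tt N22824 F180779))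
theorem Q23207 : ∀ i, i < 23207 → P i := stepQ 23206 Q23206 (allL N23206 (tt N22731 F180780) (tt N23084 F180781) (tt N21965 F180782) (tt N24332 (iv F185615)) (tt N24337 D40264) (tt N21960 (iv D39133)) (tt N24338 D40265) (tt N24316 (iv F185519)) (tt N21961 F180783) (tt N24339 D40266))
theorem Q23208 : ∀ i, i < 23208 → P i := stepQ 23207 Q23207 (allL N23207 (tt N22732 F180784) (tt N23102 F180785) (tt N21966 F180786) (tt N24333 (iv F185620)) (tt N23072 F180787) (tt N24339 (iv F185656)) (tt N22540 F180788) (tt N24317 (iv F185525)) (tt N22999 F180789) (tt N21960 (iv D39134)))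
theorem Q23209 : ∀ i, i < 23209 → P i := stepQ 23208 Q23208 (allL N23208 (tt N22733 F180790) (tt N23081 F180791) (tt N21967 F180792) (tt N24340 D40267) (tt N21961 (iv D39135)) (tt N21964 F180793) (tt N24341 D40268) (tt N24318 (iv F185531)) (tt N24337 (iv F185647)) (tt N22992 F180794))
theorem Q23210 : ∀ i, i < 23210 → P i := stepQ 23209 Q23209 (allL N23209 (tt N22734 F180795) (tt N23083 F180796) (tt N21968 F180797) (tt N24335 (iv F185632)) (tt N24341 (iv F185665)) (tt N21962 F180798) (tt N21961 (iv D39136)) (tt N24342 D40269) (tt N24338 (iv F185652)) (tt N22993 F180799))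
theorem Q23211 : ∀ i, i < 23211 → P i := stepQ 23210 Q23210 (allL N23210 (tt N22736 F180800) (tt N23085 F180801) (tt N21970 F180802) (tt N24336 (iv F185638)) (tt N21980 F180803) (tt N24342 (iv F185671)) (tt N21963 F180804) (tt N21962 (iv D39137)) (tt N22544 F180805) (tt N22994 F180806))
theorem Q23212 : ∀ i, i < 23212 → P i := stepQ 23211 Q23211 (allL N23211 (tt N22739 F180807) (tt N22975 F180808) (tt N24343 D40270) (tt N21964 (iv D39138)) (tt N22010 F180809) (tt N24340 (iv F185660)) (tt N21981 F180810) (tt N24321 (iv F185552)) (tt N22974 F180811) (tt N22995 F180812))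
theorem Q23213 : ∀ i, i < 23213 → P i := stepQ 23212 Q23212 (allL N23212 (tt N22741 F180813) (tt N24286 (iv F185330)) (tt N24337 (iv F185645)) (tt N24344 D40271) (tt N21965 (iv D39139)) (tt N23076 F180814) (tt N24345 D40272) (tt N24322 (iv F185559)) (tt N21967 F180815) (tt N24346 D40273))
theorem Q23214 : ∀ i, i < 23214 → P i := stepQ 23213 Q23213 (allL N23213 (tt N22742 F180816) (tt N24287 (iv F185335)) (tt N24338 (iv F185650)) (tt N24265 (iv F185188)) (tt N24345 (iv F185687)) (tt N22546 F180817) (tt N21965 (iv D39140)) (tt N24347 D40274) (tt N21968 F180818) (tt N24348 D40275))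
theorem Q23215 : ∀ i, i < 23215 → P i := stepQ 23214 Q23214 (allL N23214 (tt N22743 F180819) (tt N24288 (iv F185339)) (tt N24339 (iv F185655)) (tt N24266 (iv F185195)) (tt N24346 (iv F185690)) (tt N21966 F180820) (tt N24348 (iv F185697)) (tt N24324 (iv F185569)) (tt N24349 D40276) (tt N21965 (iv D39141)))
theorem Q23216 : ∀ i, i < 23216 → P i := stepQ 23215 Q23215 (allL N23215 (tt N22744 F180821) (tt N24262 (iv F185163)) (tt N24350 D40277) (tt N21967 (iv D39142)) (tt N23053 F180822) (tt N21973 F180823) (tt N24351 D40278) (tt N23092 F180824) (tt N24344 (iv F185685)) (tt N24352 D40279))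
theorem Q23217 : ∀ i, i < 23217 → P i := stepQ 23216 Q23216 (allL N23216 (tt N22745 F180825) (tt N24289 (iv F185344)) (tt N24341 (iv F185664)) (tt N24351 (iv F185710)) (tt N21968 F180826) (tt N21985 F180827) (tt N21967 (iv D39143)) (tt N24353 D40280) (tt N24345 (iv F185688)) (tt N24354 D40281))
theorem Q23218 : ∀ i, i < 23218 → P i := stepQ 23217 Q23217 (allL N23217 (tt N22746 F180828) (tt N24290 (iv F185349)) (tt N22992 F180829) (tt N24352 (iv F185716)) (tt N21969 F180830) (tt N21974 F180831) (tt N24354 (iv F185728)) (tt N24326 (iv F185581)) (tt N24355 D40282) (tt N21967 (iv D39144)))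
theorem Q23219 : ∀ i, i < 23219 → P i := stepQ 23218 Q23218 (allL N23218 (tt N22747 F180832) (tt N24291 (iv F185357)) (tt N24342 (iv F185670)) (tt N24267 (iv F185202)) (tt N24353 (iv F185721)) (tt N21970 F180833) (tt N24327 (iv F185586)) (tt N21968 (iv D39145)) (tt N24347 (iv F185694)) (tt N24356 D40283))
theorem Q23220 : ∀ i, i < 23220 → P i := stepQ 23219 Q23219 (allL N23219 (tt N22748 F180834) (tt N24275 (iv F185257)) (tt N22993 F180835) (tt N24268 (iv F185210)) (tt N24354 (iv F185726)) (tt N21971 F180836) (tt N21969 F180837) (tt N24356 (iv F185737)) (tt N24357 D40284) (tt N21968 (iv D39146)))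
theorem Q23221 : ∀ i, i < 23221 → P i := stepQ 23220 Q23220 (allL N23220 (tt N22749 F180838) (tt N24292 (iv F185363)) (tt N22990 F180839) (tt N24269 (iv F185218)) (tt N24355 (iv F185731)) (tt N22989 F180840) (tt N24357 (iv F185740)) (tt N24329 (iv F185598)) (tt N21969 (iv D39147)) (tt N24349 (iv F185701)))
theorem Q23222 : ∀ i, i < 23222 → P i := stepQ 23221 Q23221 (allL N23221 (tt N22750 F180841) (tt N22486 F180842) (tt N22994 F180843) (tt N22794 F180844) (tt N21989 F180845) (tt N24356 (iv F185736)) (tt N21972 F180846) (tt N21971 F180847) (tt N22483 F180848) (tt N21970 (iv D39148)))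
theorem Q23223 : ∀ i, i < 23223 → P i := stepQ 23222 Q23222 (allL N23222 (tt N22751 F180849) (tt N22947 F180850) (tt N21973 (iv D39149)) (tt N24343 (iv F185675)) (tt N21975 F180851) (tt N24350 (iv F185705)) (tt N21990 F180852) (tt N22976 F180853) (tt N23086 F180854) (tt N22934 (iv F180855)))
theorem Q23224 : ∀ i, i < 23224 → P i := stepQ 23223 Q23223 (allL N23223 (tt N22752 F180856) (tt N22834 F180857) (tt N22934 F180858) (tt N21974 F180859) (tt N21976 F180860) (tt N24352 (iv F185718)) (tt N21991 F180861) (tt N23105 F180862) (tt N22972 F180863) (tt N21973 (iv D39150)))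
theorem Q23225 : ∀ i, i < 23225 → P i := stepQ 23224 Q23224 (allL N23224 (tt N22595 F180864) (tt N22758 F180865) (tt N21982 F180866) (tt N24358 D40285) (tt N21977 (iv D39151)) (tt N22592 F180867) (tt N24359 D40286) (tt N23224 F180868) (tt N21978 F180869) (tt N22594 F180870))
theorem Q23226 : ∀ i, i < 23226 → P i := stepQ 23225 Q23225 (allL N23225 (tt N22596 F180871) (tt N22760 F180872) (tt N21983 F180873) (tt N23225 F180874) (tt N24359 (iv F185751)) (tt N22388 F180875) (tt N21977 (iv D39152)) (tt N24360 D40287) (tt N21979 F180876) (tt N22387 F180877))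
theorem Q23227 : ∀ i, i < 23227 → P i := stepQ 23226 Q23226 (allL N23226 (tt N22756 F180878) (tt N22977 F180879) (tt N24361 D40288) (tt N21978 (iv D39153)) (tt N23226 F180880) (tt N21981 F180881) (tt N24362 D40289) (tt N23226 F180882) (tt N24358 (iv F185746)) (tt N23108 F180883))
theorem Q23228 : ∀ i, i < 23228 → P i := stepQ 23227 Q23227 (allL N23227 (tt N22757 F180884) (tt N23115 F180885) (tt N21985 F180886) (tt N24362 (iv F185771)) (tt N21979 F180887) (tt N24341 (iv F185666)) (tt N21978 (iv D39154)) (tt N24363 D40290) (tt N24359 (iv F185752)) (tt N23109 F180888))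
theorem Q23229 : ∀ i, i < 23229 → P i := stepQ 23228 Q23228 (allL N23228 (tt N22759 F180889) (tt N23116 F180890) (tt N21987 F180891) (tt N23228 F180892) (tt N24363 (iv F185777)) (tt N21980 F180893) (tt N23228 F180894) (tt N21979 (iv D39155)) (tt N24360 (iv F185760)) (tt N23110 F180895))
theorem Q23230 : ∀ i, i < 23230 → P i := stepQ 23229 Q23229 (allL N23229 (tt N22762 F180896) (tt N22959 F180897) (tt N21981 (iv D39156)) (tt N21990 F180898) (tt N22011 F180899) (tt N24361 (iv F185766)) (tt N24343 (iv F185677)) (tt N23229 F180900) (tt N22842 F180901) (tt N22012 F180902))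
theorem Q23231 : ∀ i, i < 23231 → P i := stepQ 23230 Q23230 (allL N23230 (tt N22755 F180903) (tt N22297 F180904) (tt N24364 D40291) (tt N21982 (iv D39157)) (tt N21992 F180905) (tt N23111 F180906) (tt N24365 D40292) (tt N23230 F180907) (tt N21984 F180908) (tt N22598 F180909))
theorem Q23232 : ∀ i, i < 23232 → P i := stepQ 23231 Q23231 (allL N23231 (tt N22725 F180910) (tt N22520 F180911) (tt N24359 (iv F185750)) (tt N24365 (iv F185789)) (tt N21983 F180912) (tt N24366 D40293) (tt N21982 (iv D39158)) (tt N24367 D40294) (tt N21985 F180913) (tt N22394 F180914))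
theorem Q23233 : ∀ i, i < 23233 → P i := stepQ 23232 Q23232 (allL N23232 (tt N22707 F180915) (tt N22458 F180916) (tt N24360 (iv F185756)) (tt N21994 F180917) (tt N24367 (iv F185800)) (tt N22080 F180918) (tt N23232 F180919) (tt N21983 (iv D39159)) (tt N21987 F180920) (tt N22079 F180921))
theorem Q23234 : ∀ i, i < 23234 → P i := stepQ 23233 Q23233 (allL N23233 (tt N22763 F180922) (tt N22586 F180923) (tt N21984 (iv D39160)) (tt N24361 (iv F185764)) (tt N21995 F180924) (tt N21990 F180925) (tt N24368 D40295) (tt N23233 F180926) (tt N24364 (iv F185785)) (tt N22961 (iv F180927)))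
theorem Q23235 : ∀ i, i < 23235 → P i := stepQ 23234 Q23234 (allL N23234 (tt N22764 F180928) (tt N22291 F180929) (tt N24368 (iv F185806)) (tt N21985 F180930) (tt N21996 F180931) (tt N24351 (iv F185712)) (tt N21984 (iv D39161)) (tt N24369 D40296) (tt N24365 (iv F185791)) (tt N24370 D40297))
theorem Q23236 : ∀ i, i < 23236 → P i := stepQ 23235 Q23235 (allL N23235 (tt N22765 F180932) (tt N22296 F180933) (tt N22961 F180934) (tt N21986 F180935) (tt N21997 F180936) (tt N21991 F180937) (tt N24370 (iv F185819)) (tt N23235 F180938) (tt N22681 F180939) (tt N21984 (iv D39162)))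
theorem Q23237 : ∀ i, i < 23237 → P i := stepQ 23236 Q23236 (allL N23236 (tt N22766 F180940) (tt N24293 (iv F185369)) (tt N24363 (iv F185776)) (tt N24369 (iv F185811)) (tt N21987 F180941) (tt N24353 (iv F185722)) (tt N23236 F180942) (tt N21985 (iv D39163)) (tt N24367 (iv F185802)) (tt N24371 D40298))
theorem Q23238 : ∀ i, i < 23238 → P i := stepQ 23237 Q23237 (allL N23237 (tt N22767 F180943) (tt N22753 F180944) (tt N23109 F180945) (tt N24370 (iv F185817)) (tt N21988 F180946) (tt N24354 (iv F185727)) (tt N21986 F180947) (tt N24371 (iv F185826)) (tt N22677 F180948) (tt N21985 (iv D39164)))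
theorem Q23239 : ∀ i, i < 23239 → P i := stepQ 23238 Q23238 (allL N23238 (tt N22768 F180949) (tt N22487 F180950) (tt N23110 F180951) (tt N22000 F180952) (tt N24371 (iv F185824)) (tt N21989 F180953) (tt N23238 F180954) (tt N21988 F180955) (tt N22668 F180956) (tt N21987 (iv D39165)))
theorem Q23240 : ∀ i, i < 23240 → P i := stepQ 23239 Q23239 (allL N23239 (tt N22770 F180957) (tt N22587 F180958) (tt N21992 (iv D39166)) (tt N23239 F180959) (tt N24364 (iv F185782)) (tt N23239 F180960) (tt N24372 D40299) (tt N23239 F180961) (tt N21995 F180962) (tt N22599 F180963))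
theorem Q23241 : ∀ i, i < 23241 → P i := stepQ 23240 Q23240 (allL N23240 (tt N22771 F180964) (tt N22292 F180965) (tt N24372 (iv F185830)) (tt N21993 F180966) (tt N24365 (iv F185790)) (tt N24313 (iv F185498)) (tt N21992 (iv D39167)) (tt N24373 D40300) (tt N21996 F180967) (tt N22395 F180968))
theorem Q23242 : ∀ i, i < 23242 → P i := stepQ 23241 Q23241 (allL N23241 (tt N22772 F180969) (tt N22276 F180970) (tt N23241 F180971) (tt N24373 (iv F185836)) (tt N21994 F180972) (tt N22438 F180973) (tt N23241 F180974) (tt N21993 (iv D39168)) (tt N21998 F180975) (tt N22081 F180976))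
theorem Q23243 : ∀ i, i < 23243 → P i := stepQ 23242 Q23242 (allL N23242 (tt N22773 F180977) (tt N22570 F180978) (tt N21996 F180979) (tt N23242 F180980) (tt N24368 (iv F185807)) (tt N22287 F180981) (tt N21995 (iv D39169)) (tt N24374 D40301) (tt N24372 (iv F185832)) (tt N22962 F180982))
theorem Q23244 : ∀ i, i < 23244 → P i := stepQ 23243 Q23243 (allL N23243 (tt N22774 F180983) (tt N22274 F180984) (tt N24374 (iv F185843)) (tt N21998 F180985) (tt N24369 (iv F185812)) (tt N22271 F180986) (tt N23243 F180987) (tt N21996 (iv D39170)) (tt N24373 (iv F185839)) (tt N24375 D40302))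
theorem Q23245 : ∀ i, i < 23245 → P i := stepQ 23244 Q23244 (allL N23244 (tt N22775 F180988) (tt N22281 F180989) (tt N22962 F180990) (tt N21999 F180991) (tt N24370 (iv F185818)) (tt N22279 F180992) (tt N21997 F180993) (tt N24375 (iv F185854)) (tt N22679 F180994) (tt N21996 (iv D39171)))
theorem Q23246 : ∀ i, i < 23246 → P i := stepQ 23245 Q23245 (allL N23245 (tt N22280 F180995) (tt N22266 F180996) (tt N23245 F180997) (tt N24375 (iv F185851)) (tt N22000 F180998) (tt N22263 F180999) (tt N23245 F181000) (tt N21999 F181001) (tt N22576 F181002) (tt N21998 (iv D39172)))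
theorem Q23247 : ∀ i, i < 23247 → P i := stepQ 23246 Q23246 (allL N23246 (tt N22779 F181003) (tt N22881 F181004) (tt N23066 F181005) (tt N23103 F181006) (tt N22001 (iv D39173)) (tt N24314 (iv F185506)) (tt N23246 F181007) (tt N22004 F181008) (tt N24376 D40303) (tt N22802 F181009))
theorem Q23248 : ∀ i, i < 23248 → P i := stepQ 23247 Q23247 (allL N23247 (tt N22780 F181010) (tt N22882 F181011) (tt N22889 F181012) (tt N22002 F181013) (tt N24376 (iv F185860)) (tt N22903 F181014) (tt N23247 F181015) (tt N22005 F181016) (tt N22001 (iv D39174)) (tt N22924 F181017))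
theorem Q23249 : ∀ i, i < 23249 → P i := stepQ 23248 Q23248 (allL N23248 (tt N22781 F181018) (tt N22925 F181019) (tt N22924 F181020) (tt N22003 (iv D39175)) (tt N24321 (iv F185550)) (tt N22904 F181021) (tt N23248 F181022) (tt N22010 F181023) (tt N22913 F181024) (tt N22889 F181025))
theorem Q23250 : ∀ i, i < 23250 → P i := stepQ 23249 Q23249 (allL N23249 (tt N22785 F181026) (tt N22946 F181027) (tt N22995 F181028) (tt N22934 F181029) (tt N22005 F181030) (tt N24377 D40304) (tt N22012 F181031) (tt N24376 (iv F185862)) (tt N22004 (iv D39176)) (tt N24343 (iv F185680)))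
theorem Q23251 : ∀ i, i < 23251 → P i := stepQ 23250 Q23250 (allL N23250 (tt N22786 F181032) (tt N22924 F181033) (tt N22826 F181034) (tt N22007 F181035) (tt N24378 D40305) (tt N22005 (iv D39177)) (tt N23250 F181036) (tt N22903 F181037) (tt N22006 F181038) (tt N22882 (iv F181039)))
theorem Q23252 : ∀ i, i < 23252 → P i := stepQ 23251 Q23251 (allL N23251 (tt N22787 F181040) (tt N22903 F181041) (tt N22010 F181042) (tt N22008 F181043) (tt N24343 (iv F185676)) (tt N22882 F181044) (tt N22011 F181045) (tt N22924 F181046) (tt N22814 F181047) (tt N22005 (iv D39178)))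
theorem Q23253 : ∀ i, i < 23253 → P i := stepQ 23252 Q23252 (allL N23252 (tt N22788 F181048) (tt N22923 F181049) (tt N22880 F181050) (tt N24379 D40306) (tt N22006 (iv D39179)) (tt N24334 (iv F185626)) (tt N23252 F181051) (tt N22902 F181052) (tt N24378 (iv F185874)) (tt N22825 F181053))
theorem Q23254 : ∀ i, i < 23254 → P i := stepQ 23253 Q23253 (allL N23253 (tt N22789 F181054) (tt N22926 F181055) (tt N22882 F181056) (tt N22009 (iv D39180)) (tt N24379 (iv F185879)) (tt N22010 F181057) (tt N23253 F181058) (tt N22904 F181059) (tt N22871 F181060) (tt N22826 F181061))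
theorem Q23255 : ∀ i, i < 23255 → P i := stepQ 23254 Q23254 (allL N23254 (tt N22793 F181062) (tt N22963 F181063) (tt N23108 F181064) (tt N22961 F181065) (tt N23254 F181066) (tt N22012 (iv D39181)) (tt N24380 D40307) (tt N23254 F181067) (tt N22590 F181068) (tt N24361 (iv F185768)))
theorem Q23256 : ∀ i, i < 23256 → P i := stepQ 23255 Q23255 (allL N23255 (tt N22361 F181069) (tt N22016 F181070) (tt N22794 F181071) (tt N23005 F181072) (tt N22014 F181073) (tt N24381 D40308) (tt N22013 (iv D39182)) (tt N23000 F181074) (tt N22811 F181075) (tt N22683 F181076))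
theorem Q23257 : ∀ i, i < 23257 → P i := stepQ 23256 Q23256 (allL N23256 (tt N22039 F181077) (tt N23005 F181078) (tt N22332 F181079) (tt N22016 F181080) (tt N23256 F181081) (tt N24382 D40309) (tt N22015 (iv D39183)) (tt N23001 F181082) (tt N22886 F181083) (tt N22684 F181084))
theorem Q23258 : ∀ i, i < 23258 → P i := stepQ 23257 Q23257 (allL N23257 (tt N22041 F181085) (tt N24381 (iv F185891)) (tt N22017 F181086) (tt N24382 (iv F185901)) (tt N22424 F181087) (tt N22016 (iv D39184)) (tt N22440 F181088) (tt N23002 F181089) (tt N24383 D40310) (tt N22686 F181090))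
theorem Q23259 : ∀ i, i < 23259 → P i := stepQ 23258 Q23258 (allL N23258 (tt N22046 F181091) (tt N22796 F181092) (tt N24383 (iv F185906)) (tt N22335 F181093) (tt N22429 F181094) (tt N24384 D40311) (tt N22441 F181095) (tt N23003 F181096) (tt N22017 (iv D39185)) (tt N24385 D40312))
theorem Q23260 : ∀ i, i < 23260 → P i := stepQ 23259 Q23259 (allL N23259 (tt N22047 F181097) (tt N22495 F181098) (tt N22898 F181099) (tt N22336 F181100) (tt N24386 D40313) (tt N22018 (iv D39186)) (tt N22893 F181101) (tt N23004 F181102) (tt N24384 (iv F185917)) (tt N22722 F181103))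
theorem Q23261 : ∀ i, i < 23261 → P i := stepQ 23260 Q23260 (allL N23260 (tt N22051 F181104) (tt N22565 F181105) (tt N22957 F181106) (tt N22573 F181107) (tt N22019 (iv D39187)) (tt N24386 (iv F185929)) (tt N22020 F181108) (tt N23006 F181109) (tt N22435 F181110) (tt N22783 F181111))
theorem Q23262 : ∀ i, i < 23262 → P i := stepQ 23261 Q23261 (allL N23261 (tt N23001 F181112) (tt N22877 F181113) (tt N22351 F181114) (tt N22023 F181115) (tt N23261 F181116) (tt N24387 D40314) (tt N22021 (iv D39188)) (tt N22039 F181117) (tt N24388 D40315) (tt N22422 F181118))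
theorem Q23263 : ∀ i, i < 23263 → P i := stepQ 23262 Q23262 (allL N23262 (tt N22887 F181119) (tt N22854 F181120) (tt N22352 F181121) (tt N22024 F181122) (tt N23262 F181123) (tt N22738 (iv F181125)) (tt N24388 (iv F185945)) (tt N22022 F181124) (tt N22021 (iv D39189)) (tt N22712 (iv F181126)))
theorem Q23264 : ∀ i, i < 23264 → P i := stepQ 23263 Q23263 (allL N23263 (tt N23002 F181127) (tt N23059 F181128) (tt N22029 F181129) (tt N24387 (iv F185936)) (tt N22686 F181130) (tt N22023 (iv D39190)) (tt N22445 F181131) (tt N22041 F181132) (tt N24389 D40316) (tt N22424 F181133))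
theorem Q23265 : ∀ i, i < 23265 → P i := stepQ 23264 Q23264 (allL N23264 (tt N22900 F181134) (tt N23022 F181135) (tt N22030 F181136) (tt N24388 (iv F185943)) (tt N22027 F181137) (tt N24390 D40317) (tt N22024 F181138) (tt N22042 F181139) (tt N22023 (iv D39191)) (tt N24391 D40318))
theorem Q23266 : ∀ i, i < 23266 → P i := stepQ 23265 Q23265 (allL N23265 (tt N22824 F181140) (tt N22696 F181141) (tt N22031 F181142) (tt N22738 F181143) (tt N23265 F181144) (tt N22024 (iv D39192)) (tt N24392 D40319) (tt N22025 F181145) (tt N22447 F181146) (tt N22730 (iv F181147)))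
theorem Q23267 : ∀ i, i < 23267 → P i := stepQ 23266 Q23266 (allL N23266 (tt N22702 F181148) (tt N23025 F181149) (tt N22032 F181150) (tt N22712 F181151) (tt N22028 F181152) (tt N22730 F181153) (tt N24391 (iv F185963)) (tt N22026 F181154) (tt N22426 F181155) (tt N22024 (iv D39193)))
theorem Q23268 : ∀ i, i < 23268 → P i := stepQ 23267 Q23267 (allL N23267 (tt N22958 F181156) (tt N23123 F181157) (tt N22035 F181158) (tt N23267 F181159) (tt N24393 D40320) (tt N22027 (iv D39194)) (tt N23267 F181160) (tt N22044 F181161) (tt N22690 F181162) (tt N24394 D40321))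
theorem Q23269 : ∀ i, i < 23269 → P i := stepQ 23268 Q23268 (allL N23268 (tt N22776 F181163) (tt N23126 F181164) (tt N22036 F181165) (tt N23268 F181166) (tt N24391 (iv F185962)) (tt N24394 (iv F185984)) (tt N22028 F181167) (tt N22045 F181168) (tt N22428 F181169) (tt N22027 (iv D39195)))
theorem Q23270 : ∀ i, i < 23270 → P i := stepQ 23269 Q23269 (allL N23269 (tt N23003 F181170) (tt N22134 F181171) (tt N24389 (iv F185950)) (tt N22358 F181172) (tt N22692 F181173) (tt N24395 D40322) (tt N22451 F181174) (tt N22046 F181175) (tt N22029 (iv D39196)) (tt N24396 D40323))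
theorem Q23271 : ∀ i, i < 23271 → P i := stepQ 23270 Q23270 (allL N23270 (tt N23004 F181176) (tt N22135 F181177) (tt N24390 (iv F185956)) (tt N22359 F181178) (tt N24397 D40324) (tt N22030 (iv D39197)) (tt N24398 D40325) (tt N22047 F181179) (tt N24395 (iv F185991)) (tt N24399 D40326))
theorem Q23272 : ∀ i, i < 23272 → P i := stepQ 23271 Q23271 (allL N23271 (tt N22703 F181180) (tt N22136 F181181) (tt N24391 (iv F185960)) (tt N22360 F181182) (tt N22036 F181183) (tt N24399 (iv F186010)) (tt N22032 F181184) (tt N22048 F181185) (tt N22431 F181186) (tt N22030 (iv D39198)))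
theorem Q23273 : ∀ i, i < 23273 → P i := stepQ 23272 Q23272 (allL N23272 (tt N23005 F181187) (tt N22137 F181188) (tt N24392 (iv F185968)) (tt N22361 F181189) (tt N23272 F181190) (tt N24398 (iv F186006)) (tt N22031 (iv D39199)) (tt N24400 D40327) (tt N22454 F181191) (tt N24401 D40328))
theorem Q23274 : ∀ i, i < 23274 → P i := stepQ 23273 Q23273 (allL N23273 (tt N22682 F181192) (tt N22138 F181193) (tt N22730 F181194) (tt N22362 F181195) (tt N23273 F181196) (tt N22032 F181197) (tt N24401 (iv F186025)) (tt N22034 F181198) (tt N22939 (iv F181199)) (tt N22031 (iv D39200)))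
theorem Q23275 : ∀ i, i < 23275 → P i := stepQ 23274 Q23274 (allL N23274 (tt N22819 F181200) (tt N22139 F181201) (tt N22085 F181202) (tt N22363 F181203) (tt N23274 F181204) (tt N22050 F181205) (tt N24400 (iv F186017)) (tt N22033 (iv D39201)) (tt N22456 F181206) (tt N22623 F181207))
theorem Q23276 : ∀ i, i < 23276 → P i := stepQ 23275 Q23275 (allL N23275 (tt N23006 F181208) (tt N22142 F181209) (tt N24393 (iv F185976)) (tt N24402 D40329) (tt N22035 (iv D39202)) (tt N24397 (iv F186001)) (tt N23275 F181210) (tt N22051 F181211) (tt N22697 F181212) (tt N24403 D40330))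
theorem Q23277 : ∀ i, i < 23277 → P i := stepQ 23276 Q23276 (allL N23276 (tt N22777 F181213) (tt N22143 F181214) (tt N24394 (iv F185982)) (tt N22038 F181215) (tt N24403 (iv F186038)) (tt N22036 F181216) (tt N23276 F181217) (tt N22052 F181218) (tt N24404 D40331) (tt N22035 (iv D39203)))
theorem Q23278 : ∀ i, i < 23278 → P i := stepQ 23277 Q23277 (allL N23277 (tt N22556 F181219) (tt N22144 F181220) (tt N24405 D40332) (tt N22037 (iv D39204)) (tt N24402 (iv F186030)) (tt N22257 F181221) (tt N23277 F181222) (tt N22053 F181223) (tt N22699 F181224) (tt N22256 F181225))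
theorem Q23279 : ∀ i, i < 23279 → P i := stepQ 23278 Q23278 (allL N23278 (tt N22778 F181226) (tt N22145 F181227) (tt N23278 F181228) (tt N24404 (iv F186043)) (tt N22259 F181229) (tt N22439 F181230) (tt N23278 F181231) (tt N22054 F181232) (tt N22038 (iv D39205)) (tt N22701 F181233))
theorem Q23280 : ∀ i, i < 23280 → P i := stepQ 23279 Q23279 (allL N23279 (tt N24382 (iv F185898)) (tt N22875 F181234) (tt N22404 F181235) (tt N22041 F181236) (tt N24406 D40333) (tt N22039 (iv D39206)) (tt N22801 F181237) (tt N24387 (iv F185938)) (tt N24407 D40334) (tt N24294 (iv F185382)))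
theorem Q23281 : ∀ i, i < 23281 → P i := stepQ 23280 Q23280 (allL N23280 (tt N22886 F181238) (tt N22853 F181239) (tt N22405 F181240) (tt N22042 F181241) (tt N23280 F181242) (tt N24408 D40335) (tt N22040 F181243) (tt N24388 (iv F185946)) (tt N22039 (iv D39207)) (tt N22711 (iv F181244)))
theorem Q23282 : ∀ i, i < 23282 → P i := stepQ 23281 Q23281 (allL N23281 (tt N24383 (iv F185905)) (tt N23057 F181245) (tt N22046 F181246) (tt N24407 (iv F186063)) (tt N23012 F181247) (tt N24409 D40336) (tt N22981 F181248) (tt N24389 (iv F185953)) (tt N22041 (iv D39208)) (tt N24410 D40337))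
theorem Q23283 : ∀ i, i < 23283 → P i := stepQ 23282 Q23282 (allL N23282 (tt N22898 F181249) (tt N23020 F181250) (tt N22047 F181251) (tt N24408 (iv F186068)) (tt N24411 D40338) (tt N22042 (iv D39209)) (tt N22160 F181252) (tt N24390 (iv F185957)) (tt N24409 (iv F186075)) (tt N24412 D40339))
theorem Q23284 : ∀ i, i < 23284 → P i := stepQ 23283 Q23283 (allL N23283 (tt N22721 F181253) (tt N23023 F181254) (tt N22048 F181255) (tt N22711 F181256) (tt N22045 F181257) (tt N24412 (iv F186089)) (tt N22043 F181258) (tt N24391 (iv F185964)) (tt N24298 (iv F185408)) (tt N22042 (iv D39210)))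
theorem Q23285 : ∀ i, i < 23285 → P i := stepQ 23284 Q23284 (allL N23284 (tt N22957 F181259) (tt N23121 F181260) (tt N22051 F181261) (tt N24413 D40340) (tt N22044 (iv D39211)) (tt N24411 (iv F186083)) (tt N22055 F181262) (tt N24393 (iv F185978)) (tt N23015 F181263) (tt N24414 D40341))
theorem Q23286 : ∀ i, i < 23286 → P i := stepQ 23285 Q23285 (allL N23285 (tt N22782 F181264) (tt N23124 F181265) (tt N22052 F181266) (tt N23285 F181267) (tt N24414 (iv F186099)) (tt N22045 F181268) (tt N22056 F181269) (tt N24394 (iv F185986)) (tt N24415 D40342) (tt N22044 (iv D39212)))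
theorem Q23287 : ∀ i, i < 23287 → P i := stepQ 23286 Q23286 (allL N23286 (tt N24384 (iv F185911)) (tt N22229 F181270) (tt N24409 (iv F186073)) (tt N22410 F181271) (tt N24416 D40343) (tt N22046 (iv D39213)) (tt N24417 D40344) (tt N24395 (iv F185990)) (tt N22047 F181272) (tt N24418 D40345))
theorem Q23288 : ∀ i, i < 23288 → P i := stepQ 23287 Q23287 (allL N23287 (tt N24385 (iv F185918)) (tt N22230 F181273) (tt N24410 (iv F186077)) (tt N22411 F181274) (tt N23018 F181275) (tt N24418 (iv F186118)) (tt N23031 F181276) (tt N24396 (iv F185997)) (tt N24303 (iv F185441)) (tt N22046 (iv D39214)))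
theorem Q23289 : ∀ i, i < 23289 → P i := stepQ 23288 Q23288 (allL N23288 (tt N24386 (iv F185925)) (tt N22231 F181277) (tt N24411 (iv F186082)) (tt N24419 D40346) (tt N22047 (iv D39215)) (tt N22051 F181278) (tt N24420 D40347) (tt N24397 (iv F186002)) (tt N24416 (iv F186109)) (tt N24421 D40348))
theorem Q23290 : ∀ i, i < 23290 → P i := stepQ 23289 Q23289 (allL N23289 (tt N22893 F181279) (tt N22232 F181280) (tt N22160 F181281) (tt N22413 F181282) (tt N24420 (iv F186129)) (tt N22049 F181283) (tt N22047 (iv D39216)) (tt N24422 D40349) (tt N24417 (iv F186115)) (tt N22548 (iv F181284)))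
theorem Q23291 : ∀ i, i < 23291 → P i := stepQ 23290 Q23290 (allL N23290 (tt N22722 F181285) (tt N22233 F181286) (tt N24412 (iv F186087)) (tt N22414 F181287) (tt N24421 (iv F186135)) (tt N22048 F181288) (tt N22548 F181289) (tt N24399 (iv F186011)) (tt N24423 D40350) (tt N22047 (iv D39217)))
theorem Q23292 : ∀ i, i < 23292 → P i := stepQ 23291 Q23291 (allL N23291 (tt N22818 F181290) (tt N22234 F181291) (tt N22084 F181292) (tt N22415 F181293) (tt N22059 F181294) (tt N24422 (iv F186142)) (tt N22050 F181295) (tt N22049 (iv D39218)) (tt N22082 F181296) (tt N22481 F181297))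
theorem Q23293 : ∀ i, i < 23293 → P i := stepQ 23292 Q23292 (allL N23292 (tt N22573 F181298) (tt N22238 F181299) (tt N24424 D40351) (tt N22051 (iv D39219)) (tt N22053 F181300) (tt N24419 (iv F186122)) (tt N22060 F181301) (tt N24402 (iv F186032)) (tt N23026 F181302) (tt N22255 (iv F181303)))
theorem Q23294 : ∀ i, i < 23294 → P i := stepQ 23293 Q23293 (allL N23293 (tt N22783 F181304) (tt N22239 F181305) (tt N24414 (iv F186098)) (tt N22255 F181306) (tt N22052 F181307) (tt N24421 (iv F186136)) (tt N22061 F181308) (tt N24403 (iv F186040)) (tt N24425 D40352) (tt N22051 (iv D39220)))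
theorem Q23295 : ∀ i, i < 23295 → P i := stepQ 23294 Q23294 (allL N23294 (tt N22784 F181309) (tt N22240 F181310) (tt N24415 (iv F186103)) (tt N22054 F181311) (tt N24425 (iv F186157)) (tt N24311 (iv F185485)) (tt N22062 F181312) (tt N24404 (iv F186046)) (tt N22052 (iv D39221)) (tt N23028 F181313))
theorem Q23296 : ∀ i, i < 23296 → P i := stepQ 23295 Q23295 (allL N23295 (tt N22570 F181314) (tt N23016 F181315) (tt N22053 (iv D39222)) (tt N23295 F181316) (tt N24424 (iv F186150)) (tt N22250 F181317) (tt N22063 F181318) (tt N24405 (iv F186053)) (tt N23029 F181319) (tt N22248 F181320))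
theorem Q23297 : ∀ i, i < 23297 → P i := stepQ 23296 Q23296 (allL N23296 (tt N22956 F181321) (tt N23120 F181322) (tt N24426 D40353) (tt N22055 (iv D39223)) (tt N23296 F181323) (tt N22241 F181324) (tt N24413 (iv F186094)) (tt N23296 F181325) (tt N23117 F181326) (tt N24427 D40354))
theorem Q23298 : ∀ i, i < 23298 → P i := stepQ 23297 Q23297 (allL N23297 (tt N22790 F181327) (tt N23122 F181328) (tt N22061 F181329) (tt N24427 (iv F186171)) (tt N22056 F181330) (tt N22242 F181331) (tt N24414 (iv F186100)) (tt N23297 F181332) (tt N24428 D40355) (tt N22055 (iv D39224)))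
theorem Q23299 : ∀ i, i < 23299 → P i := stepQ 23298 Q23298 (allL N23298 (tt N22791 F181333) (tt N23125 F181334) (tt N22062 F181335) (tt N23298 F181336) (tt N24428 (iv F186180)) (tt N23298 F181337) (tt N24415 (iv F186105)) (tt N23298 F181338) (tt N22056 (iv D39225)) (tt N23119 F181339))
theorem Q23300 : ∀ i, i < 23300 → P i := stepQ 23299 Q23299 (allL N23299 (tt N22894 F181340) (tt N22255 F181341) (tt N22162 F181342) (tt N22239 F181343) (tt N22058 F181344) (tt N24420 (iv F186130)) (tt N22057 (iv D39226)) (tt N24429 D40356) (tt N22227 F181345) (tt N22238 F181346))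
theorem Q23301 : ∀ i, i < 23301 → P i := stepQ 23300 Q23300 (allL N23300 (tt N22820 F181347) (tt N22256 F181348) (tt N22086 F181349) (tt N22064 F181350) (tt N24429 (iv F186188)) (tt N22059 F181351) (tt N23300 F181352) (tt N22058 (iv D39227)) (tt N22132 F181353) (tt N22144 F181354))
theorem Q23302 : ∀ i, i < 23302 → P i := stepQ 23301 Q23301 (allL N23301 (tt N22586 F181355) (tt N23118 F181356) (tt N22060 (iv D39228)) (tt N24426 (iv F186161)) (tt N22063 F181357) (tt N22254 F181358) (tt N24424 (iv F186151)) (tt N23301 F181359) (tt N23128 F181360) (tt N22247 F181361))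
theorem Q23303 : ∀ i, i < 23303 → P i := stepQ 23302 Q23302 (allL N23302 (tt N22792 F181362) (tt N22253 F181363) (tt N24428 (iv F186178)) (tt N22245 F181364) (tt N22062 F181365) (tt N23117 F181366) (tt N24425 (iv F186158)) (tt N23302 F181367) (tt N22061 (iv D39229)) (tt N23130 F181368))
theorem Q23304 : ∀ i, i < 23304 → P i := stepQ 23303 Q23303 (allL N23303 (tt N22845 F181369) (tt N23095 F181370) (tt N22422 F181371) (tt N22067 F181372) (tt N23303 F181373) (tt N24430 D40357) (tt N22065 (iv D39230)) (tt N22383 F181374) (tt N24431 D40358) (tt N22351 F181375))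
theorem Q23305 : ∀ i, i < 23305 → P i := stepQ 23304 Q23304 (allL N23304 (tt N22846 F181376) (tt N22730 F181377) (tt N22423 F181378) (tt N22068 F181379) (tt N23304 F181380) (tt N23025 (iv F181383)) (tt N24431 (iv F186204)) (tt N22066 F181381) (tt N22065 (iv D39231)) (tt N22696 F181382))
theorem Q23306 : ∀ i, i < 23306 → P i := stepQ 23305 Q23305 (allL N23305 (tt N22847 F181384) (tt N23098 F181385) (tt N22073 F181386) (tt N24430 (iv F186195)) (tt N22662 F181387) (tt N22067 (iv D39232)) (tt N22126 F181388) (tt N22385 F181389) (tt N24432 D40359) (tt N22353 F181390))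
theorem Q23307 : ∀ i, i < 23307 → P i := stepQ 23306 Q23306 (allL N23306 (tt N22848 F181391) (tt N22736 F181392) (tt N22074 F181393) (tt N24431 (iv F186202)) (tt N22071 F181394) (tt N24433 D40360) (tt N22068 F181395) (tt N22386 F181396) (tt N22067 (iv D39233)) (tt N24434 D40361))
theorem Q23308 : ∀ i, i < 23308 → P i := stepQ 23307 Q23307 (allL N23307 (tt N22849 F181397) (tt N22712 F181398) (tt N22075 F181399) (tt N23025 F181400) (tt N23307 F181401) (tt N22068 (iv D39234)) (tt N24435 D40362) (tt N22069 F181402) (tt N22128 F181403) (tt N22854 (iv F181404)))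
theorem Q23309 : ∀ i, i < 23309 → P i := stepQ 23308 Q23308 (allL N23308 (tt N22393 F181405) (tt N22738 F181406) (tt N22076 F181407) (tt N22696 F181408) (tt N22072 F181409) (tt N22854 F181410) (tt N24434 (iv F186222)) (tt N22070 F181411) (tt N22356 F181412) (tt N22068 (iv D39235)))
theorem Q23310 : ∀ i, i < 23310 → P i := stepQ 23309 Q23309 (allL N23309 (tt N22850 F181413) (tt N22759 F181414) (tt N22079 F181415) (tt N23309 F181416) (tt N24436 D40363) (tt N22071 (iv D39236)) (tt N23309 F181417) (tt N22387 F181418) (tt N22605 F181419) (tt N24360 (iv F185761)))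
theorem Q23311 : ∀ i, i < 23311 → P i := stepQ 23310 Q23310 (allL N23310 (tt N22597 F181420) (tt N22761 F181421) (tt N22080 F181422) (tt N23310 F181423) (tt N24434 (iv F186221)) (tt N24360 (iv F185758)) (tt N22072 F181424) (tt N22388 F181425) (tt N22357 F181426) (tt N22071 (iv D39237)))
theorem Q23312 : ∀ i, i < 23312 → P i := stepQ 23311 Q23311 (allL N23311 (tt N22851 F181427) (tt N22451 F181428) (tt N24432 (iv F186209)) (tt N22429 F181429) (tt N22663 F181430) (tt N24437 D40364) (tt N22134 F181431) (tt N22389 F181432) (tt N22073 (iv D39238)) (tt N24438 D40365))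
theorem Q23313 : ∀ i, i < 23313 → P i := stepQ 23312 Q23312 (allL N23312 (tt N22852 F181433) (tt N22452 F181434) (tt N24433 (iv F186215)) (tt N22430 F181435) (tt N24439 D40366) (tt N22074 (iv D39239)) (tt N24440 D40367) (tt N22390 F181436) (tt N24437 (iv F186243)) (tt N24441 D40368))
theorem Q23314 : ∀ i, i < 23314 → P i := stepQ 23313 Q23313 (allL N23313 (tt N22705 F181437) (tt N22453 F181438) (tt N24434 (iv F186219)) (tt N22431 F181439) (tt N22080 F181440) (tt N24441 (iv F186262)) (tt N22076 F181441) (tt N22391 F181442) (tt N22360 F181443) (tt N22074 (iv D39240)))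
theorem Q23315 : ∀ i, i < 23315 → P i := stepQ 23314 Q23314 (allL N23314 (tt N22853 F181444) (tt N22454 F181445) (tt N24435 (iv F186227)) (tt N22432 F181446) (tt N23314 F181447) (tt N24440 (iv F186258)) (tt N22075 (iv D39241)) (tt N24442 D40369) (tt N22137 F181448) (tt N24443 D40370))
theorem Q23316 : ∀ i, i < 23316 → P i := stepQ 23315 Q23315 (allL N23315 (tt N22706 F181449) (tt N22455 F181450) (tt N22854 F181451) (tt N22433 F181452) (tt N23315 F181453) (tt N22076 F181454) (tt N24443 (iv F186277)) (tt N22078 F181455) (tt N22869 (iv F181456)) (tt N22075 (iv D39242)))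
theorem Q23317 : ∀ i, i < 23317 → P i := stepQ 23316 Q23316 (allL N23316 (tt N22854 F181457) (tt N22456 F181458) (tt N22706 F181459) (tt N22434 F181460) (tt N23316 F181461) (tt N22393 F181462) (tt N24442 (iv F186269)) (tt N22077 (iv D39243)) (tt N22139 F181463) (tt N22849 F181464))
theorem Q23318 : ∀ i, i < 23318 → P i := stepQ 23317 Q23317 (allL N23317 (tt N22855 F181465) (tt N22457 F181466) (tt N24436 (iv F186235)) (tt N24444 D40371) (tt N22079 (iv D39244)) (tt N24439 (iv F186253)) (tt N23317 F181467) (tt N22394 F181468) (tt N22667 F181469) (tt N24367 (iv F185803)))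
theorem Q23319 : ∀ i, i < 23319 → P i := stepQ 23318 Q23318 (allL N23318 (tt N22856 F181470) (tt N22459 F181471) (tt N24445 D40372) (tt N22081 (iv D39245)) (tt N24444 (iv F186282)) (tt N22437 F181472) (tt N23318 F181473) (tt N22395 F181474) (tt N22574 F181475) (tt N24373 (iv F185840)))
theorem Q23320 : ∀ i, i < 23320 → P i := stepQ 23319 Q23319 (allL N23319 (tt N22817 F181476) (tt N24267 (iv F185200)) (tt N22083 F181477) (tt N24291 (iv F185359)) (tt N22126 F181478) (tt N22082 (iv D39246)) (tt N22662 F181479) (tt N22158 F181480) (tt N24446 D40373) (tt N22795 F181481))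
theorem Q23321 : ∀ i, i < 23321 → P i := stepQ 23320 Q23320 (allL N23320 (tt N22821 F181482) (tt N22692 F181483) (tt N24446 (iv F186293)) (tt N22978 F181484) (tt N22134 F181485) (tt N24447 D40374) (tt N22663 F181486) (tt N22159 F181487) (tt N22083 (iv D39247)) (tt N24448 D40375))
theorem Q23322 : ∀ i, i < 23322 → P i := stepQ 23321 Q23321 (allL N23321 (tt N22822 F181488) (tt N22693 F181489) (tt N24422 (iv F186140)) (tt N22735 F181490) (tt N24449 D40376) (tt N22084 (iv D39248)) (tt N24450 D40377) (tt N22160 F181491) (tt N24447 (iv F186301)) (tt N22728 F181492))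
theorem Q23323 : ∀ i, i < 23323 → P i := stepQ 23322 Q23322 (allL N23322 (tt N22823 F181493) (tt N22695 F181494) (tt N24400 (iv F186014)) (tt N22737 F181495) (tt N23322 F181496) (tt N24450 (iv F186317)) (tt N22085 (iv D39249)) (tt N24392 (iv F185971)) (tt N22666 F181497) (tt N22729 F181498))
theorem Q23324 : ∀ i, i < 23324 → P i := stepQ 23323 Q23323 (allL N23323 (tt N22825 F181499) (tt N22697 F181500) (tt N24429 (iv F186186)) (tt N24451 D40378) (tt N22086 (iv D39250)) (tt N24449 (iv F186311)) (tt N23323 F181501) (tt N22162 F181502) (tt N22142 F181503) (tt N22788 F181504))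
theorem Q23325 : ∀ i, i < 23325 → P i := stepQ 23324 Q23324 (allL N23324 (tt N22826 F181505) (tt N22699 F181506) (tt N22786 F181507) (tt N22087 (iv D39251)) (tt N24451 (iv F186321)) (tt N22650 F181508) (tt N23324 F181509) (tt N22164 F181510) (tt N22144 F181511) (tt N22789 F181512))
theorem Q23326 : ∀ i, i < 23326 → P i := stepQ 23325 Q23325 (allL N23325 (tt N22091 F181513) (tt N22177 F181514) (tt N22416 F181515) (tt N22172 F181516) (tt N22089 F181517) (tt N22343 F181518) (tt N24452 D40379) (tt N22088 (iv D39252)) (tt N22170 F181519) (tt N22110 F181520))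
theorem Q23327 : ∀ i, i < 23327 → P i := stepQ 23326 Q23326 (allL N23326 (tt N22093 F181521) (tt N22282 F181522) (tt N22417 F181523) (tt N22262 F181524) (tt N24452 (iv F186331)) (tt N22610 F181525) (tt N22089 (iv D39253)) (tt N22168 F181526) (tt N22279 F181527) (tt N22112 F181528))
theorem Q23328 : ∀ i, i < 23328 → P i := stepQ 23327 Q23327 (allL N23327 (tt N22172 F181529) (tt N22095 F181530) (tt N22480 F181531) (tt N22091 F181532) (tt N22169 F181533) (tt N22346 F181534) (tt N24453 D40380) (tt N22090 (iv D39254)) (tt N22167 F181535) (tt N22115 F181536))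
theorem Q23329 : ∀ i, i < 23329 → P i := stepQ 23328 Q23328 (allL N23328 (tt N24452 (iv F186327)) (tt N22096 F181537) (tt N22419 F181538) (tt N24453 (iv F186338)) (tt N22093 F181539) (tt N24454 D40381) (tt N22091 (iv D39255)) (tt N22171 F181540) (tt N24455 D40382) (tt N22117 F181541))
theorem Q23330 : ∀ i, i < 23330 → P i := stepQ 23329 Q23329 (allL N23329 (tt N22170 F181542) (tt N22097 F181543) (tt N22420 F181544) (tt N22167 F181545) (tt N22094 F181546) (tt N22469 F181547) (tt N24455 (iv F186354)) (tt N22092 F181548) (tt N22091 (iv D39256)) (tt N22199 (iv F181549)))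
theorem Q23331 : ∀ i, i < 23331 → P i := stepQ 23330 Q23330 (allL N23330 (tt N22279 F181550) (tt N22099 F181551) (tt N22421 F181552) (tt N22264 F181553) (tt N24455 (iv F186353)) (tt N22775 (iv F181556)) (tt N22094 F181554) (tt N22174 F181555) (tt N22093 (iv D39257)) (tt N22286 (iv F181557)))
theorem Q23332 : ∀ i, i < 23332 → P i := stepQ 23331 Q23331 (allL N23331 (tt N22804 F181558) (tt N24453 (iv F186336)) (tt N22443 F181559) (tt N22096 F181560) (tt N22265 F181561) (tt N24456 D40383) (tt N22095 (iv D39258)) (tt N22176 F181562) (tt N22905 F181563) (tt N22123 F181564))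
theorem Q23333 : ∀ i, i < 23333 → P i := stepQ 23332 Q23332 (allL N23332 (tt N22805 F181565) (tt N24454 (iv F186343)) (tt N22100 F181566) (tt N24456 (iv F186359)) (tt N22795 F181567) (tt N22096 (iv D39259)) (tt N22353 F181568) (tt N22178 F181569) (tt N24457 D40384) (tt N22126 F181570))
theorem Q23334 : ∀ i, i < 23334 → P i := stepQ 23333 Q23333 (allL N23333 (tt N22806 F181571) (tt N24455 (iv F186350)) (tt N22101 F181572) (tt N22905 F181573) (tt N22099 F181574) (tt N24458 D40385) (tt N22097 F181575) (tt N22179 F181576) (tt N22096 (iv D39260)) (tt N22927 (iv F181577)))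
theorem Q23335 : ∀ i, i < 23335 → P i := stepQ 23334 Q23334 (allL N23334 (tt N22482 F181578) (tt N22469 F181579) (tt N22102 F181580) (tt N22465 F181581) (tt N22558 F181582) (tt N22097 (iv D39261)) (tt N24459 D40386) (tt N22098 F181583) (tt N22355 F181584) (tt N22462 F181585))
theorem Q23336 : ∀ i, i < 23336 → P i := stepQ 23335 Q23335 (allL N23335 (tt N22807 F181586) (tt N22775 F181587) (tt N22106 F181588) (tt N22267 F181589) (tt N24460 D40387) (tt N22099 (iv D39262)) (tt N22582 F181590) (tt N22184 F181591) (tt N22564 F181592) (tt N22569 F181593))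
theorem Q23337 : ∀ i, i < 23337 → P i := stepQ 23336 Q23336 (allL N23336 (tt N22808 F181594) (tt N22429 F181595) (tt N24457 (iv F186364)) (tt N22451 F181596) (tt N22796 F181597) (tt N24461 D40388) (tt N22358 F181598) (tt N22186 F181599) (tt N22100 (iv D39263)) (tt N24462 D40389))
theorem Q23338 : ∀ i, i < 23338 → P i := stepQ 23337 Q23337 (allL N23337 (tt N22809 F181600) (tt N22430 F181601) (tt N24458 (iv F186369)) (tt N22452 F181602) (tt N24463 D40390) (tt N22101 (iv D39264)) (tt N24464 D40391) (tt N22187 F181603) (tt N24461 (iv F186393)) (tt N24465 D40392))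
theorem Q23339 : ∀ i, i < 23339 → P i := stepQ 23338 Q23338 (allL N23338 (tt N22810 F181604) (tt N22431 F181605) (tt N22927 F181606) (tt N22453 F181607) (tt N22107 F181608) (tt N24465 (iv F186414)) (tt N22103 F181609) (tt N22188 F181610) (tt N22136 F181611) (tt N22101 (iv D39265)))
theorem Q23340 : ∀ i, i < 23340 → P i := stepQ 23339 Q23339 (allL N23339 (tt N22811 F181612) (tt N22432 F181613) (tt N24459 (iv F186375)) (tt N22454 F181614) (tt N22609 F181615) (tt N24464 (iv F186409)) (tt N22102 (iv D39266)) (tt N24466 D40393) (tt N22361 F181616) (tt N24467 D40394))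
theorem Q23341 : ∀ i, i < 23341 → P i := stepQ 23340 Q23340 (allL N23340 (tt N22636 F181617) (tt N22433 F181618) (tt N22462 F181619) (tt N22455 F181620) (tt N22555 F181621) (tt N22103 F181622) (tt N24467 (iv F186429)) (tt N22105 F181623) (tt N22460 F181624) (tt N22102 (iv D39267)))
theorem Q23342 : ∀ i, i < 23342 → P i := stepQ 23341 Q23341 (allL N23341 (tt N22812 F181625) (tt N22434 F181626) (tt N22527 F181627) (tt N22456 F181628) (tt N22572 F181629) (tt N22191 F181630) (tt N24466 (iv F186421)) (tt N22104 (iv D39268)) (tt N22363 F181631) (tt N22523 F181632))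
theorem Q23343 : ∀ i, i < 23343 → P i := stepQ 23342 Q23342 (allL N23342 (tt N22813 F181633) (tt N22435 F181634) (tt N24460 (iv F186383)) (tt N22577 F181635) (tt N22106 (iv D39269)) (tt N24463 (iv F186403)) (tt N22583 F181636) (tt N22194 F181637) (tt N22565 F181638) (tt N24468 D40395))
theorem Q23344 : ∀ i, i < 23344 → P i := stepQ 23343 Q23343 (allL N23343 (tt N22814 F181639) (tt N22436 F181640) (tt N22569 F181641) (tt N22108 F181642) (tt N24468 (iv F186436)) (tt N22107 F181643) (tt N22584 F181644) (tt N22195 F181645) (tt N22787 F181646) (tt N22106 (iv D39270)))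
theorem Q23345 : ∀ i, i < 23345 → P i := stepQ 23344 Q23344 (allL N23344 (tt N22115 F181647) (tt N22181 F181648) (tt N23024 F181649) (tt N22110 F181650) (tt N22175 F181651) (tt N22538 F181652) (tt N24469 D40396) (tt N22109 (iv D39271)) (tt N22210 F181653) (tt N22172 F181654))
theorem Q23346 : ∀ i, i < 23346 → P i := stepQ 23345 Q23345 (allL N23345 (tt N22117 F181655) (tt N22857 F181656) (tt N22478 F181657) (tt N24469 (iv F186443)) (tt N22112 F181658) (tt N24470 D40397) (tt N22110 (iv D39272)) (tt N22200 F181659) (tt N24471 D40398) (tt N24452 (iv F186334)))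
theorem Q23347 : ∀ i, i < 23347 → P i := stepQ 23346 Q23346 (allL N23346 (tt N22118 F181660) (tt N22216 F181661) (tt N22434 F181662) (tt N22210 F181663) (tt N22113 F181664) (tt N23011 F181665) (tt N24471 (iv F186459)) (tt N22111 F181666) (tt N22110 (iv D39273)) (tt N22207 F181667))
theorem Q23348 : ∀ i, i < 23348 → P i := stepQ 23347 Q23347 (allL N23347 (tt N22121 F181668) (tt N22294 F181669) (tt N22619 F181670) (tt N22269 F181671) (tt N24471 (iv F186458)) (tt N22967 F181672) (tt N22113 F181673) (tt N22202 F181674) (tt N22112 (iv D39274)) (tt N22289 F181675))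
theorem Q23349 : ∀ i, i < 23349 → P i := stepQ 23348 Q23348 (allL N23348 (tt N23024 F181676) (tt N22460 F181677) (tt N22115 F181678) (tt N22869 F181679) (tt N22270 F181680) (tt N22939 F181681) (tt N24472 D40399) (tt N22114 (iv D39275)) (tt N22433 F181682) (tt N22480 F181683))
theorem Q23350 : ∀ i, i < 23350 → P i := stepQ 23349 Q23349 (allL N23349 (tt N24469 (iv F186440)) (tt N22123 F181684) (tt N24472 (iv F186464)) (tt N22117 F181685) (tt N22271 F181686) (tt N24473 D40400) (tt N22115 (iv D39276)) (tt N22206 F181687) (tt N24474 D40401) (tt N24453 (iv F186342)))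
theorem Q23351 : ∀ i, i < 23351 → P i := stepQ 23350 Q23350 (allL N23350 (tt N22210 F181688) (tt N22124 F181689) (tt N22433 F181690) (tt N22118 F181691) (tt N22203 F181692) (tt N22426 F181693) (tt N24474 (iv F186479)) (tt N22116 F181694) (tt N22115 (iv D39277)) (tt N22201 F181695))
theorem Q23352 : ∀ i, i < 23352 → P i := stepQ 23351 Q23351 (allL N23351 (tt N24470 (iv F186448)) (tt N22126 F181696) (tt N23059 F181697) (tt N24473 (iv F186471)) (tt N24267 (iv F185203)) (tt N22117 (iv D39278)) (tt N23098 F181698) (tt N22208 F181699) (tt N24475 D40402) (tt N24454 (iv F186348)))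
theorem Q23353 : ∀ i, i < 23353 → P i := stepQ 23352 Q23352 (allL N23352 (tt N24471 (iv F186454)) (tt N22127 F181700) (tt N23022 F181701) (tt N24474 (iv F186477)) (tt N22121 F181702) (tt N24476 D40403) (tt N22118 F181703) (tt N22209 F181704) (tt N22117 (iv D39279)) (tt N24477 D40404))
theorem Q23354 : ∀ i, i < 23354 → P i := stepQ 23353 Q23353 (allL N23353 (tt N23011 F181705) (tt N22128 F181706) (tt N22696 F181707) (tt N22426 F181708) (tt N23353 F181709) (tt N22118 (iv D39280)) (tt N24478 D40405) (tt N22119 F181710) (tt N22712 F181711) (tt N22423 (iv F181712)))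
theorem Q23355 : ∀ i, i < 23355 → P i := stepQ 23354 Q23354 (allL N23354 (tt N22207 F181713) (tt N22129 F181714) (tt N23025 F181715) (tt N22201 F181716) (tt N22122 F181717) (tt N22423 F181718) (tt N24477 (iv F186494)) (tt N22120 F181719) (tt N22199 F181720) (tt N22118 (iv D39281)))
theorem Q23356 : ∀ i, i < 23356 → P i := stepQ 23355 Q23355 (allL N23355 (tt N22967 F181721) (tt N22132 F181722) (tt N23123 F181723) (tt N22259 F181724) (tt N24479 D40406) (tt N22121 (iv D39282)) (tt N23355 F181725) (tt N22211 F181726) (tt N22256 F181727) (tt N24480 D40407))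
theorem Q23357 : ∀ i, i < 23357 → P i := stepQ 23356 Q23356 (allL N23356 (tt N22289 F181728) (tt N22133 F181729) (tt N23126 F181730) (tt N22273 F181731) (tt N24477 (iv F186493)) (tt N24480 (iv F186515)) (tt N22122 F181732) (tt N22212 F181733) (tt N22286 F181734) (tt N22121 (iv D39283)))
theorem Q23358 : ∀ i, i < 23358 → P i := stepQ 23357 Q23357 (allL N23357 (tt N22862 F181735) (tt N24473 (iv F186470)) (tt N22467 F181736) (tt N22126 F181737) (tt N24481 D40408) (tt N22123 (iv D39284)) (tt N24430 (iv F186196)) (tt N22213 F181738) (tt N24482 D40409) (tt N24456 (iv F186362)))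
theorem Q23359 : ∀ i, i < 23359 → P i := stepQ 23358 Q23358 (allL N23358 (tt N22863 F181739) (tt N24474 (iv F186475)) (tt N22468 F181740) (tt N22127 F181741) (tt N22275 F181742) (tt N24483 D40410) (tt N22124 F181743) (tt N22214 F181744) (tt N22123 (iv D39285)) (tt N22929 F181745))
theorem Q23360 : ∀ i, i < 23360 → P i := stepQ 23359 Q23359 (allL N23359 (tt N22204 F181746) (tt N22426 F181747) (tt N22199 F181748) (tt N22128 F181749) (tt N22285 F181750) (tt N22124 (iv D39286)) (tt N24484 D40411) (tt N22125 F181751) (tt N23025 F181752) (tt N22420 F181753))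
theorem Q23361 : ∀ i, i < 23361 → P i := stepQ 23360 Q23360 (allL N23360 (tt N22864 F181754) (tt N24475 (iv F186482)) (tt N22134 F181755) (tt N24482 (iv F186525)) (tt N24446 (iv F186294)) (tt N24485 D40412) (tt N24432 (iv F186211)) (tt N22219 F181756) (tt N22126 (iv D39287)) (tt N24486 D40413))
theorem Q23362 : ∀ i, i < 23362 → P i := stepQ 23361 Q23361 (allL N23361 (tt N22865 F181757) (tt N24476 (iv F186486)) (tt N22135 F181758) (tt N24483 (iv F186529)) (tt N24487 D40414) (tt N22127 (iv D39288)) (tt N24488 D40415) (tt N22220 F181759) (tt N24485 (iv F186544)) (tt N24489 D40416))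
theorem Q23363 : ∀ i, i < 23363 → P i := stepQ 23362 Q23362 (allL N23362 (tt N22866 F181760) (tt N24477 (iv F186490)) (tt N22136 F181761) (tt N22929 F181762) (tt N22133 F181763) (tt N24489 (iv F186558)) (tt N22129 F181764) (tt N22221 F181765) (tt N22927 F181766) (tt N22127 (iv D39289)))
theorem Q23364 : ∀ i, i < 23364 → P i := stepQ 23363 Q23363 (allL N23363 (tt N22867 F181767) (tt N24478 (iv F186498)) (tt N22137 F181768) (tt N24484 (iv F186536)) (tt N23363 F181769) (tt N24488 (iv F186554)) (tt N22128 (iv D39290)) (tt N24490 D40417) (tt N24435 (iv F186231)) (tt N24491 D40418))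
theorem Q23365 : ∀ i, i < 23365 → P i := stepQ 23364 Q23364 (allL N23364 (tt N22868 F181770) (tt N22423 F181771) (tt N22138 F181772) (tt N22420 F181773) (tt N23364 F181774) (tt N22129 F181775) (tt N24491 (iv F186573)) (tt N22131 F181776) (tt N22418 F181777) (tt N22128 (iv D39291)))
theorem Q23366 : ∀ i, i < 23366 → P i := stepQ 23365 Q23365 (allL N23365 (tt N22869 F181778) (tt N22688 F181779) (tt N22139 F181780) (tt N23024 F181781) (tt N23365 F181782) (tt N22224 F181783) (tt N24490 (iv F186565)) (tt N22130 (iv D39292)) (tt N22706 F181784) (tt N22879 F181785))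
theorem Q23367 : ∀ i, i < 23367 → P i := stepQ 23366 Q23366 (allL N23366 (tt N22870 F181786) (tt N24479 (iv F186506)) (tt N22142 F181787) (tt N24492 D40419) (tt N22132 (iv D39293)) (tt N24487 (iv F186550)) (tt N23366 F181788) (tt N22227 F181789) (tt N24429 (iv F186190)) (tt N24493 D40420))
theorem Q23368 : ∀ i, i < 23368 → P i := stepQ 23367 Q23367 (allL N23367 (tt N22871 F181790) (tt N24480 (iv F186512)) (tt N22143 F181791) (tt N22277 F181792) (tt N24493 (iv F186586)) (tt N22133 F181793) (tt N23367 F181794) (tt N22228 F181795) (tt N22789 F181796) (tt N22132 (iv D39294)))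
theorem Q23369 : ∀ i, i < 23369 → P i := stepQ 23368 Q23368 (allL N23368 (tt N22872 F181797) (tt N24395 (iv F185988)) (tt N24485 (iv F186542)) (tt N22473 F181798) (tt N24494 D40421) (tt N22134 (iv D39295)) (tt N24495 D40422) (tt N22229 F181799) (tt N22135 F181800) (tt N24496 D40423))
theorem Q23370 : ∀ i, i < 23370 → P i := stepQ 23369 Q23369 (allL N23369 (tt N22873 F181801) (tt N24396 (iv F185993)) (tt N24486 (iv F186546)) (tt N22474 F181802) (tt N24448 (iv F186305)) (tt N24496 (iv F186598)) (tt N24438 (iv F186248)) (tt N22230 F181803) (tt N24462 (iv F186400)) (tt N22134 (iv D39296)))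
theorem Q23371 : ∀ i, i < 23371 → P i := stepQ 23370 Q23370 (allL N23370 (tt N22874 F181804) (tt N24397 (iv F186000)) (tt N24487 (iv F186549)) (tt N24497 D40424) (tt N22135 (iv D39297)) (tt N22142 F181805) (tt N24498 D40425) (tt N22231 F181806) (tt N24494 (iv F186592)) (tt N24499 D40426))
theorem Q23372 : ∀ i, i < 23372 → P i := stepQ 23371 Q23371 (allL N23371 (tt N22875 F181807) (tt N24398 (iv F186004)) (tt N24488 (iv F186553)) (tt N22476 F181808) (tt N24498 (iv F186606)) (tt N22137 F181809) (tt N22135 (iv D39298)) (tt N24500 D40427) (tt N24495 (iv F186595)) (tt N24501 D40428))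
theorem Q23373 : ∀ i, i < 23373 → P i := stepQ 23372 Q23372 (allL N23372 (tt N22876 F181810) (tt N24399 (iv F186008)) (tt N24489 (iv F186556)) (tt N22477 F181811) (tt N24499 (iv F186609)) (tt N22136 F181812) (tt N24501 (iv F186619)) (tt N22233 F181813) (tt N24502 D40429) (tt N22135 (iv D39299)))
theorem Q23374 : ∀ i, i < 23374 → P i := stepQ 23373 Q23373 (allL N23373 (tt N22877 F181814) (tt N24400 (iv F186013)) (tt N24490 (iv F186562)) (tt N22478 F181815) (tt N23373 F181816) (tt N24500 (iv F186614)) (tt N22139 F181817) (tt N22137 (iv D39300)) (tt N24442 (iv F186270)) (tt N24503 D40430))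
theorem Q23375 : ∀ i, i < 23375 → P i := stepQ 23374 Q23374 (allL N23374 (tt N22878 F181818) (tt N24401 (iv F186021)) (tt N24491 (iv F186570)) (tt N22479 F181819) (tt N23374 F181820) (tt N24501 (iv F186618)) (tt N22138 F181821) (tt N24503 (iv F186629)) (tt N24504 D40431) (tt N22137 (iv D39301)))
theorem Q23376 : ∀ i, i < 23376 → P i := stepQ 23375 Q23375 (allL N23375 (tt N22879 F181822) (tt N22939 F181823) (tt N22418 F181824) (tt N22480 F181825) (tt N23375 F181826) (tt N22460 F181827) (tt N24504 (iv F186636)) (tt N22141 F181828) (tt N22138 (iv D39302)) (tt N22869 F181829))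
theorem Q23377 : ∀ i, i < 23377 → P i := stepQ 23376 Q23376 (allL N23376 (tt N22418 F181830) (tt N22623 F181831) (tt N22879 F181832) (tt N22416 F181833) (tt N23376 F181834) (tt N22237 F181835) (tt N24503 (iv F186628)) (tt N22140 F181836) (tt N22868 F181837) (tt N22139 (iv D39303)))
theorem Q23378 : ∀ i, i < 23378 → P i := stepQ 23377 Q23377 (allL N23377 (tt N22880 F181838) (tt N24402 (iv F186029)) (tt N22788 (iv F181842)) (tt N22142 (iv D39304)) (tt N22144 F181839) (tt N24497 (iv F186602)) (tt N23377 F181840) (tt N22238 F181841) (tt N24451 (iv F186324)) (tt N24429 (iv F186191)))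
theorem Q23379 : ∀ i, i < 23379 → P i := stepQ 23378 Q23378 (allL N23378 (tt N22881 F181843) (tt N24403 (iv F186036)) (tt N24493 (iv F186584)) (tt N24429 (iv F186187)) (tt N22143 F181844) (tt N24499 (iv F186610)) (tt N23378 F181845) (tt N22239 F181846) (tt N24492 (iv F186581)) (tt N22142 (iv D39305)))
theorem Q23380 : ∀ i, i < 23380 → P i := stepQ 23379 Q23379 (allL N23379 (tt N22882 F181847) (tt N24404 (iv F186042)) (tt N22789 F181848) (tt N22145 F181849) (tt N24492 (iv F186578)) (tt N22787 F181850) (tt N23379 F181851) (tt N22240 F181852) (tt N22143 (iv D39306)) (tt N22786 F181853))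
theorem Q23381 : ∀ i, i < 23381 → P i := stepQ 23380 Q23380 (allL N23380 (tt N22633 F181854) (tt N22148 F181855) (tt N22844 F181856) (tt N22656 F181857) (tt N22147 F181858) (tt N24505 D40432) (tt N22146 (iv D39307)) (tt N22380 F181859) (tt N22665 F181860) (tt N22342 F181861))
theorem Q23382 : ∀ i, i < 23382 → P i := stepQ 23381 Q23381 (allL N23381 (tt N22883 F181862) (tt N24505 (iv F186640)) (tt N22149 F181863) (tt N24279 (iv F185287)) (tt N22485 F181864) (tt N22148 (iv D39308)) (tt N22798 F181865) (tt N22501 F181866) (tt N24506 D40433) (tt N22442 F181867))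
theorem Q23383 : ∀ i, i < 23383 → P i := stepQ 23382 Q23382 (allL N23382 (tt N22884 F181868) (tt N22851 F181869) (tt N24506 (iv F186648)) (tt N22159 F181870) (tt N22488 F181871) (tt N24507 D40434) (tt N22800 F181872) (tt N22978 F181873) (tt N22149 (iv D39309)) (tt N24508 D40435))
theorem Q23384 : ∀ i, i < 23384 → P i := stepQ 23383 Q23383 (allL N23383 (tt N22885 F181874) (tt N22852 F181875) (tt N22718 F181876) (tt N22160 F181877) (tt N24509 D40436) (tt N22150 (iv D39310)) (tt N24408 (iv F186069)) (tt N22735 F181878) (tt N24507 (iv F186658)) (tt N22710 F181879))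
theorem Q23385 : ∀ i, i < 23385 → P i := stepQ 23384 Q23384 (allL N23384 (tt N22888 F181880) (tt N22855 F181881) (tt N22720 F181882) (tt N24510 D40437) (tt N22151 (iv D39311)) (tt N24509 (iv F186669)) (tt N23384 F181883) (tt N22740 F181884) (tt N22492 F181885) (tt N22713 F181886))
theorem Q23386 : ∀ i, i < 23386 → P i := stepQ 23385 Q23385 (allL N23385 (tt N22889 F181887) (tt N22856 F181888) (tt N22780 F181889) (tt N22152 (iv D39312)) (tt N24510 (iv F186674)) (tt N22164 F181890) (tt N23385 F181891) (tt N22650 F181892) (tt N22494 F181893) (tt N22781 F181894))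
theorem Q23387 : ∀ i, i < 23387 → P i := stepQ 23386 Q23386 (allL N23386 (tt N22798 F181895) (tt N24268 (iv F185208)) (tt N22155 F181896) (tt N24275 (iv F185259)) (tt N22178 F181897) (tt N22153 (iv D39313)) (tt N22883 F181898) (tt N22795 F181899) (tt N24511 D40438) (tt N22158 F181900))
theorem Q23388 : ∀ i, i < 23388 → P i := stepQ 23387 Q23387 (allL N23387 (tt N22799 F181901) (tt N24271 (iv F185231)) (tt N22157 F181902) (tt N22278 F181903) (tt N24512 D40439) (tt N22154 (iv D39314)) (tt N23387 F181904) (tt N22564 F181905) (tt N22184 F181906) (tt N22494 F181907))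
theorem Q23389 : ∀ i, i < 23389 → P i := stepQ 23388 Q23388 (allL N23388 (tt N22800 F181908) (tt N23003 F181909) (tt N24511 (iv F186681)) (tt N22635 F181910) (tt N22186 F181911) (tt N24513 D40440) (tt N22884 F181912) (tt N22796 F181913) (tt N22155 (iv D39315)) (tt N24514 D40441))
theorem Q23390 : ∀ i, i < 23390 → P i := stepQ 23389 Q23389 (allL N23389 (tt N22801 F181914) (tt N23004 F181915) (tt N24273 (iv F185246)) (tt N22440 F181916) (tt N24515 D40442) (tt N22156 (iv D39316)) (tt N24382 (iv F185902)) (tt N22495 F181917) (tt N24513 (iv F186696)) (tt N22708 F181918))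
theorem Q23391 : ∀ i, i < 23391 → P i := stepQ 23390 Q23390 (allL N23390 (tt N22802 F181919) (tt N23006 F181920) (tt N24512 (iv F186686)) (tt N22560 F181921) (tt N22157 (iv D39317)) (tt N24515 (iv F186707)) (tt N23390 F181922) (tt N22565 F181923) (tt N22194 F181924) (tt N22779 F181925))
theorem Q23392 : ∀ i, i < 23392 → P i := stepQ 23391 Q23391 (allL N23391 (tt N22892 F181926) (tt N24265 (iv F185186)) (tt N22159 F181927) (tt N24287 (iv F185336)) (tt N22219 F181928) (tt N24417 (iv F186114)) (tt N22980 F181929) (tt N24446 (iv F186296)) (tt N22158 (iv D39318)) (tt N24516 D40443))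
theorem Q23393 : ∀ i, i < 23393 → P i := stepQ 23392 Q23392 (allL N23392 (tt N22895 F181930) (tt N23017 F181931) (tt N24417 (iv F186112)) (tt N24507 (iv F186656)) (tt N24517 D40444) (tt N22159 (iv D39319)) (tt N24409 (iv F186074)) (tt N24447 (iv F186300)) (tt N22160 F181932) (tt N24518 D40445))
theorem Q23394 : ∀ i, i < 23394 → P i := stepQ 23393 Q23393 (allL N23393 (tt N22896 F181933) (tt N23018 F181934) (tt N24516 (iv F186711)) (tt N24508 (iv F186661)) (tt N22230 F181935) (tt N24518 (iv F186720)) (tt N22982 F181936) (tt N24448 (iv F186307)) (tt N24514 (iv F186703)) (tt N22159 (iv D39320)))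
theorem Q23395 : ∀ i, i < 23395 → P i := stepQ 23394 Q23394 (allL N23394 (tt N22897 F181937) (tt N23019 F181938) (tt N24420 (iv F186127)) (tt N24519 D40446) (tt N22160 (iv D39321)) (tt N22162 F181939) (tt N24411 (iv F186084)) (tt N24449 (iv F186312)) (tt N24517 (iv F186717)) (tt N24520 D40447))
theorem Q23396 : ∀ i, i < 23396 → P i := stepQ 23395 Q23395 (allL N23395 (tt N22899 F181940) (tt N23021 F181941) (tt N22548 F181942) (tt N22710 F181943) (tt N24520 (iv F186727)) (tt N22161 F181944) (tt N24412 (iv F186090)) (tt N22728 F181945) (tt N24521 D40448) (tt N22160 (iv D39322)))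
theorem Q23397 : ∀ i, i < 23397 → P i := stepQ 23396 Q23396 (allL N23396 (tt N22901 F181946) (tt N23026 F181947) (tt N24522 D40449) (tt N22162 (iv D39323)) (tt N22164 F181948) (tt N24519 (iv F186723)) (tt N22241 F181949) (tt N24451 (iv F186323)) (tt N22238 F181950) (tt N24523 D40450))
theorem Q23398 : ∀ i, i < 23398 → P i := stepQ 23397 Q23397 (allL N23397 (tt N22902 F181951) (tt N23027 F181952) (tt N22238 F181953) (tt N24523 (iv F186747)) (tt N22163 F181954) (tt N24520 (iv F186728)) (tt N22242 F181955) (tt N22788 F181956) (tt N24522 (iv F186741)) (tt N22162 (iv D39324)))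
theorem Q23399 : ∀ i, i < 23399 → P i := stepQ 23398 Q23398 (allL N23398 (tt N22903 F181957) (tt N23028 F181958) (tt N22164 F181959) (tt N22166 F181960) (tt N24522 (iv F186738)) (tt N22780 F181961) (tt N22243 F181962) (tt N22786 F181963) (tt N22163 (iv D39325)) (tt N22240 F181964))
theorem Q23400 : ∀ i, i < 23400 → P i := stepQ 23399 Q23399 (allL N23399 (tt N22904 F181965) (tt N23030 F181966) (tt N22240 F181967) (tt N22165 F181968) (tt N24523 (iv F186748)) (tt N22781 F181969) (tt N22244 F181970) (tt N22789 F181971) (tt N22228 F181972) (tt N22164 (iv D39326)))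
theorem Q23401 : ∀ i, i < 23401 → P i := stepQ 23400 Q23400 (allL N23400 (tt N22171 F181973) (tt N22905 F181974) (tt N22479 F181975) (tt N24455 (iv F186352)) (tt N22168 F181976) (tt N24524 D40451) (tt N22167 (iv D39327)) (tt N24452 (iv F186332)) (tt N24453 (iv F186341)) (tt N22200 F181977))
theorem Q23402 : ∀ i, i < 23402 → P i := stepQ 23401 Q23401 (allL N23401 (tt N22174 F181978) (tt N22265 F181979) (tt N22625 F181980) (tt N22263 F181981) (tt N24453 (iv F186339)) (tt N24375 (iv F185852)) (tt N22169 F181982) (tt N22279 F181983) (tt N22168 (iv D39328)) (tt N22271 (iv F181984)))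
theorem Q23403 : ∀ i, i < 23403 → P i := stepQ 23402 Q23402 (allL N23402 (tt N24455 (iv F186349)) (tt N22176 F181985) (tt N22933 F181986) (tt N22171 F181987) (tt N22279 F181988) (tt N24525 D40452) (tt N22170 (iv D39329)) (tt N24453 (iv F186340)) (tt N24452 (iv F186333)) (tt N22206 F181989))
theorem Q23404 : ∀ i, i < 23404 → P i := stepQ 23403 Q23403 (allL N23403 (tt N24524 (iv F186752)) (tt N22178 F181990) (tt N23060 F181991) (tt N24525 (iv F186760)) (tt N24268 (iv F185211)) (tt N22171 (iv D39330)) (tt N23056 F181992) (tt N24454 (iv F186347)) (tt N24526 D40453) (tt N22208 F181993))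
theorem Q23405 : ∀ i, i < 23405 → P i := stepQ 23404 Q23404 (allL N23404 (tt N24453 (iv F186335)) (tt N22179 F181994) (tt N23062 F181995) (tt N24452 (iv F186330)) (tt N22174 F181996) (tt N24527 D40454) (tt N22172 F181997) (tt N24455 (iv F186355)) (tt N22171 (iv D39331)) (tt N24469 (iv F186447)))
theorem Q23406 : ∀ i, i < 23406 → P i := stepQ 23405 Q23405 (allL N23405 (tt N22346 F181998) (tt N22180 F181999) (tt N23045 F182000) (tt N22343 F182001) (tt N23405 F182002) (tt N22172 (iv D39332)) (tt N24528 D40455) (tt N22173 F182003) (tt N22626 F182004) (tt N22538 F182005))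
theorem Q23407 : ∀ i, i < 23407 → P i := stepQ 23406 Q23406 (allL N23406 (tt N24375 (iv F185848)) (tt N22184 F182006) (tt N23131 F182007) (tt N22280 F182008) (tt N24529 D40456) (tt N22174 (iv D39333)) (tt N23406 F182009) (tt N22775 F182010) (tt N24271 (iv F185236)) (tt N22774 (iv F182011)))
theorem Q23408 : ∀ i, i < 23408 → P i := stepQ 23407 Q23407 (allL N23407 (tt N22271 F182012) (tt N22185 F182013) (tt N23127 F182014) (tt N22268 F182015) (tt N24469 (iv F186444)) (tt N22774 F182016) (tt N22175 F182017) (tt N22286 F182018) (tt N22212 F182019) (tt N22174 (iv D39334)))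
theorem Q23409 : ∀ i, i < 23409 → P i := stepQ 23408 Q23408 (allL N23408 (tt N22908 F182020) (tt N24525 (iv F186758)) (tt N22503 F182021) (tt N22178 F182022) (tt N24530 D40457) (tt N22176 (iv D39335)) (tt N22833 F182023) (tt N24456 (iv F186361)) (tt N24531 D40458) (tt N22213 F182024))
theorem Q23410 : ∀ i, i < 23410 → P i := stepQ 23409 Q23409 (allL N23409 (tt N22803 F182025) (tt N24452 (iv F186328)) (tt N22504 F182026) (tt N22179 F182027) (tt N22282 F182028) (tt N24532 D40459) (tt N22177 F182029) (tt N22905 F182030) (tt N22176 (iv D39336)) (tt N22857 (iv F182031)))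
theorem Q23411 : ∀ i, i < 23411 → P i := stepQ 23410 Q23410 (allL N23410 (tt N22909 F182032) (tt N24526 (iv F186763)) (tt N22186 F182033) (tt N24531 (iv F186790)) (tt N24511 (iv F186682)) (tt N24533 D40460) (tt N23063 F182034) (tt N24457 (iv F186367)) (tt N22178 (iv D39337)) (tt N24534 D40461))
theorem Q23412 : ∀ i, i < 23412 → P i := stepQ 23411 Q23411 (allL N23411 (tt N22910 F182035) (tt N24527 (iv F186766)) (tt N22187 F182036) (tt N24532 (iv F186794)) (tt N24535 D40462) (tt N22179 (iv D39338)) (tt N24536 D40463) (tt N24458 (iv F186371)) (tt N24533 (iv F186801)) (tt N24537 D40464))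
theorem Q23413 : ∀ i, i < 23413 → P i := stepQ 23412 Q23412 (allL N23412 (tt N22858 F182037) (tt N24469 (iv F186441)) (tt N22188 F182038) (tt N22857 F182039) (tt N22185 F182040) (tt N24537 (iv F186816)) (tt N22181 F182041) (tt N22927 F182042) (tt N22221 F182043) (tt N22179 (iv D39339)))
theorem Q23414 : ∀ i, i < 23414 → P i := stepQ 23413 Q23413 (allL N23413 (tt N22911 F182044) (tt N24528 (iv F186769)) (tt N22189 F182045) (tt N22630 F182046) (tt N23413 F182047) (tt N24536 (iv F186812)) (tt N22180 (iv D39340)) (tt N24538 D40465) (tt N22628 F182048) (tt N24539 D40466))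
theorem Q23415 : ∀ i, i < 23415 → P i := stepQ 23414 Q23414 (allL N23414 (tt N22843 F182049) (tt N22538 F182050) (tt N22190 F182051) (tt N22532 F182052) (tt N23414 F182053) (tt N22181 F182054) (tt N24539 (iv F186831)) (tt N22183 F182055) (tt N22921 F182056) (tt N22180 (iv D39341)))
theorem Q23416 : ∀ i, i < 23416 → P i := stepQ 23415 Q23415 (allL N23415 (tt N22330 F182057) (tt N22396 F182058) (tt N22191 F182059) (tt N22311 F182060) (tt N23415 F182061) (tt N22527 F182062) (tt N24538 (iv F186823)) (tt N22182 (iv D39342)) (tt N22309 F182063) (tt N22526 F182064))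
theorem Q23417 : ∀ i, i < 23417 → P i := stepQ 23416 Q23416 (allL N23416 (tt N22912 F182065) (tt N24529 (iv F186776)) (tt N22194 F182066) (tt N24540 D40467) (tt N22184 (iv D39343)) (tt N24535 (iv F186808)) (tt N23416 F182067) (tt N24460 (iv F186386)) (tt N24512 (iv F186690)) (tt N24541 D40468))
theorem Q23418 : ∀ i, i < 23418 → P i := stepQ 23417 Q23417 (allL N23417 (tt N22913 F182068) (tt N22774 F182069) (tt N22195 F182070) (tt N22284 F182071) (tt N24541 (iv F186846)) (tt N22185 F182072) (tt N23417 F182073) (tt N22569 F182074) (tt N22781 F182075) (tt N22184 (iv D39344)))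
theorem Q23419 : ∀ i, i < 23419 → P i := stepQ 23418 Q23418 (allL N23418 (tt N22914 F182076) (tt N24302 (iv F185431)) (tt N24533 (iv F186800)) (tt N22511 F182077) (tt N24542 D40469) (tt N22186 (iv D39345)) (tt N24543 D40470) (tt N24461 (iv F186392)) (tt N22187 F182078) (tt N24544 D40471))
theorem Q23420 : ∀ i, i < 23420 → P i := stepQ 23419 Q23419 (allL N23419 (tt N22915 F182079) (tt N24303 (iv F185436)) (tt N24534 (iv F186803)) (tt N22512 F182080) (tt N24514 (iv F186700)) (tt N24544 (iv F186858)) (tt N23065 F182081) (tt N24462 (iv F186399)) (tt N22230 F182082) (tt N22186 (iv D39346)))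
theorem Q23421 : ∀ i, i < 23421 → P i := stepQ 23420 Q23420 (allL N23420 (tt N22916 F182083) (tt N24304 (iv F185443)) (tt N24535 (iv F186807)) (tt N24545 D40472) (tt N22187 (iv D39347)) (tt N22194 F182084) (tt N24546 D40473) (tt N24463 (iv F186404)) (tt N24542 (iv F186851)) (tt N24547 D40474))
theorem Q23422 : ∀ i, i < 23422 → P i := stepQ 23421 Q23421 (allL N23421 (tt N22917 F182085) (tt N24305 (iv F185447)) (tt N24536 (iv F186810)) (tt N22514 F182086) (tt N24546 (iv F186864)) (tt N22189 F182087) (tt N22187 (iv D39348)) (tt N24548 D40475) (tt N24543 (iv F186855)) (tt N24549 D40476))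
theorem Q23423 : ∀ i, i < 23423 → P i := stepQ 23422 Q23422 (allL N23422 (tt N22918 F182088) (tt N24306 (iv F185451)) (tt N24537 (iv F186814)) (tt N22515 F182089) (tt N24547 (iv F186867)) (tt N22188 F182090) (tt N24549 (iv F186875)) (tt N24465 (iv F186415)) (tt N24550 D40477) (tt N22187 (iv D39349)))
theorem Q23424 : ∀ i, i < 23424 → P i := stepQ 23423 Q23423 (allL N23423 (tt N22919 F182091) (tt N24307 (iv F185456)) (tt N24538 (iv F186820)) (tt N22516 F182092) (tt N23423 F182093) (tt N24548 (iv F186871)) (tt N22191 F182094) (tt N22189 (iv D39350)) (tt N22661 F182095) (tt N24551 D40478))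
theorem Q23425 : ∀ i, i < 23425 → P i := stepQ 23424 Q23424 (allL N23424 (tt N22920 F182096) (tt N24308 (iv F185464)) (tt N24539 (iv F186828)) (tt N22517 F182097) (tt N23424 F182098) (tt N24549 (iv F186874)) (tt N22190 F182099) (tt N24551 (iv F186885)) (tt N24552 D40479) (tt N22189 (iv D39351)))
theorem Q23426 : ∀ i, i < 23426 → P i := stepQ 23425 Q23425 (allL N23425 (tt N22526 F182100) (tt N22321 F182101) (tt N22921 F182102) (tt N22319 F182103) (tt N23425 F182104) (tt N22236 F182105) (tt N24552 (iv F186892)) (tt N22193 F182106) (tt N22190 (iv D39352)) (tt N22330 F182107))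
theorem Q23427 : ∀ i, i < 23427 → P i := stepQ 23426 Q23426 (allL N23426 (tt N22921 F182108) (tt N22846 F182109) (tt N22526 F182110) (tt N22518 F182111) (tt N23426 F182112) (tt N22523 F182113) (tt N24551 (iv F186884)) (tt N22192 F182114) (tt N22843 F182115) (tt N22191 (iv D39353)))
theorem Q23428 : ∀ i, i < 23428 → P i := stepQ 23427 Q23427 (allL N23427 (tt N22922 F182116) (tt N24309 (iv F185472)) (tt N24553 D40480) (tt N22194 (iv D39354)) (tt N22196 F182117) (tt N24545 (iv F186861)) (tt N23427 F182118) (tt N22577 F182119) (tt N22560 F182120) (tt N24554 D40481))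
theorem Q23429 : ∀ i, i < 23429 → P i := stepQ 23428 Q23428 (allL N23428 (tt N22923 F182121) (tt N24310 (iv F185478)) (tt N24541 (iv F186844)) (tt N24554 (iv F186904)) (tt N22195 F182122) (tt N24547 (iv F186868)) (tt N23428 F182123) (tt N24468 (iv F186438)) (tt N24555 D40482) (tt N22194 (iv D39355)))
theorem Q23430 : ∀ i, i < 23430 → P i := stepQ 23429 Q23429 (allL N23429 (tt N22924 F182124) (tt N24311 (iv F185483)) (tt N22781 F182125) (tt N22198 F182126) (tt N24555 (iv F186912)) (tt N22240 F182127) (tt N23429 F182128) (tt N22787 F182129) (tt N22195 (iv D39356)) (tt N22780 F182130))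
theorem Q23431 : ∀ i, i < 23431 → P i := stepQ 23430 Q23430 (allL N23430 (tt N22925 F182131) (tt N24373 (iv F185835)) (tt N22196 (iv D39357)) (tt N22276 F182132) (tt N24553 (iv F186897)) (tt N22521 F182133) (tt N23430 F182134) (tt N22292 F182135) (tt N22274 F182136) (tt N22459 (iv F182137)))
theorem Q23432 : ∀ i, i < 23432 → P i := stepQ 23431 Q23431 (allL N23431 (tt N22926 F182138) (tt N24313 (iv F185496)) (tt N22459 F182139) (tt N22197 F182140) (tt N24554 (iv F186905)) (tt N22292 F182141) (tt N23431 F182142) (tt N22521 F182143) (tt N22293 (iv F182144)) (tt N22196 (iv D39358)))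
theorem Q23433 : ∀ i, i < 23433 → P i := stepQ 23432 Q23432 (allL N23432 (tt N22206 F182145) (tt N22927 F182146) (tt N24484 (iv F186535)) (tt N22200 F182147) (tt N22286 F182148) (tt N24556 D40483) (tt N22199 (iv D39359)) (tt N24469 (iv F186445)) (tt N24477 (iv F186496)) (tt N24455 F186356))
theorem Q23434 : ∀ i, i < 23434 → P i := stepQ 23433 Q23433 (allL N23433 (tt N22208 F182149) (tt N22928 F182150) (tt N22476 F182151) (tt N24556 (iv F186918)) (tt N22643 F182152) (tt N22200 (iv D39360)) (tt N22471 F182153) (tt N24470 (iv F186453)) (tt N24557 D40484) (tt N24524 (iv F186757)))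
theorem Q23435 : ∀ i, i < 23435 → P i := stepQ 23434 Q23434 (allL N23434 (tt N22209 F182154) (tt N22929 F182155) (tt N22432 F182156) (tt N24477 (iv F186492)) (tt N22202 F182157) (tt N24558 D40485) (tt N22201 F182158) (tt N24471 (iv F186460)) (tt N22200 (iv D39361)) (tt N24474 (iv F186481)))
theorem Q23436 : ∀ i, i < 23436 → P i := stepQ 23435 Q23435 (allL N23435 (tt N22212 F182159) (tt N22275 F182160) (tt N22620 F182161) (tt N22272 F182162) (tt N24474 (iv F186478)) (tt N22754 F182163) (tt N22203 F182164) (tt N22289 F182165) (tt N22271 F182166) (tt N22202 (iv D39362)))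
theorem Q23437 : ∀ i, i < 23437 → P i := stepQ 23436 Q23436 (allL N23436 (tt N24484 (iv F186533)) (tt N22522 F182167) (tt N22206 F182168) (tt N22867 F182169) (tt N22287 F182170) (tt N24559 D40486) (tt N22204 (iv D39363)) (tt N24472 (iv F186467)) (tt N24560 D40487) (tt N22933 F182171))
theorem Q23438 : ∀ i, i < 23438 → P i := stepQ 23437 Q23437 (allL N23437 (tt N23025 F182172) (tt N22523 F182173) (tt N22207 F182174) (tt N22849 F182175) (tt N22288 F182176) (tt N22846 F182177) (tt N24560 (iv F186941)) (tt N22205 F182178) (tt N22204 (iv D39364)) (tt N22434 F182179))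
theorem Q23439 : ∀ i, i < 23439 → P i := stepQ 23438 Q23438 (allL N23438 (tt N24556 (iv F186916)) (tt N22213 F182180) (tt N24559 (iv F186932)) (tt N22208 F182181) (tt N24351 (iv F185711)) (tt N22206 (iv D39365)) (tt N23053 F182182) (tt N24473 (iv F186473)) (tt N24561 D40488) (tt N24525 (iv F186762)))
theorem Q23440 : ∀ i, i < 23440 → P i := stepQ 23439 Q23439 (allL N23439 (tt N24477 (iv F186489)) (tt N22214 F182183) (tt N24560 (iv F186938)) (tt N22209 F182184) (tt N22289 F182185) (tt N24562 D40489) (tt N22207 F182186) (tt N24474 (iv F186480)) (tt N22206 (iv D39366)) (tt N24471 (iv F186461)))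
theorem Q23441 : ∀ i, i < 23441 → P i := stepQ 23440 Q23440 (allL N23440 (tt N24557 (iv F186921)) (tt N22219 F182187) (tt N23057 F182188) (tt N24561 (iv F186945)) (tt N24265 (iv F185189)) (tt N24563 D40490) (tt N23054 F182189) (tt N24475 (iv F186485)) (tt N22208 (iv D39367)) (tt N24564 D40491))
theorem Q23442 : ∀ i, i < 23442 → P i := stepQ 23441 Q23441 (allL N23441 (tt N24558 (iv F186926)) (tt N22220 F182190) (tt N23020 F182191) (tt N24562 (iv F186948)) (tt N24565 D40492) (tt N22209 (iv D39368)) (tt N23013 F182192) (tt N24476 (iv F186488)) (tt N24563 (iv F186953)) (tt N24566 D40493))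
theorem Q23443 : ∀ i, i < 23443 → P i := stepQ 23442 Q23442 (allL N23442 (tt N24474 (iv F186474)) (tt N22221 F182193) (tt N23023 F182194) (tt N24471 (iv F186457)) (tt N22212 F182195) (tt N24566 (iv F186964)) (tt N22210 F182196) (tt N24477 (iv F186495)) (tt N24469 (iv F186446)) (tt N22209 (iv D39369)))
theorem Q23444 : ∀ i, i < 23444 → P i := stepQ 23443 Q23443 (allL N23443 (tt N22966 F182197) (tt N22227 F182198) (tt N23121 F182199) (tt N24425 (iv F186156)) (tt N22211 (iv D39370)) (tt N24565 (iv F186960)) (tt N22245 F182200) (tt N24479 (iv F186509)) (tt N22255 F182201) (tt N24567 D40494))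
theorem Q23445 : ∀ i, i < 23445 → P i := stepQ 23444 Q23444 (allL N23444 (tt N22754 F182202) (tt N22228 F182203) (tt N23124 F182204) (tt N22260 F182205) (tt N24567 (iv F186970)) (tt N22212 F182206) (tt N22246 F182207) (tt N24480 (iv F186517)) (tt N23030 F182208) (tt N22211 (iv D39371)))
theorem Q23446 : ∀ i, i < 23446 → P i := stepQ 23445 Q23445 (allL N23445 (tt N22935 F182209) (tt N24351 (iv F185709)) (tt N22533 F182210) (tt N24289 (iv F185345)) (tt N22213 (iv D39372)) (tt N22291 F182211) (tt N24262 (iv F185167)) (tt N24481 (iv F186522)) (tt N24568 D40495) (tt N24530 (iv F186787)))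
theorem Q23447 : ∀ i, i < 23447 → P i := stepQ 23446 Q23446 (allL N23446 (tt N22936 F182212) (tt N24561 (iv F186944)) (tt N22534 F182213) (tt N22219 F182214) (tt N24568 (iv F186975)) (tt N24569 D40496) (tt N24263 (iv F185175)) (tt N24482 (iv F186526)) (tt N22213 (iv D39373)) (tt N24570 D40497))
theorem Q23448 : ∀ i, i < 23448 → P i := stepQ 23447 Q23447 (allL N23447 (tt N22937 F182215) (tt N24562 (iv F186947)) (tt N22535 F182216) (tt N22220 F182217) (tt N24571 D40498) (tt N22214 (iv D39374)) (tt N24572 D40499) (tt N24483 (iv F186531)) (tt N24569 (iv F186979)) (tt N24573 D40500))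
theorem Q23449 : ∀ i, i < 23449 → P i := stepQ 23448 Q23448 (allL N23448 (tt N22860 F182218) (tt N24471 (iv F186455)) (tt N22536 F182219) (tt N22221 F182220) (tt N22294 F182221) (tt N24573 (iv F186995)) (tt N22216 F182222) (tt N22929 F182223) (tt N22857 F182224) (tt N22214 (iv D39375)))
theorem Q23450 : ∀ i, i < 23450 → P i := stepQ 23449 Q23449 (allL N23449 (tt N22938 F182225) (tt N23010 F182226) (tt N22537 F182227) (tt N22222 F182228) (tt N23449 F182229) (tt N24572 (iv F186991)) (tt N22215 (iv D39376)) (tt N24574 D40501) (tt N23007 F182230) (tt N24575 D40502))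
theorem Q23451 : ∀ i, i < 23451 → P i := stepQ 23450 Q23450 (allL N23450 (tt N22398 F182231) (tt N23011 F182232) (tt N22396 F182233) (tt N22223 F182234) (tt N23450 F182235) (tt N22216 F182236) (tt N24575 (iv F187010)) (tt N22218 F182237) (tt N23046 F182238) (tt N22215 (iv D39377)))
theorem Q23452 : ∀ i, i < 23452 → P i := stepQ 23451 Q23451 (allL N23451 (tt N22939 F182239) (tt N22685 F182240) (tt N22538 F182241) (tt N22224 F182242) (tt N23451 F182243) (tt N23024 F182244) (tt N24574 (iv F187002)) (tt N22217 (iv D39378)) (tt N22682 F182245) (tt N23045 F182246))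
theorem Q23453 : ∀ i, i < 23453 → P i := stepQ 23452 Q23452 (allL N23452 (tt N22940 F182247) (tt N24563 (iv F186950)) (tt N22229 F182248) (tt N24569 (iv F186978)) (tt N24576 D40503) (tt N22219 (iv D39379)) (tt N24577 D40504) (tt N24485 (iv F186543)) (tt N22220 F182249) (tt N24578 D40505))
theorem Q23454 : ∀ i, i < 23454 → P i := stepQ 23453 Q23453 (allL N23453 (tt N22941 F182250) (tt N24564 (iv F186954)) (tt N22230 F182251) (tt N24570 (iv F186982)) (tt N24516 (iv F186712)) (tt N24578 (iv F187023)) (tt N24264 (iv F185182)) (tt N24486 (iv F186547)) (tt N24534 (iv F186805)) (tt N22219 (iv D39380)))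
theorem Q23455 : ∀ i, i < 23455 → P i := stepQ 23454 Q23454 (allL N23454 (tt N22942 F182252) (tt N24565 (iv F186958)) (tt N22231 F182253) (tt N24579 D40506) (tt N22220 (iv D39381)) (tt N22227 F182254) (tt N24580 D40507) (tt N24487 (iv F186551)) (tt N24576 (iv F187015)) (tt N24581 D40508))
theorem Q23456 : ∀ i, i < 23456 → P i := stepQ 23455 Q23455 (allL N23455 (tt N22943 F182255) (tt N23013 F182256) (tt N22232 F182257) (tt N24572 (iv F186990)) (tt N24580 (iv F187029)) (tt N22222 F182258) (tt N22220 (iv D39382)) (tt N24582 D40509) (tt N24577 (iv F187020)) (tt N24583 D40510))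
theorem Q23457 : ∀ i, i < 23457 → P i := stepQ 23456 Q23456 (allL N23456 (tt N22944 F182259) (tt N24566 (iv F186962)) (tt N22233 F182260) (tt N24573 (iv F186994)) (tt N24581 (iv F187033)) (tt N22221 F182261) (tt N24583 (iv F187043)) (tt N24489 (iv F186559)) (tt N24584 D40511) (tt N22220 (iv D39383)))
theorem Q23458 : ∀ i, i < 23458 → P i := stepQ 23457 Q23457 (allL N23457 (tt N22945 F182262) (tt N22687 F182263) (tt N22234 F182264) (tt N24574 (iv F187000)) (tt N22249 F182265) (tt N24582 (iv F187038)) (tt N22224 F182266) (tt N22222 (iv D39384)) (tt N22683 F182267) (tt N24585 D40512))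
theorem Q23459 : ∀ i, i < 23459 → P i := stepQ 23458 Q23458 (allL N23458 (tt N22522 F182268) (tt N23014 F182269) (tt N22235 F182270) (tt N24575 (iv F187008)) (tt N22250 F182271) (tt N24583 (iv F187042)) (tt N22223 F182272) (tt N24585 (iv F187052)) (tt N24586 D40513) (tt N22222 (iv D39385)))
theorem Q23460 : ∀ i, i < 23460 → P i := stepQ 23459 Q23459 (allL N23459 (tt N22523 F182273) (tt N22702 F182274) (tt N22236 F182275) (tt N23046 F182276) (tt N22251 F182277) (tt N22921 F182278) (tt N24586 (iv F187059)) (tt N22226 F182279) (tt N22223 (iv D39386)) (tt N22812 F182280))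
theorem Q23461 : ∀ i, i < 23461 → P i := stepQ 23460 Q23460 (allL N23460 (tt N22460 F182281) (tt N22689 F182282) (tt N22237 F182283) (tt N23045 F182284) (tt N22252 F182285) (tt N22879 F182286) (tt N24585 (iv F187051)) (tt N22225 F182287) (tt N22636 F182288) (tt N22224 (iv D39387)))
theorem Q23462 : ∀ i, i < 23462 → P i := stepQ 23461 Q23461 (allL N23461 (tt N22946 F182289) (tt N24425 (iv F186155)) (tt N24523 (iv F186746)) (tt N22227 (iv D39388)) (tt N22240 F182290) (tt N24579 (iv F187025)) (tt N22253 F182291) (tt N24492 (iv F186580)) (tt N22239 F182292) (tt N24522 F186743))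
theorem Q23463 : ∀ i, i < 23463 → P i := stepQ 23462 Q23462 (allL N23462 (tt N22947 F182293) (tt N24567 (iv F186967)) (tt N22239 F182294) (tt N24522 (iv F186737)) (tt N22228 F182295) (tt N24581 (iv F187034)) (tt N22254 F182296) (tt N24493 (iv F186588)) (tt N24523 (iv F186751)) (tt N22227 (iv D39389)))
theorem Q23464 : ∀ i, i < 23464 → P i := stepQ 23463 Q23463 (allL N23463 (tt N22948 F182297) (tt N24416 (iv F186107)) (tt N24576 (iv F187014)) (tt N24587 D40514) (tt N22229 (iv D39390)) (tt N24517 (iv F186716)) (tt N24588 D40515) (tt N24494 (iv F186591)) (tt N22231 F182298) (tt N24589 D40516))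
theorem Q23465 : ∀ i, i < 23465 → P i := stepQ 23464 Q23464 (allL N23464 (tt N22949 F182299) (tt N24417 (iv F186111)) (tt N24577 (iv F187018)) (tt N22546 F182300) (tt N24588 (iv F187066)) (tt N24265 (iv F185190)) (tt N22229 (iv D39391)) (tt N24590 D40517) (tt N22232 F182301) (tt N24591 D40518))
theorem Q23466 : ∀ i, i < 23466 → P i := stepQ 23465 Q23465 (allL N23465 (tt N22950 F182302) (tt N24418 (iv F186116)) (tt N24578 (iv F187022)) (tt N22547 F182303) (tt N24589 (iv F187069)) (tt N22230 F182304) (tt N24591 (iv F187075)) (tt N24496 (iv F186599)) (tt N24592 D40519) (tt N22229 (iv D39392)))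
theorem Q23467 : ∀ i, i < 23467 → P i := stepQ 23466 Q23466 (allL N23466 (tt N22951 F182305) (tt N24419 (iv F186120)) (tt N24520 (iv F186726)) (tt N22231 (iv D39393)) (tt N22548 F182306) (tt N22238 F182307) (tt N24421 (iv F186137)) (tt N24497 (iv F186603)) (tt N24587 (iv F187064)) (tt N24420 F186131))
theorem Q23468 : ∀ i, i < 23468 → P i := stepQ 23467 Q23467 (allL N23467 (tt N22952 F182308) (tt N24420 (iv F186126)) (tt N24580 (iv F187028)) (tt N24421 (iv F186134)) (tt N22232 F182309) (tt N22255 F182310) (tt N22231 (iv D39394)) (tt N24593 D40520) (tt N24588 (iv F187067)) (tt N24419 F186124))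
theorem Q23469 : ∀ i, i < 23469 → P i := stepQ 23468 Q23468 (allL N23468 (tt N22953 F182311) (tt N24421 (iv F186133)) (tt N24581 (iv F187032)) (tt N24420 (iv F186128)) (tt N22233 F182312) (tt N22239 F182313) (tt N24419 F186123) (tt N24499 (iv F186611)) (tt N24594 D40521) (tt N22231 (iv D39395)))
theorem Q23470 : ∀ i, i < 23470 → P i := stepQ 23469 Q23469 (allL N23469 (tt N22954 F182314) (tt N24422 (iv F186139)) (tt N24582 (iv F187037)) (tt N22549 F182315) (tt N24593 (iv F187080)) (tt N22234 F182316) (tt N24500 (iv F186615)) (tt N22232 (iv D39396)) (tt N24590 (iv F187072)) (tt N24595 D40522))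
theorem Q23471 : ∀ i, i < 23471 → P i := stepQ 23470 Q23470 (allL N23470 (tt N22524 F182317) (tt N22548 F182318) (tt N24583 (iv F187041)) (tt N22412 F182319) (tt N24419 (iv F186121)) (tt N22235 F182320) (tt N22233 F182321) (tt N24595 (iv F187088)) (tt N24596 D40523) (tt N22232 (iv D39397)))
theorem Q23472 : ∀ i, i < 23472 → P i := stepQ 23471 Q23471 (allL N23471 (tt N22955 F182322) (tt N24423 (iv F186145)) (tt N24584 (iv F187045)) (tt N22550 F182323) (tt N24594 (iv F187083)) (tt N24550 (iv F186878)) (tt N24596 (iv F187092)) (tt N24502 (iv F186622)) (tt N22233 (iv D39398)) (tt N24592 (iv F187078)))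
theorem Q23473 : ∀ i, i < 23473 → P i := stepQ 23472 Q23472 (allL N23472 (tt N22461 F182324) (tt N22481 F182325) (tt N24585 (iv F187048)) (tt N22364 F182326) (tt N22257 F182327) (tt N24595 (iv F187087)) (tt N22237 F182328) (tt N22235 F182329) (tt N22637 (iv F182330)) (tt N22234 (iv D39399)))
theorem Q23474 : ∀ i, i < 23474 → P i := stepQ 23473 Q23473 (allL N23473 (tt N22525 F182331) (tt N22502 F182332) (tt N24586 (iv F187056)) (tt N22382 F182333) (tt N22258 F182334) (tt N24597 D40524) (tt N22236 F182335) (tt N22637 F182336) (tt N22235 (iv D39400)) (tt N24270 (iv F185229)))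
theorem Q23475 : ∀ i, i < 23475 → P i := stepQ 23474 Q23474 (allL N23474 (tt N22959 F182337) (tt N23130 (iv F182342)) (tt N22241 (iv D39401)) (tt N22254 F182338) (tt N22243 F182339) (tt N24426 (iv F186163)) (tt N24522 (iv F186739)) (tt N23474 F182340) (tt N22242 F182341) (tt N22253 (iv F182343)))
theorem Q23476 : ∀ i, i < 23476 → P i := stepQ 23475 Q23475 (allL N23475 (tt N22960 F182344) (tt N23129 F182345) (tt N22253 F182346) (tt N22242 F182347) (tt N22244 F182348) (tt N24427 (iv F186173)) (tt N24523 (iv F186749)) (tt N23475 F182349) (tt N22254 F182350) (tt N22241 (iv D39402)))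
theorem Q23477 : ∀ i, i < 23477 → P i := stepQ 23476 Q23476 (allL N23476 (tt N22769 F182351) (tt N22254 F182352) (tt N23122 F182353) (tt N23130 F182354) (tt N22246 F182355) (tt N23118 F182356) (tt N24567 (iv F186971)) (tt N23476 F182357) (tt N23129 F182358) (tt N22245 (iv D39403)))
theorem Q23478 : ∀ i, i < 23478 → P i := stepQ 23477 Q23477 (allL N23477 (tt N22963 F182359) (tt N23117 F182360) (tt N24427 (iv F186170)) (tt N22247 (iv D39404)) (tt N23477 F182361) (tt N22253 F182362) (tt N24598 D40525) (tt N23477 F182363) (tt N23120 F182364) (tt N24426 F186167))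
theorem Q23479 : ∀ i, i < 23479 → P i := stepQ 23478 Q23478 (allL N23478 (tt N22964 F182365) (tt N23015 F182366) (tt N22255 F182367) (tt N24598 (iv F187099)) (tt N22248 F182368) (tt N24580 (iv F187030)) (tt N22247 (iv D39405)) (tt N24599 D40526) (tt N23121 F182369) (tt N24424 (iv F186153)))
theorem Q23480 : ∀ i, i < 23480 → P i := stepQ 23479 Q23479 (allL N23479 (tt N22965 F182370) (tt N22690 F182371) (tt N22256 F182372) (tt N23479 F182373) (tt N24599 (iv F187105)) (tt N22249 F182374) (tt N23479 F182375) (tt N22248 (iv D39406)) (tt N23123 F182376) (tt N24405 (iv F186055)))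
theorem Q23481 : ∀ i, i < 23481 → P i := stepQ 23480 Q23480 (allL N23480 (tt N22554 F182377) (tt N22691 F182378) (tt N22257 F182379) (tt N23480 F182380) (tt N24585 (iv F187050)) (tt N24405 (iv F186051)) (tt N22252 F182381) (tt N22250 F182382) (tt N22647 F182383) (tt N22249 (iv D39407)))
theorem Q23482 : ∀ i, i < 23482 → P i := stepQ 23481 Q23481 (allL N23481 (tt N22571 F182384) (tt N22776 F182385) (tt N22258 F182386) (tt N23481 F182387) (tt N24586 (iv F187058)) (tt N24600 D40527) (tt N22251 F182388) (tt N22647 F182389) (tt N22250 (iv D39408)) (tt N22841 F182390))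
theorem Q23483 : ∀ i, i < 23483 → P i := stepQ 23482 Q23482 (allL N23482 (tt N22968 F182391) (tt N24429 (iv F186185)) (tt N24599 (iv F187104)) (tt N24403 (iv F186037)) (tt N22256 F182392) (tt N24593 (iv F187081)) (tt N23482 F182393) (tt N22255 (iv D39409)) (tt N24479 (iv F186510)) (tt N24402 F186034))
theorem Q23484 : ∀ i, i < 23484 → P i := stepQ 23483 Q23483 (allL N23483 (tt N22574 F182394) (tt N22494 F182395) (tt N24600 (iv F187110)) (tt N22261 F182396) (tt N24601 D40528) (tt N22258 (iv D39410)) (tt N23483 F182397) (tt N22648 F182398) (tt N22856 F182399) (tt N24271 (iv F185237)))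
theorem Q23485 : ∀ i, i < 23485 → P i := stepQ 23484 Q23484 (allL N23484 (tt N22290 F182400) (tt N22277 F182401) (tt N23484 F182402) (tt N24480 (iv F186514)) (tt N22701 F182403) (tt N22273 F182404) (tt N23484 F182405) (tt N22260 F182406) (tt N22700 F182407) (tt N22259 (iv D39411)))
theorem Q23486 : ∀ i, i < 23486 → P i := stepQ 23485 Q23485 (allL N23485 (tt N22907 F182408) (tt N24375 (iv F185849)) (tt N22552 F182409) (tt N22266 F182410) (tt N24602 D40529) (tt N22265 (iv D39412)) (tt N23485 F182411) (tt N22281 F182412) (tt N22579 F182413) (tt N22274 F182414))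
theorem Q23487 : ∀ i, i < 23487 → P i := stepQ 23486 Q23486 (allL N23486 (tt N23127 F182415) (tt N22554 F182416) (tt N22271 F182417) (tt N23486 F182418) (tt N24472 (iv F186466)) (tt N24374 (iv F185845)) (tt N22270 (iv D39413)) (tt N22287 F182419) (tt N22620 F182420) (tt N22625 F182421))
theorem Q23488 : ∀ i, i < 23488 → P i := stepQ 23487 Q23487 (allL N23487 (tt N22970 F182422) (tt N24369 (iv F185810)) (tt N22560 F182423) (tt N24293 (iv F185371)) (tt N22274 (iv D39414)) (tt N24481 (iv F186521)) (tt N23487 F182424) (tt N22291 F182425) (tt N24553 (iv F186900)) (tt N24602 (iv F187128)))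
theorem Q23489 : ∀ i, i < 23489 → P i := stepQ 23488 Q23488 (allL N23488 (tt N22972 F182426) (tt N24370 (iv F185815)) (tt N22566 F182427) (tt N22753 F182428) (tt N22281 (iv D39415)) (tt N24530 (iv F186785)) (tt N22296 F182429) (tt N24602 (iv F187126)) (tt N22752 F182430) (tt N22291 F182431))
theorem Q23490 : ∀ i, i < 23490 → P i := stepQ 23489 Q23489 (allL N23489 (tt N22973 F182432) (tt N22768 F182433) (tt N22458 F182434) (tt N22283 (iv D39416)) (tt N24540 (iv F186836)) (tt N22450 F182435) (tt N23489 F182436) (tt N22510 F182437) (tt N22493 F182438) (tt N22449 F182439))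
theorem Q23491 : ∀ i, i < 23491 → P i := stepQ 23490 Q23490 (allL N23490 (tt N22287 F182440) (tt N22428 F182441) (tt N22286 F182442) (tt N23490 F182443) (tt N24484 (iv F186537)) (tt N22773 F182444) (tt N22285 (iv D39417)) (tt N23127 F182445) (tt N23126 F182446) (tt N22421 F182447))
theorem Q23492 : ∀ i, i < 23492 → P i := stepQ 23491 Q23491 (allL N23491 (tt N23126 F182448) (tt N22571 F182449) (tt N22289 F182450) (tt N23491 F182451) (tt N24560 (iv F186940)) (tt N24603 D40530) (tt N22288 F182452) (tt N22620 F182453) (tt N22287 (iv D39418)) (tt N22619 F182454))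
theorem Q23493 : ∀ i, i < 23493 → P i := stepQ 23492 Q23492 (allL N23492 (tt N24480 (iv F186511)) (tt N22293 F182455) (tt N24603 (iv F187131)) (tt N22290 F182456) (tt N24604 D40531) (tt N22289 (iv D39419)) (tt N23492 F182457) (tt N22754 F182458) (tt N24313 (iv F185501)) (tt N22967 F182459))
theorem Q23494 : ∀ i, i < 23494 → P i := stepQ 23493 Q23493 (allL N23493 (tt N22975 F182460) (tt N24365 (iv F185788)) (tt N22577 F182461) (tt N22520 F182462) (tt N22292 F182463) (tt N24605 D40532) (tt N22297 F182464) (tt N24553 (iv F186899)) (tt N22291 (iv D39420)) (tt N22519 F182465))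
theorem Q23495 : ∀ i, i < 23495 → P i := stepQ 23494 Q23494 (allL N23494 (tt N22976 F182466) (tt N24604 (iv F187136)) (tt N22578 F182467) (tt N24555 (iv F186911)) (tt N22293 (iv D39421)) (tt N24571 (iv F186985)) (tt N23494 F182468) (tt N22751 F182469) (tt N24554 F186908) (tt N24606 D40533))
theorem Q23496 : ∀ i, i < 23496 → P i := stepQ 23495 Q23495 (allL N23495 (tt N22861 F182470) (tt N22967 F182471) (tt N22579 F182472) (tt N22295 F182473) (tt N24606 (iv F187148)) (tt N22294 F182474) (tt N23495 F182475) (tt N22567 F182476) (tt N22552 F182477) (tt N22293 (iv D39422)))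
theorem Q23497 : ∀ i, i < 23497 → P i := stepQ 23496 Q23496 (allL N23496 (tt N22977 F182478) (tt N23111 F182479) (tt N22590 F182480) (tt N22604 F182481) (tt N23496 F182482) (tt N22297 (iv D39423)) (tt N24607 D40534) (tt N23496 F182483) (tt N23108 F182484) (tt N22602 F182485))
theorem Q23498 : ∀ i, i < 23498 → P i := stepQ 23497 Q23497 (allL N23497 (tt N22630 F182486) (tt N22301 F182487) (tt N22342 F182488) (tt N22911 F182489) (tt N22299 F182490) (tt N24608 D40535) (tt N22298 (iv D39424)) (tt N22331 F182491) (tt N22340 F182492) (tt N22844 F182493))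
theorem Q23499 : ∀ i, i < 23499 → P i := stepQ 23498 Q23498 (allL N23498 (tt N22351 F182494) (tt N22911 F182495) (tt N23001 F182496) (tt N22301 F182497) (tt N23498 F182498) (tt N24609 D40536) (tt N22300 (iv D39425)) (tt N22332 F182499) (tt N24330 (iv F185606)) (tt N22845 F182500))
theorem Q23500 : ∀ i, i < 23500 → P i := stepQ 23499 Q23499 (allL N23499 (tt N22353 F182501) (tt N24608 (iv F187160)) (tt N22304 F182502) (tt N24609 (iv F187170)) (tt N22629 F182503) (tt N22301 (iv D39426)) (tt N22805 F182504) (tt N22333 F182505) (tt N24610 D40537) (tt N22847 F182506))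
theorem Q23501 : ∀ i, i < 23501 → P i := stepQ 23500 Q23500 (allL N23500 (tt N22354 F182507) (tt N22340 F182508) (tt N22305 F182509) (tt N24330 (iv F185602)) (tt N22303 F182510) (tt N24611 D40538) (tt N22302 F182511) (tt N22334 F182512) (tt N22301 (iv D39427)) (tt N22660 (iv F182513)))
theorem Q23502 : ∀ i, i < 23502 → P i := stepQ 23501 Q23501 (allL N23501 (tt N22358 F182514) (tt N22635 F182515) (tt N24610 (iv F187175)) (tt N23003 F182516) (tt N22631 F182517) (tt N24612 D40539) (tt N22808 F182518) (tt N22335 F182519) (tt N22304 (iv D39428)) (tt N24613 D40540))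
theorem Q23503 : ∀ i, i < 23503 → P i := stepQ 23502 Q23502 (allL N23502 (tt N22359 F182520) (tt N22440 F182521) (tt N24611 (iv F187181)) (tt N23004 F182522) (tt N22463 F182523) (tt N22305 (iv D39429)) (tt N24381 (iv F185895)) (tt N22336 F182524) (tt N24612 (iv F187190)) (tt N22704 F182525))
theorem Q23504 : ∀ i, i < 23504 → P i := stepQ 23503 Q23503 (allL N23503 (tt N22401 F182526) (tt N22309 F182527) (tt N23046 F182528) (tt N22307 F182529) (tt N23503 F182530) (tt N22372 F182531) (tt N24614 D40541) (tt N22306 (iv D39430)) (tt N22396 F182532) (tt N22371 F182533))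
theorem Q23505 : ∀ i, i < 23505 → P i := stepQ 23504 Q23504 (allL N23504 (tt N22403 F182534) (tt N22310 F182535) (tt N22382 F182536) (tt N24614 (iv F187202)) (tt N22308 F182537) (tt N24615 D40542) (tt N22307 (iv D39431)) (tt N22627 F182538) (tt N22397 F182539) (tt N22381 F182540))
theorem Q23506 : ∀ i, i < 23506 → P i := stepQ 23505 Q23505 (allL N23505 (tt N22376 F182541) (tt N24614 (iv F187200)) (tt N22661 F182542) (tt N22310 F182543) (tt N23505 F182544) (tt N24616 D40543) (tt N22309 (iv D39432)) (tt N22628 F182545) (tt N24538 (iv F186824)) (tt N22491 F182546))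
theorem Q23507 : ∀ i, i < 23507 → P i := stepQ 23506 Q23506 (allL N23506 (tt N22377 F182547) (tt N24615 (iv F187208)) (tt N22313 F182548) (tt N24616 (iv F187216)) (tt N22333 F182549) (tt N22310 (iv D39433)) (tt N22501 F182550) (tt N22629 F182551) (tt N24617 D40544) (tt N22500 F182552))
theorem Q23508 : ∀ i, i < 23508 → P i := stepQ 23507 Q23507 (allL N23507 (tt N22331 F182553) (tt N22397 F182554) (tt N22314 F182555) (tt N24538 (iv F186821)) (tt N22312 F182556) (tt N24618 D40545) (tt N22311 F182557) (tt N22630 F182558) (tt N22310 (iv D39434)) (tt N22531 F182559))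
theorem Q23509 : ∀ i, i < 23509 → P i := stepQ 23508 Q23508 (allL N23508 (tt N22378 F182560) (tt N22634 F182561) (tt N24617 (iv F187221)) (tt N22663 F182562) (tt N22335 F182563) (tt N24619 D40546) (tt N22978 F182564) (tt N22631 F182565) (tt N22313 (iv D39435)) (tt N24620 D40547))
theorem Q23510 : ∀ i, i < 23510 → P i := stepQ 23509 Q23509 (allL N23509 (tt N22379 F182566) (tt N22541 F182567) (tt N24618 (iv F187227)) (tt N22664 F182568) (tt N22529 F182569) (tt N22314 (iv D39436)) (tt N24621 D40548) (tt N22632 F182570) (tt N24619 (iv F187237)) (tt N24622 D40549))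
theorem Q23511 : ∀ i, i < 23511 → P i := stepQ 23510 Q23510 (allL N23510 (tt N22380 F182571) (tt N22409 F182572) (tt N22531 F182573) (tt N22665 F182574) (tt N22318 F182575) (tt N24622 (iv F187257)) (tt N22316 F182576) (tt N22633 F182577) (tt N22656 F182578) (tt N22314 (iv D39437)))
theorem Q23512 : ∀ i, i < 23512 → P i := stepQ 23511 Q23511 (allL N23511 (tt N22381 F182579) (tt N22408 F182580) (tt N22530 F182581) (tt N22666 F182582) (tt N22337 F182583) (tt N24621 (iv F187250)) (tt N22315 (iv D39438)) (tt N24623 D40550) (tt N22737 F182584) (tt N22403 F182585))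
theorem Q23513 : ∀ i, i < 23513 → P i := stepQ 23512 Q23512 (allL N23512 (tt N22365 F182586) (tt N22356 F182587) (tt N22465 F182588) (tt N22447 F182589) (tt N22338 F182590) (tt N22444 F182591) (tt N24623 (iv F187265)) (tt N22317 (iv D39439)) (tt N22738 F182592) (tt N22349 F182593))
theorem Q23514 : ∀ i, i < 23514 → P i := stepQ 23513 Q23513 (allL N23513 (tt N22531 F182594) (tt N22322 F182595) (tt N22380 F182596) (tt N24552 (iv F186890)) (tt N22320 F182597) (tt N24624 D40551) (tt N22319 (iv D39440)) (tt N22844 F182598) (tt N22517 F182599) (tt N22331 F182600))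
theorem Q23515 : ∀ i, i < 23515 → P i := stepQ 23514 Q23514 (allL N23514 (tt N22383 F182601) (tt N24552 (iv F186888)) (tt N22684 F182602) (tt N22322 F182603) (tt N23514 F182604) (tt N24625 D40552) (tt N22321 (iv D39441)) (tt N22845 F182605) (tt N24308 (iv F185470)) (tt N22332 F182606))
theorem Q23516 : ∀ i, i < 23516 → P i := stepQ 23515 Q23515 (allL N23515 (tt N22385 F182607) (tt N24624 (iv F187269)) (tt N22325 F182608) (tt N24625 (iv F187277)) (tt N22500 F182609) (tt N22322 (iv D39442)) (tt N22499 F182610) (tt N22847 F182611) (tt N24626 D40553) (tt N22333 F182612))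
theorem Q23517 : ∀ i, i < 23517 → P i := stepQ 23516 Q23516 (allL N23516 (tt N22386 F182613) (tt N22517 F182614) (tt N22326 F182615) (tt N24308 (iv F185466)) (tt N22324 F182616) (tt N24627 D40554) (tt N22323 F182617) (tt N22848 F182618) (tt N22322 (iv D39443)) (tt N22392 F182619))
theorem Q23518 : ∀ i, i < 23518 → P i := stepQ 23517 Q23517 (allL N23517 (tt N22389 F182620) (tt N22978 F182621) (tt N24626 (iv F187282)) (tt N22692 F182622) (tt N22654 F182623) (tt N24628 D40555) (tt N22634 F182624) (tt N22851 F182625) (tt N22325 (iv D39444)) (tt N24629 D40556))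
theorem Q23519 : ∀ i, i < 23519 → P i := stepQ 23518 Q23518 (allL N23518 (tt N22390 F182626) (tt N22735 F182627) (tt N24627 (iv F187288)) (tt N22693 F182628) (tt N24630 D40557) (tt N22326 (iv D39445)) (tt N24631 D40558) (tt N22852 F182629) (tt N24628 (iv F187297)) (tt N22724 F182630))
theorem Q23520 : ∀ i, i < 23520 → P i := stepQ 23519 Q23519 (allL N23519 (tt N22392 F182631) (tt N22737 F182632) (tt N22391 F182633) (tt N22695 F182634) (tt N22388 F182635) (tt N24631 (iv F187315)) (tt N22327 (iv D39446)) (tt N24434 (iv F186223)) (tt N22408 F182636) (tt N22386 F182637))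
theorem Q23521 : ∀ i, i < 23521 → P i := stepQ 23520 Q23520 (allL N23520 (tt N22394 F182638) (tt N22740 F182639) (tt N23112 F182640) (tt N24632 D40559) (tt N22328 (iv D39447)) (tt N24630 (iv F187308)) (tt N22592 F182641) (tt N22855 F182642) (tt N22657 F182643) (tt N22725 F182644))
theorem Q23522 : ∀ i, i < 23522 → P i := stepQ 23521 Q23521 (allL N23521 (tt N22395 F182645) (tt N22650 F182646) (tt N24633 D40560) (tt N22329 (iv D39448)) (tt N24632 (iv F187319)) (tt N22699 F182647) (tt N22593 F182648) (tt N22856 F182649) (tt N22648 F182650) (tt N22771 F182651))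
theorem Q23523 : ∀ i, i < 23523 → P i := stepQ 23522 Q23522 (allL N23522 (tt N24538 (iv F186818)) (tt N22332 F182652) (tt N22919 F182653) (tt N22331 F182654) (tt N23522 F182655) (tt N24634 D40561) (tt N22330 (iv D39449)) (tt N22911 F182656) (tt N22376 F182657) (tt N24552 (iv F186894)))
theorem Q23524 : ∀ i, i < 23524 → P i := stepQ 23523 Q23523 (allL N23523 (tt N24618 (iv F187225)) (tt N22333 F182658) (tt N22379 F182659) (tt N24634 (iv F187334)) (tt N24615 (iv F187210)) (tt N22331 (iv D39450)) (tt N24272 (iv F185242)) (tt N24608 (iv F187165)) (tt N24635 D40562) (tt N24624 (iv F187274)))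
theorem Q23525 : ∀ i, i < 23525 → P i := stepQ 23524 Q23524 (allL N23524 (tt N22404 F182660) (tt N24634 (iv F187332)) (tt N24382 (iv F185900)) (tt N22333 F182661) (tt N24636 D40563) (tt N22332 (iv D39451)) (tt N24273 (iv F185248)) (tt N24609 (iv F187172)) (tt N24637 D40564) (tt N24625 (iv F187280)))
theorem Q23526 : ∀ i, i < 23526 → P i := stepQ 23525 Q23525 (allL N23525 (tt N22406 F182662) (tt N24635 (iv F187336)) (tt N22335 F182663) (tt N24637 (iv F187342)) (tt N24617 (iv F187222)) (tt N24638 D40565) (tt N24274 (iv F185254)) (tt N24610 (iv F187178)) (tt N22333 (iv D39452)) (tt N24639 D40566))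
theorem Q23527 : ∀ i, i < 23527 → P i := stepQ 23526 Q23526 (allL N23526 (tt N22407 F182664) (tt N22377 F182665) (tt N22336 F182666) (tt N24328 (iv F185590)) (tt N22402 F182667) (tt N22334 (iv D39453)) (tt N22987 F182668) (tt N24611 (iv F187184)) (tt N24638 (iv F187346)) (tt N22669 F182669))
theorem Q23528 : ∀ i, i < 23528 → P i := stepQ 23527 Q23527 (allL N23527 (tt N22410 F182670) (tt N22496 F182671) (tt N24638 (iv F187345)) (tt N24384 (iv F185914)) (tt N22528 (iv F182673)) (tt N22335 (iv D39454)) (tt N23068 (iv F182674)) (tt N24612 (iv F187189)) (tt N22336 F182672) (tt N24640 D40567))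
theorem Q23529 : ∀ i, i < 23529 → P i := stepQ 23528 Q23528 (allL N23528 (tt N22411 F182675) (tt N22979 F182676) (tt N24639 (iv F187350)) (tt N24385 (iv F185920)) (tt N24620 (iv F187241)) (tt N24640 (iv F187354)) (tt N24277 (iv F185274)) (tt N24613 (iv F187197)) (tt N24629 (iv F187304)) (tt N22335 (iv D39455)))
theorem Q23530 : ∀ i, i < 23530 → P i := stepQ 23529 Q23529 (allL N23529 (tt N22366 F182677) (tt N22357 F182678) (tt N22466 F182679) (tt N23529 F182680) (tt N24623 (iv F187264)) (tt N22551 F182681) (tt N22338 F182682) (tt N22337 (iv D39456)) (tt N22761 F182683) (tt N22350 F182684))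
theorem Q23531 : ∀ i, i < 23531 → P i := stepQ 23530 Q23530 (allL N23530 (tt N22628 F182685) (tt N24330 (iv F185600)) (tt N22491 F182686) (tt N22340 F182687) (tt N23530 F182688) (tt N24641 D40568) (tt N22339 (iv D39457)) (tt N22376 F182689) (tt N22911 F182690) (tt N22661 F182691))
theorem Q23532 : ∀ i, i < 23532 → P i := stepQ 23531 Q23531 (allL N23531 (tt N22629 F182692) (tt N24611 (iv F187180)) (tt N22341 F182693) (tt N24641 (iv F187359)) (tt N22353 F182694) (tt N22340 (iv D39458)) (tt N22795 F182695) (tt N22377 F182696) (tt N24642 D40569) (tt N22662 F182697))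
theorem Q23533 : ∀ i, i < 23533 → P i := stepQ 23532 Q23532 (allL N23532 (tt N22631 F182698) (tt N22441 F182699) (tt N24642 (iv F187364)) (tt N22654 F182700) (tt N22358 F182701) (tt N24643 D40570) (tt N22796 F182702) (tt N22378 F182703) (tt N22341 (iv D39459)) (tt N24644 D40571))
theorem Q23534 : ∀ i, i < 23534 → P i := stepQ 23533 Q23533 (allL N23533 (tt N22632 F182704) (tt N22442 F182705) (tt N24608 (iv F187161)) (tt N22655 F182706) (tt N22638 F182707) (tt N22342 (iv D39460)) (tt N22890 F182708) (tt N22379 F182709) (tt N24643 (iv F187373)) (tt N24505 (iv F186646)))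
theorem Q23535 : ∀ i, i < 23535 → P i := stepQ 23534 Q23534 (allL N23534 (tt N22348 F182710) (tt N22630 F182711) (tt N22364 F182712) (tt N24528 (iv F186771)) (tt N22344 F182713) (tt N24645 D40572) (tt N22343 (iv D39461)) (tt N22397 F182714) (tt N22627 F182715) (tt N22544 F182716))
theorem Q23536 : ∀ i, i < 23536 → P i := stepQ 23535 Q23535 (allL N23535 (tt N23045 F182717) (tt N22869 F182718) (tt N22346 F182719) (tt N22460 F182720) (tt N23535 F182721) (tt N22480 F182722) (tt N24646 D40573) (tt N22345 (iv D39462)) (tt N22455 F182723) (tt N22939 F182724))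
theorem Q23537 : ∀ i, i < 23537 → P i := stepQ 23536 Q23536 (allL N23536 (tt N24528 (iv F186768)) (tt N22351 F182725) (tt N24646 (iv F187390)) (tt N22348 F182726) (tt N23536 F182727) (tt N24647 D40574) (tt N22346 (iv D39463)) (tt N22400 F182728) (tt N24648 D40575) (tt N23095 F182729))
theorem Q23538 : ∀ i, i < 23538 → P i := stepQ 23537 Q23537 (allL N23537 (tt N22626 F182730) (tt N22352 F182731) (tt N22455 F182732) (tt N22349 F182733) (tt N23537 F182734) (tt N22448 F182735) (tt N24648 (iv F187405)) (tt N22347 F182736) (tt N22346 (iv D39464)) (tt N22447 F182737))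
theorem Q23539 : ∀ i, i < 23539 → P i := stepQ 23538 Q23538 (allL N23538 (tt N24645 (iv F187382)) (tt N22353 F182738) (tt N22463 F182739) (tt N24647 (iv F187397)) (tt N24611 (iv F187182)) (tt N22348 (iv D39465)) (tt N24454 (iv F186346)) (tt N22402 F182740) (tt N24649 D40576) (tt N23098 F182741))
theorem Q23540 : ∀ i, i < 23540 → P i := stepQ 23539 Q23539 (allL N23539 (tt N22627 F182742) (tt N22354 F182743) (tt N22464 F182744) (tt N24648 (iv F187403)) (tt N22350 F182745) (tt N24650 D40577) (tt N22349 F182746) (tt N22403 F182747) (tt N22348 (iv D39466)) (tt N24623 (iv F187267)))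
theorem Q23541 : ∀ i, i < 23541 → P i := stepQ 23540 Q23540 (allL N23540 (tt N24609 (iv F187167)) (tt N24647 (iv F187396)) (tt N24387 (iv F185935)) (tt N22353 F182748) (tt N24651 D40578) (tt N22351 (iv D39467)) (tt N24456 (iv F186360)) (tt N22404 F182749) (tt N24652 D40579) (tt N24430 (iv F186198)))
theorem Q23542 : ∀ i, i < 23542 → P i := stepQ 23541 Q23541 (allL N23541 (tt N24330 (iv F185599)) (tt N24648 (iv F187401)) (tt N24388 (iv F185942)) (tt N22354 F182750) (tt N23541 F182751) (tt N24653 D40580) (tt N22352 F182752) (tt N22405 F182753) (tt N22351 (iv D39468)) (tt N22719 (iv F182754)))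
theorem Q23543 : ∀ i, i < 23543 → P i := stepQ 23542 Q23542 (allL N23542 (tt N24610 (iv F187174)) (tt N24649 (iv F187408)) (tt N22358 F182755) (tt N24652 (iv F187419)) (tt N24642 (iv F187365)) (tt N24654 D40581) (tt N24457 (iv F186366)) (tt N22406 F182756) (tt N22353 (iv D39469)) (tt N24655 D40582))
theorem Q23544 : ∀ i, i < 23544 → P i := stepQ 23543 Q23543 (allL N23543 (tt N24611 (iv F187179)) (tt N24650 (iv F187412)) (tt N22359 F182757) (tt N24653 (iv F187421)) (tt N24645 (iv F187385)) (tt N22354 (iv D39470)) (tt N24656 D40583) (tt N22407 F182758) (tt N24654 (iv F187427)) (tt N24657 D40584))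
theorem Q23545 : ∀ i, i < 23545 → P i := stepQ 23544 Q23544 (allL N23544 (tt N22660 F182759) (tt N24623 (iv F187261)) (tt N22360 F182760) (tt N22719 F182761) (tt N22357 F182762) (tt N24657 (iv F187441)) (tt N22356 F182763) (tt N22408 F182764) (tt N24434 (iv F186224)) (tt N22354 (iv D39471)))
theorem Q23546 : ∀ i, i < 23546 → P i := stepQ 23545 Q23545 (allL N23545 (tt N22794 F182765) (tt N22827 F182766) (tt N22361 F182767) (tt N22750 F182768) (tt N22610 F182769) (tt N24656 (iv F187434)) (tt N22355 (iv D39472)) (tt N22646 F182770) (tt N24459 (iv F186379)) (tt N22645 F182771))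
theorem Q23547 : ∀ i, i < 23547 → P i := stepQ 23546 Q23546 (allL N23546 (tt N24612 (iv F187186)) (tt N22473 F182772) (tt N24654 (iv F187425)) (tt N24395 (iv F185989)) (tt N24658 D40585) (tt N22358 (iv D39473)) (tt N24659 D40586) (tt N22410 F182773) (tt N22359 F182774) (tt N24660 D40587))
theorem Q23548 : ∀ i, i < 23548 → P i := stepQ 23547 Q23547 (allL N23547 (tt N24613 (iv F187192)) (tt N22474 F182775) (tt N24655 (iv F187428)) (tt N24396 (iv F185994)) (tt N24644 (iv F187378)) (tt N24660 (iv F187452)) (tt N24462 (iv F186398)) (tt N22411 F182776) (tt N24438 (iv F186250)) (tt N22358 (iv D39474)))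
theorem Q23549 : ∀ i, i < 23549 → P i := stepQ 23548 Q23548 (allL N23548 (tt N22463 F182777) (tt N22475 F182778) (tt N24645 (iv F187384)) (tt N24595 (iv F187086)) (tt N22359 (iv D39475)) (tt N22364 F182779) (tt N24661 D40588) (tt N22412 F182780) (tt N24658 (iv F187448)) (tt N22549 (iv F182781)))
theorem Q23550 : ∀ i, i < 23550 → P i := stepQ 23549 Q23549 (allL N23549 (tt N24381 (iv F185890)) (tt N22476 F182782) (tt N24656 (iv F187432)) (tt N24398 (iv F186005)) (tt N24661 (iv F187456)) (tt N22361 F182783) (tt N22359 (iv D39476)) (tt N24662 D40589) (tt N24659 (iv F187450)) (tt N24663 D40590))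
theorem Q23551 : ∀ i, i < 23551 → P i := stepQ 23550 Q23550 (allL N23550 (tt N22704 F182784) (tt N22477 F182785) (tt N24657 (iv F187438)) (tt N24399 (iv F186009)) (tt N22549 F182786) (tt N22360 F182787) (tt N24663 (iv F187472)) (tt N22414 F182788) (tt N24664 D40591) (tt N22359 (iv D39477)))
theorem Q23552 : ∀ i, i < 23552 → P i := stepQ 23551 Q23551 (allL N23551 (tt N23000 F182789) (tt N22478 F182790) (tt N22646 F182791) (tt N24400 (iv F186015)) (tt N22611 F182792) (tt N24662 (iv F187464)) (tt N22363 F182793) (tt N22361 (iv D39478)) (tt N24466 (iv F186422)) (tt N22624 (iv F182794)))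
theorem Q23553 : ∀ i, i < 23553 → P i := stepQ 23552 Q23552 (allL N23552 (tt N22683 F182795) (tt N22479 F182796) (tt N22645 F182797) (tt N24401 (iv F186023)) (tt N22612 F182798) (tt N24663 (iv F187471)) (tt N22362 F182799) (tt N22624 F182800) (tt N22945 (iv F182801)) (tt N22361 (iv D39479)))
theorem Q23554 : ∀ i, i < 23554 → P i := stepQ 23553 Q23553 (allL N23553 (tt N24623 (iv F187260)) (tt N22368 F182802) (tt N22483 F182803) (tt N23036 F182804) (tt N22366 F182805) (tt N24665 D40592) (tt N22365 (iv D39480)) (tt N22381 F182806) (tt N22994 F182807) (tt N22627 F182808))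
theorem Q23555 : ∀ i, i < 23555 → P i := stepQ 23554 Q23554 (allL N23554 (tt N22661 F182809) (tt N23036 F182810) (tt N22376 F182811) (tt N22368 F182812) (tt N23554 F182813) (tt N24666 D40593) (tt N22367 (iv D39481)) (tt N22491 F182814) (tt N22919 F182815) (tt N22628 F182816))
theorem Q23556 : ∀ i, i < 23556 → P i := stepQ 23555 Q23555 (allL N23555 (tt N22662 F182817) (tt N24665 (iv F187478)) (tt N22369 F182818) (tt N24666 (iv F187488)) (tt N22847 F182819) (tt N22368 (iv D39482)) (tt N22817 F182820) (tt N22500 F182821) (tt N24667 D40594) (tt N22629 F182822))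
theorem Q23557 : ∀ i, i < 23557 → P i := stepQ 23556 Q23556 (allL N23556 (tt N22663 F182823) (tt N22488 F182824) (tt N24667 (iv F187493)) (tt N22378 F182825) (tt N22851 F182826) (tt N24668 D40595) (tt N22821 F182827) (tt N22654 F182828) (tt N22369 (iv D39483)) (tt N24669 D40596))
theorem Q23558 : ∀ i, i < 23558 → P i := stepQ 23557 Q23557 (allL N23557 (tt N22664 F182829) (tt N22489 F182830) (tt N23082 F182831) (tt N22379 F182832) (tt N24670 D40597) (tt N22370 (iv D39484)) (tt N24671 D40598) (tt N22655 F182833) (tt N24668 (iv F187503)) (tt N24672 D40599))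
theorem Q23559 : ∀ i, i < 23559 → P i := stepQ 23558 Q23558 (allL N23558 (tt N22665 F182834) (tt N22490 F182835) (tt N23085 F182836) (tt N22380 F182837) (tt N22374 F182838) (tt N24672 (iv F187526)) (tt N22372 F182839) (tt N22656 F182840) (tt N22633 F182841) (tt N22370 (iv D39485)))
theorem Q23560 : ∀ i, i < 23560 → P i := stepQ 23559 Q23559 (allL N23559 (tt N22666 F182842) (tt N22491 F182843) (tt N23043 F182844) (tt N22381 F182845) (tt N23559 F182846) (tt N24671 (iv F187520)) (tt N22371 (iv D39486)) (tt N23036 F182847) (tt N22823 F182848) (tt N24614 (iv F187206)))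
theorem Q23561 : ∀ i, i < 23561 → P i := stepQ 23560 Q23560 (allL N23560 (tt N22667 F182849) (tt N22492 F182850) (tt N23114 F182851) (tt N24601 (iv F187118)) (tt N22373 (iv D39487)) (tt N24670 (iv F187514)) (tt N23560 F182852) (tt N22657 F182853) (tt N22855 F182854) (tt N24673 D40600))
theorem Q23562 : ∀ i, i < 23562 → P i := stepQ 23561 Q23561 (allL N23561 (tt N22668 F182855) (tt N22493 F182856) (tt N23116 F182857) (tt N22375 F182858) (tt N24673 (iv F187531)) (tt N22374 F182859) (tt N23561 F182860) (tt N22658 F182861) (tt N22768 F182862) (tt N22373 (iv D39488)))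
theorem Q23563 : ∀ i, i < 23563 → P i := stepQ 23562 Q23562 (allL N23562 (tt N24616 (iv F187214)) (tt N24328 (iv F185588)) (tt N24666 (iv F187487)) (tt N22377 F182863) (tt N24674 D40601) (tt N22376 (iv D39489)) (tt N22988 F182864) (tt N24641 (iv F187361)) (tt N24675 D40602) (tt N22670 F182865))
theorem Q23564 : ∀ i, i < 23564 → P i := stepQ 23563 Q23563 (allL N23563 (tt N24617 (iv F187220)) (tt N24638 (iv F187344)) (tt N22378 F182866) (tt N24675 (iv F187539)) (tt N22406 F182867) (tt N24635 (iv F187338)) (tt N22989 F182868) (tt N24642 (iv F187367)) (tt N22377 (iv D39490)) (tt N24676 D40603))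
theorem Q23565 : ∀ i, i < 23565 → P i := stepQ 23564 Q23564 (allL N23564 (tt N24619 (iv F187232)) (tt N22497 F182869) (tt N24635 (iv F187337)) (tt N24668 (iv F187501)) (tt N24677 D40604) (tt N22378 (iv D39491)) (tt N24678 D40605) (tt N24643 (iv F187372)) (tt N22379 F182870) (tt N24679 D40606))
theorem Q23566 : ∀ i, i < 23566 → P i := stepQ 23565 Q23565 (allL N23565 (tt N24620 (iv F187238)) (tt N22498 F182871) (tt N24676 (iv F187541)) (tt N24669 (iv F187506)) (tt N22411 F182872) (tt N24679 (iv F187554)) (tt N22991 F182873) (tt N24644 (iv F187380)) (tt N22673 F182874) (tt N22378 (iv D39492)))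
theorem Q23567 : ∀ i, i < 23567 → P i := stepQ 23566 Q23566 (allL N23566 (tt N22529 F182875) (tt N22499 F182876) (tt N24615 (iv F187209)) (tt N24597 (iv F187095)) (tt N22379 (iv D39493)) (tt N22382 F182877) (tt N24624 (iv F187272)) (tt N22638 F182878) (tt N24677 (iv F187549)) (tt N24272 (iv F185244)))
theorem Q23568 : ∀ i, i < 23568 → P i := stepQ 23567 Q23567 (allL N23567 (tt N24621 (iv F187245)) (tt N22500 F182879) (tt N24272 (iv F185240)) (tt N24671 (iv F187519)) (tt N24624 (iv F187271)) (tt N22381 F182880) (tt N22379 (iv D39494)) (tt N24665 (iv F187483)) (tt N24678 (iv F187552)) (tt N24615 (iv F187213)))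
theorem Q23569 : ∀ i, i < 23569 → P i := stepQ 23568 Q23568 (allL N23568 (tt N24622 (iv F187252)) (tt N22501 F182881) (tt N24624 (iv F187270)) (tt N24672 (iv F187525)) (tt N24272 (iv F185241)) (tt N22380 F182882) (tt N24615 (iv F187211)) (tt N24505 (iv F186645)) (tt N24680 D40607) (tt N22379 (iv D39495)))
theorem Q23570 : ∀ i, i < 23570 → P i := stepQ 23569 Q23569 (allL N23569 (tt N24625 (iv F187275)) (tt N23093 F182883) (tt N24294 (iv F185378)) (tt N22385 F182884) (tt N24681 D40608) (tt N22383 (iv D39496)) (tt N22983 F182885) (tt N24430 (iv F186197)) (tt N24682 D40609) (tt N22404 F182886))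
theorem Q23571 : ∀ i, i < 23571 → P i := stepQ 23570 Q23570 (allL N23570 (tt N24308 (iv F185463)) (tt N22729 F182887) (tt N24295 (iv F185385)) (tt N22386 F182888) (tt N23570 F182889) (tt N24683 D40610) (tt N22384 F182890) (tt N24431 (iv F186205)) (tt N22383 (iv D39497)) (tt N22695 F182891))
theorem Q23572 : ∀ i, i < 23572 → P i := stepQ 23571 Q23571 (allL N23571 (tt N24626 (iv F187281)) (tt N23096 F182892) (tt N22389 F182893) (tt N24682 (iv F187563)) (tt N22671 F182894) (tt N24684 D40611) (tt N22984 F182895) (tt N24432 (iv F186212)) (tt N22385 (iv D39498)) (tt N24685 D40612))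
theorem Q23573 : ∀ i, i < 23573 → P i := stepQ 23572 Q23572 (allL N23572 (tt N24627 (iv F187286)) (tt N22734 F182896) (tt N22390 F182897) (tt N24683 (iv F187566)) (tt N24686 D40613) (tt N22386 (iv D39499)) (tt N22724 F182898) (tt N24433 (iv F186216)) (tt N24684 (iv F187572)) (tt N24631 (iv F187316)))
theorem Q23574 : ∀ i, i < 23574 → P i := stepQ 23573 Q23573 (allL N23573 (tt N23112 F182899) (tt N22757 F182900) (tt N22394 F182901) (tt N24687 D40614) (tt N22387 (iv D39500)) (tt N24686 (iv F187581)) (tt N22594 F182902) (tt N24436 (iv F186237)) (tt N22603 F182903) (tt N24359 (iv F185753)))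
theorem Q23575 : ∀ i, i < 23575 → P i := stepQ 23574 Q23574 (allL N23574 (tt N24628 (iv F187293)) (tt N22511 F182904) (tt N24684 (iv F187570)) (tt N24302 (iv F185432)) (tt N24688 D40615) (tt N22389 (iv D39501)) (tt N24689 D40616) (tt N24437 (iv F186242)) (tt N22390 F182905) (tt N24690 D40617))
theorem Q23576 : ∀ i, i < 23576 → P i := stepQ 23575 Q23575 (allL N23575 (tt N24629 (iv F187298)) (tt N22512 F182906) (tt N24685 (iv F187574)) (tt N24303 (iv F185437)) (tt N22673 F182907) (tt N24690 (iv F187596)) (tt N22986 F182908) (tt N24438 (iv F186249)) (tt N22411 F182909) (tt N22389 (iv D39502)))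
theorem Q23577 : ∀ i, i < 23577 → P i := stepQ 23576 Q23576 (allL N23576 (tt N24630 (iv F187305)) (tt N22513 F182910) (tt N24686 (iv F187580)) (tt N24691 D40618) (tt N22390 (iv D39503)) (tt N22394 F182911) (tt N24692 D40619) (tt N24439 (iv F186254)) (tt N24688 (iv F187590)) (tt N24366 (iv F185797)))
theorem Q23578 : ∀ i, i < 23578 → P i := stepQ 23577 Q23577 (allL N23577 (tt N24631 (iv F187311)) (tt N22514 F182912) (tt N22724 F182913) (tt N24305 (iv F185448)) (tt N24692 (iv F187601)) (tt N22392 F182914) (tt N22390 (iv D39504)) (tt N24693 D40620) (tt N24689 (iv F187594)) (tt N24627 (iv F187292)))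
theorem Q23579 : ∀ i, i < 23579 → P i := stepQ 23578 Q23578 (allL N23578 (tt N22724 F182915) (tt N22515 F182916) (tt N24631 (iv F187313)) (tt N24306 (iv F185452)) (tt N24366 (iv F185795)) (tt N22391 F182917) (tt N24627 (iv F187290)) (tt N24441 (iv F186263)) (tt N24694 D40621) (tt N22390 (iv D39505)))
theorem Q23580 : ∀ i, i < 23580 → P i := stepQ 23579 Q23579 (allL N23579 (tt N24434 (iv F186217)) (tt N22516 F182918) (tt N22705 F182919) (tt N24307 (iv F185458)) (tt N22597 F182920) (tt N24693 (iv F187606)) (tt N22393 F182921) (tt N22392 (iv D39506)) (tt N22660 F182922) (tt N22848 F182923))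
theorem Q23581 : ∀ i, i < 23581 → P i := stepQ 23580 Q23580 (allL N23580 (tt N24632 (iv F187317)) (tt N22519 F182924) (tt N24695 D40622) (tt N22394 (iv D39507)) (tt N22395 F182925) (tt N24691 (iv F187598)) (tt N22598 F182926) (tt N24444 (iv F186284)) (tt N22676 F182927) (tt N24365 (iv F185792)))
theorem Q23582 : ∀ i, i < 23582 → P i := stepQ 23581 Q23581 (allL N23581 (tt N24633 (iv F187324)) (tt N24696 D40623) (tt N22395 (iv D39508)) (tt N23581 F182928) (tt N24695 (iv F187611)) (tt N24312 (iv F185491)) (tt N22599 F182929) (tt N24445 (iv F186290)) (tt N22678 F182930) (tt N24372 (iv F185833)))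
theorem Q23583 : ∀ i, i < 23583 → P i := stepQ 23582 Q23582 (allL N23582 (tt N22400 F182931) (tt N24538 (iv F186819)) (tt N24575 (iv F187007)) (tt N22397 F182932) (tt N23582 F182933) (tt N24697 D40624) (tt N22396 (iv D39509)) (tt N24528 (iv F186773)) (tt N24614 (iv F187205)) (tt N22537 F182934))
theorem Q23584 : ∀ i, i < 23584 → P i := stepQ 23583 Q23583 (allL N23583 (tt N22402 F182935) (tt N24618 (iv F187226)) (tt N22412 F182936) (tt N24697 (iv F187621)) (tt N22407 F182937) (tt N22397 (iv D39510)) (tt N22543 F182938) (tt N24645 (iv F187386)) (tt N24698 D40625) (tt N22542 F182939))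
theorem Q23585 : ∀ i, i < 23585 → P i := stepQ 23584 Q23584 (allL N23584 (tt N24575 (iv F187005)) (tt N22867 F182940) (tt N22400 F182941) (tt N22522 F182942) (tt N23584 F182943) (tt N24699 D40626) (tt N22398 (iv D39511)) (tt N24646 (iv F187393)) (tt N24700 D40627) (tt N22938 F182944))
theorem Q23586 : ∀ i, i < 23586 → P i := stepQ 23585 Q23585 (allL N23585 (tt N23046 F182945) (tt N22849 F182946) (tt N22401 F182947) (tt N22523 F182948) (tt N23585 F182949) (tt N22518 F182950) (tt N24700 (iv F187638)) (tt N22399 F182951) (tt N22398 (iv D39512)) (tt N22456 F182952))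
theorem Q23587 : ∀ i, i < 23587 → P i := stepQ 23586 Q23586 (allL N23586 (tt N24697 (iv F187620)) (tt N22404 F182953) (tt N24699 (iv F187629)) (tt N22402 F182954) (tt N24701 D40628) (tt N22400 (iv D39513)) (tt N23094 F182955) (tt N24647 (iv F187398)) (tt N24702 D40629) (tt N23093 F182956))
theorem Q23588 : ∀ i, i < 23588 → P i := stepQ 23587 Q23587 (allL N23587 (tt N24614 (iv F187199)) (tt N22405 F182957) (tt N24700 (iv F187635)) (tt N22403 F182958) (tt N23587 F182959) (tt N24703 D40630) (tt N22401 F182960) (tt N24648 (iv F187406)) (tt N22400 (iv D39514)) (tt N22666 F182961))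
theorem Q23589 : ∀ i, i < 23589 → P i := stepQ 23588 Q23588 (allL N23588 (tt N24698 (iv F187624)) (tt N22406 F182962) (tt N22528 F182963) (tt N24702 (iv F187646)) (tt N24638 F187347) (tt N24704 D40631) (tt N23099 F182964) (tt N24649 (iv F187410)) (tt N22402 (iv D39515)) (tt N24705 D40632))
theorem Q23590 : ∀ i, i < 23590 → P i := stepQ 23589 Q23589 (allL N23589 (tt N24615 (iv F187207)) (tt N22407 F182965) (tt N22529 F182966) (tt N24703 (iv F187649)) (tt N24618 (iv F187228)) (tt N22403 (iv D39516)) (tt N24622 (iv F187258)) (tt N24650 (iv F187416)) (tt N24704 (iv F187654)) (tt N24621 F187251))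
theorem Q23591 : ∀ i, i < 23591 → P i := stepQ 23590 Q23590 (allL N23590 (tt N24636 (iv F187339)) (tt N24701 (iv F187641)) (tt N24406 (iv F186057)) (tt N24674 (iv F187535)) (tt N22404 (iv D39517)) (tt N23590 F182967) (tt N24281 (iv F185303)) (tt N24651 (iv F187418)) (tt N24706 D40633) (tt N24681 (iv F187561)))
theorem Q23592 : ∀ i, i < 23592 → P i := stepQ 23591 Q23591 (allL N23591 (tt N24637 (iv F187341)) (tt N24702 (iv F187645)) (tt N24407 (iv F186062)) (tt N22406 F182968) (tt N24706 (iv F187659)) (tt N24707 D40634) (tt N24282 (iv F185310)) (tt N24652 (iv F187420)) (tt N22404 (iv D39518)) (tt N24708 D40635))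
theorem Q23593 : ∀ i, i < 23593 → P i := stepQ 23592 Q23592 (allL N23592 (tt N24328 (iv F185587)) (tt N24703 (iv F187648)) (tt N24408 (iv F186067)) (tt N22407 F182969) (tt N24709 D40636) (tt N22405 (iv D39519)) (tt N22718 F182970) (tt N24653 (iv F187423)) (tt N24707 (iv F187662)) (tt N22717 F182971))
theorem Q23594 : ∀ i, i < 23594 → P i := stepQ 23593 Q23593 (allL N23593 (tt N24638 (iv F187343)) (tt N24704 (iv F187652)) (tt N22410 F182972) (tt N24707 (iv F187660)) (tt N24698 (iv F187626)) (tt N22406 (iv D39520)) (tt N24710 D40637) (tt N24654 (iv F187426)) (tt N22407 F182973) (tt N24711 D40638))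
theorem Q23595 : ∀ i, i < 23595 → P i := stepQ 23594 Q23594 (allL N23594 (tt N24639 (iv F187349)) (tt N24705 (iv F187655)) (tt N22411 F182974) (tt N24708 (iv F187663)) (tt N24676 (iv F187542)) (tt N24711 (iv F187674)) (tt N24284 (iv F185320)) (tt N24655 (iv F187429)) (tt N24685 (iv F187577)) (tt N22406 (iv D39521)))
theorem Q23596 : ∀ i, i < 23596 → P i := stepQ 23595 Q23595 (allL N23595 (tt N22987 F182975) (tt N24622 (iv F187253)) (tt N22413 F182976) (tt N22718 F182977) (tt N22543 F182978) (tt N22409 F182979) (tt N22407 (iv D39522)) (tt N22644 (iv F182980)) (tt N24710 (iv F187671)) (tt N22541 (iv F182981)))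
theorem Q23597 : ∀ i, i < 23597 → P i := stepQ 23596 Q23596 (allL N23596 (tt N22669 F182982) (tt N24621 (iv F187246)) (tt N22414 F182983) (tt N22717 F182984) (tt N22542 F182985) (tt N22408 F182986) (tt N22541 F182987) (tt N24657 (iv F187443)) (tt N24712 D40639) (tt N22407 (iv D39523)))
theorem Q23598 : ∀ i, i < 23598 → P i := stepQ 23597 Q23597 (allL N23597 (tt N22528 F182988) (tt N22545 F182989) (tt N24698 (iv F187625)) (tt N24596 (iv F187091)) (tt N22410 (iv D39524)) (tt N24677 (iv F187547)) (tt N22550 (iv F182991)) (tt N24658 (iv F187447)) (tt N22412 F182990) (tt N24713 D40640))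
theorem Q23599 : ∀ i, i < 23599 → P i := stepQ 23598 Q23598 (allL N23598 (tt N23068 F182992) (tt N22546 F182993) (tt N24710 (iv F187668)) (tt N24417 (iv F186113)) (tt N22550 F182994) (tt N24287 (iv F185337)) (tt N22410 (iv D39525)) (tt N24714 D40641) (tt N22413 F182995) (tt N24715 D40642))
theorem Q23600 : ∀ i, i < 23600 → P i := stepQ 23599 Q23599 (allL N23599 (tt N24640 (iv F187351)) (tt N22547 F182996) (tt N24711 (iv F187673)) (tt N24418 (iv F186117)) (tt N24713 (iv F187682)) (tt N22411 F182997) (tt N24715 (iv F187693)) (tt N24660 (iv F187453)) (tt N24716 D40643) (tt N22410 (iv D39526)))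
theorem Q23601 : ∀ i, i < 23601 → P i := stepQ 23600 Q23600 (allL N23600 (tt N23032 F182998) (tt N22549 F182999) (tt N22644 F183000) (tt N24422 (iv F186141)) (tt N22477 F183001) (tt N22415 F183002) (tt N24662 (iv F187465)) (tt N22413 (iv D39527)) (tt N24714 (iv F187689)) (tt N22475 F183003))
theorem Q23602 : ∀ i, i < 23602 → P i := stepQ 23601 Q23601 (allL N23601 (tt N22723 F183004) (tt N22550 F183005) (tt N24712 (iv F187676)) (tt N24423 (iv F186146)) (tt N22546 F183006) (tt N24694 (iv F187610)) (tt N22545 F183007) (tt N24664 (iv F187477)) (tt N22414 (iv D39528)) (tt N24716 (iv F187699)))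
theorem Q23603 : ∀ i, i < 23603 → P i := stepQ 23602 Q23602 (allL N23602 (tt N22419 F183008) (tt N22624 F183009) (tt N24452 (iv F186329)) (tt N24503 (iv F186626)) (tt N22417 F183010) (tt N24661 (iv F187457)) (tt N22416 (iv D39529)) (tt N22479 F183011) (tt N22933 F183012) (tt N22478 F183013))
theorem Q23604 : ∀ i, i < 23604 → P i := stepQ 23603 Q23603 (allL N23603 (tt N24503 (iv F186623)) (tt N22422 F183014) (tt N24504 (iv F186633)) (tt N22419 F183015) (tt N23603 F183016) (tt N24717 D40644) (tt N22418 (iv D39530)) (tt N22878 F183017) (tt N24491 (iv F186575)) (tt N22877 F183018))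
theorem Q23605 : ∀ i, i < 23605 → P i := stepQ 23604 Q23604 (allL N23604 (tt N24661 (iv F187454)) (tt N22424 F183019) (tt N24454 (iv F186344)) (tt N24717 (iv F187701)) (tt N24381 (iv F185894)) (tt N22419 (iv D39531)) (tt N22463 F183020) (tt N23060 F183021) (tt N24718 D40645) (tt N23059 F183022))
theorem Q23606 : ∀ i, i < 23606 → P i := stepQ 23605 Q23605 (allL N23605 (tt N22933 F183023) (tt N22425 F183024) (tt N24455 (iv F186351)) (tt N24491 (iv F186571)) (tt N22421 F183025) (tt N24719 D40646) (tt N22420 F183026) (tt N23062 F183027) (tt N22419 (iv D39532)) (tt N24484 (iv F186540)))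
theorem Q23607 : ∀ i, i < 23607 → P i := stepQ 23606 Q23606 (allL N23606 (tt N22962 F183028) (tt N22427 F183029) (tt N22775 F183030) (tt N23606 F183031) (tt N24720 D40647) (tt N22421 (iv D39533)) (tt N22613 F183032) (tt N23131 F183033) (tt N22840 F183034) (tt N22773 F183035))
theorem Q23608 : ∀ i, i < 23608 → P i := stepQ 23607 Q23607 (allL N23607 (tt N23009 F183036) (tt N24717 (iv F187700)) (tt N24430 (iv F186194)) (tt N22424 F183037) (tt N24721 D40648) (tt N22422 (iv D39534)) (tt N22467 F183038) (tt N24294 (iv F185381)) (tt N24722 D40649) (tt N24387 (iv F185939)))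
theorem Q23609 : ∀ i, i < 23609 → P i := stepQ 23608 Q23608 (allL N23608 (tt N23010 F183039) (tt N24491 (iv F186569)) (tt N24431 (iv F186201)) (tt N22425 F183040) (tt N23608 F183041) (tt N24723 D40650) (tt N22423 F183042) (tt N24295 (iv F185389)) (tt N22422 (iv D39535)) (tt N24478 (iv F186504)))
theorem Q23610 : ∀ i, i < 23610 → P i := stepQ 23609 Q23609 (allL N23609 (tt N23012 F183043) (tt N24718 (iv F187705)) (tt N22429 F183044) (tt N24722 (iv F187724)) (tt N24383 (iv F185907)) (tt N24724 D40651) (tt N22470 F183045) (tt N24296 (iv F185396)) (tt N22424 (iv D39536)) (tt N24725 D40652))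
theorem Q23611 : ∀ i, i < 23611 → P i := stepQ 23610 Q23610 (allL N23610 (tt N23013 F183046) (tt N24719 (iv F187709)) (tt N22430 F183047) (tt N24723 (iv F187727)) (tt N24726 D40653) (tt N22425 (iv D39537)) (tt N24558 (iv F186930)) (tt N24297 (iv F185400)) (tt N24724 (iv F187730)) (tt N24727 D40654))
theorem Q23612 : ∀ i, i < 23612 → P i := stepQ 23611 Q23611 (allL N23611 (tt N23014 F183048) (tt N24484 (iv F186534)) (tt N22431 F183049) (tt N24478 (iv F186500)) (tt N22428 F183050) (tt N24727 (iv F187740)) (tt N22426 F183051) (tt N24298 (iv F185407)) (tt N24391 (iv F185965)) (tt N22425 (iv D39538)))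
theorem Q23613 : ∀ i, i < 23613 → P i := stepQ 23612 Q23612 (allL N23612 (tt N23015 F183052) (tt N24720 (iv F187713)) (tt N22435 F183053) (tt N24728 D40655) (tt N22427 (iv D39539)) (tt N24726 (iv F187736)) (tt N22614 F183054) (tt N24300 (iv F185421)) (tt N22957 F183055) (tt N24729 D40656))
theorem Q23614 : ∀ i, i < 23614 → P i := stepQ 23613 Q23613 (allL N23613 (tt N23016 F183056) (tt N22773 F183057) (tt N22436 F183058) (tt N23613 F183059) (tt N24729 (iv F187749)) (tt N22428 F183060) (tt N22615 F183061) (tt N24301 (iv F185429)) (tt N24730 D40657) (tt N22427 (iv D39540)))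
theorem Q23615 : ∀ i, i < 23615 → P i := stepQ 23614 Q23614 (allL N23614 (tt N23017 F183062) (tt N24461 (iv F186390)) (tt N24724 (iv F187729)) (tt N24437 (iv F186241)) (tt N24731 D40658) (tt N22429 (iv D39541)) (tt N24732 D40659) (tt N24302 (iv F185433)) (tt N22430 F183063) (tt N24733 D40660))
theorem Q23616 : ∀ i, i < 23616 → P i := stepQ 23615 Q23615 (allL N23615 (tt N23018 F183064) (tt N24462 (iv F186395)) (tt N24725 (iv F187732)) (tt N24438 (iv F186246)) (tt N24385 (iv F185921)) (tt N24733 (iv F187763)) (tt N22474 F183065) (tt N24303 (iv F185440)) (tt N24396 (iv F185998)) (tt N22429 (iv D39542)))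
theorem Q23617 : ∀ i, i < 23617 → P i := stepQ 23616 Q23616 (allL N23616 (tt N23019 F183066) (tt N24463 (iv F186402)) (tt N24726 (iv F187735)) (tt N24734 D40661) (tt N22430 (iv D39543)) (tt N22435 F183067) (tt N24735 D40662) (tt N24304 (iv F185445)) (tt N24731 (iv F187758)) (tt N24736 D40663))
theorem Q23618 : ∀ i, i < 23618 → P i := stepQ 23617 Q23617 (allL N23617 (tt N23020 F183068) (tt N24464 (iv F186407)) (tt N24558 (iv F186928)) (tt N24440 (iv F186257)) (tt N24735 (iv F187769)) (tt N22432 F183069) (tt N22430 (iv D39544)) (tt N24737 D40664) (tt N24732 (iv F187761)) (tt N24738 D40665))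
theorem Q23619 : ∀ i, i < 23619 → P i := stepQ 23618 Q23618 (allL N23618 (tt N23021 F183070) (tt N24465 (iv F186411)) (tt N24727 (iv F187739)) (tt N24441 (iv F186261)) (tt N24736 (iv F187772)) (tt N22431 F183071) (tt N24738 (iv F187778)) (tt N24306 (iv F185454)) (tt N24739 D40666) (tt N22430 (iv D39545)))
theorem Q23620 : ∀ i, i < 23620 → P i := stepQ 23619 Q23619 (allL N23619 (tt N23022 F183072) (tt N24466 (iv F186417)) (tt N24471 (iv F186456)) (tt N24442 (iv F186267)) (tt N22619 F183073) (tt N24737 (iv F187775)) (tt N22434 F183074) (tt N22432 (iv D39546)) (tt N22478 F183075) (tt N24560 (iv F186943)))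
theorem Q23621 : ∀ i, i < 23621 → P i := stepQ 23620 Q23620 (allL N23620 (tt N23023 F183076) (tt N24467 (iv F186425)) (tt N24474 (iv F186476)) (tt N24443 (iv F186275)) (tt N22620 F183077) (tt N24738 (iv F187777)) (tt N22433 F183078) (tt N24560 (iv F186942)) (tt N24472 (iv F186468)) (tt N22432 (iv D39547)))
theorem Q23622 : ∀ i, i < 23622 → P i := stepQ 23621 Q23621 (allL N23621 (tt N23026 F183079) (tt N22577 F183080) (tt N24740 D40667) (tt N22435 (iv D39548)) (tt N22437 F183081) (tt N24734 (iv F187766)) (tt N22588 F183082) (tt N24309 (iv F185475)) (tt N22573 F183083) (tt N24741 D40668))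
theorem Q23623 : ∀ i, i < 23623 → P i := stepQ 23622 Q23622 (allL N23622 (tt N23027 F183084) (tt N24468 (iv F186433)) (tt N24729 (iv F187748)) (tt N24741 (iv F187786)) (tt N22436 F183085) (tt N24736 (iv F187773)) (tt N22621 F183086) (tt N24310 (iv F185481)) (tt N24742 D40669) (tt N22435 (iv D39549)))
theorem Q23624 : ∀ i, i < 23624 → P i := stepQ 23623 Q23623 (allL N23623 (tt N23028 F183087) (tt N22787 F183088) (tt N24730 (iv F187753)) (tt N22439 F183089) (tt N24742 (iv F187793)) (tt N24404 (iv F186044)) (tt N22622 F183090) (tt N24311 (iv F185487)) (tt N22436 (iv D39550)) (tt N22784 F183091))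
theorem Q23625 : ∀ i, i < 23625 → P i := stepQ 23624 Q23624 (allL N23624 (tt N23029 F183092) (tt N24372 (iv F185829)) (tt N22437 (iv D39551)) (tt N23624 F183093) (tt N24740 (iv F187781)) (tt N24445 (iv F186288)) (tt N22587 F183094) (tt N24312 (iv F185493)) (tt N22570 F183095) (tt N24696 (iv F187619)))
theorem Q23626 : ∀ i, i < 23626 → P i := stepQ 23625 Q23625 (allL N23625 (tt N23030 F183096) (tt N22521 F183097) (tt N24696 (iv F187615)) (tt N22438 F183098) (tt N24741 (iv F187787)) (tt N24373 (iv F185837)) (tt N22589 F183099) (tt N24313 (iv F185500)) (tt N22754 F183100) (tt N22437 (iv D39552)))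
theorem Q23627 : ∀ i, i < 23627 → P i := stepQ 23626 Q23626 (allL N23626 (tt N22981 F183101) (tt N24612 (iv F187187)) (tt N22441 F183102) (tt N24513 (iv F186694)) (tt N22470 F183103) (tt N22635 F183104) (tt N24383 (iv F185909)) (tt N22496 F183105) (tt N22440 (iv D39553)) (tt N24743 D40670))
theorem Q23628 : ∀ i, i < 23628 → P i := stepQ 23627 Q23627 (allL N23627 (tt N22980 F183106) (tt N24643 (iv F187369)) (tt N22635 F183107) (tt N24276 (iv F185266)) (tt N22640 (iv F183110)) (tt N22441 (iv D39554)) (tt N22892 (iv F183111)) (tt N22497 F183108) (tt N22442 F183109) (tt N24744 D40671))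
theorem Q23629 : ∀ i, i < 23629 → P i := stepQ 23628 Q23628 (allL N23628 (tt N23031 F183112) (tt N24644 (iv F187376)) (tt N24743 (iv F187797)) (tt N24277 (iv F185272)) (tt N22474 F183113) (tt N24744 (iv F187805)) (tt N24385 (iv F185922)) (tt N22498 F183114) (tt N22715 F183115) (tt N22441 (iv D39555)))
theorem Q23630 : ∀ i, i < 23630 → P i := stepQ 23629 Q23629 (allL N23629 (tt N23033 F183116) (tt N22954 F183117) (tt N24456 (iv F186358)) (tt N22445 F183118) (tt N24745 D40672) (tt N22443 (iv D39556)) (tt N24387 (iv F185937)) (tt N22503 F183119) (tt N24746 D40673) (tt N22467 F183120))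
theorem Q23631 : ∀ i, i < 23631 → P i := stepQ 23630 Q23630 (allL N23630 (tt N22815 F183121) (tt N22645 F183122) (tt N22905 F183123) (tt N22446 F183124) (tt N22553 F183125) (tt N24747 D40674) (tt N22444 F183126) (tt N22504 F183127) (tt N22443 (iv D39557)) (tt N22827 (iv F183128)))
theorem Q23632 : ∀ i, i < 23632 → P i := stepQ 23631 Q23631 (allL N23631 (tt N23034 F183129) (tt N23100 F183130) (tt N22451 F183131) (tt N24746 (iv F187816)) (tt N22709 F183132) (tt N24748 D40675) (tt N24389 (iv F185952)) (tt N22506 F183133) (tt N22445 (iv D39558)) (tt N24749 D40676))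
theorem Q23633 : ∀ i, i < 23633 → P i := stepQ 23632 Q23632 (allL N23632 (tt N23035 F183134) (tt N22747 F183135) (tt N22452 F183136) (tt N24747 (iv F187821)) (tt N24750 D40677) (tt N22446 (iv D39559)) (tt N24751 D40678) (tt N22507 F183137) (tt N24748 (iv F187829)) (tt N24752 D40679))
theorem Q23634 : ∀ i, i < 23634 → P i := stepQ 23633 Q23633 (allL N23633 (tt N22828 F183138) (tt N22750 F183139) (tt N22453 F183140) (tt N22827 F183141) (tt N22450 F183142) (tt N24752 (iv F187850)) (tt N22448 F183143) (tt N22508 F183144) (tt N22472 F183145) (tt N22446 (iv D39560)))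
theorem Q23635 : ∀ i, i < 23635 → P i := stepQ 23634 Q23634 (allL N23634 (tt N23036 F183146) (tt N22719 F183147) (tt N22454 F183148) (tt N24623 (iv F187263)) (tt N23634 F183149) (tt N24751 (iv F187844)) (tt N22447 (iv D39561)) (tt N22666 F183150) (tt N24392 (iv F185972)) (tt N24648 (iv F187407)))
theorem Q23636 : ∀ i, i < 23636 → P i := stepQ 23635 Q23635 (allL N23635 (tt N23037 F183151) (tt N22766 F183152) (tt N22457 F183153) (tt N24541 (iv F186845)) (tt N22449 (iv D39562)) (tt N24750 (iv F187839)) (tt N23635 F183154) (tt N22509 F183155) (tt N22713 F183156) (tt N24540 (iv F186841)))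
theorem Q23637 : ∀ i, i < 23637 → P i := stepQ 23636 Q23636 (allL N23636 (tt N23038 F183157) (tt N24437 (iv F186240)) (tt N24748 (iv F187827)) (tt N24461 (iv F186391)) (tt N24753 D40680) (tt N22451 (iv D39563)) (tt N24754 D40681) (tt N22511 F183158) (tt N22452 F183159) (tt N24755 D40682))
theorem Q23638 : ∀ i, i < 23638 → P i := stepQ 23637 Q23637 (allL N23637 (tt N23039 F183160) (tt N24438 (iv F186245)) (tt N24749 (iv F187832)) (tt N24462 (iv F186396)) (tt N22715 F183161) (tt N24755 (iv F187859)) (tt N24396 (iv F185996)) (tt N22512 F183162) (tt N22474 F183163) (tt N22451 (iv D39564)))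
theorem Q23639 : ∀ i, i < 23639 → P i := stepQ 23638 Q23638 (allL N23638 (tt N23040 F183164) (tt N24439 (iv F186252)) (tt N24750 (iv F187838)) (tt N24756 D40683) (tt N22452 (iv D39565)) (tt N22457 F183165) (tt N24757 D40684) (tt N22513 F183166) (tt N24753 (iv F187855)) (tt N24758 D40685))
theorem Q23640 : ∀ i, i < 23640 → P i := stepQ 23639 Q23639 (allL N23639 (tt N23041 F183167) (tt N24440 (iv F186256)) (tt N24751 (iv F187843)) (tt N24464 (iv F186408)) (tt N24757 (iv F187866)) (tt N22454 F183168) (tt N22452 (iv D39566)) (tt N24759 D40686) (tt N24754 (iv F187857)) (tt N24760 D40687))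
theorem Q23641 : ∀ i, i < 23641 → P i := stepQ 23640 Q23640 (allL N23640 (tt N23042 F183169) (tt N24441 (iv F186260)) (tt N24752 (iv F187848)) (tt N24465 (iv F186413)) (tt N24758 (iv F187869)) (tt N22453 F183170) (tt N24760 (iv F187878)) (tt N22515 F183171) (tt N24761 D40688) (tt N22452 (iv D39567)))
theorem Q23642 : ∀ i, i < 23642 → P i := stepQ 23641 Q23641 (allL N23641 (tt N23043 F183172) (tt N24442 (iv F186265)) (tt N22666 F183173) (tt N24466 (iv F186419)) (tt N23641 F183174) (tt N24759 (iv F187874)) (tt N22456 F183175) (tt N22454 (iv D39568)) (tt N24400 (iv F186018)) (tt N24700 (iv F187640)))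
theorem Q23643 : ∀ i, i < 23643 → P i := stepQ 23642 Q23642 (allL N23642 (tt N23044 F183176) (tt N24443 (iv F186273)) (tt N24648 (iv F187402)) (tt N24467 (iv F186427)) (tt N23642 F183177) (tt N24760 (iv F187877)) (tt N22455 F183178) (tt N24700 (iv F187639)) (tt N24646 (iv F187394)) (tt N22454 (iv D39569)))
theorem Q23644 : ∀ i, i < 23644 → P i := stepQ 23643 Q23643 (allL N23643 (tt N23047 F183179) (tt N24444 (iv F186281)) (tt N24554 (iv F186903)) (tt N22457 (iv D39570)) (tt N22459 F183180) (tt N24756 (iv F187863)) (tt N23643 F183181) (tt N22519 F183182) (tt N22578 F183183) (tt N24553 F186901))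
theorem Q23645 : ∀ i, i < 23645 → P i := stepQ 23644 Q23644 (allL N23644 (tt N23048 F183184) (tt N24367 (iv F185799)) (tt N24540 F186840) (tt N24553 (iv F186896)) (tt N22458 F183185) (tt N24758 (iv F187870)) (tt N23644 F183186) (tt N22520 F183187) (tt N24293 (iv F185374)) (tt N22457 (iv D39571)))
theorem Q23646 : ∀ i, i < 23646 → P i := stepQ 23645 Q23645 (allL N23645 (tt N24585 (iv F187046)) (tt N24472 (iv F186463)) (tt N22461 F183188) (tt N24646 (iv F187391)) (tt N22554 F183189) (tt N24762 D40689) (tt N22460 (iv D39572)) (tt N22522 F183190) (tt N24467 (iv F186431)) (tt N22945 F183191))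
theorem Q23647 : ∀ i, i < 23647 → P i := stepQ 23646 Q23646 (allL N23646 (tt N24595 (iv F187084)) (tt N22467 F183192) (tt N24762 (iv F187882)) (tt N22463 F183193) (tt N24763 D40690) (tt N22461 (iv D39573)) (tt N24717 (iv F187702)) (tt N22524 F183194) (tt N24764 D40691) (tt N22954 F183195))
theorem Q23648 : ∀ i, i < 23648 → P i := stepQ 23647 Q23647 (allL N23647 (tt N22637 F183196) (tt N22468 F183197) (tt N24467 (iv F186426)) (tt N22464 F183198) (tt N22557 F183199) (tt N24765 D40692) (tt N22462 F183200) (tt N22525 F183201) (tt N22461 (iv D39574)) (tt N24459 (iv F186380)))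
theorem Q23649 : ∀ i, i < 23649 → P i := stepQ 23648 Q23648 (allL N23648 (tt N24658 (iv F187444)) (tt N22470 F183202) (tt N24649 (iv F187409)) (tt N24764 (iv F187891)) (tt N24612 F187191) (tt N24766 D40693) (tt N24718 (iv F187706)) (tt N22528 F183203) (tt N22463 (iv D39575)) (tt N24767 D40694))
theorem Q23650 : ∀ i, i < 23650 → P i := stepQ 23649 Q23649 (allL N23649 (tt N22638 F183204) (tt N22471 F183205) (tt N24650 (iv F187413)) (tt N24765 (iv F187895)) (tt N22632 F183206) (tt N22464 (iv D39576)) (tt N22928 F183207) (tt N22529 F183208) (tt N24766 (iv F187903)) (tt N24768 D40695))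
theorem Q23651 : ∀ i, i < 23651 → P i := stepQ 23650 Q23650 (allL N23650 (tt N22483 F183209) (tt N22472 F183210) (tt N24623 (iv F187262)) (tt N24459 (iv F186376)) (tt N22466 F183211) (tt N24768 (iv F187911)) (tt N22465 F183212) (tt N22530 F183213) (tt N22750 F183214) (tt N22464 (iv D39577)))
theorem Q23652 : ∀ i, i < 23652 → P i := stepQ 23651 Q23651 (allL N23651 (tt N23051 F183215) (tt N24763 (iv F187885)) (tt N24481 (iv F186520)) (tt N24515 (iv F186706)) (tt N22467 (iv D39578)) (tt N22560 F183216) (tt N24721 (iv F187722)) (tt N22533 F183217) (tt N24769 D40696) (tt N24745 (iv F187813)))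
theorem Q23653 : ∀ i, i < 23653 → P i := stepQ 23652 Q23652 (allL N23652 (tt N23052 F183218) (tt N24764 (iv F187890)) (tt N24482 (iv F186524)) (tt N22470 F183219) (tt N24769 (iv F187915)) (tt N24770 D40697) (tt N24722 (iv F187725)) (tt N22534 F183220) (tt N22467 (iv D39579)) (tt N24771 D40698))
theorem Q23654 : ∀ i, i < 23654 → P i := stepQ 23653 Q23653 (allL N23653 (tt N23053 F183221) (tt N24765 (iv F187894)) (tt N24483 (iv F186528)) (tt N22471 F183222) (tt N22744 F183223) (tt N22468 (iv D39580)) (tt N24556 (iv F186920)) (tt N22535 F183224) (tt N24770 (iv F187920)) (tt N24772 D40699))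
theorem Q23655 : ∀ i, i < 23655 → P i := stepQ 23654 Q23654 (allL N23654 (tt N22830 F183225) (tt N24459 (iv F186374)) (tt N22929 F183226) (tt N22472 F183227) (tt N22561 F183228) (tt N24772 (iv F187929)) (tt N22469 F183229) (tt N22536 F183230) (tt N22827 F183231) (tt N22468 (iv D39581)))
theorem Q23656 : ∀ i, i < 23656 → P i := stepQ 23655 Q23655 (allL N23655 (tt N23054 F183232) (tt N24766 (iv F187900)) (tt N22473 F183233) (tt N24770 (iv F187918)) (tt N22641 F183234) (tt N22470 (iv D39582)) (tt N24557 (iv F186925)) (tt N22539 F183235) (tt N22471 F183236) (tt N24773 D40700))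
theorem Q23657 : ∀ i, i < 23657 → P i := stepQ 23656 Q23656 (allL N23656 (tt N23055 F183237) (tt N24767 (iv F187905)) (tt N22474 F183238) (tt N24771 (iv F187923)) (tt N24743 (iv F187798)) (tt N24773 (iv F187934)) (tt N24725 (iv F187733)) (tt N22540 F183239) (tt N24749 (iv F187835)) (tt N22470 (iv D39583)))
theorem Q23658 : ∀ i, i < 23658 → P i := stepQ 23657 Q23657 (allL N23657 (tt N23056 F183240) (tt N24768 (iv F187909)) (tt N22477 F183241) (tt N24772 (iv F187927)) (tt N22644 F183242) (tt N22472 F183243) (tt N24524 (iv F186756)) (tt N22543 F183244) (tt N24774 D40701) (tt N22471 (iv D39584)))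
theorem Q23659 : ∀ i, i < 23659 → P i := stepQ 23658 Q23658 (allL N23658 (tt N23050 F183245) (tt N24658 (iv F187445)) (tt N22641 F183246) (tt N24775 D40702) (tt N22473 (iv D39585)) (tt N22640 F183247) (tt N24776 D40703) (tt N22545 F183248) (tt N22475 F183249) (tt N24777 D40704))
theorem Q23660 : ∀ i, i < 23660 → P i := stepQ 23659 Q23659 (allL N23659 (tt N23057 F183250) (tt N24659 (iv F187449)) (tt N24557 (iv F186923)) (tt N24495 (iv F186594)) (tt N24776 (iv F187947)) (tt N24732 (iv F187760)) (tt N22473 (iv D39586)) (tt N24778 D40705) (tt N22476 F183251) (tt N24779 D40706))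
theorem Q23661 : ∀ i, i < 23661 → P i := stepQ 23660 Q23660 (allL N23660 (tt N23058 F183252) (tt N24660 (iv F187451)) (tt N24773 (iv F187932)) (tt N24496 (iv F186597)) (tt N24777 (iv F187952)) (tt N22474 F183253) (tt N24779 (iv F187959)) (tt N22547 F183254) (tt N24780 D40707) (tt N22473 (iv D39587)))
theorem Q23662 : ∀ i, i < 23662 → P i := stepQ 23661 Q23661 (allL N23661 (tt N23049 F183255) (tt N24595 (iv F187085)) (tt N22728 F183256) (tt N22475 (iv D39588)) (tt N24497 (iv F186601)) (tt N22481 F183257) (tt N24781 D40708) (tt N22548 F183258) (tt N24775 (iv F187944)) (tt N24422 (iv F186143)))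
theorem Q23663 : ∀ i, i < 23663 → P i := stepQ 23662 Q23662 (allL N23662 (tt N23008 F183259) (tt N24661 (iv F187455)) (tt N22643 F183260) (tt N24781 (iv F187965)) (tt N22476 F183261) (tt N22624 F183262) (tt N22475 (iv D39589)) (tt N24663 (iv F187473)) (tt N24776 (iv F187949)) (tt N24662 F187466))
theorem Q23664 : ∀ i, i < 23664 → P i := stepQ 23663 Q23663 (allL N23663 (tt N23059 F183263) (tt N24662 (iv F187461)) (tt N24470 (iv F186450)) (tt N24500 (iv F186613)) (tt N24663 (iv F187470)) (tt N22478 F183264) (tt N22549 F183265) (tt N22476 (iv D39590)) (tt N24778 (iv F187957)) (tt N24661 (iv F187459)))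
theorem Q23665 : ∀ i, i < 23665 → P i := stepQ 23664 Q23664 (allL N23664 (tt N23060 F183266) (tt N24663 (iv F187468)) (tt N24524 (iv F186754)) (tt N24501 (iv F186617)) (tt N24662 (iv F187463)) (tt N22479 F183267) (tt N22477 F183268) (tt N24661 (iv F187458)) (tt N24782 D40709) (tt N22476 (iv D39591)))
theorem Q23666 : ∀ i, i < 23666 → P i := stepQ 23665 Q23665 (allL N23665 (tt N23061 F183269) (tt N24664 (iv F187475)) (tt N24774 (iv F187937)) (tt N24502 (iv F186621)) (tt N24714 (iv F187688)) (tt N24761 (iv F187880)) (tt N24782 (iv F187968)) (tt N22550 F183270) (tt N22477 (iv D39592)) (tt N24780 (iv F187962)))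
theorem Q23667 : ∀ i, i < 23667 → P i := stepQ 23666 Q23666 (allL N23666 (tt N23062 F183271) (tt N22945 F183272) (tt N24453 (iv F186337)) (tt N24504 (iv F186634)) (tt N22625 F183273) (tt N24783 D40710) (tt N22480 F183274) (tt N22933 F183275) (tt N22479 (iv D39593)) (tt N24472 (iv F186469)))
theorem Q23668 : ∀ i, i < 23668 → P i := stepQ 23667 Q23667 (allL N23667 (tt N24459 (iv F186373)) (tt N22484 F183276) (tt N22811 F183277) (tt N22483 F183278) (tt N22562 F183279) (tt N24784 D40711) (tt N22482 (iv D39594)) (tt N24270 (iv F185228)) (tt N22794 F183280) (tt N22637 F183281))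
theorem Q23669 : ∀ i, i < 23669 → P i := stepQ 23668 Q23668 (allL N23668 (tt N24768 (iv F187908)) (tt N22485 F183282) (tt N24665 (iv F187479)) (tt N24784 (iv F187974)) (tt N24505 (iv F186643)) (tt N22483 (iv D39595)) (tt N22906 F183283) (tt N24272 (iv F185243)) (tt N24785 D40712) (tt N22638 F183284))
theorem Q23670 : ∀ i, i < 23670 → P i := stepQ 23669 Q23669 (allL N23669 (tt N22833 F183285) (tt N24784 (iv F187972)) (tt N22495 F183286) (tt N22485 F183287) (tt N24786 D40713) (tt N22484 (iv D39596)) (tt N22908 F183288) (tt N24273 (iv F185249)) (tt N24787 D40714) (tt N22639 F183289))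
theorem Q23671 : ∀ i, i < 23671 → P i := stepQ 23670 Q23670 (allL N23670 (tt N23063 F183290) (tt N24785 (iv F187977)) (tt N22488 F183291) (tt N24787 (iv F187986)) (tt N24506 (iv F186649)) (tt N24788 D40715) (tt N22909 F183292) (tt N24274 (iv F185255)) (tt N22485 (iv D39597)) (tt N24789 D40716))
theorem Q23672 : ∀ i, i < 23672 → P i := stepQ 23671 Q23671 (allL N23671 (tt N22831 F183293) (tt N24356 (iv F185733)) (tt N22489 F183294) (tt N22795 F183295) (tt N24790 D40717) (tt N22486 (iv D39598)) (tt N24641 (iv F187360)) (tt N24275 (iv F185262)) (tt N24788 (iv F187992)) (tt N24291 (iv F185362)))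
theorem Q23673 : ∀ i, i < 23673 → P i := stepQ 23672 Q23672 (allL N23672 (tt N23064 F183296) (tt N24371 (iv F185822)) (tt N22492 F183297) (tt N24602 (iv F187124)) (tt N22487 (iv D39599)) (tt N24790 (iv F187999)) (tt N23672 F183298) (tt N22753 F183299) (tt N22720 F183300) (tt N24293 (iv F185375)))
theorem Q23674 : ∀ i, i < 23674 → P i := stepQ 23673 Q23673 (allL N23673 (tt N22997 F183301) (tt N24668 (iv F187499)) (tt N24788 (iv F187990)) (tt N22497 F183302) (tt N24791 D40718) (tt N22488 (iv D39600)) (tt N24792 D40719) (tt N24276 (iv F185268)) (tt N22489 F183303) (tt N24793 D40720))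
theorem Q23675 : ∀ i, i < 23675 → P i := stepQ 23674 Q23674 (allL N23674 (tt N23065 F183304) (tt N24669 (iv F187505)) (tt N24789 (iv F187994)) (tt N22498 F183305) (tt N24508 (iv F186662)) (tt N24793 (iv F188009)) (tt N22915 F183306) (tt N24277 (iv F185275)) (tt N22642 F183307) (tt N22488 (iv D39601)))
theorem Q23676 : ∀ i, i < 23676 → P i := stepQ 23675 Q23675 (allL N23675 (tt N22996 F183308) (tt N24670 (iv F187512)) (tt N24790 (iv F187998)) (tt N24794 D40721) (tt N22489 (iv D39602)) (tt N22492 F183309) (tt N24795 D40722) (tt N24278 (iv F185283)) (tt N24791 (iv F188002)) (tt N24796 D40723))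
theorem Q23677 : ∀ i, i < 23677 → P i := stepQ 23676 Q23676 (allL N23676 (tt N22670 F183310) (tt N24671 (iv F187517)) (tt N24641 (iv F187358)) (tt N22500 F183311) (tt N24795 (iv F188016)) (tt N22491 F183312) (tt N22489 (iv D39603)) (tt N24666 (iv F187490)) (tt N24792 (iv F188006)) (tt N24616 (iv F187219)))
theorem Q23678 : ∀ i, i < 23678 → P i := stepQ 23677 Q23677 (allL N23677 (tt N22988 F183313) (tt N24672 (iv F187523)) (tt N24291 (iv F185358)) (tt N22501 F183314) (tt N24796 (iv F188019)) (tt N22490 F183315) (tt N24616 (iv F187217)) (tt N24279 (iv F185290)) (tt N24797 D40724) (tt N22489 (iv D39604)))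
theorem Q23679 : ∀ i, i < 23679 → P i := stepQ 23678 Q23678 (allL N23678 (tt N23066 F183316) (tt N24601 (iv F187117)) (tt N22779 (iv F183320)) (tt N22492 (iv D39605)) (tt N22494 F183317) (tt N24794 (iv F188012)) (tt N23678 F183318) (tt N22649 F183319) (tt N24510 (iv F186677)) (tt N24512 (iv F186691)))
theorem Q23680 : ∀ i, i < 23680 → P i := stepQ 23679 Q23679 (allL N23679 (tt N23067 F183321) (tt N24673 (iv F187529)) (tt N24293 (iv F185370)) (tt N24512 (iv F186687)) (tt N22493 F183322) (tt N24796 (iv F188020)) (tt N23679 F183323) (tt N24280 (iv F185297)) (tt N24540 (iv F186839)) (tt N22492 (iv D39606)))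
theorem Q23681 : ∀ i, i < 23681 → P i := stepQ 23680 Q23680 (allL N23680 (tt N22837 F183324) (tt N24386 (iv F185926)) (tt N24786 (iv F187980)) (tt N22533 F183325) (tt N22495 (iv D39607)) (tt N22565 F183326) (tt N23069 F183327) (tt N24515 (iv F186708)) (tt N24798 D40725) (tt N22726 F183328))
theorem Q23682 : ∀ i, i < 23682 → P i := stepQ 23681 Q23681 (allL N23681 (tt N22835 F183329) (tt N24384 (iv F185912)) (tt N24787 (iv F187985)) (tt N22496 F183330) (tt N24798 (iv F188026)) (tt N22796 F183331) (tt N23070 F183332) (tt N24513 (iv F186695)) (tt N22495 (iv D39608)) (tt N24799 D40726))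
theorem Q23683 : ∀ i, i < 23683 → P i := stepQ 23682 Q23682 (allL N23682 (tt N22999 F183333) (tt N24640 (iv F187352)) (tt N22498 F183334) (tt N24799 (iv F188029)) (tt N22540 F183335) (tt N22979 F183336) (tt N23072 F183337) (tt N24743 (iv F187800)) (tt N22732 F183338) (tt N22496 (iv D39609)))
theorem Q23684 : ∀ i, i < 23684 → P i := stepQ 23683 Q23683 (allL N23683 (tt N22984 F183339) (tt N24677 (iv F187546)) (tt N22634 F183340) (tt N24800 D40727) (tt N22497 (iv D39610)) (tt N22545 F183341) (tt N24626 (iv F187284)) (tt N22640 F183342) (tt N22499 F183343) (tt N24801 D40728))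
theorem Q23685 : ∀ i, i < 23685 → P i := stepQ 23684 Q23684 (allL N23684 (tt N22671 F183344) (tt N24678 (iv F187550)) (tt N22654 F183345) (tt N24792 (iv F188004)) (tt N24626 (iv F187283)) (tt N23077 F183346) (tt N22497 (iv D39611)) (tt N24667 (iv F187497)) (tt N22500 F183347) (tt N24802 D40729))
theorem Q23686 : ∀ i, i < 23686 → P i := stepQ 23685 Q23685 (allL N23685 (tt N22998 F183348) (tt N24679 (iv F187553)) (tt N22979 F183349) (tt N24793 (iv F188008)) (tt N24801 (iv F188040)) (tt N22498 F183350) (tt N24802 (iv F188046)) (tt N24744 (iv F187807)) (tt N24803 D40730) (tt N22497 (iv D39612)))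
theorem Q23687 : ∀ i, i < 23687 → P i := stepQ 23686 Q23686 (allL N23686 (tt N22983 F183351) (tt N24597 (iv F187094)) (tt N22708 F183352) (tt N22499 (iv D39613)) (tt N24794 (iv F188011)) (tt N22502 F183353) (tt N24625 (iv F187278)) (tt N22639 F183354) (tt N24800 (iv F188037)) (tt N24273 (iv F185250)))
theorem Q23688 : ∀ i, i < 23688 → P i := stepQ 23687 Q23687 (allL N23687 (tt N22989 F183355) (tt N24680 (iv F187555)) (tt N22978 F183356) (tt N24797 (iv F188022)) (tt N24274 (iv F185253)) (tt N22749 F183357) (tt N24617 (iv F187223)) (tt N24506 (iv F186652)) (tt N22501 (iv D39614)) (tt N24803 (iv F188050)))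
theorem Q23689 : ∀ i, i < 23689 → P i := stepQ 23688 Q23688 (allL N23688 (tt N23069 F183358) (tt N22952 F183359) (tt N24530 (iv F186783)) (tt N22726 F183360) (tt N22503 (iv D39615)) (tt N22566 F183361) (tt N22837 F183362) (tt N24745 (iv F187812)) (tt N24804 D40731) (tt N22533 F183363))
theorem Q23690 : ∀ i, i < 23690 → P i := stepQ 23689 Q23689 (allL N23689 (tt N23070 F183364) (tt N22949 F183365) (tt N24531 (iv F186789)) (tt N22506 F183366) (tt N24804 (iv F188054)) (tt N24805 D40732) (tt N22835 F183367) (tt N24746 (iv F187817)) (tt N22503 (iv D39616)) (tt N24806 D40733))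
theorem Q23691 : ∀ i, i < 23691 → P i := stepQ 23690 Q23690 (allL N23690 (tt N22890 F183368) (tt N22643 F183369) (tt N24532 (iv F186793)) (tt N22507 F183370) (tt N22928 F183371) (tt N22504 (iv D39617)) (tt N22632 F183372) (tt N24747 (iv F187823)) (tt N24805 (iv F188060)) (tt N24807 D40734))
theorem Q23692 : ∀ i, i < 23692 → P i := stepQ 23691 Q23691 (allL N23691 (tt N22797 F183373) (tt N22646 F183374) (tt N22857 F183375) (tt N22508 F183376) (tt N22568 F183377) (tt N24807 (iv F188072)) (tt N22505 F183378) (tt N22827 F183379) (tt N22536 F183380) (tt N22504 (iv D39618)))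
theorem Q23693 : ∀ i, i < 23693 → P i := stepQ 23692 Q23692 (allL N23692 (tt N23071 F183381) (tt N22742 F183382) (tt N22511 F183383) (tt N24805 (iv F188058)) (tt N24808 D40735) (tt N22506 (iv D39619)) (tt N22672 F183384) (tt N24748 (iv F187828)) (tt N22507 F183385) (tt N24809 D40736))
theorem Q23694 : ∀ i, i < 23694 → P i := stepQ 23693 Q23693 (allL N23693 (tt N23072 F183386) (tt N23101 F183387) (tt N22512 F183388) (tt N24806 (iv F188064)) (tt N22732 F183389) (tt N24809 (iv F188084)) (tt N22999 F183390) (tt N24749 (iv F187834)) (tt N22540 F183391) (tt N22506 (iv D39620)))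
theorem Q23695 : ∀ i, i < 23695 → P i := stepQ 23694 Q23694 (allL N23694 (tt N23073 F183392) (tt N22745 F183393) (tt N22513 F183394) (tt N24810 D40737) (tt N22507 (iv D39621)) (tt N22509 F183395) (tt N22674 F183396) (tt N24750 (iv F187840)) (tt N24808 (iv F188080)) (tt N24811 D40738))
theorem Q23696 : ∀ i, i < 23696 → P i := stepQ 23695 Q23695 (allL N23695 (tt N23074 F183397) (tt N22748 F183398) (tt N22515 F183399) (tt N24807 (iv F188070)) (tt N24811 (iv F188094)) (tt N22508 F183400) (tt N22675 F183401) (tt N24752 (iv F187851)) (tt N24812 D40739) (tt N22507 (iv D39622)))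
theorem Q23697 : ∀ i, i < 23697 → P i := stepQ 23696 Q23696 (allL N23696 (tt N22974 F183402) (tt N22764 F183403) (tt N24468 (iv F186434)) (tt N22509 (iv D39623)) (tt N22569 F183404) (tt N24810 (iv F188089)) (tt N22600 F183405) (tt N24541 (iv F186848)) (tt N22739 F183406) (tt N24460 (iv F186388)))
theorem Q23698 : ∀ i, i < 23698 → P i := stepQ 23697 Q23697 (allL N23697 (tt N23075 F183407) (tt N22767 F183408) (tt N22520 F183409) (tt N24460 (iv F186384)) (tt N22510 F183410) (tt N24811 (iv F188095)) (tt N22601 F183411) (tt N24540 (iv F186838)) (tt N24280 (iv F185298)) (tt N22509 (iv D39624)))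
theorem Q23699 : ∀ i, i < 23699 → P i := stepQ 23698 Q23698 (allL N23698 (tt N23076 F183412) (tt N24688 (iv F187588)) (tt N24808 (iv F188077)) (tt N24813 D40740) (tt N22511 (iv D39625)) (tt N22741 F183413) (tt N24814 D40741) (tt N24753 (iv F187854)) (tt N22513 F183414) (tt N24815 D40742))
theorem Q23700 : ∀ i, i < 23700 → P i := stepQ 23699 Q23699 (allL N23699 (tt N23077 F183415) (tt N24689 (iv F187591)) (tt N22672 F183416) (tt N24543 (iv F186853)) (tt N24814 (iv F188107)) (tt N22671 F183417) (tt N22511 (iv D39626)) (tt N24816 D40743) (tt N22514 F183418) (tt N24817 D40744))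
theorem Q23701 : ∀ i, i < 23701 → P i := stepQ 23700 Q23700 (allL N23700 (tt N23078 F183419) (tt N24690 (iv F187595)) (tt N24809 (iv F188083)) (tt N24544 (iv F186857)) (tt N24815 (iv F188110)) (tt N22512 F183420) (tt N24817 (iv F188119)) (tt N24755 (iv F187860)) (tt N24818 D40745) (tt N22511 (iv D39627)))
theorem Q23702 : ∀ i, i < 23702 → P i := stepQ 23701 Q23701 (allL N23701 (tt N23079 F183421) (tt N24691 (iv F187597)) (tt N24819 D40746) (tt N22513 (iv D39628)) (tt N24545 (iv F186860)) (tt N22519 F183422) (tt N24820 D40747) (tt N24756 (iv F187864)) (tt N24813 (iv F188104)) (tt N24605 (iv F187143)))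
theorem Q23703 : ∀ i, i < 23703 → P i := stepQ 23702 Q23702 (allL N23702 (tt N23080 F183423) (tt N24692 (iv F187599)) (tt N22674 F183424) (tt N24820 (iv F188127)) (tt N22514 F183425) (tt N22603 F183426) (tt N22513 (iv D39629)) (tt N24821 D40748) (tt N24814 (iv F188108)) (tt N24822 D40749))
theorem Q23704 : ∀ i, i < 23704 → P i := stepQ 23703 Q23703 (allL N23703 (tt N23081 F183427) (tt N24366 (iv F185794)) (tt N24811 (iv F188093)) (tt N24605 (iv F187142)) (tt N22515 F183428) (tt N22520 F183429) (tt N24822 (iv F188138)) (tt N24758 (iv F187871)) (tt N24823 D40750) (tt N22513 (iv D39630)))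
theorem Q23705 : ∀ i, i < 23705 → P i := stepQ 23704 Q23704 (allL N23704 (tt N23082 F183430) (tt N24693 (iv F187604)) (tt N22664 F183431) (tt N24548 (iv F186870)) (tt N24821 (iv F188131)) (tt N22516 F183432) (tt N24759 (iv F187875)) (tt N22514 (iv D39631)) (tt N24816 (iv F188115)) (tt N24824 D40751))
theorem Q23706 : ∀ i, i < 23706 → P i := stepQ 23705 Q23705 (allL N23705 (tt N23083 F183433) (tt N24627 (iv F187287)) (tt N22675 F183434) (tt N24549 (iv F186873)) (tt N24822 (iv F188136)) (tt N22517 F183435) (tt N22515 F183436) (tt N24824 (iv F188145)) (tt N24825 D40752) (tt N22514 (iv D39632)))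
theorem Q23707 : ∀ i, i < 23707 → P i := stepQ 23706 Q23706 (allL N23706 (tt N23084 F183437) (tt N24694 (iv F187609)) (tt N24812 (iv F188099)) (tt N24550 (iv F186877)) (tt N24823 (iv F188140)) (tt N22550 F183438) (tt N24825 (iv F188148)) (tt N24761 (iv F187881)) (tt N22515 (iv D39633)) (tt N24818 (iv F188122)))
theorem Q23708 : ∀ i, i < 23708 → P i := stepQ 23707 Q23707 (allL N23707 (tt N23085 F183439) (tt N22848 F183440) (tt N22665 F183441) (tt N24551 (iv F186882)) (tt N22607 F183442) (tt N24824 (iv F188144)) (tt N22518 F183443) (tt N22517 F183444) (tt N22844 F183445) (tt N22516 (iv D39634)))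
theorem Q23709 : ∀ i, i < 23709 → P i := stepQ 23708 Q23708 (allL N23708 (tt N23086 F183446) (tt N24741 (iv F187785)) (tt N22519 (iv D39635)) (tt N24468 (iv F186435)) (tt N22521 F183447) (tt N24819 (iv F188124)) (tt N22591 F183448) (tt N24554 (iv F186907)) (tt N22751 F183449) (tt N22577 F183450))
theorem Q23710 : ∀ i, i < 23710 → P i := stepQ 23709 Q23709 (allL N23709 (tt N24583 (iv F187039)) (tt N24559 (iv F186931)) (tt N22524 F183451) (tt N24699 (iv F187630)) (tt N24826 D40753) (tt N22522 (iv D39636)) (tt N22944 F183452) (tt N24762 (iv F187883)) (tt N24827 D40754) (tt N22943 F183453))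
theorem Q23711 : ∀ i, i < 23711 → P i := stepQ 23710 Q23710 (allL N23710 (tt N24586 (iv F187054)) (tt N24560 (iv F186937)) (tt N22525 F183454) (tt N24700 (iv F187636)) (tt N22571 F183455) (tt N24828 D40755) (tt N22523 F183456) (tt N24467 (iv F186430)) (tt N22522 (iv D39637)) (tt N24466 F186423))
theorem Q23712 : ∀ i, i < 23712 → P i := stepQ 23711 Q23711 (allL N23711 (tt N24419 (iv F186119)) (tt N22533 F183457) (tt N24826 (iv F188149)) (tt N24386 (iv F185928)) (tt N22524 (iv D39638)) (tt N22573 F183458) (tt N22953 F183459) (tt N24763 (iv F187888)) (tt N24829 D40756) (tt N22952 F183460))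
theorem Q23713 : ∀ i, i < 23713 → P i := stepQ 23712 Q23712 (allL N23712 (tt N24596 (iv F187089)) (tt N22534 F183461) (tt N24827 (iv F188153)) (tt N22528 F183462) (tt N24829 (iv F188157)) (tt N24830 D40757) (tt N22955 F183463) (tt N24764 (iv F187892)) (tt N22524 (iv D39639)) (tt N24831 D40758))
theorem Q23714 : ∀ i, i < 23714 → P i := stepQ 23713 Q23713 (allL N23713 (tt N24597 (iv F187093)) (tt N22535 F183464) (tt N24828 (iv F188155)) (tt N22529 F183465) (tt N24832 D40759) (tt N22525 (iv D39640)) (tt N24833 D40760) (tt N24765 (iv F187898)) (tt N24830 (iv F188161)) (tt N24834 D40761))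
theorem Q23715 : ∀ i, i < 23715 → P i := stepQ 23714 Q23714 (allL N23714 (tt N24270 (iv F185222)) (tt N22536 F183466) (tt N24466 (iv F186418)) (tt N22530 F183467) (tt N22575 F183468) (tt N24834 (iv F188175)) (tt N22527 F183469) (tt N24459 (iv F186378)) (tt N22646 F183470) (tt N22525 (iv D39641)))
theorem Q23716 : ∀ i, i < 23716 → P i := stepQ 23715 Q23715 (allL N23715 (tt N24552 (iv F186887)) (tt N22537 F183471) (tt N24551 (iv F186881)) (tt N22531 F183472) (tt N23715 F183473) (tt N24833 (iv F188172)) (tt N22526 (iv D39642)) (tt N24539 (iv F186832)) (tt N22920 F183474) (tt N24538 F186825))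
theorem Q23717 : ∀ i, i < 23717 → P i := stepQ 23716 Q23716 (allL N23716 (tt N24677 (iv F187545)) (tt N22539 F183475) (tt N24704 (iv F187653)) (tt N24830 (iv F188160)) (tt N24619 (iv F187235)) (tt N22528 (iv D39643)) (tt N24835 D40762) (tt N24766 (iv F187902)) (tt N22529 F183476) (tt N24836 D40763))
theorem Q23718 : ∀ i, i < 23718 → P i := stepQ 23717 Q23717 (allL N23717 (tt N24713 (iv F187680)) (tt N22540 F183477) (tt N24705 (iv F187656)) (tt N24831 (iv F188163)) (tt N24640 (iv F187353)) (tt N24836 (iv F188180)) (tt N23102 F183478) (tt N24767 (iv F187906)) (tt N23101 F183479) (tt N22528 (iv D39644)))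
theorem Q23719 : ∀ i, i < 23719 → P i := stepQ 23718 Q23718 (allL N23718 (tt N24624 (iv F187268)) (tt N22542 F183480) (tt N24622 (iv F187254)) (tt N24833 (iv F188171)) (tt N24621 (iv F187249)) (tt N22531 F183481) (tt N22529 (iv D39645)) (tt N24837 D40764) (tt N24835 (iv F188178)) (tt N24618 (iv F187231)))
theorem Q23720 : ∀ i, i < 23720 → P i := stepQ 23719 Q23719 (allL N23719 (tt N24272 (iv F185238)) (tt N22543 F183482) (tt N24621 (iv F187247)) (tt N24834 (iv F188174)) (tt N24622 (iv F187256)) (tt N22530 F183483) (tt N24618 (iv F187229)) (tt N24768 (iv F187913)) (tt N24838 D40765) (tt N22529 (iv D39646)))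
theorem Q23721 : ∀ i, i < 23721 → P i := stepQ 23720 Q23720 (allL N23720 (tt N22844 F183484) (tt N22544 F183485) (tt N22633 F183486) (tt N24539 (iv F186829)) (tt N22551 F183487) (tt N24837 (iv F188184)) (tt N22532 F183488) (tt N22531 (iv D39647)) (tt N23085 F183489) (tt N22630 F183490))
theorem Q23722 : ∀ i, i < 23722 → P i := stepQ 23721 Q23721 (allL N23721 (tt N23089 F183491) (tt N24829 (iv F188156)) (tt N24568 (iv F186974)) (tt N24798 (iv F188025)) (tt N22534 F183492) (tt N24839 D40766) (tt N24331 (iv F185611)) (tt N24769 (iv F187916)) (tt N22533 (iv D39648)) (tt N24840 D40767))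
theorem Q23723 : ∀ i, i < 23723 → P i := stepQ 23722 Q23722 (allL N23722 (tt N23090 F183493) (tt N24830 (iv F188159)) (tt N24569 (iv F186977)) (tt N22539 F183494) (tt N24841 D40768) (tt N22534 (iv D39649)) (tt N24842 D40769) (tt N24770 (iv F187919)) (tt N22535 F183495) (tt N24843 D40770))
theorem Q23724 : ∀ i, i < 23724 → P i := stepQ 23723 Q23723 (allL N23723 (tt N23091 F183496) (tt N24831 (iv F188162)) (tt N24570 (iv F186981)) (tt N22540 F183497) (tt N24840 (iv F188192)) (tt N24843 (iv F188202)) (tt N24333 (iv F185621)) (tt N24771 (iv F187924)) (tt N24806 (iv F188066)) (tt N22534 (iv D39650)))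
theorem Q23725 : ∀ i, i < 23725 → P i := stepQ 23724 Q23724 (allL N23724 (tt N23092 F183498) (tt N24832 (iv F188166)) (tt N24571 (iv F186984)) (tt N22716 F183499) (tt N22535 (iv D39651)) (tt N22578 F183500) (tt N24844 D40771) (tt N22744 F183501) (tt N24841 (iv F188196)) (tt N24845 D40772))
theorem Q23726 : ∀ i, i < 23726 → P i := stepQ 23725 Q23725 (allL N23725 (tt N23093 F183502) (tt N24833 (iv F188170)) (tt N24572 (iv F186989)) (tt N22542 F183503) (tt N24844 (iv F188205)) (tt N22537 F183504) (tt N22535 (iv D39652)) (tt N24846 D40773) (tt N24842 (iv F188199)) (tt N24697 (iv F187623)))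
theorem Q23727 : ∀ i, i < 23727 → P i := stepQ 23726 Q23726 (allL N23726 (tt N23094 F183505) (tt N24834 (iv F188173)) (tt N24573 (iv F186993)) (tt N22543 F183506) (tt N24845 (iv F188209)) (tt N22536 F183507) (tt N24697 (iv F187622)) (tt N24772 (iv F187930)) (tt N24847 D40774) (tt N22535 (iv D39653)))
theorem Q23728 : ∀ i, i < 23728 → P i := stepQ 23727 Q23727 (allL N23727 (tt N23095 F183508) (tt N24539 (iv F186827)) (tt N24574 (iv F186999)) (tt N22544 F183509) (tt N23727 F183510) (tt N24846 (iv F188214)) (tt N22538 F183511) (tt N22537 (iv D39654)) (tt N24336 (iv F185641)) (tt N24528 (iv F186775)))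
theorem Q23729 : ∀ i, i < 23729 → P i := stepQ 23728 Q23728 (allL N23728 (tt N22985 F183512) (tt N24619 (iv F187233)) (tt N22545 F183513) (tt N22714 (iv F183517)) (tt N22539 (iv D39655)) (tt N22634 F183514) (tt N24712 (iv F187679)) (tt N22641 F183515) (tt N22541 F183516) (tt N24848 D40775))
theorem Q23730 : ∀ i, i < 23730 → P i := stepQ 23729 Q23729 (allL N23729 (tt N23096 F183518) (tt N24835 (iv F188176)) (tt N22546 F183519) (tt N24842 (iv F188198)) (tt N24712 (iv F187678)) (tt N24338 (iv F185651)) (tt N22539 (iv D39656)) (tt N24849 D40776) (tt N22542 F183520) (tt N24850 D40777))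
theorem Q23731 : ∀ i, i < 23731 → P i := stepQ 23730 Q23730 (allL N23730 (tt N23097 F183521) (tt N24836 (iv F188179)) (tt N22547 F183522) (tt N24843 (iv F188201)) (tt N24848 (iv F188220)) (tt N22540 F183523) (tt N24850 (iv F188228)) (tt N24773 (iv F187935)) (tt N24851 D40778) (tt N22539 (iv D39657)))
theorem Q23732 : ∀ i, i < 23732 → P i := stepQ 23731 Q23731 (allL N23731 (tt N23098 F183524) (tt N24837 (iv F188182)) (tt N22549 F183525) (tt N24846 (iv F188213)) (tt N24657 (iv F187440)) (tt N22544 F183526) (tt N24470 (iv F186452)) (tt N22542 (iv D39658)) (tt N24849 (iv F188225)) (tt N24645 (iv F187387)))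
theorem Q23733 : ∀ i, i < 23733 → P i := stepQ 23732 Q23732 (allL N23732 (tt N23099 F183527) (tt N24838 (iv F188187)) (tt N22550 F183528) (tt N24847 (iv F188216)) (tt N24710 (iv F187670)) (tt N24812 (iv F188100)) (tt N24698 (iv F187627)) (tt N24774 (iv F187939)) (tt N22543 (iv D39659)) (tt N24851 (iv F188231)))
theorem Q23734 : ∀ i, i < 23734 → P i := stepQ 23733 Q23733 (allL N23733 (tt N23087 F183529) (tt N24596 (iv F187090)) (tt N24521 (iv F186732)) (tt N22545 (iv D39660)) (tt N24587 (iv F187063)) (tt N24800 (iv F188035)) (tt N24423 (iv F186147)) (tt N24775 (iv F187943)) (tt N22548 F183530) (tt N24852 D40779))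
theorem Q23735 : ∀ i, i < 23735 → P i := stepQ 23734 Q23734 (allL N23734 (tt N23088 F183531) (tt N24713 (iv F187681)) (tt N24848 (iv F188218)) (tt N24852 (iv F188233)) (tt N22547 F183532) (tt N24801 (iv F188041)) (tt N24716 (iv F187698)) (tt N24777 (iv F187954)) (tt N24715 (iv F187694)) (tt N22545 (iv D39661)))
theorem Q23736 : ∀ i, i < 23736 → P i := stepQ 23735 Q23735 (allL N23735 (tt N23100 F183533) (tt N24714 (iv F187686)) (tt N24849 (iv F188224)) (tt N24590 (iv F187071)) (tt N24664 (iv F187476)) (tt N24347 (iv F185693)) (tt N24778 (iv F187956)) (tt N22546 (iv D39662)) (tt N22549 F183534) (tt N24853 D40780))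
theorem Q23737 : ∀ i, i < 23737 → P i := stepQ 23736 Q23736 (allL N23736 (tt N23101 F183535) (tt N24715 (iv F187691)) (tt N24850 (iv F188227)) (tt N24591 (iv F187074)) (tt N24716 (iv F187697)) (tt N24348 (iv F185696)) (tt N22547 F183536) (tt N24853 (iv F188235)) (tt N24713 (iv F187684)) (tt N22546 (iv D39663)))
theorem Q23738 : ∀ i, i < 23738 → P i := stepQ 23737 Q23737 (allL N23737 (tt N23102 F183537) (tt N24716 (iv F187696)) (tt N24851 (iv F188230)) (tt N24592 (iv F187077)) (tt N24715 (iv F187692)) (tt N24818 (iv F188121)) (tt N24713 (iv F187683)) (tt N24780 (iv F187961)) (tt N22547 (iv D39664)) (tt N22550 F183538))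
theorem Q23739 : ∀ i, i < 23739 → P i := stepQ 23738 Q23738 (allL N23738 (tt N23103 F183539) (tt N22968 F183540) (tt N24602 (iv F187123)) (tt N22779 F183541) (tt N22552 (iv D39665)) (tt N24745 (iv F187811)) (tt N23738 F183542) (tt N22566 F183543) (tt N24606 (iv F187151)) (tt N22560 F183544))
theorem Q23740 : ∀ i, i < 23740 → P i := stepQ 23739 Q23739 (allL N23739 (tt N24405 (iv F186048)) (tt N24374 (iv F185842)) (tt N22556 F183545) (tt N23739 F183546) (tt N24854 D40781) (tt N22554 (iv D39666)) (tt N23739 F183547) (tt N22570 F183548) (tt N24312 (iv F185494)) (tt N22965 F183549))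
theorem Q23741 : ∀ i, i < 23741 → P i := stepQ 23740 Q23740 (allL N23740 (tt N22647 F183550) (tt N22620 F183551) (tt N22557 F183552) (tt N23740 F183553) (tt N24467 (iv F186428)) (tt N22678 (iv F183557)) (tt N22555 F183554) (tt N22571 F183555) (tt N22554 (iv D39667)) (tt N22609 F183556))
theorem Q23742 : ∀ i, i < 23742 → P i := stepQ 23741 Q23741 (allL N23741 (tt N24402 (iv F186028)) (tt N22560 F183558) (tt N24854 (iv F188236)) (tt N23006 F183559) (tt N22556 (iv D39668)) (tt N24763 (iv F187887)) (tt N23741 F183560) (tt N22573 F183561) (tt N24309 (iv F185476)) (tt N22968 F183562))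
theorem Q23743 : ∀ i, i < 23743 → P i := stepQ 23742 Q23742 (allL N23742 (tt N22562 F183563) (tt N22561 F183564) (tt N22609 F183565) (tt N22559 F183566) (tt N24459 (iv F186377)) (tt N22679 F183567) (tt N22558 F183568) (tt N22575 F183569) (tt N22610 F183570) (tt N22557 (iv D39669)))
theorem Q23744 : ∀ i, i < 23744 → P i := stepQ 23743 Q23743 (allL N23743 (tt N22679 F183571) (tt N22564 F183572) (tt N22840 F183573) (tt N22563 F183574) (tt N24855 D40782) (tt N22562 (iv D39670)) (tt N22580 F183575) (tt N24271 (iv F185235)) (tt N22775 F183576) (tt N22648 F183577))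
theorem Q23745 : ∀ i, i < 23745 → P i := stepQ 23744 Q23744 (allL N23744 (tt N22834 F183578) (tt N24855 (iv F188241)) (tt N22565 F183579) (tt N24280 (iv F185294)) (tt N22564 (iv D39671)) (tt N24786 (iv F187981)) (tt N22581 F183580) (tt N24512 (iv F186689)) (tt N24460 (iv F186387)) (tt N22649 F183581))
theorem Q23746 : ∀ i, i < 23746 → P i := stepQ 23745 Q23745 (allL N23745 (tt N22934 F183582) (tt N22966 F183583) (tt N22752 F183584) (tt N22785 F183585) (tt N22567 F183586) (tt N24856 D40783) (tt N22585 F183587) (tt N24606 (iv F187150)) (tt N22566 (iv D39672)) (tt N22751 F183588))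
theorem Q23747 : ∀ i, i < 23747 → P i := stepQ 23746 Q23746 (allL N23746 (tt N24424 (iv F186148)) (tt N24368 (iv F185805)) (tt N22573 F183589) (tt N24857 D40784) (tt N22570 (iv D39673)) (tt N24826 (iv F188150)) (tt N22586 F183590) (tt N24854 (iv F188238)) (tt N24740 (iv F187783)) (tt N22964 F183591))
theorem Q23748 : ∀ i, i < 23748 → P i := stepQ 23747 Q23747 (allL N23747 (tt N24600 (iv F187108)) (tt N24603 (iv F187130)) (tt N22574 F183592) (tt N23747 F183593) (tt N24858 D40785) (tt N22571 (iv D39674)) (tt N23747 F183594) (tt N22678 F183595) (tt N24445 (iv F186291)) (tt N24859 D40786))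
theorem Q23749 : ∀ i, i < 23749 → P i := stepQ 23748 Q23748 (allL N23748 (tt N22841 F183596) (tt N22619 F183597) (tt N22575 F183598) (tt N23748 F183599) (tt N24466 (iv F186420)) (tt N24859 (iv F188264)) (tt N22572 F183600) (tt N22609 F183601) (tt N22611 F183602) (tt N22571 (iv D39675)))
theorem Q23750 : ∀ i, i < 23750 → P i := stepQ 23749 Q23749 (allL N23749 (tt N24601 (iv F187116)) (tt N22578 F183603) (tt N24858 (iv F188257)) (tt N22667 F183604) (tt N22574 (iv D39676)) (tt N24832 (iv F188168)) (tt N23749 F183605) (tt N22676 F183606) (tt N24444 (iv F186285)) (tt N24860 D40787))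
theorem Q23751 : ∀ i, i < 23751 → P i := stepQ 23750 Q23750 (allL N23750 (tt N24271 (iv F185230)) (tt N22579 F183607) (tt N24859 (iv F188262)) (tt N22576 F183608) (tt N24860 (iv F188270)) (tt N22575 F183609) (tt N23750 F183610) (tt N22679 F183611) (tt N24375 (iv F185855)) (tt N22574 (iv D39677)))
theorem Q23752 : ∀ i, i < 23752 → P i := stepQ 23751 Q23751 (allL N23751 (tt N23104 F183612) (tt N24734 (iv F187765)) (tt N24605 (iv F187141)) (tt N24463 F186405) (tt N24756 (iv F187862)) (tt N22577 (iv D39678)) (tt N24861 D40788) (tt N24545 (iv F186862)) (tt N24839 (iv F188190)) (tt N24819 (iv F188125)))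
theorem Q23753 : ∀ i, i < 23753 → P i := stepQ 23752 Q23752 (allL N23752 (tt N23105 F183613) (tt N24860 (iv F188268)) (tt N24606 (iv F187146)) (tt N22720 F183614) (tt N22579 F183615) (tt N24845 (iv F188210)) (tt N23752 F183616) (tt N22752 F183617) (tt N24602 (iv F187127)) (tt N22578 (iv D39679)))
theorem Q23754 : ∀ i, i < 23754 → P i := stepQ 23753 Q23753 (allL N23753 (tt N22681 F183618) (tt N22581 F183619) (tt N22839 F183620) (tt N22659 F183621) (tt N22580 (iv D39680)) (tt N22838 F183622) (tt N24855 (iv F188244)) (tt N23753 F183623) (tt N22765 F183624) (tt N22652 F183625))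
theorem Q23755 : ∀ i, i < 23755 → P i := stepQ 23754 Q23754 (allL N23754 (tt N22838 F183626) (tt N22765 F183627) (tt N22583 F183628) (tt N22601 F183629) (tt N22582 F183630) (tt N22681 F183631) (tt N24460 (iv F186385)) (tt N23754 F183632) (tt N22581 (iv D39681)) (tt N22600 F183633))
theorem Q23756 : ∀ i, i < 23756 → P i := stepQ 23755 Q23755 (allL N23755 (tt N22839 F183634) (tt N22616 F183635) (tt N22681 F183636) (tt N22590 F183637) (tt N22608 F183638) (tt N22583 (iv D39682)) (tt N24862 D40789) (tt N23755 F183639) (tt N22961 F183640) (tt N22680 (iv F183641)))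
theorem Q23757 : ∀ i, i < 23757 → P i := stepQ 23756 Q23756 (allL N23756 (tt N22842 F183642) (tt N22621 F183643) (tt N22600 F183644) (tt N22591 F183645) (tt N22584 F183646) (tt N22680 F183647) (tt N24468 (iv F186437)) (tt N23756 F183648) (tt N22762 F183649) (tt N22583 (iv D39683)))
theorem Q23758 : ∀ i, i < 23758 → P i := stepQ 23757 Q23757 (allL N23757 (tt N22961 F183650) (tt N22614 F183651) (tt N22765 F183652) (tt N22793 F183653) (tt N22613 F183654) (tt N22585 (iv D39684)) (tt N24720 (iv F187715)) (tt N23757 F183655) (tt N22839 F183656) (tt N22763 F183657))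
theorem Q23759 : ∀ i, i < 23759 → P i := stepQ 23758 Q23758 (allL N23758 (tt N24426 (iv F186160)) (tt N24361 (iv F185763)) (tt N22956 F183658) (tt N22586 (iv D39685)) (tt N23758 F183659) (tt N22959 F183660) (tt N24857 (iv F188255)) (tt N23758 F183661) (tt N24863 D40790) (tt N22963 F183662))
theorem Q23760 : ∀ i, i < 23760 → P i := stepQ 23759 Q23759 (allL N23759 (tt N23128 F183663) (tt N24364 (iv F185781)) (tt N22588 F183664) (tt N24863 (iv F188284)) (tt N22587 F183665) (tt N24864 D40791) (tt N24740 (iv F187782)) (tt N23759 F183666) (tt N22586 (iv D39686)) (tt N24865 D40792))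
theorem Q23761 : ∀ i, i < 23761 → P i := stepQ 23760 Q23760 (allL N23760 (tt N23125 F183667) (tt N22599 F183668) (tt N22589 F183669) (tt N23760 F183670) (tt N24865 (iv F188298)) (tt N23760 F183671) (tt N24696 (iv F187617)) (tt N23760 F183672) (tt N22618 F183673) (tt N22587 (iv D39687)))
theorem Q23762 : ∀ i, i < 23762 → P i := stepQ 23761 Q23761 (allL N23761 (tt N23120 F183674) (tt N22590 F183675) (tt N24864 (iv F188290)) (tt N22616 F183676) (tt N23761 F183677) (tt N22588 (iv D39688)) (tt N24866 D40793) (tt N23761 F183678) (tt N22963 F183679) (tt N24867 D40794))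
theorem Q23763 : ∀ i, i < 23763 → P i := stepQ 23762 Q23762 (allL N23762 (tt N23129 F183680) (tt N22591 F183681) (tt N24865 (iv F188297)) (tt N22621 F183682) (tt N22589 F183683) (tt N24867 (iv F188310)) (tt N24741 (iv F187788)) (tt N23762 F183684) (tt N22769 F183685) (tt N22588 (iv D39689)))
theorem Q23764 : ∀ i, i < 23764 → P i := stepQ 23763 Q23763 (allL N23763 (tt N23106 F183686) (tt N24866 (iv F188302)) (tt N24607 (iv F187154)) (tt N24862 (iv F188278)) (tt N23763 F183687) (tt N24861 (iv F188274)) (tt N22590 (iv D39690)) (tt N24868 D40795) (tt N24380 (iv F185889)) (tt N24869 D40796))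
theorem Q23765 : ∀ i, i < 23765 → P i := stepQ 23764 Q23764 (allL N23764 (tt N23107 F183688) (tt N24867 (iv F188307)) (tt N22602 F183689) (tt N22680 F183690) (tt N23764 F183691) (tt N22591 F183692) (tt N24869 (iv F188319)) (tt N23764 F183693) (tt N24870 D40797) (tt N22590 (iv D39691)))
theorem Q23766 : ∀ i, i < 23766 → P i := stepQ 23765 Q23765 (allL N23765 (tt N22598 F183694) (tt N22653 F183695) (tt N24871 D40798) (tt N22592 (iv D39692)) (tt N22593 F183696) (tt N24358 (iv F185744)) (tt N24632 (iv F187320)) (tt N23765 F183697) (tt N22652 F183698) (tt N22755 F183699))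
theorem Q23767 : ∀ i, i < 23767 → P i := stepQ 23766 Q23766 (allL N23766 (tt N22599 F183700) (tt N22791 F183701) (tt N22593 (iv D39693)) (tt N23766 F183702) (tt N24871 (iv F188329)) (tt N23766 F183703) (tt N24633 (iv F187328)) (tt N23766 F183704) (tt N22651 F183705) (tt N22770 F183706))
theorem Q23768 : ∀ i, i < 23768 → P i := stepQ 23767 Q23767 (allL N23767 (tt N23111 F183707) (tt N22756 F183708) (tt N24870 (iv F188321)) (tt N22594 (iv D39694)) (tt N23767 F183709) (tt N22755 F183710) (tt N24687 (iv F187586)) (tt N23767 F183711) (tt N22602 F183712) (tt N24358 (iv F185747)))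
theorem Q23769 : ∀ i, i < 23769 → P i := stepQ 23768 Q23768 (allL N23768 (tt N24358 (iv F185741)) (tt N22602 F183713) (tt N24872 D40799) (tt N22595 (iv D39695)) (tt N23768 F183714) (tt N22598 F183715) (tt N24873 D40800) (tt N23768 F183716) (tt N22756 F183717) (tt N23111 F183718))
theorem Q23770 : ∀ i, i < 23770 → P i := stepQ 23769 Q23769 (allL N23769 (tt N24359 (iv F185748)) (tt N22603 F183719) (tt N22725 F183720) (tt N24873 (iv F188340)) (tt N22596 F183721) (tt N24692 (iv F187602)) (tt N22595 (iv D39696)) (tt N24874 D40801) (tt N22757 F183722) (tt N23112 F183723))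
theorem Q23771 : ∀ i, i < 23771 → P i := stepQ 23770 Q23770 (allL N23770 (tt N24360 (iv F185754)) (tt N22605 F183724) (tt N22707 F183725) (tt N23770 F183726) (tt N24874 (iv F188346)) (tt N22597 F183727) (tt N23770 F183728) (tt N22596 (iv D39697)) (tt N22759 F183729) (tt N22850 F183730))
theorem Q23772 : ∀ i, i < 23772 → P i := stepQ 23771 Q23771 (allL N23771 (tt N24871 (iv F188326)) (tt N24865 (iv F188296)) (tt N22598 (iv D39698)) (tt N24870 (iv F188322)) (tt N22599 F183731) (tt N24872 (iv F188335)) (tt N24695 (iv F187612)) (tt N23771 F183732) (tt N22680 F183733) (tt N24364 (iv F185786)))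
theorem Q23773 : ∀ i, i < 23773 → P i := stepQ 23772 Q23772 (allL N23772 (tt N23113 F183734) (tt N24873 (iv F188339)) (tt N24869 (iv F188316)) (tt N22603 F183735) (tt N23772 F183736) (tt N24820 (iv F188128)) (tt N22602 (iv D39699)) (tt N24875 D40802) (tt N24687 (iv F187587)) (tt N24607 (iv F187158)))
theorem Q23774 : ∀ i, i < 23774 → P i := stepQ 23773 Q23773 (allL N23773 (tt N23114 F183737) (tt N24874 (iv F188344)) (tt N22667 F183738) (tt N24875 (iv F188351)) (tt N22605 F183739) (tt N24821 (iv F188132)) (tt N23773 F183740) (tt N22603 (iv D39700)) (tt N24436 (iv F186238)) (tt N24876 D40803))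
theorem Q23775 : ∀ i, i < 23775 → P i := stepQ 23774 Q23774 (allL N23774 (tt N23115 F183741) (tt N23112 F183742) (tt N22677 F183743) (tt N24607 (iv F187155)) (tt N22606 F183744) (tt N24822 (iv F188137)) (tt N22604 F183745) (tt N24876 (iv F188359)) (tt N23109 (iv F183746)) (tt N22603 (iv D39701)))
theorem Q23776 : ∀ i, i < 23776 → P i := stepQ 23775 Q23775 (allL N23775 (tt N23116 F183747) (tt N22850 F183748) (tt N22668 F183749) (tt N23775 F183750) (tt N24876 (iv F188357)) (tt N22607 F183751) (tt N23775 F183752) (tt N22606 F183753) (tt N23110 (iv F183754)) (tt N22605 (iv D39702)))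
theorem Q23777 : ∀ i, i < 23777 → P i := stepQ 23776 Q23776 (allL N23776 (tt N22840 F183755) (tt N22617 F183756) (tt N22679 F183757) (tt N23776 F183758) (tt N24862 (iv F188279)) (tt N22609 F183759) (tt N22608 (iv D39703)) (tt N24859 (iv F188266)) (tt N22962 F183760) (tt N22678 F183761))
theorem Q23778 : ∀ i, i < 23778 → P i := stepQ 23777 Q23777 (allL N23777 (tt N23117 F183762) (tt N22793 F183763) (tt N24863 (iv F188283)) (tt N22614 (iv D39704)) (tt N23777 F183764) (tt N22792 F183765) (tt N24728 (iv F187744)) (tt N23777 F183766) (tt N22956 F183767) (tt N24877 D40804))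
theorem Q23779 : ∀ i, i < 23779 → P i := stepQ 23778 Q23778 (allL N23778 (tt N23118 F183768) (tt N22763 F183769) (tt N22621 F183770) (tt N24877 (iv F188363)) (tt N22615 F183771) (tt N22769 F183772) (tt N24729 (iv F187750)) (tt N23778 F183773) (tt N24878 D40805) (tt N22614 (iv D39705)))
theorem Q23780 : ∀ i, i < 23780 → P i := stepQ 23779 Q23779 (allL N23779 (tt N23119 F183774) (tt N22770 F183775) (tt N22622 F183776) (tt N23779 F183777) (tt N24878 (iv F188370)) (tt N23779 F183778) (tt N24730 (iv F187755)) (tt N23779 F183779) (tt N22615 (iv D39706)) (tt N22791 F183780))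
theorem Q23781 : ∀ i, i < 23781 → P i := stepQ 23780 Q23780 (allL N23780 (tt N23121 F183781) (tt N24862 (iv F188276)) (tt N22966 F183782) (tt N24866 (iv F188303)) (tt N22617 F183783) (tt N24735 (iv F187770)) (tt N22616 (iv D39707)) (tt N24879 D40806) (tt N22964 F183784) (tt N24880 D40807))
theorem Q23782 : ∀ i, i < 23782 → P i := stepQ 23781 Q23781 (allL N23781 (tt N23122 F183785) (tt N22680 F183786) (tt N22769 F183787) (tt N24867 (iv F188308)) (tt N22618 F183788) (tt N22621 F183789) (tt N24880 (iv F188382)) (tt N23781 F183790) (tt N24865 (iv F188300)) (tt N22616 (iv D39708)))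
theorem Q23783 : ∀ i, i < 23783 → P i := stepQ 23782 Q23782 (allL N23782 (tt N23123 F183791) (tt N24859 (iv F188261)) (tt N22967 F183792) (tt N23782 F183793) (tt N24879 (iv F188375)) (tt N22619 F183794) (tt N23782 F183795) (tt N22617 (iv D39709)) (tt N22965 F183796) (tt N24603 (iv F187135)))
theorem Q23784 : ∀ i, i < 23784 → P i := stepQ 23783 Q23783 (allL N23783 (tt N23124 F183797) (tt N22678 F183798) (tt N22754 F183799) (tt N23783 F183800) (tt N24880 (iv F188381)) (tt N22620 F183801) (tt N22618 F183802) (tt N24603 (iv F187134)) (tt N24696 (iv F187618)) (tt N22617 (iv D39710)))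
theorem Q23785 : ∀ i, i < 23785 → P i := stepQ 23784 Q23784 (allL N23784 (tt N23130 F183803) (tt N22762 F183804) (tt N24878 (iv F188369)) (tt N22769 F183805) (tt N22622 F183806) (tt N24877 (iv F188365)) (tt N24742 (iv F187794)) (tt N23784 F183807) (tt N22621 (iv D39711)) (tt N22792 F183808))
theorem Q23786 : ∀ i, i < 23786 → P i := stepQ 23785 Q23785 (allL N23785 (tt N23007 F183809) (tt N24503 (iv F186624)) (tt N22729 F183810) (tt N22624 F183811) (tt N23785 F183812) (tt N24781 (iv F187966)) (tt N22623 (iv D39712)) (tt N24401 (iv F186026)) (tt N22938 F183813) (tt N24400 F186019))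
theorem Q23787 : ∀ i, i < 23787 → P i := stepQ 23786 Q23786 (allL N23786 (tt N23131 F183814) (tt N22965 F183815) (tt N24375 (iv F185850)) (tt N23786 F183816) (tt N24881 D40808) (tt N22625 (iv D39713)) (tt N23786 F183817) (tt N22962 F183818) (tt N24859 F188267) (tt N24374 (iv F185847)))
theorem Q23788 : ∀ i, i < 23788 → P i := stepQ 23787 Q23787 (allL N23787 (tt N24648 (iv F187400)) (tt N22628 F183819) (tt N23044 F183820) (tt N22627 F183821) (tt N23787 F183822) (tt N24882 D40809) (tt N22626 (iv D39714)) (tt N24614 (iv F187204)) (tt N24528 (iv F186774)) (tt N23036 F183823))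
theorem Q23789 : ∀ i, i < 23789 → P i := stepQ 23788 Q23788 (allL N23788 (tt N24650 (iv F187411)) (tt N22629 F183824) (tt N22638 F183825) (tt N24882 (iv F188389)) (tt N24608 (iv F187163)) (tt N22627 (iv D39715)) (tt N22829 F183826) (tt N24615 (iv F187212)) (tt N24883 D40810) (tt N24665 (iv F187484)))
theorem Q23790 : ∀ i, i < 23790 → P i := stepQ 23789 Q23789 (allL N23789 (tt N24641 (iv F187357)) (tt N24882 (iv F188387)) (tt N22670 F183827) (tt N22629 F183828) (tt N24884 D40811) (tt N22628 (iv D39716)) (tt N22831 F183829) (tt N24616 (iv F187218)) (tt N24885 D40812) (tt N24666 (iv F187491)))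
theorem Q23791 : ∀ i, i < 23791 → P i := stepQ 23790 Q23790 (allL N23790 (tt N24642 (iv F187363)) (tt N24883 (iv F188392)) (tt N22631 F183830) (tt N24885 (iv F188399)) (tt N24610 (iv F187176)) (tt N24886 D40813) (tt N22832 F183831) (tt N24617 (iv F187224)) (tt N22629 (iv D39717)) (tt N24887 D40814))
theorem Q23792 : ∀ i, i < 23792 → P i := stepQ 23791 Q23791 (allL N23791 (tt N24608 (iv F187159)) (tt N24645 (iv F187383)) (tt N22632 F183832) (tt N24536 (iv F186811)) (tt N24650 (iv F187414)) (tt N22630 (iv D39718)) (tt N24532 (iv F186796)) (tt N24618 (iv F187230)) (tt N24886 (iv F188402)) (tt N24837 (iv F188186)))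
theorem Q23793 : ∀ i, i < 23793 → P i := stepQ 23792 Q23792 (allL N23792 (tt N24643 (iv F187368)) (tt N22641 F183833) (tt N24886 (iv F188401)) (tt N22672 F183834) (tt N24766 (iv F187901)) (tt N22631 (iv D39719)) (tt N24805 (iv F188059)) (tt N24619 (iv F187236)) (tt N22632 F183835) (tt N24888 D40815))
theorem Q23794 : ∀ i, i < 23794 → P i := stepQ 23793 Q23793 (allL N23793 (tt N24644 (iv F187375)) (tt N22642 F183836) (tt N24887 (iv F188403)) (tt N22673 F183837) (tt N24613 (iv F187195)) (tt N24888 (iv F188407)) (tt N22836 F183838) (tt N24620 (iv F187243)) (tt N24669 (iv F187510)) (tt N22631 (iv D39720)))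
theorem Q23795 : ∀ i, i < 23795 → P i := stepQ 23794 Q23794 (allL N23794 (tt N24505 (iv F186639)) (tt N22644 F183839) (tt N24837 (iv F188183)) (tt N22675 F183840) (tt N24768 (iv F187910)) (tt N22633 F183841) (tt N24807 (iv F188073)) (tt N24622 (iv F187259)) (tt N24889 D40816) (tt N22632 (iv D39721)))
theorem Q23796 : ∀ i, i < 23796 → P i := stepQ 23795 Q23795 (allL N23795 (tt N22986 F183842) (tt N24620 (iv F187239)) (tt N24801 (iv F188039)) (tt N22715 F183843) (tt N22979 F183844) (tt N24848 (iv F188221)) (tt N24629 (iv F187302)) (tt N22642 F183845) (tt N24277 (iv F185276)) (tt N22634 (iv D39722)))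
theorem Q23797 : ∀ i, i < 23797 → P i := stepQ 23796 Q23796 (allL N23796 (tt N22982 F183846) (tt N24613 (iv F187193)) (tt N24744 (iv F187803)) (tt N24514 (iv F186699)) (tt N22642 F183847) (tt N24743 (iv F187799)) (tt N22896 F183848) (tt N22979 F183849) (tt N24508 (iv F186665)) (tt N22635 (iv D39723)))
theorem Q23798 : ∀ i, i < 23798 → P i := stepQ 23797 Q23797 (allL N23797 (tt N24467 (iv F186424)) (tt N22721 F183850) (tt N22637 F183851) (tt N23044 F183852) (tt N22647 F183853) (tt N24890 D40817) (tt N22636 (iv D39724)) (tt N24586 (iv F187060)) (tt N24585 (iv F187053)) (tt N22811 F183854))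
theorem Q23799 : ∀ i, i < 23799 → P i := stepQ 23798 Q23798 (allL N23798 (tt N24765 (iv F187893)) (tt N22639 F183855) (tt N24890 (iv F188411)) (tt N22638 F183856) (tt N24891 D40818) (tt N22637 (iv D39725)) (tt N22930 F183857) (tt N24597 (iv F187096)) (tt N24892 D40819) (tt N24784 (iv F187976)))
theorem Q23800 : ∀ i, i < 23800 → P i := stepQ 23799 Q23799 (allL N23799 (tt N24766 (iv F187899)) (tt N22640 F183858) (tt N24883 (iv F188393)) (tt N24892 (iv F188421)) (tt N24643 F187374) (tt N24658 (iv F187446)) (tt N22931 F183859) (tt N24677 (iv F187548)) (tt N22638 (iv D39726)) (tt N24893 D40820))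
theorem Q23801 : ∀ i, i < 23801 → P i := stepQ 23800 Q23800 (allL N23800 (tt N24262 (iv F185162)) (tt N24891 (iv F188416)) (tt N22726 F183860) (tt N24278 (iv F185280)) (tt N22639 (iv D39727)) (tt N22649 F183861) (tt N22935 F183862) (tt N24794 (iv F188013)) (tt N24894 D40821) (tt N24786 (iv F187983)))
theorem Q23802 : ∀ i, i < 23802 → P i := stepQ 23801 Q23801 (allL N23801 (tt N24263 (iv F185170)) (tt N24892 (iv F188420)) (tt N22727 F183863) (tt N22640 F183864) (tt N24894 (iv F188426)) (tt N24775 (iv F187942)) (tt N22936 F183865) (tt N24800 (iv F188036)) (tt N22639 (iv D39728)) (tt N24895 D40822))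
theorem Q23803 : ∀ i, i < 23803 → P i := stepQ 23802 Q23802 (allL N23802 (tt N24264 (iv F185177)) (tt N24893 (iv F188423)) (tt N22642 F183866) (tt N24895 (iv F188429)) (tt N24744 (iv F187804)) (tt N24777 (iv F187953)) (tt N22941 F183867) (tt N24801 (iv F188042)) (tt N24789 (iv F187996)) (tt N22640 (iv D39729)))
theorem Q23804 : ∀ i, i < 23804 → P i := stepQ 23803 Q23803 (allL N23803 (tt N24265 (iv F185185)) (tt N24805 (iv F188057)) (tt N24776 (iv F187946)) (tt N22742 F183868) (tt N24557 (iv F186924)) (tt N22949 F183869) (tt N22641 (iv D39730)) (tt N24896 D40823) (tt N22643 F183870) (tt N24897 D40824))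
theorem Q23805 : ∀ i, i < 23805 → P i := stepQ 23804 Q23804 (allL N23804 (tt N24266 (iv F185192)) (tt N24888 (iv F188405)) (tt N24777 (iv F187951)) (tt N22743 F183871) (tt N24773 (iv F187933)) (tt N22642 F183872) (tt N24897 (iv F188436)) (tt N24848 (iv F188222)) (tt N24898 D40825) (tt N22641 (iv D39731)))
theorem Q23806 : ∀ i, i < 23806 → P i := stepQ 23805 Q23805 (allL N23805 (tt N24267 (iv F185199)) (tt N24747 (iv F187819)) (tt N24663 (iv F187469)) (tt N22747 F183873) (tt N24470 (iv F186451)) (tt N22645 F183874) (tt N24657 (iv F187442)) (tt N22643 (iv D39732)) (tt N24896 (iv F188433)) (tt N24656 F187436))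
theorem Q23807 : ∀ i, i < 23807 → P i := stepQ 23806 Q23806 (allL N23806 (tt N24268 (iv F185207)) (tt N24807 (iv F188068)) (tt N24662 (iv F187462)) (tt N22748 F183875) (tt N24524 (iv F186755)) (tt N22646 F183876) (tt N22644 F183877) (tt N24656 (iv F187435)) (tt N24899 D40826) (tt N22643 (iv D39733)))
theorem Q23808 : ∀ i, i < 23808 → P i := stepQ 23807 Q23807 (allL N23807 (tt N24269 (iv F185215)) (tt N24889 (iv F188408)) (tt N24714 (iv F187687)) (tt N22749 F183878) (tt N24774 (iv F187938)) (tt N24797 (iv F188023)) (tt N24899 (iv F188440)) (tt N24710 F187672) (tt N22644 (iv D39734)) (tt N24898 (iv F188438)))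
theorem Q23809 : ∀ i, i < 23809 → P i := stepQ 23808 Q23808 (allL N23808 (tt N22678 F183879) (tt N22782 F183880) (tt N22648 F183881) (tt N23808 F183882) (tt N24900 D40827) (tt N22647 (iv D39735)) (tt N22651 F183883) (tt N24600 (iv F187113)) (tt N24633 (iv F187330)) (tt N22840 F183884))
theorem Q23810 : ∀ i, i < 23810 → P i := stepQ 23809 Q23809 (allL N23809 (tt N22676 F183885) (tt N22649 F183886) (tt N24900 (iv F188443)) (tt N22657 F183887) (tt N22648 (iv D39736)) (tt N24891 (iv F188418)) (tt N22652 F183888) (tt N24601 (iv F187120)) (tt N24632 (iv F187322)) (tt N24855 (iv F188246)))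
theorem Q23811 : ∀ i, i < 23811 → P i := stepQ 23810 Q23810 (allL N23810 (tt N22995 F183889) (tt N24632 (iv F187318)) (tt N22785 F183890) (tt N22740 F183891) (tt N22650 F183892) (tt N24901 D40828) (tt N22653 F183893) (tt N24510 (iv F186676)) (tt N22649 (iv D39737)) (tt N22739 (iv F183894)))
theorem Q23812 : ∀ i, i < 23812 → P i := stepQ 23811 Q23811 (allL N23811 (tt N22680 F183895) (tt N22790 F183896) (tt N22652 F183897) (tt N23107 (iv F183901)) (tt N22651 (iv D39738)) (tt N22842 F183898) (tt N24900 (iv F188444)) (tt N23811 F183899) (tt N24871 (iv F188331)) (tt N22839 F183900))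
theorem Q23813 : ∀ i, i < 23813 → P i := stepQ 23812 Q23812 (allL N23812 (tt N23108 F183902) (tt N24358 (iv F185742)) (tt N22793 F183903) (tt N22758 F183904) (tt N23812 F183905) (tt N22653 (iv D39739)) (tt N24902 D40829) (tt N23812 F183906) (tt N22977 F183907) (tt N22756 F183908))
theorem Q23814 : ∀ i, i < 23814 → P i := stepQ 23813 Q23813 (allL N23813 (tt N22672 F183909) (tt N24276 (iv F185265)) (tt N23077 F183910) (tt N24643 (iv F187370)) (tt N24903 D40830) (tt N22654 (iv D39740)) (tt N23071 F183911) (tt N24668 (iv F187502)) (tt N22655 F183912) (tt N24904 D40831))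
theorem Q23815 : ∀ i, i < 23815 → P i := stepQ 23814 Q23814 (allL N23814 (tt N22673 F183913) (tt N24277 (iv F185271)) (tt N24802 (iv F188044)) (tt N24644 (iv F187377)) (tt N24629 (iv F187301)) (tt N24904 (iv F188463)) (tt N22979 F183914) (tt N24669 (iv F187509)) (tt N24620 (iv F187244)) (tt N22654 (iv D39741)))
theorem Q23816 : ∀ i, i < 23816 → P i := stepQ 23815 Q23815 (allL N23815 (tt N22674 F183915) (tt N24278 (iv F185278)) (tt N23080 F183916) (tt N24891 (iv F188417)) (tt N22655 (iv D39742)) (tt N22657 F183917) (tt N23073 F183918) (tt N24670 (iv F187515)) (tt N24903 (iv F188460)) (tt N24905 D40832))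
theorem Q23817 : ∀ i, i < 23817 → P i := stepQ 23816 Q23816 (allL N23816 (tt N22675 F183919) (tt N24279 (iv F185285)) (tt N23083 F183920) (tt N24505 (iv F186642)) (tt N24905 (iv F188467)) (tt N22656 F183921) (tt N23074 F183922) (tt N24672 (iv F187527)) (tt N24906 D40833) (tt N22655 (iv D39743)))
theorem Q23818 : ∀ i, i < 23818 → P i := stepQ 23817 Q23817 (allL N23817 (tt N22677 F183923) (tt N24280 (iv F185292)) (tt N23115 F183924) (tt N24855 (iv F188243)) (tt N22658 F183925) (tt N24905 (iv F188468)) (tt N22659 F183926) (tt N24673 (iv F187533)) (tt N22767 F183927) (tt N22657 (iv D39744)))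
theorem Q23819 : ∀ i, i < 23819 → P i := stepQ 23818 Q23818 (allL N23818 (tt N24657 (iv F187437)) (tt N22662 F183928) (tt N22704 F183929) (tt N24327 (iv F185584)) (tt N23098 F183930) (tt N22660 (iv D39745)) (tt N24267 (iv F185205)) (tt N22669 F183931) (tt N24907 D40834) (tt N24611 (iv F187185)))
theorem Q23820 : ∀ i, i < 23820 → P i := stepQ 23819 Q23819 (allL N23819 (tt N24666 (iv F187485)) (tt N24327 (iv F185583)) (tt N24616 (iv F187215)) (tt N22662 F183932) (tt N24908 D40835) (tt N22661 (iv D39746)) (tt N24291 (iv F185361)) (tt N22670 F183933) (tt N24909 D40836) (tt N24641 (iv F187362)))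
theorem Q23821 : ∀ i, i < 23821 → P i := stepQ 23820 Q23820 (allL N23820 (tt N24667 (iv F187492)) (tt N24907 (iv F188473)) (tt N22663 F183934) (tt N24909 (iv F188479)) (tt N24432 (iv F186210)) (tt N24816 (iv F188114)) (tt N24446 (iv F186295)) (tt N22671 F183935) (tt N22662 (iv D39747)) (tt N24910 D40837))
theorem Q23822 : ∀ i, i < 23822 → P i := stepQ 23821 Q23821 (allL N23821 (tt N24668 (iv F187498)) (tt N22714 F183936) (tt N24816 (iv F188113)) (tt N24619 (iv F187234)) (tt N24911 D40838) (tt N22663 (iv D39748)) (tt N24912 D40839) (tt N22672 F183937) (tt N22664 F183938) (tt N24913 D40840))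
theorem Q23823 : ∀ i, i < 23823 → P i := stepQ 23822 Q23822 (allL N23822 (tt N24669 (iv F187504)) (tt N22715 F183939) (tt N24910 (iv F188481)) (tt N24620 (iv F187240)) (tt N24438 (iv F186247)) (tt N24913 (iv F188489)) (tt N24448 (iv F186306)) (tt N22673 F183940) (tt N24644 (iv F187381)) (tt N22663 (iv D39749)))
theorem Q23824 : ∀ i, i < 23824 → P i := stepQ 23823 Q23823 (allL N23823 (tt N24670 (iv F187511)) (tt N22716 F183941) (tt N24821 (iv F188130)) (tt N24832 (iv F188167)) (tt N22664 (iv D39750)) (tt N22667 F183942) (tt N24914 D40841) (tt N22674 F183943) (tt N24911 (iv F188485)) (tt N24915 D40842))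
theorem Q23825 : ∀ i, i < 23825 → P i := stepQ 23824 Q23824 (allL N23824 (tt N24671 (iv F187516)) (tt N22717 F183944) (tt N24759 (iv F187873)) (tt N24621 (iv F187248)) (tt N24914 (iv F188492)) (tt N22666 F183945) (tt N22664 (iv D39751)) (tt N24751 (iv F187845)) (tt N24912 (iv F188487)) (tt N24703 (iv F187651)))
theorem Q23826 : ∀ i, i < 23826 → P i := stepQ 23825 Q23825 (allL N23825 (tt N24672 (iv F187522)) (tt N22718 F183946) (tt N24824 (iv F188143)) (tt N24622 (iv F187255)) (tt N24915 (iv F188495)) (tt N22665 F183947) (tt N24703 (iv F187650)) (tt N22675 F183948) (tt N24916 D40843) (tt N22664 (iv D39752)))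
theorem Q23827 : ∀ i, i < 23827 → P i := stepQ 23826 Q23826 (allL N23826 (tt N24673 (iv F187528)) (tt N22720 F183949) (tt N24876 (iv F188356)) (tt N24860 (iv F188269)) (tt N22668 F183950) (tt N24915 (iv F188496)) (tt N23826 F183951) (tt N22677 F183952) (tt N24371 (iv F185827)) (tt N22667 (iv D39753)))
theorem Q23828 : ∀ i, i < 23828 → P i := stepQ 23827 Q23827 (allL N23827 (tt N24712 (iv F187675)) (tt N22671 F183953) (tt N22723 F183954) (tt N24323 (iv F185563)) (tt N23096 F183955) (tt N24689 (iv F187593)) (tt N22985 F183956) (tt N24907 (iv F188476)) (tt N22669 (iv D39754)) (tt N24917 D40844))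
theorem Q23829 : ∀ i, i < 23829 → P i := stepQ 23828 Q23828 (allL N23828 (tt N24795 (iv F188015)) (tt N24325 (iv F185571)) (tt N24884 (iv F188395)) (tt N24681 (iv F187558)) (tt N22670 (iv D39755)) (tt N23828 F183957) (tt N22996 F183958) (tt N24908 (iv F188478)) (tt N24918 D40845) (tt N24674 (iv F187538)))
theorem Q23830 : ∀ i, i < 23830 → P i := stepQ 23829 Q23829 (allL N23829 (tt N24792 (iv F188003)) (tt N24323 (iv F185562)) (tt N24885 (iv F188398)) (tt N22671 F183959) (tt N24918 (iv F188504)) (tt N24543 (iv F186854)) (tt N22997 F183960) (tt N24909 (iv F188480)) (tt N22670 (iv D39756)) (tt N24919 D40846))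
theorem Q23831 : ∀ i, i < 23831 → P i := stepQ 23830 Q23830 (allL N23830 (tt N24802 (iv F188043)) (tt N24917 (iv F188500)) (tt N22673 F183961) (tt N24919 (iv F188506)) (tt N24685 (iv F187575)) (tt N24817 (iv F188118)) (tt N22998 F183962) (tt N24910 (iv F188482)) (tt N24676 (iv F187544)) (tt N22671 (iv D39757)))
theorem Q23832 : ∀ i, i < 23832 → P i := stepQ 23831 Q23831 (allL N23831 (tt N24903 (iv F188457)) (tt N22741 F183963) (tt N24814 (iv F188106)) (tt N24920 D40847) (tt N22672 (iv D39758)) (tt N24688 (iv F187589)) (tt N24808 (iv F188079)) (tt N24911 (iv F188484)) (tt N22674 F183964) (tt N24921 D40848))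
theorem Q23833 : ∀ i, i < 23833 → P i := stepQ 23832 Q23832 (allL N23832 (tt N24904 (iv F188461)) (tt N22743 F183965) (tt N24817 (iv F188117)) (tt N24888 (iv F188406)) (tt N24921 (iv F188511)) (tt N22673 F183966) (tt N24809 (iv F188085)) (tt N24913 (iv F188490)) (tt N24922 D40849) (tt N22672 (iv D39759)))
theorem Q23834 : ∀ i, i < 23834 → P i := stepQ 23833 Q23833 (allL N23833 (tt N24891 (iv F188415)) (tt N22744 F183967) (tt N24923 D40850) (tt N22674 (iv D39760)) (tt N24765 (iv F187896)) (tt N22676 F183968) (tt N24810 (iv F188090)) (tt N24832 (iv F188169)) (tt N24920 (iv F188509)) (tt N24924 D40851))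
theorem Q23835 : ∀ i, i < 23835 → P i := stepQ 23834 Q23834 (allL N23834 (tt N24905 (iv F188465)) (tt N22746 F183969) (tt N24822 (iv F188135)) (tt N24924 (iv F188516)) (tt N22675 F183970) (tt N22677 F183971) (tt N24811 (iv F188096)) (tt N24915 (iv F188497)) (tt N24925 D40852) (tt N22674 (iv D39761)))
theorem Q23836 : ∀ i, i < 23836 → P i := stepQ 23835 Q23835 (allL N23835 (tt N24906 (iv F188470)) (tt N22749 F183972) (tt N24825 (iv F188147)) (tt N24889 (iv F188409)) (tt N24925 (iv F188519)) (tt N24680 (iv F187556)) (tt N24812 (iv F188101)) (tt N24916 (iv F188499)) (tt N22675 (iv D39762)) (tt N24922 (iv F188513)))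
theorem Q23837 : ∀ i, i < 23837 → P i := stepQ 23836 Q23836 (allL N23836 (tt N24900 (iv F188441)) (tt N24880 (iv F188379)) (tt N22676 (iv D39763)) (tt N24869 (iv F188317)) (tt N22678 F183973) (tt N24923 (iv F188514)) (tt N22680 F183974) (tt N24858 (iv F188259)) (tt N24695 (iv F187613)) (tt N24862 (iv F188281)))
theorem Q23838 : ∀ i, i < 23838 → P i := stepQ 23837 Q23837 (allL N23837 (tt N24855 (iv F188240)) (tt N22752 F183975) (tt N24862 (iv F188277)) (tt N22677 F183976) (tt N22679 F183977) (tt N24924 (iv F188517)) (tt N22681 F183978) (tt N24860 (iv F188272)) (tt N24370 (iv F185820)) (tt N22676 (iv D39764)))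
theorem Q23839 : ∀ i, i < 23839 → P i := stepQ 23838 Q23838 (allL N23838 (tt N24401 (iv F186020)) (tt N22684 F183979) (tt N24336 (iv F185637)) (tt N22683 F183980) (tt N23838 F183981) (tt N24926 D40853) (tt N22682 (iv D39765)) (tt N23007 F183982) (tt N24574 (iv F187003)) (tt N23005 F183983))
theorem Q23840 : ∀ i, i < 23840 → P i := stepQ 23839 Q23839 (allL N23839 (tt N24663 (iv F187467)) (tt N22686 F183984) (tt N24267 (iv F185201)) (tt N24926 (iv F188521)) (tt N23059 F183985) (tt N22683 (iv D39766)) (tt N22704 F183986) (tt N23008 F183987) (tt N24927 D40854) (tt N24381 (iv F185897)))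
theorem Q23841 : ∀ i, i < 23841 → P i := stepQ 23840 Q23840 (allL N23840 (tt N24294 (iv F185376)) (tt N24926 (iv F188520)) (tt N24625 (iv F187276)) (tt N22686 F183988) (tt N24928 D40855) (tt N22684 (iv D39767)) (tt N22708 F183989) (tt N23009 F183990) (tt N24929 D40856) (tt N24382 (iv F185904)))
theorem Q23842 : ∀ i, i < 23842 → P i := stepQ 23841 Q23841 (allL N23841 (tt N24295 (iv F185383)) (tt N24574 (iv F186998)) (tt N24308 (iv F185465)) (tt N22687 F183991) (tt N23841 F183992) (tt N24930 D40857) (tt N22685 F183993) (tt N23010 F183994) (tt N22684 (iv D39768)) (tt N24299 (iv F185416)))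
theorem Q23843 : ∀ i, i < 23843 → P i := stepQ 23842 Q23842 (allL N23842 (tt N24296 (iv F185391)) (tt N24927 (iv F188525)) (tt N22692 F183995) (tt N24929 (iv F188532)) (tt N24389 (iv F185951)) (tt N24931 D40858) (tt N22709 F183996) (tt N23012 F183997) (tt N22686 (iv D39769)) (tt N24932 D40859))
theorem Q23844 : ∀ i, i < 23844 → P i := stepQ 23843 Q23843 (allL N23843 (tt N24297 (iv F185397)) (tt N24582 (iv F187036)) (tt N22693 F183998) (tt N24930 (iv F188535)) (tt N24933 D40860) (tt N22687 (iv D39770)) (tt N24934 D40861) (tt N23013 F183999) (tt N24931 (iv F188539)) (tt N24935 D40862))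
theorem Q23845 : ∀ i, i < 23845 → P i := stepQ 23844 Q23844 (allL N23844 (tt N24298 (iv F185401)) (tt N24585 (iv F187047)) (tt N22694 F184000) (tt N24299 (iv F185412)) (tt N22691 F184001) (tt N24935 (iv F188549)) (tt N22689 F184002) (tt N23014 F184003) (tt N22721 F184004) (tt N22687 (iv D39771)))
theorem Q23846 : ∀ i, i < 23846 → P i := stepQ 23845 Q23845 (allL N23845 (tt N24299 (iv F185409)) (tt N24490 (iv F186561)) (tt N22695 F184005) (tt N24298 (iv F185404)) (tt N23845 F184006) (tt N24934 (iv F188547)) (tt N22688 (iv D39772)) (tt N24478 (iv F186502)) (tt N22711 F184007) (tt N24295 (iv F185390)))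
theorem Q23847 : ∀ i, i < 23847 → P i := stepQ 23846 Q23846 (allL N23846 (tt N24300 (iv F185417)) (tt N24599 (iv F187103)) (tt N22697 F184008) (tt N24936 D40863) (tt N22690 (iv D39773)) (tt N24933 (iv F188544)) (tt N23846 F184009) (tt N23015 F184010) (tt N24393 (iv F185979)) (tt N24937 D40864))
theorem Q23848 : ∀ i, i < 23848 → P i := stepQ 23847 Q23847 (allL N23847 (tt N24301 (iv F185423)) (tt N24405 (iv F186049)) (tt N22698 F184011) (tt N23847 F184012) (tt N24937 (iv F188555)) (tt N22691 F184013) (tt N23847 F184014) (tt N23016 F184015) (tt N24938 D40865) (tt N22690 (iv D39774)))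
theorem Q23849 : ∀ i, i < 23849 → P i := stepQ 23848 Q23848 (allL N23848 (tt N24302 (iv F185430)) (tt N24447 (iv F186298)) (tt N24931 (iv F188537)) (tt N24628 (iv F187295)) (tt N24939 D40866) (tt N22692 (iv D39775)) (tt N24940 D40867) (tt N23017 F184016) (tt N22693 F184017) (tt N24941 D40868))
theorem Q23850 : ∀ i, i < 23850 → P i := stepQ 23849 Q23849 (allL N23849 (tt N24303 (iv F185435)) (tt N24448 (iv F186303)) (tt N24932 (iv F188540)) (tt N24629 (iv F187300)) (tt N24396 (iv F185995)) (tt N24941 (iv F188568)) (tt N22715 F184018) (tt N23018 F184019) (tt N24385 (iv F185924)) (tt N22692 (iv D39776)))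
theorem Q23851 : ∀ i, i < 23851 → P i := stepQ 23850 Q23850 (allL N23850 (tt N24304 (iv F185442)) (tt N24449 (iv F186310)) (tt N24933 (iv F188543)) (tt N24942 D40869) (tt N22693 (iv D39777)) (tt N22697 F184020) (tt N24943 D40870) (tt N23019 F184021) (tt N24939 (iv F188565)) (tt N24944 D40871))
theorem Q23852 : ∀ i, i < 23852 → P i := stepQ 23851 Q23851 (allL N23851 (tt N24305 (iv F185446)) (tt N24450 (iv F186315)) (tt N24934 (iv F188546)) (tt N24631 (iv F187314)) (tt N24943 (iv F188572)) (tt N22695 F184022) (tt N22693 (iv D39778)) (tt N24945 D40872) (tt N24940 (iv F188567)) (tt N24683 (iv F187568)))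
theorem Q23853 : ∀ i, i < 23853 → P i := stepQ 23852 Q23852 (allL N23852 (tt N24306 (iv F185450)) (tt N22728 F184023) (tt N24935 (iv F188548)) (tt N22724 F184024) (tt N24944 (iv F188575)) (tt N22694 F184025) (tt N24683 (iv F187567)) (tt N23021 F184026) (tt N24946 D40873) (tt N22693 (iv D39779)))
theorem Q23854 : ∀ i, i < 23854 → P i := stepQ 23853 Q23853 (allL N23853 (tt N24307 (iv F185455)) (tt N24392 (iv F185967)) (tt N24478 (iv F186499)) (tt N24434 (iv F186220)) (tt N23853 F184027) (tt N24945 (iv F188578)) (tt N22696 F184028) (tt N22695 (iv D39780)) (tt N22719 F184029) (tt N24431 (iv F186206)))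
theorem Q23855 : ∀ i, i < 23855 → P i := stepQ 23854 Q23854 (allL N23854 (tt N24309 (iv F185471)) (tt N24451 (iv F186320)) (tt N24947 D40874) (tt N22697 (iv D39781)) (tt N22699 F184030) (tt N24942 (iv F188570)) (tt N23854 F184031) (tt N23026 F184032) (tt N24402 (iv F186033)) (tt N24948 D40875))
theorem Q23856 : ∀ i, i < 23856 → P i := stepQ 23855 Q23855 (allL N23855 (tt N24310 (iv F185477)) (tt N22788 F184033) (tt N24937 (iv F188554)) (tt N24948 (iv F188588)) (tt N22698 F184034) (tt N24944 (iv F188576)) (tt N23855 F184035) (tt N23027 F184036) (tt N24949 D40876) (tt N22697 (iv D39782)))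
theorem Q23857 : ∀ i, i < 23857 → P i := stepQ 23856 Q23856 (allL N23856 (tt N24311 (iv F185482)) (tt N22786 F184037) (tt N24938 (iv F188559)) (tt N22701 F184038) (tt N24949 (iv F188593)) (tt N22784 F184039) (tt N23856 F184040) (tt N23028 F184041) (tt N22698 (iv D39783)) (tt N24404 (iv F186047)))
theorem Q23858 : ∀ i, i < 23858 → P i := stepQ 23857 Q23857 (allL N23857 (tt N24312 (iv F185489)) (tt N24938 (iv F188558)) (tt N22699 (iv D39784)) (tt N23857 F184042) (tt N24947 (iv F188584)) (tt N24633 (iv F187327)) (tt N23857 F184043) (tt N23029 F184044) (tt N24405 (iv F186054)) (tt N24950 D40877))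
theorem Q23859 : ∀ i, i < 23859 → P i := stepQ 23858 Q23858 (allL N23858 (tt N24313 (iv F185495)) (tt N22789 F184045) (tt N24950 (iv F188596)) (tt N22700 F184046) (tt N24948 (iv F188589)) (tt N22771 F184047) (tt N23858 F184048) (tt N23030 F184049) (tt N24480 (iv F186518)) (tt N22699 (iv D39785)))
theorem Q23860 : ∀ i, i < 23860 → P i := stepQ 23859 Q23859 (allL N23859 (tt N24391 (iv F185958)) (tt N24586 (iv F187055)) (tt N22703 F184050) (tt N24320 (iv F185542)) (tt N22776 F184051) (tt N24951 D40878) (tt N22702 (iv D39786)) (tt N22721 F184052) (tt N23014 F184053) (tt N22900 F184054))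
theorem Q23861 : ∀ i, i < 23861 → P i := stepQ 23860 Q23860 (allL N23860 (tt N24399 (iv F186007)) (tt N22708 F184055) (tt N24951 (iv F188602)) (tt N22704 F184056) (tt N24952 D40879) (tt N22703 (iv D39787)) (tt N24926 (iv F188522)) (tt N22722 F184057) (tt N24953 D40880) (tt N23004 F184058))
theorem Q23862 : ∀ i, i < 23862 → P i := stepQ 23861 Q23861 (allL N23861 (tt N24664 (iv F187474)) (tt N22709 F184059) (tt N24907 (iv F188474)) (tt N24953 (iv F188611)) (tt N23100 F184060) (tt N24954 D40881) (tt N24927 (iv F188527)) (tt N22723 F184061) (tt N22704 (iv D39788)) (tt N24955 D40882))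
theorem Q23863 : ∀ i, i < 23863 → P i := stepQ 23862 Q23862 (allL N23862 (tt N24441 (iv F186259)) (tt N22710 F184062) (tt N24693 (iv F187605)) (tt N23021 F184063) (tt N24956 D40883) (tt N22705 (iv D39789)) (tt N24957 D40884) (tt N22724 F184064) (tt N24954 (iv F188617)) (tt N22852 F184065))
theorem Q23864 : ∀ i, i < 23864 → P i := stepQ 23863 Q23863 (allL N23863 (tt N24443 (iv F186272)) (tt N22711 F184066) (tt N24442 (iv F186266)) (tt N23023 F184067) (tt N23863 F184068) (tt N24957 (iv F188627)) (tt N22706 (iv D39790)) (tt N24435 (iv F186230)) (tt N24490 (iv F186566)) (tt N22853 F184069))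
theorem Q23865 : ∀ i, i < 23865 → P i := stepQ 23864 Q23864 (allL N23864 (tt N24367 (iv F185798)) (tt N22713 F184070) (tt N24874 (iv F188345)) (tt N24958 D40885) (tt N22707 (iv D39791)) (tt N24956 (iv F188622)) (tt N23864 F184071) (tt N22725 F184072) (tt N22766 F184073) (tt N22855 F184074))
theorem Q23866 : ∀ i, i < 23866 → P i := stepQ 23865 Q23865 (allL N23865 (tt N24314 (iv F185502)) (tt N24952 (iv F188605)) (tt N24794 F188014) (tt N24745 (iv F187810)) (tt N22708 (iv D39792)) (tt N22779 F184075) (tt N24928 (iv F188530)) (tt N22726 F184076) (tt N24959 D40886) (tt N24515 (iv F186709)))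
theorem Q23867 : ∀ i, i < 23867 → P i := stepQ 23866 Q23866 (allL N23866 (tt N24315 (iv F185509)) (tt N24953 (iv F188610)) (tt N24800 (iv F188034)) (tt N22709 F184077) (tt N24959 (iv F188635)) (tt N24521 (iv F186734)) (tt N24929 (iv F188533)) (tt N22727 F184078) (tt N22708 (iv D39793)) (tt N24960 D40887))
theorem Q23868 : ∀ i, i < 23868 → P i := stepQ 23867 Q23867 (allL N23867 (tt N24316 (iv F185515)) (tt N24954 (iv F188614)) (tt N22714 F184079) (tt N24521 (iv F186733)) (tt N24961 D40888) (tt N22709 (iv D39794)) (tt N24962 D40889) (tt N22731 F184080) (tt N22710 F184081) (tt N24963 D40890))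
theorem Q23869 : ∀ i, i < 23869 → P i := stepQ 23868 Q23868 (allL N23868 (tt N24317 (iv F185521)) (tt N24955 (iv F188618)) (tt N22715 F184082) (tt N24960 (iv F188637)) (tt N24749 (iv F187833)) (tt N24963 (iv F188645)) (tt N24932 (iv F188541)) (tt N22732 F184083) (tt N24743 (iv F187801)) (tt N22709 (iv D39795)))
theorem Q23870 : ∀ i, i < 23870 → P i := stepQ 23869 Q23869 (allL N23869 (tt N24318 (iv F185527)) (tt N24956 (iv F188621)) (tt N22716 F184084) (tt N24964 D40891) (tt N22710 (iv D39796)) (tt N22713 F184085) (tt N24965 D40892) (tt N22733 F184086) (tt N24961 (iv F188641)) (tt N24509 (iv F186671)))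
theorem Q23871 : ∀ i, i < 23871 → P i := stepQ 23870 Q23870 (allL N23870 (tt N24319 (iv F185533)) (tt N24957 (iv F188625)) (tt N22717 F184087) (tt N24412 (iv F186088)) (tt N24965 (iv F188650)) (tt N22711 F184088) (tt N22710 (iv D39797)) (tt N24966 D40893) (tt N24962 (iv F188643)) (tt N24408 (iv F186070)))
theorem Q23872 : ∀ i, i < 23872 → P i := stepQ 23871 Q23871 (allL N23871 (tt N24320 (iv F185539)) (tt N24435 (iv F186226)) (tt N22719 F184089) (tt N24391 (iv F185961)) (tt N23871 F184090) (tt N24966 (iv F188653)) (tt N22712 F184091) (tt N22711 (iv D39798)) (tt N24478 (iv F186503)) (tt N24388 F185947))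
theorem Q23873 : ∀ i, i < 23873 → P i := stepQ 23872 Q23872 (allL N23872 (tt N24321 (iv F185547)) (tt N24958 (iv F188629)) (tt N24555 (iv F186910)) (tt N22713 (iv D39799)) (tt N22781 F184092) (tt N24964 (iv F188647)) (tt N23872 F184093) (tt N22739 F184094) (tt N24541 (iv F186849)) (tt N24510 (iv F186678)))
theorem Q23874 : ∀ i, i < 23874 → P i := stepQ 23873 Q23873 (allL N23873 (tt N24322 (iv F185555)) (tt N24911 (iv F188483)) (tt N24961 (iv F188639)) (tt N24841 (iv F188194)) (tt N22714 (iv D39800)) (tt N24753 (iv F187853)) (tt N24967 D40894) (tt N22741 F184095) (tt N22716 F184096) (tt N24968 D40895))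
theorem Q23875 : ∀ i, i < 23875 → P i := stepQ 23874 Q23874 (allL N23874 (tt N24323 (iv F185561)) (tt N24912 (iv F188486)) (tt N24962 (iv F188642)) (tt N24712 (iv F187677)) (tt N24967 (iv F188655)) (tt N24940 (iv F188566)) (tt N22714 (iv D39801)) (tt N24969 D40896) (tt N22717 F184097) (tt N24970 D40897))
theorem Q23876 : ∀ i, i < 23876 → P i := stepQ 23875 Q23875 (allL N23875 (tt N24324 (iv F185565)) (tt N24913 (iv F188488)) (tt N24963 (iv F188644)) (tt N24848 (iv F188219)) (tt N24968 (iv F188657)) (tt N22715 F184098) (tt N24970 (iv F188661)) (tt N22743 F184099) (tt N24971 D40898) (tt N22714 (iv D39802)))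
theorem Q23877 : ∀ i, i < 23877 → P i := stepQ 23876 Q23876 (allL N23876 (tt N24325 (iv F185570)) (tt N24914 (iv F188491)) (tt N24965 (iv F188649)) (tt N24844 (iv F188204)) (tt N22717 F184100) (tt N23876 F184101) (tt N22716 (iv D39803)) (tt N24972 D40899) (tt N24967 (iv F188656)) (tt N24709 (iv F187666)))
theorem Q23878 : ∀ i, i < 23878 → P i := stepQ 23877 Q23877 (allL N23877 (tt N24326 (iv F185575)) (tt N24915 (iv F188494)) (tt N24509 (iv F186668)) (tt N24845 (iv F188208)) (tt N22718 F184102) (tt N22720 F184103) (tt N24709 (iv F187665)) (tt N22746 F184104) (tt N24973 D40900) (tt N22716 (iv D39804)))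
theorem Q23879 : ∀ i, i < 23879 → P i := stepQ 23878 Q23878 (allL N23878 (tt N24327 (iv F185582)) (tt N24751 (iv F187842)) (tt N24966 (iv F188652)) (tt N24657 (iv F187439)) (tt N24972 (iv F188664)) (tt N22719 F184105) (tt N22747 F184106) (tt N22717 (iv D39805)) (tt N24969 (iv F188660)) (tt N24653 (iv F187424)))
theorem Q23880 : ∀ i, i < 23880 → P i := stepQ 23879 Q23879 (allL N23879 (tt N24329 (iv F185593)) (tt N24916 (iv F188498)) (tt N24507 (iv F186655)) (tt N24710 (iv F187669)) (tt N24973 (iv F188667)) (tt N24506 (iv F186650)) (tt N24707 (iv F187661)) (tt N22749 F184107) (tt N22718 (iv D39806)) (tt N24971 (iv F188663)))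
theorem Q23881 : ∀ i, i < 23881 → P i := stepQ 23880 Q23880 (allL N23880 (tt N24412 (iv F186085)) (tt N24890 (iv F188410)) (tt N22722 F184108) (tt N24319 (iv F185536)) (tt N24974 D40901) (tt N22721 (iv D39807)) (tt N22899 F184109) (tt N24951 (iv F188603)) (tt N24975 D40902) (tt N22898 F184110))
theorem Q23882 : ∀ i, i < 23882 → P i := stepQ 23881 Q23881 (allL N23881 (tt N24421 (iv F186132)) (tt N22726 F184111) (tt N24974 (iv F188669)) (tt N22952 F184112) (tt N22722 (iv D39808)) (tt N22783 F184113) (tt N22951 F184114) (tt N24952 (iv F188608)) (tt N24976 D40903) (tt N24386 (iv F185932)))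
theorem Q23883 : ∀ i, i < 23883 → P i := stepQ 23882 Q23882 (allL N23882 (tt N24423 (iv F186144)) (tt N22727 F184115) (tt N24975 (iv F188673)) (tt N22723 F184116) (tt N24976 (iv F188677)) (tt N24946 (iv F188582)) (tt N23087 F184117) (tt N24953 (iv F188613)) (tt N22722 (iv D39809)) (tt N24977 D40904))
theorem Q23884 : ∀ i, i < 23884 → P i := stepQ 23883 Q23883 (allL N23883 (tt N24694 (iv F187608)) (tt N22731 F184118) (tt N24689 (iv F187592)) (tt N24946 (iv F188581)) (tt N24978 D40905) (tt N22723 (iv D39810)) (tt N24684 (iv F187571)) (tt N24954 (iv F188616)) (tt N22724 F184119) (tt N24979 D40906))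
theorem Q23885 : ∀ i, i < 23885 → P i := stepQ 23884 Q23884 (allL N23884 (tt N24716 (iv F187695)) (tt N22732 F184120) (tt N24917 (iv F188501)) (tt N24977 (iv F188680)) (tt N23101 F184121) (tt N24979 (iv F188686)) (tt N23088 F184122) (tt N24955 (iv F188620)) (tt N24640 (iv F187356)) (tt N22723 (iv D39811)))
theorem Q23886 : ∀ i, i < 23886 → P i := stepQ 23885 Q23885 (allL N23885 (tt N24366 (iv F185793)) (tt N22733 F184123) (tt N24692 (iv F187600)) (tt N24980 D40907) (tt N22724 (iv D39812)) (tt N22725 F184124) (tt N24686 (iv F187582)) (tt N24956 (iv F188623)) (tt N24978 (iv F188684)) (tt N24630 (iv F187310)))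
theorem Q23887 : ∀ i, i < 23887 → P i := stepQ 23886 Q23886 (allL N23886 (tt N24365 (iv F185787)) (tt N22739 F184125) (tt N24981 D40908) (tt N22725 (iv D39813)) (tt N22771 F184126) (tt N24980 (iv F188688)) (tt N22755 F184127) (tt N24958 (iv F188632)) (tt N22764 F184128) (tt N24632 (iv F187323)))
theorem Q23888 : ∀ i, i < 23888 → P i := stepQ 23887 Q23887 (allL N23887 (tt N24331 (iv F185607)) (tt N24976 (iv F188675)) (tt N24894 (iv F188425)) (tt N24804 (iv F188053)) (tt N22727 F184129) (tt N24982 D40909) (tt N23089 F184130) (tt N24959 (iv F188636)) (tt N22726 (iv D39814)) (tt N24983 D40910))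
theorem Q23889 : ∀ i, i < 23889 → P i := stepQ 23888 Q23888 (allL N23888 (tt N24332 (iv F185612)) (tt N24946 (iv F188580)) (tt N24775 (iv F187941)) (tt N22731 F184131) (tt N24984 D40911) (tt N22727 (iv D39815)) (tt N24985 D40912) (tt N24521 (iv F186735)) (tt N22728 F184132) (tt N24986 D40913))
theorem Q23890 : ∀ i, i < 23890 → P i := stepQ 23889 Q23889 (allL N23889 (tt N24333 (iv F185618)) (tt N24977 (iv F188679)) (tt N24895 (iv F188428)) (tt N22732 F184133) (tt N24983 (iv F188693)) (tt N24986 (iv F188700)) (tt N23091 F184134) (tt N24960 (iv F188638)) (tt N24799 (iv F188032)) (tt N22727 (iv D39816)))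
theorem Q23891 : ∀ i, i < 23891 → P i := stepQ 23890 Q23890 (allL N23890 (tt N24334 (iv F185623)) (tt N24944 (iv F188574)) (tt N24497 F186604) (tt N24987 D40914) (tt N22728 (iv D39817)) (tt N22788 F184135) (tt N24988 D40915) (tt N24520 (iv F186729)) (tt N24984 (iv F188695)) (tt N24449 (iv F186313)))
theorem Q23892 : ∀ i, i < 23892 → P i := stepQ 23891 Q23891 (allL N23891 (tt N24335 (iv F185629)) (tt N24683 (iv F187565)) (tt N24781 (iv F187964)) (tt N22734 F184136) (tt N24988 (iv F188703)) (tt N22729 F184137) (tt N22728 (iv D39818)) (tt N24989 D40916) (tt N24985 (iv F188698)) (tt N24450 (iv F186318)))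
theorem Q23893 : ∀ i, i < 23893 → P i := stepQ 23892 Q23892 (allL N23892 (tt N24336 (iv F185635)) (tt N24431 (iv F186200)) (tt N24401 (iv F186022)) (tt N22736 F184138) (tt N23892 F184139) (tt N24989 (iv F188706)) (tt N22730 F184140) (tt N22729 (iv D39819)) (tt N23095 F184141) (tt N24392 (iv F185973)))
theorem Q23894 : ∀ i, i < 23894 → P i := stepQ 23893 Q23893 (allL N23893 (tt N24337 (iv F185643)) (tt N24978 (iv F188682)) (tt N22741 F184142) (tt N24990 D40917) (tt N22731 (iv D39820)) (tt N24808 (iv F188078)) (tt N24991 D40918) (tt N24961 (iv F188640)) (tt N22733 F184143) (tt N24992 D40919))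
theorem Q23895 : ∀ i, i < 23895 → P i := stepQ 23894 Q23894 (allL N23894 (tt N24338 (iv F185648)) (tt N24684 (iv F187569)) (tt N22742 F184144) (tt N24985 (iv F188696)) (tt N24991 (iv F188709)) (tt N23096 F184145) (tt N22731 (iv D39821)) (tt N24993 D40920) (tt N22734 F184146) (tt N24994 D40921))
theorem Q23896 : ∀ i, i < 23896 → P i := stepQ 23895 Q23895 (allL N23895 (tt N24339 (iv F185653)) (tt N24979 (iv F188685)) (tt N22743 F184147) (tt N24986 (iv F188699)) (tt N24992 (iv F188712)) (tt N22732 F184148) (tt N24994 (iv F188718)) (tt N24963 (iv F188646)) (tt N24995 D40922) (tt N22731 (iv D39822)))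
theorem Q23897 : ∀ i, i < 23897 → P i := stepQ 23896 Q23896 (allL N23896 (tt N24340 (iv F185658)) (tt N24980 (iv F188687)) (tt N24996 D40923) (tt N22733 (iv D39823)) (tt N24987 (iv F188701)) (tt N22739 F184149) (tt N24997 D40924) (tt N24964 (iv F188648)) (tt N24990 (iv F188707)) (tt N24901 (iv F188450)))
theorem Q23898 : ∀ i, i < 23898 → P i := stepQ 23897 Q23897 (allL N23897 (tt N24341 (iv F185662)) (tt N24686 (iv F187579)) (tt N22745 F184150) (tt N24997 (iv F188726)) (tt N22734 F184151) (tt N22757 F184152) (tt N22733 (iv D39824)) (tt N24998 D40925) (tt N24991 (iv F188710)) (tt N24999 D40926))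
theorem Q23899 : ∀ i, i < 23899 → P i := stepQ 23898 Q23898 (allL N23898 (tt N22992 F184153) (tt N24630 (iv F187306)) (tt N22746 F184154) (tt N24901 (iv F188449)) (tt N22735 F184155) (tt N22740 F184156) (tt N24999 (iv F188735)) (tt N24509 (iv F186670)) (tt N25000 D40927) (tt N22733 (iv D39825)))
theorem Q23900 : ∀ i, i < 23900 → P i := stepQ 23899 Q23899 (allL N23899 (tt N24342 (iv F185668)) (tt N24433 (iv F186214)) (tt N22747 F184157) (tt N24989 (iv F188705)) (tt N24998 (iv F188729)) (tt N22736 F184158) (tt N24966 (iv F188654)) (tt N22734 (iv D39826)) (tt N24993 (iv F188715)) (tt N25001 D40928))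
theorem Q23901 : ∀ i, i < 23901 → P i := stepQ 23900 Q23900 (allL N23900 (tt N22993 F184159) (tt N24631 (iv F187312)) (tt N22748 F184160) (tt N24450 (iv F186316)) (tt N24999 (iv F188733)) (tt N22737 F184161) (tt N22735 F184162) (tt N25001 (iv F188742)) (tt N25002 D40929) (tt N22734 (iv D39827)))
theorem Q23902 : ∀ i, i < 23902 → P i := stepQ 23901 Q23901 (allL N23901 (tt N22990 F184163) (tt N24628 (iv F187294)) (tt N22749 F184164) (tt N24447 (iv F186299)) (tt N25000 (iv F188738)) (tt N22978 F184165) (tt N25002 (iv F188745)) (tt N24507 (iv F186657)) (tt N22735 (iv D39828)) (tt N24995 (iv F188722)))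
theorem Q23903 : ∀ i, i < 23903 → P i := stepQ 23902 Q23902 (allL N23902 (tt N22994 F184166) (tt N24434 (iv F186218)) (tt N22750 F184167) (tt N24392 (iv F185969)) (tt N22761 F184168) (tt N25001 (iv F188741)) (tt N22738 F184169) (tt N22737 F184170) (tt N24623 (iv F187266)) (tt N22736 (iv D39829)))
theorem Q23904 : ∀ i, i < 23904 → P i := stepQ 23903 Q23903 (allL N23903 (tt N24343 (iv F185673)) (tt N24742 (iv F187791)) (tt N22739 (iv D39830)) (tt N22751 F184171) (tt N22787 F184172) (tt N24996 (iv F188724)) (tt N22762 F184173) (tt N24555 (iv F186914)) (tt N24468 (iv F186439)) (tt N22785 F184174))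
theorem Q23905 : ∀ i, i < 23905 → P i := stepQ 23904 Q23904 (allL N23904 (tt N24344 (iv F185681)) (tt N24920 (iv F188508)) (tt N25003 D40930) (tt N22741 (iv D39831)) (tt N24770 F187921) (tt N24813 (iv F188103)) (tt N25004 D40931) (tt N24841 (iv F188195)) (tt N22744 F184175) (tt N25005 D40932))
theorem Q23906 : ∀ i, i < 23906 → P i := stepQ 23905 Q23905 (allL N23905 (tt N24345 (iv F185686)) (tt N24808 (iv F188076)) (tt N24991 (iv F188708)) (tt N25004 (iv F188747)) (tt N22742 F184176) (tt N24978 (iv F188683)) (tt N22741 (iv D39832)) (tt N25006 D40933) (tt N22745 F184177) (tt N25007 D40934))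
theorem Q23907 : ∀ i, i < 23907 → P i := stepQ 23906 Q23906 (allL N23906 (tt N24346 (iv F185689)) (tt N24921 (iv F188510)) (tt N24992 (iv F188711)) (tt N25005 (iv F188749)) (tt N22743 F184178) (tt N24815 (iv F188111)) (tt N25007 (iv F188753)) (tt N24968 (iv F188658)) (tt N25008 D40935) (tt N22741 (iv D39833)))
theorem Q23908 : ∀ i, i < 23908 → P i := stepQ 23907 Q23907 (allL N23907 (tt N24347 (iv F185692)) (tt N24748 (iv F187826)) (tt N24993 (iv F188713)) (tt N24896 (iv F188431)) (tt N25006 (iv F188750)) (tt N23100 F184179) (tt N24969 (iv F188659)) (tt N22742 (iv D39834)) (tt N22747 F184180) (tt N25009 D40936))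
theorem Q23909 : ∀ i, i < 23909 → P i := stepQ 23908 Q23908 (allL N23908 (tt N24348 (iv F185695)) (tt N24809 (iv F188082)) (tt N24994 (iv F188716)) (tt N24897 (iv F188434)) (tt N25007 (iv F188752)) (tt N23101 F184181) (tt N22743 F184182) (tt N25009 (iv F188757)) (tt N25010 D40937) (tt N22742 (iv D39835)))
theorem Q23910 : ∀ i, i < 23910 → P i := stepQ 23909 Q23909 (allL N23909 (tt N24349 (iv F185698)) (tt N24922 (iv F188512)) (tt N24995 (iv F188720)) (tt N24898 (iv F188437)) (tt N25008 (iv F188754)) (tt N24803 (iv F188049)) (tt N25010 (iv F188758)) (tt N24971 (iv F188662)) (tt N22743 (iv D39836)) (tt N22749 F184183))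
theorem Q23911 : ∀ i, i < 23911 → P i := stepQ 23910 Q23910 (allL N23910 (tt N24350 (iv F185702)) (tt N25011 D40938) (tt N22744 (iv D39837)) (tt N24996 (iv F188723)) (tt N24483 (iv F186530)) (tt N22751 F184184) (tt N25012 D40939) (tt N24571 (iv F186986)) (tt N25003 (iv F188746)) (tt N24856 (iv F188252)))
theorem Q23912 : ∀ i, i < 23912 → P i := stepQ 23911 Q23911 (allL N23911 (tt N24351 (iv F185708)) (tt N24810 (iv F188087)) (tt N25012 (iv F188762)) (tt N22745 F184185) (tt N24556 (iv F186919)) (tt N22764 F184186) (tt N22744 (iv D39838)) (tt N25013 D40940) (tt N25004 (iv F188748)) (tt N25014 D40941))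
theorem Q23913 : ∀ i, i < 23913 → P i := stepQ 23912 Q23912 (allL N23912 (tt N24352 (iv F185713)) (tt N24924 (iv F188515)) (tt N24856 (iv F188249)) (tt N22746 F184187) (tt N24772 (iv F187928)) (tt N22752 F184188) (tt N25014 (iv F188768)) (tt N24845 (iv F188211)) (tt N25015 D40942) (tt N22744 (iv D39839)))
theorem Q23914 : ∀ i, i < 23914 → P i := stepQ 23913 Q23913 (allL N23913 (tt N24353 (iv F185720)) (tt N24750 (iv F187837)) (tt N24998 (iv F188728)) (tt N25013 (iv F188764)) (tt N22747 F184189) (tt N22766 F184190) (tt N24972 (iv F188666)) (tt N22745 (iv D39840)) (tt N25006 (iv F188751)) (tt N25016 D40943))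
theorem Q23915 : ∀ i, i < 23915 → P i := stepQ 23914 Q23914 (allL N23914 (tt N24354 (iv F185723)) (tt N24811 (iv F188092)) (tt N24999 (iv F188732)) (tt N25014 (iv F188766)) (tt N22748 F184191) (tt N22767 F184192) (tt N22746 F184193) (tt N25016 (iv F188772)) (tt N25017 D40944) (tt N22745 (iv D39841)))
theorem Q23916 : ∀ i, i < 23916 → P i := stepQ 23915 Q23915 (allL N23915 (tt N24355 (iv F185729)) (tt N24925 (iv F188518)) (tt N25000 (iv F188737)) (tt N25015 (iv F188769)) (tt N22749 F184194) (tt N25018 D40945) (tt N25017 (iv F188774)) (tt N24973 (iv F188668)) (tt N22746 (iv D39842)) (tt N25008 (iv F188755)))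
theorem Q23917 : ∀ i, i < 23917 → P i := stepQ 23916 Q23916 (allL N23916 (tt N24356 (iv F185732)) (tt N24752 (iv F187847)) (tt N25001 (iv F188740)) (tt N24656 (iv F187433)) (tt N25016 (iv F188770)) (tt N22750 F184195) (tt N24653 (iv F187422)) (tt N22748 F184196) (tt N25019 D40946) (tt N22747 (iv D39843)))
theorem Q23918 : ∀ i, i < 23918 → P i := stepQ 23917 Q23917 (allL N23917 (tt N24357 (iv F185738)) (tt N24812 (iv F188098)) (tt N25002 (iv F188744)) (tt N24899 (iv F188439)) (tt N25017 (iv F188773)) (tt N24838 (iv F188188)) (tt N22749 F184197) (tt N25019 (iv F188776)) (tt N22748 (iv D39844)) (tt N25010 (iv F188759)))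
theorem Q23919 : ∀ i, i < 23919 → P i := stepQ 23918 Q23918 (allL N23918 (tt N24567 (iv F186966)) (tt N22751 (iv D39845)) (tt N24880 (iv F188380)) (tt N24742 (iv F187792)) (tt N22754 F184198) (tt N25011 (iv F188760)) (tt N22769 F184199) (tt N24604 (iv F187138)) (tt N24741 (iv F187789)) (tt N22966 F184200))
theorem Q23920 : ∀ i, i < 23920 → P i := stepQ 23919 Q23919 (allL N23919 (tt N24285 (iv F185323)) (tt N24354 (iv F185724)) (tt N24278 (iv F185279)) (tt N24530 (iv F186784)) (tt N24275 (iv F185260)) (tt N22753 (iv D39846)) (tt N24290 (iv F185354)) (tt N24790 (iv F188000)) (tt N25018 (iv F188775)) (tt N24289 F185348))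
theorem Q23921 : ∀ i, i < 23921 → P i := stepQ 23920 Q23920 (allL N23920 (tt N24364 (iv F185780)) (tt N24878 (iv F188368)) (tt N22755 (iv D39847)) (tt N24872 (iv F188333)) (tt N22770 F184201) (tt N24870 (iv F188324)) (tt N24981 (iv F188690)) (tt N23920 F184202) (tt N22763 F184203) (tt N24871 (iv F188332)))
theorem Q23922 : ∀ i, i < 23922 → P i := stepQ 23921 Q23921 (allL N23921 (tt N24361 (iv F185762)) (tt N24877 (iv F188362)) (tt N22756 (iv D39848)) (tt N22763 F184204) (tt N23921 F184205) (tt N22762 F184206) (tt N25020 D40947) (tt N23921 F184207) (tt N24872 (iv F188337)) (tt N22793 F184208))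
theorem Q23923 : ∀ i, i < 23923 → P i := stepQ 23922 Q23922 (allL N23922 (tt N24362 (iv F185769)) (tt N24687 (iv F187584)) (tt N25020 (iv F188777)) (tt N22757 F184209) (tt N23922 F184210) (tt N24997 (iv F188727)) (tt N22756 (iv D39849)) (tt N25021 D40948) (tt N24873 (iv F188342)) (tt N24902 (iv F188456)))
theorem Q23924 : ∀ i, i < 23924 → P i := stepQ 23923 Q23923 (allL N23923 (tt N24363 (iv F185774)) (tt N24436 (iv F186234)) (tt N22766 F184211) (tt N25021 (iv F188781)) (tt N22759 F184212) (tt N24998 (iv F188730)) (tt N23923 F184213) (tt N22757 (iv D39850)) (tt N24874 (iv F188348)) (tt N25022 D40949))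
theorem Q23925 : ∀ i, i < 23925 → P i := stepQ 23924 Q23924 (allL N23924 (tt N23109 F184214) (tt N24359 (iv F185749)) (tt N22767 F184215) (tt N24902 (iv F188453)) (tt N22760 F184216) (tt N24999 (iv F188734)) (tt N22758 F184217) (tt N25022 (iv F188788)) (tt N23115 F184218) (tt N22757 (iv D39851)))
theorem Q23926 : ∀ i, i < 23926 → P i := stepQ 23925 Q23925 (allL N23925 (tt N23110 F184219) (tt N24360 (iv F185755)) (tt N22768 F184220) (tt N23925 F184221) (tt N25022 (iv F188786)) (tt N22761 F184222) (tt N23925 F184223) (tt N22760 F184224) (tt N23116 F184225) (tt N22759 (iv D39852)))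
theorem Q23927 : ∀ i, i < 23927 → P i := stepQ 23926 Q23926 (allL N23926 (tt N24368 (iv F185804)) (tt N24729 (iv F187747)) (tt N22764 F184226) (tt N25020 (iv F188778)) (tt N22773 F184227) (tt N25012 (iv F188763)) (tt N22763 (iv D39853)) (tt N25023 D40950) (tt N24981 (iv F188691)) (tt N24720 (iv F187718)))
theorem Q23928 : ∀ i, i < 23928 → P i := stepQ 23927 Q23927 (allL N23927 (tt N24369 (iv F185809)) (tt N24541 (iv F186843)) (tt N25023 (iv F188790)) (tt N22766 F184228) (tt N22774 F184229) (tt N25013 (iv F188765)) (tt N23927 F184230) (tt N22764 (iv D39854)) (tt N24958 (iv F188633)) (tt N24529 (iv F186781)))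
theorem Q23929 : ∀ i, i < 23929 → P i := stepQ 23928 Q23928 (allL N23928 (tt N24370 (iv F185814)) (tt N24460 (iv F186382)) (tt N24720 (iv F187714)) (tt N22767 F184231) (tt N22775 F184232) (tt N25014 (iv F188767)) (tt N22765 F184233) (tt N24529 (iv F186780)) (tt N24855 (iv F188245)) (tt N22764 (iv D39855)))
theorem Q23930 : ∀ i, i < 23930 → P i := stepQ 23929 Q23929 (allL N23929 (tt N24371 (iv F185821)) (tt N24540 (iv F186835)) (tt N25022 (iv F188785)) (tt N24529 (iv F186778)) (tt N22768 F184234) (tt N25016 (iv F188771)) (tt N23929 F184235) (tt N22767 F184236) (tt N24673 (iv F187534)) (tt N22766 (iv D39856)))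
theorem Q23931 : ∀ i, i < 23931 → P i := stepQ 23930 Q23930 (allL N23930 (tt N24372 (iv F185828)) (tt N24730 (iv F187752)) (tt N22771 F184237) (tt N23930 F184238) (tt N24981 (iv F188689)) (tt N24950 (iv F188598)) (tt N22770 (iv D39857)) (tt N25024 D40951) (tt N22773 F184239) (tt N24633 (iv F187331)))
theorem Q23932 : ∀ i, i < 23932 → P i := stepQ 23931 Q23931 (allL N23931 (tt N24373 (iv F185834)) (tt N22781 F184240) (tt N25024 (iv F188794)) (tt N22772 F184241) (tt N24958 (iv F188630)) (tt N23030 F184242) (tt N23931 F184243) (tt N22771 (iv D39858)) (tt N22774 F184244) (tt N22856 F184245))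
theorem Q23933 : ∀ i, i < 23933 → P i := stepQ 23932 Q23932 (allL N23932 (tt N24374 (iv F185841)) (tt N24301 (iv F185424)) (tt N22774 F184246) (tt N23932 F184247) (tt N25023 (iv F188791)) (tt N23127 F184248) (tt N23932 F184249) (tt N22773 (iv D39859)) (tt N25024 (iv F188798)) (tt N23131 F184250))
theorem Q23934 : ∀ i, i < 23934 → P i := stepQ 23933 Q23933 (allL N23933 (tt N24394 (iv F185980)) (tt N24600 (iv F187109)) (tt N22777 F184251) (tt N23933 F184252) (tt N25025 D40952) (tt N22776 (iv D39860)) (tt N23933 F184253) (tt N22782 F184254) (tt N25026 D40953) (tt N22958 F184255))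
theorem Q23935 : ∀ i, i < 23935 → P i := stepQ 23934 Q23934 (allL N23934 (tt N24403 (iv F186035)) (tt N22779 F184256) (tt N25025 (iv F188800)) (tt N22968 F184257) (tt N22777 (iv D39861)) (tt N24952 (iv F188607)) (tt N23934 F184258) (tt N22783 F184259) (tt N25027 D40954) (tt N23006 F184260))
theorem Q23936 : ∀ i, i < 23936 → P i := stepQ 23935 Q23935 (allL N23935 (tt N24404 (iv F186041)) (tt N22780 F184261) (tt N25026 (iv F188805)) (tt N22778 F184262) (tt N25027 (iv F188812)) (tt N23028 F184263) (tt N23935 F184264) (tt N22784 F184265) (tt N22777 (iv D39862)) (tt N24311 (iv F185488)))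
theorem Q23937 : ∀ i, i < 23937 → P i := stepQ 23936 Q23936 (allL N23936 (tt N24376 (iv F185856)) (tt N25027 (iv F188810)) (tt N24510 F186679) (tt N24606 (iv F187147)) (tt N22780 F184266) (tt N25028 D40955) (tt N23936 F184267) (tt N22785 F184268) (tt N22779 (iv D39863)) (tt N24555 (iv F186915)))
theorem Q23938 : ∀ i, i < 23938 → P i := stepQ 23937 Q23937 (allL N23937 (tt N24414 (iv F186096)) (tt N24900 (iv F188442)) (tt N22783 F184269) (tt N25029 D40956) (tt N22782 (iv D39864)) (tt N24974 (iv F188670)) (tt N22790 F184270) (tt N25025 (iv F188802)) (tt N25030 D40957) (tt N22957 F184271))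
theorem Q23939 : ∀ i, i < 23939 → P i := stepQ 23938 Q23938 (allL N23938 (tt N24415 (iv F186101)) (tt N24633 (iv F187325)) (tt N22784 F184272) (tt N23938 F184273) (tt N25030 (iv F188822)) (tt N24938 (iv F188561)) (tt N22791 F184274) (tt N25026 (iv F188809)) (tt N22782 (iv D39865)) (tt N24730 (iv F187756)))
theorem Q23940 : ∀ i, i < 23940 → P i := stepQ 23939 Q23939 (allL N23939 (tt N24425 (iv F186154)) (tt N22785 F184275) (tt N25030 (iv F188821)) (tt N22966 F184276) (tt N22784 F184277) (tt N25031 D40958) (tt N22792 F184278) (tt N25027 (iv F188814)) (tt N22783 (iv D39866)) (tt N24742 (iv F187795)))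
theorem Q23941 : ∀ i, i < 23941 → P i := stepQ 23940 Q23940 (allL N23940 (tt N24377 (iv F185864)) (tt N25031 (iv F188824)) (tt N24901 (iv F188448)) (tt N24856 (iv F188250)) (tt N25032 D40959) (tt N22785 (iv D39867)) (tt N25033 D40960) (tt N25028 (iv F188815)) (tt N24982 (iv F188692)) (tt N24996 (iv F188725)))
theorem Q23942 : ∀ i, i < 23942 → P i := stepQ 23941 Q23941 (allL N23941 (tt N24378 (iv F185868)) (tt N24949 (iv F188592)) (tt N24451 F186326) (tt N24493 (iv F186585)) (tt N22786 (iv D39868)) (tt N25032 (iv F188826)) (tt N23941 F184279) (tt N24522 (iv F186740)) (tt N22788 F184280) (tt N24492 F186582))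
theorem Q23943 : ∀ i, i < 23943 → P i := stepQ 23942 Q23942 (allL N23942 (tt N24379 (iv F185876)) (tt N24948 (iv F188587)) (tt N24492 (iv F186577)) (tt N22788 (iv D39869)) (tt N22789 F184281) (tt N24987 (iv F188702)) (tt N23942 F184282) (tt N24523 (iv F186750)) (tt N24493 (iv F186589)) (tt N24451 (iv F186325)))
theorem Q23944 : ∀ i, i < 23944 → P i := stepQ 23943 Q23943 (allL N23943 (tt N24427 (iv F186168)) (tt N23107 F184283) (tt N22963 F184284) (tt N22790 (iv D39870)) (tt N23943 F184285) (tt N22960 F184286) (tt N25029 (iv F188819)) (tt N23943 F184287) (tt N24864 (iv F188294)) (tt N22956 F184288))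
theorem Q23945 : ∀ i, i < 23945 → P i := stepQ 23944 Q23944 (allL N23944 (tt N24428 (iv F186176)) (tt N24871 (iv F188327)) (tt N22792 F184289) (tt N24864 (iv F188291)) (tt N22791 F184290) (tt N24863 (iv F188286)) (tt N25030 (iv F188823)) (tt N23944 F184291) (tt N22790 (iv D39871)) (tt N24878 (iv F188372)))
theorem Q23946 : ∀ i, i < 23946 → P i := stepQ 23945 Q23945 (allL N23945 (tt N24380 (iv F185884)) (tt N24728 (iv F187742)) (tt N24902 (iv F188452)) (tt N24720 F187719) (tt N23945 F184292) (tt N25033 (iv F188827)) (tt N22793 (iv D39872)) (tt N25034 D40961) (tt N23106 F184293) (tt N25020 (iv F188780)))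
theorem Q23947 : ∀ i, i < 23947 → P i := stepQ 23946 Q23946 (allL N23946 (tt N24656 (iv F187430)) (tt N22795 F184294) (tt N24381 (iv F185892)) (tt N24356 (iv F185735)) (tt N24454 (iv F186345)) (tt N22794 (iv D39873)) (tt N24611 (iv F187183)) (tt N24268 (iv F185214)) (tt N25035 D40962) (tt N24267 F185206))
theorem Q23948 : ∀ i, i < 23948 → P i := stepQ 23947 Q23947 (allL N23947 (tt N22832 F184295) (tt N25035 (iv F188832)) (tt N22796 F184296) (tt N24788 (iv F187991)) (tt N24457 (iv F186365)) (tt N24787 (iv F187987)) (tt N24642 (iv F187366)) (tt N24511 (iv F186684)) (tt N22795 (iv D39874)) (tt N25036 D40963))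
theorem Q23949 : ∀ i, i < 23949 → P i := stepQ 23948 Q23948 (allL N23948 (tt N22836 F184297) (tt N24385 (iv F185919)) (tt N25036 (iv F188834)) (tt N22979 F184298) (tt N24462 (iv F186397)) (tt N24799 (iv F188030)) (tt N24644 (iv F187379)) (tt N24514 (iv F186702)) (tt N24448 (iv F186308)) (tt N22796 (iv D39875)))
theorem Q23950 : ∀ i, i < 23950 → P i := stepQ 23949 Q23949 (allL N23949 (tt N24807 (iv F188067)) (tt N22798 F184299) (tt N22859 F184300) (tt N23074 F184301) (tt N22906 F184302) (tt N22797 (iv D39876)) (tt N24505 (iv F186644)) (tt N22829 F184303) (tt N25037 D40964) (tt N22890 F184304))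
theorem Q23951 : ∀ i, i < 23951 → P i := stepQ 23950 Q23950 (allL N23950 (tt N24511 (iv F186680)) (tt N25037 (iv F188835)) (tt N22800 F184305) (tt N24283 (iv F185314)) (tt N22909 F184306) (tt N24282 (iv F185309)) (tt N24506 (iv F186651)) (tt N22832 F184307) (tt N22798 (iv D39877)) (tt N25038 D40965))
theorem Q23952 : ∀ i, i < 23952 → P i := stepQ 23951 Q23951 (allL N23951 (tt N24512 (iv F186685)) (tt N23105 F184308) (tt N22802 F184309) (tt N23067 F184310) (tt N22799 (iv D39878)) (tt N24281 (iv F185302)) (tt N23951 F184311) (tt N22834 F184312) (tt N22912 F184313) (tt N23066 F184314))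
theorem Q23953 : ∀ i, i < 23953 → P i := stepQ 23952 Q23952 (allL N23952 (tt N24513 (iv F186692)) (tt N22872 F184315) (tt N24282 (iv F185307)) (tt N22981 F184316) (tt N25039 D40966) (tt N22800 (iv D39879)) (tt N24407 (iv F186064)) (tt N22835 F184317) (tt N22801 F184318) (tt N25040 D40967))
theorem Q23954 : ∀ i, i < 23954 → P i := stepQ 23953 Q23953 (allL N23953 (tt N24514 (iv F186697)) (tt N22873 F184319) (tt N25038 (iv F188841)) (tt N22982 F184320) (tt N22915 F184321) (tt N25040 (iv F188852)) (tt N24508 (iv F186663)) (tt N22836 F184322) (tt N22896 F184323) (tt N22800 (iv D39880)))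
theorem Q23955 : ∀ i, i < 23955 → P i := stepQ 23954 Q23954 (allL N23954 (tt N24515 (iv F186704)) (tt N22874 F184324) (tt N24281 (iv F185300)) (tt N23051 F184325) (tt N22801 (iv D39881)) (tt N22802 F184326) (tt N24406 (iv F186060)) (tt N22837 F184327) (tt N25039 (iv F188849)) (tt N24314 (iv F185508)))
theorem Q23956 : ∀ i, i < 23956 → P i := stepQ 23955 Q23955 (allL N23955 (tt N24532 (iv F186792)) (tt N22805 F184328) (tt N22890 F184329) (tt N22910 F184330) (tt N22829 F184331) (tt N22803 (iv D39882)) (tt N24608 (iv F187164)) (tt N22906 F184332) (tt N25041 D40968) (tt N22859 F184333))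
theorem Q23957 : ∀ i, i < 23957 → P i := stepQ 23956 Q23956 (allL N23956 (tt N24456 (iv F186357)) (tt N22910 F184334) (tt N23033 F184335) (tt N22805 F184336) (tt N25042 D40969) (tt N22804 (iv D39883)) (tt N24609 (iv F187171)) (tt N22908 F184337) (tt N25043 D40970) (tt N22862 F184338))
theorem Q23958 : ∀ i, i < 23958 → P i := stepQ 23957 Q23957 (allL N23957 (tt N24457 (iv F186363)) (tt N25041 (iv F188854)) (tt N22808 F184339) (tt N25043 (iv F188868)) (tt N22832 F184340) (tt N25044 D40971) (tt N24610 (iv F187177)) (tt N22909 F184341) (tt N22805 (iv D39884)) (tt N25045 D40972))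
theorem Q23959 : ∀ i, i < 23959 → P i := stepQ 23958 Q23958 (allL N23958 (tt N24458 (iv F186368)) (tt N22908 F184342) (tt N22809 F184343) (tt N22906 F184344) (tt N25046 D40973) (tt N22806 (iv D39885)) (tt N24784 (iv F187975)) (tt N22910 F184345) (tt N25044 (iv F188875)) (tt N22930 F184346))
theorem Q23960 : ∀ i, i < 23960 → P i := stepQ 23959 Q23959 (allL N23959 (tt N24460 (iv F186381)) (tt N22972 F184347) (tt N22813 F184348) (tt N23075 F184349) (tt N22807 (iv D39886)) (tt N25046 (iv F188883)) (tt N22838 F184350) (tt N22912 F184351) (tt N22834 F184352) (tt N22974 F184353))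
theorem Q23961 : ∀ i, i < 23961 → P i := stepQ 23960 Q23960 (allL N23960 (tt N24461 (iv F186389)) (tt N22895 F184354) (tt N25044 (iv F188872)) (tt N23038 F184355) (tt N25047 D40974) (tt N22808 (iv D39887)) (tt N25048 D40975) (tt N22914 F184356) (tt N22809 F184357) (tt N25049 D40976))
theorem Q23962 : ∀ i, i < 23962 → P i := stepQ 23961 Q23961 (allL N23961 (tt N24462 (iv F186394)) (tt N22896 F184358) (tt N25045 (iv F188876)) (tt N23039 F184359) (tt N22836 F184360) (tt N25049 (iv F188896)) (tt N24613 (iv F187196)) (tt N22915 F184361) (tt N22873 F184362) (tt N22808 (iv D39888)))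
theorem Q23963 : ∀ i, i < 23963 → P i := stepQ 23962 Q23962 (allL N23962 (tt N24463 (iv F186401)) (tt N22897 F184363) (tt N25046 (iv F188881)) (tt N23104 (iv F184366)) (tt N22809 (iv D39889)) (tt N22813 F184364) (tt N25050 D40977) (tt N22916 F184365) (tt N25047 (iv F188889)) (tt N25051 D40978))
theorem Q23964 : ∀ i, i < 23964 → P i := stepQ 23963 Q23963 (allL N23963 (tt N24464 (iv F186406)) (tt N22898 F184367) (tt N24784 (iv F187973)) (tt N23041 F184368) (tt N25050 (iv F188900)) (tt N22811 F184369) (tt N22809 (iv D39890)) (tt N25052 D40979) (tt N25048 (iv F188893)) (tt N24890 (iv F188414)))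
theorem Q23965 : ∀ i, i < 23965 → P i := stepQ 23964 Q23964 (allL N23964 (tt N24465 (iv F186410)) (tt N22899 F184370) (tt N22930 F184371) (tt N23042 F184372) (tt N25051 (iv F188905)) (tt N22810 F184373) (tt N24890 (iv F188413)) (tt N22918 F184374) (tt N25053 D40980) (tt N22809 (iv D39891)))
theorem Q23966 : ∀ i, i < 23966 → P i := stepQ 23965 Q23965 (allL N23965 (tt N24466 (iv F186416)) (tt N22900 F184375) (tt N24270 (iv F185224)) (tt N23043 F184376) (tt N22841 F184377) (tt N25052 (iv F188910)) (tt N22812 F184378) (tt N22811 (iv D39892)) (tt N23000 F184379) (tt N24586 (iv F187061)))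
theorem Q23967 : ∀ i, i < 23967 → P i := stepQ 23966 Q23966 (allL N23966 (tt N24468 (iv F186432)) (tt N22902 F184380) (tt N22974 F184381) (tt N23086 F184382) (tt N22814 F184383) (tt N25051 (iv F188906)) (tt N22842 F184384) (tt N22923 F184385) (tt N24343 (iv F185679)) (tt N22813 (iv D39893)))
theorem Q23968 : ∀ i, i < 23968 → P i := stepQ 23967 Q23967 (allL N23967 (tt N24747 (iv F187818)) (tt N22817 F184386) (tt N22906 F184387) (tt N23035 F184388) (tt N22859 F184389) (tt N22815 (iv D39894)) (tt N24665 (iv F187482)) (tt N22890 F184390) (tt N25054 D40981) (tt N22829 F184391))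
theorem Q23969 : ∀ i, i < 23969 → P i := stepQ 23968 Q23968 (allL N23968 (tt N24291 (iv F185356)) (tt N23035 F184392) (tt N22988 F184393) (tt N22817 F184394) (tt N25055 D40982) (tt N22816 (iv D39895)) (tt N24666 (iv F187489)) (tt N22891 F184395) (tt N25056 D40983) (tt N22831 F184396))
theorem Q23970 : ∀ i, i < 23970 → P i := stepQ 23969 Q23969 (allL N23969 (tt N24446 (iv F186292)) (tt N25054 (iv F188917)) (tt N22821 F184397) (tt N25056 (iv F188931)) (tt N22864 F184398) (tt N25057 D40984) (tt N24667 (iv F187496)) (tt N22892 F184399) (tt N22817 (iv D39896)) (tt N25058 D40985))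
theorem Q23971 : ∀ i, i < 23971 → P i := stepQ 23970 Q23970 (allL N23970 (tt N24422 (iv F186138)) (tt N23033 F184400) (tt N22822 F184401) (tt N23032 F184402) (tt N25059 D40986) (tt N22818 (iv D39897)) (tt N25060 D40987) (tt N22893 F184403) (tt N25057 (iv F188938)) (tt N23049 F184404))
theorem Q23972 : ∀ i, i < 23972 → P i := stepQ 23971 Q23971 (allL N23971 (tt N24400 (iv F186012)) (tt N23001 F184405) (tt N22823 F184406) (tt N23000 F184407) (tt N23971 F184408) (tt N25060 (iv F188952)) (tt N22819 (iv D39898)) (tt N23005 F184409) (tt N23043 F184410) (tt N23007 F184411))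
theorem Q23973 : ∀ i, i < 23973 → P i := stepQ 23972 Q23972 (allL N23972 (tt N24429 (iv F186184)) (tt N23103 F184412) (tt N22825 F184413) (tt N22881 F184414) (tt N22820 (iv D39899)) (tt N25059 (iv F188946)) (tt N23972 F184415) (tt N22894 F184416) (tt N22870 F184417) (tt N22880 F184418))
theorem Q23974 : ∀ i, i < 23974 → P i := stepQ 23973 Q23973 (allL N23973 (tt N24447 (iv F186297)) (tt N22914 F184419) (tt N25057 (iv F188935)) (tt N22990 F184420) (tt N25061 D40988) (tt N22821 (iv D39900)) (tt N25062 D40989) (tt N22895 F184421) (tt N22822 F184422) (tt N25063 D40990))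
theorem Q23975 : ∀ i, i < 23975 → P i := stepQ 23974 Q23974 (allL N23974 (tt N24448 (iv F186302)) (tt N22915 F184423) (tt N25058 (iv F188939)) (tt N22991 F184424) (tt N22873 F184425) (tt N25063 (iv F188964)) (tt N24669 (iv F187508)) (tt N22896 F184426) (tt N22836 F184427) (tt N22821 (iv D39901)))
theorem Q23976 : ∀ i, i < 23976 → P i := stepQ 23975 Q23975 (allL N23975 (tt N24449 (iv F186309)) (tt N22916 F184428) (tt N25059 (iv F188944)) (tt N25064 D40991) (tt N22822 (iv D39902)) (tt N22825 F184429) (tt N25065 D40992) (tt N22897 F184430) (tt N25061 (iv F188958)) (tt N24334 (iv F185628)))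
theorem Q23977 : ∀ i, i < 23977 → P i := stepQ 23976 Q23976 (allL N23976 (tt N24450 (iv F186314)) (tt N22917 F184431) (tt N25060 (iv F188950)) (tt N22993 F184432) (tt N25065 (iv F188971)) (tt N22823 F184433) (tt N22822 (iv D39903)) (tt N25066 D40993) (tt N25062 (iv F188961)) (tt N24335 (iv F185634)))
theorem Q23978 : ∀ i, i < 23978 → P i := stepQ 23977 Q23977 (allL N23977 (tt N24392 (iv F185966)) (tt N22919 F184434) (tt N23005 F184435) (tt N22994 F184436) (tt N23977 F184437) (tt N25066 (iv F188976)) (tt N22824 F184438) (tt N22823 (iv D39904)) (tt N23036 F184439) (tt N24336 (iv F185642)))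
theorem Q23979 : ∀ i, i < 23979 → P i := stepQ 23978 Q23978 (allL N23978 (tt N24451 (iv F186319)) (tt N22922 F184440) (tt N24378 (iv F185870)) (tt N22825 (iv D39905)) (tt N22826 F184441) (tt N25064 (iv F188968)) (tt N23978 F184442) (tt N22901 F184443) (tt N22880 F184444) (tt N24379 (iv F185883)))
theorem Q23980 : ∀ i, i < 23980 → P i := stepQ 23979 Q23979 (allL N23979 (tt N22829 F184445) (tt N24656 (iv F187431)) (tt N22928 F184446) (tt N24752 (iv F187849)) (tt N24532 (iv F186795)) (tt N22827 (iv D39906)) (tt N24650 (iv F187415)) (tt N24807 (iv F188074)) (tt N25067 D40994) (tt N24747 (iv F187824)))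
theorem Q23981 : ∀ i, i < 23981 → P i := stepQ 23980 Q23980 (allL N23980 (tt N24752 (iv F187846)) (tt N22831 F184447) (tt N23042 F184448) (tt N22829 F184449) (tt N25068 D40995) (tt N22828 (iv D39907)) (tt N24882 (iv F188390)) (tt N23074 F184450) (tt N25069 D40996) (tt N23035 F184451))
theorem Q23982 : ∀ i, i < 23982 → P i := stepQ 23981 Q23981 (allL N23981 (tt N25067 (iv F188978)) (tt N22832 F184452) (tt N22931 F184453) (tt N25069 (iv F188988)) (tt N25041 (iv F188857)) (tt N25070 D40997) (tt N24883 (iv F188394)) (tt N25037 (iv F188840)) (tt N22829 (iv D39908)) (tt N25071 D40998))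
theorem Q23983 : ∀ i, i < 23983 → P i := stepQ 23982 Q23982 (allL N23982 (tt N24772 (iv F187925)) (tt N22833 F184454) (tt N22932 F184455) (tt N23056 F184456) (tt N24352 (iv F185717)) (tt N22830 (iv D39909)) (tt N24525 (iv F186761)) (tt N23094 F184457) (tt N25070 (iv F188995)) (tt N23053 F184458))
theorem Q23984 : ∀ i, i < 23984 → P i := stepQ 23983 Q23983 (allL N23983 (tt N24790 (iv F187997)) (tt N25068 (iv F188980)) (tt N22996 F184459) (tt N25042 (iv F188862)) (tt N22831 (iv D39910)) (tt N23064 F184460) (tt N24884 (iv F188397)) (tt N24285 (iv F185328)) (tt N25072 D40999) (tt N25055 (iv F188928)))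
theorem Q23985 : ∀ i, i < 23985 → P i := stepQ 23984 Q23984 (allL N23984 (tt N24788 (iv F187989)) (tt N25069 (iv F188986)) (tt N22997 F184461) (tt N22832 F184462) (tt N25072 (iv F188999)) (tt N23063 F184463) (tt N24885 (iv F188400)) (tt N24283 (iv F185315)) (tt N22831 (iv D39911)) (tt N25073 D41000))
theorem Q23986 : ∀ i, i < 23986 → P i := stepQ 23985 Q23985 (allL N23985 (tt N24787 (iv F187984)) (tt N25070 (iv F188991)) (tt N22835 F184464) (tt N23063 F184465) (tt N25074 D41001) (tt N22832 (iv D39912)) (tt N24531 (iv F186791)) (tt N24282 (iv F185311)) (tt N22833 F184466) (tt N25075 D41002))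
theorem Q23987 : ∀ i, i < 23987 → P i := stepQ 23986 Q23986 (allL N23986 (tt N25036 (iv F188833)) (tt N25071 (iv F188996)) (tt N22836 F184467) (tt N25073 (iv F189001)) (tt N25045 (iv F188877)) (tt N25075 (iv F189007)) (tt N24887 (iv F188404)) (tt N25038 (iv F188843)) (tt N25058 (iv F188942)) (tt N22832 (iv D39913)))
theorem Q23988 : ∀ i, i < 23988 → P i := stepQ 23987 Q23987 (allL N23987 (tt N24786 (iv F187979)) (tt N24352 (iv F185714)) (tt N22837 F184468) (tt N24290 (iv F185351)) (tt N22833 (iv D39914)) (tt N22834 F184469) (tt N24530 (iv F186786)) (tt N24281 (iv F185304)) (tt N25074 (iv F189004)) (tt N24262 (iv F185169)))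
theorem Q23989 : ∀ i, i < 23989 → P i := stepQ 23988 Q23988 (allL N23988 (tt N24798 (iv F188024)) (tt N22948 F184470) (tt N25074 (iv F189003)) (tt N23089 F184471) (tt N22835 (iv D39915)) (tt N25047 (iv F188887)) (tt N24804 (iv F188055)) (tt N25039 (iv F188848)) (tt N22837 F184472) (tt N25076 D41003))
theorem Q23990 : ∀ i, i < 23990 → P i := stepQ 23989 Q23989 (allL N23989 (tt N24799 (iv F188028)) (tt N22950 F184473) (tt N25075 (iv F189005)) (tt N22999 F184474) (tt N25076 (iv F189010)) (tt N22836 F184475) (tt N24806 (iv F188065)) (tt N25040 (iv F188853)) (tt N24333 (iv F185622)) (tt N22835 (iv D39916)))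
theorem Q23991 : ∀ i, i < 23991 → P i := stepQ 23990 Q23990 (allL N23990 (tt N24862 (iv F188275)) (tt N22957 F184476) (tt N24855 (iv F188242)) (tt N23106 F184477) (tt N22840 F184478) (tt N25050 (iv F188901)) (tt N22839 (iv D39917)) (tt N25077 D41004) (tt N24720 (iv F187717)) (tt N24900 (iv F188445)))
theorem Q23992 : ∀ i, i < 23992 → P i := stepQ 23991 Q23991 (allL N23991 (tt N24859 (iv F188260)) (tt N22958 F184479) (tt N24271 (iv F185232)) (tt N23991 F184480) (tt N25077 (iv F189013)) (tt N22841 F184481) (tt N23991 F184482) (tt N22840 (iv D39918)) (tt N23131 F184483) (tt N24600 (iv F187115)))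
theorem Q23993 : ∀ i, i < 23993 → P i := stepQ 23992 Q23992 (allL N23992 (tt N24539 (iv F186826)) (tt N22845 F184484) (tt N22920 F184485) (tt N22844 F184486) (tt N23992 F184487) (tt N25078 D41005) (tt N22843 (iv D39919)) (tt N24552 (iv F186893)) (tt N24551 (iv F186886)) (tt N22911 F184488))
theorem Q23994 : ∀ i, i < 23994 → P i := stepQ 23993 Q23993 (allL N23993 (tt N24837 (iv F188181)) (tt N22847 F184489) (tt N24505 (iv F186641)) (tt N25078 (iv F189018)) (tt N24665 (iv F187481)) (tt N22844 (iv D39920)) (tt N22859 F184490) (tt N24624 (iv F187273)) (tt N25079 D41006) (tt N24608 (iv F187166)))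
theorem Q23995 : ∀ i, i < 23995 → P i := stepQ 23994 Q23994 (allL N23994 (tt N24430 (iv F186192)) (tt N25078 (iv F189016)) (tt N23009 F184491) (tt N22847 F184492) (tt N25080 D41007) (tt N22845 (iv D39921)) (tt N22862 F184493) (tt N24625 (iv F187279)) (tt N25081 D41008) (tt N24609 (iv F187173)))
theorem Q23996 : ∀ i, i < 23996 → P i := stepQ 23995 Q23995 (allL N23995 (tt N24431 (iv F186199)) (tt N24551 (iv F186880)) (tt N23010 F184494) (tt N22848 F184495) (tt N23995 F184496) (tt N25082 D41009) (tt N22846 F184497) (tt N24308 (iv F185469)) (tt N22845 (iv D39922)) (tt N24307 F185462))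
theorem Q23997 : ∀ i, i < 23997 → P i := stepQ 23996 Q23996 (allL N23996 (tt N24432 (iv F186207)) (tt N25079 (iv F189021)) (tt N22851 F184498) (tt N25081 (iv F189027)) (tt N24667 (iv F187494)) (tt N25083 D41010) (tt N22864 F184499) (tt N24626 (iv F187285)) (tt N22847 (iv D39923)) (tt N25084 D41011))
theorem Q23998 : ∀ i, i < 23998 → P i := stepQ 23997 Q23997 (allL N23997 (tt N24433 (iv F186213)) (tt N24824 (iv F188142)) (tt N22852 F184500) (tt N25082 (iv F189030)) (tt N25085 D41012) (tt N22848 (iv D39924)) (tt N25086 D41013) (tt N24627 (iv F187291)) (tt N25083 (iv F189032)) (tt N24693 (iv F187607)))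
theorem Q23999 : ∀ i, i < 23999 → P i := stepQ 23998 Q23998 (allL N23998 (tt N24435 (iv F186225)) (tt N24700 (iv F187634)) (tt N22853 F184501) (tt N24560 (iv F186939)) (tt N23998 F184502) (tt N25086 (iv F189039)) (tt N22849 (iv D39925)) (tt N24443 (iv F186278)) (tt N22867 F184503) (tt N24442 F186271))
theorem Q24000 : ∀ i, i < 24000 → P i := stepQ 23999 Q23999 (allL N23999 (tt N24436 (iv F186233)) (tt N24876 (iv F188355)) (tt N22855 F184504) (tt N25087 D41014) (tt N22850 (iv D39926)) (tt N25085 (iv F189036)) (tt N23999 F184505) (tt N23112 F184506) (tt N23114 F184507) (tt N24874 (iv F188349)))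
theorem Q24001 : ∀ i, i < 24001 → P i := stepQ 24000 Q24000 (allL N24000 (tt N24437 (iv F186239)) (tt N24507 (iv F186654)) (tt N25083 (iv F189031)) (tt N23017 F184508) (tt N25088 D41015) (tt N22851 (iv D39927)) (tt N25089 D41016) (tt N24628 (iv F187296)) (tt N22852 F184509) (tt N25090 D41017))
theorem Q24002 : ∀ i, i < 24002 → P i := stepQ 24001 Q24001 (allL N24001 (tt N24438 (iv F186244)) (tt N24508 (iv F186660)) (tt N25084 (iv F189033)) (tt N23018 F184510) (tt N24669 (iv F187507)) (tt N25090 (iv F189049)) (tt N22873 F184511) (tt N24629 (iv F187303)) (tt N24613 (iv F187198)) (tt N22851 (iv D39928)))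
theorem Q24003 : ∀ i, i < 24003 → P i := stepQ 24002 Q24002 (allL N24002 (tt N24439 (iv F186251)) (tt N24509 (iv F186667)) (tt N25085 (iv F189035)) (tt N25091 D41018) (tt N22852 (iv D39929)) (tt N22855 F184512) (tt N25092 D41019) (tt N24630 (iv F187309)) (tt N25088 (iv F189044)) (tt N24956 (iv F188624)))
theorem Q24004 : ∀ i, i < 24004 → P i := stepQ 24003 Q24003 (allL N24003 (tt N24440 (iv F186255)) (tt N24408 (iv F186066)) (tt N25086 (iv F189038)) (tt N23020 F184513) (tt N25092 (iv F189052)) (tt N22853 F184514) (tt N22852 (iv D39930)) (tt N25093 D41020) (tt N25089 (iv F189047)) (tt N24957 (iv F188628)))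
theorem Q24005 : ∀ i, i < 24005 → P i := stepQ 24004 Q24004 (allL N24004 (tt N24442 (iv F186264)) (tt N24388 (iv F185941)) (tt N24443 (iv F186274)) (tt N23022 F184515) (tt N24004 F184516) (tt N25093 (iv F189055)) (tt N22854 F184517) (tt N22853 (iv D39931)) (tt N22877 F184518) (tt N24435 (iv F186232)))
theorem Q24006 : ∀ i, i < 24006 → P i := stepQ 24005 Q24005 (allL N24005 (tt N24444 (iv F186280)) (tt N24510 (iv F186673)) (tt N25094 D41021) (tt N22855 (iv D39932)) (tt N22856 F184519) (tt N25091 (iv F189051)) (tt N24005 F184520) (tt N24632 (iv F187321)) (tt N24601 (iv F187121)) (tt N24958 (iv F188634)))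
theorem Q24007 : ∀ i, i < 24007 → P i := stepQ 24006 Q24006 (allL N24006 (tt N24445 (iv F186286)) (tt N25026 (iv F188804)) (tt N22856 (iv D39933)) (tt N24006 F184521) (tt N25094 (iv F189056)) (tt N23029 F184522) (tt N24006 F184523) (tt N24633 (iv F187329)) (tt N24600 (iv F187114)) (tt N25024 (iv F188799)))
theorem Q24008 : ∀ i, i < 24008 → P i := stepQ 24007 Q24007 (allL N24007 (tt N22859 F184524) (tt N24470 (iv F186449)) (tt N24807 (iv F188069)) (tt N24537 (iv F186815)) (tt N24747 (iv F187822)) (tt N22857 (iv D39934)) (tt N24837 (iv F188185)) (tt N22928 F184525) (tt N25095 D41022) (tt N24532 (iv F186798)))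
theorem Q24009 : ∀ i, i < 24009 → P i := stepQ 24008 Q24008 (allL N24008 (tt N24537 (iv F186813)) (tt N22862 F184526) (tt N22918 F184527) (tt N22859 F184528) (tt N25096 D41023) (tt N22858 (iv D39935)) (tt N25078 (iv F189019)) (tt N22930 F184529) (tt N25097 D41024) (tt N22910 F184530))
theorem Q24010 : ∀ i, i < 24010 → P i := stepQ 24009 Q24009 (allL N24009 (tt N25095 (iv F189058)) (tt N22864 F184531) (tt N25037 (iv F188836)) (tt N25097 (iv F189068)) (tt N25054 (iv F188920)) (tt N25098 D41025) (tt N25079 (iv F189022)) (tt N22931 F184532) (tt N22859 (iv D39936)) (tt N25099 D41026))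
theorem Q24011 : ∀ i, i < 24011 → P i := stepQ 24010 Q24010 (allL N24010 (tt N24573 (iv F186992)) (tt N22865 F184533) (tt N23094 F184534) (tt N22944 F184535) (tt N25100 D41027) (tt N22860 (iv D39937)) (tt N24699 (iv F187631)) (tt N22932 F184536) (tt N25098 (iv F189075)) (tt N22937 F184537))
theorem Q24012 : ∀ i, i < 24012 → P i := stepQ 24011 Q24011 (allL N24011 (tt N24606 (iv F187144)) (tt N22870 F184538) (tt N23105 F184539) (tt N24376 (iv F185859)) (tt N22861 (iv D39938)) (tt N25100 (iv F189080)) (tt N24011 F184540) (tt N22934 F184541) (tt N23103 F184542) (tt N22976 F184543))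
theorem Q24013 : ∀ i, i < 24013 → P i := stepQ 24012 Q24012 (allL N24012 (tt N24481 (iv F186519)) (tt N25096 (iv F189060)) (tt N23051 F184544) (tt N25055 (iv F188925)) (tt N22862 (iv D39939)) (tt N22970 F184545) (tt N25080 (iv F189025)) (tt N22935 F184546) (tt N25101 D41028) (tt N25042 (iv F188865)))
theorem Q24014 : ∀ i, i < 24014 → P i := stepQ 24013 Q24013 (allL N24013 (tt N24482 (iv F186523)) (tt N25097 (iv F189066)) (tt N23052 F184547) (tt N22864 F184548) (tt N25101 (iv F189084)) (tt N25102 D41029) (tt N25081 (iv F189028)) (tt N22936 F184549) (tt N22862 (iv D39940)) (tt N25103 D41030))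
theorem Q24015 : ∀ i, i < 24015 → P i := stepQ 24014 Q24014 (allL N24014 (tt N24483 (iv F186527)) (tt N22944 F184550) (tt N23053 F184551) (tt N22865 F184552) (tt N24350 (iv F185704)) (tt N22863 (iv D39941)) (tt N24559 (iv F186934)) (tt N22937 F184553) (tt N25102 (iv F189090)) (tt N22932 F184554))
theorem Q24016 : ∀ i, i < 24016 → P i := stepQ 24015 Q24015 (allL N24015 (tt N24485 (iv F186541)) (tt N25098 (iv F189071)) (tt N22872 F184555) (tt N25102 (iv F189088)) (tt N25104 D41031) (tt N22864 (iv D39942)) (tt N25105 D41032) (tt N22940 F184556) (tt N22865 F184557) (tt N25106 D41033))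
theorem Q24017 : ∀ i, i < 24017 → P i := stepQ 24016 Q24016 (allL N24016 (tt N24486 (iv F186545)) (tt N25099 (iv F189076)) (tt N22873 F184558) (tt N25103 (iv F189092)) (tt N25058 (iv F188940)) (tt N25106 (iv F189100)) (tt N25084 (iv F189034)) (tt N22941 F184559) (tt N25045 (iv F188879)) (tt N22864 (iv D39943)))
theorem Q24018 : ∀ i, i < 24018 → P i := stepQ 24017 Q24017 (allL N24017 (tt N24487 (iv F186548)) (tt N25100 (iv F189078)) (tt N22874 F184560) (tt N25107 D41034) (tt N22865 (iv D39944)) (tt N22870 F184561) (tt N25108 D41035) (tt N22942 F184562) (tt N25104 (iv F189096)) (tt N25109 D41036))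
theorem Q24019 : ∀ i, i < 24019 → P i := stepQ 24018 Q24018 (allL N24018 (tt N24488 (iv F186552)) (tt N24699 (iv F187628)) (tt N22875 F184563) (tt N24559 (iv F186933)) (tt N25108 (iv F189105)) (tt N22867 F184564) (tt N22865 (iv D39945)) (tt N25110 D41037) (tt N25105 (iv F189098)) (tt N25111 D41038))
theorem Q24020 : ∀ i, i < 24020 → P i := stepQ 24019 Q24019 (allL N24019 (tt N24489 (iv F186555)) (tt N22937 F184565) (tt N22876 F184566) (tt N22932 F184567) (tt N25109 (iv F189109)) (tt N22866 F184568) (tt N25111 (iv F189119)) (tt N22944 F184569) (tt N25112 D41039) (tt N22865 (iv D39946)))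
theorem Q24021 : ∀ i, i < 24021 → P i := stepQ 24020 Q24020 (allL N24020 (tt N24490 (iv F186560)) (tt N24646 (iv F187389)) (tt N22877 F184570) (tt N24472 (iv F186465)) (tt N24020 F184571) (tt N25110 (iv F189113)) (tt N22869 F184572) (tt N22867 (iv D39947)) (tt N24443 F186279) (tt N24504 (iv F186638)))
theorem Q24022 : ∀ i, i < 24022 → P i := stepQ 24021 Q24021 (allL N24021 (tt N24491 (iv F186568)) (tt N22938 F184573) (tt N22878 F184574) (tt N22933 F184575) (tt N24021 F184576) (tt N25111 (iv F189118)) (tt N22868 F184577) (tt N24504 (iv F186637)) (tt N24503 (iv F186630)) (tt N22867 (iv D39948)))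
theorem Q24023 : ∀ i, i < 24023 → P i := stepQ 24022 Q24022 (allL N24022 (tt N24492 (iv F186576)) (tt N24376 (iv F185857)) (tt N24379 (iv F185878)) (tt N22870 (iv D39949)) (tt N22882 F184578) (tt N25107 (iv F189102)) (tt N24022 F184579) (tt N22946 F184580) (tt N22881 F184581) (tt N24378 (iv F185875)))
theorem Q24024 : ∀ i, i < 24024 → P i := stepQ 24023 Q24023 (allL N24023 (tt N24493 (iv F186583)) (tt N22976 F184582) (tt N22881 F184583) (tt N24378 (iv F185871)) (tt N22871 F184584) (tt N25109 (iv F189110)) (tt N24023 F184585) (tt N22947 F184586) (tt N24379 (iv F185882)) (tt N22870 (iv D39950)))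
theorem Q24025 : ∀ i, i < 24025 → P i := stepQ 24024 Q24024 (allL N24024 (tt N24494 (iv F186590)) (tt N25039 (iv F188845)) (tt N25104 (iv F189094)) (tt N25113 D41040) (tt N22872 (iv D39951)) (tt N25061 (iv F188956)) (tt N25114 D41041) (tt N22948 F184587) (tt N22874 F184588) (tt N25115 D41042))
theorem Q24026 : ∀ i, i < 24026 → P i := stepQ 24025 Q24025 (allL N24025 (tt N24495 (iv F186593)) (tt N24407 (iv F186061)) (tt N25105 (iv F189097)) (tt N23057 F184589) (tt N25114 (iv F189129)) (tt N25089 (iv F189046)) (tt N22872 (iv D39952)) (tt N25116 D41043) (tt N22875 F184590) (tt N25117 D41044))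
theorem Q24027 : ∀ i, i < 24027 → P i := stepQ 24026 Q24026 (allL N24026 (tt N24496 (iv F186596)) (tt N25040 (iv F188850)) (tt N25106 (iv F189099)) (tt N23058 F184591) (tt N25115 (iv F189131)) (tt N22873 F184592) (tt N25117 (iv F189137)) (tt N22950 F184593) (tt N25118 D41045) (tt N22872 (iv D39953)))
theorem Q24028 : ∀ i, i < 24028 → P i := stepQ 24027 Q24027 (allL N24027 (tt N24497 (iv F186600)) (tt N23051 F184594) (tt N24334 (iv F185625)) (tt N22874 (iv D39954)) (tt N23049 F184595) (tt N22880 F184596) (tt N25119 D41046) (tt N22951 F184597) (tt N25113 (iv F189128)) (tt N25059 (iv F188948)))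
theorem Q24029 : ∀ i, i < 24029 → P i := stepQ 24028 Q24028 (allL N24028 (tt N24498 (iv F186605)) (tt N24406 (iv F186056)) (tt N25108 (iv F189104)) (tt N25119 (iv F189142)) (tt N22875 F184598) (tt N24028 F184599) (tt N22874 (iv D39955)) (tt N25120 D41047) (tt N25114 (iv F189130)) (tt N25121 D41048))
theorem Q24030 : ∀ i, i < 24030 → P i := stepQ 24029 Q24029 (allL N24029 (tt N24499 (iv F186608)) (tt N24314 (iv F185503)) (tt N25109 (iv F189108)) (tt N25059 (iv F188945)) (tt N22876 F184600) (tt N22881 F184601) (tt N25121 (iv F189150)) (tt N22953 F184602) (tt N25122 D41049) (tt N22874 (iv D39956)))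
theorem Q24031 : ∀ i, i < 24031 → P i := stepQ 24030 Q24030 (allL N24030 (tt N24500 (iv F186612)) (tt N24387 (iv F185934)) (tt N25110 (iv F189112)) (tt N23059 F184603) (tt N25120 (iv F189145)) (tt N22877 F184604) (tt N22954 F184605) (tt N22875 (iv D39957)) (tt N25116 (iv F189135)) (tt N24717 (iv F187704)))
theorem Q24032 : ∀ i, i < 24032 → P i := stepQ 24031 Q24031 (allL N24031 (tt N24501 (iv F186616)) (tt N24294 (iv F185377)) (tt N25111 (iv F189116)) (tt N23060 F184606) (tt N25121 (iv F189148)) (tt N22878 F184607) (tt N22876 F184608) (tt N24717 (iv F187703)) (tt N25123 D41050) (tt N22875 (iv D39958)))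
theorem Q24033 : ∀ i, i < 24033 → P i := stepQ 24032 Q24032 (allL N24032 (tt N24502 (iv F186620)) (tt N24315 (iv F185510)) (tt N25112 (iv F189121)) (tt N23061 F184609) (tt N25122 (iv F189151)) (tt N25053 (iv F188915)) (tt N25123 (iv F189154)) (tt N22955 F184610) (tt N22876 (iv D39959)) (tt N25118 (iv F189140)))
theorem Q24034 : ∀ i, i < 24034 → P i := stepQ 24033 Q24033 (allL N24033 (tt N24504 (iv F186631)) (tt N24295 (iv F185384)) (tt N24503 (iv F186625)) (tt N23062 F184611) (tt N24033 F184612) (tt N25124 D41051) (tt N22879 F184613) (tt N24491 (iv F186574)) (tt N22878 (iv D39960)) (tt N24490 F186567))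
theorem Q24035 : ∀ i, i < 24035 → P i := stepQ 24034 Q24034 (allL N24034 (tt N24506 (iv F186647)) (tt N24269 (iv F185216)) (tt N22884 F184614) (tt N24292 (iv F185365)) (tt N23063 F184615) (tt N24329 (iv F185597)) (tt N24511 (iv F186683)) (tt N22989 F184616) (tt N22883 (iv D39961)) (tt N25125 D41052))
theorem Q24036 : ∀ i, i < 24036 → P i := stepQ 24035 Q24035 (allL N24035 (tt N24507 (iv F186653)) (tt N23038 F184617) (tt N24329 (iv F185595)) (tt N22895 F184618) (tt N25126 D41053) (tt N22884 (iv D39962)) (tt N25127 D41054) (tt N22990 F184619) (tt N22885 F184620) (tt N25128 D41055))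
theorem Q24037 : ∀ i, i < 24037 → P i := stepQ 24036 Q24036 (allL N24036 (tt N24508 (iv F186659)) (tt N23039 F184621) (tt N25125 (iv F189156)) (tt N22896 F184622) (tt N23065 F184623) (tt N25128 (iv F189169)) (tt N24514 (iv F186701)) (tt N22991 F184624) (tt N22982 F184625) (tt N22884 (iv D39963)))
theorem Q24038 : ∀ i, i < 24038 → P i := stepQ 24037 Q24037 (allL N24037 (tt N24509 (iv F186666)) (tt N23040 F184626) (tt N24326 (iv F185577)) (tt N25129 D41056) (tt N22885 (iv D39964)) (tt N22888 F184627) (tt N25130 D41057) (tt N22992 F184628) (tt N25126 (iv F189163)) (tt N24318 (iv F185532)))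
theorem Q24039 : ∀ i, i < 24039 → P i := stepQ 24038 Q24038 (allL N24038 (tt N24408 (iv F186065)) (tt N23041 F184629) (tt N24328 (iv F185589)) (tt N22898 F184630) (tt N25130 (iv F189176)) (tt N22886 F184631) (tt N22885 (iv D39965)) (tt N25131 D41058) (tt N25127 (iv F189166)) (tt N24319 (iv F185538)))
theorem Q24040 : ∀ i, i < 24040 → P i := stepQ 24039 Q24039 (allL N24039 (tt N24388 (iv F185940)) (tt N23043 F184632) (tt N24330 (iv F185601)) (tt N22900 F184633) (tt N24039 F184634) (tt N25131 (iv F189180)) (tt N22887 F184635) (tt N22886 (iv D39966)) (tt N23001 F184636) (tt N24320 (iv F185546)))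
theorem Q24041 : ∀ i, i < 24041 → P i := stepQ 24040 Q24040 (allL N24040 (tt N24510 (iv F186672)) (tt N23047 F184637) (tt N24376 (iv F185858)) (tt N22888 (iv D39967)) (tt N22889 F184638) (tt N25129 (iv F189173)) (tt N24040 F184639) (tt N22995 F184640) (tt N23066 F184641) (tt N24321 (iv F185554)))
theorem Q24042 : ∀ i, i < 24042 → P i := stepQ 24041 Q24041 (allL N24041 (tt N24805 (iv F188056)) (tt N22892 F184642) (tt N25041 (iv F188855)) (tt N23071 F184643) (tt N22931 F184644) (tt N23070 F184645) (tt N24643 (iv F187371)) (tt N25054 (iv F188922)) (tt N22890 (iv D39968)) (tt N25132 D41059))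
theorem Q24043 : ∀ i, i < 24043 → P i := stepQ 24042 Q24042 (allL N24042 (tt N24289 (iv F185343)) (tt N23073 F184646) (tt N24290 (iv F185350)) (tt N22935 F184647) (tt N22891 (iv D39969)) (tt N22971 F184648) (tt N24278 (iv F185282)) (tt N25055 (iv F188927)) (tt N25133 D41060) (tt N24285 (iv F185329)))
theorem Q24044 : ∀ i, i < 24044 → P i := stepQ 24043 Q24043 (allL N24043 (tt N24287 (iv F185334)) (tt N23071 F184649) (tt N24292 (iv F185364)) (tt N22892 F184650) (tt N25133 (iv F189188)) (tt N23068 F184651) (tt N24276 (iv F185267)) (tt N25056 (iv F188933)) (tt N22891 (iv D39970)) (tt N25134 D41061))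
theorem Q24045 : ∀ i, i < 24045 → P i := stepQ 24044 Q24044 (allL N24044 (tt N24417 (iv F186110)) (tt N23070 F184652) (tt N22895 F184653) (tt N23068 F184654) (tt N25135 D41062) (tt N22892 (iv D39971)) (tt N24384 (iv F185915)) (tt N25057 (iv F188937)) (tt N22893 F184655) (tt N25136 D41063))
theorem Q24046 : ∀ i, i < 24046 → P i := stepQ 24045 Q24045 (allL N24045 (tt N24516 (iv F186710)) (tt N25132 (iv F189182)) (tt N22896 F184656) (tt N25134 (iv F189191)) (tt N22941 F184657) (tt N25136 (iv F189201)) (tt N24744 (iv F187806)) (tt N25058 (iv F188941)) (tt N25038 (iv F188844)) (tt N22892 (iv D39972)))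
theorem Q24047 : ∀ i, i < 24047 → P i := stepQ 24046 Q24046 (allL N24046 (tt N24420 (iv F186125)) (tt N23069 F184658) (tt N22897 F184659) (tt N22953 F184660) (tt N22893 (iv D39973)) (tt N22894 F184661) (tt N24386 (iv F185930)) (tt N25059 (iv F188947)) (tt N25135 (iv F189197)) (tt N22951 F184662))
theorem Q24048 : ∀ i, i < 24048 → P i := stepQ 24047 Q24047 (allL N24047 (tt N24517 (iv F186714)) (tt N25047 (iv F188886)) (tt N25135 (iv F189194)) (tt N25137 D41064) (tt N22895 (iv D39974)) (tt N22948 F184663) (tt N25138 D41065) (tt N25061 (iv F188957)) (tt N22897 F184664) (tt N25139 D41066))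
theorem Q24049 : ∀ i, i < 24049 → P i := stepQ 24048 Q24048 (allL N24048 (tt N24409 (iv F186071)) (tt N25048 (iv F188891)) (tt N24384 (iv F185913)) (tt N25127 (iv F189165)) (tt N25138 (iv F189206)) (tt N24383 (iv F185908)) (tt N22895 (iv D39975)) (tt N25140 D41067) (tt N22898 F184665) (tt N25141 D41068))
theorem Q24050 : ∀ i, i < 24050 → P i := stepQ 24049 Q24049 (allL N24049 (tt N24518 (iv F186718)) (tt N25049 (iv F188894)) (tt N25136 (iv F189199)) (tt N25128 (iv F189168)) (tt N25139 (iv F189208)) (tt N22896 F184666) (tt N25141 (iv F189213)) (tt N25063 (iv F188965)) (tt N25142 D41069) (tt N22895 (iv D39976)))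
theorem Q24051 : ∀ i, i < 24051 → P i := stepQ 24050 Q24050 (allL N24050 (tt N24519 (iv F186721)) (tt N23104 F184667) (tt N25143 D41070) (tt N22897 (iv D39977)) (tt N25129 (iv F189172)) (tt N22901 F184668) (tt N25144 D41071) (tt N25064 (iv F188969)) (tt N25137 (iv F189205)) (tt N25145 D41072))
theorem Q24052 : ∀ i, i < 24052 → P i := stepQ 24051 Q24051 (allL N24051 (tt N24411 (iv F186080)) (tt N25050 (iv F188898)) (tt N24386 (iv F185927)) (tt N25144 (iv F189220)) (tt N22898 F184669) (tt N22957 F184670) (tt N22897 (iv D39978)) (tt N25146 D41073) (tt N25138 (iv F189207)) (tt N24974 (iv F188672)))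
theorem Q24053 : ∀ i, i < 24053 → P i := stepQ 24052 Q24052 (allL N24052 (tt N24520 (iv F186724)) (tt N25051 (iv F188902)) (tt N22951 F184671) (tt N25145 (iv F189224)) (tt N22899 F184672) (tt N22902 F184673) (tt N24974 (iv F188671)) (tt N24334 (iv F185627)) (tt N25147 D41074) (tt N22897 (iv D39979)))
theorem Q24054 : ∀ i, i < 24054 → P i := stepQ 24053 Q24053 (allL N24053 (tt N24390 (iv F185954)) (tt N25052 (iv F188908)) (tt N23004 F184674) (tt N25131 (iv F189179)) (tt N25146 (iv F189227)) (tt N22900 F184675) (tt N25066 (iv F188977)) (tt N22898 (iv D39980)) (tt N25140 (iv F189212)) (tt N24951 (iv F188604)))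
theorem Q24055 : ∀ i, i < 24055 → P i := stepQ 24054 Q24054 (allL N24054 (tt N24521 (iv F186730)) (tt N25053 (iv F188912)) (tt N23087 F184676) (tt N24316 (iv F185518)) (tt N25147 (iv F189230)) (tt N24315 (iv F185513)) (tt N24975 (iv F188674)) (tt N24332 (iv F185616)) (tt N22899 (iv D39981)) (tt N25142 (iv F189215)))
theorem Q24056 : ∀ i, i < 24056 → P i := stepQ 24055 Q24055 (allL N24055 (tt N24522 (iv F186736)) (tt N24343 (iv F185674)) (tt N22901 (iv D39982)) (tt N22947 F184677) (tt N22903 F184678) (tt N25143 (iv F189217)) (tt N22959 F184679) (tt N24378 (iv F185873)) (tt N22902 F184680) (tt N22946 (iv F184681)))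
theorem Q24057 : ∀ i, i < 24057 → P i := stepQ 24056 Q24056 (allL N24056 (tt N24523 (iv F186744)) (tt N23086 F184682) (tt N22946 F184683) (tt N22902 F184684) (tt N22904 F184685) (tt N25145 (iv F189225)) (tt N22960 F184686) (tt N24379 (iv F185881)) (tt N22947 F184687) (tt N22901 (iv D39983)))
theorem Q24058 : ∀ i, i < 24058 → P i := stepQ 24057 Q24057 (allL N24057 (tt N22906 F184688) (tt N24524 (iv F186753)) (tt N24747 (iv F187820)) (tt N24458 (iv F186370)) (tt N24807 (iv F188071)) (tt N22905 (iv D39984)) (tt N24768 (iv F187912)) (tt N24532 (iv F186797)) (tt N25148 D41075) (tt N22928 F184689))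
theorem Q24059 : ∀ i, i < 24059 → P i := stepQ 24058 Q24058 (allL N24058 (tt N25148 (iv F189231)) (tt N22909 F184690) (tt N25054 (iv F188918)) (tt N25044 (iv F188873)) (tt N25037 (iv F188838)) (tt N25043 (iv F188869)) (tt N24785 (iv F187978)) (tt N25041 (iv F188859)) (tt N22906 (iv D39985)) (tt N25149 D41076))
theorem Q24060 : ∀ i, i < 24060 → P i := stepQ 24059 Q24059 (allL N24059 (tt N24602 (iv F187122)) (tt N22912 F184691) (tt N23103 F184692) (tt N23064 F184693) (tt N22907 (iv D39986)) (tt N25042 (iv F188863)) (tt N24059 F184694) (tt N22972 F184695) (tt N23105 F184696) (tt N22970 F184697))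
theorem Q24061 : ∀ i, i < 24061 → P i := stepQ 24060 Q24060 (allL N24060 (tt N24530 (iv F186782)) (tt N25046 (iv F188880)) (tt N23069 F184698) (tt N24285 (iv F185326)) (tt N22908 (iv D39987)) (tt N22972 F184699) (tt N24786 (iv F187982)) (tt N25042 (iv F188864)) (tt N25150 D41077) (tt N22935 F184700))
theorem Q24062 : ∀ i, i < 24062 → P i := stepQ 24061 Q24061 (allL N24061 (tt N24531 (iv F186788)) (tt N25044 (iv F188871)) (tt N23070 F184701) (tt N22909 F184702) (tt N25150 (iv F189235)) (tt N25041 (iv F188858)) (tt N24787 (iv F187988)) (tt N25043 (iv F188870)) (tt N22908 (iv D39988)) (tt N25151 D41078))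
theorem Q24063 : ∀ i, i < 24063 → P i := stepQ 24062 Q24062 (allL N24062 (tt N24533 (iv F186799)) (tt N25043 (iv F188866)) (tt N22914 F184703) (tt N25041 (iv F188856)) (tt N25152 D41079) (tt N22909 (iv D39989)) (tt N25153 D41080) (tt N25044 (iv F188874)) (tt N22910 F184704) (tt N25154 D41081))
theorem Q24064 : ∀ i, i < 24064 → P i := stepQ 24063 Q24063 (allL N24063 (tt N24534 (iv F186802)) (tt N25149 (iv F189232)) (tt N22915 F184705) (tt N25151 (iv F189237)) (tt N25038 (iv F188842)) (tt N25154 (iv F189244)) (tt N24789 (iv F187995)) (tt N25045 (iv F188878)) (tt N22941 F184706) (tt N22909 (iv D39990)))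
theorem Q24065 : ∀ i, i < 24065 → P i := stepQ 24064 Q24064 (allL N24064 (tt N24535 (iv F186806)) (tt N25042 (iv F188860)) (tt N22916 F184707) (tt N25068 (iv F188982)) (tt N22910 (iv D39991)) (tt N22912 F184708) (tt N25155 D41082) (tt N25046 (iv F188884)) (tt N25152 (iv F189240)) (tt N25096 (iv F189065)))
theorem Q24066 : ∀ i, i < 24066 → P i := stepQ 24065 Q24065 (allL N24065 (tt N24536 (iv F186809)) (tt N24609 (iv F187168)) (tt N22917 F184709) (tt N24608 (iv F187162)) (tt N25155 (iv F189246)) (tt N22911 F184710) (tt N22910 (iv D39992)) (tt N24634 (iv F187335)) (tt N25153 (iv F189242)) (tt N25078 (iv F189020)))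
theorem Q24067 : ∀ i, i < 24067 → P i := stepQ 24066 Q24066 (allL N24066 (tt N24540 (iv F186834)) (tt N23064 F184711) (tt N23048 F184717) (tt N22912 (iv D39993)) (tt N22973 F184712) (tt N25068 (iv F188983)) (tt N24066 F184713) (tt N23075 F184714) (tt N23067 F184715) (tt N23037 (iv F184716)))
theorem Q24068 : ∀ i, i < 24068 → P i := stepQ 24067 Q24067 (allL N24067 (tt N24541 (iv F186842)) (tt N22970 F184718) (tt N22923 F184719) (tt N23037 F184720) (tt N22913 F184721) (tt N25096 (iv F189063)) (tt N24067 F184722) (tt N22974 F184723) (tt N24321 (iv F185553)) (tt N22912 (iv D39994)))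
theorem Q24069 : ∀ i, i < 24069 → P i := stepQ 24068 Q24068 (allL N24068 (tt N24542 (iv F186850)) (tt N25061 (iv F188955)) (tt N25152 (iv F189239)) (tt N25156 D41083) (tt N22914 (iv D39995)) (tt N25039 (iv F188847)) (tt N25157 D41084) (tt N25047 (iv F188888)) (tt N22916 F184724) (tt N25158 D41085))
theorem Q24070 : ∀ i, i < 24070 → P i := stepQ 24069 Q24069 (allL N24069 (tt N24543 (iv F186852)) (tt N25062 (iv F188959)) (tt N25153 (iv F189241)) (tt N23077 F184725) (tt N25157 (iv F189252)) (tt N24792 (iv F188005)) (tt N22914 (iv D39996)) (tt N25159 D41086) (tt N22917 F184726) (tt N25160 D41087))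
theorem Q24071 : ∀ i, i < 24071 → P i := stepQ 24070 Q24070 (allL N24070 (tt N24544 (iv F186856)) (tt N25063 (iv F188962)) (tt N25154 (iv F189243)) (tt N23078 F184727) (tt N25158 (iv F189254)) (tt N22915 F184728) (tt N25160 (iv F189258)) (tt N25049 (iv F188897)) (tt N25161 D41088) (tt N22914 (iv D39997)))
theorem Q24072 : ∀ i, i < 24072 → P i := stepQ 24071 Q24071 (allL N24071 (tt N24545 (iv F186859)) (tt N25064 (iv F188966)) (tt N25162 D41089) (tt N22916 (iv D39998)) (tt N23079 F184729) (tt N22922 F184730) (tt N25163 D41090) (tt N23104 F184731) (tt N25156 (iv F189251)) (tt N25164 D41091))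
theorem Q24073 : ∀ i, i < 24073 → P i := stepQ 24072 Q24072 (allL N24072 (tt N24546 (iv F186863)) (tt N25065 (iv F188970)) (tt N25155 (iv F189245)) (tt N25163 (iv F189267)) (tt N22917 F184732) (tt N24072 F184733) (tt N22916 (iv D39999)) (tt N25165 D41092) (tt N25157 (iv F189253)) (tt N25166 D41093))
theorem Q24074 : ∀ i, i < 24074 → P i := stepQ 24073 Q24073 (allL N24073 (tt N24547 (iv F186866)) (tt N24334 (iv F185624)) (tt N25096 (iv F189061)) (tt N25164 (iv F189271)) (tt N22918 F184734) (tt N22923 F184735) (tt N25166 (iv F189279)) (tt N25051 (iv F188907)) (tt N25167 D41094) (tt N22916 (iv D40000)))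
theorem Q24075 : ∀ i, i < 24075 → P i := stepQ 24074 Q24074 (allL N24074 (tt N24548 (iv F186869)) (tt N25066 (iv F188973)) (tt N24634 (iv F187333)) (tt N23082 F184736) (tt N25165 (iv F189275)) (tt N22919 F184737) (tt N25052 (iv F188911)) (tt N22917 (iv D40001)) (tt N25159 (iv F189256)) (tt N25168 D41095))
theorem Q24076 : ∀ i, i < 24076 → P i := stepQ 24075 Q24075 (allL N24075 (tt N24549 (iv F186872)) (tt N24335 (iv F185630)) (tt N25078 (iv F189017)) (tt N23083 F184738) (tt N25166 (iv F189277)) (tt N22920 F184739) (tt N22918 F184740) (tt N25168 (iv F189283)) (tt N25169 D41096) (tt N22917 (iv D40002)))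
theorem Q24077 : ∀ i, i < 24077 → P i := stepQ 24076 Q24076 (allL N24076 (tt N24550 (iv F186876)) (tt N24332 (iv F185613)) (tt N25097 (iv F189067)) (tt N23084 F184741) (tt N25167 (iv F189280)) (tt N22955 F184742) (tt N25169 (iv F189285)) (tt N25053 (iv F188916)) (tt N22918 (iv D40003)) (tt N25161 (iv F189261)))
theorem Q24078 : ∀ i, i < 24078 → P i := stepQ 24077 Q24077 (allL N24077 (tt N24551 (iv F186879)) (tt N24336 (iv F185636)) (tt N24552 (iv F186889)) (tt N23085 F184743) (tt N24077 F184744) (tt N25168 (iv F189282)) (tt N22921 F184745) (tt N22920 F184746) (tt N24539 (iv F186833)) (tt N22919 (iv D40004)))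
theorem Q24079 : ∀ i, i < 24079 → P i := stepQ 24078 Q24078 (allL N24078 (tt N24553 (iv F186895)) (tt N24321 (iv F185548)) (tt N22922 (iv D40005)) (tt N23048 F184747) (tt N22925 F184748) (tt N25162 (iv F189264)) (tt N24078 F184749) (tt N22975 F184750) (tt N22970 F184751) (tt N23047 (iv F184752)))
theorem Q24080 : ∀ i, i < 24080 → P i := stepQ 24079 Q24079 (allL N24079 (tt N24554 (iv F186902)) (tt N24379 (iv F185877)) (tt N23047 F184753) (tt N22923 F184754) (tt N22926 F184755) (tt N25164 (iv F189273)) (tt N24079 F184756) (tt N23086 F184757) (tt N22976 F184758) (tt N22922 (iv D40006)))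
theorem Q24081 : ∀ i, i < 24081 → P i := stepQ 24080 Q24080 (allL N24080 (tt N24555 (iv F186909)) (tt N24378 (iv F185869)) (tt N24321 (iv F185549)) (tt N22976 F184759) (tt N22924 F184760) (tt N25170 D41097) (tt N24080 F184761) (tt N24343 (iv F185678)) (tt N22923 (iv D40007)) (tt N24376 (iv F185863)))
theorem Q24082 : ∀ i, i < 24082 → P i := stepQ 24081 Q24081 (allL N24081 (tt N22930 F184762) (tt N24556 (iv F186917)) (tt N24465 (iv F186412)) (tt N22928 F184763) (tt N24810 (iv F188088)) (tt N22927 (iv D40008)) (tt N24765 (iv F187897)) (tt N24537 (iv F186817)) (tt N25171 D41098) (tt N24458 (iv F186372)))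
theorem Q24083 : ∀ i, i < 24083 → P i := stepQ 24082 Q24082 (allL N24082 (tt N22931 F184764) (tt N24557 (iv F186922)) (tt N25067 (iv F188979)) (tt N25171 (iv F189289)) (tt N24805 F188061) (tt N25172 D41099) (tt N24766 F187904) (tt N25095 (iv F189059)) (tt N22928 (iv D40009)) (tt N25173 D41100))
theorem Q24084 : ∀ i, i < 24084 → P i := stepQ 24083 Q24083 (allL N24083 (tt N22932 F184765) (tt N24558 (iv F186927)) (tt N24772 (iv F187926)) (tt N24489 (iv F186557)) (tt N24856 (iv F188251)) (tt N22929 (iv D40010)) (tt N24719 (iv F187710)) (tt N24573 (iv F186996)) (tt N25172 (iv F189291)) (tt N24483 (iv F186532)))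
theorem Q24085 : ∀ i, i < 24085 → P i := stepQ 24084 Q24084 (allL N24084 (tt N24810 (iv F188086)) (tt N22935 F184766) (tt N25051 (iv F188903)) (tt N23073 F184767) (tt N22930 (iv D40011)) (tt N22974 F184768) (tt N24891 (iv F188419)) (tt N25096 (iv F189064)) (tt N25174 D41101) (tt N25046 (iv F188885)))
theorem Q24086 : ∀ i, i < 24086 → P i := stepQ 24085 Q24085 (allL N24085 (tt N25171 (iv F189288)) (tt N22936 F184769) (tt N25053 (iv F188913)) (tt N22931 F184770) (tt N25174 (iv F189295)) (tt N25112 (iv F189123)) (tt N24892 (iv F188422)) (tt N25097 (iv F189070)) (tt N22930 (iv D40012)) (tt N25175 D41102))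
theorem Q24087 : ∀ i, i < 24087 → P i := stepQ 24086 Q24086 (allL N24086 (tt N25172 (iv F189290)) (tt N22940 F184771) (tt N25070 (iv F188992)) (tt N25112 (iv F189122)) (tt N25176 D41103) (tt N22931 (iv D40013)) (tt N25177 D41104) (tt N25098 (iv F189074)) (tt N22932 F184772) (tt N25178 D41105))
theorem Q24088 : ∀ i, i < 24088 → P i := stepQ 24087 Q24087 (allL N24087 (tt N25173 (iv F189292)) (tt N22941 F184773) (tt N25071 (iv F188997)) (tt N25175 (iv F189297)) (tt N25132 (iv F189184)) (tt N25178 (iv F189304)) (tt N24893 (iv F188424)) (tt N25099 (iv F189077)) (tt N25149 (iv F189233)) (tt N22931 (iv D40014)))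
theorem Q24089 : ∀ i, i < 24089 → P i := stepQ 24088 Q24088 (allL N24088 (tt N24856 (iv F188247)) (tt N22942 F184774) (tt N24352 (iv F185715)) (tt N24377 (iv F185867)) (tt N22932 (iv D40015)) (tt N22934 F184775) (tt N25179 D41106) (tt N25100 (iv F189081)) (tt N25176 (iv F189300)) (tt N24350 F185707))
theorem Q24090 : ∀ i, i < 24090 → P i := stepQ 24089 Q24089 (allL N24089 (tt N24719 (iv F187708)) (tt N22943 F184776) (tt N24525 (iv F186759)) (tt N25111 (iv F189117)) (tt N25179 (iv F189306)) (tt N22933 F184777) (tt N22932 (iv D40016)) (tt N24783 (iv F187971)) (tt N25177 (iv F189302)) (tt N24559 (iv F186935)))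
theorem Q24091 : ∀ i, i < 24091 → P i := stepQ 24090 Q24090 (allL N24090 (tt N24568 (iv F186973)) (tt N25174 (iv F189293)) (tt N23089 F184778) (tt N25133 (iv F189187)) (tt N22936 F184779) (tt N25180 D41107) (tt N24894 (iv F188427)) (tt N25101 (iv F189085)) (tt N22935 (iv D40017)) (tt N25181 D41108))
theorem Q24092 : ∀ i, i < 24092 → P i := stepQ 24091 Q24091 (allL N24091 (tt N24569 (iv F186976)) (tt N25112 (iv F189120)) (tt N23090 F184780) (tt N22940 F184781) (tt N25182 D41109) (tt N22936 (iv D40018)) (tt N25183 D41110) (tt N25102 (iv F189089)) (tt N22937 F184782) (tt N25184 D41111))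
theorem Q24093 : ∀ i, i < 24093 → P i := stepQ 24092 Q24092 (allL N24092 (tt N24570 (iv F186980)) (tt N25175 (iv F189296)) (tt N23091 F184783) (tt N22941 F184784) (tt N25181 (iv F189312)) (tt N25184 (iv F189320)) (tt N24895 (iv F188430)) (tt N25103 (iv F189093)) (tt N25151 (iv F189238)) (tt N22936 (iv D40019)))
theorem Q24094 : ∀ i, i < 24094 → P i := stepQ 24093 Q24093 (allL N24093 (tt N24571 (iv F186983)) (tt N25109 (iv F189107)) (tt N23092 F184785) (tt N25170 (iv F189286)) (tt N22937 (iv D40020)) (tt N22976 F184786) (tt N25185 D41112) (tt N24350 (iv F185706)) (tt N25182 (iv F189314)) (tt N25100 (iv F189082)))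
theorem Q24095 : ∀ i, i < 24095 → P i := stepQ 24094 Q24094 (allL N24094 (tt N24572 (iv F186987)) (tt N25111 (iv F189115)) (tt N23093 F184787) (tt N22943 F184788) (tt N25185 (iv F189322)) (tt N22938 F184789) (tt N22937 (iv D40021)) (tt N25186 D41113) (tt N25183 (iv F189317)) (tt N24699 (iv F187632)))
theorem Q24096 : ∀ i, i < 24096 → P i := stepQ 24095 Q24095 (allL N24095 (tt N24574 (iv F186997)) (tt N24504 (iv F186632)) (tt N23095 F184790) (tt N22945 F184791) (tt N24095 F184792) (tt N25186 (iv F189326)) (tt N22939 F184793) (tt N22938 (iv D40022)) (tt N24401 F186027) (tt N24646 (iv F187395)))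
theorem Q24097 : ∀ i, i < 24097 → P i := stepQ 24096 Q24096 (allL N24096 (tt N24576 (iv F187013)) (tt N25176 (iv F189298)) (tt N22948 F184794) (tt N25187 D41114) (tt N22940 (iv D40023)) (tt N25135 (iv F189196)) (tt N25188 D41115) (tt N25104 (iv F189095)) (tt N22942 F184795) (tt N25189 D41116))
theorem Q24098 : ∀ i, i < 24098 → P i := stepQ 24097 Q24097 (allL N24097 (tt N24577 (iv F187016)) (tt N25177 (iv F189301)) (tt N22949 F184796) (tt N25183 (iv F189316)) (tt N25188 (iv F189330)) (tt N24776 (iv F187948)) (tt N22940 (iv D40024)) (tt N25190 D41117) (tt N22943 F184797) (tt N25191 D41118))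
theorem Q24099 : ∀ i, i < 24099 → P i := stepQ 24098 Q24098 (allL N24098 (tt N24578 (iv F187021)) (tt N25178 (iv F189303)) (tt N22950 F184798) (tt N25184 (iv F189319)) (tt N25189 (iv F189333)) (tt N22941 F184799) (tt N25191 (iv F189337)) (tt N25106 (iv F189101)) (tt N25192 D41119) (tt N22940 (iv D40025)))
theorem Q24100 : ∀ i, i < 24100 → P i := stepQ 24099 Q24099 (allL N24099 (tt N24579 (iv F187024)) (tt N24377 (iv F185865)) (tt N25145 (iv F189223)) (tt N22942 (iv D40026)) (tt N25170 (iv F189287)) (tt N22946 F184800) (tt N25193 D41120) (tt N25107 (iv F189103)) (tt N25187 (iv F189328)) (tt N25143 F189218))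
theorem Q24101 : ∀ i, i < 24101 → P i := stepQ 24100 Q24100 (allL N24100 (tt N24580 (iv F187026)) (tt N25179 (iv F189305)) (tt N22952 F184801) (tt N25193 (iv F189340)) (tt N22943 F184802) (tt N22964 F184803) (tt N22942 (iv D40027)) (tt N25194 D41121) (tt N25188 (iv F189331)) (tt N24826 (iv F188152)))
theorem Q24102 : ∀ i, i < 24102 → P i := stepQ 24101 Q24101 (allL N24101 (tt N24581 (iv F187031)) (tt N24350 (iv F185703)) (tt N22953 F184804) (tt N25143 (iv F189216)) (tt N22944 F184805) (tt N22947 F184806) (tt N24826 (iv F188151)) (tt N25109 (iv F189111)) (tt N25195 D41122) (tt N22942 (iv D40028)))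
theorem Q24103 : ∀ i, i < 24103 → P i := stepQ 24102 Q24102 (allL N24102 (tt N24582 (iv F187035)) (tt N24783 (iv F187970)) (tt N22954 F184807) (tt N25186 (iv F189325)) (tt N25194 (iv F189343)) (tt N22945 F184808) (tt N25110 (iv F189114)) (tt N22943 (iv D40029)) (tt N25190 (iv F189335)) (tt N24762 (iv F187884)))
theorem Q24104 : ∀ i, i < 24104 → P i := stepQ 24103 Q24103 (allL N24103 (tt N24584 (iv F187044)) (tt N25102 (iv F189086)) (tt N22955 F184809) (tt N25098 (iv F189073)) (tt N25195 (iv F189346)) (tt N25097 (iv F189069)) (tt N24827 (iv F188154)) (tt N25112 (iv F189124)) (tt N22944 (iv D40030)) (tt N25192 (iv F189339)))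
theorem Q24105 : ∀ i, i < 24105 → P i := stepQ 24104 Q24104 (allL N24104 (tt N24587 (iv F187062)) (tt N23089 F184810) (tt N25147 (iv F189229)) (tt N22948 (iv D40031)) (tt N23087 F184811) (tt N25137 (iv F189204)) (tt N24976 (iv F188678)) (tt N25113 (iv F189127)) (tt N22951 F184812) (tt N25196 D41123))
theorem Q24106 : ∀ i, i < 24106 → P i := stepQ 24105 Q24105 (allL N24105 (tt N24588 (iv F187065)) (tt N24804 (iv F188052)) (tt N25188 (iv F189329)) (tt N24976 (iv F188676)) (tt N22949 F184813) (tt N25197 D41124) (tt N22948 (iv D40032)) (tt N25198 D41125) (tt N22952 F184814) (tt N25199 D41126))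
theorem Q24107 : ∀ i, i < 24107 → P i := stepQ 24106 Q24106 (allL N24106 (tt N24589 (iv F187068)) (tt N25076 (iv F189008)) (tt N25189 (iv F189332)) (tt N25196 (iv F189348)) (tt N22950 F184815) (tt N25139 (iv F189209)) (tt N25199 (iv F189354)) (tt N25115 (iv F189132)) (tt N25200 D41127) (tt N22948 (iv D40033)))
theorem Q24108 : ∀ i, i < 24108 → P i := stepQ 24107 Q24107 (allL N24107 (tt N24590 (iv F187070)) (tt N24746 (iv F187815)) (tt N25190 (iv F189334)) (tt N23100 F184816) (tt N25198 (iv F189351)) (tt N24896 (iv F188432)) (tt N25116 (iv F189134)) (tt N22949 (iv D40034)) (tt N22954 F184817) (tt N25201 D41128))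
theorem Q24109 : ∀ i, i < 24109 → P i := stepQ 24108 Q24108 (allL N24108 (tt N24591 (iv F187073)) (tt N24806 (iv F188063)) (tt N25191 (iv F189336)) (tt N23101 F184818) (tt N25199 (iv F189353)) (tt N24897 (iv F188435)) (tt N22950 F184819) (tt N25201 (iv F189358)) (tt N24831 (iv F188165)) (tt N22949 (iv D40035)))
theorem Q24110 : ∀ i, i < 24110 → P i := stepQ 24109 Q24109 (allL N24109 (tt N24592 (iv F187076)) (tt N24333 (iv F185619)) (tt N25192 (iv F189338)) (tt N23102 F184820) (tt N25200 (iv F189355)) (tt N25161 (iv F189260)) (tt N24831 (iv F188164)) (tt N25118 (iv F189139)) (tt N22950 (iv D40036)) (tt N22955 F184821))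
theorem Q24111 : ∀ i, i < 24111 → P i := stepQ 24110 Q24110 (allL N24110 (tt N24593 (iv F187079)) (tt N24745 (iv F187809)) (tt N25194 (iv F189342)) (tt N24952 (iv F188606)) (tt N22954 F184822) (tt N22968 F184823) (tt N25120 (iv F189147)) (tt N22952 (iv D40037)) (tt N25198 (iv F189352)) (tt N24763 (iv F187889)))
theorem Q24112 : ∀ i, i < 24112 → P i := stepQ 24111 Q24111 (allL N24111 (tt N24594 (iv F187082)) (tt N24331 (iv F185608)) (tt N25195 (iv F189345)) (tt N25135 (iv F189195)) (tt N22955 F184824) (tt N25187 (iv F189327)) (tt N24829 (iv F188158)) (tt N25122 (iv F189152)) (tt N22953 (iv D40038)) (tt N25200 (iv F189356)))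
theorem Q24113 : ∀ i, i < 24113 → P i := stepQ 24112 Q24112 (allL N24112 (tt N24413 (iv F186091)) (tt N23106 F184825) (tt N24857 (iv F188253)) (tt N22957 F184826) (tt N24112 F184827) (tt N25144 (iv F189221)) (tt N22956 (iv D40039)) (tt N25202 D41129) (tt N24728 (iv F187745)) (tt N25029 (iv F188820)))
theorem Q24114 : ∀ i, i < 24114 → P i := stepQ 24113 Q24113 (allL N24113 (tt N24393 (iv F185974)) (tt N25077 (iv F189011)) (tt N23006 F184828) (tt N25202 (iv F189360)) (tt N22958 F184829) (tt N25146 (iv F189228)) (tt N24113 F184830) (tt N22957 (iv D40040)) (tt N24300 (iv F185422)) (tt N25025 (iv F188803)))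
theorem Q24115 : ∀ i, i < 24115 → P i := stepQ 24114 Q24114 (allL N24114 (tt N24720 (iv F187712)) (tt N22964 F184831) (tt N24370 (iv F185816)) (tt N24380 (iv F185887)) (tt N22962 F184832) (tt N25179 (iv F189307)) (tt N22961 (iv D40041)) (tt N24881 (iv F188386)) (tt N24862 (iv F188280)) (tt N24368 (iv F185808)))
theorem Q24116 : ∀ i, i < 24116 → P i := stepQ 24115 Q24115 (allL N24115 (tt N24598 (iv F187097)) (tt N24380 (iv F185885)) (tt N25029 (iv F188817)) (tt N22964 F184833) (tt N24115 F184834) (tt N25193 (iv F189341)) (tt N22963 (iv D40042)) (tt N25203 D41130) (tt N24866 (iv F188305)) (tt N24857 (iv F188256)))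
theorem Q24117 : ∀ i, i < 24117 → P i := stepQ 24116 Q24116 (allL N24116 (tt N24599 (iv F187102)) (tt N24881 (iv F188384)) (tt N22968 F184835) (tt N25203 (iv F189363)) (tt N22965 F184836) (tt N25194 (iv F189344)) (tt N24116 F184837) (tt N22964 (iv D40043)) (tt N24879 (iv F188377)) (tt N24854 (iv F188239)))
theorem Q24118 : ∀ i, i < 24118 → P i := stepQ 24117 Q24117 (allL N24117 (tt N24565 (iv F186957)) (tt N24856 (iv F188248)) (tt N24735 (iv F187768)) (tt N25031 (iv F188825)) (tt N24558 (iv F186929)) (tt N22966 (iv D40044)) (tt N24726 (iv F187737)) (tt N25204 D41131) (tt N25197 (iv F189350)) (tt N25011 (iv F188761)))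
theorem Q24119 : ∀ i, i < 24119 → P i := stepQ 24118 Q24118 (allL N24118 (tt N24479 (iv F186505)) (tt N24606 (iv F187145)) (tt N24879 (iv F188374)) (tt N25027 (iv F188811)) (tt N22967 F184838) (tt N25204 (iv F189366)) (tt N24118 F184839) (tt N22966 (iv D40045)) (tt N22968 F184840) (tt N24604 (iv F187139)))
theorem Q24120 : ∀ i, i < 24120 → P i := stepQ 24119 Q24119 (allL N24119 (tt N24293 (iv F185368)) (tt N23037 F184841) (tt N23067 F184842) (tt N22970 F184843) (tt N22969 (iv D40046)) (tt N25055 (iv F188926)) (tt N24119 F184844) (tt N22971 F184845) (tt N23048 F184846) (tt N23064 F184847))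
theorem Q24121 : ∀ i, i < 24121 → P i := stepQ 24120 Q24120 (allL N24120 (tt N24605 (iv F187140)) (tt N24340 (iv F185659)) (tt N23104 F184848) (tt N23081 F184849) (tt N25164 (iv F189272)) (tt N22975 (iv D40047)) (tt N25205 D41132) (tt N25162 (iv F189265)) (tt N25180 (iv F189310)) (tt N23079 F184850))
theorem Q24122 : ∀ i, i < 24122 → P i := stepQ 24121 Q24121 (allL N24121 (tt N24607 (iv F187152)) (tt N24362 (iv F185770)) (tt N23106 F184851) (tt N23115 F184852) (tt N24121 F184853) (tt N25205 (iv F189369)) (tt N22977 (iv D40048)) (tt N25206 D41133) (tt N24902 (iv F188455)) (tt N23113 F184854))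
theorem Q24123 : ∀ i, i < 24123 → P i := stepQ 24122 Q24122 (allL N24122 (tt N22991 F184855) (tt N24629 (iv F187299)) (tt N24803 (iv F188048)) (tt N24448 (iv F186304)) (tt N24277 (iv F185273)) (tt N24995 (iv F188721)) (tt N24620 (iv F187242)) (tt N24508 (iv F186664)) (tt N22979 F184856) (tt N22978 (iv D40049)))
theorem Q24124 : ∀ i, i < 24124 → P i := stepQ 24123 Q24123 (allL N24123 (tt N24744 (iv F187802)) (tt N24266 (iv F185193)) (tt N22982 F184857) (tt N24288 (iv F185340)) (tt N24264 (iv F185180)) (tt N23031 F184858) (tt N24516 (iv F186713)) (tt N22998 F184859) (tt N25125 (iv F189159)) (tt N22980 (iv D40050)))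
theorem Q24125 : ∀ i, i < 24125 → P i := stepQ 24124 Q24124 (allL N24124 (tt N24743 (iv F187796)) (tt N23058 F184860) (tt N23031 F184861) (tt N25040 (iv F188851)) (tt N23055 F184862) (tt N22982 F184863) (tt N24410 (iv F186079)) (tt N22999 F184864) (tt N24317 (iv F185526)) (tt N22981 (iv D40051)))
theorem Q24126 : ∀ i, i < 24126 → P i := stepQ 24125 Q24125 (allL N24125 (tt N24794 (iv F188010)) (tt N23092 F184865) (tt N24314 (iv F185504)) (tt N22996 F184866) (tt N22983 (iv D40052)) (tt N23066 F184867) (tt N24681 (iv F187560)) (tt N24262 (iv F185168)) (tt N25207 D41134) (tt N24281 (iv F185305)))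
theorem Q24127 : ∀ i, i < 24127 → P i := stepQ 24126 Q24126 (allL N24126 (tt N24800 (iv F188033)) (tt N23090 F184868) (tt N24315 (iv F185511)) (tt N22984 F184869) (tt N25207 (iv F189378)) (tt N23087 F184870) (tt N24682 (iv F187564)) (tt N24263 (iv F185176)) (tt N22983 (iv D40053)) (tt N25208 D41135))
theorem Q24128 : ∀ i, i < 24128 → P i := stepQ 24127 Q24127 (allL N24127 (tt N24801 (iv F188038)) (tt N23097 F184871) (tt N22986 F184872) (tt N25208 (iv F189380)) (tt N22998 F184873) (tt N23088 F184874) (tt N24685 (iv F187576)) (tt N24264 (iv F185183)) (tt N24284 (iv F185322)) (tt N22984 (iv D40054)))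
theorem Q24129 : ∀ i, i < 24129 → P i := stepQ 24128 Q24128 (allL N24128 (tt N24848 (iv F188217)) (tt N22998 F184875) (tt N23088 F184876) (tt N24324 (iv F185567)) (tt N23097 F184877) (tt N22986 F184878) (tt N24917 (iv F188503)) (tt N24266 (iv F185198)) (tt N25209 D41136) (tt N22985 (iv D40055)))
theorem Q24130 : ∀ i, i < 24130 → P i := stepQ 24129 Q24129 (allL N24129 (tt N24710 (iv F187667)) (tt N22989 F184879) (tt N23068 F184880) (tt N24329 (iv F185596)) (tt N23099 F184881) (tt N24292 (iv F185366)) (tt N24638 F187348) (tt N24269 (iv F185221)) (tt N22987 (iv D40056)) (tt N25209 (iv F189385)))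
theorem Q24131 : ∀ i, i < 24131 → P i := stepQ 24130 Q24130 (allL N24130 (tt N24796 (iv F188018)) (tt N24326 (iv F185576)) (tt N25055 (iv F188924)) (tt N24281 (iv F185301)) (tt N22988 (iv D40057)) (tt N23067 F184882) (tt N24674 (iv F187537)) (tt N24290 (iv F185355)) (tt N25210 D41137) (tt N22996 F184883))
theorem Q24132 : ∀ i, i < 24132 → P i := stepQ 24131 Q24131 (allL N24131 (tt N24797 (iv F188021)) (tt N24329 (iv F185594)) (tt N25056 (iv F188930)) (tt N22989 F184884) (tt N25210 (iv F189386)) (tt N24269 (iv F185220)) (tt N24675 (iv F187540)) (tt N24292 (iv F185367)) (tt N22988 (iv D40058)) (tt N25211 D41138))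
theorem Q24133 : ∀ i, i < 24133 → P i := stepQ 24132 Q24132 (allL N24132 (tt N24803 (iv F188047)) (tt N25209 (iv F189382)) (tt N22991 F184885) (tt N25211 (iv F189387)) (tt N24284 (iv F185319)) (tt N24349 (iv F185700)) (tt N24676 (iv F187543)) (tt N25125 (iv F189158)) (tt N22998 F184886) (tt N22989 (iv D40059)))
theorem Q24134 : ∀ i, i < 24134 → P i := stepQ 24133 Q24133 (allL N24133 (tt N25000 (iv F188736)) (tt N23076 F184887) (tt N24355 (iv F185730)) (tt N25212 D41139) (tt N22990 (iv D40060)) (tt N24286 (iv F185331)) (tt N25213 D41140) (tt N25126 (iv F189162)) (tt N22992 F184888) (tt N25214 D41141))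
theorem Q24135 : ∀ i, i < 24135 → P i := stepQ 24134 Q24134 (allL N24134 (tt N25002 (iv F188743)) (tt N23077 F184889) (tt N24357 (iv F185739)) (tt N25062 (iv F188960)) (tt N25213 (iv F189392)) (tt N24678 (iv F187551)) (tt N22990 (iv D40061)) (tt N25215 D41142) (tt N22993 F184890) (tt N25216 D41143))
theorem Q24136 : ∀ i, i < 24136 → P i := stepQ 24135 Q24135 (allL N24135 (tt N24995 (iv F188719)) (tt N23078 F184891) (tt N24349 (iv F185699)) (tt N25063 (iv F188963)) (tt N25214 (iv F189395)) (tt N22991 F184892) (tt N25216 (iv F189399)) (tt N25128 (iv F189170)) (tt N24339 (iv F185657)) (tt N22990 (iv D40062)))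
theorem Q24137 : ∀ i, i < 24137 → P i := stepQ 24136 Q24136 (allL N24136 (tt N24901 (iv F188447)) (tt N23079 F184893) (tt N24377 (iv F185866)) (tt N22992 (iv D40063)) (tt N25064 (iv F188967)) (tt N22995 F184894) (tt N25217 D41144) (tt N25129 (iv F189174)) (tt N25212 (iv F189390)) (tt N24340 (iv F185661)))
theorem Q24138 : ∀ i, i < 24138 → P i := stepQ 24137 Q24137 (allL N24137 (tt N24999 (iv F188731)) (tt N23080 F184895) (tt N24354 (iv F185725)) (tt N25217 (iv F189401)) (tt N22993 F184896) (tt N23109 F184897) (tt N22992 (iv D40064)) (tt N25218 D41145) (tt N25213 (iv F189393)) (tt N24341 (iv F185667)))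
theorem Q24139 : ∀ i, i < 24139 → P i := stepQ 24138 Q24138 (allL N24138 (tt N25001 (iv F188739)) (tt N23082 F184898) (tt N24356 (iv F185734)) (tt N25066 (iv F188975)) (tt N25218 (iv F189404)) (tt N22994 F184899) (tt N25131 (iv F189181)) (tt N22993 (iv D40065)) (tt N25215 (iv F189397)) (tt N24342 (iv F185672)))
theorem Q24140 : ∀ i, i < 24140 → P i := stepQ 24139 Q24139 (allL N24139 (tt N24791 (iv F188001)) (tt N24322 (iv F185556)) (tt N25072 (iv F188998)) (tt N25207 (iv F189377)) (tt N22997 F184900) (tt N25126 (iv F189161)) (tt N24918 (iv F188505)) (tt N24286 (iv F185332)) (tt N22996 (iv D40066)) (tt N25219 D41146))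
theorem Q24141 : ∀ i, i < 24141 → P i := stepQ 24140 Q24140 (allL N24140 (tt N24793 (iv F188007)) (tt N24324 (iv F185566)) (tt N25073 (iv F189000)) (tt N22998 F184901) (tt N25219 (iv F189406)) (tt N23065 F184902) (tt N24919 (iv F188507)) (tt N24288 (iv F185342)) (tt N25211 (iv F189388)) (tt N22997 (iv D40067)))
theorem Q24142 : ∀ i, i < 24142 → P i := stepQ 24141 Q24141 (allL N24141 (tt N24662 (iv F187460)) (tt N23002 F184903) (tt N24268 (iv F185209)) (tt N25060 (iv F188951)) (tt N23060 F184904) (tt N23000 (iv D40068)) (tt N23032 F184905) (tt N24381 (iv F185896)) (tt N25220 D41147) (tt N23008 F184906))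
theorem Q24143 : ∀ i, i < 24143 → P i := stepQ 24142 Q24142 (allL N24142 (tt N24387 (iv F185933)) (tt N25060 (iv F188949)) (tt N24609 (iv F187169)) (tt N23002 F184907) (tt N25221 D41148) (tt N23001 (iv D40069)) (tt N23033 F184908) (tt N24382 (iv F185903)) (tt N25222 D41149) (tt N23009 F184909))
theorem Q24144 : ∀ i, i < 24144 → P i := stepQ 24143 Q24143 (allL N24143 (tt N24389 (iv F185948)) (tt N25220 (iv F189407)) (tt N23003 F184910) (tt N25222 (iv F189413)) (tt N24296 (iv F185394)) (tt N25140 (iv F189211)) (tt N23034 F184911) (tt N24383 (iv F185910)) (tt N23002 (iv D40070)) (tt N25223 D41150))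
theorem Q24145 : ∀ i, i < 24145 → P i := stepQ 24144 Q24144 (allL N24144 (tt N24395 (iv F185987)) (tt N24513 (iv F186693)) (tt N25140 (iv F189210)) (tt N24612 (iv F187188)) (tt N25224 D41151) (tt N23003 (iv D40071)) (tt N25225 D41152) (tt N24384 (iv F185916)) (tt N23004 F184912) (tt N25226 D41153))
theorem Q24146 : ∀ i, i < 24146 → P i := stepQ 24145 Q24145 (allL N24145 (tt N24396 (iv F185992)) (tt N24514 (iv F186698)) (tt N25223 (iv F189415)) (tt N24613 (iv F187194)) (tt N24303 (iv F185438)) (tt N25226 (iv F189421)) (tt N23039 F184913) (tt N24385 (iv F185923)) (tt N23018 F184914) (tt N23003 (iv D40072)))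
theorem Q24147 : ∀ i, i < 24147 → P i := stepQ 24146 Q24146 (allL N24146 (tt N24397 (iv F185999)) (tt N24515 (iv F186705)) (tt N25146 (iv F189226)) (tt N24763 (iv F187886)) (tt N23004 (iv D40073)) (tt N23006 F184915) (tt N25227 D41154) (tt N24386 (iv F185931)) (tt N25224 (iv F189418)) (tt N24952 (iv F188609)))
theorem Q24148 : ∀ i, i < 24148 → P i := stepQ 24147 Q24147 (allL N24147 (tt N24398 (iv F186003)) (tt N24382 (iv F185899)) (tt N25066 (iv F188974)) (tt N24381 (iv F185893)) (tt N25227 (iv F189422)) (tt N23005 F184916) (tt N23004 (iv D40074)) (tt N25060 (iv F188953)) (tt N25225 (iv F189420)) (tt N24926 (iv F188524)))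
theorem Q24149 : ∀ i, i < 24149 → P i := stepQ 24148 Q24148 (allL N24148 (tt N24781 (iv F187963)) (tt N23009 F184917) (tt N24335 (iv F185631)) (tt N23008 F184918) (tt N25119 (iv F189143)) (tt N23007 (iv D40075)) (tt N23049 F184919) (tt N24926 (iv F188523)) (tt N25228 D41155) (tt N25060 (iv F188954)))
theorem Q24150 : ∀ i, i < 24150 → P i := stepQ 24149 Q24149 (allL N24149 (tt N24776 (iv F187945)) (tt N23012 F184920) (tt N24265 (iv F185187)) (tt N25228 (iv F189425)) (tt N23057 F184921) (tt N24577 (iv F187019)) (tt N23050 F184922) (tt N24927 (iv F188528)) (tt N23008 (iv D40076)) (tt N25229 D41156))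
theorem Q24151 : ∀ i, i < 24151 → P i := stepQ 24150 Q24150 (allL N24150 (tt N24721 (iv F187720)) (tt N25119 (iv F189141)) (tt N25080 (iv F189023)) (tt N24406 (iv F186058)) (tt N23009 (iv D40077)) (tt N24150 F184923) (tt N23051 F184924) (tt N24928 (iv F188531)) (tt N25230 D41157) (tt N25221 (iv F189412)))
theorem Q24152 : ∀ i, i < 24152 → P i := stepQ 24151 Q24151 (allL N24151 (tt N24722 (iv F187723)) (tt N25228 (iv F189424)) (tt N25081 (iv F189026)) (tt N23012 F184925) (tt N25230 (iv F189430)) (tt N25231 D41158) (tt N23052 F184926) (tt N24929 (iv F188534)) (tt N23009 (iv D40078)) (tt N25232 D41159))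
theorem Q24153 : ∀ i, i < 24153 → P i := stepQ 24152 Q24152 (allL N24152 (tt N24723 (iv F187726)) (tt N24572 (iv F186988)) (tt N25082 (iv F189029)) (tt N23013 F184927) (tt N25233 D41160) (tt N23010 (iv D40079)) (tt N24562 (iv F186949)) (tt N24930 (iv F188536)) (tt N25231 (iv F189433)) (tt N25234 D41161))
theorem Q24154 : ∀ i, i < 24154 → P i := stepQ 24153 Q24153 (allL N24153 (tt N24478 (iv F186497)) (tt N24575 (iv F187006)) (tt N24307 (iv F185457)) (tt N23014 F184928) (tt N24153 F184929) (tt N25234 (iv F189438)) (tt N23011 F184930) (tt N24299 (iv F185414)) (tt N24320 (iv F185545)) (tt N23010 (iv D40080)))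
theorem Q24155 : ∀ i, i < 24155 → P i := stepQ 24154 Q24154 (allL N24154 (tt N24724 (iv F187728)) (tt N24577 (iv F187017)) (tt N23017 F184931) (tt N25231 (iv F189432)) (tt N25235 D41162) (tt N23012 (iv D40081)) (tt N24563 (iv F186952)) (tt N24931 (iv F188538)) (tt N23013 F184932) (tt N25236 D41163))
theorem Q24156 : ∀ i, i < 24156 → P i := stepQ 24155 Q24155 (allL N24155 (tt N24725 (iv F187731)) (tt N25229 (iv F189427)) (tt N23018 F184933) (tt N25232 (iv F189434)) (tt N24410 (iv F186078)) (tt N25236 (iv F189442)) (tt N23055 F184934) (tt N24932 (iv F188542)) (tt N25223 (iv F189417)) (tt N23012 (iv D40082)))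
theorem Q24157 : ∀ i, i < 24157 → P i := stepQ 24156 Q24156 (allL N24156 (tt N24726 (iv F187734)) (tt N24580 (iv F187027)) (tt N23019 F184935) (tt N25237 D41164) (tt N23013 (iv D40083)) (tt N23015 F184936) (tt N24565 (iv F186961)) (tt N24933 (iv F188545)) (tt N25235 (iv F189440)) (tt N25238 D41165))
theorem Q24158 : ∀ i, i < 24158 → P i := stepQ 24157 Q24157 (allL N24157 (tt N24727 (iv F187738)) (tt N24583 (iv F187040)) (tt N23021 F184937) (tt N25234 (iv F189437)) (tt N25238 (iv F189445)) (tt N23014 F184938) (tt N24566 (iv F186965)) (tt N24935 (iv F188550)) (tt N25239 D41166) (tt N23013 (iv D40084)))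
theorem Q24159 : ∀ i, i < 24159 → P i := stepQ 24158 Q24158 (allL N24158 (tt N24728 (iv F187741)) (tt N24598 (iv F187098)) (tt N25240 D41167) (tt N23015 (iv D40085)) (tt N24158 F184939) (tt N25237 (iv F189443)) (tt N23117 F184940) (tt N24936 (iv F188553)) (tt N24413 (iv F186095)) (tt N25241 D41168))
theorem Q24160 : ∀ i, i < 24160 → P i := stepQ 24159 Q24159 (allL N24159 (tt N24729 (iv F187746)) (tt N24424 (iv F186149)) (tt N23027 F184941) (tt N25241 (iv F189451)) (tt N23016 F184942) (tt N25238 (iv F189446)) (tt N23118 F184943) (tt N24937 (iv F188557)) (tt N25242 D41169) (tt N23015 (iv D40086)))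
theorem Q24161 : ∀ i, i < 24161 → P i := stepQ 24160 Q24160 (allL N24160 (tt N24730 (iv F187751)) (tt N23029 F184944) (tt N23028 F184945) (tt N24160 F184946) (tt N25242 (iv F189456)) (tt N25026 (iv F188807)) (tt N23119 F184947) (tt N24938 (iv F188563)) (tt N23016 (iv D40087)) (tt N24415 (iv F186106)))
theorem Q24162 : ∀ i, i < 24162 → P i := stepQ 24161 Q24161 (allL N24161 (tt N24731 (iv F187757)) (tt N24517 (iv F186715)) (tt N25235 (iv F189439)) (tt N25243 D41170) (tt N23017 (iv D40088)) (tt N24416 (iv F186108)) (tt N25244 D41171) (tt N24939 (iv F188564)) (tt N23019 F184948) (tt N25245 D41172))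
theorem Q24163 : ∀ i, i < 24163 → P i := stepQ 24162 Q24162 (allL N24162 (tt N24732 (iv F187759)) (tt N24409 (iv F186072)) (tt N24563 (iv F186951)) (tt N25089 (iv F189045)) (tt N25244 (iv F189459)) (tt N23057 F184949) (tt N23017 (iv D40089)) (tt N25246 D41173) (tt N23020 F184950) (tt N25247 D41174))
theorem Q24164 : ∀ i, i < 24164 → P i := stepQ 24163 Q24163 (allL N24163 (tt N24733 (iv F187762)) (tt N24518 (iv F186719)) (tt N25236 (iv F189441)) (tt N25090 (iv F189048)) (tt N25245 (iv F189461)) (tt N23018 F184951) (tt N25247 (iv F189465)) (tt N24941 (iv F188569)) (tt N25248 D41175) (tt N23017 (iv D40090)))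
theorem Q24165 : ∀ i, i < 24165 → P i := stepQ 24164 Q24164 (allL N24164 (tt N24734 (iv F187764)) (tt N24519 (iv F186722)) (tt N25249 D41176) (tt N23019 (iv D40091)) (tt N25091 (iv F189050)) (tt N23026 F184952) (tt N25250 D41177) (tt N24942 (iv F188571)) (tt N25243 (iv F189458)) (tt N25251 D41178))
theorem Q24166 : ∀ i, i < 24166 → P i := stepQ 24165 Q24165 (allL N24165 (tt N24735 (iv F187767)) (tt N24411 (iv F186081)) (tt N24565 (iv F186959)) (tt N25250 (iv F189468)) (tt N23020 F184953) (tt N23121 F184954) (tt N23019 (iv D40092)) (tt N25252 D41179) (tt N25244 (iv F189460)) (tt N25253 D41180))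
theorem Q24167 : ∀ i, i < 24167 → P i := stepQ 24166 Q24166 (allL N24166 (tt N24736 (iv F187771)) (tt N24520 (iv F186725)) (tt N25238 (iv F189444)) (tt N25251 (iv F189470)) (tt N23021 F184955) (tt N23027 F184956) (tt N25253 (iv F189476)) (tt N24944 (iv F188577)) (tt N25254 D41181) (tt N23019 (iv D40093)))
theorem Q24168 : ∀ i, i < 24168 → P i := stepQ 24167 Q24167 (allL N24167 (tt N24737 (iv F187774)) (tt N24390 (iv F185955)) (tt N24476 (iv F186487)) (tt N25093 (iv F189054)) (tt N25252 (iv F189472)) (tt N23022 F184957) (tt N24945 (iv F188579)) (tt N23020 (iv D40094)) (tt N25246 (iv F189463)) (tt N25255 D41182))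
theorem Q24169 : ∀ i, i < 24169 → P i := stepQ 24168 Q24168 (allL N24168 (tt N24738 (iv F187776)) (tt N24412 (iv F186086)) (tt N24566 (iv F186963)) (tt N24957 (iv F188626)) (tt N25253 (iv F189474)) (tt N23023 F184958) (tt N23021 F184959) (tt N25255 (iv F189479)) (tt N25256 D41183) (tt N23020 (iv D40095)))
theorem Q24170 : ∀ i, i < 24170 → P i := stepQ 24169 Q24169 (allL N24169 (tt N24739 (iv F187779)) (tt N24521 (iv F186731)) (tt N25239 (iv F189447)) (tt N24954 (iv F188615)) (tt N25254 (iv F189477)) (tt N24953 (iv F188612)) (tt N25256 (iv F189480)) (tt N24946 (iv F188583)) (tt N23021 (iv D40096)) (tt N25248 (iv F189466)))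
theorem Q24171 : ∀ i, i < 24171 → P i := stepQ 24170 Q24170 (allL N24170 (tt N24560 (iv F186936)) (tt N24391 (iv F185959)) (tt N24477 (iv F186491)) (tt N24435 (iv F186228)) (tt N23126 F184960) (tt N25255 (iv F189478)) (tt N23025 F184961) (tt N23023 F184962) (tt N24484 (iv F186539)) (tt N23022 (iv D40097)))
theorem Q24172 : ∀ i, i < 24172 → P i := stepQ 24171 Q24171 (allL N24171 (tt N24472 (iv F186462)) (tt N24298 (iv F185402)) (tt N24469 (iv F186442)) (tt N24490 (iv F186563)) (tt N23127 F184963) (tt N25257 D41184) (tt N23024 F184964) (tt N24484 (iv F186538)) (tt N23023 (iv D40098)) (tt N23062 F184965))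
theorem Q24173 : ∀ i, i < 24173 → P i := stepQ 24172 Q24172 (allL N24172 (tt N24740 (iv F187780)) (tt N25242 (iv F189454)) (tt N23026 (iv D40099)) (tt N25240 (iv F189448)) (tt N23029 F184966) (tt N25249 (iv F189467)) (tt N23128 F184967) (tt N24947 (iv F188586)) (tt N24424 (iv F186152)) (tt N25258 D41185))
theorem Q24174 : ∀ i, i < 24174 → P i := stepQ 24173 Q24173 (allL N24173 (tt N24741 (iv F187784)) (tt N24523 (iv F186745)) (tt N25258 (iv F189482)) (tt N23027 F184968) (tt N23030 F184969) (tt N25251 (iv F189471)) (tt N23129 F184970) (tt N24948 (iv F188591)) (tt N24567 (iv F186972)) (tt N23026 (iv D40100)))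
theorem Q24175 : ∀ i, i < 24175 → P i := stepQ 24174 Q24174 (allL N24174 (tt N24742 (iv F187790)) (tt N24522 F186742) (tt N25242 (iv F189455)) (tt N24567 (iv F186969)) (tt N23028 F184971) (tt N25259 D41186) (tt N23130 F184972) (tt N24949 (iv F188595)) (tt N23027 (iv D40101)) (tt N24425 (iv F186159)))
theorem Q24176 : ∀ i, i < 24176 → P i := stepQ 24175 Q24175 (allL N24175 (tt N24696 (iv F187614)) (tt N24415 (iv F186102)) (tt N23030 F184973) (tt N24175 F184974) (tt N25258 (iv F189483)) (tt N25024 (iv F188796)) (tt N23125 F184975) (tt N24950 (iv F188600)) (tt N23124 F184976) (tt N23029 (iv D40102)))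
theorem Q24177 : ∀ i, i < 24177 → P i := stepQ 24176 Q24176 (allL N24176 (tt N24714 (iv F187685)) (tt N23034 F184977) (tt N24269 (iv F185217)) (tt N25057 (iv F188936)) (tt N23061 F184978) (tt N25056 (iv F188932)) (tt N25220 (iv F189409)) (tt N23068 F184979) (tt N23032 (iv D40103)) (tt N25260 D41187))
theorem Q24178 : ∀ i, i < 24178 → P i := stepQ 24177 Q24177 (allL N24177 (tt N24745 (iv F187808)) (tt N25059 (iv F188943)) (tt N25042 (iv F188861)) (tt N24314 (iv F185505)) (tt N23033 (iv D40104)) (tt N23103 F184980) (tt N25221 (iv F189411)) (tt N23069 F184981) (tt N25261 D41188) (tt N23051 F184982))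
theorem Q24179 : ∀ i, i < 24179 → P i := stepQ 24178 Q24178 (allL N24178 (tt N24746 (iv F187814)) (tt N25057 (iv F188934)) (tt N25043 (iv F188867)) (tt N23034 F184983) (tt N25261 (iv F189490)) (tt N25054 (iv F188921)) (tt N25222 (iv F189414)) (tt N23070 F184984) (tt N23033 (iv D40105)) (tt N25262 D41189))
theorem Q24180 : ∀ i, i < 24180 → P i := stepQ 24179 Q24179 (allL N24179 (tt N24748 (iv F187825)) (tt N25056 (iv F188929)) (tt N23038 F184985) (tt N25054 (iv F188919)) (tt N25263 D41190) (tt N23034 (iv D40106)) (tt N25264 D41191) (tt N23071 F184986) (tt N23035 F184987) (tt N25265 D41192))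
theorem Q24181 : ∀ i, i < 24181 → P i := stepQ 24180 Q24180 (allL N24180 (tt N24749 (iv F187830)) (tt N25260 (iv F189486)) (tt N23039 F184988) (tt N25262 (iv F189492)) (tt N24317 (iv F185524)) (tt N25265 (iv F189501)) (tt N25223 (iv F189416)) (tt N23072 F184989) (tt N23055 F184990) (tt N23034 (iv D40107)))
theorem Q24182 : ∀ i, i < 24182 → P i := stepQ 24181 Q24181 (allL N24181 (tt N24750 (iv F187836)) (tt N25055 (iv F188923)) (tt N23040 F184991) (tt N25096 (iv F189062)) (tt N23035 (iv D40108)) (tt N23037 F184992) (tt N25266 D41193) (tt N23073 F184993) (tt N25263 (iv F189497)) (tt N25068 (iv F188985)))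
theorem Q24183 : ∀ i, i < 24183 → P i := stepQ 24182 Q24182 (allL N24182 (tt N24751 (iv F187841)) (tt N24666 (iv F187486)) (tt N23041 F184994) (tt N24665 (iv F187480)) (tt N25266 (iv F189504)) (tt N23036 F184995) (tt N23035 (iv D40109)) (tt N24671 (iv F187521)) (tt N25264 (iv F189499)) (tt N24882 (iv F188391)))
theorem Q24184 : ∀ i, i < 24184 → P i := stepQ 24183 Q24183 (allL N24183 (tt N24753 (iv F187852)) (tt N25126 (iv F189160)) (tt N25263 (iv F189495)) (tt N25267 D41194) (tt N23038 (iv D40110)) (tt N24322 (iv F185558)) (tt N25268 D41195) (tt N23076 F184996) (tt N23040 F184997) (tt N25269 D41196))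
theorem Q24185 : ∀ i, i < 24185 → P i := stepQ 24184 Q24184 (allL N24184 (tt N24754 (iv F187856)) (tt N25127 (iv F189164)) (tt N25264 (iv F189498)) (tt N25048 (iv F188892)) (tt N25268 (iv F189510)) (tt N25225 (iv F189419)) (tt N23038 (iv D40111)) (tt N25270 D41197) (tt N23041 F184998) (tt N25271 D41198))
theorem Q24186 : ∀ i, i < 24186 → P i := stepQ 24185 Q24185 (allL N24185 (tt N24755 (iv F187858)) (tt N25128 (iv F189167)) (tt N25265 (iv F189500)) (tt N25049 (iv F188895)) (tt N25269 (iv F189512)) (tt N23039 F184999) (tt N25271 (iv F189516)) (tt N23078 F185000) (tt N25272 D41199) (tt N23038 (iv D40112)))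
theorem Q24187 : ∀ i, i < 24187 → P i := stepQ 24186 Q24186 (allL N24186 (tt N24756 (iv F187861)) (tt N25129 (iv F189171)) (tt N25164 (iv F189270)) (tt N23040 (iv D40113)) (tt N23104 F185001) (tt N23047 F185002) (tt N25273 D41200) (tt N23079 F185003) (tt N25267 (iv F189509)) (tt N25162 F189266))
theorem Q24188 : ∀ i, i < 24188 → P i := stepQ 24187 Q24187 (allL N24187 (tt N24757 (iv F187865)) (tt N25130 (iv F189175)) (tt N25266 (iv F189503)) (tt N25273 (iv F189520)) (tt N23041 F185004) (tt N24187 F185005) (tt N23040 (iv D40114)) (tt N25274 D41201) (tt N25268 (iv F189511)) (tt N25275 D41202))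
theorem Q24189 : ∀ i, i < 24189 → P i := stepQ 24188 Q24188 (allL N24188 (tt N24758 (iv F187868)) (tt N24318 (iv F185528)) (tt N25068 (iv F188981)) (tt N25162 (iv F189262)) (tt N23042 F185006) (tt N23048 F185007) (tt N25275 (iv F189528)) (tt N23081 F185008) (tt N25276 D41203) (tt N23040 (iv D40115)))
theorem Q24190 : ∀ i, i < 24190 → P i := stepQ 24189 Q24189 (allL N24189 (tt N24759 (iv F187872)) (tt N25131 (iv F189178)) (tt N24671 (iv F187518)) (tt N25052 (iv F188909)) (tt N25274 (iv F189523)) (tt N23043 F185009) (tt N23082 F185010) (tt N23041 (iv D40116)) (tt N25270 (iv F189515)) (tt N25277 D41204))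
theorem Q24191 : ∀ i, i < 24191 → P i := stepQ 24190 Q24190 (allL N24190 (tt N24760 (iv F187876)) (tt N24319 (iv F185534)) (tt N24882 (iv F188388)) (tt N24890 (iv F188412)) (tt N25275 (iv F189526)) (tt N23044 F185011) (tt N23042 F185012) (tt N25277 (iv F189533)) (tt N25278 D41205) (tt N23041 (iv D40117)))
theorem Q24192 : ∀ i, i < 24192 → P i := stepQ 24191 Q24191 (allL N24191 (tt N24761 (iv F187879)) (tt N24316 (iv F185516)) (tt N25069 (iv F188987)) (tt N25053 (iv F188914)) (tt N25276 (iv F189529)) (tt N23061 F185013) (tt N25278 (iv F189534)) (tt N23084 F185014) (tt N23042 (iv D40118)) (tt N25272 (iv F189519)))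
theorem Q24193 : ∀ i, i < 24193 → P i := stepQ 24192 Q24192 (allL N24192 (tt N24700 (iv F187633)) (tt N24320 (iv F185540)) (tt N24614 (iv F187201)) (tt N24586 (iv F187057)) (tt N24192 F185015) (tt N25277 (iv F189531)) (tt N23046 F185016) (tt N23044 F185017) (tt N24575 (iv F187012)) (tt N23043 (iv D40119)))
theorem Q24194 : ∀ i, i < 24194 → P i := stepQ 24193 Q24193 (allL N24193 (tt N24646 (iv F187388)) (tt N24299 (iv F185410)) (tt N24528 (iv F186770)) (tt N24585 (iv F187049)) (tt N24193 F185018) (tt N25279 D41206) (tt N23045 F185019) (tt N24575 (iv F187011)) (tt N23044 (iv D40120)) (tt N24574 F187004))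
theorem Q24195 : ∀ i, i < 24195 → P i := stepQ 24194 Q24194 (allL N24194 (tt N24775 (iv F187940)) (tt N23052 F185020) (tt N24332 (iv F185614)) (tt N23050 F185021) (tt N25113 (iv F189126)) (tt N24263 (iv F185174)) (tt N25228 (iv F189426)) (tt N23087 F185022) (tt N23049 (iv D40121)) (tt N25280 D41207))
theorem Q24196 : ∀ i, i < 24196 → P i := stepQ 24195 Q24195 (allL N24195 (tt N24777 (iv F187950)) (tt N23055 F185023) (tt N24266 (iv F185194)) (tt N25280 (iv F189537)) (tt N23058 F185024) (tt N24264 (iv F185181)) (tt N25229 (iv F189429)) (tt N23088 F185025) (tt N25260 (iv F189489)) (tt N23050 (iv D40122)))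
theorem Q24197 : ∀ i, i < 24197 → P i := stepQ 24196 Q24196 (allL N24196 (tt N24769 (iv F187914)) (tt N25113 (iv F189125)) (tt N25101 (iv F189083)) (tt N25039 (iv F188846)) (tt N23052 F185026) (tt N25156 (iv F189249)) (tt N25230 (iv F189431)) (tt N23089 F185027) (tt N23051 (iv D40123)) (tt N25281 D41208))
theorem Q24198 : ∀ i, i < 24198 → P i := stepQ 24197 Q24197 (allL N24197 (tt N24770 (iv F187917)) (tt N24263 (iv F185171)) (tt N25102 (iv F189087)) (tt N23054 F185028) (tt N24344 (iv F185682)) (tt N23052 (iv D40124)) (tt N24561 (iv F186946)) (tt N23090 F185029) (tt N23053 F185030) (tt N25282 D41209))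
theorem Q24199 : ∀ i, i < 24199 → P i := stepQ 24198 Q24198 (allL N24198 (tt N24771 (iv F187922)) (tt N25280 (iv F189536)) (tt N25103 (iv F189091)) (tt N23055 F185031) (tt N25281 (iv F189539)) (tt N25282 (iv F189542)) (tt N25232 (iv F189435)) (tt N23091 F185032) (tt N25262 (iv F189494)) (tt N23052 (iv D40125)))
theorem Q24200 : ∀ i, i < 24200 → P i := stepQ 24199 Q24199 (allL N24199 (tt N24773 (iv F187931)) (tt N24264 (iv F185178)) (tt N23058 F185033) (tt N25282 (iv F189541)) (tt N24266 (iv F185196)) (tt N23055 F185034) (tt N24564 (iv F186956)) (tt N23097 F185035) (tt N25283 D41210) (tt N23054 (iv D40126)))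
theorem Q24201 : ∀ i, i < 24201 → P i := stepQ 24200 Q24200 (allL N24200 (tt N24774 (iv F187936)) (tt N23063 F185036) (tt N23061 F185037) (tt N25070 (iv F188993)) (tt N24269 (iv F185219)) (tt N25069 (iv F188989)) (tt N24526 (iv F186765)) (tt N23099 F185038) (tt N23056 (iv D40127)) (tt N25283 (iv F189547)))
theorem Q24202 : ∀ i, i < 24202 → P i := stepQ 24201 Q24201 (allL N24201 (tt N24778 (iv F187955)) (tt N24389 (iv F185949)) (tt N24475 (iv F186483)) (tt N25116 (iv F189133)) (tt N24927 (iv F188526)) (tt N25246 (iv F189462)) (tt N23100 F185039) (tt N23057 (iv D40128)) (tt N23059 F185040) (tt N25284 D41211))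
theorem Q24203 : ∀ i, i < 24203 → P i := stepQ 24202 Q24202 (allL N24202 (tt N24779 (iv F187958)) (tt N24410 (iv F186076)) (tt N24564 (iv F186955)) (tt N25117 (iv F189136)) (tt N25229 (iv F189428)) (tt N25247 (iv F189464)) (tt N23058 F185041) (tt N25284 (iv F189549)) (tt N25285 D41212) (tt N23057 (iv D40129)))
theorem Q24204 : ∀ i, i < 24204 → P i := stepQ 24203 Q24203 (allL N24203 (tt N24780 (iv F187960)) (tt N24317 (iv F185522)) (tt N25283 (iv F189545)) (tt N25118 (iv F189138)) (tt N25260 (iv F189487)) (tt N25272 (iv F189517)) (tt N25285 (iv F189550)) (tt N23102 F185042) (tt N23058 (iv D40130)) (tt N23061 F185043))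
theorem Q24205 : ∀ i, i < 24205 → P i := stepQ 24204 Q24204 (allL N24204 (tt N24782 (iv F187967)) (tt N24296 (iv F185392)) (tt N24526 (iv F186764)) (tt N25123 (iv F189153)) (tt N25220 (iv F189408)) (tt N25286 D41213) (tt N23061 F185044) (tt N24718 (iv F187707)) (tt N23060 (iv D40131)) (tt N25285 (iv F189551)))
theorem Q24206 : ∀ i, i < 24206 → P i := stepQ 24205 Q24205 (allL N24205 (tt N24783 (iv F187969)) (tt N24297 (iv F185398)) (tt N24527 (iv F186767)) (tt N25124 (iv F189155)) (tt N25287 D41214) (tt N23062 (iv D40132)) (tt N25279 (iv F189535)) (tt N24719 (iv F187711)) (tt N25286 (iv F189552)) (tt N25257 (iv F189481)))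
theorem Q24207 : ∀ i, i < 24207 → P i := stepQ 24206 Q24206 (allL N24206 (tt N24789 (iv F187993)) (tt N25283 (iv F189544)) (tt N23065 F185045) (tt N25075 (iv F189006)) (tt N25125 (iv F189157)) (tt N25073 (iv F189002)) (tt N24534 (iv F186804)) (tt N24284 (iv F185321)) (tt N24264 (iv F185184)) (tt N23063 (iv D40133)))
theorem Q24208 : ∀ i, i < 24208 → P i := stepQ 24207 Q24207 (allL N24207 (tt N24715 (iv F187690)) (tt N23072 F185046) (tt N25209 (iv F189383)) (tt N25136 (iv F189200)) (tt N23102 F185047) (tt N25134 (iv F189192)) (tt N24640 (iv F187355)) (tt N25260 (iv F189488)) (tt N23088 F185048) (tt N23068 (iv D40134)))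
theorem Q24209 : ∀ i, i < 24209 → P i := stepQ 24208 Q24208 (allL N24208 (tt N24804 (iv F188051)) (tt N25135 (iv F189193)) (tt N25150 (iv F189234)) (tt N24331 (iv F185609)) (tt N23070 F185049) (tt N25176 (iv F189299)) (tt N24798 (iv F188027)) (tt N25261 (iv F189491)) (tt N23069 (iv D40135)) (tt N25288 D41215))
theorem Q24210 : ∀ i, i < 24210 → P i := stepQ 24209 Q24209 (allL N24209 (tt N24806 (iv F188062)) (tt N25136 (iv F189198)) (tt N25151 (iv F189236)) (tt N23072 F185050) (tt N25288 (iv F189554)) (tt N25132 (iv F189185)) (tt N24799 (iv F188031)) (tt N25262 (iv F189493)) (tt N23091 F185051) (tt N23070 (iv D40136)))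
theorem Q24211 : ∀ i, i < 24211 → P i := stepQ 24210 Q24210 (allL N24210 (tt N24808 (iv F188075)) (tt N25133 (iv F189186)) (tt N23076 F185052) (tt N25174 (iv F189294)) (tt N23071 (iv D40137)) (tt N24337 (iv F185646)) (tt N24903 (iv F188459)) (tt N25263 (iv F189496)) (tt N23073 F185053) (tt N25289 D41216))
theorem Q24212 : ∀ i, i < 24212 → P i := stepQ 24211 Q24211 (allL N24211 (tt N24809 (iv F188081)) (tt N25134 (iv F189190)) (tt N23078 F185054) (tt N25132 (iv F189183)) (tt N25289 (iv F189557)) (tt N23072 F185055) (tt N24904 (iv F188464)) (tt N25265 (iv F189502)) (tt N25290 D41217) (tt N23071 (iv D40138)))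
theorem Q24213 : ∀ i, i < 24213 → P i := stepQ 24212 Q24212 (allL N24212 (tt N24811 (iv F188091)) (tt N24285 (iv F185324)) (tt N23081 F185056) (tt N25046 (iv F188882)) (tt N23074 F185057) (tt N23075 F185058) (tt N24905 (iv F188469)) (tt N25068 (iv F188984)) (tt N25291 D41218) (tt N23073 (iv D40139)))
theorem Q24214 : ∀ i, i < 24214 → P i := stepQ 24213 Q24213 (allL N24213 (tt N24812 (iv F188097)) (tt N24283 (iv F185312)) (tt N23084 F185059) (tt N25037 (iv F188837)) (tt N25291 (iv F189562)) (tt N23099 F185060) (tt N24906 (iv F188472)) (tt N25069 (iv F188990)) (tt N23074 (iv D40140)) (tt N25290 (iv F189560)))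
theorem Q24215 : ∀ i, i < 24215 → P i := stepQ 24214 Q24214 (allL N24214 (tt N24813 (iv F188102)) (tt N25212 (iv F189389)) (tt N25292 D41219) (tt N23076 (iv D40141)) (tt N25156 (iv F189248)) (tt N24344 (iv F185683)) (tt N25293 D41220) (tt N25267 (iv F189508)) (tt N23079 F185061) (tt N25294 D41221))
theorem Q24216 : ∀ i, i < 24216 → P i := stepQ 24215 Q24215 (allL N24215 (tt N24814 (iv F188105)) (tt N25213 (iv F189391)) (tt N24903 (iv F188458)) (tt N25293 (iv F189564)) (tt N23077 F185062) (tt N25295 D41222) (tt N23076 (iv D40142)) (tt N25296 D41223) (tt N23080 F185063) (tt N25297 D41224))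
theorem Q24217 : ∀ i, i < 24217 → P i := stepQ 24216 Q24216 (allL N24216 (tt N24815 (iv F188109)) (tt N25214 (iv F189394)) (tt N25289 (iv F189556)) (tt N25294 (iv F189566)) (tt N23078 F185064) (tt N24346 (iv F185691)) (tt N25297 (iv F189571)) (tt N25269 (iv F189513)) (tt N25298 D41225) (tt N23076 (iv D40143)))
theorem Q24218 : ∀ i, i < 24218 → P i := stepQ 24217 Q24217 (allL N24217 (tt N24816 (iv F188112)) (tt N25215 (iv F189396)) (tt N24668 (iv F187500)) (tt N25159 (iv F189255)) (tt N25296 (iv F189568)) (tt N24667 (iv F187495)) (tt N25270 (iv F189514)) (tt N23077 (iv D40144)) (tt N23082 F185065) (tt N25299 D41226))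
theorem Q24219 : ∀ i, i < 24219 → P i := stepQ 24218 Q24218 (allL N24218 (tt N24817 (iv F188116)) (tt N25216 (iv F189398)) (tt N24904 (iv F188462)) (tt N25160 (iv F189257)) (tt N25297 (iv F189570)) (tt N24802 (iv F188045)) (tt N23078 F185066) (tt N25299 (iv F189574)) (tt N25300 D41227) (tt N23077 (iv D40145)))
theorem Q24220 : ∀ i, i < 24220 → P i := stepQ 24219 Q24219 (allL N24219 (tt N24818 (iv F188120)) (tt N24339 (iv F185654)) (tt N25290 (iv F189558)) (tt N25161 (iv F189259)) (tt N25298 (iv F189572)) (tt N23102 F185067) (tt N25300 (iv F189575)) (tt N25272 (iv F189518)) (tt N23078 (iv D40146)) (tt N23084 F185068))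
theorem Q24221 : ∀ i, i < 24221 → P i := stepQ 24220 Q24220 (allL N24220 (tt N24819 (iv F188123)) (tt N25145 (iv F189222)) (tt N23079 (iv D40147)) (tt N25051 (iv F188904)) (tt N25162 (iv F189263)) (tt N23086 F185069) (tt N25301 D41228) (tt N25164 (iv F189274)) (tt N25292 (iv F189563)) (tt N23104 F185070))
theorem Q24222 : ∀ i, i < 24222 → P i := stepQ 24221 Q24221 (allL N24221 (tt N24820 (iv F188126)) (tt N25217 (iv F189400)) (tt N25301 (iv F189577)) (tt N23080 F185071) (tt N25163 (iv F189268)) (tt N23113 F185072) (tt N23079 (iv D40148)) (tt N25302 D41229) (tt N25293 (iv F189565)) (tt N25205 (iv F189370)))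
theorem Q24223 : ∀ i, i < 24223 → P i := stepQ 24222 Q24222 (allL N24222 (tt N24821 (iv F188129)) (tt N25218 (iv F189403)) (tt N24670 (iv F187513)) (tt N25302 (iv F189580)) (tt N23082 F185073) (tt N23114 F185074) (tt N25274 (iv F189525)) (tt N23080 (iv D40149)) (tt N25296 (iv F189569)) (tt N25303 D41230))
theorem Q24224 : ∀ i, i < 24224 → P i := stepQ 24223 Q24223 (allL N24223 (tt N24822 (iv F188133)) (tt N24341 (iv F185663)) (tt N24905 (iv F188466)) (tt N25205 (iv F189368)) (tt N23083 F185075) (tt N23115 F185076) (tt N23081 F185077) (tt N25303 (iv F189584)) (tt N25304 D41231) (tt N23080 (iv D40150)))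
theorem Q24225 : ∀ i, i < 24225 → P i := stepQ 24224 Q24224 (allL N24224 (tt N24823 (iv F188139)) (tt N24337 (iv F185644)) (tt N25291 (iv F189561)) (tt N25180 (iv F189309)) (tt N23084 F185078) (tt N25133 (iv F189189)) (tt N25304 (iv F189586)) (tt N25276 (iv F189530)) (tt N23081 (iv D40151)) (tt N25298 (iv F189573)))
theorem Q24226 : ∀ i, i < 24226 → P i := stepQ 24225 Q24225 (allL N24225 (tt N24824 (iv F188141)) (tt N24342 (iv F185669)) (tt N24672 (iv F187524)) (tt N25168 (iv F189281)) (tt N25303 (iv F189582)) (tt N23085 F185079) (tt N25277 (iv F189532)) (tt N23083 F185080) (tt N25305 D41232) (tt N23082 (iv D40152)))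
theorem Q24227 : ∀ i, i < 24227 → P i := stepQ 24226 Q24226 (allL N24226 (tt N24825 (iv F188146)) (tt N24338 (iv F185649)) (tt N24906 (iv F188471)) (tt N25169 (iv F189284)) (tt N25304 (iv F189585)) (tt N24835 (iv F188177)) (tt N23084 F185081) (tt N25305 (iv F189587)) (tt N23083 (iv D40153)) (tt N25300 (iv F189576)))
theorem Q24228 : ∀ i, i < 24228 → P i := stepQ 24227 Q24227 (allL N24227 (tt N24852 (iv F188232)) (tt N23091 F185082) (tt N25142 (iv F189214)) (tt N23088 F185083) (tt N25196 (iv F189349)) (tt N25208 (iv F189381)) (tt N24977 (iv F188681)) (tt N25280 (iv F189538)) (tt N25136 (iv F189202)) (tt N23087 (iv D40154)))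
theorem Q24229 : ∀ i, i < 24229 → P i := stepQ 24228 Q24228 (allL N24228 (tt N24839 (iv F188189)) (tt N25137 (iv F189203)) (tt N25180 (iv F189308)) (tt N25047 F188890) (tt N25267 (iv F189506)) (tt N23089 (iv D40155)) (tt N25306 D41233) (tt N25156 (iv F189250)) (tt N23104 F185084) (tt N25307 D41234))
theorem Q24230 : ∀ i, i < 24230 → P i := stepQ 24229 Q24229 (allL N24229 (tt N24840 (iv F188191)) (tt N25196 (iv F189347)) (tt N25181 (iv F189311)) (tt N25076 (iv F189009)) (tt N23091 F185085) (tt N25307 (iv F189589)) (tt N24983 (iv F188694)) (tt N25281 (iv F189540)) (tt N25288 (iv F189555)) (tt N23089 (iv D40156)))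
theorem Q24231 : ∀ i, i < 24231 → P i := stepQ 24230 Q24230 (allL N24230 (tt N24841 (iv F188193)) (tt N25207 (iv F189376)) (tt N25182 (iv F189313)) (tt N24322 (iv F185557)) (tt N23090 (iv D40157)) (tt N25267 (iv F189507)) (tt N25308 D41235) (tt N24344 (iv F185684)) (tt N23092 F185086) (tt N25309 D41236))
theorem Q24232 : ∀ i, i < 24232 → P i := stepQ 24231 Q24231 (allL N24231 (tt N24842 (iv F188197)) (tt N24682 (iv F187562)) (tt N25183 (iv F189315)) (tt N23096 F185087) (tt N25308 (iv F189590)) (tt N24985 (iv F188697)) (tt N23090 (iv D40158)) (tt N25310 D41237) (tt N23093 F185088) (tt N25311 D41238))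
theorem Q24233 : ∀ i, i < 24233 → P i := stepQ 24232 Q24232 (allL N24232 (tt N24843 (iv F188200)) (tt N25208 (iv F189379)) (tt N25184 (iv F189318)) (tt N23097 F185089) (tt N25309 (iv F189592)) (tt N23091 F185090) (tt N25311 (iv F189596)) (tt N25282 (iv F189543)) (tt N25312 D41239) (tt N23090 (iv D40159)))
theorem Q24234 : ∀ i, i < 24234 → P i := stepQ 24233 Q24233 (allL N24233 (tt N24844 (iv F188203)) (tt N24681 (iv F187557)) (tt N25185 (iv F189321)) (tt N24325 (iv F185572)) (tt N23093 F185091) (tt N24233 F185092) (tt N23092 (iv D40160)) (tt N25313 D41240) (tt N25308 (iv F189591)) (tt N24701 (iv F187644)))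
theorem Q24235 : ∀ i, i < 24235 → P i := stepQ 24234 Q24234 (allL N24234 (tt N24845 (iv F188207)) (tt N24281 (iv F185299)) (tt N25100 (iv F189079)) (tt N24326 (iv F185578)) (tt N23094 F185093) (tt N23105 F185094) (tt N24701 (iv F187643)) (tt N24352 (iv F185719)) (tt N25314 D41241) (tt N23092 (iv D40161)))
theorem Q24236 : ∀ i, i < 24236 → P i := stepQ 24235 Q24235 (allL N24235 (tt N24846 (iv F188212)) (tt N24430 (iv F186193)) (tt N25186 (iv F189324)) (tt N23098 F185095) (tt N25313 (iv F189599)) (tt N23095 F185096) (tt N24473 (iv F186472)) (tt N23093 (iv D40162)) (tt N25310 (iv F189594)) (tt N24647 (iv F187399)))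
theorem Q24237 : ∀ i, i < 24237 → P i := stepQ 24236 Q24236 (allL N24236 (tt N24847 (iv F188215)) (tt N24282 (iv F185306)) (tt N25098 (iv F189072)) (tt N23099 F185097) (tt N25314 (iv F189601)) (tt N25037 (iv F188839)) (tt N24702 (iv F187647)) (tt N25070 (iv F188994)) (tt N23094 (iv D40163)) (tt N25312 (iv F189598)))
theorem Q24238 : ∀ i, i < 24238 → P i := stepQ 24237 Q24237 (allL N24237 (tt N24849 (iv F188223)) (tt N24432 (iv F186208)) (tt N23100 F185098) (tt N25310 (iv F189593)) (tt N24907 (iv F188475)) (tt N24993 (iv F188714)) (tt N24475 (iv F186484)) (tt N23096 (iv D40164)) (tt N23098 F185099) (tt N25315 D41242))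
theorem Q24239 : ∀ i, i < 24239 → P i := stepQ 24238 Q24238 (allL N24238 (tt N24850 (iv F188226)) (tt N24685 (iv F187573)) (tt N23101 F185100) (tt N25311 (iv F189595)) (tt N24917 (iv F188502)) (tt N24994 (iv F188717)) (tt N23097 F185101) (tt N25315 (iv F189603)) (tt N24705 (iv F187658)) (tt N23096 (iv D40165)))
theorem Q24240 : ∀ i, i < 24240 → P i := stepQ 24239 Q24239 (allL N24239 (tt N24851 (iv F188229)) (tt N24284 (iv F185317)) (tt N23102 F185102) (tt N25312 (iv F189597)) (tt N25209 (iv F189384)) (tt N25290 (iv F189559)) (tt N24705 (iv F187657)) (tt N25283 (iv F189546)) (tt N23097 (iv D40166)) (tt N23099 F185103))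
theorem Q24241 : ∀ i, i < 24241 → P i := stepQ 24240 Q24240 (allL N24240 (tt N24853 (iv F188234)) (tt N24749 (iv F187831)) (tt N25315 (iv F189602)) (tt N25201 (iv F189357)) (tt N24955 (iv F188619)) (tt N25009 (iv F188756)) (tt N25284 (iv F189548)) (tt N23101 F185104) (tt N24767 (iv F187907)) (tt N23100 (iv D40167)))
theorem Q24242 : ∀ i, i < 24242 → P i := stepQ 24241 Q24241 (allL N24241 (tt N24861 (iv F188273)) (tt N25144 (iv F189219)) (tt N25205 (iv F189367)) (tt N25050 (iv F188899)) (tt N25273 (iv F189521)) (tt N23106 F185105) (tt N23104 (iv D40168)) (tt N25316 D41243) (tt N25306 (iv F189588)) (tt N25301 (iv F189579)))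
theorem Q24243 : ∀ i, i < 24243 → P i := stepQ 24242 Q24242 (allL N24242 (tt N24868 (iv F188312)) (tt N25202 (iv F189359)) (tt N25206 (iv F189371)) (tt N25077 (iv F189012)) (tt N24242 F185106) (tt N25316 (iv F189604)) (tt N24242 F185107) (tt N23106 (iv D40169)) (tt N25034 (iv F188831)) (tt N25317 D41244))
theorem Q24244 : ∀ i, i < 24244 → P i := stepQ 24243 Q24243 (allL N24243 (tt N24869 (iv F188315)) (tt N25029 (iv F188816)) (tt N23113 F185108) (tt N24900 F188446) (tt N24243 F185109) (tt N25301 (iv F189578)) (tt N23107 F185110) (tt N25317 (iv F189608)) (tt N25318 D41245) (tt N23106 (iv D40170)))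
theorem Q24245 : ∀ i, i < 24245 → P i := stepQ 24244 Q24244 (allL N24244 (tt N24870 (iv F188320)) (tt N24864 (iv F188289)) (tt N23111 F185111) (tt N24871 (iv F188328)) (tt N24244 F185112) (tt N24364 (iv F185783)) (tt N25318 (iv F189611)) (tt N24244 F185113) (tt N23107 (iv D40171)) (tt N24872 (iv F188338)))
theorem Q24246 : ∀ i, i < 24246 → P i := stepQ 24245 Q24245 (allL N24245 (tt N24902 (iv F188451)) (tt N23113 F185114) (tt N24380 (iv F185886)) (tt N23109 F185115) (tt N24245 F185116) (tt N25217 (iv F189402)) (tt N23108 (iv D40172)) (tt N25319 D41246) (tt N24607 (iv F187157)) (tt N24362 (iv F185773)))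
theorem Q24247 : ∀ i, i < 24247 → P i := stepQ 24246 Q24246 (allL N24246 (tt N25022 (iv F188784)) (tt N23114 F185117) (tt N24371 (iv F185823)) (tt N25319 (iv F189613)) (tt N23110 F185118) (tt N25218 (iv F189405)) (tt N24246 F185119) (tt N23109 (iv D40173)) (tt N24876 F188360) (tt N24363 (iv F185779)))
theorem Q24248 : ∀ i, i < 24248 → P i := stepQ 24247 Q24247 (allL N24247 (tt N24687 (iv F187583)) (tt N24607 (iv F187153)) (tt N25318 (iv F189609)) (tt N23112 F185120) (tt N24247 F185121) (tt N25320 D41247) (tt N23111 (iv D40174)) (tt N25087 (iv F189042)) (tt N23113 F185122) (tt N24873 (iv F188343)))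
theorem Q24249 : ∀ i, i < 24249 → P i := stepQ 24248 Q24248 (allL N24248 (tt N24686 (iv F187578)) (tt N24822 (iv F188134)) (tt N24630 (iv F187307)) (tt N25320 (iv F189616)) (tt N24627 (iv F187289)) (tt N23112 (iv D40175)) (tt N24366 (iv F185796)) (tt N25085 (iv F189037)) (tt N25295 (iv F189567)) (tt N24692 (iv F187603)))
theorem Q24250 : ∀ i, i < 24250 → P i := stepQ 24249 Q24249 (allL N24249 (tt N24875 (iv F188350)) (tt N25319 (iv F189612)) (tt N25317 (iv F189605)) (tt N23114 F185123) (tt N24249 F185124) (tt N25302 (iv F189581)) (tt N24249 F185125) (tt N23113 (iv D40176)) (tt N25087 (iv F189043)) (tt N25206 (iv F189375)))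
theorem Q24251 : ∀ i, i < 24251 → P i := stepQ 24250 Q24250 (allL N24250 (tt N24876 (iv F188354)) (tt N24363 (iv F185775)) (tt N24673 (iv F187530)) (tt N25206 (iv F189372)) (tt N23116 F185126) (tt N25303 (iv F189583)) (tt N24250 F185127) (tt N23115 F185128) (tt N25022 (iv F188789)) (tt N23114 (iv D40177)))
theorem Q24252 : ∀ i, i < 24252 → P i := stepQ 24251 Q24251 (allL N24251 (tt N24863 (iv F188282)) (tt N25321 D41248) (tt N23117 (iv D40178)) (tt N23128 F185129) (tt N24251 F185130) (tt N24428 (iv F186181)) (tt N25240 (iv F189450)) (tt N24251 F185131) (tt N24426 (iv F186165)) (tt N25322 D41249))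
theorem Q24253 : ∀ i, i < 24253 → P i := stepQ 24252 Q24252 (allL N24252 (tt N24877 (iv F188361)) (tt N24426 F186166) (tt N25322 (iv F189625)) (tt N23118 F185132) (tt N24252 F185133) (tt N23130 F185134) (tt N25241 (iv F189453)) (tt N24252 F185135) (tt N25321 (iv F189622)) (tt N23117 (iv D40179)))
theorem Q24254 : ∀ i, i < 24254 → P i := stepQ 24253 Q24253 (allL N24253 (tt N24878 (iv F188367)) (tt N23128 F185136) (tt N23130 F185137) (tt N25321 (iv F189618)) (tt N23119 F185138) (tt N25322 (iv F189628)) (tt N25242 (iv F189457)) (tt N24253 F185139) (tt N23118 (iv D40180)) (tt N24428 (iv F186183)))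
theorem Q24255 : ∀ i, i < 24255 → P i := stepQ 24254 Q24254 (allL N24254 (tt N24864 (iv F188288)) (tt N25322 (iv F189624)) (tt N23120 (iv D40181)) (tt N24428 (iv F186179)) (tt N24254 F185140) (tt N23128 F185141) (tt N25323 D41250) (tt N24254 F185142) (tt N24427 F186175) (tt N25321 F189623))
theorem Q24256 : ∀ i, i < 24256 → P i := stepQ 24255 Q24255 (allL N24255 (tt N24866 (iv F188301)) (tt N24413 (iv F186092)) (tt N25323 (iv F189631)) (tt N23121 F185143) (tt N24255 F185144) (tt N25250 (iv F189469)) (tt N23120 (iv D40182)) (tt N25324 D41251) (tt N24598 (iv F187101)) (tt N25325 D41252))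
theorem Q24257 : ∀ i, i < 24257 → P i := stepQ 24256 Q24256 (allL N24256 (tt N24867 (iv F188306)) (tt N24427 (iv F186169)) (tt N25321 (iv F189617)) (tt N23122 F185145) (tt N24256 F185146) (tt N23129 F185147) (tt N25325 (iv F189638)) (tt N24256 F185148) (tt N25322 (iv F189630)) (tt N23120 (iv D40183)))
theorem Q24258 : ∀ i, i < 24258 → P i := stepQ 24257 Q24257 (allL N24257 (tt N24879 (iv F188373)) (tt N24393 (iv F185975)) (tt N24479 (iv F186507)) (tt N25324 (iv F189633)) (tt N23123 F185149) (tt N25252 (iv F189473)) (tt N24257 F185150) (tt N23121 (iv D40184)) (tt N24599 (iv F187107)) (tt N25326 D41253))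
theorem Q24259 : ∀ i, i < 24259 → P i := stepQ 24258 Q24258 (allL N24258 (tt N24880 (iv F188378)) (tt N24414 (iv F186097)) (tt N24567 (iv F186968)) (tt N25325 (iv F189636)) (tt N23124 F185151) (tt N25253 (iv F189475)) (tt N23122 F185152) (tt N25326 (iv F189641)) (tt N25258 (iv F189485)) (tt N23121 (iv D40185)))
theorem Q24260 : ∀ i, i < 24260 → P i := stepQ 24259 Q24259 (allL N24259 (tt N24865 (iv F188295)) (tt N24428 (iv F186177)) (tt N23129 F185153) (tt N25322 (iv F189626)) (tt N23125 F185154) (tt N25321 (iv F189620)) (tt N25258 (iv F189484)) (tt N24259 F185155) (tt N23122 (iv D40186)) (tt N23128 F185156))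
theorem Q24261 : ∀ i, i < 24261 → P i := stepQ 24260 Q24260 (allL N24260 (tt N24603 (iv F187129)) (tt N24394 (iv F185981)) (tt N24480 (iv F186513)) (tt N24260 F185157) (tt N25326 (iv F189639)) (tt N23126 F185158) (tt N24260 F185159) (tt N23124 F185160) (tt N24950 (iv F188601)) (tt N23123 (iv D40187)))
theorem Q24262 : ∀ i, i < 24262 → P i := stepQ 24261 Q24261 (allL N24261 (tt N24881 (iv F188383)) (tt N24300 (iv F185418)) (tt N24529 (iv F186777)) (tt N25034 (iv F188828)) (tt N23131 (iv D40188)) (tt N25287 (iv F189553)) (tt N24261 F185161) (tt N24720 (iv F187716)) (tt N25077 (iv F189015)) (tt N25023 (iv F188793)))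
theorem Q24263 : ∀ i, i < 24263 → P i := stepQ 24262 Q24262 (allL N24262 (tt N23800 F185162) (tt N23215 F185163) (tt N23201 F185164) (tt N23160 F185165) (tt N23132 (iv D40189)) (tt N23143 F185166) (tt N23445 F185167) (tt N24125 F185168) (tt N25327 D41254) (tt N23987 F185169))
theorem Q24264 : ∀ i, i < 24264 → P i := stepQ 24263 Q24263 (allL N24263 (tt N23801 F185170) (tt N24197 F185171) (tt N23202 F185172) (tt N23133 F185173) (tt N25327 (iv F189646)) (tt N24194 F185174) (tt N23446 F185175) (tt N24126 F185176) (tt N23132 (iv D40190)) (tt N25328 D41255))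
theorem Q24265 : ∀ i, i < 24265 → P i := stepQ 24264 Q24264 (allL N24264 (tt N23802 F185177) (tt N24199 F185178) (tt N23135 F185179) (tt N25328 (iv F189653)) (tt N24123 F185180) (tt N24195 F185181) (tt N23453 F185182) (tt N24127 F185183) (tt N24206 F185184) (tt N23133 (iv D40191)))
theorem Q24266 : ∀ i, i < 24266 → P i := stepQ 24265 Q24265 (allL N24265 (tt N23803 F185185) (tt N23391 F185186) (tt N24149 F185187) (tt N23213 F185188) (tt N23440 F185189) (tt N23464 F185190) (tt N23134 (iv D40192)) (tt N25329 D41256) (tt N23136 F185191) (tt N25330 D41257))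
theorem Q24267 : ∀ i, i < 24267 → P i := stepQ 24266 Q24266 (allL N24266 (tt N23804 F185192) (tt N24123 F185193) (tt N24195 F185194) (tt N23214 F185195) (tt N24199 F185196) (tt N23135 F185197) (tt N25330 (iv F189672)) (tt N24128 F185198) (tt N25331 D41258) (tt N23134 (iv D40193)))
theorem Q24268 : ∀ i, i < 24268 → P i := stepQ 24267 Q24267 (allL N24267 (tt N23805 F185199) (tt N23319 F185200) (tt N23839 F185201) (tt N23218 F185202) (tt N23351 F185203) (tt N23138 F185204) (tt N23818 F185205) (tt N23136 (iv D40194)) (tt N25329 (iv F189665)) (tt N23946 (iv F185206)))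
theorem Q24269 : ∀ i, i < 24269 → P i := stepQ 24268 Q24268 (allL N24268 (tt N23806 F185207) (tt N23386 F185208) (tt N24141 F185209) (tt N23219 F185210) (tt N23403 F185211) (tt N23139 F185212) (tt N23137 F185213) (tt N23946 F185214) (tt N25332 D41259) (tt N23136 (iv D40195)))
theorem Q24270 : ∀ i, i < 24270 → P i := stepQ 24269 Q24269 (allL N24269 (tt N23807 F185215) (tt N24034 F185216) (tt N24176 F185217) (tt N23220 F185218) (tt N24200 F185219) (tt N24131 F185220) (tt N25332 (iv F189686)) (tt N24129 F185221) (tt N23137 (iv D40196)) (tt N25331 (iv F189680)))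
theorem Q24271 : ∀ i, i < 24271 → P i := stepQ 24270 Q24270 (allL N24270 (tt N23714 F185222) (tt N23145 F185223) (tt N23965 F185224) (tt N23144 F185225) (tt N23141 F185226) (tt N25333 D41260) (tt N23140 F185227) (tt N23667 F185228) (tt N23139 (iv D40197)) (tt N23473 F185229))
theorem Q24272 : ∀ i, i < 24272 → P i := stepQ 24271 Q24271 (allL N24271 (tt N23750 F185230) (tt N23387 F185231) (tt N23991 F185232) (tt N23142 F185233) (tt N25334 D41261) (tt N23141 (iv D40198)) (tt N24271 F185234) (tt N23743 F185235) (tt N23406 F185236) (tt N23483 F185237))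
theorem Q24273 : ∀ i, i < 24273 → P i := stepQ 24272 Q24272 (allL N24272 (tt N23719 F185238) (tt N23146 F185239) (tt N23567 F185240) (tt N25333 (iv F189691)) (tt N23568 F185241) (tt N23144 (iv D40199)) (tt N23523 F185242) (tt N23668 F185243) (tt N25335 D41262) (tt N23566 F185244))
theorem Q24274 : ∀ i, i < 24274 → P i := stepQ 24273 Q24273 (allL N24273 (tt N23154 F185245) (tt N25333 (iv F189689)) (tt N23389 F185246) (tt N23146 F185247) (tt N25336 D41263) (tt N23145 (iv D40200)) (tt N23524 F185248) (tt N23669 F185249) (tt N25337 D41264) (tt N23686 F185250))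
theorem Q24275 : ∀ i, i < 24275 → P i := stepQ 24274 Q24274 (allL N24274 (tt N23155 F185251) (tt N25335 (iv F189704)) (tt N23148 F185252) (tt N25337 (iv F189719)) (tt N23687 F185253) (tt N25338 D41265) (tt N23525 F185254) (tt N23670 F185255) (tt N23146 (iv D40201)) (tt N25339 D41266))
theorem Q24276 : ∀ i, i < 24276 → P i := stepQ 24275 Q24275 (allL N24275 (tt N23156 F185256) (tt N23219 F185257) (tt N23149 F185258) (tt N23386 F185259) (tt N23919 F185260) (tt N23147 (iv D40202)) (tt N23162 F185261) (tt N23671 F185262) (tt N25338 (iv F189730)) (tt N23161 F185263))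
theorem Q24277 : ∀ i, i < 24277 → P i := stepQ 24276 Q24276 (allL N24276 (tt N23158 F185264) (tt N23813 F185265) (tt N25338 (iv F189725)) (tt N23627 F185266) (tt N25340 D41267) (tt N23148 (iv D40203)) (tt N24043 F185267) (tt N23673 F185268) (tt N23149 F185269) (tt N25341 D41268))
theorem Q24278 : ∀ i, i < 24278 → P i := stepQ 24277 Q24277 (allL N24277 (tt N23159 F185270) (tt N23814 F185271) (tt N25339 (iv F189732)) (tt N23628 F185272) (tt N24122 F185273) (tt N25341 (iv F189748)) (tt N23528 F185274) (tt N23674 F185275) (tt N23795 F185276) (tt N23148 (iv D40204)))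
theorem Q24279 : ∀ i, i < 24279 → P i := stepQ 24278 Q24278 (allL N24278 (tt N23160 F185277) (tt N23815 F185278) (tt N23919 F185279) (tt N23800 F185280) (tt N23149 (iv D40205)) (tt N23151 F185281) (tt N24042 F185282) (tt N23675 F185283) (tt N25340 (iv F189744)) (tt N25342 D41269))
theorem Q24280 : ∀ i, i < 24280 → P i := stepQ 24279 Q24279 (allL N24279 (tt N23162 F185284) (tt N23816 F185285) (tt N23161 F185286) (tt N23381 F185287) (tt N25342 (iv F189755)) (tt N23150 F185288) (tt N23156 F185289) (tt N23677 F185290) (tt N25343 D41270) (tt N23149 (iv D40206)))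
theorem Q24281 : ∀ i, i < 24281 → P i := stepQ 24280 Q24280 (allL N24280 (tt N23164 F185291) (tt N23817 F185292) (tt N23165 F185293) (tt N23744 F185294) (tt N23152 F185295) (tt N25342 (iv F189756)) (tt N23153 F185296) (tt N23679 F185297) (tt N23697 F185298) (tt N23151 (iv D40207)))
theorem Q24282 : ∀ i, i < 24282 → P i := stepQ 24281 Q24281 (allL N24281 (tt N25336 (iv F189710)) (tt N24234 F185299) (tt N23954 F185300) (tt N24130 F185301) (tt N23154 (iv D40208)) (tt N23951 F185302) (tt N23590 F185303) (tt N23987 F185304) (tt N25344 D41271) (tt N24125 F185305))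
theorem Q24283 : ∀ i, i < 24283 → P i := stepQ 24282 Q24282 (allL N24282 (tt N25337 (iv F189717)) (tt N24236 F185306) (tt N23952 F185307) (tt N23155 F185308) (tt N25344 (iv F189769)) (tt N23950 F185309) (tt N23591 F185310) (tt N23985 F185311) (tt N23154 (iv D40209)) (tt N25345 D41272))
theorem Q24284 : ∀ i, i < 24284 → P i := stepQ 24283 Q24283 (allL N24283 (tt N25338 (iv F189723)) (tt N24213 F185312) (tt N23158 F185313) (tt N23950 F185314) (tt N25346 D41273) (tt N23155 (iv D40210)) (tt N25343 (iv F189764)) (tt N23984 F185315) (tt N23156 F185316) (tt N25347 D41274))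
theorem Q24285 : ∀ i, i < 24285 → P i := stepQ 24284 Q24284 (allL N24284 (tt N25339 (iv F189731)) (tt N24239 F185317) (tt N23159 F185318) (tt N25345 (iv F189775)) (tt N24132 F185319) (tt N25347 (iv F189790)) (tt N23594 F185320) (tt N24206 F185321) (tt N24127 F185322) (tt N23155 (iv D40211)))
theorem Q24286 : ∀ i, i < 24286 → P i := stepQ 24285 Q24285 (allL N24285 (tt N23919 F185323) (tt N24212 F185324) (tt N23160 F185325) (tt N24060 F185326) (tt N23156 (iv D40212)) (tt N23157 F185327) (tt N25342 (iv F189757)) (tt N23983 F185328) (tt N25346 (iv F189786)) (tt N24042 F185329))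
theorem Q24287 : ∀ i, i < 24287 → P i := stepQ 24286 Q24286 (allL N24286 (tt N25340 (iv F189737)) (tt N23212 F185330) (tt N25346 (iv F189782)) (tt N25327 (iv F189645)) (tt N23158 (iv D40213)) (tt N24133 F185331) (tt N25348 D41275) (tt N24139 F185332) (tt N23160 F185333) (tt N25349 D41276))
theorem Q24288 : ∀ i, i < 24288 → P i := stepQ 24287 Q24287 (allL N24287 (tt N24043 F185334) (tt N23213 F185335) (tt N25343 (iv F189761)) (tt N23391 F185336) (tt N25348 (iv F189796)) (tt N23598 F185337) (tt N23158 (iv D40214)) (tt N25350 D41277) (tt N23161 F185338) (tt N25351 D41278))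
theorem Q24289 : ∀ i, i < 24289 → P i := stepQ 24288 Q24288 (allL N24288 (tt N25341 (iv F189745)) (tt N23214 F185339) (tt N25347 (iv F189788)) (tt N24123 F185340) (tt N25349 (iv F189800)) (tt N23159 F185341) (tt N25351 (iv F189814)) (tt N24140 F185342) (tt N25352 D41279) (tt N23158 (iv D40215)))
theorem Q24290 : ∀ i, i < 24290 → P i := stepQ 24289 Q24289 (allL N24289 (tt N24042 F185343) (tt N23216 F185344) (tt N25342 (iv F189753)) (tt N23445 F185345) (tt N23161 F185346) (tt N23165 F185347) (tt N23160 (iv D40216)) (tt N25353 D41280) (tt N25348 (iv F189797)) (tt N23919 (iv F185348)))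
theorem Q24291 : ∀ i, i < 24291 → P i := stepQ 24290 Q24290 (allL N24290 (tt N25342 (iv F189751)) (tt N23217 F185349) (tt N24042 F185350) (tt N23987 F185351) (tt N23162 F185352) (tt N23164 F185353) (tt N23919 F185354) (tt N24130 F185355) (tt N25354 D41281) (tt N23160 (iv D40217)))
theorem Q24292 : ∀ i, i < 24292 → P i := stepQ 24291 Q24291 (allL N24291 (tt N23968 F185356) (tt N23218 F185357) (tt N23677 F185358) (tt N23319 F185359) (tt N25353 (iv F189825)) (tt N23163 F185360) (tt N23819 F185361) (tt N23161 (iv D40218)) (tt N25350 (iv F189809)) (tt N23671 F185362))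
theorem Q24293 : ∀ i, i < 24293 → P i := stepQ 24292 Q24292 (allL N24292 (tt N25343 (iv F189759)) (tt N23220 F185363) (tt N24043 F185364) (tt N24034 F185365) (tt N25354 (iv F189832)) (tt N24129 F185366) (tt N25338 (iv F189728)) (tt N24131 F185367) (tt N23162 (iv D40219)) (tt N25352 (iv F189820)))
theorem Q24294 : ∀ i, i < 24294 → P i := stepQ 24293 Q24293 (allL N24293 (tt N24119 F185368) (tt N23236 F185369) (tt N23679 F185370) (tt N23487 F185371) (tt N23166 F185372) (tt N25353 (iv F189826)) (tt N24293 F185373) (tt N23165 (iv D40220)) (tt N23644 F185374) (tt N23672 F185375))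
theorem Q24295 : ∀ i, i < 24295 → P i := stepQ 24294 Q24294 (allL N24294 (tt N23840 F185376) (tt N24031 F185377) (tt N23569 F185378) (tt N23169 F185379) (tt N25355 D41282) (tt N23167 (iv D40221)) (tt N23186 F185380) (tt N23607 F185381) (tt N25356 D41283) (tt N23279 F185382))
theorem Q24296 : ∀ i, i < 24296 → P i := stepQ 24295 Q24295 (allL N24295 (tt N23841 F185383) (tt N24033 F185384) (tt N23570 F185385) (tt N23170 F185386) (tt N24295 F185387) (tt N25357 D41284) (tt N23168 F185388) (tt N23608 F185389) (tt N23167 (iv D40222)) (tt N23845 F185390))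
theorem Q24297 : ∀ i, i < 24297 → P i := stepQ 24296 Q24296 (allL N24296 (tt N23842 F185391) (tt N24204 F185392) (tt N23175 F185393) (tt N25356 (iv F189847)) (tt N24143 F185394) (tt N25358 D41285) (tt N23187 F185395) (tt N23609 F185396) (tt N23169 (iv D40223)) (tt N25359 D41286))
theorem Q24298 : ∀ i, i < 24298 → P i := stepQ 24297 Q24297 (allL N24297 (tt N23843 F185397) (tt N24205 F185398) (tt N23176 F185399) (tt N25357 (iv F189853)) (tt N25360 D41287) (tt N23170 (iv D40224)) (tt N25361 D41288) (tt N23610 F185400) (tt N25358 (iv F189861)) (tt N25362 D41289))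
theorem Q24299 : ∀ i, i < 24299 → P i := stepQ 24298 Q24298 (allL N24298 (tt N23844 F185401) (tt N24171 F185402) (tt N23177 F185403) (tt N23845 F185404) (tt N23174 F185405) (tt N25362 (iv F189885)) (tt N23172 F185406) (tt N23611 F185407) (tt N23283 F185408) (tt N23170 (iv D40225)))
theorem Q24300 : ∀ i, i < 24300 → P i := stepQ 24299 Q24299 (allL N24299 (tt N23845 F185409) (tt N24193 F185410) (tt N23178 F185411) (tt N23844 F185412) (tt N24299 F185413) (tt N25361 (iv F189878)) (tt N23171 (iv D40226)) (tt N24153 F185414) (tt N23189 F185415) (tt N23841 F185416))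
theorem Q24301 : ∀ i, i < 24301 → P i := stepQ 24300 Q24300 (allL N24300 (tt N23846 F185417) (tt N24261 F185418) (tt N23181 F185419) (tt N25363 D41290) (tt N23173 (iv D40227)) (tt N25360 (iv F189872)) (tt N24300 F185420) (tt N23612 F185421) (tt N24113 F185422) (tt N25364 D41291))
theorem Q24302 : ∀ i, i < 24302 → P i := stepQ 24301 Q24301 (allL N24301 (tt N23847 F185423) (tt N23932 F185424) (tt N23182 F185425) (tt N24301 F185426) (tt N25364 (iv F189897)) (tt N23174 F185427) (tt N24301 F185428) (tt N23613 F185429) (tt N25365 D41292) (tt N23173 (iv D40228)))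
theorem Q24303 : ∀ i, i < 24303 → P i := stepQ 24302 Q24302 (allL N24302 (tt N23848 F185430) (tt N23418 F185431) (tt N25358 (iv F189859)) (tt N23574 F185432) (tt N25366 D41293) (tt N23175 (iv D40229)) (tt N25367 D41294) (tt N23614 F185433) (tt N23176 F185434) (tt N25368 D41295))
theorem Q24304 : ∀ i, i < 24304 → P i := stepQ 24303 Q24303 (allL N24303 (tt N23849 F185435) (tt N23419 F185436) (tt N25359 (iv F189864)) (tt N23575 F185437) (tt N24145 F185438) (tt N25368 (iv F189921)) (tt N23193 F185439) (tt N23615 F185440) (tt N23287 F185441) (tt N23175 (iv D40230)))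
theorem Q24305 : ∀ i, i < 24305 → P i := stepQ 24304 Q24304 (allL N24304 (tt N23850 F185442) (tt N23420 F185443) (tt N25360 (iv F189871)) (tt N25369 D41296) (tt N23176 (iv D40231)) (tt N23181 F185444) (tt N25370 D41297) (tt N23616 F185445) (tt N25366 (iv F189912)) (tt N25371 D41298))
theorem Q24306 : ∀ i, i < 24306 → P i := stepQ 24305 Q24305 (allL N24305 (tt N23851 F185446) (tt N23421 F185447) (tt N25361 (iv F189876)) (tt N23577 F185448) (tt N25370 (iv F189930)) (tt N23178 F185449) (tt N23176 (iv D40232)) (tt N25372 D41299) (tt N25367 (iv F189917)) (tt N25373 D41300))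
theorem Q24307 : ∀ i, i < 24307 → P i := stepQ 24306 Q24306 (allL N24306 (tt N23852 F185450) (tt N23422 F185451) (tt N25362 (iv F189883)) (tt N23578 F185452) (tt N25371 (iv F189934)) (tt N23177 F185453) (tt N25373 (iv F189949)) (tt N23618 F185454) (tt N25374 D41301) (tt N23176 (iv D40233)))
theorem Q24308 : ∀ i, i < 24308 → P i := stepQ 24307 Q24307 (allL N24307 (tt N23853 F185455) (tt N23423 F185456) (tt N24153 F185457) (tt N23579 F185458) (tt N24307 F185459) (tt N25372 (iv F189941)) (tt N23180 F185460) (tt N23178 (iv D40234)) (tt N23197 F185461) (tt N23995 (iv F185462)))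
theorem Q24309 : ∀ i, i < 24309 → P i := stepQ 24308 Q24308 (allL N24308 (tt N23570 F185463) (tt N23424 F185464) (tt N23841 F185465) (tt N23516 F185466) (tt N24308 F185467) (tt N25373 (iv F189948)) (tt N23179 F185468) (tt N23995 F185469) (tt N23514 F185470) (tt N23178 (iv D40235)))
theorem Q24310 : ∀ i, i < 24310 → P i := stepQ 24309 Q24309 (allL N24309 (tt N23854 F185471) (tt N23427 F185472) (tt N25375 D41302) (tt N23181 (iv D40236)) (tt N23183 F185473) (tt N25369 (iv F189926)) (tt N24309 F185474) (tt N23621 F185475) (tt N23741 F185476) (tt N25376 D41303))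
theorem Q24311 : ∀ i, i < 24311 → P i := stepQ 24310 Q24310 (allL N24310 (tt N23855 F185477) (tt N23428 F185478) (tt N25364 (iv F189896)) (tt N25376 (iv F189963)) (tt N23182 F185479) (tt N25371 (iv F189935)) (tt N24310 F185480) (tt N23622 F185481) (tt N25377 D41304) (tt N23181 (iv D40237)))
theorem Q24312 : ∀ i, i < 24312 → P i := stepQ 24311 Q24311 (allL N24311 (tt N23856 F185482) (tt N23429 F185483) (tt N25365 (iv F189902)) (tt N23185 F185484) (tt N25377 (iv F189971)) (tt N23294 F185485) (tt N24311 F185486) (tt N23623 F185487) (tt N23182 (iv D40238)) (tt N23935 F185488))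
theorem Q24313 : ∀ i, i < 24313 → P i := stepQ 24312 Q24312 (allL N24312 (tt N23857 F185489) (tt N25378 D41305) (tt N23183 (iv D40239)) (tt N24312 F185490) (tt N25375 (iv F189957)) (tt N23581 F185491) (tt N24312 F185492) (tt N23624 F185493) (tt N23739 F185494) (tt N25379 D41306))
theorem Q24314 : ∀ i, i < 24314 → P i := stepQ 24313 Q24313 (allL N24313 (tt N23858 F185495) (tt N23431 F185496) (tt N25379 (iv F189985)) (tt N23184 F185497) (tt N25376 (iv F189964)) (tt N23240 F185498) (tt N24313 F185499) (tt N23625 F185500) (tt N23492 F185501) (tt N23183 (iv D40240)))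
theorem Q24315 : ∀ i, i < 24315 → P i := stepQ 24314 Q24314 (allL N24314 (tt N23865 F185502) (tt N24029 F185503) (tt N24125 F185504) (tt N24177 F185505) (tt N23186 (iv D40241)) (tt N23246 F185506) (tt N25355 (iv F189841)) (tt N23201 F185507) (tt N25380 D41307) (tt N23954 F185508))
theorem Q24316 : ∀ i, i < 24316 → P i := stepQ 24315 Q24315 (allL N24315 (tt N23866 F185509) (tt N24032 F185510) (tt N24126 F185511) (tt N23187 F185512) (tt N25380 (iv F189995)) (tt N24054 F185513) (tt N25356 (iv F189848)) (tt N23202 F185514) (tt N23186 (iv D40242)) (tt N25381 D41308))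
theorem Q24317 : ∀ i, i < 24317 → P i := stepQ 24316 Q24316 (allL N24316 (tt N23867 F185515) (tt N24191 F185516) (tt N23192 F185517) (tt N24054 F185518) (tt N25382 D41309) (tt N23187 (iv D40243)) (tt N25383 D41310) (tt N23206 F185519) (tt N23188 F185520) (tt N25384 D41311))
theorem Q24318 : ∀ i, i < 24318 → P i := stepQ 24317 Q24317 (allL N24317 (tt N23868 F185521) (tt N24203 F185522) (tt N23193 F185523) (tt N25381 (iv F190000)) (tt N24180 F185524) (tt N25384 (iv F190019)) (tt N25359 (iv F189866)) (tt N23207 F185525) (tt N24124 F185526) (tt N23187 (iv D40244)))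
theorem Q24319 : ∀ i, i < 24319 → P i := stepQ 24318 Q24318 (allL N24318 (tt N23869 F185527) (tt N24188 F185528) (tt N23194 F185529) (tt N25385 D41312) (tt N23188 (iv D40245)) (tt N23191 F185530) (tt N25386 D41313) (tt N23208 F185531) (tt N25382 (iv F190009)) (tt N24037 F185532))
theorem Q24320 : ∀ i, i < 24320 → P i := stepQ 24319 Q24319 (allL N24319 (tt N23870 F185533) (tt N24190 F185534) (tt N23195 F185535) (tt N23880 F185536) (tt N25386 (iv F190032)) (tt N23189 F185537) (tt N23188 (iv D40246)) (tt N25387 D41314) (tt N25383 (iv F190014)) (tt N24038 F185538))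
theorem Q24321 : ∀ i, i < 24321 → P i := stepQ 24320 Q24320 (allL N24320 (tt N23871 F185539) (tt N24192 F185540) (tt N23197 F185541) (tt N23859 F185542) (tt N24320 F185543) (tt N25387 (iv F190039)) (tt N23190 F185544) (tt N23189 (iv D40247)) (tt N24153 F185545) (tt N24039 F185546))
theorem Q24322 : ∀ i, i < 24322 → P i := stepQ 24321 Q24321 (allL N24321 (tt N23872 F185547) (tt N24078 F185548) (tt N24080 F185549) (tt N23191 (iv D40248)) (tt N23248 F185550) (tt N25385 (iv F190026)) (tt N24321 F185551) (tt N23211 F185552) (tt N24067 F185553) (tt N24040 F185554))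
theorem Q24323 : ∀ i, i < 24323 → P i := stepQ 24322 Q24322 (allL N24322 (tt N23873 F185555) (tt N24139 F185556) (tt N25382 (iv F190006)) (tt N24230 F185557) (tt N23192 (iv D40249)) (tt N24183 F185558) (tt N25388 D41315) (tt N23212 F185559) (tt N23194 F185560) (tt N25389 D41316))
theorem Q24324 : ∀ i, i < 24324 → P i := stepQ 24323 Q24323 (allL N24323 (tt N23874 F185561) (tt N23829 F185562) (tt N25383 (iv F190012)) (tt N23827 F185563) (tt N25388 (iv F190045)) (tt N25367 (iv F189916)) (tt N23192 (iv D40250)) (tt N25390 D41317) (tt N23195 F185564) (tt N25391 D41318))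
theorem Q24325 : ∀ i, i < 24325 → P i := stepQ 24324 Q24324 (allL N24324 (tt N23875 F185565) (tt N24140 F185566) (tt N25384 (iv F190017)) (tt N24128 F185567) (tt N25389 (iv F190050)) (tt N23193 F185568) (tt N25391 (iv F190061)) (tt N23214 F185569) (tt N25392 D41319) (tt N23192 (iv D40251)))
theorem Q24326 : ∀ i, i < 24326 → P i := stepQ 24325 Q24325 (allL N24325 (tt N23876 F185570) (tt N23828 F185571) (tt N25386 (iv F190031)) (tt N24233 F185572) (tt N23195 F185573) (tt N24325 F185574) (tt N23194 (iv D40252)) (tt N25393 D41320) (tt N25388 (iv F190046)) (tt N25394 D41321))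
theorem Q24327 : ∀ i, i < 24327 → P i := stepQ 24326 Q24326 (allL N24326 (tt N23877 F185575) (tt N24130 F185576) (tt N24037 F185577) (tt N24234 F185578) (tt N23196 F185579) (tt N23200 F185580) (tt N25394 (iv F190081)) (tt N23217 F185581) (tt N25395 D41322) (tt N23194 (iv D40253)))
theorem Q24328 : ∀ i, i < 24328 → P i := stepQ 24327 Q24327 (allL N24327 (tt N23878 F185582) (tt N23819 F185583) (tt N25387 (iv F190037)) (tt N23818 F185584) (tt N25393 (iv F190072)) (tt N23197 F185585) (tt N23218 F185586) (tt N23195 (iv D40254)) (tt N25390 (iv F190057)) (tt N25396 D41323))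
theorem Q24329 : ∀ i, i < 24329 → P i := stepQ 24328 Q24328 (allL N24328 (tt N23592 F185587) (tt N23562 F185588) (tt N24038 F185589) (tt N23526 F185590) (tt N25394 (iv F190079)) (tt N23198 F185591) (tt N23196 F185592) (tt N25396 (iv F190095)) (tt N25397 D41324) (tt N23195 (iv D40255)))
theorem Q24330 : ∀ i, i < 24330 → P i := stepQ 24329 Q24329 (allL N24329 (tt N23879 F185593) (tt N24131 F185594) (tt N24035 F185595) (tt N24129 F185596) (tt N25395 (iv F190086)) (tt N24034 F185597) (tt N25397 (iv F190101)) (tt N23220 F185598) (tt N23196 (iv D40256)) (tt N25392 (iv F190068)))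
theorem Q24331 : ∀ i, i < 24331 → P i := stepQ 24330 Q24330 (allL N24330 (tt N23541 F185599) (tt N23530 F185600) (tt N24039 F185601) (tt N23500 F185602) (tt N24330 F185603) (tt N25396 (iv F190093)) (tt N23199 F185604) (tt N23198 F185605) (tt N23498 F185606) (tt N23197 (iv D40257)))
theorem Q24332 : ∀ i, i < 24332 → P i := stepQ 24331 Q24331 (allL N24331 (tt N23887 F185607) (tt N24111 F185608) (tt N25327 (iv F189644)) (tt N24208 F185609) (tt N23202 F185610) (tt N25398 D41325) (tt N23721 F185611) (tt N25380 (iv F189996)) (tt N23201 (iv D40258)) (tt N25399 D41326))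
theorem Q24333 : ∀ i, i < 24333 → P i := stepQ 24332 Q24332 (allL N24332 (tt N23888 F185612) (tt N24076 F185613) (tt N24194 F185614) (tt N23206 F185615) (tt N25400 D41327) (tt N23202 (iv D40259)) (tt N25401 D41328) (tt N24054 F185616) (tt N23203 F185617) (tt N25402 D41329))
theorem Q24334 : ∀ i, i < 24334 → P i := stepQ 24333 Q24333 (allL N24333 (tt N23889 F185618) (tt N24109 F185619) (tt N25328 (iv F189652)) (tt N23207 F185620) (tt N25399 (iv F190110)) (tt N25402 (iv F190128)) (tt N23723 F185621) (tt N25381 (iv F190002)) (tt N23989 F185622) (tt N23202 (iv D40260)))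
theorem Q24335 : ∀ i, i < 24335 → P i := stepQ 24334 Q24334 (allL N24334 (tt N23890 F185623) (tt N24073 F185624) (tt N24027 F185625) (tt N25403 D41330) (tt N23203 (iv D40261)) (tt N23252 F185626) (tt N25404 D41331) (tt N24052 F185627) (tt N25400 (iv F190117)) (tt N23975 F185628))
theorem Q24336 : ∀ i, i < 24336 → P i := stepQ 24335 Q24335 (allL N24335 (tt N23891 F185629) (tt N24075 F185630) (tt N24148 F185631) (tt N23209 F185632) (tt N25404 (iv F190141)) (tt N23204 F185633) (tt N23203 (iv D40262)) (tt N25405 D41332) (tt N25401 (iv F190123)) (tt N23976 F185634))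
theorem Q24337 : ∀ i, i < 24337 → P i := stepQ 24336 Q24336 (allL N24336 (tt N23892 F185635) (tt N24077 F185636) (tt N23838 F185637) (tt N23210 F185638) (tt N24336 F185639) (tt N25405 (iv F190148)) (tt N23205 F185640) (tt N23204 (iv D40263)) (tt N23727 F185641) (tt N23977 F185642))
theorem Q24338 : ∀ i, i < 24338 → P i := stepQ 24337 Q24337 (allL N24337 (tt N23893 F185643) (tt N24224 F185644) (tt N23212 F185645) (tt N25406 D41333) (tt N23206 (iv D40264)) (tt N24210 F185646) (tt N25407 D41334) (tt N25382 (iv F190008)) (tt N23208 F185647) (tt N25408 D41335))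
theorem Q24339 : ∀ i, i < 24339 → P i := stepQ 24338 Q24338 (allL N24338 (tt N23894 F185648) (tt N24226 F185649) (tt N23213 F185650) (tt N25401 (iv F190121)) (tt N25407 (iv F190158)) (tt N23729 F185651) (tt N23206 (iv D40265)) (tt N25409 D41336) (tt N23209 F185652) (tt N25410 D41337))
theorem Q24340 : ∀ i, i < 24340 → P i := stepQ 24339 Q24339 (allL N24339 (tt N23895 F185653) (tt N24219 F185654) (tt N23214 F185655) (tt N25402 (iv F190127)) (tt N25408 (iv F190163)) (tt N23207 F185656) (tt N25410 (iv F190175)) (tt N25384 (iv F190020)) (tt N24135 F185657) (tt N23206 (iv D40266)))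
theorem Q24341 : ∀ i, i < 24341 → P i := stepQ 24340 Q24340 (allL N24340 (tt N23896 F185658) (tt N24120 F185659) (tt N25411 D41338) (tt N23208 (iv D40267)) (tt N25403 (iv F190134)) (tt N23211 F185660) (tt N25412 D41339) (tt N25385 (iv F190027)) (tt N25406 (iv F190154)) (tt N24136 F185661))
theorem Q24342 : ∀ i, i < 24342 → P i := stepQ 24341 Q24341 (allL N24341 (tt N23897 F185662) (tt N24223 F185663) (tt N23216 F185664) (tt N25412 (iv F190186)) (tt N23209 F185665) (tt N23227 F185666) (tt N23208 (iv D40268)) (tt N25413 D41340) (tt N25407 (iv F190159)) (tt N24137 F185667))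
theorem Q24343 : ∀ i, i < 24343 → P i := stepQ 24342 Q24342 (allL N24342 (tt N23899 F185668) (tt N24225 F185669) (tt N23218 F185670) (tt N25405 (iv F190147)) (tt N25413 (iv F190192)) (tt N23210 F185671) (tt N25387 (iv F190040)) (tt N23209 (iv D40269)) (tt N25409 (iv F190170)) (tt N24138 F185672))
theorem Q24344 : ∀ i, i < 24344 → P i := stepQ 24343 Q24343 (allL N24343 (tt N23903 F185673) (tt N24055 F185674) (tt N23211 (iv D40270)) (tt N23222 F185675) (tt N23251 F185676) (tt N25411 (iv F190181)) (tt N23229 F185677) (tt N24080 F185678) (tt N23966 F185679) (tt N23249 F185680))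
theorem Q24345 : ∀ i, i < 24345 → P i := stepQ 24344 Q24344 (allL N24344 (tt N23904 F185681) (tt N25327 (iv F189643)) (tt N25414 D41341) (tt N23212 (iv D40271)) (tt N24197 F185682) (tt N24214 F185683) (tt N25415 D41342) (tt N24230 F185684) (tt N23215 F185685) (tt N25416 D41343))
theorem Q24346 : ∀ i, i < 24346 → P i := stepQ 24345 Q24345 (allL N24345 (tt N23905 F185686) (tt N25348 (iv F189794)) (tt N25407 (iv F190157)) (tt N25415 (iv F190203)) (tt N23213 F185687) (tt N25417 D41344) (tt N23212 (iv D40272)) (tt N25418 D41345) (tt N23216 F185688) (tt N25419 D41346))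
theorem Q24347 : ∀ i, i < 24347 → P i := stepQ 24346 Q24346 (allL N24346 (tt N23906 F185689) (tt N25349 (iv F189799)) (tt N25408 (iv F190162)) (tt N25416 (iv F190207)) (tt N23214 F185690) (tt N24216 F185691) (tt N25419 (iv F190221)) (tt N25389 (iv F190052)) (tt N25420 D41347) (tt N23212 (iv D40273)))
theorem Q24348 : ∀ i, i < 24348 → P i := stepQ 24347 Q24347 (allL N24347 (tt N23907 F185692) (tt N25350 (iv F189804)) (tt N25409 (iv F190168)) (tt N25329 (iv F189661)) (tt N25418 (iv F190217)) (tt N23735 F185693) (tt N25390 (iv F190056)) (tt N23213 (iv D40274)) (tt N23218 F185694) (tt N25421 D41348))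
theorem Q24349 : ∀ i, i < 24349 → P i := stepQ 24348 Q24348 (allL N24348 (tt N23908 F185695) (tt N25351 (iv F189811)) (tt N25410 (iv F190173)) (tt N25330 (iv F189669)) (tt N25419 (iv F190220)) (tt N23736 F185696) (tt N23214 F185697) (tt N25421 (iv F190228)) (tt N25422 D41349) (tt N23213 (iv D40275)))
theorem Q24350 : ∀ i, i < 24350 → P i := stepQ 24349 Q24349 (allL N24349 (tt N23909 F185698) (tt N25352 (iv F189815)) (tt N24135 F185699) (tt N25331 (iv F189676)) (tt N25420 (iv F190224)) (tt N24132 F185700) (tt N25422 (iv F190231)) (tt N25392 (iv F190067)) (tt N23214 (iv D40276)) (tt N23220 F185701))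
theorem Q24351 : ∀ i, i < 24351 → P i := stepQ 24350 Q24350 (allL N24350 (tt N23910 F185702) (tt N24101 F185703) (tt N23215 (iv D40277)) (tt N25411 (iv F190179)) (tt N24014 F185704) (tt N23222 F185705) (tt N25423 D41350) (tt N24093 F185706) (tt N25414 (iv F190200)) (tt N24088 (iv F185707)))
theorem Q24352 : ∀ i, i < 24352 → P i := stepQ 24351 Q24351 (allL N24351 (tt N23911 F185708) (tt N23445 F185709) (tt N25423 (iv F190235)) (tt N23216 F185710) (tt N23438 F185711) (tt N23234 F185712) (tt N23215 (iv D40278)) (tt N25424 D41351) (tt N25415 (iv F190205)) (tt N25425 D41352))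
theorem Q24353 : ∀ i, i < 24353 → P i := stepQ 24352 Q24352 (allL N24352 (tt N23912 F185713) (tt N23987 F185714) (tt N24088 F185715) (tt N23217 F185716) (tt N23982 F185717) (tt N23223 F185718) (tt N25425 (iv F190251)) (tt N24234 F185719) (tt N25426 D41353) (tt N23215 (iv D40279)))
theorem Q24354 : ∀ i, i < 24354 → P i := stepQ 24353 Q24353 (allL N24353 (tt N23913 F185720) (tt N25353 (iv F189822)) (tt N25413 (iv F190191)) (tt N25424 (iv F190241)) (tt N23218 F185721) (tt N23236 F185722) (tt N25393 (iv F190074)) (tt N23216 (iv D40280)) (tt N25418 (iv F190218)) (tt N25427 D41354))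
theorem Q24355 : ∀ i, i < 24355 → P i := stepQ 24354 Q24354 (allL N24354 (tt N23914 F185723) (tt N23919 F185724) (tt N24137 F185725) (tt N25425 (iv F190248)) (tt N23219 F185726) (tt N23237 F185727) (tt N23217 F185728) (tt N25427 (iv F190264)) (tt N25428 D41355) (tt N23216 (iv D40281)))
theorem Q24356 : ∀ i, i < 24356 → P i := stepQ 24355 Q24355 (allL N24355 (tt N23915 F185729) (tt N25354 (iv F189829)) (tt N24133 F185730) (tt N25426 (iv F190255)) (tt N23220 F185731) (tt N25346 (iv F189784)) (tt N25428 (iv F190270)) (tt N25395 (iv F190088)) (tt N23217 (iv D40282)) (tt N25420 (iv F190225)))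
theorem Q24357 : ∀ i, i < 24357 → P i := stepQ 24356 Q24356 (allL N24356 (tt N23916 F185732) (tt N23671 F185733) (tt N24138 F185734) (tt N23946 F185735) (tt N25427 (iv F190262)) (tt N23221 F185736) (tt N25396 (iv F190094)) (tt N23219 F185737) (tt N25429 D41356) (tt N23218 (iv D40283)))
theorem Q24358 : ∀ i, i < 24358 → P i := stepQ 24357 Q24357 (allL N24357 (tt N23917 F185738) (tt N25338 (iv F189724)) (tt N24134 F185739) (tt N25332 (iv F189684)) (tt N25428 (iv F190268)) (tt N25335 (iv F189707)) (tt N23220 F185740) (tt N25429 (iv F190276)) (tt N23219 (iv D40284)) (tt N25422 (iv F190232)))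
theorem Q24359 : ∀ i, i < 24359 → P i := stepQ 24358 Q24358 (allL N24358 (tt N23768 F185741) (tt N23812 F185742) (tt N25430 D41357) (tt N23224 (iv D40285)) (tt N24358 F185743) (tt N23765 F185744) (tt N25431 D41358) (tt N24358 F185745) (tt N23226 F185746) (tt N23767 F185747))
theorem Q24360 : ∀ i, i < 24360 → P i := stepQ 24359 Q24359 (allL N24359 (tt N23769 F185748) (tt N23924 F185749) (tt N23231 F185750) (tt N25431 (iv F190287)) (tt N23225 F185751) (tt N25432 D41359) (tt N23224 (iv D40286)) (tt N25433 D41360) (tt N23227 F185752) (tt N23573 F185753))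
theorem Q24361 : ∀ i, i < 24361 → P i := stepQ 24360 Q24360 (allL N24360 (tt N23770 F185754) (tt N23925 F185755) (tt N23232 F185756) (tt N24360 F185757) (tt N25433 (iv F190300)) (tt N23310 F185758) (tt N24360 F185759) (tt N23225 (iv D40287)) (tt N23228 F185760) (tt N23309 F185761))
theorem Q24362 : ∀ i, i < 24362 → P i := stepQ 24361 Q24361 (allL N24361 (tt N23921 F185762) (tt N23758 F185763) (tt N23226 (iv D40288)) (tt N23233 F185764) (tt N24361 F185765) (tt N23229 F185766) (tt N25434 D41361) (tt N24361 F185767) (tt N25430 (iv F190283)) (tt N23254 F185768))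
theorem Q24363 : ∀ i, i < 24363 → P i := stepQ 24362 Q24362 (allL N24362 (tt N23922 F185769) (tt N24121 F185770) (tt N25434 (iv F190306)) (tt N23227 F185771) (tt N24362 F185772) (tt N25412 (iv F190187)) (tt N23226 (iv D40289)) (tt N25435 D41362) (tt N25431 (iv F190289)) (tt N24245 F185773))
theorem Q24364 : ∀ i, i < 24364 → P i := stepQ 24363 Q24363 (allL N24363 (tt N23923 F185774) (tt N24250 F185775) (tt N23236 F185776) (tt N25435 (iv F190312)) (tt N23228 F185777) (tt N25413 (iv F190193)) (tt N24363 F185778) (tt N23227 (iv D40290)) (tt N25433 (iv F190302)) (tt N24246 F185779))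
theorem Q24365 : ∀ i, i < 24365 → P i := stepQ 24364 Q24364 (allL N24364 (tt N23920 F185780) (tt N23759 F185781) (tt N23230 (iv D40291)) (tt N25430 (iv F190279)) (tt N23239 F185782) (tt N24244 F185783) (tt N25436 D41363) (tt N24364 F185784) (tt N23233 F185785) (tt N23771 F185786))
theorem Q24366 : ∀ i, i < 24366 → P i := stepQ 24365 Q24365 (allL N24365 (tt N23886 F185787) (tt N23493 F185788) (tt N25436 (iv F190318)) (tt N23231 F185789) (tt N23240 F185790) (tt N25437 D41364) (tt N23230 (iv D40292)) (tt N25438 D41365) (tt N23234 F185791) (tt N23580 F185792))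
theorem Q24367 : ∀ i, i < 24367 → P i := stepQ 24366 Q24366 (allL N24366 (tt N23885 F185793) (tt N23703 F185794) (tt N25432 (iv F190293)) (tt N25437 (iv F190324)) (tt N23578 F185795) (tt N23231 (iv D40293)) (tt N24248 F185796) (tt N25439 D41366) (tt N25417 (iv F190215)) (tt N23576 F185797))
theorem Q24368 : ∀ i, i < 24368 → P i := stepQ 24367 Q24367 (allL N24367 (tt N23864 F185798) (tt N23644 F185799) (tt N25433 (iv F190299)) (tt N25438 (iv F190329)) (tt N23232 F185800) (tt N25439 (iv F190337)) (tt N24367 F185801) (tt N23231 (iv D40294)) (tt N23236 F185802) (tt N23317 F185803))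
theorem Q24369 : ∀ i, i < 24369 → P i := stepQ 24368 Q24368 (allL N24368 (tt N23926 F185804) (tt N23746 F185805) (tt N23234 F185806) (tt N25434 (iv F190307)) (tt N23242 F185807) (tt N25423 (iv F190237)) (tt N23233 (iv D40295)) (tt N25440 D41367) (tt N25436 (iv F190320)) (tt N24114 F185808))
theorem Q24370 : ∀ i, i < 24370 → P i := stepQ 24369 Q24369 (allL N24369 (tt N23927 F185809) (tt N23487 F185810) (tt N25440 (iv F190341)) (tt N23236 F185811) (tt N23243 F185812) (tt N25424 (iv F190243)) (tt N24369 F185813) (tt N23234 (iv D40296)) (tt N25438 (iv F190332)) (tt N25441 D41368))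
theorem Q24371 : ∀ i, i < 24371 → P i := stepQ 24370 Q24370 (allL N24370 (tt N23928 F185814) (tt N23488 F185815) (tt N24114 F185816) (tt N23237 F185817) (tt N23244 F185818) (tt N25425 (iv F190250)) (tt N23235 F185819) (tt N25441 (iv F190351)) (tt N23837 F185820) (tt N23234 (iv D40297)))
theorem Q24372 : ∀ i, i < 24372 → P i := stepQ 24371 Q24371 (allL N24371 (tt N23929 F185821) (tt N23672 F185822) (tt N24246 F185823) (tt N25441 (iv F190348)) (tt N23238 F185824) (tt N25427 (iv F190263)) (tt N24371 F185825) (tt N23237 F185826) (tt N23826 F185827) (tt N23236 (iv D40298)))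
theorem Q24373 : ∀ i, i < 24373 → P i := stepQ 24372 Q24372 (allL N24372 (tt N23930 F185828) (tt N23624 F185829) (tt N23240 F185830) (tt N24372 F185831) (tt N25436 (iv F190319)) (tt N25379 (iv F189987)) (tt N23239 (iv D40299)) (tt N25378 (iv F189980)) (tt N23242 F185832) (tt N23581 F185833))
theorem Q24374 : ∀ i, i < 24374 → P i := stepQ 24373 Q24373 (allL N24373 (tt N23931 F185834) (tt N23430 F185835) (tt N25378 (iv F189976)) (tt N23241 F185836) (tt N25438 (iv F190330)) (tt N23625 F185837) (tt N24373 F185838) (tt N23240 (iv D40300)) (tt N23243 F185839) (tt N23318 F185840))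
theorem Q24375 : ∀ i, i < 24375 → P i := stepQ 24374 Q24374 (allL N24374 (tt N23932 F185841) (tt N23739 F185842) (tt N23243 F185843) (tt N24374 F185844) (tt N25440 (iv F190342)) (tt N23486 F185845) (tt N24374 F185846) (tt N23242 (iv D40301)) (tt N25378 (iv F189981)) (tt N23786 F185847))
theorem Q24376 : ∀ i, i < 24376 → P i := stepQ 24375 Q24375 (allL N24375 (tt N23406 F185848) (tt N23485 F185849) (tt N23786 F185850) (tt N23245 F185851) (tt N25441 (iv F190349)) (tt N23401 F185852) (tt N24375 F185853) (tt N23244 F185854) (tt N23750 F185855) (tt N23243 (iv D40302)))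
theorem Q24377 : ∀ i, i < 24377 → P i := stepQ 24376 Q24376 (allL N24376 (tt N23936 F185856) (tt N24022 F185857) (tt N24040 F185858) (tt N24011 F185859) (tt N23247 F185860) (tt N25442 D41369) (tt N24376 F185861) (tt N23249 F185862) (tt N23246 (iv D40303)) (tt N24080 F185863))
theorem Q24378 : ∀ i, i < 24378 → P i := stepQ 24377 Q24377 (allL N24377 (tt N23940 F185864) (tt N24099 F185865) (tt N24136 F185866) (tt N24088 F185867) (tt N25443 D41370) (tt N23249 (iv D40304)) (tt N25444 D41371) (tt N25442 (iv F190358)) (tt N25398 (iv F190106)) (tt N25411 (iv F190183)))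
theorem Q24379 : ∀ i, i < 24379 → P i := stepQ 24378 Q24378 (allL N24378 (tt N23941 F185868) (tt N24080 F185869) (tt N23978 F185870) (tt N24023 F185871) (tt N23250 (iv D40305)) (tt N25443 (iv F190364)) (tt N24378 F185872) (tt N24055 F185873) (tt N23252 F185874) (tt N24022 F185875))
theorem Q24380 : ∀ i, i < 24380 → P i := stepQ 24379 Q24379 (allL N24379 (tt N23942 F185876) (tt N24079 F185877) (tt N24022 F185878) (tt N23252 (iv D40306)) (tt N23253 F185879) (tt N25403 (iv F190135)) (tt N24379 F185880) (tt N24056 F185881) (tt N24023 F185882) (tt N23978 F185883))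
theorem Q24381 : ∀ i, i < 24381 → P i := stepQ 24380 Q24380 (allL N24380 (tt N23945 F185884) (tt N24115 F185885) (tt N24245 F185886) (tt N24114 F185887) (tt N24380 F185888) (tt N25444 (iv F190371)) (tt N23254 (iv D40307)) (tt N25445 D41372) (tt N23763 F185889) (tt N25434 (iv F190309)))
theorem Q24382 : ∀ i, i < 24382 → P i := stepQ 24381 Q24381 (allL N24381 (tt N23549 F185890) (tt N23257 F185891) (tt N23946 F185892) (tt N24147 F185893) (tt N23604 F185894) (tt N23255 (iv D40308)) (tt N23502 F185895) (tt N24141 F185896) (tt N25446 D41373) (tt N23839 F185897))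
theorem Q24383 : ∀ i, i < 24383 → P i := stepQ 24382 Q24382 (allL N24382 (tt N23279 F185898) (tt N24147 F185899) (tt N23524 F185900) (tt N23257 F185901) (tt N25447 D41374) (tt N23256 (iv D40309)) (tt N23389 F185902) (tt N24142 F185903) (tt N25448 D41375) (tt N23840 F185904))
theorem Q24384 : ∀ i, i < 24384 → P i := stepQ 24383 Q24383 (allL N24383 (tt N23281 F185905) (tt N25446 (iv F190380)) (tt N23258 F185906) (tt N25448 (iv F190398)) (tt N23609 F185907) (tt N24048 F185908) (tt N23626 F185909) (tt N24143 F185910) (tt N23257 (iv D40310)) (tt N25449 D41376))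
theorem Q24385 : ∀ i, i < 24385 → P i := stepQ 24384 Q24384 (allL N24384 (tt N23286 F185911) (tt N23681 F185912) (tt N24048 F185913) (tt N23527 F185914) (tt N25450 D41377) (tt N23258 (iv D40311)) (tt N24044 F185915) (tt N24144 F185916) (tt N23259 F185917) (tt N25451 D41378))
theorem Q24386 : ∀ i, i < 24386 → P i := stepQ 24385 Q24385 (allL N24385 (tt N23287 F185918) (tt N23948 F185919) (tt N25449 (iv F190403)) (tt N23528 F185920) (tt N23615 F185921) (tt N25451 (iv F190421)) (tt N23628 F185922) (tt N24145 F185923) (tt N23849 F185924) (tt N23258 (iv D40312)))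
theorem Q24387 : ∀ i, i < 24387 → P i := stepQ 24386 Q24386 (allL N24386 (tt N23288 F185925) (tt N23680 F185926) (tt N24051 F185927) (tt N23711 F185928) (tt N23259 (iv D40313)) (tt N23260 F185929) (tt N24046 F185930) (tt N24146 F185931) (tt N25450 (iv F190416)) (tt N23881 F185932))
theorem Q24388 : ∀ i, i < 24388 → P i := stepQ 24387 Q24387 (allL N24387 (tt N24142 F185933) (tt N24030 F185934) (tt N23540 F185935) (tt N23263 F185936) (tt N25452 D41379) (tt N23261 (iv D40314)) (tt N23629 F185937) (tt N23279 F185938) (tt N25453 D41380) (tt N23607 F185939))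
theorem Q24389 : ∀ i, i < 24389 → P i := stepQ 24388 Q24388 (allL N24388 (tt N24039 F185940) (tt N24004 F185941) (tt N23541 F185942) (tt N23264 F185943) (tt N24388 F185944) (tt N25454 D41381) (tt N23262 F185945) (tt N23280 F185946) (tt N23261 (iv D40315)) (tt N23871 (iv F185947)))
theorem Q24390 : ∀ i, i < 24390 → P i := stepQ 24389 Q24389 (allL N24389 (tt N24143 F185948) (tt N24201 F185949) (tt N23269 F185950) (tt N25453 (iv F190436)) (tt N23842 F185951) (tt N25455 D41382) (tt N23631 F185952) (tt N23281 F185953) (tt N23263 (iv D40316)) (tt N25456 D41383))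
theorem Q24391 : ∀ i, i < 24391 → P i := stepQ 24390 Q24390 (allL N24390 (tt N24053 F185954) (tt N24167 F185955) (tt N23270 F185956) (tt N25454 (iv F190442)) (tt N25457 D41384) (tt N23264 (iv D40317)) (tt N25458 D41385) (tt N23282 F185957) (tt N25455 (iv F190450)) (tt N25459 D41386))
theorem Q24392 : ∀ i, i < 24392 → P i := stepQ 24391 Q24391 (allL N24391 (tt N23859 F185958) (tt N24170 F185959) (tt N23271 F185960) (tt N23871 F185961) (tt N23268 F185962) (tt N25459 (iv F190474)) (tt N23266 F185963) (tt N23283 F185964) (tt N23611 F185965) (tt N23264 (iv D40318)))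
theorem Q24393 : ∀ i, i < 24393 → P i := stepQ 24392 Q24392 (allL N24392 (tt N23977 F185966) (tt N23853 F185967) (tt N23272 F185968) (tt N23902 F185969) (tt N24392 F185970) (tt N25458 (iv F190467)) (tt N23265 (iv D40319)) (tt N23322 F185971) (tt N23634 F185972) (tt N23892 F185973))
theorem Q24394 : ∀ i, i < 24394 → P i := stepQ 24393 Q24393 (allL N24393 (tt N24113 F185974) (tt N24257 F185975) (tt N23275 F185976) (tt N25460 D41387) (tt N23267 (iv D40320)) (tt N25457 (iv F190461)) (tt N24393 F185977) (tt N23284 F185978) (tt N23846 F185979) (tt N25461 D41388))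
theorem Q24395 : ∀ i, i < 24395 → P i := stepQ 24394 Q24394 (allL N24394 (tt N23933 F185980) (tt N24260 F185981) (tt N23276 F185982) (tt N24394 F185983) (tt N25461 (iv F190486)) (tt N23268 F185984) (tt N24394 F185985) (tt N23285 F185986) (tt N25462 D41389) (tt N23267 (iv D40321)))
theorem Q24396 : ∀ i, i < 24396 → P i := stepQ 24395 Q24395 (allL N24395 (tt N24144 F185987) (tt N23368 F185988) (tt N25455 (iv F190448)) (tt N23546 F185989) (tt N25463 D41390) (tt N23269 (iv D40322)) (tt N25464 D41391) (tt N23286 F185990) (tt N23270 F185991) (tt N25465 D41392))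
theorem Q24397 : ∀ i, i < 24397 → P i := stepQ 24396 Q24396 (allL N24396 (tt N24145 F185992) (tt N23369 F185993) (tt N25456 (iv F190453)) (tt N23547 F185994) (tt N23849 F185995) (tt N25465 (iv F190510)) (tt N23637 F185996) (tt N23287 F185997) (tt N23615 F185998) (tt N23269 (iv D40323)))
theorem Q24398 : ∀ i, i < 24398 → P i := stepQ 24397 Q24397 (allL N24397 (tt N24146 F185999) (tt N23370 F186000) (tt N25457 (iv F190460)) (tt N25466 D41393) (tt N23270 (iv D40324)) (tt N23275 F186001) (tt N25467 D41394) (tt N23288 F186002) (tt N25463 (iv F190501)) (tt N25468 D41395))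
theorem Q24399 : ∀ i, i < 24399 → P i := stepQ 24398 Q24398 (allL N24398 (tt N24147 F186003) (tt N23371 F186004) (tt N25458 (iv F190465)) (tt N23549 F186005) (tt N25467 (iv F190520)) (tt N23272 F186006) (tt N23270 (iv D40325)) (tt N25469 D41396) (tt N25464 (iv F190506)) (tt N25470 D41397))
theorem Q24400 : ∀ i, i < 24400 → P i := stepQ 24399 Q24399 (allL N24399 (tt N23860 F186007) (tt N23372 F186008) (tt N25459 (iv F190472)) (tt N23550 F186009) (tt N25468 (iv F190525)) (tt N23271 F186010) (tt N25470 (iv F190540)) (tt N23290 F186011) (tt N25471 D41398) (tt N23270 (iv D40326)))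
theorem Q24401 : ∀ i, i < 24401 → P i := stepQ 24400 Q24400 (allL N24400 (tt N23971 F186012) (tt N23373 F186013) (tt N23322 F186014) (tt N23551 F186015) (tt N24400 F186016) (tt N25469 (iv F190532)) (tt N23274 F186017) (tt N23272 (iv D40327)) (tt N23641 F186018) (tt N23785 (iv F186019)))
theorem Q24402 : ∀ i, i < 24402 → P i := stepQ 24401 Q24401 (allL N24401 (tt N23838 F186020) (tt N23374 F186021) (tt N23892 F186022) (tt N23552 F186023) (tt N24401 F186024) (tt N25470 (iv F190539)) (tt N23273 F186025) (tt N23785 F186026) (tt N24095 (iv F186027)) (tt N23272 (iv D40328)))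
theorem Q24403 : ∀ i, i < 24403 → P i := stepQ 24402 Q24402 (allL N24402 (tt N23741 F186028) (tt N23377 F186029) (tt N25472 D41399) (tt N23275 (iv D40329)) (tt N23277 F186030) (tt N25466 (iv F190515)) (tt N24402 F186031) (tt N23292 F186032) (tt N23854 F186033) (tt N23482 (iv F186034)))
theorem Q24404 : ∀ i, i < 24404 → P i := stepQ 24403 Q24403 (allL N24403 (tt N23934 F186035) (tt N23378 F186036) (tt N25461 (iv F190485)) (tt N23482 F186037) (tt N23276 F186038) (tt N25468 (iv F190526)) (tt N24403 F186039) (tt N23293 F186040) (tt N25473 D41400) (tt N23275 (iv D40330)))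
theorem Q24405 : ∀ i, i < 24405 → P i := stepQ 24404 Q24404 (allL N24404 (tt N23935 F186041) (tt N23379 F186042) (tt N25462 (iv F190491)) (tt N23278 F186043) (tt N25473 (iv F190557)) (tt N23623 F186044) (tt N24404 F186045) (tt N23294 F186046) (tt N23276 (iv D40331)) (tt N23856 F186047))
theorem Q24406 : ∀ i, i < 24406 → P i := stepQ 24405 Q24405 (allL N24405 (tt N23739 F186048) (tt N23847 F186049) (tt N23277 (iv D40332)) (tt N24405 F186050) (tt N25472 (iv F190549)) (tt N23480 F186051) (tt N24405 F186052) (tt N23295 F186053) (tt N23857 F186054) (tt N23479 F186055))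
theorem Q24407 : ∀ i, i < 24407 → P i := stepQ 24406 Q24406 (allL N24406 (tt N25447 (iv F190387)) (tt N24028 F186056) (tt N23590 F186057) (tt N24150 F186058) (tt N23279 (iv D40333)) (tt N24406 F186059) (tt N23954 F186060) (tt N25452 (iv F190431)) (tt N25474 D41401) (tt N25355 (iv F189843)))
theorem Q24408 : ∀ i, i < 24408 → P i := stepQ 24407 Q24407 (allL N24407 (tt N25448 (iv F190395)) (tt N24025 F186061) (tt N23591 F186062) (tt N23281 F186063) (tt N25474 (iv F190564)) (tt N25475 D41402) (tt N23952 F186064) (tt N25453 (iv F190438)) (tt N23279 (iv D40334)) (tt N25476 D41403))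
theorem Q24409 : ∀ i, i < 24409 → P i := stepQ 24408 Q24408 (allL N24408 (tt N24038 F186065) (tt N24003 F186066) (tt N23592 F186067) (tt N23282 F186068) (tt N25477 D41404) (tt N23280 (iv D40335)) (tt N23383 F186069) (tt N25454 (iv F190444)) (tt N25475 (iv F190571)) (tt N23870 F186070))
theorem Q24410 : ∀ i, i < 24410 → P i := stepQ 24409 Q24409 (allL N24409 (tt N24048 F186071) (tt N24162 F186072) (tt N23286 F186073) (tt N25475 (iv F190569)) (tt N25478 D41405) (tt N23281 (iv D40336)) (tt N23392 F186074) (tt N25455 (iv F190449)) (tt N23282 F186075) (tt N25479 D41406))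
theorem Q24411 : ∀ i, i < 24411 → P i := stepQ 24410 Q24410 (allL N24410 (tt N25449 (iv F190402)) (tt N24202 F186076) (tt N23287 F186077) (tt N25476 (iv F190574)) (tt N24155 F186078) (tt N25479 (iv F190591)) (tt N24124 F186079) (tt N25456 (iv F190456)) (tt N25359 (iv F189868)) (tt N23281 (iv D40337)))
theorem Q24412 : ∀ i, i < 24412 → P i := stepQ 24411 Q24411 (allL N24411 (tt N24051 F186080) (tt N24165 F186081) (tt N23288 F186082) (tt N25480 D41407) (tt N23282 (iv D40338)) (tt N23284 F186083) (tt N23394 F186084) (tt N25457 (iv F190462)) (tt N25478 (iv F190587)) (tt N25481 D41408))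
theorem Q24413 : ∀ i, i < 24413 → P i := stepQ 24412 Q24412 (allL N24412 (tt N23880 F186085) (tt N24168 F186086) (tt N23290 F186087) (tt N23870 F186088) (tt N25481 (iv F190600)) (tt N23283 F186089) (tt N23395 F186090) (tt N25459 (iv F190476)) (tt N25482 D41409) (tt N23282 (iv D40339)))
theorem Q24414 : ∀ i, i < 24414 → P i := stepQ 24413 Q24413 (allL N24413 (tt N24112 F186091) (tt N24255 F186092) (tt N25483 D41410) (tt N23284 (iv D40340)) (tt N24413 F186093) (tt N25480 (iv F190595)) (tt N23296 F186094) (tt N25460 (iv F190481)) (tt N24158 F186095) (tt N25484 D41411))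
theorem Q24415 : ∀ i, i < 24415 → P i := stepQ 24414 Q24414 (allL N24414 (tt N23937 F186096) (tt N24258 F186097) (tt N23293 F186098) (tt N25484 (iv F190618)) (tt N23285 F186099) (tt N25481 (iv F190601)) (tt N23297 F186100) (tt N25461 (iv F190488)) (tt N25485 D41412) (tt N23284 (iv D40341)))
theorem Q24416 : ∀ i, i < 24416 → P i := stepQ 24415 Q24415 (allL N24415 (tt N23938 F186101) (tt N24175 F186102) (tt N23294 F186103) (tt N24415 F186104) (tt N25485 (iv F190626)) (tt N25365 (iv F189904)) (tt N23298 F186105) (tt N25462 (iv F190495)) (tt N23285 (iv D40342)) (tt N24160 F186106))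
theorem Q24417 : ∀ i, i < 24417 → P i := stepQ 24416 Q24416 (allL N24416 (tt N25450 (iv F190409)) (tt N23463 F186107) (tt N25478 (iv F190584)) (tt N25486 D41413) (tt N23286 (iv D40343)) (tt N24161 F186108) (tt N25487 D41414) (tt N25463 (iv F190500)) (tt N23288 F186109) (tt N25488 D41415))
theorem Q24418 : ∀ i, i < 24418 → P i := stepQ 24417 Q24417 (allL N24417 (tt N24044 F186110) (tt N23464 F186111) (tt N23392 F186112) (tt N23598 F186113) (tt N25487 (iv F190639)) (tt N23391 F186114) (tt N23286 (iv D40344)) (tt N25489 D41416) (tt N23289 F186115) (tt N25490 D41417))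
theorem Q24419 : ∀ i, i < 24419 → P i := stepQ 24418 Q24418 (allL N24418 (tt N25451 (iv F190417)) (tt N23465 F186116) (tt N25479 (iv F190590)) (tt N23599 F186117) (tt N25488 (iv F190643)) (tt N23287 F186118) (tt N25490 (iv F190656)) (tt N25465 (iv F190511)) (tt N25491 D41418) (tt N23286 (iv D40345)))
theorem Q24420 : ∀ i, i < 24420 → P i := stepQ 24419 Q24419 (allL N24419 (tt N23711 F186119) (tt N23466 F186120) (tt N25492 D41419) (tt N23288 (iv D40346)) (tt N23470 F186121) (tt N23292 F186122) (tt N23468 (iv F186123)) (tt N25466 (iv F190516)) (tt N25486 (iv F190633)) (tt N23467 (iv F186124)))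
theorem Q24421 : ∀ i, i < 24421 → P i := stepQ 24420 Q24420 (allL N24420 (tt N24046 F186125) (tt N23467 F186126) (tt N23394 F186127) (tt N23468 F186128) (tt N23289 F186129) (tt N23299 F186130) (tt N23288 (iv D40347)) (tt N25493 D41420) (tt N25487 (iv F190640)) (tt N23466 (iv F186131)))
theorem Q24422 : ∀ i, i < 24422 → P i := stepQ 24421 Q24421 (allL N24421 (tt N23881 F186132) (tt N23468 F186133) (tt N25481 (iv F190599)) (tt N23467 F186134) (tt N23290 F186135) (tt N23293 F186136) (tt N23466 F186137) (tt N25468 (iv F190527)) (tt N25494 D41421) (tt N23288 (iv D40348)))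
theorem Q24423 : ∀ i, i < 24423 → P i := stepQ 24422 Q24422 (allL N24422 (tt N23970 F186138) (tt N23469 F186139) (tt N23321 F186140) (tt N23600 F186141) (tt N25493 (iv F190673)) (tt N23291 F186142) (tt N25469 (iv F190533)) (tt N23289 (iv D40349)) (tt N25489 (iv F190650)) (tt N23661 F186143))
theorem Q24424 : ∀ i, i < 24424 → P i := stepQ 24423 Q24423 (allL N24423 (tt N23882 F186144) (tt N23471 F186145) (tt N25482 (iv F190605)) (tt N23601 F186146) (tt N25494 (iv F190679)) (tt N25374 (iv F189954)) (tt N23733 F186147) (tt N25471 (iv F190546)) (tt N23290 (iv D40350)) (tt N25491 (iv F190662)))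
theorem Q24425 : ∀ i, i < 24425 → P i := stepQ 24424 Q24424 (allL N24424 (tt N23746 F186148) (tt N24159 F186149) (tt N23292 (iv D40351)) (tt N25483 (iv F190609)) (tt N23295 F186150) (tt N25492 (iv F190666)) (tt N23301 F186151) (tt N25472 (iv F190551)) (tt N24172 F186152) (tt N23478 F186153))
theorem Q24426 : ∀ i, i < 24426 → P i := stepQ 24425 Q24425 (allL N24425 (tt N23939 F186154) (tt N23461 F186155) (tt N25485 (iv F190624)) (tt N23443 F186156) (tt N23294 F186157) (tt N25495 D41422) (tt N23302 F186158) (tt N25473 (iv F190559)) (tt N23293 (iv D40352)) (tt N24174 F186159))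
theorem Q24427 : ∀ i, i < 24427 → P i := stepQ 24426 Q24426 (allL N24426 (tt N23758 F186160) (tt N24252 (iv F186166)) (tt N23296 (iv D40353)) (tt N23301 F186161) (tt N24426 F186162) (tt N23474 F186163) (tt N25483 (iv F190611)) (tt N24426 F186164) (tt N24251 F186165) (tt N23477 (iv F186167)))
theorem Q24428 : ∀ i, i < 24428 → P i := stepQ 24427 Q24427 (allL N24427 (tt N23943 F186168) (tt N24256 F186169) (tt N23477 F186170) (tt N23297 F186171) (tt N24427 F186172) (tt N23475 F186173) (tt N25484 (iv F190620)) (tt N24427 F186174) (tt N24254 (iv F186175)) (tt N23296 (iv D40354)))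
theorem Q24429 : ∀ i, i < 24429 → P i := stepQ 24428 Q24428 (allL N24428 (tt N23944 F186176) (tt N24259 F186177) (tt N23302 F186178) (tt N24254 F186179) (tt N23298 F186180) (tt N24251 F186181) (tt N25485 (iv F190627)) (tt N24428 F186182) (tt N23297 (iv D40355)) (tt N24253 F186183))
theorem Q24430 : ∀ i, i < 24430 → P i := stepQ 24429 Q24429 (allL N24429 (tt N23972 F186184) (tt N23482 F186185) (tt N23323 F186186) (tt N23378 F186187) (tt N23300 F186188) (tt N25493 (iv F190674)) (tt N24429 F186189) (tt N23299 (iv D40356)) (tt N23366 F186190) (tt N23377 F186191))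
theorem Q24431 : ∀ i, i < 24431 → P i := stepQ 24430 Q24430 (allL N24430 (tt N23994 F186192) (tt N24235 F186193) (tt N23607 F186194) (tt N23305 F186195) (tt N25496 D41423) (tt N23303 (iv D40357)) (tt N23357 F186196) (tt N23569 F186197) (tt N25497 D41424) (tt N23540 F186198))
theorem Q24432 : ∀ i, i < 24432 → P i := stepQ 24431 Q24431 (allL N24431 (tt N23995 F186199) (tt N23892 F186200) (tt N23608 F186201) (tt N23306 F186202) (tt N24431 F186203) (tt N25498 D41425) (tt N23304 F186204) (tt N23570 F186205) (tt N23303 (iv D40358)) (tt N23853 F186206))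
theorem Q24433 : ∀ i, i < 24433 → P i := stepQ 24432 Q24432 (allL N24432 (tt N23996 F186207) (tt N24237 F186208) (tt N23311 F186209) (tt N25497 (iv F190697)) (tt N23820 F186210) (tt N25499 D41426) (tt N23360 F186211) (tt N23571 F186212) (tt N23305 (iv D40359)) (tt N25500 D41427))
theorem Q24434 : ∀ i, i < 24434 → P i := stepQ 24433 Q24433 (allL N24433 (tt N23997 F186213) (tt N23899 F186214) (tt N23312 F186215) (tt N25498 (iv F190703)) (tt N25501 D41428) (tt N23306 (iv D40360)) (tt N25502 D41429) (tt N23572 F186216) (tt N25499 (iv F190711)) (tt N25503 D41430))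
theorem Q24435 : ∀ i, i < 24435 → P i := stepQ 24434 Q24434 (allL N24434 (tt N23579 F186217) (tt N23902 F186218) (tt N23313 F186219) (tt N23853 F186220) (tt N23310 F186221) (tt N25503 (iv F190735)) (tt N23308 F186222) (tt N23519 F186223) (tt N23544 F186224) (tt N23306 (iv D40361)))
theorem Q24436 : ∀ i, i < 24436 → P i := stepQ 24435 Q24435 (allL N24435 (tt N23998 F186225) (tt N23871 F186226) (tt N23314 F186227) (tt N24170 F186228) (tt N24435 F186229) (tt N25502 (iv F190728)) (tt N23307 (iv D40362)) (tt N23863 F186230) (tt N23363 F186231) (tt N24004 F186232))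
theorem Q24437 : ∀ i, i < 24437 → P i := stepQ 24436 Q24436 (allL N24436 (tt N23999 F186233) (tt N23923 F186234) (tt N23317 F186235) (tt N25504 D41431) (tt N23309 (iv D40363)) (tt N25501 (iv F190722)) (tt N24436 F186236) (tt N23573 F186237) (tt N23773 F186238) (tt N25433 (iv F190303)))
theorem Q24438 : ∀ i, i < 24438 → P i := stepQ 24437 Q24437 (allL N24437 (tt N24000 F186239) (tt N23636 F186240) (tt N25499 (iv F190709)) (tt N23614 F186241) (tt N25505 D41432) (tt N23311 (iv D40364)) (tt N25506 D41433) (tt N23574 F186242) (tt N23312 F186243) (tt N25507 D41434))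
theorem Q24439 : ∀ i, i < 24439 → P i := stepQ 24438 Q24438 (allL N24438 (tt N24001 F186244) (tt N23637 F186245) (tt N25500 (iv F190714)) (tt N23615 F186246) (tt N23822 F186247) (tt N25507 (iv F190757)) (tt N23369 F186248) (tt N23575 F186249) (tt N23547 F186250) (tt N23311 (iv D40365)))
theorem Q24440 : ∀ i, i < 24440 → P i := stepQ 24439 Q24439 (allL N24439 (tt N24002 F186251) (tt N23638 F186252) (tt N25501 (iv F190721)) (tt N25508 D41435) (tt N23312 (iv D40366)) (tt N23317 F186253) (tt N25509 D41436) (tt N23576 F186254) (tt N25505 (iv F190748)) (tt N25439 (iv F190338)))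
theorem Q24441 : ∀ i, i < 24441 → P i := stepQ 24440 Q24440 (allL N24440 (tt N24003 F186255) (tt N23639 F186256) (tt N25502 (iv F190726)) (tt N23617 F186257) (tt N25509 (iv F190766)) (tt N23314 F186258) (tt N23312 (iv D40367)) (tt N25510 D41437) (tt N25506 (iv F190753)) (tt N25511 D41438))
theorem Q24442 : ∀ i, i < 24442 → P i := stepQ 24441 Q24441 (allL N24441 (tt N23862 F186259) (tt N23640 F186260) (tt N25503 (iv F190733)) (tt N23618 F186261) (tt N25439 (iv F190336)) (tt N23313 F186262) (tt N25511 (iv F190780)) (tt N23578 F186263) (tt N25512 D41439) (tt N23312 (iv D40368)))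
theorem Q24443 : ∀ i, i < 24443 → P i := stepQ 24442 Q24442 (allL N24442 (tt N24004 F186264) (tt N23641 F186265) (tt N23863 F186266) (tt N23619 F186267) (tt N24442 F186268) (tt N25510 (iv F190772)) (tt N23316 F186269) (tt N23314 (iv D40369)) (tt N23373 F186270) (tt N23998 (iv F186271)))
theorem Q24444 : ∀ i, i < 24444 → P i := stepQ 24443 Q24443 (allL N24443 (tt N23863 F186272) (tt N23642 F186273) (tt N24004 F186274) (tt N23620 F186275) (tt N24443 F186276) (tt N25511 (iv F190779)) (tt N23315 F186277) (tt N23998 F186278) (tt N24020 (iv F186279)) (tt N23314 (iv D40370)))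
theorem Q24445 : ∀ i, i < 24445 → P i := stepQ 24444 Q24444 (allL N24444 (tt N24005 F186280) (tt N23643 F186281) (tt N25513 D41440) (tt N23317 (iv D40371)) (tt N23318 F186282) (tt N25508 (iv F190762)) (tt N24444 F186283) (tt N23580 F186284) (tt N23749 F186285) (tt N25438 (iv F190333)))
theorem Q24446 : ∀ i, i < 24446 → P i := stepQ 24445 Q24445 (allL N24445 (tt N24006 F186286) (tt N25379 (iv F189984)) (tt N23318 (iv D40372)) (tt N24445 F186287) (tt N25513 (iv F190788)) (tt N23624 F186288) (tt N24445 F186289) (tt N23581 F186290) (tt N23747 F186291) (tt N25378 F189982))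
theorem Q24447 : ∀ i, i < 24447 → P i := stepQ 24446 Q24446 (allL N24446 (tt N23969 F186292) (tt N25329 (iv F189659)) (tt N23320 F186293) (tt N25350 (iv F189806)) (tt N23360 F186294) (tt N25489 (iv F190649)) (tt N23820 F186295) (tt N23391 F186296) (tt N23319 (iv D40373)) (tt N25514 D41441))
theorem Q24448 : ∀ i, i < 24448 → P i := stepQ 24447 Q24447 (allL N24447 (tt N23973 F186297) (tt N23848 F186298) (tt N25489 (iv F190647)) (tt N23901 F186299) (tt N25515 D41442) (tt N23320 (iv D40374)) (tt N25516 D41443) (tt N23392 F186300) (tt N23321 F186301) (tt N25517 D41444))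
theorem Q24449 : ∀ i, i < 24449 → P i := stepQ 24448 Q24448 (allL N24448 (tt N23974 F186302) (tt N23849 F186303) (tt N25514 (iv F190793)) (tt N24122 F186304) (tt N23369 F186305) (tt N25517 (iv F190811)) (tt N23822 F186306) (tt N23393 F186307) (tt N23948 F186308) (tt N23320 (iv D40375)))
theorem Q24450 : ∀ i, i < 24450 → P i := stepQ 24449 Q24449 (allL N24449 (tt N23975 F186309) (tt N23850 F186310) (tt N25493 (iv F190671)) (tt N25518 D41445) (tt N23321 (iv D40376)) (tt N23323 F186311) (tt N25519 D41446) (tt N23394 F186312) (tt N25515 (iv F190802)) (tt N23890 F186313))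
theorem Q24451 : ∀ i, i < 24451 → P i := stepQ 24450 Q24450 (allL N24450 (tt N23976 F186314) (tt N23851 F186315) (tt N25469 (iv F190530)) (tt N23900 F186316) (tt N25519 (iv F190823)) (tt N23322 F186317) (tt N23321 (iv D40377)) (tt N25458 (iv F190468)) (tt N25516 (iv F190807)) (tt N23891 F186318))
theorem Q24452 : ∀ i, i < 24452 → P i := stepQ 24451 Q24451 (allL N24451 (tt N23978 F186319) (tt N23854 F186320) (tt N23941 (iv F186326)) (tt N23323 (iv D40378)) (tt N23324 F186321) (tt N25518 (iv F190817)) (tt N24451 F186322) (tt N23396 F186323) (tt N23377 F186324) (tt N23942 F186325))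
theorem Q24453 : ∀ i, i < 24453 → P i := stepQ 24452 Q24452 (allL N24452 (tt N23328 F186327) (tt N23409 F186328) (tt N23602 F186329) (tt N23404 F186330) (tt N23326 F186331) (tt N25520 D41447) (tt N23325 (iv D40379)) (tt N23400 F186332) (tt N23402 F186333) (tt N23345 F186334))
theorem Q24454 : ∀ i, i < 24454 → P i := stepQ 24453 Q24453 (allL N24453 (tt N23404 F186335) (tt N23331 F186336) (tt N23666 F186337) (tt N23328 F186338) (tt N23401 F186339) (tt N25521 D41448) (tt N23327 (iv D40380)) (tt N23402 F186340) (tt N23400 F186341) (tt N23349 F186342))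
theorem Q24455 : ∀ i, i < 24455 → P i := stepQ 24454 Q24454 (allL N24454 (tt N25520 (iv F190826)) (tt N23332 F186343) (tt N23604 F186344) (tt N25521 (iv F190837)) (tt N23946 F186345) (tt N23328 (iv D40381)) (tt N23538 F186346) (tt N23403 F186347) (tt N25522 D41449) (tt N23351 F186348))
theorem Q24456 : ∀ i, i < 24456 → P i := stepQ 24455 Q24455 (allL N24455 (tt N23402 F186349) (tt N23333 F186350) (tt N23605 F186351) (tt N23400 F186352) (tt N23330 F186353) (tt N25523 D41450) (tt N23329 F186354) (tt N23404 F186355) (tt N23328 (iv D40382)) (tt N23432 (iv F186356)))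
theorem Q24457 : ∀ i, i < 24457 → P i := stepQ 24456 Q24456 (allL N24456 (tt N23956 F186357) (tt N25521 (iv F190835)) (tt N23629 F186358) (tt N23332 F186359) (tt N25524 D41451) (tt N23331 (iv D40383)) (tt N23540 F186360) (tt N23408 F186361) (tt N25525 D41452) (tt N23357 F186362))
theorem Q24458 : ∀ i, i < 24458 → P i := stepQ 24457 Q24457 (allL N24457 (tt N23957 F186363) (tt N25522 (iv F190841)) (tt N23336 F186364) (tt N25525 (iv F190863)) (tt N23947 F186365) (tt N25526 D41453) (tt N23542 F186366) (tt N23410 F186367) (tt N23332 (iv D40384)) (tt N25527 D41454))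
theorem Q24459 : ∀ i, i < 24459 → P i := stepQ 24458 Q24458 (allL N24458 (tt N23958 F186368) (tt N25523 (iv F190847)) (tt N23337 F186369) (tt N24057 F186370) (tt N25528 D41455) (tt N23333 (iv D40385)) (tt N25529 D41456) (tt N23411 F186371) (tt N25526 (iv F190871)) (tt N24081 F186372))
theorem Q24460 : ∀ i, i < 24460 → P i := stepQ 24459 Q24459 (allL N24459 (tt N23667 F186373) (tt N23654 F186374) (tt N23339 F186375) (tt N23650 F186376) (tt N23742 F186377) (tt N25529 (iv F190891)) (tt N23334 (iv D40386)) (tt N23714 F186378) (tt N23545 F186379) (tt N23647 F186380))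
theorem Q24461 : ∀ i, i < 24461 → P i := stepQ 24460 Q24460 (allL N24460 (tt N23959 F186381) (tt N23928 F186382) (tt N23342 F186383) (tt N23697 F186384) (tt N23335 (iv D40387)) (tt N25528 (iv F190882)) (tt N23754 F186385) (tt N23416 F186386) (tt N23744 F186387) (tt N23696 F186388))
theorem Q24462 : ∀ i, i < 24462 → P i := stepQ 24461 Q24461 (allL N24461 (tt N23960 F186389) (tt N23614 F186390) (tt N25526 (iv F190868)) (tt N23636 F186391) (tt N25530 D41457) (tt N23336 (iv D40388)) (tt N25531 D41458) (tt N23418 F186392) (tt N23337 F186393) (tt N25532 D41459))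
theorem Q24463 : ∀ i, i < 24463 → P i := stepQ 24462 Q24462 (allL N24462 (tt N23961 F186394) (tt N23615 F186395) (tt N25527 (iv F190873)) (tt N23637 F186396) (tt N23948 F186397) (tt N25532 (iv F190908)) (tt N23547 F186398) (tt N23419 F186399) (tt N23369 F186400) (tt N23336 (iv D40389)))
theorem Q24464 : ∀ i, i < 24464 → P i := stepQ 24463 Q24463 (allL N24463 (tt N23962 F186401) (tt N23616 F186402) (tt N25528 (iv F190880)) (tt N23751 (iv F186405)) (tt N23337 (iv D40390)) (tt N23342 F186403) (tt N25533 D41460) (tt N23420 F186404) (tt N25530 (iv F190898)) (tt N25534 D41461))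
theorem Q24465 : ∀ i, i < 24465 → P i := stepQ 24464 Q24464 (allL N24464 (tt N23963 F186406) (tt N23617 F186407) (tt N25529 (iv F190888)) (tt N23639 F186408) (tt N25533 (iv F190914)) (tt N23339 F186409) (tt N23337 (iv D40391)) (tt N25535 D41462) (tt N25531 (iv F190904)) (tt N25536 D41463))
theorem Q24466 : ∀ i, i < 24466 → P i := stepQ 24465 Q24465 (allL N24465 (tt N23964 F186410) (tt N23618 F186411) (tt N24081 F186412) (tt N23640 F186413) (tt N25534 (iv F190921)) (tt N23338 F186414) (tt N25536 (iv F190938)) (tt N23422 F186415) (tt N25537 D41464) (tt N23337 (iv D40392)))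
theorem Q24467 : ∀ i, i < 24467 → P i := stepQ 24466 Q24466 (allL N24466 (tt N23965 F186416) (tt N23619 F186417) (tt N23714 F186418) (tt N23641 F186419) (tt N23748 F186420) (tt N25535 (iv F190929)) (tt N23341 F186421) (tt N23339 (iv D40393)) (tt N23551 F186422) (tt N23710 (iv F186423)))
theorem Q24468 : ∀ i, i < 24468 → P i := stepQ 24467 Q24467 (allL N24467 (tt N23797 F186424) (tt N23620 F186425) (tt N23647 F186426) (tt N23642 F186427) (tt N23740 F186428) (tt N25536 (iv F190937)) (tt N23340 F186429) (tt N23710 F186430) (tt N23645 F186431) (tt N23339 (iv D40394)))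
theorem Q24469 : ∀ i, i < 24469 → P i := stepQ 24468 Q24468 (allL N24468 (tt N23966 F186432) (tt N23622 F186433) (tt N23696 F186434) (tt N23708 F186435) (tt N23343 F186436) (tt N25534 (iv F190922)) (tt N23756 F186437) (tt N23428 F186438) (tt N23903 F186439) (tt N23342 (iv D40395)))
theorem Q24470 : ∀ i, i < 24470 → P i := stepQ 24469 Q24469 (allL N24469 (tt N23349 F186440) (tt N23412 F186441) (tt N24171 F186442) (tt N23345 F186443) (tt N23407 F186444) (tt N25538 D41465) (tt N23344 (iv D40396)) (tt N23432 F186445) (tt N23442 F186446) (tt N23404 F186447))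
theorem Q24471 : ∀ i, i < 24471 → P i := stepQ 24470 Q24470 (allL N24470 (tt N23351 F186448) (tt N24007 F186449) (tt N23663 F186450) (tt N25538 (iv F190949)) (tt N23805 F186451) (tt N23345 (iv D40397)) (tt N23731 F186452) (tt N23433 F186453) (tt N25539 D41466) (tt N25520 (iv F190833)))
theorem Q24472 : ∀ i, i < 24472 → P i := stepQ 24471 Q24471 (allL N24471 (tt N23352 F186454) (tt N23448 F186455) (tt N23619 F186456) (tt N23442 F186457) (tt N23347 F186458) (tt N25540 D41467) (tt N23346 F186459) (tt N23434 F186460) (tt N23345 (iv D40398)) (tt N23439 F186461))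
theorem Q24473 : ∀ i, i < 24473 → P i := stepQ 24472 Q24472 (allL N24472 (tt N24171 F186462) (tt N23645 F186463) (tt N23349 F186464) (tt N24020 F186465) (tt N23486 F186466) (tt N25541 D41468) (tt N23348 (iv D40399)) (tt N23436 F186467) (tt N23620 F186468) (tt N23666 F186469))
theorem Q24474 : ∀ i, i < 24474 → P i := stepQ 24473 Q24473 (allL N24473 (tt N25538 (iv F190946)) (tt N23357 F186470) (tt N25541 (iv F190970)) (tt N23351 F186471) (tt N25424 (iv F190242)) (tt N23349 (iv D40400)) (tt N24235 F186472) (tt N23438 F186473) (tt N25542 D41469) (tt N25521 (iv F190840)))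
theorem Q24475 : ∀ i, i < 24475 → P i := stepQ 24474 Q24474 (allL N24474 (tt N23442 F186474) (tt N23358 F186475) (tt N23620 F186476) (tt N23352 F186477) (tt N23435 F186478) (tt N25543 D41470) (tt N23350 F186479) (tt N23439 F186480) (tt N23349 (iv D40401)) (tt N23434 F186481))
theorem Q24476 : ∀ i, i < 24476 → P i := stepQ 24475 Q24475 (allL N24475 (tt N25539 (iv F190954)) (tt N23360 F186482) (tt N24201 F186483) (tt N25542 (iv F190976)) (tt N25329 (iv F189662)) (tt N25544 D41471) (tt N24237 F186484) (tt N23440 F186485) (tt N23351 (iv D40402)) (tt N25545 D41472))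
theorem Q24477 : ∀ i, i < 24477 → P i := stepQ 24476 Q24476 (allL N24476 (tt N25540 (iv F190960)) (tt N23361 F186486) (tt N24167 F186487) (tt N25543 (iv F190982)) (tt N25546 D41473) (tt N23352 (iv D40403)) (tt N25547 D41474) (tt N23441 F186488) (tt N25544 (iv F190990)) (tt N25548 D41475))
theorem Q24478 : ∀ i, i < 24478 → P i := stepQ 24477 Q24477 (allL N24477 (tt N23439 F186489) (tt N23362 F186490) (tt N24170 F186491) (tt N23434 F186492) (tt N23356 F186493) (tt N25548 (iv F191011)) (tt N23354 F186494) (tt N23442 F186495) (tt N23432 F186496) (tt N23352 (iv D40404)))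
theorem Q24479 : ∀ i, i < 24479 → P i := stepQ 24478 Q24478 (allL N24478 (tt N24153 F186497) (tt N23363 F186498) (tt N23853 F186499) (tt N23611 F186500) (tt N24478 F186501) (tt N25547 (iv F191004)) (tt N23353 (iv D40405)) (tt N23845 F186502) (tt N23871 F186503) (tt N23608 F186504))
theorem Q24480 : ∀ i, i < 24480 → P i := stepQ 24479 Q24479 (allL N24479 (tt N24118 F186505) (tt N23366 F186506) (tt N24257 F186507) (tt N25473 (iv F190556)) (tt N23355 (iv D40406)) (tt N25546 (iv F190998)) (tt N24479 F186508) (tt N23443 F186509) (tt N23482 F186510) (tt N25549 D41476))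
theorem Q24481 : ∀ i, i < 24481 → P i := stepQ 24480 Q24480 (allL N24480 (tt N23492 F186511) (tt N23367 F186512) (tt N24260 F186513) (tt N23484 F186514) (tt N25549 (iv F191018)) (tt N23356 F186515) (tt N24480 F186516) (tt N23444 F186517) (tt N23858 F186518) (tt N23355 (iv D40407)))
theorem Q24482 : ∀ i, i < 24482 → P i := stepQ 24481 Q24481 (allL N24481 (tt N24012 F186519) (tt N25424 (iv F190240)) (tt N23651 F186520) (tt N25353 (iv F189824)) (tt N23357 (iv D40408)) (tt N23487 F186521) (tt N25496 (iv F190691)) (tt N23445 F186522) (tt N25550 D41477) (tt N25524 (iv F190860)))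
theorem Q24483 : ∀ i, i < 24483 → P i := stepQ 24482 Q24482 (allL N24482 (tt N24013 F186523) (tt N25542 (iv F190975)) (tt N23652 F186524) (tt N23360 F186525) (tt N25550 (iv F191024)) (tt N25551 D41478) (tt N25497 (iv F190698)) (tt N23446 F186526) (tt N23357 (iv D40409)) (tt N25552 D41479))
theorem Q24484 : ∀ i, i < 24484 → P i := stepQ 24483 Q24483 (allL N24483 (tt N24014 F186527) (tt N25543 (iv F190980)) (tt N23653 F186528) (tt N23361 F186529) (tt N23910 F186530) (tt N23358 (iv D40410)) (tt N25553 D41480) (tt N23447 F186531) (tt N25551 (iv F191030)) (tt N24083 F186532))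
theorem Q24485 : ∀ i, i < 24485 → P i := stepQ 24484 Q24484 (allL N24484 (tt N23436 F186533) (tt N23611 F186534) (tt N23432 F186535) (tt N23363 F186536) (tt N23490 F186537) (tt N25553 (iv F191041)) (tt N23359 (iv D40411)) (tt N24171 F186538) (tt N24170 F186539) (tt N23605 F186540))
theorem Q24486 : ∀ i, i < 24486 → P i := stepQ 24485 Q24485 (allL N24485 (tt N24015 F186541) (tt N25544 (iv F190987)) (tt N23368 F186542) (tt N25551 (iv F191028)) (tt N25554 D41481) (tt N23360 (iv D40412)) (tt N25555 D41482) (tt N23452 F186543) (tt N23361 F186544) (tt N25556 D41483))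
theorem Q24487 : ∀ i, i < 24487 → P i := stepQ 24486 Q24486 (allL N24486 (tt N24016 F186545) (tt N25545 (iv F190991)) (tt N23369 F186546) (tt N25552 (iv F191034)) (tt N25514 (iv F190794)) (tt N25556 (iv F191053)) (tt N25500 (iv F190716)) (tt N23453 F186547) (tt N25527 (iv F190877)) (tt N23360 (iv D40413)))
theorem Q24488 : ∀ i, i < 24488 → P i := stepQ 24487 Q24487 (allL N24487 (tt N24017 F186548) (tt N25546 (iv F190996)) (tt N23370 F186549) (tt N25557 D41484) (tt N23361 (iv D40414)) (tt N23366 F186550) (tt N25558 D41485) (tt N23454 F186551) (tt N25554 (iv F191047)) (tt N25559 D41486))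
theorem Q24489 : ∀ i, i < 24489 → P i := stepQ 24488 Q24488 (allL N24488 (tt N24018 F186552) (tt N25547 (iv F191001)) (tt N23371 F186553) (tt N25553 (iv F191039)) (tt N25558 (iv F191063)) (tt N23363 F186554) (tt N23361 (iv D40415)) (tt N25560 D41487) (tt N25555 (iv F191050)) (tt N25561 D41488))
theorem Q24490 : ∀ i, i < 24490 → P i := stepQ 24489 Q24489 (allL N24489 (tt N24019 F186555) (tt N25548 (iv F191008)) (tt N23372 F186556) (tt N24083 F186557) (tt N25559 (iv F191068)) (tt N23362 F186558) (tt N25561 (iv F191083)) (tt N23456 F186559) (tt N25562 D41489) (tt N23361 (iv D40416)))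
theorem Q24491 : ∀ i, i < 24491 → P i := stepQ 24490 Q24490 (allL N24490 (tt N24020 F186560) (tt N23845 F186561) (tt N23373 F186562) (tt N24171 F186563) (tt N24490 F186564) (tt N25560 (iv F191075)) (tt N23365 F186565) (tt N23363 (iv D40417)) (tt N23863 F186566) (tt N24033 (iv F186567)))
theorem Q24492 : ∀ i, i < 24492 → P i := stepQ 24491 Q24491 (allL N24491 (tt N24021 F186568) (tt N23608 F186569) (tt N23374 F186570) (tt N23605 F186571) (tt N24491 F186572) (tt N25561 (iv F191082)) (tt N23364 F186573) (tt N24033 F186574) (tt N23603 F186575) (tt N23363 (iv D40418)))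
theorem Q24493 : ∀ i, i < 24493 → P i := stepQ 24492 Q24492 (allL N24492 (tt N24022 F186576) (tt N25473 (iv F190555)) (tt N23942 F186577) (tt N23366 (iv D40419)) (tt N23379 F186578) (tt N25557 (iv F191058)) (tt N24492 F186579) (tt N23461 F186580) (tt N23378 F186581) (tt N23941 (iv F186582)))
theorem Q24494 : ∀ i, i < 24494 → P i := stepQ 24493 Q24493 (allL N24493 (tt N24023 F186583) (tt N25549 (iv F191015)) (tt N23378 F186584) (tt N23941 F186585) (tt N23367 F186586) (tt N25559 (iv F191069)) (tt N24493 F186587) (tt N23462 F186588) (tt N23942 F186589) (tt N23366 (iv D40420)))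
theorem Q24495 : ∀ i, i < 24495 → P i := stepQ 24494 Q24494 (allL N24494 (tt N24024 F186590) (tt N25463 (iv F190498)) (tt N25554 (iv F191045)) (tt N25563 D41490) (tt N23368 (iv D40421)) (tt N25515 (iv F190800)) (tt N25564 D41491) (tt N23463 F186591) (tt N23370 F186592) (tt N25565 D41492))
theorem Q24496 : ∀ i, i < 24496 → P i := stepQ 24495 Q24495 (allL N24495 (tt N24025 F186593) (tt N25464 (iv F190503)) (tt N25555 (iv F191049)) (tt N23659 F186594) (tt N25564 (iv F191096)) (tt N25506 (iv F190752)) (tt N23368 (iv D40422)) (tt N25566 D41493) (tt N23371 F186595) (tt N25567 D41494))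
theorem Q24497 : ∀ i, i < 24497 → P i := stepQ 24496 Q24496 (allL N24496 (tt N24026 F186596) (tt N25465 (iv F190508)) (tt N25556 (iv F191052)) (tt N23660 F186597) (tt N25565 (iv F191099)) (tt N23369 F186598) (tt N25567 (iv F191107)) (tt N23465 F186599) (tt N25568 D41495) (tt N23368 (iv D40423)))
theorem Q24498 : ∀ i, i < 24498 → P i := stepQ 24497 Q24497 (allL N24497 (tt N24027 F186600) (tt N25466 (iv F190513)) (tt N23890 (iv F186604)) (tt N23370 (iv D40424)) (tt N23661 F186601) (tt N23377 F186602) (tt N25569 D41496) (tt N23466 F186603) (tt N25563 (iv F191093)) (tt N25493 (iv F190675)))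
theorem Q24499 : ∀ i, i < 24499 → P i := stepQ 24498 Q24498 (allL N24498 (tt N24028 F186605) (tt N25467 (iv F190519)) (tt N25558 (iv F191062)) (tt N25569 (iv F191114)) (tt N23371 F186606) (tt N24498 F186607) (tt N23370 (iv D40425)) (tt N25570 D41497) (tt N25564 (iv F191097)) (tt N25571 D41498))
theorem Q24500 : ∀ i, i < 24500 → P i := stepQ 24499 Q24499 (allL N24499 (tt N24029 F186608) (tt N25468 (iv F190523)) (tt N25559 (iv F191066)) (tt N25493 (iv F190672)) (tt N23372 F186609) (tt N23378 F186610) (tt N25571 (iv F191124)) (tt N23468 F186611) (tt N25572 D41499) (tt N23370 (iv D40426)))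
theorem Q24501 : ∀ i, i < 24501 → P i := stepQ 24500 Q24500 (allL N24500 (tt N24030 F186612) (tt N25469 (iv F190529)) (tt N25560 (iv F191073)) (tt N23663 F186613) (tt N25570 (iv F191118)) (tt N23373 F186614) (tt N23469 F186615) (tt N23371 (iv D40427)) (tt N25566 (iv F191104)) (tt N25573 D41500))
theorem Q24502 : ∀ i, i < 24502 → P i := stepQ 24501 Q24501 (allL N24501 (tt N24031 F186616) (tt N25470 (iv F190536)) (tt N25561 (iv F191080)) (tt N23664 F186617) (tt N25571 (iv F191122)) (tt N23374 F186618) (tt N23372 F186619) (tt N25573 (iv F191134)) (tt N25574 D41501) (tt N23371 (iv D40428)))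
theorem Q24503 : ∀ i, i < 24503 → P i := stepQ 24502 Q24502 (allL N24502 (tt N24032 F186620) (tt N25471 (iv F190543)) (tt N25562 (iv F191086)) (tt N23665 F186621) (tt N25572 (iv F191126)) (tt N25537 (iv F190944)) (tt N25574 (iv F191137)) (tt N23471 F186622) (tt N23372 (iv D40429)) (tt N25568 (iv F191111)))
theorem Q24504 : ∀ i, i < 24504 → P i := stepQ 24503 Q24503 (allL N24503 (tt N23603 F186623) (tt N23785 F186624) (tt N24033 F186625) (tt N23602 F186626) (tt N24503 F186627) (tt N25573 (iv F191132)) (tt N23376 F186628) (tt N23374 F186629) (tt N24021 F186630) (tt N23373 (iv D40430)))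
theorem Q24505 : ∀ i, i < 24505 → P i := stepQ 24504 Q24504 (allL N24504 (tt N24033 F186631) (tt N24095 F186632) (tt N23603 F186633) (tt N23666 F186634) (tt N24504 F186635) (tt N25575 D41502) (tt N23375 F186636) (tt N24021 F186637) (tt N23374 (iv D40431)) (tt N24020 F186638))
theorem Q24506 : ∀ i, i < 24506 → P i := stepQ 24505 Q24505 (allL N24505 (tt N23794 F186639) (tt N23381 F186640) (tt N23993 F186641) (tt N23816 F186642) (tt N23668 F186643) (tt N23380 (iv D40432)) (tt N23949 F186644) (tt N23568 F186645) (tt N25576 D41503) (tt N23533 F186646))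
theorem Q24507 : ∀ i, i < 24507 → P i := stepQ 24506 Q24506 (allL N24506 (tt N24034 F186647) (tt N25576 (iv F191146)) (tt N23382 F186648) (tt N25343 (iv F189762)) (tt N23670 F186649) (tt N23879 F186650) (tt N23950 F186651) (tt N23687 F186652) (tt N23381 (iv D40433)) (tt N25577 D41504))
theorem Q24508 : ∀ i, i < 24508 → P i := stepQ 24507 Q24507 (allL N24507 (tt N24035 F186653) (tt N24000 F186654) (tt N23879 F186655) (tt N23392 F186656) (tt N25578 D41505) (tt N23382 (iv D40434)) (tt N25475 (iv F190570)) (tt N23901 F186657) (tt N23383 F186658) (tt N25579 D41506))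
theorem Q24509 : ∀ i, i < 24509 → P i := stepQ 24508 Q24508 (allL N24508 (tt N24036 F186659) (tt N24001 F186660) (tt N25577 (iv F191154)) (tt N23393 F186661) (tt N23674 F186662) (tt N25579 (iv F191170)) (tt N23953 F186663) (tt N24122 F186664) (tt N23796 F186665) (tt N23382 (iv D40435)))
theorem Q24510 : ∀ i, i < 24510 → P i := stepQ 24509 Q24509 (allL N24509 (tt N24037 F186666) (tt N24002 F186667) (tt N23877 F186668) (tt N25580 D41507) (tt N23383 (iv D40436)) (tt N23384 F186669) (tt N25477 (iv F190580)) (tt N23898 F186670) (tt N25578 (iv F191165)) (tt N23869 F186671))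
theorem Q24511 : ∀ i, i < 24511 → P i := stepQ 24510 Q24510 (allL N24510 (tt N24040 F186672) (tt N24005 F186673) (tt N23936 (iv F186679)) (tt N23384 (iv D40437)) (tt N23385 F186674) (tt N25580 (iv F191176)) (tt N24510 F186675) (tt N23810 F186676) (tt N23678 F186677) (tt N23872 F186678))
theorem Q24512 : ∀ i, i < 24512 → P i := stepQ 24511 Q24511 (allL N24511 (tt N23950 F186680) (tt N25332 (iv F189682)) (tt N23388 F186681) (tt N25338 (iv F189726)) (tt N23410 F186682) (tt N25337 (iv F189720)) (tt N24034 F186683) (tt N23947 F186684) (tt N23386 (iv D40438)) (tt N25581 D41508))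
theorem Q24513 : ∀ i, i < 24513 → P i := stepQ 24512 Q24512 (allL N24512 (tt N23951 F186685) (tt N25334 (iv F189696)) (tt N23390 F186686) (tt N23679 F186687) (tt N23387 (iv D40439)) (tt N25336 (iv F189713)) (tt N24512 F186688) (tt N23744 F186689) (tt N23416 F186690) (tt N23678 F186691))
theorem Q24514 : ∀ i, i < 24514 → P i := stepQ 24513 Q24513 (allL N24513 (tt N23952 F186692) (tt N24144 F186693) (tt N25337 (iv F189718)) (tt N23626 F186694) (tt N25582 D41509) (tt N23388 (iv D40440)) (tt N25448 (iv F190400)) (tt N23681 F186695) (tt N23389 F186696) (tt N25583 D41510))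
theorem Q24515 : ∀ i, i < 24515 → P i := stepQ 24514 Q24514 (allL N24514 (tt N23953 F186697) (tt N24145 F186698) (tt N25581 (iv F191181)) (tt N23796 F186699) (tt N23419 F186700) (tt N25583 (iv F191195)) (tt N24036 F186701) (tt N23948 F186702) (tt N23393 F186703) (tt N23388 (iv D40441)))
theorem Q24516 : ∀ i, i < 24516 → P i := stepQ 24515 Q24515 (allL N24515 (tt N23954 F186704) (tt N24146 F186705) (tt N25336 (iv F189711)) (tt N23651 F186706) (tt N23389 (iv D40442)) (tt N23390 F186707) (tt N25447 (iv F190392)) (tt N23680 F186708) (tt N25582 (iv F191191)) (tt N23865 F186709))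
theorem Q24517 : ∀ i, i < 24517 → P i := stepQ 24516 Q24516 (allL N24516 (tt N24045 F186710) (tt N25330 (iv F189667)) (tt N23393 F186711) (tt N25351 (iv F189812)) (tt N23453 F186712) (tt N25490 (iv F190655)) (tt N24123 F186713) (tt N25514 (iv F190796)) (tt N25581 (iv F191185)) (tt N23391 (iv D40443)))
theorem Q24518 : ∀ i, i < 24518 → P i := stepQ 24517 Q24517 (allL N24517 (tt N24047 F186714) (tt N24161 F186715) (tt N25487 (iv F190637)) (tt N25584 D41511) (tt N23392 (iv D40444)) (tt N23463 F186716) (tt N25478 (iv F190586)) (tt N25515 (iv F190801)) (tt N23394 F186717) (tt N25585 D41512))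
theorem Q24519 : ∀ i, i < 24519 → P i := stepQ 24518 Q24518 (allL N24518 (tt N24049 F186718) (tt N24163 F186719) (tt N25490 (iv F190653)) (tt N25579 (iv F191169)) (tt N25585 (iv F191204)) (tt N23393 F186720) (tt N25479 (iv F190592)) (tt N25517 (iv F190812)) (tt N25586 D41513) (tt N23392 (iv D40445)))
theorem Q24520 : ∀ i, i < 24520 → P i := stepQ 24519 Q24519 (allL N24519 (tt N24050 F186721) (tt N24164 F186722) (tt N25587 D41514) (tt N23394 (iv D40446)) (tt N25580 (iv F191175)) (tt N23396 F186723) (tt N25480 (iv F190596)) (tt N25518 (iv F190818)) (tt N25584 (iv F191201)) (tt N25588 D41515))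
theorem Q24521 : ∀ i, i < 24521 → P i := stepQ 24520 Q24520 (allL N24520 (tt N24052 F186724) (tt N24166 F186725) (tt N23466 F186726) (tt N25588 (iv F191223)) (tt N23395 F186727) (tt N23397 F186728) (tt N25481 (iv F190602)) (tt N23890 F186729) (tt N25589 D41516) (tt N23394 (iv D40447)))
theorem Q24522 : ∀ i, i < 24522 → P i := stepQ 24521 Q24521 (allL N24521 (tt N24054 F186730) (tt N24169 F186731) (tt N23733 F186732) (tt N23867 F186733) (tt N25589 (iv F191230)) (tt N23866 F186734) (tt N25482 (iv F190607)) (tt N23888 F186735) (tt N23395 (iv D40448)) (tt N25586 (iv F191212)))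
theorem Q24523 : ∀ i, i < 24523 → P i := stepQ 24522 Q24522 (allL N24522 (tt N24055 F186736) (tt N24174 (iv F186742)) (tt N23396 (iv D40449)) (tt N23462 F186737) (tt N23398 F186738) (tt N25587 (iv F191216)) (tt N23474 F186739) (tt N23941 F186740) (tt N23397 F186741) (tt N23461 (iv F186743)))
theorem Q24524 : ∀ i, i < 24524 → P i := stepQ 24523 Q24523 (allL N24523 (tt N24056 F186744) (tt N24173 F186745) (tt N23461 F186746) (tt N23397 F186747) (tt N23399 F186748) (tt N25588 (iv F191225)) (tt N23475 F186749) (tt N23942 F186750) (tt N23462 F186751) (tt N23396 (iv D40450)))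
theorem Q24525 : ∀ i, i < 24525 → P i := stepQ 24524 Q24524 (allL N24524 (tt N23403 F186752) (tt N24057 F186753) (tt N23664 F186754) (tt N25523 (iv F190849)) (tt N23806 F186755) (tt N23400 (iv D40451)) (tt N23657 F186756) (tt N25520 (iv F190832)) (tt N25590 D41517) (tt N23433 F186757))
theorem Q24526 : ∀ i, i < 24526 → P i := stepQ 24525 Q24525 (allL N24525 (tt N25523 (iv F190846)) (tt N23408 F186758) (tt N24089 F186759) (tt N23403 F186760) (tt N25425 (iv F190249)) (tt N23402 (iv D40452)) (tt N23982 F186761) (tt N25521 (iv F190839)) (tt N25591 D41518) (tt N23438 F186762))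
theorem Q24527 : ∀ i, i < 24527 → P i := stepQ 24526 Q24526 (allL N24526 (tt N25590 (iv F191232)) (tt N23410 F186763) (tt N24204 F186764) (tt N25591 (iv F191239)) (tt N25332 (iv F189685)) (tt N25592 D41519) (tt N24200 F186765) (tt N25522 (iv F190845)) (tt N23403 (iv D40453)) (tt N25593 D41520))
theorem Q24528 : ∀ i, i < 24528 → P i := stepQ 24527 Q24527 (allL N24527 (tt N25521 (iv F190834)) (tt N23411 F186766) (tt N24205 F186767) (tt N25520 (iv F190829)) (tt N25594 D41521) (tt N23404 (iv D40454)) (tt N25595 D41522) (tt N25523 (iv F190852)) (tt N25592 (iv F191243)) (tt N25538 (iv F190953)))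
theorem Q24529 : ∀ i, i < 24529 → P i := stepQ 24528 Q24528 (allL N24528 (tt N23536 F186768) (tt N23413 F186769) (tt N24193 F186770) (tt N23534 F186771) (tt N24528 F186772) (tt N25595 (iv F191258)) (tt N23405 (iv D40455)) (tt N23582 F186773) (tt N23787 F186774) (tt N23727 F186775))
theorem Q24530 : ∀ i, i < 24530 → P i := stepQ 24529 Q24529 (allL N24529 (tt N25441 (iv F190345)) (tt N23416 F186776) (tt N24261 F186777) (tt N23929 F186778) (tt N23406 (iv D40456)) (tt N25594 (iv F191251)) (tt N24529 F186779) (tt N23928 F186780) (tt N25334 (iv F189701)) (tt N23927 F186781))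
theorem Q24531 : ∀ i, i < 24531 → P i := stepQ 24530 Q24530 (allL N24530 (tt N24060 F186782) (tt N25425 (iv F190246)) (tt N23688 F186783) (tt N23919 F186784) (tt N23408 (iv D40457)) (tt N23488 F186785) (tt N23987 F186786) (tt N25524 (iv F190859)) (tt N25596 D41523) (tt N23445 F186787))
theorem Q24532 : ∀ i, i < 24532 → P i := stepQ 24531 Q24531 (allL N24531 (tt N24061 F186788) (tt N25591 (iv F191237)) (tt N23689 F186789) (tt N23410 F186790) (tt N25596 (iv F191264)) (tt N25597 D41524) (tt N23985 F186791) (tt N25525 (iv F190866)) (tt N23408 (iv D40458)) (tt N25598 D41525))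
theorem Q24533 : ∀ i, i < 24533 → P i := stepQ 24532 Q24532 (allL N24532 (tt N23955 F186792) (tt N25520 (iv F190827)) (tt N23690 F186793) (tt N23411 F186794) (tt N23979 F186795) (tt N23409 (iv D40459)) (tt N23791 F186796) (tt N24057 F186797) (tt N25597 (iv F191272)) (tt N24007 F186798))
theorem Q24534 : ∀ i, i < 24534 → P i := stepQ 24533 Q24533 (allL N24533 (tt N24062 F186799) (tt N25592 (iv F191241)) (tt N23418 F186800) (tt N25597 (iv F191269)) (tt N25599 D41526) (tt N23410 (iv D40460)) (tt N25600 D41527) (tt N25526 (iv F190870)) (tt N23411 F186801) (tt N25601 D41528))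
theorem Q24535 : ∀ i, i < 24535 → P i := stepQ 24534 Q24534 (allL N24534 (tt N24063 F186802) (tt N25593 (iv F191244)) (tt N23419 F186803) (tt N25598 (iv F191276)) (tt N25581 (iv F191182)) (tt N25601 (iv F191289)) (tt N24206 F186804) (tt N25527 (iv F190876)) (tt N23453 F186805) (tt N23410 (iv D40461)))
theorem Q24536 : ∀ i, i < 24536 → P i := stepQ 24535 Q24535 (allL N24535 (tt N24064 F186806) (tt N25594 (iv F191248)) (tt N23420 F186807) (tt N25602 D41529) (tt N23411 (iv D40462)) (tt N23416 F186808) (tt N25603 D41530) (tt N25528 (iv F190883)) (tt N25599 (iv F191281)) (tt N25604 D41531))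
theorem Q24537 : ∀ i, i < 24537 → P i := stepQ 24536 Q24536 (allL N24536 (tt N24065 F186809) (tt N25595 (iv F191255)) (tt N23421 F186810) (tt N23791 F186811) (tt N25603 (iv F191299)) (tt N23413 F186812) (tt N23411 (iv D40463)) (tt N25605 D41532) (tt N25600 (iv F191286)) (tt N25606 D41533))
theorem Q24538 : ∀ i, i < 24538 → P i := stepQ 24537 Q24537 (allL N24537 (tt N24008 F186813) (tt N25538 (iv F190947)) (tt N23422 F186814) (tt N24007 F186815) (tt N25604 (iv F191305)) (tt N23412 F186816) (tt N25606 (iv F191320)) (tt N24081 F186817) (tt N25607 D41534) (tt N23411 (iv D40464)))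
theorem Q24539 : ∀ i, i < 24539 → P i := stepQ 24538 Q24538 (allL N24538 (tt N23522 F186818) (tt N23582 F186819) (tt N23423 F186820) (tt N23507 F186821) (tt N24538 F186822) (tt N25605 (iv F191312)) (tt N23415 F186823) (tt N23413 (iv D40465)) (tt N23505 F186824) (tt N23715 (iv F186825)))
theorem Q24540 : ∀ i, i < 24540 → P i := stepQ 24539 Q24539 (allL N24539 (tt N23992 F186826) (tt N23727 F186827) (tt N23424 F186828) (tt N23720 F186829) (tt N24539 F186830) (tt N25606 (iv F191319)) (tt N23414 F186831) (tt N23715 F186832) (tt N24077 F186833) (tt N23413 (iv D40466)))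
theorem Q24541 : ∀ i, i < 24541 → P i := stepQ 24540 Q24540 (allL N24540 (tt N24066 F186834) (tt N23929 F186835) (tt N23644 (iv F186840)) (tt N23416 (iv D40467)) (tt N23489 F186836) (tt N25602 (iv F191293)) (tt N24540 F186837) (tt N23697 F186838) (tt N23679 F186839) (tt N23635 F186841))
theorem Q24542 : ∀ i, i < 24542 → P i := stepQ 24541 Q24541 (allL N24541 (tt N24067 F186842) (tt N23927 F186843) (tt N23428 F186844) (tt N23635 F186845) (tt N23417 F186846) (tt N25604 (iv F191306)) (tt N24541 F186847) (tt N23696 F186848) (tt N23872 F186849) (tt N23416 (iv D40468)))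
theorem Q24543 : ∀ i, i < 24543 → P i := stepQ 24542 Q24542 (allL N24542 (tt N24068 F186850) (tt N25366 (iv F189909)) (tt N25599 (iv F191280)) (tt N25608 D41535) (tt N23418 (iv D40469)) (tt N25582 (iv F191189)) (tt N25609 D41536) (tt N25530 (iv F190897)) (tt N23420 F186851) (tt N25610 D41537))
theorem Q24544 : ∀ i, i < 24544 → P i := stepQ 24543 Q24543 (allL N24543 (tt N24069 F186852) (tt N25367 (iv F189914)) (tt N25600 (iv F191283)) (tt N23699 F186853) (tt N25609 (iv F191333)) (tt N23829 F186854) (tt N23418 (iv D40470)) (tt N25611 D41538) (tt N23421 F186855) (tt N25612 D41539))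
theorem Q24545 : ∀ i, i < 24545 → P i := stepQ 24544 Q24544 (allL N24544 (tt N24070 F186856) (tt N25368 (iv F189919)) (tt N25601 (iv F191288)) (tt N23700 F186857) (tt N25610 (iv F191336)) (tt N23419 F186858) (tt N25612 (iv F191344)) (tt N25532 (iv F190909)) (tt N25613 D41540) (tt N23418 (iv D40471)))
theorem Q24546 : ∀ i, i < 24546 → P i := stepQ 24545 Q24545 (allL N24545 (tt N24071 F186859) (tt N25369 (iv F189924)) (tt N25614 D41541) (tt N23420 (iv D40472)) (tt N23701 F186860) (tt N23427 F186861) (tt N25615 D41542) (tt N23751 F186862) (tt N25608 (iv F191331)) (tt N25616 D41543))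
theorem Q24547 : ∀ i, i < 24547 → P i := stepQ 24546 Q24546 (allL N24546 (tt N24072 F186863) (tt N25370 (iv F189929)) (tt N25603 (iv F191298)) (tt N25615 (iv F191356)) (tt N23421 F186864) (tt N24546 F186865) (tt N23420 (iv D40473)) (tt N25617 D41544) (tt N25609 (iv F191334)) (tt N25618 D41545))
theorem Q24548 : ∀ i, i < 24548 → P i := stepQ 24547 Q24547 (allL N24547 (tt N24073 F186866) (tt N25371 (iv F189933)) (tt N25604 (iv F191303)) (tt N25616 (iv F191361)) (tt N23422 F186867) (tt N23428 F186868) (tt N25618 (iv F191371)) (tt N25534 (iv F190924)) (tt N25619 D41546) (tt N23420 (iv D40474)))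
theorem Q24549 : ∀ i, i < 24549 → P i := stepQ 24548 Q24548 (allL N24548 (tt N24074 F186869) (tt N25372 (iv F189938)) (tt N25605 (iv F191310)) (tt N23704 F186870) (tt N25617 (iv F191366)) (tt N23423 F186871) (tt N25535 (iv F190930)) (tt N23421 (iv D40475)) (tt N25611 (iv F191340)) (tt N25620 D41547))
theorem Q24550 : ∀ i, i < 24550 → P i := stepQ 24549 Q24549 (allL N24549 (tt N24075 F186872) (tt N25373 (iv F189945)) (tt N25606 (iv F191317)) (tt N23705 F186873) (tt N25618 (iv F191369)) (tt N23424 F186874) (tt N23422 F186875) (tt N25620 (iv F191380)) (tt N25621 D41548) (tt N23421 (iv D40476)))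
theorem Q24551 : ∀ i, i < 24551 → P i := stepQ 24550 Q24550 (allL N24550 (tt N24076 F186876) (tt N25374 (iv F189952)) (tt N25607 (iv F191323)) (tt N23706 F186877) (tt N25619 (iv F191373)) (tt N23471 F186878) (tt N25621 (iv F191383)) (tt N25537 (iv F190945)) (tt N23422 (iv D40477)) (tt N25613 (iv F191348)))
theorem Q24552 : ∀ i, i < 24552 → P i := stepQ 24551 Q24551 (allL N24551 (tt N24077 F186879) (tt N23995 F186880) (tt N23715 F186881) (tt N23707 F186882) (tt N24551 F186883) (tt N25620 (iv F191378)) (tt N23426 F186884) (tt N23424 F186885) (tt N23992 F186886) (tt N23423 (iv D40478)))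
theorem Q24553 : ∀ i, i < 24553 → P i := stepQ 24552 Q24552 (allL N24552 (tt N23715 F186887) (tt N23514 F186888) (tt N24077 F186889) (tt N23513 F186890) (tt N24552 F186891) (tt N25622 D41549) (tt N23425 F186892) (tt N23992 F186893) (tt N23424 (iv D40479)) (tt N23522 F186894))
theorem Q24554 : ∀ i, i < 24554 → P i := stepQ 24553 Q24553 (allL N24553 (tt N24078 F186895) (tt N25438 (iv F190328)) (tt N23427 (iv D40480)) (tt N23644 F186896) (tt N23430 F186897) (tt N25614 (iv F191352)) (tt N24553 F186898) (tt N23493 F186899) (tt N23487 F186900) (tt N23643 (iv F186901)))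
theorem Q24555 : ∀ i, i < 24555 → P i := stepQ 24554 Q24554 (allL N24554 (tt N24079 F186902) (tt N25376 (iv F189962)) (tt N23643 F186903) (tt N23428 F186904) (tt N23431 F186905) (tt N25616 (iv F191363)) (tt N24554 F186906) (tt N23708 F186907) (tt N23494 (iv F186908)) (tt N23427 (iv D40481)))
theorem Q24556 : ∀ i, i < 24556 → P i := stepQ 24555 Q24555 (allL N24555 (tt N24080 F186909) (tt N25377 (iv F189969)) (tt N23872 F186910) (tt N23494 F186911) (tt N23429 F186912) (tt N25623 D41550) (tt N24555 F186913) (tt N23903 F186914) (tt N23428 (iv D40482)) (tt N23936 F186915))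
theorem Q24557 : ∀ i, i < 24557 → P i := stepQ 24556 Q24556 (allL N24556 (tt N23438 F186916) (tt N24081 F186917) (tt N25553 (iv F191038)) (tt N23433 F186918) (tt N23911 F186919) (tt N23432 (iv D40483)) (tt N23653 F186920) (tt N25538 (iv F190952)) (tt N25624 D41551) (tt N25523 (iv F190853)))
theorem Q24558 : ∀ i, i < 24558 → P i := stepQ 24557 Q24557 (allL N24557 (tt N23440 F186921) (tt N24082 F186922) (tt N23659 F186923) (tt N25624 (iv F191399)) (tt N23803 F186924) (tt N25625 D41552) (tt N23655 F186925) (tt N25539 (iv F190959)) (tt N23433 (iv D40484)) (tt N25626 D41553))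
theorem Q24559 : ∀ i, i < 24559 → P i := stepQ 24558 Q24558 (allL N24558 (tt N23441 F186926) (tt N24083 F186927) (tt N23617 F186928) (tt N25548 (iv F191010)) (tt N24117 F186929) (tt N23434 (iv D40485)) (tt N23610 F186930) (tt N25540 (iv F190966)) (tt N25625 (iv F191407)) (tt N25543 (iv F190986)))
theorem Q24560 : ∀ i, i < 24560 → P i := stepQ 24559 Q24559 (allL N24559 (tt N25553 (iv F191036)) (tt N23709 F186931) (tt N23438 F186932) (tt N24018 F186933) (tt N25423 (iv F190236)) (tt N23436 (iv D40486)) (tt N24014 F186934) (tt N25541 (iv F190973)) (tt N25627 D41554) (tt N24089 F186935))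
theorem Q24561 : ∀ i, i < 24561 → P i := stepQ 24560 Q24560 (allL N24560 (tt N24170 F186936) (tt N23710 F186937) (tt N23439 F186938) (tt N23998 F186939) (tt N23491 F186940) (tt N25628 D41555) (tt N23437 F186941) (tt N23620 F186942) (tt N23436 (iv D40487)) (tt N23619 F186943))
theorem Q24562 : ∀ i, i < 24562 → P i := stepQ 24561 Q24561 (allL N24561 (tt N25624 (iv F191397)) (tt N23446 F186944) (tt N25627 (iv F191414)) (tt N23440 F186945) (tt N25415 (iv F190204)) (tt N25629 D41556) (tt N24197 F186946) (tt N25542 (iv F190978)) (tt N23438 (iv D40488)) (tt N25630 D41557))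
theorem Q24563 : ∀ i, i < 24563 → P i := stepQ 24562 Q24562 (allL N24562 (tt N25548 (iv F191007)) (tt N23447 F186947) (tt N25628 (iv F191419)) (tt N23441 F186948) (tt N25631 D41558) (tt N23439 (iv D40489)) (tt N24152 F186949) (tt N25543 (iv F190985)) (tt N25629 (iv F191427)) (tt N25540 (iv F190967)))
theorem Q24564 : ∀ i, i < 24564 → P i := stepQ 24563 Q24563 (allL N24563 (tt N25625 (iv F191402)) (tt N23452 F186950) (tt N24162 F186951) (tt N25629 (iv F191425)) (tt N25632 D41559) (tt N23440 (iv D40490)) (tt N24154 F186952) (tt N25544 (iv F190989)) (tt N23441 F186953) (tt N25633 D41560))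
theorem Q24565 : ∀ i, i < 24565 → P i := stepQ 24564 Q24564 (allL N24564 (tt N25626 (iv F191408)) (tt N23453 F186954) (tt N24202 F186955) (tt N25630 (iv F191429)) (tt N25330 (iv F189670)) (tt N25633 (iv F191444)) (tt N24199 F186956) (tt N25545 (iv F190994)) (tt N25593 (iv F191247)) (tt N23440 (iv D40491)))
theorem Q24566 : ∀ i, i < 24566 → P i := stepQ 24565 Q24565 (allL N24565 (tt N24117 F186957) (tt N23454 F186958) (tt N24165 F186959) (tt N25495 (iv F190683)) (tt N23441 (iv D40492)) (tt N23443 F186960) (tt N24156 F186961) (tt N25546 (iv F190999)) (tt N25632 (iv F191441)) (tt N25634 D41561))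
theorem Q24567 : ∀ i, i < 24567 → P i := stepQ 24566 Q24566 (allL N24566 (tt N25543 (iv F190979)) (tt N23456 F186962) (tt N24168 F186963) (tt N25540 (iv F190963)) (tt N25634 (iv F191450)) (tt N23442 F186964) (tt N24157 F186965) (tt N25548 (iv F191013)) (tt N25635 D41562) (tt N23441 (iv D40493)))
theorem Q24568 : ∀ i, i < 24568 → P i := stepQ 24567 Q24567 (allL N24567 (tt N23918 F186966) (tt N23462 F186967) (tt N24258 F186968) (tt N24174 F186969) (tt N23444 F186970) (tt N25634 (iv F191451)) (tt N23476 F186971) (tt N25549 (iv F191020)) (tt N24173 F186972) (tt N23443 (iv D40494)))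
theorem Q24569 : ∀ i, i < 24569 → P i := stepQ 24568 Q24568 (allL N24568 (tt N24090 F186973) (tt N25415 (iv F190202)) (tt N23721 F186974) (tt N25348 (iv F189795)) (tt N23446 F186975) (tt N25636 D41563) (tt N25327 (iv F189648)) (tt N25550 (iv F191025)) (tt N23445 (iv D40495)) (tt N25637 D41564))
theorem Q24570 : ∀ i, i < 24570 → P i := stepQ 24569 Q24569 (allL N24569 (tt N24091 F186976) (tt N25629 (iv F191424)) (tt N23722 F186977) (tt N23452 F186978) (tt N25638 D41565) (tt N23446 (iv D40496)) (tt N25639 D41566) (tt N25551 (iv F191029)) (tt N23447 F186979) (tt N25640 D41567))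
theorem Q24571 : ∀ i, i < 24571 → P i := stepQ 24570 Q24570 (allL N24570 (tt N24092 F186980) (tt N25630 (iv F191428)) (tt N23723 F186981) (tt N23453 F186982) (tt N25637 (iv F191462)) (tt N25640 (iv F191476)) (tt N25328 (iv F189655)) (tt N25552 (iv F191035)) (tt N25598 (iv F191278)) (tt N23446 (iv D40497)))
theorem Q24572 : ∀ i, i < 24572 → P i := stepQ 24571 Q24571 (allL N24571 (tt N24093 F186983) (tt N25631 (iv F191431)) (tt N23724 F186984) (tt N25623 (iv F191393)) (tt N23447 (iv D40498)) (tt N23494 F186985) (tt N25641 D41568) (tt N23910 F186986) (tt N25638 (iv F191466)) (tt N25642 D41569))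
theorem Q24573 : ∀ i, i < 24573 → P i := stepQ 24572 Q24572 (allL N24572 (tt N24094 F186987) (tt N24152 F186988) (tt N23725 F186989) (tt N23455 F186990) (tt N25641 (iv F191480)) (tt N23449 F186991) (tt N23447 (iv D40499)) (tt N25643 D41570) (tt N25639 (iv F191472)) (tt N25644 D41571))
theorem Q24574 : ∀ i, i < 24574 → P i := stepQ 24573 Q24573 (allL N24573 (tt N24010 F186992) (tt N25540 (iv F190961)) (tt N23726 F186993) (tt N23456 F186994) (tt N25642 (iv F191486)) (tt N23448 F186995) (tt N25644 (iv F191501)) (tt N24083 F186996) (tt N25645 D41572) (tt N23447 (iv D40500)))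
theorem Q24575 : ∀ i, i < 24575 → P i := stepQ 24574 Q24574 (allL N24574 (tt N24095 F186997) (tt N23841 F186998) (tt N23727 F186999) (tt N23457 F187000) (tt N24574 F187001) (tt N25643 (iv F191493)) (tt N23451 F187002) (tt N23449 (iv D40501)) (tt N23838 F187003) (tt N24193 (iv F187004)))
theorem Q24576 : ∀ i, i < 24576 → P i := stepQ 24575 Q24575 (allL N24575 (tt N23584 F187005) (tt N24153 F187006) (tt N23582 F187007) (tt N23458 F187008) (tt N24575 F187009) (tt N25644 (iv F191500)) (tt N23450 F187010) (tt N24193 F187011) (tt N24192 F187012) (tt N23449 (iv D40502)))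
theorem Q24577 : ∀ i, i < 24577 → P i := stepQ 24576 Q24576 (allL N24576 (tt N24096 F187013) (tt N25632 (iv F191437)) (tt N23463 F187014) (tt N25646 D41573) (tt N23452 (iv D40503)) (tt N25487 F190641) (tt N25647 D41574) (tt N25554 (iv F191046)) (tt N23454 F187015) (tt N25648 D41575))
theorem Q24578 : ∀ i, i < 24578 → P i := stepQ 24577 Q24577 (allL N24577 (tt N24097 F187016) (tt N24154 F187017) (tt N23464 F187018) (tt N25639 (iv F191470)) (tt N25647 (iv F191514)) (tt N24149 F187019) (tt N23452 (iv D40504)) (tt N25649 D41576) (tt N23455 F187020) (tt N25650 D41577))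
theorem Q24579 : ∀ i, i < 24579 → P i := stepQ 24578 Q24578 (allL N24578 (tt N24098 F187021) (tt N25633 (iv F191442)) (tt N23465 F187022) (tt N25640 (iv F191475)) (tt N25648 (iv F191519)) (tt N23453 F187023) (tt N25650 (iv F191529)) (tt N25556 (iv F191054)) (tt N25651 D41578) (tt N23452 (iv D40505)))
theorem Q24580 : ∀ i, i < 24580 → P i := stepQ 24579 Q24579 (allL N24579 (tt N24099 F187024) (tt N25495 (iv F190682)) (tt N25588 (iv F191222)) (tt N23454 (iv D40506)) (tt N25623 (iv F191394)) (tt N23461 F187025) (tt N25652 D41579) (tt N25557 (iv F191059)) (tt N25646 (iv F191510)) (tt N25587 F191218))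
theorem Q24581 : ∀ i, i < 24581 → P i := stepQ 24580 Q24580 (allL N24580 (tt N24100 F187026) (tt N24156 F187027) (tt N23467 F187028) (tt N25652 (iv F191535)) (tt N23455 F187029) (tt N23478 F187030) (tt N23454 (iv D40507)) (tt N25653 D41580) (tt N25647 (iv F191516)) (tt N25492 (iv F190668)))
theorem Q24582 : ∀ i, i < 24582 → P i := stepQ 24581 Q24581 (allL N24581 (tt N24101 F187031) (tt N25634 (iv F191447)) (tt N23468 F187032) (tt N25587 (iv F191214)) (tt N23456 F187033) (tt N23462 F187034) (tt N25492 (iv F190667)) (tt N25559 (iv F191070)) (tt N25654 D41581) (tt N23454 (iv D40508)))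
theorem Q24583 : ∀ i, i < 24583 → P i := stepQ 24582 Q24582 (allL N24582 (tt N24102 F187035) (tt N23843 F187036) (tt N23469 F187037) (tt N25643 (iv F191492)) (tt N25653 (iv F191540)) (tt N23457 F187038) (tt N25560 (iv F191076)) (tt N23455 (iv D40509)) (tt N25649 (iv F191524)) (tt N25655 D41582))
theorem Q24584 : ∀ i, i < 24584 → P i := stepQ 24583 Q24583 (allL N24583 (tt N23709 F187039) (tt N24157 F187040) (tt N23470 F187041) (tt N25644 (iv F191499)) (tt N25492 (iv F190665)) (tt N23458 F187042) (tt N23456 F187043) (tt N25655 (iv F191551)) (tt N25656 D41583) (tt N23455 (iv D40510)))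
theorem Q24585 : ∀ i, i < 24585 → P i := stepQ 24584 Q24584 (allL N24584 (tt N24103 F187044) (tt N25635 (iv F191453)) (tt N23471 F187045) (tt N25645 (iv F191505)) (tt N25654 (iv F191544)) (tt N25607 (iv F191325)) (tt N25656 (iv F191555)) (tt N25562 (iv F191089)) (tt N23456 (iv D40511)) (tt N25651 (iv F191532)))
theorem Q24586 : ∀ i, i < 24586 → P i := stepQ 24585 Q24585 (allL N24585 (tt N23645 F187046) (tt N23844 F187047) (tt N23472 F187048) (tt N24193 F187049) (tt N23480 F187050) (tt N25655 (iv F191549)) (tt N23460 F187051) (tt N23458 F187052) (tt N23797 F187053) (tt N23457 (iv D40512)))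
theorem Q24587 : ∀ i, i < 24587 → P i := stepQ 24586 Q24586 (allL N24586 (tt N23710 F187054) (tt N23859 F187055) (tt N23473 F187056) (tt N24192 F187057) (tt N23481 F187058) (tt N25657 D41584) (tt N23459 F187059) (tt N23797 F187060) (tt N23458 (iv D40513)) (tt N23965 F187061))
theorem Q24588 : ∀ i, i < 24588 → P i := stepQ 24587 Q24587 (allL N24587 (tt N24104 F187062) (tt N25486 (iv F190630)) (tt N25589 (iv F191229)) (tt N23463 (iv D40514)) (tt N23733 F187063) (tt N25584 (iv F191200)) (tt N25494 (iv F190680)) (tt N25563 (iv F191092)) (tt N23466 F187064) (tt N25658 D41585))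
theorem Q24589 : ∀ i, i < 24589 → P i := stepQ 24588 Q24588 (allL N24588 (tt N24105 F187065) (tt N25487 (iv F190636)) (tt N25647 (iv F191513)) (tt N25494 (iv F190678)) (tt N23464 F187066) (tt N25632 (iv F191439)) (tt N23463 (iv D40515)) (tt N25659 D41586) (tt N23467 F187067) (tt N25660 D41587))
theorem Q24590 : ∀ i, i < 24590 → P i := stepQ 24589 Q24589 (allL N24589 (tt N24106 F187068) (tt N25488 (iv F190642)) (tt N25648 (iv F191518)) (tt N25658 (iv F191564)) (tt N23465 F187069) (tt N25585 (iv F191205)) (tt N25660 (iv F191571)) (tt N25565 (iv F191100)) (tt N25661 D41588) (tt N23463 (iv D40516)))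
theorem Q24591 : ∀ i, i < 24591 → P i := stepQ 24590 Q24590 (allL N24590 (tt N24107 F187070) (tt N25489 (iv F190646)) (tt N25649 (iv F191522)) (tt N23735 F187071) (tt N25659 (iv F191567)) (tt N25329 (iv F189663)) (tt N25566 (iv F191103)) (tt N23464 (iv D40517)) (tt N23469 F187072) (tt N25662 D41589))
theorem Q24592 : ∀ i, i < 24592 → P i := stepQ 24591 Q24591 (allL N24591 (tt N24108 F187073) (tt N25490 (iv F190652)) (tt N25650 (iv F191527)) (tt N23736 F187074) (tt N25660 (iv F191570)) (tt N25330 (iv F189671)) (tt N23465 F187075) (tt N25662 (iv F191577)) (tt N25663 D41590) (tt N23464 (iv D40518)))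
theorem Q24593 : ∀ i, i < 24593 → P i := stepQ 24592 Q24592 (allL N24592 (tt N24109 F187076) (tt N25491 (iv F190659)) (tt N25651 (iv F191531)) (tt N23737 F187077) (tt N25661 (iv F191573)) (tt N25613 (iv F191347)) (tt N25663 (iv F191581)) (tt N25568 (iv F191110)) (tt N23465 (iv D40519)) (tt N23471 F187078))
theorem Q24594 : ∀ i, i < 24594 → P i := stepQ 24593 Q24593 (allL N24593 (tt N24110 F187079) (tt N25493 (iv F190670)) (tt N25653 (iv F191539)) (tt N25468 (iv F190524)) (tt N23469 F187080) (tt N23482 F187081) (tt N25570 (iv F191120)) (tt N23467 (iv D40520)) (tt N25659 (iv F191568)) (tt N25466 F190517))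
theorem Q24595 : ∀ i, i < 24595 → P i := stepQ 24594 Q24594 (allL N24594 (tt N24111 F187082) (tt N25494 (iv F190677)) (tt N25654 (iv F191543)) (tt N25487 (iv F190638)) (tt N23471 F187083) (tt N25646 (iv F191509)) (tt N25486 F190634) (tt N25572 (iv F191127)) (tt N23468 (iv D40521)) (tt N25661 (iv F191574)))
theorem Q24596 : ∀ i, i < 24596 → P i := stepQ 24595 Q24595 (allL N24595 (tt N23646 F187084) (tt N23661 F187085) (tt N25655 (iv F191547)) (tt N23548 F187086) (tt N25466 (iv F190514)) (tt N23472 F187087) (tt N25573 (iv F191133)) (tt N23470 F187088) (tt N25664 D41591) (tt N23469 (iv D40522)))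
theorem Q24597 : ∀ i, i < 24597 → P i := stepQ 24596 Q24596 (allL N24596 (tt N23712 F187089) (tt N23733 F187090) (tt N25656 (iv F191554)) (tt N23597 F187091) (tt N25486 (iv F190631)) (tt N25665 D41592) (tt N23471 F187092) (tt N25664 (iv F191587)) (tt N23470 (iv D40523)) (tt N25663 (iv F191582)))
theorem Q24598 : ∀ i, i < 24598 → P i := stepQ 24597 Q24597 (allL N24597 (tt N23713 F187093) (tt N23686 F187094) (tt N25657 (iv F191558)) (tt N23566 F187095) (tt N25666 D41593) (tt N23473 (iv D40524)) (tt N25622 (iv F191388)) (tt N23798 F187096) (tt N25665 (iv F191592)) (tt N25333 (iv F189694)))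
theorem Q24599 : ∀ i, i < 24599 → P i := stepQ 24598 Q24598 (allL N24598 (tt N24115 F187097) (tt N24158 F187098) (tt N25484 (iv F190617)) (tt N23478 F187099) (tt N24598 F187100) (tt N25652 (iv F191536)) (tt N23477 (iv D40525)) (tt N25667 D41594) (tt N24255 F187101) (tt N25483 F190614))
theorem Q24600 : ∀ i, i < 24600 → P i := stepQ 24599 Q24599 (allL N24599 (tt N24116 F187102) (tt N23846 F187103) (tt N23482 F187104) (tt N25667 (iv F191600)) (tt N23479 F187105) (tt N25653 (iv F191541)) (tt N24599 F187106) (tt N23478 (iv D40526)) (tt N24257 F187107) (tt N25472 (iv F190553)))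
theorem Q24601 : ∀ i, i < 24601 → P i := stepQ 24600 Q24600 (allL N24600 (tt N23747 F187108) (tt N23933 F187109) (tt N23483 F187110) (tt N24600 F187111) (tt N25668 D41595) (tt N23481 (iv D40527)) (tt N24600 F187112) (tt N23808 F187113) (tt N24006 F187114) (tt N23991 F187115))
theorem Q24602 : ∀ i, i < 24602 → P i := stepQ 24601 Q24601 (allL N24601 (tt N23749 F187116) (tt N23678 F187117) (tt N25668 (iv F191606)) (tt N23560 F187118) (tt N23483 (iv D40528)) (tt N25666 (iv F191596)) (tt N24601 F187119) (tt N23809 F187120) (tt N24005 F187121) (tt N25334 (iv F189702)))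
theorem Q24603 : ∀ i, i < 24603 → P i := stepQ 24602 Q24602 (allL N24602 (tt N24059 F187122) (tt N25441 (iv F190346)) (tt N23738 F187123) (tt N23672 F187124) (tt N23485 (iv D40529)) (tt N25524 (iv F190857)) (tt N24602 F187125) (tt N23488 F187126) (tt N23752 F187127) (tt N23487 F187128))
theorem Q24604 : ∀ i, i < 24604 → P i := stepQ 24603 Q24603 (allL N24603 (tt N24260 F187129) (tt N23747 F187130) (tt N23492 F187131) (tt N24603 F187132) (tt N25669 D41596) (tt N23491 (iv D40530)) (tt N24603 F187133) (tt N23783 F187134) (tt N25379 (iv F189990)) (tt N23782 F187135))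
theorem Q24605 : ∀ i, i < 24605 → P i := stepQ 24604 Q24604 (allL N24604 (tt N25549 (iv F191014)) (tt N23494 F187136) (tt N25669 (iv F191614)) (tt N25377 (iv F189970)) (tt N23492 (iv D40531)) (tt N25631 (iv F191432)) (tt N24604 F187137) (tt N23918 F187138) (tt N25376 (iv F189967)) (tt N24118 F187139))
theorem Q24606 : ∀ i, i < 24606 → P i := stepQ 24605 Q24605 (allL N24605 (tt N24120 F187140) (tt N25437 (iv F190323)) (tt N23751 F187141) (tt N23703 F187142) (tt N25616 (iv F191362)) (tt N23493 (iv D40532)) (tt N25670 D41597) (tt N25614 (iv F191353)) (tt N25636 (iv F191459)) (tt N23701 F187143))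
theorem Q24607 : ∀ i, i < 24607 → P i := stepQ 24606 Q24606 (allL N24606 (tt N24011 F187144) (tt N24118 F187145) (tt N23752 F187146) (tt N23936 F187147) (tt N23495 F187148) (tt N25642 (iv F191487)) (tt N24606 F187149) (tt N23745 F187150) (tt N23738 F187151) (tt N23494 (iv D40533)))
theorem Q24608 : ∀ i, i < 24608 → P i := stepQ 24607 Q24607 (allL N24607 (tt N24121 F187152) (tt N24247 F187153) (tt N23763 F187154) (tt N23774 F187155) (tt N24607 F187156) (tt N25670 (iv F191622)) (tt N23496 (iv D40534)) (tt N25671 D41598) (tt N24245 F187157) (tt N23772 F187158))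
theorem Q24609 : ∀ i, i < 24609 → P i := stepQ 24608 Q24608 (allL N24608 (tt N23791 F187159) (tt N23499 F187160) (tt N23533 F187161) (tt N24065 F187162) (tt N23788 F187163) (tt N23497 (iv D40535)) (tt N23955 F187164) (tt N23523 F187165) (tt N25672 D41599) (tt N23993 F187166))
theorem Q24610 : ∀ i, i < 24610 → P i := stepQ 24609 Q24609 (allL N24609 (tt N23540 F187167) (tt N24065 F187168) (tt N24142 F187169) (tt N23499 F187170) (tt N25673 D41600) (tt N23498 (iv D40536)) (tt N23956 F187171) (tt N23524 F187172) (tt N25674 D41601) (tt N23994 F187173))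
theorem Q24611 : ∀ i, i < 24611 → P i := stepQ 24610 Q24610 (allL N24610 (tt N23542 F187174) (tt N25672 (iv F191633)) (tt N23501 F187175) (tt N25674 (iv F191651)) (tt N23790 F187176) (tt N25675 D41602) (tt N23957 F187177) (tt N23525 F187178) (tt N23499 (iv D40537)) (tt N25676 D41603))
theorem Q24612 : ∀ i, i < 24612 → P i := stepQ 24611 Q24611 (allL N24611 (tt N23543 F187179) (tt N23531 F187180) (tt N23502 F187181) (tt N25396 (iv F190092)) (tt N23538 F187182) (tt N23500 (iv D40538)) (tt N23946 F187183) (tt N23526 F187184) (tt N25675 (iv F191658)) (tt N23818 F187185))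
theorem Q24613 : ∀ i, i < 24613 → P i := stepQ 24612 Q24612 (allL N24612 (tt N23546 F187186) (tt N23626 F187187) (tt N25675 (iv F191656)) (tt N24144 F187188) (tt N23648 (iv F187191)) (tt N23501 (iv D40539)) (tt N25446 (iv F190385)) (tt N23527 F187189) (tt N23502 F187190) (tt N25677 D41604))
theorem Q24614 : ∀ i, i < 24614 → P i := stepQ 24613 Q24613 (allL N24613 (tt N23547 F187192) (tt N23796 F187193) (tt N25676 (iv F191662)) (tt N24145 F187194) (tt N23793 F187195) (tt N25677 (iv F191671)) (tt N23961 F187196) (tt N23528 F187197) (tt N24001 F187198) (tt N23501 (iv D40540)))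
theorem Q24615 : ∀ i, i < 24615 → P i := stepQ 24614 Q24614 (allL N24614 (tt N23587 F187199) (tt N23505 F187200) (tt N24192 F187201) (tt N23504 F187202) (tt N24614 F187203) (tt N25678 D41605) (tt N23503 (iv D40541)) (tt N23787 F187204) (tt N23582 F187205) (tt N23559 F187206))
theorem Q24616 : ∀ i, i < 24616 → P i := stepQ 24615 Q24615 (allL N24615 (tt N23589 F187207) (tt N23506 F187208) (tt N23566 F187209) (tt N25678 (iv F191677)) (tt N23523 F187210) (tt N23504 (iv D40542)) (tt N23568 F187211) (tt N23788 F187212) (tt N25679 D41606) (tt N23567 F187213))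
theorem Q24617 : ∀ i, i < 24617 → P i := stepQ 24616 Q24616 (allL N24616 (tt N23562 F187214) (tt N25678 (iv F191675)) (tt N23819 F187215) (tt N23506 F187216) (tt N25680 D41607) (tt N23505 (iv D40543)) (tt N23677 F187217) (tt N23789 F187218) (tt N25681 D41608) (tt N23676 F187219))
theorem Q24618 : ∀ i, i < 24618 → P i := stepQ 24617 Q24617 (allL N24617 (tt N23563 F187220) (tt N25679 (iv F191682)) (tt N23508 F187221) (tt N25681 (iv F191697)) (tt N23525 F187222) (tt N25682 D41609) (tt N23687 F187223) (tt N23790 F187224) (tt N23506 (iv D40544)) (tt N25683 D41610))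
theorem Q24619 : ∀ i, i < 24619 → P i := stepQ 24618 Q24618 (allL N24618 (tt N23523 F187225) (tt N23583 F187226) (tt N23509 F187227) (tt N25605 (iv F191311)) (tt N23589 F187228) (tt N23507 (iv D40545)) (tt N23719 F187229) (tt N23791 F187230) (tt N25682 (iv F191706)) (tt N23718 F187231))
theorem Q24620 : ∀ i, i < 24620 → P i := stepQ 24619 Q24619 (allL N24619 (tt N23564 F187232) (tt N23728 F187233) (tt N25682 (iv F191702)) (tt N23821 F187234) (tt N23716 F187235) (tt N23508 (iv D40546)) (tt N25684 D41611) (tt N23792 F187236) (tt N23509 F187237) (tt N25685 D41612))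
theorem Q24621 : ∀ i, i < 24621 → P i := stepQ 24620 Q24620 (allL N24620 (tt N23565 F187238) (tt N23795 F187239) (tt N25683 (iv F191708)) (tt N23822 F187240) (tt N23528 F187241) (tt N25685 (iv F191724)) (tt N24122 F187242) (tt N23793 F187243) (tt N23814 F187244) (tt N23508 (iv D40547)))
theorem Q24622 : ∀ i, i < 24622 → P i := stepQ 24621 Q24621 (allL N24621 (tt N23567 F187245) (tt N23596 F187246) (tt N23719 F187247) (tt N23824 F187248) (tt N23718 F187249) (tt N23511 F187250) (tt N23509 (iv D40548)) (tt N25686 D41613) (tt N25684 (iv F191719)) (tt N23589 (iv F187251)))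
theorem Q24623 : ∀ i, i < 24623 → P i := stepQ 24622 Q24622 (allL N24622 (tt N23568 F187252) (tt N23595 F187253) (tt N23718 F187254) (tt N23825 F187255) (tt N23719 F187256) (tt N23510 F187257) (tt N23589 F187258) (tt N23794 F187259) (tt N25687 D41614) (tt N23509 (iv D40549)))
theorem Q24624 : ∀ i, i < 24624 → P i := stepQ 24623 Q24623 (allL N24623 (tt N23553 F187260) (tt N23544 F187261) (tt N23650 F187262) (tt N23634 F187263) (tt N23529 F187264) (tt N25686 (iv F191731)) (tt N23512 F187265) (tt N23511 (iv D40550)) (tt N23902 F187266) (tt N23539 F187267))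
theorem Q24625 : ∀ i, i < 24625 → P i := stepQ 24624 Q24624 (allL N24624 (tt N23718 F187268) (tt N23515 F187269) (tt N23568 F187270) (tt N25622 (iv F191387)) (tt N23567 F187271) (tt N23513 (iv D40551)) (tt N23566 F187272) (tt N23993 F187273) (tt N25688 D41615) (tt N23523 F187274))
theorem Q24626 : ∀ i, i < 24626 → P i := stepQ 24625 Q24625 (allL N24625 (tt N23569 F187275) (tt N25622 (iv F191385)) (tt N23840 F187276) (tt N23515 F187277) (tt N25689 D41616) (tt N23514 (iv D40552)) (tt N23686 F187278) (tt N23994 F187279) (tt N25690 D41617) (tt N23524 F187280))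
theorem Q24627 : ∀ i, i < 24627 → P i := stepQ 24626 Q24626 (allL N24626 (tt N23571 F187281) (tt N25688 (iv F191743)) (tt N23517 F187282) (tt N25690 (iv F191758)) (tt N23684 F187283) (tt N25691 D41618) (tt N23683 F187284) (tt N23996 F187285) (tt N23515 (iv D40553)) (tt N25692 D41619))
theorem Q24628 : ∀ i, i < 24628 → P i := stepQ 24627 Q24627 (allL N24627 (tt N23572 F187286) (tt N23705 F187287) (tt N23518 F187288) (tt N25373 (iv F189947)) (tt N24248 F187289) (tt N23516 (iv D40554)) (tt N23578 F187290) (tt N23997 F187291) (tt N25691 (iv F191767)) (tt N23577 F187292))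
theorem Q24629 : ∀ i, i < 24629 → P i := stepQ 24628 Q24628 (allL N24628 (tt N23574 F187293) (tt N23901 F187294) (tt N25691 (iv F191763)) (tt N23848 F187295) (tt N25693 D41620) (tt N23517 (iv D40555)) (tt N25694 D41621) (tt N24000 F187296) (tt N23518 F187297) (tt N25695 D41622))
theorem Q24630 : ∀ i, i < 24630 → P i := stepQ 24629 Q24629 (allL N24629 (tt N23575 F187298) (tt N24122 F187299) (tt N25692 (iv F191769)) (tt N23849 F187300) (tt N23814 F187301) (tt N25695 (iv F191789)) (tt N23795 F187302) (tt N24001 F187303) (tt N23528 F187304) (tt N23517 (iv D40556)))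
theorem Q24631 : ∀ i, i < 24631 → P i := stepQ 24630 Q24630 (allL N24630 (tt N23576 F187305) (tt N23898 F187306) (tt N24248 F187307) (tt N25696 D41623) (tt N23518 (iv D40557)) (tt N23520 F187308) (tt N25432 (iv F190295)) (tt N24002 F187309) (tt N25693 (iv F191779)) (tt N23885 F187310))
theorem Q24632 : ∀ i, i < 24632 → P i := stepQ 24631 Q24631 (allL N24631 (tt N23577 F187311) (tt N23900 F187312) (tt N23578 F187313) (tt N23851 F187314) (tt N25432 (iv F190294)) (tt N23519 F187315) (tt N23518 (iv D40558)) (tt N25503 (iv F190737)) (tt N25694 (iv F191785)) (tt N23572 F187316))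
theorem Q24633 : ∀ i, i < 24633 → P i := stepQ 24632 Q24632 (allL N24632 (tt N23580 F187317) (tt N23810 F187318) (tt N25697 D41624) (tt N23520 (iv D40559)) (tt N23521 F187319) (tt N25696 (iv F191795)) (tt N23765 F187320) (tt N24005 F187321) (tt N23809 F187322) (tt N23886 F187323))
theorem Q24634 : ∀ i, i < 24634 → P i := stepQ 24633 Q24633 (allL N24633 (tt N23581 F187324) (tt N23938 F187325) (tt N23521 (iv D40560)) (tt N24633 F187326) (tt N25697 (iv F191801)) (tt N23857 F187327) (tt N23766 F187328) (tt N24006 F187329) (tt N23808 F187330) (tt N23930 F187331))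
theorem Q24635 : ∀ i, i < 24635 → P i := stepQ 24634 Q24634 (allL N24634 (tt N25605 (iv F191308)) (tt N23524 F187332) (tt N24074 F187333) (tt N23523 F187334) (tt N25698 D41625) (tt N23522 (iv D40561)) (tt N25333 (iv F189692)) (tt N24065 F187335) (tt N25699 D41626) (tt N25622 (iv F191390)))
theorem Q24636 : ∀ i, i < 24636 → P i := stepQ 24635 Q24635 (allL N24635 (tt N25682 (iv F191700)) (tt N23525 F187336) (tt N23564 F187337) (tt N25699 (iv F191812)) (tt N25679 (iv F191684)) (tt N23563 F187338) (tt N25335 (iv F189708)) (tt N25672 (iv F191639)) (tt N23523 (iv D40562)) (tt N25700 D41627))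
theorem Q24637 : ∀ i, i < 24637 → P i := stepQ 24636 Q24636 (allL N24636 (tt N23590 F187339) (tt N25698 (iv F191806)) (tt N25447 (iv F190389)) (tt N25680 (iv F191690)) (tt N23524 (iv D40563)) (tt N24636 F187340) (tt N25336 (iv F189714)) (tt N25673 (iv F191646)) (tt N25701 D41628) (tt N25689 (iv F191755)))
theorem Q24638 : ∀ i, i < 24638 → P i := stepQ 24637 Q24637 (allL N24637 (tt N23591 F187341) (tt N25699 (iv F191810)) (tt N25448 (iv F190397)) (tt N23525 F187342) (tt N25701 (iv F191819)) (tt N25397 (iv F190100)) (tt N25337 (iv F189721)) (tt N25674 (iv F191653)) (tt N23524 (iv D40564)) (tt N25702 D41629))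
theorem Q24639 : ∀ i, i < 24639 → P i := stepQ 24638 Q24638 (allL N24638 (tt N23593 F187343) (tt N23563 F187344) (tt N23527 F187345) (tt N25397 (iv F190099)) (tt N23588 (iv F187347)) (tt N23525 (iv D40565)) (tt N24129 (iv F187348)) (tt N25675 (iv F191657)) (tt N23526 F187346) (tt N25703 D41630))
theorem Q24640 : ∀ i, i < 24640 → P i := stepQ 24639 Q24639 (allL N24639 (tt N23594 F187349) (tt N25700 (iv F191815)) (tt N23528 F187350) (tt N25702 (iv F191821)) (tt N25683 (iv F191709)) (tt N25703 (iv F191826)) (tt N25339 (iv F189734)) (tt N25676 (iv F191665)) (tt N25692 (iv F191773)) (tt N23525 (iv D40566)))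
theorem Q24641 : ∀ i, i < 24641 → P i := stepQ 24640 Q24640 (allL N24640 (tt N23599 F187351) (tt N23682 F187352) (tt N25703 (iv F191824)) (tt N25451 (iv F190420)) (tt N23717 F187353) (tt N23528 F187354) (tt N24207 F187355) (tt N25677 (iv F191672)) (tt N23884 F187356) (tt N23527 (iv D40567)))
theorem Q24642 : ∀ i, i < 24642 → P i := stepQ 24641 Q24641 (allL N24641 (tt N23789 F187357) (tt N25396 (iv F190090)) (tt N23676 F187358) (tt N23531 F187359) (tt N25704 D41631) (tt N23530 (iv D40568)) (tt N23671 F187360) (tt N23562 F187361) (tt N25705 D41632) (tt N23819 F187362))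
theorem Q24643 : ∀ i, i < 24643 → P i := stepQ 24642 Q24642 (allL N24642 (tt N23790 F187363) (tt N25675 (iv F191655)) (tt N23532 F187364) (tt N25705 (iv F191838)) (tt N23542 F187365) (tt N25672 (iv F191637)) (tt N23947 F187366) (tt N23563 F187367) (tt N23531 (iv D40569)) (tt N25706 D41633))
theorem Q24644 : ∀ i, i < 24644 → P i := stepQ 24643 Q24643 (allL N24643 (tt N23792 F187368) (tt N23627 F187369) (tt N25672 (iv F191634)) (tt N23813 F187370) (tt N23799 (iv F187374)) (tt N23532 (iv D40570)) (tt N24041 F187371) (tt N23564 F187372) (tt N23533 F187373) (tt N25707 D41634))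
theorem Q24645 : ∀ i, i < 24645 → P i := stepQ 24644 Q24644 (allL N24644 (tt N23793 F187375) (tt N23628 F187376) (tt N25706 (iv F191843)) (tt N23814 F187377) (tt N23547 F187378) (tt N25707 (iv F191852)) (tt N23948 F187379) (tt N23565 F187380) (tt N23822 F187381) (tt N23532 (iv D40571)))
theorem Q24646 : ∀ i, i < 24646 → P i := stepQ 24645 Q24645 (allL N24645 (tt N23538 F187382) (tt N23791 F187383) (tt N23548 F187384) (tt N25595 (iv F191257)) (tt N23543 F187385) (tt N23534 (iv D40572)) (tt N25520 (iv F190831)) (tt N23583 F187386) (tt N25708 D41635) (tt N23731 F187387))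
theorem Q24647 : ∀ i, i < 24647 → P i := stepQ 24646 Q24646 (allL N24646 (tt N24193 F187388) (tt N24020 F187389) (tt N23536 F187390) (tt N23645 F187391) (tt N24646 F187392) (tt N25709 D41636) (tt N23535 (iv D40573)) (tt N23584 F187393) (tt N23642 F187394) (tt N24095 F187395))
theorem Q24648 : ∀ i, i < 24648 → P i := stepQ 24647 Q24647 (allL N24647 (tt N25595 (iv F191254)) (tt N23540 F187396) (tt N25709 (iv F191863)) (tt N23538 F187397) (tt N25710 D41637) (tt N23536 (iv D40574)) (tt N25521 (iv F190838)) (tt N23586 F187398) (tt N25711 D41638) (tt N24235 F187399))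
theorem Q24649 : ∀ i, i < 24649 → P i := stepQ 24648 Q24648 (allL N24648 (tt N23787 F187400) (tt N23541 F187401) (tt N23642 F187402) (tt N23539 F187403) (tt N24648 F187404) (tt N25712 D41639) (tt N23537 F187405) (tt N23587 F187406) (tt N23536 (iv D40575)) (tt N23634 F187407))
theorem Q24650 : ∀ i, i < 24650 → P i := stepQ 24649 Q24649 (allL N24649 (tt N25708 (iv F191855)) (tt N23542 F187408) (tt N23648 F187409) (tt N25711 (iv F191873)) (tt N25675 F191659) (tt N25713 D41640) (tt N25522 (iv F190844)) (tt N23588 F187410) (tt N23538 (iv D40576)) (tt N25714 D41641))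
theorem Q24651 : ∀ i, i < 24651 → P i := stepQ 24650 Q24650 (allL N24650 (tt N23788 F187411) (tt N23543 F187412) (tt N23649 F187413) (tt N25712 (iv F191878)) (tt N23791 F187414) (tt N23539 (iv D40577)) (tt N23979 F187415) (tt N23589 F187416) (tt N25713 (iv F191887)) (tt N25686 (iv F191733)))
theorem Q24652 : ∀ i, i < 24652 → P i := stepQ 24651 Q24651 (allL N24651 (tt N25673 (iv F191640)) (tt N25710 (iv F191868)) (tt N25452 (iv F190427)) (tt N25704 (iv F191831)) (tt N23540 (iv D40578)) (tt N24651 F187417) (tt N25524 (iv F190858)) (tt N23590 F187418) (tt N25715 D41642) (tt N25496 (iv F190693)))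
theorem Q24653 : ∀ i, i < 24653 → P i := stepQ 24652 Q24652 (allL N24652 (tt N25674 (iv F191648)) (tt N25711 (iv F191872)) (tt N25453 (iv F190435)) (tt N23542 F187419) (tt N25715 (iv F191893)) (tt N25716 D41643) (tt N25525 (iv F190865)) (tt N23591 F187420) (tt N23540 (iv D40579)) (tt N25717 D41644))
theorem Q24654 : ∀ i, i < 24654 → P i := stepQ 24653 Q24653 (allL N24653 (tt N25396 (iv F190089)) (tt N25712 (iv F191876)) (tt N25454 (iv F190441)) (tt N23543 F187421) (tt N25718 D41645) (tt N23541 (iv D40580)) (tt N23916 F187422) (tt N23592 F187423) (tt N25716 (iv F191897)) (tt N23878 F187424))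
theorem Q24655 : ∀ i, i < 24655 → P i := stepQ 24654 Q24654 (allL N24654 (tt N25675 (iv F191654)) (tt N25713 (iv F191883)) (tt N23546 F187425) (tt N25716 (iv F191895)) (tt N25708 (iv F191858)) (tt N23542 (iv D40581)) (tt N25719 D41646) (tt N23593 F187426) (tt N23543 F187427) (tt N25720 D41647))
theorem Q24656 : ∀ i, i < 24656 → P i := stepQ 24655 Q24655 (allL N24655 (tt N25676 (iv F191661)) (tt N25714 (iv F191889)) (tt N23547 F187428) (tt N25717 (iv F191899)) (tt N25706 (iv F191844)) (tt N25720 (iv F191912)) (tt N25527 (iv F190875)) (tt N23594 F187429) (tt N25500 (iv F190718)) (tt N23542 (iv D40582)))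
theorem Q24657 : ∀ i, i < 24657 → P i := stepQ 24656 Q24656 (allL N24656 (tt N23946 F187430) (tt N23979 F187431) (tt N23549 F187432) (tt N23916 F187433) (tt N25520 (iv F190830)) (tt N23545 F187434) (tt N23543 (iv D40583)) (tt N23806 F187435) (tt N25719 (iv F191910)) (tt N23805 (iv F187436)))
theorem Q24658 : ∀ i, i < 24658 → P i := stepQ 24657 Q24657 (allL N24657 (tt N23818 F187437) (tt N25686 (iv F191727)) (tt N23550 F187438) (tt N23878 F187439) (tt N23731 F187440) (tt N23544 F187441) (tt N23805 F187442) (tt N23596 F187443) (tt N25721 D41648) (tt N23543 (iv D40584)))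
theorem Q24659 : ∀ i, i < 24659 → P i := stepQ 24658 Q24658 (allL N24658 (tt N23648 F187444) (tt N23658 F187445) (tt N25708 (iv F191857)) (tt N25664 (iv F191585)) (tt N23546 (iv D40585)) (tt N23799 F187446) (tt N25722 D41649) (tt N23597 F187447) (tt N23548 F187448) (tt N25723 D41650))
theorem Q24660 : ∀ i, i < 24660 → P i := stepQ 24659 Q24659 (allL N24659 (tt N25446 (iv F190379)) (tt N23659 F187449) (tt N25719 (iv F191907)) (tt N25464 (iv F190504)) (tt N25722 (iv F191922)) (tt N25531 (iv F190903)) (tt N23546 (iv D40586)) (tt N25724 D41651) (tt N23549 F187450) (tt N25725 D41652))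
theorem Q24661 : ∀ i, i < 24661 → P i := stepQ 24660 Q24660 (allL N24660 (tt N25677 (iv F191667)) (tt N23660 F187451) (tt N25720 (iv F191911)) (tt N25465 (iv F190509)) (tt N25723 (iv F191928)) (tt N23547 F187452) (tt N25725 (iv F191939)) (tt N23599 F187453) (tt N25726 D41653) (tt N23546 (iv D40587)))
theorem Q24662 : ∀ i, i < 24662 → P i := stepQ 24661 Q24661 (allL N24661 (tt N23604 F187454) (tt N23662 F187455) (tt N25520 (iv F190828)) (tt N25573 (iv F191131)) (tt N23549 F187456) (tt N23602 F187457) (tt N23548 (iv D40588)) (tt N23664 F187458) (tt N25722 (iv F191925)) (tt N23663 F187459))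
theorem Q24663 : ∀ i, i < 24663 → P i := stepQ 24662 Q24662 (allL N24662 (tt N24141 F187460) (tt N23663 F187461) (tt N23806 F187462) (tt N25469 (iv F190531)) (tt N23664 F187463) (tt N23551 F187464) (tt N23600 F187465) (tt N23549 (iv D40589)) (tt N25724 (iv F191937)) (tt N23662 (iv F187466)))
theorem Q24664 : ∀ i, i < 24664 → P i := stepQ 24663 Q24663 (allL N24663 (tt N23839 F187467) (tt N23664 F187468) (tt N23805 F187469) (tt N25470 (iv F190538)) (tt N23663 F187470) (tt N23552 F187471) (tt N23550 F187472) (tt N23662 F187473) (tt N25727 D41654) (tt N23549 (iv D40590)))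
theorem Q24665 : ∀ i, i < 24665 → P i := stepQ 24664 Q24664 (allL N24664 (tt N23861 F187474) (tt N23665 F187475) (tt N25721 (iv F191915)) (tt N25471 (iv F190544)) (tt N23735 F187476) (tt N25512 (iv F190785)) (tt N25727 (iv F191950)) (tt N23601 F187477) (tt N23550 (iv D40591)) (tt N25726 (iv F191944)))
theorem Q24666 : ∀ i, i < 24666 → P i := stepQ 24665 Q24665 (allL N24665 (tt N25686 (iv F191726)) (tt N23555 F187478) (tt N23668 F187479) (tt N24182 F187480) (tt N23993 F187481) (tt N23553 (iv D40592)) (tt N23967 F187482) (tt N23567 F187483) (tt N25728 D41655) (tt N23788 F187484))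
theorem Q24667 : ∀ i, i < 24667 → P i := stepQ 24666 Q24666 (allL N24666 (tt N23819 F187485) (tt N24182 F187486) (tt N23562 F187487) (tt N23555 F187488) (tt N25729 D41656) (tt N23554 (iv D40593)) (tt N23968 F187489) (tt N23676 F187490) (tt N25730 D41657) (tt N23789 F187491))
theorem Q24668 : ∀ i, i < 24668 → P i := stepQ 24667 Q24667 (allL N24667 (tt N23820 F187492) (tt N25728 (iv F191952)) (tt N23556 F187493) (tt N25730 (iv F191970)) (tt N23996 F187494) (tt N24217 F187495) (tt N23969 F187496) (tt N23684 F187497) (tt N23555 (iv D40594)) (tt N25731 D41658))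
theorem Q24669 : ∀ i, i < 24669 → P i := stepQ 24668 Q24668 (allL N24668 (tt N23821 F187498) (tt N23673 F187499) (tt N24217 F187500) (tt N23564 F187501) (tt N25732 D41659) (tt N23556 (iv D40595)) (tt N25733 D41660) (tt N23813 F187502) (tt N23557 F187503) (tt N25734 D41661))
theorem Q24670 : ∀ i, i < 24670 → P i := stepQ 24669 Q24669 (allL N24669 (tt N23822 F187504) (tt N23674 F187505) (tt N25731 (iv F191975)) (tt N23565 F187506) (tt N24001 F187507) (tt N25734 (iv F191998)) (tt N23974 F187508) (tt N23814 F187509) (tt N23793 F187510) (tt N23556 (iv D40596)))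
theorem Q24671 : ∀ i, i < 24671 → P i := stepQ 24670 Q24670 (allL N24670 (tt N23823 F187511) (tt N23675 F187512) (tt N24222 F187513) (tt N25666 (iv F191595)) (tt N23557 (iv D40597)) (tt N23560 F187514) (tt N25735 D41662) (tt N23815 F187515) (tt N25732 (iv F191986)) (tt N25736 D41663))
theorem Q24672 : ∀ i, i < 24672 → P i := stepQ 24671 Q24671 (allL N24671 (tt N23824 F187516) (tt N23676 F187517) (tt N24189 F187518) (tt N23567 F187519) (tt N25735 (iv F192003)) (tt N23559 F187520) (tt N23557 (iv D40598)) (tt N24182 F187521) (tt N25733 (iv F191993)) (tt N25678 (iv F191680)))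
theorem Q24673 : ∀ i, i < 24673 → P i := stepQ 24672 Q24672 (allL N24672 (tt N23825 F187522) (tt N23677 F187523) (tt N24225 F187524) (tt N23568 F187525) (tt N25736 (iv F192009)) (tt N23558 F187526) (tt N25678 (iv F191678)) (tt N23816 F187527) (tt N25737 D41664) (tt N23557 (iv D40599)))
theorem Q24674 : ∀ i, i < 24674 → P i := stepQ 24673 Q24673 (allL N24673 (tt N23826 F187528) (tt N23679 F187529) (tt N24250 F187530) (tt N25334 (iv F189698)) (tt N23561 F187531) (tt N25736 (iv F192010)) (tt N24673 F187532) (tt N23817 F187533) (tt N23929 F187534) (tt N23560 (iv D40600)))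
theorem Q24675 : ∀ i, i < 24675 → P i := stepQ 24674 Q24674 (allL N24674 (tt N25680 (iv F191688)) (tt N25394 (iv F190076)) (tt N25729 (iv F191961)) (tt N23590 F187535) (tt N23562 (iv D40601)) (tt N24674 F187536) (tt N24130 F187537) (tt N25704 (iv F191834)) (tt N25738 D41665) (tt N23828 F187538))
theorem Q24676 : ∀ i, i < 24676 → P i := stepQ 24675 Q24675 (allL N24675 (tt N25681 (iv F191695)) (tt N25397 (iv F190097)) (tt N25730 (iv F191969)) (tt N23563 F187539) (tt N25738 (iv F192019)) (tt N25699 (iv F191813)) (tt N24131 F187540) (tt N25705 (iv F191841)) (tt N23562 (iv D40602)) (tt N25739 D41666))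
theorem Q24677 : ∀ i, i < 24677 → P i := stepQ 24676 Q24676 (allL N24676 (tt N25683 (iv F191707)) (tt N25703 (iv F191823)) (tt N23565 F187541) (tt N25739 (iv F192021)) (tt N23594 F187542) (tt N25700 (iv F191817)) (tt N24132 F187543) (tt N25706 (iv F191846)) (tt N23830 F187544) (tt N23563 (iv D40603)))
theorem Q24678 : ∀ i, i < 24678 → P i := stepQ 24677 Q24677 (allL N24677 (tt N23716 F187545) (tt N23683 F187546) (tt N25679 (iv F191683)) (tt N25665 (iv F191590)) (tt N23564 (iv D40604)) (tt N23597 F187547) (tt N25688 (iv F191747)) (tt N23799 F187548) (tt N23566 F187549) (tt N25740 D41667))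
theorem Q24679 : ∀ i, i < 24679 → P i := stepQ 24678 Q24678 (allL N24678 (tt N25684 (iv F191713)) (tt N23684 F187550) (tt N25335 (iv F189705)) (tt N25733 (iv F191990)) (tt N25688 (iv F191745)) (tt N24134 F187551) (tt N23564 (iv D40605)) (tt N25728 (iv F191958)) (tt N23567 F187552) (tt N25741 D41668))
theorem Q24680 : ∀ i, i < 24680 → P i := stepQ 24679 Q24679 (allL N24679 (tt N25685 (iv F191720)) (tt N23685 F187553) (tt N25700 (iv F191816)) (tt N25734 (iv F191997)) (tt N25740 (iv F192026)) (tt N23565 F187554) (tt N25741 (iv F192031)) (tt N25707 (iv F191854)) (tt N25742 D41669) (tt N23564 (iv D40606)))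
theorem Q24681 : ∀ i, i < 24681 → P i := stepQ 24680 Q24680 (allL N24680 (tt N25687 (iv F191734)) (tt N23687 F187555) (tt N25688 (iv F191744)) (tt N25737 (iv F192015)) (tt N25335 (iv F189706)) (tt N23835 F187556) (tt N25679 (iv F191686)) (tt N25576 (iv F191152)) (tt N23568 (iv D40607)) (tt N25742 (iv F192034)))
theorem Q24682 : ∀ i, i < 24682 → P i := stepQ 24681 Q24681 (allL N24681 (tt N25689 (iv F191749)) (tt N24233 F187557) (tt N25355 (iv F189838)) (tt N23828 F187558) (tt N23569 (iv D40608)) (tt N24681 F187559) (tt N24125 F187560) (tt N25496 (iv F190692)) (tt N25743 D41670) (tt N23590 F187561))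
theorem Q24683 : ∀ i, i < 24683 → P i := stepQ 24682 Q24682 (allL N24682 (tt N25690 (iv F191756)) (tt N24231 F187562) (tt N25356 (iv F189846)) (tt N23571 F187563) (tt N25743 (iv F192037)) (tt N25744 D41671) (tt N24126 F187564) (tt N25497 (iv F190699)) (tt N23569 (iv D40609)) (tt N25745 D41672))
theorem Q24684 : ∀ i, i < 24684 → P i := stepQ 24683 Q24683 (allL N24683 (tt N25373 (iv F189944)) (tt N23891 F187565) (tt N25357 (iv F189852)) (tt N23572 F187566) (tt N25746 D41673) (tt N23570 (iv D40610)) (tt N23852 F187567) (tt N25498 (iv F190705)) (tt N25744 (iv F192042)) (tt N23851 F187568))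
theorem Q24685 : ∀ i, i < 24685 → P i := stepQ 24684 Q24684 (allL N24684 (tt N25691 (iv F191761)) (tt N23894 F187569) (tt N23574 F187570) (tt N25744 (iv F192040)) (tt N25747 D41674) (tt N23571 (iv D40611)) (tt N23883 F187571) (tt N25499 (iv F190710)) (tt N23572 F187572) (tt N25748 D41675))
theorem Q24686 : ∀ i, i < 24686 → P i := stepQ 24685 Q24685 (allL N24685 (tt N25692 (iv F191768)) (tt N24238 F187573) (tt N23575 F187574) (tt N25745 (iv F192044)) (tt N23830 F187575) (tt N25748 (iv F192059)) (tt N24127 F187576) (tt N25500 (iv F190717)) (tt N23594 F187577) (tt N23571 (iv D40612)))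
theorem Q24687 : ∀ i, i < 24687 → P i := stepQ 24686 Q24686 (allL N24686 (tt N24248 F187578) (tt N23897 F187579) (tt N23576 F187580) (tt N25749 D41676) (tt N23572 (iv D40613)) (tt N23573 F187581) (tt N23885 F187582) (tt N25501 (iv F190723)) (tt N25747 (iv F192056)) (tt N25432 (iv F190296)))
theorem Q24688 : ∀ i, i < 24688 → P i := stepQ 24687 Q24687 (allL N24687 (tt N24247 F187583) (tt N23922 F187584) (tt N25750 D41677) (tt N23573 (iv D40614)) (tt N24687 F187585) (tt N25749 (iv F192063)) (tt N23767 F187586) (tt N25504 (iv F190742)) (tt N23772 F187587) (tt N25431 (iv F190290)))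
theorem Q24689 : ∀ i, i < 24689 → P i := stepQ 24688 Q24688 (allL N24688 (tt N25693 (iv F191774)) (tt N23698 F187588) (tt N25747 (iv F192053)) (tt N25751 D41678) (tt N23574 (iv D40615)) (tt N23831 F187589) (tt N25752 D41679) (tt N25505 (iv F190747)) (tt N23576 F187590) (tt N25753 D41680))
theorem Q24690 : ∀ i, i < 24690 → P i := stepQ 24689 Q24689 (allL N24689 (tt N25694 (iv F191780)) (tt N23699 F187591) (tt N23883 F187592) (tt N25367 (iv F189915)) (tt N25752 (iv F192075)) (tt N23827 F187593) (tt N23574 (iv D40616)) (tt N25754 D41681) (tt N23577 F187594) (tt N25755 D41682))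
theorem Q24691 : ∀ i, i < 24691 → P i := stepQ 24690 Q24690 (allL N24690 (tt N25695 (iv F191786)) (tt N23700 F187595) (tt N25748 (iv F192058)) (tt N25368 (iv F189920)) (tt N25753 (iv F192079)) (tt N23575 F187596) (tt N25755 (iv F192088)) (tt N25507 (iv F190758)) (tt N25756 D41683) (tt N23574 (iv D40617)))
theorem Q24692 : ∀ i, i < 24692 → P i := stepQ 24691 Q24691 (allL N24691 (tt N25696 (iv F191792)) (tt N23701 F187597) (tt N25757 D41684) (tt N23576 (iv D40618)) (tt N25369 (iv F189925)) (tt N23580 F187598) (tt N25758 D41685) (tt N25508 (iv F190763)) (tt N25751 (iv F192072)) (tt N25437 (iv F190326)))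
theorem Q24693 : ∀ i, i < 24693 → P i := stepQ 24692 Q24692 (allL N24692 (tt N25432 (iv F190291)) (tt N23702 F187599) (tt N23885 F187600) (tt N25758 (iv F192095)) (tt N23577 F187601) (tt N23769 F187602) (tt N23576 (iv D40619)) (tt N25759 D41686) (tt N25752 (iv F192077)) (tt N24248 F187603))
theorem Q24694 : ∀ i, i < 24694 → P i := stepQ 24693 Q24693 (allL N24693 (tt N25503 (iv F190731)) (tt N23704 F187604) (tt N23862 F187605) (tt N25372 (iv F189940)) (tt N25759 (iv F192100)) (tt N23579 F187606) (tt N25510 (iv F190773)) (tt N23577 (iv D40620)) (tt N25754 (iv F192084)) (tt N23997 F187607))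
theorem Q24695 : ∀ i, i < 24695 → P i := stepQ 24694 Q24694 (allL N24694 (tt N23883 F187608) (tt N23706 F187609) (tt N25694 (iv F191782)) (tt N25374 (iv F189953)) (tt N25417 (iv F190213)) (tt N23601 F187610) (tt N25691 (iv F191765)) (tt N25512 (iv F190786)) (tt N23578 (iv D40621)) (tt N25756 (iv F192092)))
theorem Q24696 : ∀ i, i < 24696 → P i := stepQ 24695 Q24695 (allL N24695 (tt N25697 (iv F191798)) (tt N25760 D41687) (tt N23580 (iv D40622)) (tt N25750 (iv F192066)) (tt N23581 F187611) (tt N25757 (iv F192093)) (tt N23771 F187612) (tt N25513 (iv F190790)) (tt N23836 F187613) (tt N25436 (iv F190321)))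
theorem Q24697 : ∀ i, i < 24697 → P i := stepQ 24696 Q24696 (allL N24696 (tt N24175 F187614) (tt N23581 (iv D40623)) (tt N23625 F187615) (tt N24696 F187616) (tt N25760 (iv F192105)) (tt N25378 (iv F189978)) (tt N23760 F187617) (tt N25379 (iv F189989)) (tt N23783 F187618) (tt N23624 F187619))
theorem Q24698 : ∀ i, i < 24698 → P i := stepQ 24697 Q24697 (allL N24697 (tt N23586 F187620) (tt N25605 (iv F191309)) (tt N25644 (iv F191498)) (tt N23583 F187621) (tt N25761 D41688) (tt N23582 (iv D40624)) (tt N23726 F187622) (tt N25595 (iv F191259)) (tt N25762 D41689) (tt N23725 F187623))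
theorem Q24699 : ∀ i, i < 24699 → P i := stepQ 24698 Q24698 (allL N24698 (tt N23588 F187624) (tt N25682 (iv F191701)) (tt N23597 F187625) (tt N25762 (iv F192115)) (tt N23593 F187626) (tt N25679 (iv F191685)) (tt N23732 F187627) (tt N25708 (iv F191860)) (tt N23583 (iv D40625)) (tt N25763 D41690))
theorem Q24700 : ∀ i, i < 24700 → P i := stepQ 24699 Q24699 (allL N24699 (tt N25644 (iv F191496)) (tt N24018 F187628) (tt N23586 F187629) (tt N23709 F187630) (tt N25764 D41691) (tt N23584 (iv D40626)) (tt N24010 F187631) (tt N25709 (iv F191866)) (tt N25765 D41692) (tt N24094 F187632))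
theorem Q24701 : ∀ i, i < 24701 → P i := stepQ 24700 Q24700 (allL N24700 (tt N24192 F187633) (tt N23998 F187634) (tt N23587 F187635) (tt N23710 F187636) (tt N24700 F187637) (tt N25766 D41693) (tt N23585 F187638) (tt N23642 F187639) (tt N23584 (iv D40627)) (tt N23641 F187640))
theorem Q24702 : ∀ i, i < 24702 → P i := stepQ 24701 Q24701 (allL N24701 (tt N25761 (iv F192109)) (tt N23590 F187641) (tt N25764 (iv F192123)) (tt N25394 (iv F190078)) (tt N23586 (iv D40628)) (tt N24701 F187642) (tt N24234 F187643) (tt N25710 (iv F191870)) (tt N25767 D41694) (tt N24233 F187644))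
theorem Q24703 : ∀ i, i < 24703 → P i := stepQ 24702 Q24702 (allL N24702 (tt N25762 (iv F192114)) (tt N23591 F187645) (tt N25765 (iv F192128)) (tt N23588 F187646) (tt N25767 (iv F192139)) (tt N25768 D41695) (tt N24236 F187647) (tt N25711 (iv F191874)) (tt N23586 (iv D40629)) (tt N25769 D41696))
theorem Q24704 : ∀ i, i < 24704 → P i := stepQ 24703 Q24703 (allL N24703 (tt N25678 (iv F191674)) (tt N23592 F187648) (tt N25766 (iv F192133)) (tt N23589 F187649) (tt N25770 D41697) (tt N23587 (iv D40630)) (tt N23825 F187650) (tt N25712 (iv F191880)) (tt N25768 (iv F192144)) (tt N23824 F187651))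
theorem Q24705 : ∀ i, i < 24705 → P i := stepQ 24704 Q24704 (allL N24704 (tt N25679 (iv F191681)) (tt N23593 F187652) (tt N23716 F187653) (tt N25768 (iv F192142)) (tt N25682 (iv F191703)) (tt N23588 (iv D40631)) (tt N25687 (iv F191740)) (tt N25713 (iv F191886)) (tt N23589 F187654) (tt N25771 D41698))
theorem Q24706 : ∀ i, i < 24706 → P i := stepQ 24705 Q24705 (allL N24705 (tt N25763 (iv F192117)) (tt N23594 F187655) (tt N23717 F187656) (tt N25769 (iv F192146)) (tt N25703 (iv F191825)) (tt N25771 (iv F192155)) (tt N24239 F187657) (tt N25714 (iv F191891)) (tt N24238 F187658) (tt N23588 (iv D40632)))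
theorem Q24707 : ∀ i, i < 24707 → P i := stepQ 24706 Q24706 (allL N24706 (tt N25701 (iv F191818)) (tt N25767 (iv F192138)) (tt N25474 (iv F190562)) (tt N25738 (iv F192018)) (tt N23591 F187659) (tt N25772 D41699) (tt N25344 (iv F189771)) (tt N25715 (iv F191894)) (tt N23590 (iv D40633)) (tt N25773 D41700))
theorem Q24708 : ∀ i, i < 24708 → P i := stepQ 24707 Q24707 (allL N24707 (tt N25397 (iv F190096)) (tt N25768 (iv F192141)) (tt N25475 (iv F190568)) (tt N23593 F187660) (tt N25774 D41701) (tt N23591 (iv D40634)) (tt N23879 F187661) (tt N25716 (iv F191896)) (tt N23592 F187662) (tt N25775 D41702))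
theorem Q24709 : ∀ i, i < 24709 → P i := stepQ 24708 Q24708 (allL N24708 (tt N25702 (iv F191820)) (tt N25769 (iv F192145)) (tt N25476 (iv F190573)) (tt N23594 F187663) (tt N25773 (iv F192157)) (tt N25775 (iv F192161)) (tt N25345 (iv F189777)) (tt N25717 (iv F191900)) (tt N25745 (iv F192046)) (tt N23591 (iv D40635)))
theorem Q24710 : ∀ i, i < 24710 → P i := stepQ 24709 Q24709 (allL N24709 (tt N25394 (iv F190075)) (tt N25770 (iv F192149)) (tt N25477 (iv F190578)) (tt N25761 (iv F192110)) (tt N23592 (iv D40636)) (tt N24709 F187664) (tt N23877 F187665) (tt N25718 (iv F191903)) (tt N25774 (iv F192159)) (tt N23876 F187666))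
theorem Q24711 : ∀ i, i < 24711 → P i := stepQ 24710 Q24710 (allL N24710 (tt N24129 F187667) (tt N25687 (iv F191735)) (tt N23598 F187668) (tt N23879 F187669) (tt N23732 F187670) (tt N25343 (iv F189763)) (tt N23593 (iv D40637)) (tt N23807 (iv F187672)) (tt N23595 F187671) (tt N25776 D41703))
theorem Q24712 : ∀ i, i < 24712 → P i := stepQ 24711 Q24711 (allL N24711 (tt N25703 (iv F191822)) (tt N25771 (iv F192153)) (tt N23599 F187673) (tt N25775 (iv F192160)) (tt N25763 (iv F192119)) (tt N23594 F187674) (tt N25776 (iv F192168)) (tt N25720 (iv F191913)) (tt N25777 D41704) (tt N23593 (iv D40638)))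
theorem Q24713 : ∀ i, i < 24713 → P i := stepQ 24712 Q24712 (allL N24712 (tt N23827 F187675) (tt N25684 (iv F191714)) (tt N23601 F187676) (tt N23874 F187677) (tt N23729 F187678) (tt N25694 (iv F191784)) (tt N23728 F187679) (tt N25721 (iv F191919)) (tt N23596 (iv D40639)) (tt N25777 (iv F192176)))
theorem Q24714 : ∀ i, i < 24714 → P i := stepQ 24713 Q24713 (allL N24713 (tt N23717 F187680) (tt N23734 F187681) (tt N25763 (iv F192118)) (tt N25663 (iv F191580)) (tt N23599 F187682) (tt N25740 (iv F192027)) (tt N23737 F187683) (tt N25723 (iv F191930)) (tt N23736 F187684) (tt N23597 (iv D40640)))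
theorem Q24715 : ∀ i, i < 24715 → P i := stepQ 24714 Q24714 (allL N24714 (tt N24176 F187685) (tt N23735 F187686) (tt N23807 F187687) (tt N25489 (iv F190648)) (tt N23665 F187688) (tt N25350 (iv F189807)) (tt N25724 (iv F191936)) (tt N23598 (iv D40641)) (tt N23600 F187689) (tt N25778 D41705))
theorem Q24716 : ∀ i, i < 24716 → P i := stepQ 24715 Q24715 (allL N24715 (tt N24207 F187690) (tt N23736 F187691) (tt N25776 (iv F192165)) (tt N25490 (iv F190654)) (tt N23737 F187692) (tt N25351 (iv F189813)) (tt N23599 F187693) (tt N25778 (iv F192181)) (tt N23734 F187694) (tt N23598 (iv D40642)))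
theorem Q24717 : ∀ i, i < 24717 → P i := stepQ 24716 Q24716 (allL N24716 (tt N23884 F187695) (tt N23737 F187696) (tt N25777 (iv F192172)) (tt N25491 (iv F190660)) (tt N23736 F187697) (tt N25756 (iv F192091)) (tt N23734 F187698) (tt N25726 (iv F191943)) (tt N23599 (iv D40643)) (tt N23601 F187699))
theorem Q24718 : ∀ i, i < 24718 → P i := stepQ 24717 Q24717 (allL N24717 (tt N25573 (iv F191128)) (tt N23607 F187700) (tt N25575 (iv F191140)) (tt N23604 F187701) (tt N25779 D41706) (tt N23603 (iv D40644)) (tt N23646 F187702) (tt N24031 F187703) (tt N25780 D41707) (tt N24030 F187704))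
theorem Q24719 : ∀ i, i < 24719 → P i := stepQ 24718 Q24718 (allL N24718 (tt N25722 (iv F191920)) (tt N23609 F187705) (tt N25522 (iv F190842)) (tt N25780 (iv F192190)) (tt N25446 (iv F190383)) (tt N25781 D41708) (tt N23648 F187706) (tt N24204 F187707) (tt N23604 (iv D40645)) (tt N25782 D41709))
theorem Q24720 : ∀ i, i < 24720 → P i := stepQ 24719 Q24719 (allL N24719 (tt N24089 F187708) (tt N23610 F187709) (tt N25523 (iv F190848)) (tt N25561 (iv F191081)) (tt N25783 D41710) (tt N23605 (iv D40646)) (tt N24083 F187710) (tt N24205 F187711) (tt N25781 (iv F192197)) (tt N25553 (iv F191042)))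
theorem Q24721 : ∀ i, i < 24721 → P i := stepQ 24720 Q24720 (allL N24720 (tt N24114 F187712) (tt N23612 F187713) (tt N23928 F187714) (tt N23945 (iv F187719)) (tt N23606 (iv D40647)) (tt N25783 (iv F192205)) (tt N23757 F187715) (tt N24261 F187716) (tt N23990 F187717) (tt N23926 F187718))
theorem Q24722 : ∀ i, i < 24722 → P i := stepQ 24721 Q24721 (allL N24721 (tt N24150 F187720) (tt N25779 (iv F192183)) (tt N25496 (iv F190688)) (tt N25447 (iv F190390)) (tt N23607 (iv D40648)) (tt N24721 F187721) (tt N23651 F187722) (tt N25355 (iv F189842)) (tt N25784 D41711) (tt N25452 (iv F190432)))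
theorem Q24723 : ∀ i, i < 24723 → P i := stepQ 24722 Q24722 (allL N24722 (tt N24151 F187723) (tt N25780 (iv F192189)) (tt N25497 (iv F190696)) (tt N23609 F187724) (tt N25784 (iv F192211)) (tt N25785 D41712) (tt N23652 F187725) (tt N25356 (iv F189849)) (tt N23607 (iv D40649)) (tt N25786 D41713))
theorem Q24724 : ∀ i, i < 24724 → P i := stepQ 24723 Q24723 (allL N24723 (tt N24152 F187726) (tt N25561 (iv F191079)) (tt N25498 (iv F190702)) (tt N23610 F187727) (tt N25787 D41714) (tt N23608 (iv D40650)) (tt N25548 (iv F191012)) (tt N25357 (iv F189855)) (tt N25785 (iv F192215)) (tt N25547 F191006))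
theorem Q24725 : ∀ i, i < 24725 → P i := stepQ 24724 Q24724 (allL N24724 (tt N24154 F187728) (tt N25781 (iv F192194)) (tt N23614 F187729) (tt N25785 (iv F192214)) (tt N25788 D41715) (tt N23609 (iv D40651)) (tt N25625 (iv F191406)) (tt N25358 (iv F189860)) (tt N23610 F187730) (tt N25789 D41716))
theorem Q24726 : ∀ i, i < 24726 → P i := stepQ 24725 Q24725 (allL N24725 (tt N24155 F187731) (tt N25782 (iv F192198)) (tt N23615 F187732) (tt N25786 (iv F192217)) (tt N25449 (iv F190404)) (tt N25789 (iv F192228)) (tt N23656 F187733) (tt N25359 (iv F189867)) (tt N25456 (iv F190457)) (tt N23609 (iv D40652)))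
theorem Q24727 : ∀ i, i < 24727 → P i := stepQ 24726 Q24726 (allL N24726 (tt N24156 F187734) (tt N25783 (iv F192203)) (tt N23616 F187735) (tt N25790 D41717) (tt N23610 (iv D40653)) (tt N23612 F187736) (tt N24117 F187737) (tt N25360 (iv F189873)) (tt N25788 (iv F192225)) (tt N25791 D41718))
theorem Q24728 : ∀ i, i < 24728 → P i := stepQ 24727 Q24727 (allL N24727 (tt N24157 F187738) (tt N25553 (iv F191037)) (tt N23618 F187739) (tt N25547 (iv F191003)) (tt N25791 (iv F192236)) (tt N23611 F187740) (tt N25543 (iv F190984)) (tt N25362 (iv F189887)) (tt N25792 D41719) (tt N23610 (iv D40654)))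
theorem Q24729 : ∀ i, i < 24729 → P i := stepQ 24728 Q24728 (allL N24728 (tt N24158 F187741) (tt N23945 F187742) (tt N25793 D41720) (tt N23612 (iv D40655)) (tt N24728 F187743) (tt N25790 (iv F192231)) (tt N23777 F187744) (tt N25363 (iv F189892)) (tt N24112 F187745) (tt N25794 D41721))
theorem Q24730 : ∀ i, i < 24730 → P i := stepQ 24729 Q24729 (allL N24729 (tt N24159 F187746) (tt N23926 F187747) (tt N23622 F187748) (tt N25794 (iv F192248)) (tt N23613 F187749) (tt N25791 (iv F192237)) (tt N23778 F187750) (tt N25364 (iv F189899)) (tt N25795 D41722) (tt N23612 (iv D40656)))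
theorem Q24731 : ∀ i, i < 24731 → P i := stepQ 24730 Q24730 (allL N24730 (tt N24160 F187751) (tt N23930 F187752) (tt N23623 F187753) (tt N24730 F187754) (tt N25795 (iv F192254)) (tt N25462 (iv F190493)) (tt N23779 F187755) (tt N25365 (iv F189906)) (tt N23613 (iv D40657)) (tt N23938 F187756))
theorem Q24732 : ∀ i, i < 24732 → P i := stepQ 24731 Q24731 (allL N24731 (tt N24161 F187757) (tt N25530 (iv F190895)) (tt N25788 (iv F192222)) (tt N25796 D41723) (tt N23614 (iv D40658)) (tt N25450 (iv F190413)) (tt N25797 D41724) (tt N25366 (iv F189911)) (tt N23616 F187758) (tt N25798 D41725))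
theorem Q24733 : ∀ i, i < 24733 → P i := stepQ 24732 Q24732 (allL N24732 (tt N24162 F187759) (tt N25531 (iv F190901)) (tt N25625 (iv F191404)) (tt N25506 (iv F190751)) (tt N25797 (iv F192263)) (tt N23659 F187760) (tt N23614 (iv D40659)) (tt N25799 D41726) (tt N23617 F187761) (tt N25800 D41727))
theorem Q24734 : ∀ i, i < 24734 → P i := stepQ 24733 Q24733 (allL N24733 (tt N24163 F187762) (tt N25532 (iv F190906)) (tt N25789 (iv F192227)) (tt N25507 (iv F190756)) (tt N25798 (iv F192267)) (tt N23615 F187763) (tt N25800 (iv F192273)) (tt N25368 (iv F189922)) (tt N25801 D41728) (tt N23614 (iv D40660)))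
theorem Q24735 : ∀ i, i < 24735 → P i := stepQ 24734 Q24734 (allL N24734 (tt N24164 F187764) (tt N23751 F187765) (tt N25802 D41729) (tt N23616 (iv D40661)) (tt N25508 (iv F190761)) (tt N23621 F187766) (tt N25803 D41730) (tt N25369 (iv F189927)) (tt N25796 (iv F192260)) (tt N25804 D41731))
theorem Q24736 : ∀ i, i < 24736 → P i := stepQ 24735 Q24735 (allL N24735 (tt N24165 F187767) (tt N25533 (iv F190911)) (tt N24117 F187768) (tt N25803 (iv F192280)) (tt N23617 F187769) (tt N23780 F187770) (tt N23616 (iv D40662)) (tt N25805 D41732) (tt N25797 (iv F192265)) (tt N25806 D41733))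
theorem Q24737 : ∀ i, i < 24737 → P i := stepQ 24736 Q24736 (allL N24736 (tt N24166 F187771) (tt N25534 (iv F190918)) (tt N25791 (iv F192235)) (tt N25804 (iv F192284)) (tt N23618 F187772) (tt N23622 F187773) (tt N25806 (iv F192295)) (tt N25371 (iv F189936)) (tt N25807 D41734) (tt N23616 (iv D40663)))
theorem Q24738 : ∀ i, i < 24738 → P i := stepQ 24737 Q24737 (allL N24737 (tt N24167 F187774) (tt N25535 (iv F190926)) (tt N25540 (iv F190962)) (tt N25510 (iv F190771)) (tt N25805 (iv F192288)) (tt N23619 F187775) (tt N25372 (iv F189942)) (tt N23617 (iv D40664)) (tt N25799 (iv F192270)) (tt N25628 (iv F191423)))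
theorem Q24739 : ∀ i, i < 24739 → P i := stepQ 24738 Q24738 (allL N24738 (tt N24168 F187776) (tt N25536 (iv F190933)) (tt N25543 (iv F190981)) (tt N25511 (iv F190778)) (tt N25806 (iv F192293)) (tt N23620 F187777) (tt N23618 F187778) (tt N25628 (iv F191422)) (tt N25808 D41735) (tt N23617 (iv D40665)))
theorem Q24740 : ∀ i, i < 24740 → P i := stepQ 24739 Q24739 (allL N24739 (tt N24169 F187779) (tt N25537 (iv F190941)) (tt N25792 (iv F192240)) (tt N25512 (iv F190784)) (tt N25807 (iv F192297)) (tt N25471 (iv F190545)) (tt N25808 (iv F192299)) (tt N25374 (iv F189955)) (tt N23618 (iv D40666)) (tt N25801 (iv F192275)))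
theorem Q24741 : ∀ i, i < 24741 → P i := stepQ 24740 Q24740 (allL N24740 (tt N24172 F187780) (tt N25436 (iv F190317)) (tt N23621 (iv D40667)) (tt N25793 (iv F192242)) (tt N23624 F187781) (tt N25802 (iv F192277)) (tt N23759 F187782) (tt N25375 (iv F189959)) (tt N23746 F187783) (tt N25760 (iv F192108)))
theorem Q24742 : ∀ i, i < 24742 → P i := stepQ 24741 Q24741 (allL N24741 (tt N24173 F187784) (tt N23708 F187785) (tt N25760 (iv F192104)) (tt N23622 F187786) (tt N23625 F187787) (tt N25804 (iv F192285)) (tt N23762 F187788) (tt N25376 (iv F189966)) (tt N23918 F187789) (tt N23621 (iv D40668)))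
theorem Q24743 : ∀ i, i < 24743 → P i := stepQ 24742 Q24742 (allL N24742 (tt N24174 F187790) (tt N23903 F187791) (tt N25795 (iv F192253)) (tt N23918 F187792) (tt N23623 F187793) (tt N25809 D41736) (tt N23784 F187794) (tt N25377 (iv F189973)) (tt N23622 (iv D40669)) (tt N23939 F187795))
theorem Q24744 : ∀ i, i < 24744 → P i := stepQ 24743 Q24743 (allL N24743 (tt N24124 F187796) (tt N25677 (iv F191668)) (tt N23628 F187797) (tt N25583 (iv F191194)) (tt N23656 F187798) (tt N23796 F187799) (tt N25449 (iv F190406)) (tt N23682 F187800) (tt N23868 F187801) (tt N23626 (iv D40670)))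
theorem Q24745 : ∀ i, i < 24745 → P i := stepQ 24744 Q24744 (allL N24744 (tt N24123 F187802) (tt N25707 (iv F191849)) (tt N23796 F187803) (tt N25341 (iv F189747)) (tt N23802 F187804) (tt N23628 F187805) (tt N24045 F187806) (tt N23685 F187807) (tt N25577 (iv F191159)) (tt N23627 (iv D40671)))
theorem Q24746 : ∀ i, i < 24746 → P i := stepQ 24745 Q24745 (allL N24745 (tt N24177 F187808) (tt N24110 F187809) (tt N25524 (iv F190855)) (tt N23865 F187810) (tt N23629 (iv D40672)) (tt N23738 F187811) (tt N25452 (iv F190430)) (tt N23688 F187812) (tt N25810 D41737) (tt N23651 F187813))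
theorem Q24747 : ∀ i, i < 24747 → P i := stepQ 24746 Q24746 (allL N24746 (tt N24178 F187814) (tt N24107 F187815) (tt N25525 (iv F190862)) (tt N23631 F187816) (tt N25810 (iv F192307)) (tt N25811 D41738) (tt N25453 (iv F190437)) (tt N23689 F187817) (tt N23629 (iv D40673)) (tt N25812 D41739))
theorem Q24748 : ∀ i, i < 24748 → P i := stepQ 24747 Q24747 (allL N24747 (tt N23967 F187818) (tt N23805 F187819) (tt N24057 F187820) (tt N23632 F187821) (tt N24007 F187822) (tt N23630 (iv D40674)) (tt N25686 (iv F191732)) (tt N23690 F187823) (tt N25811 (iv F192314)) (tt N23979 F187824))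
theorem Q24749 : ∀ i, i < 24749 → P i := stepQ 24748 Q24748 (allL N24748 (tt N24179 F187825) (tt N23907 F187826) (tt N23636 F187827) (tt N25811 (iv F192312)) (tt N25813 D41740) (tt N23631 (iv D40675)) (tt N25814 D41741) (tt N23692 F187828) (tt N23632 F187829) (tt N25815 D41742))
theorem Q24750 : ∀ i, i < 24750 → P i := stepQ 24749 Q24749 (allL N24749 (tt N24180 F187830) (tt N24240 F187831) (tt N23637 F187832) (tt N25812 (iv F192318)) (tt N23868 F187833) (tt N25815 (iv F192335)) (tt N25456 (iv F190455)) (tt N23693 F187834) (tt N23656 F187835) (tt N23631 (iv D40676)))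
theorem Q24751 : ∀ i, i < 24751 → P i := stepQ 24750 Q24750 (allL N24750 (tt N24181 F187836) (tt N23913 F187837) (tt N23638 F187838) (tt N25604 (iv F191304)) (tt N23632 (iv D40677)) (tt N23635 F187839) (tt N25816 D41743) (tt N23694 F187840) (tt N25813 (iv F192326)) (tt N25602 F191296))
theorem Q24752 : ∀ i, i < 24752 → P i := stepQ 24751 Q24751 (allL N24751 (tt N24182 F187841) (tt N23878 F187842) (tt N23639 F187843) (tt N25686 (iv F191729)) (tt N25816 (iv F192340)) (tt N23634 F187844) (tt N23632 (iv D40678)) (tt N23824 F187845) (tt N25814 (iv F192331)) (tt N25712 (iv F191881)))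
theorem Q24753 : ∀ i, i < 24753 → P i := stepQ 24752 Q24752 (allL N24752 (tt N23980 F187846) (tt N23916 F187847) (tt N23640 F187848) (tt N23979 F187849) (tt N25602 (iv F191292)) (tt N23633 F187850) (tt N25712 (iv F191879)) (tt N23695 F187851) (tt N25817 D41744) (tt N23632 (iv D40679)))
theorem Q24754 : ∀ i, i < 24754 → P i := stepQ 24753 Q24753 (allL N24753 (tt N24183 F187852) (tt N25505 (iv F190745)) (tt N25813 (iv F192323)) (tt N25818 D41745) (tt N23636 (iv D40680)) (tt N23873 F187853) (tt N25819 D41746) (tt N23698 F187854) (tt N23638 F187855) (tt N25820 D41747))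
theorem Q24755 : ∀ i, i < 24755 → P i := stepQ 24754 Q24754 (allL N24754 (tt N24184 F187856) (tt N25506 (iv F190750)) (tt N25814 (iv F192329)) (tt N25531 (iv F190902)) (tt N25819 (iv F192355)) (tt N25464 (iv F190505)) (tt N23636 (iv D40681)) (tt N25821 D41748) (tt N23639 F187857) (tt N25822 D41749))
theorem Q24756 : ∀ i, i < 24756 → P i := stepQ 24755 Q24755 (allL N24755 (tt N24185 F187858) (tt N25507 (iv F190755)) (tt N25815 (iv F192334)) (tt N25532 (iv F190907)) (tt N25820 (iv F192358)) (tt N23637 F187859) (tt N25822 (iv F192366)) (tt N23700 F187860) (tt N25823 D41750) (tt N23636 (iv D40682)))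
theorem Q24757 : ∀ i, i < 24757 → P i := stepQ 24756 Q24756 (allL N24756 (tt N24186 F187861) (tt N25508 (iv F190760)) (tt N25616 (iv F191360)) (tt N23638 (iv D40683)) (tt N23751 F187862) (tt N23643 F187863) (tt N25824 D41751) (tt N23701 F187864) (tt N25818 (iv F192353)) (tt N25614 F191354))
theorem Q24758 : ∀ i, i < 24758 → P i := stepQ 24757 Q24757 (allL N24757 (tt N24187 F187865) (tt N25509 (iv F190765)) (tt N25816 (iv F192339)) (tt N25824 (iv F192372)) (tt N23639 F187866) (tt N24757 F187867) (tt N23638 (iv D40684)) (tt N25825 D41752) (tt N25819 (iv F192356)) (tt N25826 D41753))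
theorem Q24759 : ∀ i, i < 24759 → P i := stepQ 24758 Q24758 (allL N24758 (tt N24188 F187868) (tt N25439 (iv F190335)) (tt N25602 F191295) (tt N25614 (iv F191350)) (tt N23640 F187869) (tt N23644 F187870) (tt N25826 (iv F192383)) (tt N23703 F187871) (tt N25827 D41754) (tt N23638 (iv D40685)))
theorem Q24760 : ∀ i, i < 24760 → P i := stepQ 24759 Q24759 (allL N24759 (tt N24189 F187872) (tt N25510 (iv F190769)) (tt N23824 F187873) (tt N25535 (iv F190928)) (tt N25825 (iv F192377)) (tt N23641 F187874) (tt N23704 F187875) (tt N23639 (iv D40686)) (tt N25821 (iv F192364)) (tt N25766 (iv F192137)))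
theorem Q24761 : ∀ i, i < 24761 → P i := stepQ 24760 Q24760 (allL N24760 (tt N24190 F187876) (tt N25511 (iv F190776)) (tt N25712 (iv F191877)) (tt N25536 (iv F190935)) (tt N25826 (iv F192381)) (tt N23642 F187877) (tt N23640 F187878) (tt N25766 (iv F192136)) (tt N25828 D41755) (tt N23639 (iv D40687)))
theorem Q24762 : ∀ i, i < 24762 → P i := stepQ 24761 Q24761 (allL N24761 (tt N24191 F187879) (tt N25512 (iv F190783)) (tt N25817 (iv F192345)) (tt N25537 (iv F190943)) (tt N25827 (iv F192385)) (tt N23665 F187880) (tt N25828 (iv F192388)) (tt N23706 F187881) (tt N23640 (iv D40688)) (tt N25823 (iv F192370)))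
theorem Q24763 : ∀ i, i < 24763 → P i := stepQ 24762 Q24762 (allL N24762 (tt N25655 (iv F191545)) (tt N25541 (iv F190969)) (tt N23646 F187882) (tt N25709 (iv F191864)) (tt N25829 D41756) (tt N23645 (iv D40689)) (tt N25575 (iv F191142)) (tt N23709 F187883) (tt N25830 D41757) (tt N24102 F187884))
theorem Q24764 : ∀ i, i < 24764 → P i := stepQ 24763 Q24763 (allL N24763 (tt N25466 (iv F190512)) (tt N23651 F187885) (tt N25829 (iv F192389)) (tt N24146 F187886) (tt N23646 (iv D40690)) (tt N23741 F187887) (tt N25779 (iv F192186)) (tt N23711 F187888) (tt N25831 D41758) (tt N24110 F187889))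
theorem Q24765 : ∀ i, i < 24765 → P i := stepQ 24764 Q24764 (allL N24764 (tt N25664 (iv F191583)) (tt N23652 F187890) (tt N25830 (iv F192393)) (tt N23648 F187891) (tt N25831 (iv F192397)) (tt N25832 D41759) (tt N25780 (iv F192191)) (tt N23712 F187892) (tt N23646 (iv D40691)) (tt N25833 D41760))
theorem Q24766 : ∀ i, i < 24766 → P i := stepQ 24765 Q24765 (allL N24765 (tt N23798 F187893) (tt N23653 F187894) (tt N25536 (iv F190934)) (tt N23649 F187895) (tt N23833 F187896) (tt N23647 (iv D40692)) (tt N24081 F187897) (tt N23713 F187898) (tt N25832 (iv F192403)) (tt N25529 (iv F190892)))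
theorem Q24767 : ∀ i, i < 24767 → P i := stepQ 24766 Q24766 (allL N24766 (tt N23799 F187899) (tt N23655 F187900) (tt N25713 (iv F191884)) (tt N25832 (iv F192401)) (tt N23792 F187901) (tt N23648 (iv D40693)) (tt N24082 (iv F187904)) (tt N23716 F187902) (tt N23649 F187903) (tt N25834 D41761))
theorem Q24768 : ∀ i, i < 24768 → P i := stepQ 24767 Q24767 (allL N24767 (tt N25723 (iv F191926)) (tt N23656 F187905) (tt N25714 (iv F191890)) (tt N25833 (iv F192407)) (tt N25677 (iv F191670)) (tt N25834 (iv F192413)) (tt N25782 (iv F192199)) (tt N23717 F187906) (tt N24240 F187907) (tt N23648 (iv D40694)))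
theorem Q24769 : ∀ i, i < 24769 → P i := stepQ 24768 Q24768 (allL N24768 (tt N23668 F187908) (tt N23657 F187909) (tt N25686 (iv F191728)) (tt N25529 (iv F190889)) (tt N23794 F187910) (tt N23650 F187911) (tt N24057 F187912) (tt N23719 F187913) (tt N25835 D41762) (tt N23649 (iv D40695)))
theorem Q24770 : ∀ i, i < 24770 → P i := stepQ 24769 Q24769 (allL N24769 (tt N24196 F187914) (tt N25831 (iv F192395)) (tt N25550 (iv F191023)) (tt N25582 (iv F191188)) (tt N23652 F187915) (tt N25608 (iv F191329)) (tt N25784 (iv F192212)) (tt N23721 F187916) (tt N23651 (iv D40696)) (tt N25836 D41763))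
theorem Q24771 : ∀ i, i < 24771 → P i := stepQ 24770 Q24770 (allL N24770 (tt N24197 F187917) (tt N25832 (iv F192400)) (tt N25551 (iv F191027)) (tt N23655 F187918) (tt N23904 (iv F187921)) (tt N23652 (iv D40697)) (tt N25624 (iv F191401)) (tt N23722 F187919) (tt N23653 F187920) (tt N25837 D41764))
theorem Q24772 : ∀ i, i < 24772 → P i := stepQ 24771 Q24771 (allL N24771 (tt N24198 F187922) (tt N25833 (iv F192406)) (tt N25552 (iv F191033)) (tt N23656 F187923) (tt N25836 (iv F192423)) (tt N25837 (iv F192428)) (tt N25786 (iv F192218)) (tt N23723 F187924) (tt N25812 (iv F192320)) (tt N23652 (iv D40698)))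
theorem Q24773 : ∀ i, i < 24773 → P i := stepQ 24772 Q24772 (allL N24772 (tt N23982 F187925) (tt N25529 (iv F190887)) (tt N24083 F187926) (tt N23657 F187927) (tt N23912 F187928) (tt N23654 F187929) (tt N25523 (iv F190851)) (tt N23726 F187930) (tt N25838 D41765) (tt N23653 (iv D40699)))
theorem Q24774 : ∀ i, i < 24774 → P i := stepQ 24773 Q24773 (allL N24773 (tt N24199 F187931) (tt N25834 (iv F192411)) (tt N23660 F187932) (tt N25837 (iv F192426)) (tt N23804 F187933) (tt N23656 F187934) (tt N25626 (iv F191412)) (tt N23730 F187935) (tt N25839 D41766) (tt N23655 (iv D40700)))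
theorem Q24775 : ∀ i, i < 24775 → P i := stepQ 24774 Q24774 (allL N24774 (tt N24200 F187936) (tt N25835 (iv F192417)) (tt N23665 F187937) (tt N25838 (iv F192432)) (tt N23807 F187938) (tt N25817 (iv F192347)) (tt N25590 (iv F191236)) (tt N23732 F187939) (tt N23657 (iv D40701)) (tt N25839 (iv F192440)))
theorem Q24776 : ∀ i, i < 24776 → P i := stepQ 24775 Q24775 (allL N24775 (tt N24194 F187940) (tt N25664 (iv F191584)) (tt N23888 F187941) (tt N23658 (iv D40702)) (tt N25563 (iv F191091)) (tt N23801 F187942) (tt N25840 D41767) (tt N23733 F187943) (tt N23661 F187944) (tt N25841 D41768))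
theorem Q24777 : ∀ i, i < 24777 → P i := stepQ 24776 Q24776 (allL N24776 (tt N24149 F187945) (tt N25722 (iv F191921)) (tt N23803 F187946) (tt N25840 (iv F192443)) (tt N23659 F187947) (tt N24097 F187948) (tt N23658 (iv D40703)) (tt N25727 (iv F191951)) (tt N23662 F187949) (tt N25842 D41769))
theorem Q24778 : ∀ i, i < 24778 → P i := stepQ 24777 Q24777 (allL N24777 (tt N24195 F187950) (tt N25723 (iv F191927)) (tt N23804 F187951) (tt N25841 (iv F192448)) (tt N23660 F187952) (tt N23802 F187953) (tt N25842 (iv F192455)) (tt N23734 F187954) (tt N25778 (iv F192182)) (tt N23658 (iv D40704)))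
theorem Q24779 : ∀ i, i < 24779 → P i := stepQ 24778 Q24778 (allL N24778 (tt N24201 F187955) (tt N25724 (iv F191933)) (tt N25539 (iv F190956)) (tt N25566 (iv F191102)) (tt N25727 (iv F191948)) (tt N25799 (iv F192269)) (tt N23735 F187956) (tt N23659 (iv D40705)) (tt N23663 F187957) (tt N25843 D41770))
theorem Q24780 : ∀ i, i < 24780 → P i := stepQ 24779 Q24779 (allL N24779 (tt N24202 F187958) (tt N25725 (iv F191938)) (tt N25626 (iv F191410)) (tt N25567 (iv F191106)) (tt N25842 (iv F192453)) (tt N25800 (iv F192272)) (tt N23660 F187959) (tt N25843 (iv F192458)) (tt N25844 D41771) (tt N23659 (iv D40706)))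
theorem Q24781 : ∀ i, i < 24781 → P i := stepQ 24780 Q24780 (allL N24780 (tt N24203 F187960) (tt N25726 (iv F191941)) (tt N25839 (iv F192437)) (tt N25568 (iv F191109)) (tt N25778 (iv F192180)) (tt N25823 (iv F192368)) (tt N25844 (iv F192460)) (tt N23737 F187961) (tt N23660 (iv D40707)) (tt N23665 F187962))
theorem Q24782 : ∀ i, i < 24782 → P i := stepQ 24781 Q24781 (allL N24781 (tt N24148 F187963) (tt N25573 (iv F191129)) (tt N23891 F187964) (tt N23662 F187965) (tt N25569 (iv F191115)) (tt N23785 F187966) (tt N23661 (iv D40708)) (tt N25470 (iv F190541)) (tt N25840 (iv F192445)) (tt N25469 F190534))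
theorem Q24783 : ∀ i, i < 24783 → P i := stepQ 24782 Q24782 (allL N24782 (tt N24204 F187967) (tt N25727 (iv F191946)) (tt N25590 (iv F191234)) (tt N25574 (iv F191136)) (tt N25724 (iv F191935)) (tt N25845 D41772) (tt N23665 F187968) (tt N25722 (iv F191924)) (tt N23664 (iv D40709)) (tt N25844 (iv F192461)))
theorem Q24784 : ∀ i, i < 24784 → P i := stepQ 24783 Q24783 (allL N24783 (tt N24205 F187969) (tt N24102 F187970) (tt N25521 (iv F190836)) (tt N25575 (iv F191141)) (tt N25846 D41773) (tt N23666 (iv D40710)) (tt N25709 (iv F191865)) (tt N24089 F187971) (tt N25845 (iv F192465)) (tt N25541 (iv F190974)))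
theorem Q24785 : ∀ i, i < 24785 → P i := stepQ 24784 Q24784 (allL N24784 (tt N25529 (iv F190886)) (tt N23669 F187972) (tt N23963 F187973) (tt N23668 F187974) (tt N25847 D41774) (tt N23667 (iv D40711)) (tt N23958 F187975) (tt N25333 (iv F189693)) (tt N25848 D41775) (tt N23798 F187976))
theorem Q24786 : ∀ i, i < 24786 → P i := stepQ 24785 Q24785 (allL N24785 (tt N25835 (iv F192416)) (tt N23670 F187977) (tt N25728 (iv F191953)) (tt N25848 (iv F192479)) (tt N25576 (iv F191149)) (tt N25429 (iv F190275)) (tt N24058 F187978) (tt N25335 (iv F189709)) (tt N23668 (iv D40712)) (tt N25849 D41776))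
theorem Q24787 : ∀ i, i < 24787 → P i := stepQ 24786 Q24786 (allL N24786 (tt N23987 F187979) (tt N25847 (iv F192471)) (tt N23680 F187980) (tt N25342 (iv F189754)) (tt N23669 (iv D40713)) (tt N23744 F187981) (tt N24060 F187982) (tt N25336 (iv F189715)) (tt N25850 D41777) (tt N23800 F187983))
theorem Q24788 : ∀ i, i < 24788 → P i := stepQ 24787 Q24787 (allL N24787 (tt N23985 F187984) (tt N25848 (iv F192477)) (tt N23681 F187985) (tt N23670 F187986) (tt N25850 (iv F192487)) (tt N23947 F187987) (tt N24061 F187988) (tt N25337 (iv F189722)) (tt N23669 (iv D40714)) (tt N25851 D41778))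
theorem Q24789 : ∀ i, i < 24789 → P i := stepQ 24788 Q24788 (allL N24788 (tt N23984 F187989) (tt N25429 (iv F190272)) (tt N23673 F187990) (tt N23947 F187991) (tt N25852 D41779) (tt N23670 (iv D40715)) (tt N25705 (iv F191840)) (tt N25338 (iv F189729)) (tt N23671 F187992) (tt N25853 D41780))
theorem Q24790 : ∀ i, i < 24790 → P i := stepQ 24789 Q24789 (allL N24789 (tt N24206 F187993) (tt N25849 (iv F192482)) (tt N23674 F187994) (tt N25851 (iv F192491)) (tt N25577 (iv F191155)) (tt N25853 (iv F192503)) (tt N24063 F187995) (tt N25339 (iv F189735)) (tt N23802 F187996) (tt N23670 (iv D40716)))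
theorem Q24791 : ∀ i, i < 24791 → P i := stepQ 24790 Q24790 (allL N24790 (tt N23983 F187997) (tt N25427 (iv F190260)) (tt N23675 F187998) (tt N25524 (iv F190856)) (tt N23671 (iv D40717)) (tt N23672 F187999) (tt N25704 (iv F191833)) (tt N23919 F188000) (tt N25852 (iv F192499)) (tt N25353 (iv F189828)))
theorem Q24792 : ∀ i, i < 24792 → P i := stepQ 24791 Q24791 (allL N24791 (tt N24139 F188001) (tt N25732 (iv F191982)) (tt N25852 (iv F192496)) (tt N25854 D41781) (tt N23673 (iv D40718)) (tt N25578 (iv F191163)) (tt N25855 D41782) (tt N25340 (iv F189743)) (tt N23675 F188002) (tt N25856 D41783))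
theorem Q24793 : ∀ i, i < 24793 → P i := stepQ 24792 Q24792 (allL N24792 (tt N23829 F188003) (tt N25733 (iv F191988)) (tt N25705 (iv F191837)) (tt N23684 F188004) (tt N25855 (iv F192510)) (tt N24069 F188005) (tt N23673 (iv D40719)) (tt N25730 (iv F191973)) (tt N23676 F188006) (tt N25857 D41784))
theorem Q24794 : ∀ i, i < 24794 → P i := stepQ 24793 Q24793 (allL N24793 (tt N24140 F188007) (tt N25734 (iv F191995)) (tt N25853 (iv F192501)) (tt N23685 F188008) (tt N25856 (iv F192513)) (tt N23674 F188009) (tt N25857 (iv F192517)) (tt N25341 (iv F189750)) (tt N25858 D41785) (tt N23673 (iv D40720)))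
theorem Q24795 : ∀ i, i < 24795 → P i := stepQ 24794 Q24794 (allL N24794 (tt N24125 F188010) (tt N25666 (iv F191594)) (tt N23865 (iv F188014)) (tt N23675 (iv D40721)) (tt N23686 F188011) (tt N23678 F188012) (tt N25689 (iv F191753)) (tt N23800 F188013) (tt N25854 (iv F192507)) (tt N25336 (iv F189716)))
theorem Q24796 : ∀ i, i < 24796 → P i := stepQ 24795 Q24795 (allL N24795 (tt N23828 F188015) (tt N25735 (iv F192001)) (tt N25704 (iv F191830)) (tt N25689 (iv F191751)) (tt N23676 F188016) (tt N24795 F188017) (tt N23675 (iv D40722)) (tt N25729 (iv F191965)) (tt N25855 (iv F192511)) (tt N25680 (iv F191694)))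
theorem Q24797 : ∀ i, i < 24797 → P i := stepQ 24796 Q24796 (allL N24796 (tt N24130 F188018) (tt N25736 (iv F192007)) (tt N25353 (iv F189823)) (tt N25336 (iv F189712)) (tt N23677 F188019) (tt N23679 F188020) (tt N25680 (iv F191692)) (tt N25342 (iv F189758)) (tt N25859 D41786) (tt N23675 (iv D40723)))
theorem Q24798 : ∀ i, i < 24798 → P i := stepQ 24797 Q24797 (allL N24797 (tt N24131 F188021) (tt N25737 (iv F192013)) (tt N25350 (iv F189805)) (tt N23687 F188022) (tt N25859 (iv F192523)) (tt N23807 F188023) (tt N25681 (iv F191698)) (tt N25343 (iv F189765)) (tt N23677 (iv D40724)) (tt N25858 (iv F192521)))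
theorem Q24799 : ∀ i, i < 24799 → P i := stepQ 24798 Q24798 (allL N24798 (tt N23988 F188024) (tt N25450 (iv F190410)) (tt N25850 (iv F192486)) (tt N23721 F188025) (tt N23681 F188026) (tt N25530 (iv F190896)) (tt N24208 F188027) (tt N25582 (iv F191190)) (tt N23680 (iv D40725)) (tt N25860 D41787))
theorem Q24800 : ∀ i, i < 24800 → P i := stepQ 24799 Q24799 (allL N24799 (tt N23989 F188028) (tt N25451 (iv F190418)) (tt N25851 (iv F192490)) (tt N23682 F188029) (tt N25860 (iv F192526)) (tt N23948 F188030) (tt N24209 F188031) (tt N25583 (iv F191196)) (tt N23889 F188032) (tt N23681 (iv D40726)))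
theorem Q24801 : ∀ i, i < 24801 → P i := stepQ 24800 Q24800 (allL N24800 (tt N24126 F188033) (tt N25665 (iv F191589)) (tt N23866 F188034) (tt N23683 (iv D40727)) (tt N25854 (iv F192505)) (tt N23733 F188035) (tt N25690 (iv F191759)) (tt N23801 F188036) (tt N23686 F188037) (tt N25861 D41788))
theorem Q24802 : ∀ i, i < 24802 → P i := stepQ 24801 Q24801 (allL N24801 (tt N24127 F188038) (tt N25740 (iv F192025)) (tt N23795 F188039) (tt N25861 (iv F192531)) (tt N23685 F188040) (tt N23734 F188041) (tt N25692 (iv F191771)) (tt N23802 F188042) (tt N25339 (iv F189736)) (tt N23683 (iv D40728)))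
theorem Q24803 : ∀ i, i < 24803 → P i := stepQ 24802 Q24802 (allL N24802 (tt N23830 F188043) (tt N25741 (iv F192029)) (tt N23814 F188044) (tt N25857 (iv F192515)) (tt N25692 (iv F191770)) (tt N24218 F188045) (tt N23685 F188046) (tt N25731 (iv F191979)) (tt N25683 (iv F191712)) (tt N23684 (iv D40729)))
theorem Q24804 : ∀ i, i < 24804 → P i := stepQ 24803 Q24803 (allL N24803 (tt N24132 F188047) (tt N25742 (iv F192032)) (tt N24122 F188048) (tt N25858 (iv F192519)) (tt N25339 (iv F189733)) (tt N23909 F188049) (tt N25683 (iv F191710)) (tt N25577 (iv F191158)) (tt N23685 (iv D40730)) (tt N23687 F188050))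
theorem Q24805 : ∀ i, i < 24805 → P i := stepQ 24804 Q24804 (allL N24804 (tt N24208 F188051) (tt N24105 F188052) (tt N25596 (iv F191262)) (tt N23887 F188053) (tt N23689 F188054) (tt N25862 D41789) (tt N23988 F188055) (tt N25810 (iv F192308)) (tt N23688 (iv D40731)) (tt N25863 D41790))
theorem Q24806 : ∀ i, i < 24806 → P i := stepQ 24805 Q24805 (allL N24805 (tt N24041 F188056) (tt N23803 F188057) (tt N25597 (iv F191268)) (tt N23692 F188058) (tt N24082 (iv F188061)) (tt N23689 (iv D40732)) (tt N23792 F188059) (tt N25811 (iv F192313)) (tt N23690 F188060) (tt N25864 D41791))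
theorem Q24807 : ∀ i, i < 24807 → P i := stepQ 24806 Q24806 (allL N24806 (tt N24209 F188062) (tt N24108 F188063) (tt N25598 (iv F191275)) (tt N23693 F188064) (tt N25863 (iv F192543)) (tt N25864 (iv F192550)) (tt N23989 F188065) (tt N25812 (iv F192319)) (tt N23723 F188066) (tt N23689 (iv D40733)))
theorem Q24808 : ∀ i, i < 24808 → P i := stepQ 24807 Q24807 (allL N24807 (tt N23949 F188067) (tt N23806 F188068) (tt N24007 F188069) (tt N23695 F188070) (tt N24057 F188071) (tt N23691 F188072) (tt N23794 F188073) (tt N23979 F188074) (tt N25865 D41792) (tt N23690 (iv D40734)))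
theorem Q24809 : ∀ i, i < 24809 → P i := stepQ 24808 Q24808 (allL N24808 (tt N24210 F188075) (tt N23905 F188076) (tt N23698 F188077) (tt N25866 D41793) (tt N23692 (iv D40735)) (tt N23893 F188078) (tt N23831 F188079) (tt N25813 (iv F192325)) (tt N23694 F188080) (tt N25867 D41794))
theorem Q24810 : ∀ i, i < 24810 → P i := stepQ 24809 Q24809 (allL N24809 (tt N24211 F188081) (tt N23908 F188082) (tt N23700 F188083) (tt N25864 (iv F192548)) (tt N25867 (iv F192569)) (tt N23693 F188084) (tt N23832 F188085) (tt N25815 (iv F192336)) (tt N25868 D41795) (tt N23692 (iv D40736)))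
theorem Q24811 : ∀ i, i < 24811 → P i := stepQ 24810 Q24810 (allL N24810 (tt N24084 F188086) (tt N23911 F188087) (tt N25534 (iv F190919)) (tt N23694 (iv D40737)) (tt N24081 F188088) (tt N23696 F188089) (tt N23833 F188090) (tt N25604 (iv F191307)) (tt N25866 (iv F192565)) (tt N25528 (iv F190884)))
theorem Q24812 : ∀ i, i < 24812 → P i := stepQ 24811 Q24811 (allL N24811 (tt N24212 F188091) (tt N23914 F188092) (tt N23703 F188093) (tt N25528 (iv F190881)) (tt N23695 F188094) (tt N23697 F188095) (tt N23834 F188096) (tt N25602 (iv F191294)) (tt N25869 D41796) (tt N23694 (iv D40738)))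
theorem Q24813 : ∀ i, i < 24813 → P i := stepQ 24812 Q24812 (allL N24812 (tt N24213 F188097) (tt N23917 F188098) (tt N23706 F188099) (tt N25865 (iv F192555)) (tt N25869 (iv F192581)) (tt N23732 F188100) (tt N23835 F188101) (tt N25817 (iv F192348)) (tt N23695 (iv D40739)) (tt N25868 (iv F192577)))
theorem Q24814 : ∀ i, i < 24814 → P i := stepQ 24813 Q24813 (allL N24813 (tt N24214 F188102) (tt N25751 (iv F192070)) (tt N25870 D41797) (tt N23698 (iv D40740)) (tt N25608 (iv F191328)) (tt N23904 F188103) (tt N25871 D41798) (tt N25818 (iv F192352)) (tt N23701 F188104) (tt N25872 D41799))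
theorem Q24815 : ∀ i, i < 24815 → P i := stepQ 24814 Q24814 (allL N24814 (tt N24215 F188105) (tt N25752 (iv F192073)) (tt N23831 F188106) (tt N25871 (iv F192587)) (tt N23699 F188107) (tt N25747 (iv F192054)) (tt N23698 (iv D40741)) (tt N25873 D41800) (tt N23702 F188108) (tt N25874 D41801))
theorem Q24816 : ∀ i, i < 24816 → P i := stepQ 24815 Q24815 (allL N24815 (tt N24216 F188109) (tt N25753 (iv F192078)) (tt N25867 (iv F192568)) (tt N25872 (iv F192590)) (tt N23700 F188110) (tt N23906 F188111) (tt N25874 (iv F192599)) (tt N25820 (iv F192360)) (tt N25875 D41802) (tt N23698 (iv D40742)))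
theorem Q24817 : ∀ i, i < 24817 → P i := stepQ 24816 Q24816 (allL N24816 (tt N24217 F188112) (tt N25754 (iv F192081)) (tt N23821 F188113) (tt N25611 (iv F191338)) (tt N25873 (iv F192594)) (tt N23820 F188114) (tt N25821 (iv F192363)) (tt N23699 (iv D40743)) (tt N23704 F188115) (tt N25876 D41803))
theorem Q24818 : ∀ i, i < 24818 → P i := stepQ 24817 Q24817 (allL N24817 (tt N24218 F188116) (tt N25755 (iv F192085)) (tt N23832 F188117) (tt N25612 (iv F191342)) (tt N25874 (iv F192598)) (tt N23830 F188118) (tt N23700 F188119) (tt N25876 (iv F192606)) (tt N25877 D41804) (tt N23699 (iv D40744)))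
theorem Q24819 : ∀ i, i < 24819 → P i := stepQ 24818 Q24818 (allL N24818 (tt N24219 F188120) (tt N25756 (iv F192090)) (tt N25868 (iv F192574)) (tt N25613 (iv F191346)) (tt N25875 (iv F192601)) (tt N23737 F188121) (tt N25877 (iv F192609)) (tt N25823 (iv F192369)) (tt N23700 (iv D40745)) (tt N23706 F188122))
theorem Q24820 : ∀ i, i < 24820 → P i := stepQ 24819 Q24819 (allL N24819 (tt N24220 F188123) (tt N25804 (iv F192283)) (tt N23701 (iv D40746)) (tt N25534 (iv F190920)) (tt N25614 (iv F191351)) (tt N23708 F188124) (tt N25878 D41805) (tt N25616 (iv F191364)) (tt N25870 (iv F192585)) (tt N23751 F188125))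
theorem Q24821 : ∀ i, i < 24821 → P i := stepQ 24820 Q24820 (allL N24820 (tt N24221 F188126) (tt N25758 (iv F192094)) (tt N25878 (iv F192612)) (tt N23702 F188127) (tt N25615 (iv F191357)) (tt N23772 F188128) (tt N23701 (iv D40747)) (tt N25879 D41806) (tt N25871 (iv F192588)) (tt N25670 (iv F191623)))
theorem Q24822 : ∀ i, i < 24822 → P i := stepQ 24821 Q24821 (allL N24821 (tt N24222 F188129) (tt N25759 (iv F192098)) (tt N23823 F188130) (tt N25879 (iv F192617)) (tt N23704 F188131) (tt N23773 F188132) (tt N25825 (iv F192379)) (tt N23702 (iv D40748)) (tt N25873 (iv F192595)) (tt N25880 D41807))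
theorem Q24823 : ∀ i, i < 24823 → P i := stepQ 24822 Q24822 (allL N24822 (tt N24223 F188133) (tt N24248 F188134) (tt N23834 F188135) (tt N25670 (iv F191621)) (tt N23705 F188136) (tt N23774 F188137) (tt N23703 F188138) (tt N25880 (iv F192624)) (tt N25881 D41808) (tt N23702 (iv D40749)))
theorem Q24824 : ∀ i, i < 24824 → P i := stepQ 24823 Q24823 (allL N24823 (tt N24224 F188139) (tt N25417 (iv F190212)) (tt N25869 (iv F192580)) (tt N25636 (iv F191458)) (tt N23706 F188140) (tt N25348 F189798) (tt N25881 (iv F192630)) (tt N25827 (iv F192386)) (tt N23703 (iv D40750)) (tt N25875 (iv F192602)))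
theorem Q24825 : ∀ i, i < 24825 → P i := stepQ 24824 Q24824 (allL N24824 (tt N24225 F188141) (tt N23997 F188142) (tt N23825 F188143) (tt N25620 (iv F191377)) (tt N25880 (iv F192622)) (tt N23707 F188144) (tt N25766 (iv F192135)) (tt N23705 F188145) (tt N25882 D41809) (tt N23704 (iv D40751)))
theorem Q24826 : ∀ i, i < 24826 → P i := stepQ 24825 Q24825 (allL N24825 (tt N24226 F188146) (tt N25691 (iv F191762)) (tt N23835 F188147) (tt N25621 (iv F191382)) (tt N25881 (iv F192628)) (tt N25688 (iv F191746)) (tt N23706 F188148) (tt N25882 (iv F192635)) (tt N23705 (iv D40752)) (tt N25877 (iv F192610)))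
theorem Q24827 : ∀ i, i < 24827 → P i := stepQ 24826 Q24826 (allL N24826 (tt N25492 (iv F190663)) (tt N25423 (iv F190234)) (tt N23711 F188149) (tt N25883 D41810) (tt N23709 (iv D40753)) (tt N23746 F188150) (tt N24101 F188151) (tt N25829 (iv F192391)) (tt N25884 D41811) (tt N24100 F188152))
theorem Q24828 : ∀ i, i < 24828 → P i := stepQ 24827 Q24827 (allL N24827 (tt N25656 (iv F191552)) (tt N25627 (iv F191413)) (tt N23712 F188153) (tt N25765 (iv F192129)) (tt N25884 (iv F192641)) (tt N25885 D41812) (tt N24103 F188154) (tt N25830 (iv F192394)) (tt N23709 (iv D40754)) (tt N25886 D41813))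
theorem Q24829 : ∀ i, i < 24829 → P i := stepQ 24828 Q24828 (allL N24828 (tt N25657 (iv F191556)) (tt N25628 (iv F191418)) (tt N23713 F188155) (tt N25766 (iv F192134)) (tt N25887 D41814) (tt N23710 (iv D40755)) (tt N25620 (iv F191379)) (tt N25536 (iv F190939)) (tt N25885 (iv F192644)) (tt N25535 F190931))
theorem Q24830 : ∀ i, i < 24830 → P i := stepQ 24829 Q24829 (allL N24829 (tt N25486 (iv F190629)) (tt N23721 F188156) (tt N25884 (iv F192640)) (tt N25450 (iv F190412)) (tt N23712 F188157) (tt N25796 (iv F192259)) (tt N24111 F188158) (tt N25831 (iv F192398)) (tt N23711 (iv D40756)) (tt N25888 D41815))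
theorem Q24831 : ∀ i, i < 24831 → P i := stepQ 24830 Q24830 (allL N24830 (tt N25665 (iv F191588)) (tt N23722 F188159) (tt N25885 (iv F192643)) (tt N23716 F188160) (tt N25889 D41816) (tt N23712 (iv D40757)) (tt N25890 D41817) (tt N25832 (iv F192402)) (tt N23713 F188161) (tt N25891 D41818))
theorem Q24832 : ∀ i, i < 24832 → P i := stepQ 24831 Q24831 (allL N24831 (tt N25663 (iv F191578)) (tt N23723 F188162) (tt N25886 (iv F192645)) (tt N23717 F188163) (tt N25888 (iv F192652)) (tt N25891 (iv F192665)) (tt N24109 F188164) (tt N25833 (iv F192408)) (tt N24108 F188165) (tt N23712 (iv D40758)))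
theorem Q24833 : ∀ i, i < 24833 → P i := stepQ 24832 Q24832 (allL N24832 (tt N25666 (iv F191593)) (tt N23724 F188166) (tt N25887 (iv F192648)) (tt N23823 F188167) (tt N23713 (iv D40759)) (tt N23749 F188168) (tt N25892 D41819) (tt N23833 F188169) (tt N25889 (iv F192658)) (tt N25893 D41820))
theorem Q24834 : ∀ i, i < 24834 → P i := stepQ 24833 Q24833 (allL N24833 (tt N25622 (iv F191384)) (tt N23725 F188170) (tt N25620 (iv F191376)) (tt N23718 F188171) (tt N25892 (iv F192668)) (tt N23715 F188172) (tt N23713 (iv D40760)) (tt N25606 (iv F191321)) (tt N25890 (iv F192662)) (tt N25605 F191314))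
theorem Q24835 : ∀ i, i < 24835 → P i := stepQ 24834 Q24834 (allL N24834 (tt N25333 (iv F189688)) (tt N23726 F188173) (tt N25535 (iv F190927)) (tt N23719 F188174) (tt N25893 (iv F192672)) (tt N23714 F188175) (tt N25605 (iv F191313)) (tt N25529 F190893) (tt N25894 D41821) (tt N23713 (iv D40761)))
theorem Q24836 : ∀ i, i < 24836 → P i := stepQ 24835 Q24835 (allL N24835 (tt N25688 (iv F191742)) (tt N23729 F188176) (tt N25687 (iv F191736)) (tt N25890 (iv F192660)) (tt N25684 (iv F191717)) (tt N24226 F188177) (tt N23716 (iv D40762)) (tt N25895 D41822) (tt N23718 F188178) (tt N25896 D41823))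
theorem Q24837 : ∀ i, i < 24837 → P i := stepQ 24836 Q24836 (allL N24836 (tt N25740 (iv F192024)) (tt N23730 F188179) (tt N25771 (iv F192154)) (tt N25891 (iv F192664)) (tt N25685 (iv F191723)) (tt N23717 F188180) (tt N25896 (iv F192686)) (tt N25834 (iv F192415)) (tt N25897 D41824) (tt N23716 (iv D40763)))
theorem Q24838 : ∀ i, i < 24838 → P i := stepQ 24837 Q24837 (allL N24837 (tt N23993 F188181) (tt N23731 F188182) (tt N23794 F188183) (tt N25606 (iv F191318)) (tt N25686 (iv F191730)) (tt N23720 F188184) (tt N24007 F188185) (tt N23718 (iv D40764)) (tt N25895 (iv F192683)) (tt N23791 F188186))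
theorem Q24839 : ∀ i, i < 24839 → P i := stepQ 24838 Q24838 (allL N24838 (tt N25335 (iv F189703)) (tt N23732 F188187) (tt N25684 (iv F191715)) (tt N25894 (iv F192676)) (tt N25687 (iv F191738)) (tt N23917 F188188) (tt N25682 (iv F191704)) (tt N25835 (iv F192421)) (tt N23719 (iv D40765)) (tt N25897 (iv F192689)))
theorem Q24840 : ∀ i, i < 24840 → P i := stepQ 24839 Q24839 (allL N24839 (tt N24228 F188189) (tt N25796 (iv F192258)) (tt N25636 (iv F191457)) (tt N25530 F190899) (tt N25818 (iv F192350)) (tt N23721 (iv D40766)) (tt N25898 D41825) (tt N25608 (iv F191330)) (tt N23751 F188190) (tt N25899 D41826))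
theorem Q24841 : ∀ i, i < 24841 → P i := stepQ 24840 Q24840 (allL N24840 (tt N24229 F188191) (tt N25888 (iv F192651)) (tt N25637 (iv F191461)) (tt N25860 (iv F192525)) (tt N23723 F188192) (tt N25899 (iv F192693)) (tt N25399 (iv F190111)) (tt N25836 (iv F192424)) (tt N25863 (iv F192545)) (tt N23721 (iv D40767)))
theorem Q24842 : ∀ i, i < 24842 → P i := stepQ 24841 Q24841 (allL N24841 (tt N24230 F188193) (tt N25889 (iv F192655)) (tt N25638 (iv F191464)) (tt N23873 F188194) (tt N23722 (iv D40768)) (tt N25818 (iv F192351)) (tt N25900 D41827) (tt N23904 F188195) (tt N23724 F188196) (tt N25901 D41828))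
theorem Q24843 : ∀ i, i < 24843 → P i := stepQ 24842 Q24842 (allL N24842 (tt N24231 F188197) (tt N25890 (iv F192659)) (tt N25639 (iv F191469)) (tt N23729 F188198) (tt N25900 (iv F192696)) (tt N25401 (iv F190122)) (tt N23722 (iv D40769)) (tt N25902 D41829) (tt N23725 F188199) (tt N25903 D41830))
theorem Q24844 : ∀ i, i < 24844 → P i := stepQ 24843 Q24843 (allL N24843 (tt N24232 F188200) (tt N25891 (iv F192663)) (tt N25640 (iv F191474)) (tt N23730 F188201) (tt N25901 (iv F192700)) (tt N23723 F188202) (tt N25903 (iv F192707)) (tt N25837 (iv F192429)) (tt N25904 D41831) (tt N23722 (iv D40770)))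
theorem Q24845 : ∀ i, i < 24845 → P i := stepQ 24844 Q24844 (allL N24844 (tt N24233 F188203) (tt N25892 (iv F192666)) (tt N25641 (iv F191479)) (tt N23876 F188204) (tt N23725 F188205) (tt N24844 F188206) (tt N23724 (iv D40771)) (tt N25905 D41832) (tt N25900 (iv F192697)) (tt N25761 (iv F192113)))
theorem Q24846 : ∀ i, i < 24846 → P i := stepQ 24845 Q24845 (allL N24845 (tt N24234 F188207) (tt N25893 (iv F192670)) (tt N25642 (iv F191484)) (tt N23877 F188208) (tt N23726 F188209) (tt N23752 F188210) (tt N25761 (iv F192112)) (tt N23912 F188211) (tt N25906 D41833) (tt N23724 (iv D40772)))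
theorem Q24847 : ∀ i, i < 24847 → P i := stepQ 24846 Q24846 (allL N24846 (tt N24235 F188212) (tt N25606 (iv F191316)) (tt N25643 (iv F191491)) (tt N23731 F188213) (tt N25905 (iv F192713)) (tt N23727 F188214) (tt N25538 (iv F190951)) (tt N23725 (iv D40773)) (tt N25902 (iv F192704)) (tt N25595 (iv F191260)))
theorem Q24848 : ∀ i, i < 24848 → P i := stepQ 24847 Q24847 (allL N24847 (tt N24236 F188215) (tt N25894 (iv F192675)) (tt N25645 (iv F191504)) (tt N23732 F188216) (tt N25906 (iv F192718)) (tt N25865 (iv F192557)) (tt N25762 (iv F192116)) (tt N25838 (iv F192435)) (tt N23726 (iv D40774)) (tt N25904 (iv F192710)))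
theorem Q24849 : ∀ i, i < 24849 → P i := stepQ 24848 Q24848 (allL N24848 (tt N24128 F188217) (tt N25685 (iv F191721)) (tt N23734 F188218) (tt N23875 F188219) (tt N23730 F188220) (tt N23795 F188221) (tt N25777 (iv F192175)) (tt N23804 F188222) (tt N25776 (iv F192170)) (tt N23728 (iv D40775)))
theorem Q24850 : ∀ i, i < 24850 → P i := stepQ 24849 Q24849 (allL N24849 (tt N24237 F188223) (tt N25895 (iv F192679)) (tt N23735 F188224) (tt N25902 (iv F192703)) (tt N25721 (iv F191917)) (tt N25409 (iv F190169)) (tt N25539 (iv F190958)) (tt N23729 (iv D40776)) (tt N23731 F188225) (tt N25907 D41834))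
theorem Q24851 : ∀ i, i < 24851 → P i := stepQ 24850 Q24850 (allL N24850 (tt N24238 F188226) (tt N25896 (iv F192684)) (tt N23736 F188227) (tt N25903 (iv F192706)) (tt N25777 (iv F192174)) (tt N25410 (iv F190174)) (tt N23730 F188228) (tt N25907 (iv F192722)) (tt N25763 (iv F192121)) (tt N23729 (iv D40777)))
theorem Q24852 : ∀ i, i < 24852 → P i := stepQ 24851 Q24851 (allL N24851 (tt N24239 F188229) (tt N25897 (iv F192687)) (tt N23737 F188230) (tt N25904 (iv F192709)) (tt N25776 (iv F192167)) (tt N25868 (iv F192575)) (tt N25763 (iv F192120)) (tt N25839 (iv F192439)) (tt N23730 (iv D40778)) (tt N23732 F188231))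
theorem Q24853 : ∀ i, i < 24853 → P i := stepQ 24852 Q24852 (allL N24852 (tt N24227 F188232) (tt N25663 (iv F191579)) (tt N25586 (iv F191208)) (tt N23734 F188233) (tt N25658 (iv F191565)) (tt N25861 (iv F192532)) (tt N25491 (iv F190661)) (tt N25841 (iv F192450)) (tt N25490 (iv F190657)) (tt N23733 (iv D40779)))
theorem Q24854 : ∀ i, i < 24854 → P i := stepQ 24853 Q24853 (allL N24853 (tt N24240 F188234) (tt N25778 (iv F192178)) (tt N25907 (iv F192721)) (tt N25662 (iv F191576)) (tt N25726 (iv F191942)) (tt N25421 (iv F190227)) (tt N25843 (iv F192457)) (tt N23736 F188235) (tt N25723 (iv F191931)) (tt N23735 (iv D40780)))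
theorem Q24855 : ∀ i, i < 24855 → P i := stepQ 24854 Q24854 (allL N24854 (tt N25472 (iv F190547)) (tt N25440 (iv F190340)) (tt N23741 F188236) (tt N25908 D41835) (tt N23739 (iv D40781)) (tt N25829 (iv F192390)) (tt N24854 F188237) (tt N23746 F188238) (tt N25375 (iv F189960)) (tt N24116 F188239))
theorem Q24856 : ∀ i, i < 24856 → P i := stepQ 24855 Q24855 (allL N24855 (tt N23837 F188240) (tt N23744 F188241) (tt N23990 F188242) (tt N23817 F188243) (tt N23743 (iv D40782)) (tt N25847 (iv F192474)) (tt N23753 F188244) (tt N25334 (iv F189700)) (tt N23928 F188245) (tt N23809 F188246))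
theorem Q24857 : ∀ i, i < 24857 → P i := stepQ 24856 Q24856 (allL N24856 (tt N24088 F188247) (tt N24117 F188248) (tt N23912 F188249) (tt N23940 F188250) (tt N24083 F188251) (tt N23745 (iv D40783)) (tt N25783 (iv F192206)) (tt N25642 (iv F191488)) (tt N25862 (iv F192539)) (tt N23910 F188252))
theorem Q24858 : ∀ i, i < 24858 → P i := stepQ 24857 Q24857 (allL N24857 (tt N25483 (iv F190608)) (tt N25434 (iv F190305)) (tt N24112 F188253) (tt N23746 (iv D40784)) (tt N24857 F188254) (tt N25883 (iv F192637)) (tt N23758 F188255) (tt N25908 (iv F192726)) (tt N25793 (iv F192245)) (tt N24115 F188256))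
theorem Q24859 : ∀ i, i < 24859 → P i := stepQ 24858 Q24858 (allL N24858 (tt N25668 (iv F191604)) (tt N25669 (iv F191613)) (tt N23749 F188257) (tt N25909 D41836) (tt N23747 (iv D40785)) (tt N25887 (iv F192649)) (tt N24858 F188258) (tt N23836 F188259) (tt N25513 (iv F190791)) (tt N25910 D41837))
theorem Q24860 : ∀ i, i < 24860 → P i := stepQ 24859 Q24859 (allL N24859 (tt N23991 F188260) (tt N23782 F188261) (tt N23750 F188262) (tt N24859 F188263) (tt N25910 (iv F192738)) (tt N23748 F188264) (tt N24859 F188265) (tt N23776 F188266) (tt N23786 (iv F188267)) (tt N23747 (iv D40786)))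
theorem Q24861 : ∀ i, i < 24861 → P i := stepQ 24860 Q24860 (allL N24860 (tt N25334 (iv F189695)) (tt N23752 F188268) (tt N25910 (iv F192736)) (tt N23826 F188269) (tt N23750 F188270) (tt N25893 (iv F192673)) (tt N24860 F188271) (tt N23837 F188272) (tt N25441 (iv F190352)) (tt N23749 (iv D40787)))
theorem Q24862 : ∀ i, i < 24862 → P i := stepQ 24861 Q24861 (allL N24861 (tt N24241 F188273) (tt N25803 (iv F192279)) (tt N25670 (iv F191620)) (tt N25533 (iv F190913)) (tt N25824 (iv F192373)) (tt N23763 F188274) (tt N23751 (iv D40788)) (tt N25911 D41838) (tt N25898 (iv F192691)) (tt N25878 (iv F192615)))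
theorem Q24863 : ∀ i, i < 24863 → P i := stepQ 24862 Q24862 (allL N24862 (tt N23990 F188275) (tt N23780 F188276) (tt N23837 F188277) (tt N23763 F188278) (tt N23776 F188279) (tt N25533 (iv F190915)) (tt N23755 (iv D40789)) (tt N25910 (iv F192740)) (tt N24114 F188280) (tt N23836 F188281))
theorem Q24864 : ∀ i, i < 24864 → P i := stepQ 24863 Q24863 (allL N24863 (tt N24251 F188282) (tt N25430 (iv F190278)) (tt N23777 F188283) (tt N23759 F188284) (tt N24863 F188285) (tt N23944 F188286) (tt N25793 (iv F192244)) (tt N24863 F188287) (tt N23758 (iv D40790)) (tt N25912 D41839))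
theorem Q24865 : ∀ i, i < 24865 → P i := stepQ 24864 Q24864 (allL N24864 (tt N24254 F188288) (tt N24244 F188289) (tt N23761 F188290) (tt N23944 F188291) (tt N24864 F188292) (tt N23759 (iv D40791)) (tt N25913 D41840) (tt N24864 F188293) (tt N23943 F188294) (tt N25914 D41841))
theorem Q24866 : ∀ i, i < 24866 → P i := stepQ 24865 Q24865 (allL N24865 (tt N24259 F188295) (tt N23771 F188296) (tt N23762 F188297) (tt N25912 (iv F192747)) (tt N23760 F188298) (tt N25914 (iv F192763)) (tt N25760 (iv F192106)) (tt N24865 F188299) (tt N23781 F188300) (tt N23759 (iv D40792)))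
theorem Q24867 : ∀ i, i < 24867 → P i := stepQ 24866 Q24866 (allL N24866 (tt N24255 F188301) (tt N23763 F188302) (tt N25913 (iv F192754)) (tt N23780 F188303) (tt N24866 F188304) (tt N25803 (iv F192281)) (tt N23761 (iv D40793)) (tt N25915 D41842) (tt N24115 F188305) (tt N25916 D41843))
theorem Q24868 : ∀ i, i < 24868 → P i := stepQ 24867 Q24867 (allL N24867 (tt N24256 F188306) (tt N23764 F188307) (tt N25914 (iv F192760)) (tt N23781 F188308) (tt N24867 F188309) (tt N23762 F188310) (tt N25916 (iv F192776)) (tt N24867 F188311) (tt N25912 (iv F192751)) (tt N23761 (iv D40794)))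
theorem Q24869 : ∀ i, i < 24869 → P i := stepQ 24868 Q24868 (allL N24868 (tt N24242 F188312) (tt N25915 (iv F192767)) (tt N25671 (iv F191626)) (tt N25910 (iv F192737)) (tt N24868 F188313) (tt N25911 (iv F192743)) (tt N24868 F188314) (tt N23763 (iv D40795)) (tt N25445 (iv F190378)) (tt N25909 F192733))
theorem Q24870 : ∀ i, i < 24870 → P i := stepQ 24869 Q24869 (allL N24869 (tt N24243 F188315) (tt N25916 (iv F192773)) (tt N23772 F188316) (tt N23836 F188317) (tt N24869 F188318) (tt N25878 (iv F192614)) (tt N23764 F188319) (tt N25909 (iv F192732)) (tt N25750 (iv F192069)) (tt N23763 (iv D40796)))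
theorem Q24871 : ∀ i, i < 24871 → P i := stepQ 24870 Q24870 (allL N24870 (tt N24244 F188320) (tt N25912 (iv F192745)) (tt N23767 F188321) (tt N23771 F188322) (tt N24870 F188323) (tt N23920 F188324) (tt N25750 (iv F192068)) (tt N24870 F188325) (tt N23764 (iv D40797)) (tt N25430 (iv F190284)))
theorem Q24872 : ∀ i, i < 24872 → P i := stepQ 24871 Q24871 (allL N24871 (tt N23771 F188326) (tt N23944 F188327) (tt N23765 (iv D40798)) (tt N24244 F188328) (tt N23766 F188329) (tt N25430 (iv F190281)) (tt N25697 (iv F191802)) (tt N24871 F188330) (tt N23811 F188331) (tt N23920 F188332))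
theorem Q24873 : ∀ i, i < 24873 → P i := stepQ 24872 Q24872 (allL N24872 (tt N25430 (iv F190277)) (tt N25914 (iv F192759)) (tt N23768 (iv D40799)) (tt N23920 F188333) (tt N24872 F188334) (tt N23771 F188335) (tt N25917 D41844) (tt N24872 F188336) (tt N23921 F188337) (tt N24244 F188338))
theorem Q24874 : ∀ i, i < 24874 → P i := stepQ 24873 Q24873 (allL N24873 (tt N25431 (iv F190285)) (tt N23772 F188339) (tt N25917 (iv F192777)) (tt N23769 F188340) (tt N24873 F188341) (tt N25758 (iv F192096)) (tt N23768 (iv D40800)) (tt N25918 D41845) (tt N23922 F188342) (tt N24247 F188343))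
theorem Q24875 : ∀ i, i < 24875 → P i := stepQ 24874 Q24874 (allL N24874 (tt N25433 (iv F190297)) (tt N23773 F188344) (tt N23864 F188345) (tt N25918 (iv F192783)) (tt N23770 F188346) (tt N25759 (iv F192101)) (tt N24874 F188347) (tt N23769 (iv D40801)) (tt N23923 F188348) (tt N23999 F188349))
theorem Q24876 : ∀ i, i < 24876 → P i := stepQ 24875 Q24875 (allL N24875 (tt N24249 F188350) (tt N25918 (iv F192782)) (tt N25909 (iv F192729)) (tt N23773 F188351) (tt N24875 F188352) (tt N25879 (iv F192618)) (tt N24875 F188353) (tt N23772 (iv D40802)) (tt N25504 (iv F190743)) (tt N25671 (iv F191631)))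
theorem Q24877 : ∀ i, i < 24877 → P i := stepQ 24876 Q24876 (allL N24876 (tt N24250 F188354) (tt N23999 F188355) (tt N23826 F188356) (tt N25671 (iv F191627)) (tt N23775 F188357) (tt N25880 (iv F192623)) (tt N24876 F188358) (tt N23774 F188359) (tt N24246 (iv F188360)) (tt N23773 (iv D40803)))
theorem Q24878 : ∀ i, i < 24878 → P i := stepQ 24877 Q24877 (allL N24877 (tt N24252 F188361) (tt N23921 F188362) (tt N25912 (iv F192746)) (tt N23778 F188363) (tt N24877 F188364) (tt N23784 F188365) (tt N25794 (iv F192250)) (tt N24877 F188366) (tt N25914 (iv F192765)) (tt N23777 (iv D40804)))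
theorem Q24879 : ∀ i, i < 24879 → P i := stepQ 24878 Q24878 (allL N24878 (tt N24253 F188367) (tt N23920 F188368) (tt N23784 F188369) (tt N25914 (iv F192761)) (tt N23779 F188370) (tt N25912 (iv F192749)) (tt N25795 (iv F192255)) (tt N24878 F188371) (tt N23778 (iv D40805)) (tt N23944 F188372))
theorem Q24880 : ∀ i, i < 24880 → P i := stepQ 24879 Q24879 (allL N24879 (tt N24257 F188373) (tt N25910 (iv F192735)) (tt N24118 F188374) (tt N25915 (iv F192768)) (tt N23782 F188375) (tt N25805 (iv F192289)) (tt N24879 F188376) (tt N23780 (iv D40806)) (tt N24116 F188377) (tt N25669 (iv F191617)))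
theorem Q24881 : ∀ i, i < 24881 → P i := stepQ 24880 Q24880 (allL N24880 (tt N24258 F188378) (tt N23836 F188379) (tt N23918 F188380) (tt N25916 (iv F192774)) (tt N23783 F188381) (tt N25806 (iv F192294)) (tt N23781 F188382) (tt N25669 (iv F191616)) (tt N25760 (iv F192107)) (tt N23780 (iv D40807)))
theorem Q24882 : ∀ i, i < 24882 → P i := stepQ 24881 Q24881 (allL N24881 (tt N24261 F188383) (tt N24116 F188384) (tt N25441 (iv F190347)) (tt N25445 (iv F190375)) (tt N23786 (iv D40808)) (tt N25846 (iv F192468)) (tt N24881 F188385) (tt N24114 F188386) (tt N25910 F192741) (tt N25440 (iv F190344)))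
theorem Q24883 : ∀ i, i < 24883 → P i := stepQ 24882 Q24882 (allL N24882 (tt N25712 (iv F191875)) (tt N23789 F188387) (tt N24190 F188388) (tt N23788 F188389) (tt N25919 D41846) (tt N23787 (iv D40809)) (tt N23980 F188390) (tt N25678 (iv F191679)) (tt N25920 D41847) (tt N24182 F188391))
theorem Q24884 : ∀ i, i < 24884 → P i := stepQ 24883 Q24883 (allL N24883 (tt N25713 (iv F191882)) (tt N23790 F188392) (tt N23799 F188393) (tt N25920 (iv F192796)) (tt N25672 (iv F191636)) (tt N25708 (iv F191859)) (tt N23981 F188394) (tt N25679 (iv F191687)) (tt N23788 (iv D40810)) (tt N25921 D41848))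
theorem Q24885 : ∀ i, i < 24885 → P i := stepQ 24884 Q24884 (allL N24884 (tt N25704 (iv F191829)) (tt N25919 (iv F192788)) (tt N23828 F188395) (tt N25673 (iv F191643)) (tt N23789 (iv D40811)) (tt N24884 F188396) (tt N23983 F188397) (tt N25680 (iv F191693)) (tt N25922 D41849) (tt N25729 (iv F191966)))
theorem Q24886 : ∀ i, i < 24886 → P i := stepQ 24885 Q24885 (allL N24885 (tt N25705 (iv F191836)) (tt N25920 (iv F192794)) (tt N23829 F188398) (tt N23790 F188399) (tt N25922 (iv F192802)) (tt N25600 (iv F191285)) (tt N23984 F188400) (tt N25681 (iv F191699)) (tt N23789 (iv D40812)) (tt N25923 D41850))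
theorem Q24887 : ∀ i, i < 24887 → P i := stepQ 24886 Q24886 (allL N24886 (tt N25672 (iv F191632)) (tt N25708 (iv F191856)) (tt N23792 F188401) (tt N25600 (iv F191284)) (tt N25713 (iv F191885)) (tt N23790 (iv D40813)) (tt N25597 (iv F191270)) (tt N25682 (iv F191705)) (tt N23791 F188402) (tt N25924 D41851))
theorem Q24888 : ∀ i, i < 24888 → P i := stepQ 24887 Q24887 (allL N24887 (tt N25706 (iv F191842)) (tt N25921 (iv F192798)) (tt N23793 F188403) (tt N25923 (iv F192805)) (tt N25676 (iv F191663)) (tt N25924 (iv F192808)) (tt N23986 F188404) (tt N25683 (iv F191711)) (tt N25731 (iv F191980)) (tt N23790 (iv D40814)))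
theorem Q24889 : ∀ i, i < 24889 → P i := stepQ 24888 Q24888 (allL N24888 (tt N25707 (iv F191848)) (tt N23804 F188405) (tt N25924 (iv F192807)) (tt N23832 F188406) (tt N25834 (iv F192412)) (tt N23793 F188407) (tt N25864 (iv F192551)) (tt N25685 (iv F191725)) (tt N25925 D41852) (tt N23792 (iv D40815)))
theorem Q24890 : ∀ i, i < 24890 → P i := stepQ 24889 Q24889 (allL N24889 (tt N25576 (iv F191145)) (tt N23807 F188408) (tt N25895 (iv F192680)) (tt N23835 F188409) (tt N25835 (iv F192418)) (tt N25737 (iv F192016)) (tt N25865 (iv F192558)) (tt N25687 (iv F191741)) (tt N23794 (iv D40816)) (tt N25925 (iv F192811)))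
theorem Q24891 : ∀ i, i < 24891 → P i := stepQ 24890 Q24890 (allL N24890 (tt N25536 (iv F190932)) (tt N23880 F188410) (tt N23798 F188411) (tt N24190 F188412) (tt N25926 D41853) (tt N23797 (iv D40817)) (tt N23964 F188413) (tt N25657 (iv F191561)) (tt N25927 D41854) (tt N23963 F188414))
theorem Q24892 : ∀ i, i < 24892 → P i := stepQ 24891 Q24891 (allL N24891 (tt N23833 F188415) (tt N23800 F188416) (tt N25926 (iv F192814)) (tt N23815 F188417) (tt N23798 (iv D40818)) (tt N23809 F188418) (tt N24084 F188419) (tt N25666 (iv F191597)) (tt N25928 D41855) (tt N25847 (iv F192476)))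
theorem Q24893 : ∀ i, i < 24893 → P i := stepQ 24892 Q24892 (allL N24892 (tt N25832 (iv F192399)) (tt N23801 F188420) (tt N25927 (iv F192820)) (tt N23799 F188421) (tt N25928 (iv F192826)) (tt N25664 (iv F191586)) (tt N24085 F188422) (tt N25665 (iv F191591)) (tt N23798 (iv D40819)) (tt N25929 D41856))
theorem Q24894 : ∀ i, i < 24894 → P i := stepQ 24893 Q24893 (allL N24893 (tt N25834 (iv F192410)) (tt N23802 F188423) (tt N25921 (iv F192799)) (tt N25929 (iv F192829)) (tt N25707 (iv F191851)) (tt N25723 (iv F191929)) (tt N24087 F188424) (tt N25740 (iv F192028)) (tt N25849 (iv F192484)) (tt N23799 (iv D40820)))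
theorem Q24895 : ∀ i, i < 24895 → P i := stepQ 24894 Q24894 (allL N24894 (tt N25327 (iv F189642)) (tt N25928 (iv F192824)) (tt N23887 F188425) (tt N25340 (iv F189740)) (tt N23801 F188426) (tt N25930 D41857) (tt N24090 F188427) (tt N25854 (iv F192506)) (tt N23800 (iv D40821)) (tt N25931 D41858))
theorem Q24896 : ∀ i, i < 24896 → P i := stepQ 24895 Q24895 (allL N24895 (tt N25328 (iv F189650)) (tt N25929 (iv F192828)) (tt N23889 F188428) (tt N23802 F188429) (tt N25931 (iv F192836)) (tt N25841 (iv F192449)) (tt N24092 F188430) (tt N25861 (iv F192533)) (tt N25851 (iv F192494)) (tt N23801 (iv D40822)))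
theorem Q24897 : ∀ i, i < 24897 → P i := stepQ 24896 Q24896 (allL N24896 (tt N25329 (iv F189658)) (tt N25811 (iv F192310)) (tt N25727 (iv F191947)) (tt N23907 F188431) (tt N25539 (iv F190957)) (tt N24107 F188432) (tt N25721 (iv F191918)) (tt N23803 (iv D40823)) (tt N23805 F188433) (tt N25932 D41859))
theorem Q24898 : ∀ i, i < 24898 → P i := stepQ 24897 Q24897 (allL N24897 (tt N25330 (iv F189666)) (tt N25864 (iv F192547)) (tt N25842 (iv F192452)) (tt N23908 F188434) (tt N25626 (iv F191411)) (tt N24108 F188435) (tt N23804 F188436) (tt N25932 (iv F192840)) (tt N25933 D41860) (tt N23803 (iv D40824)))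
theorem Q24899 : ∀ i, i < 24899 → P i := stepQ 24898 Q24898 (allL N24898 (tt N25331 (iv F189673)) (tt N25925 (iv F192809)) (tt N25778 (iv F192179)) (tt N23909 F188437) (tt N25839 (iv F192438)) (tt N25858 (iv F192520)) (tt N25933 (iv F192842)) (tt N25776 (iv F192169)) (tt N23804 (iv D40825)) (tt N23807 F188438))
theorem Q24900 : ∀ i, i < 24900 → P i := stepQ 24899 Q24899 (allL N24899 (tt N25332 (iv F189681)) (tt N25865 (iv F192553)) (tt N25724 (iv F191934)) (tt N23917 F188439) (tt N25590 (iv F191235)) (tt N25894 (iv F192677)) (tt N23807 F188440) (tt N25719 (iv F191909)) (tt N23806 (iv D40826)) (tt N25933 (iv F192843)))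
theorem Q24901 : ∀ i, i < 24901 → P i := stepQ 24900 Q24900 (allL N24900 (tt N23836 F188441) (tt N23937 F188442) (tt N23809 F188443) (tt N24243 (iv F188446)) (tt N23808 (iv D40827)) (tt N25926 (iv F192815)) (tt N23811 F188444) (tt N25668 (iv F191608)) (tt N25697 (iv F191804)) (tt N23990 F188445))
theorem Q24902 : ∀ i, i < 24902 → P i := stepQ 24901 Q24901 (allL N24901 (tt N24136 F188447) (tt N25696 (iv F191793)) (tt N23940 F188448) (tt N23898 F188449) (tt N25518 (iv F190816)) (tt N23810 (iv D40828)) (tt N25934 D41861) (tt N25580 (iv F191177)) (tt N25930 (iv F192834)) (tt N23896 F188450))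
theorem Q24903 : ∀ i, i < 24903 → P i := stepQ 24902 Q24902 (allL N24902 (tt N24245 F188451) (tt N25431 (iv F190286)) (tt N23945 F188452) (tt N23924 F188453) (tt N24902 F188454) (tt N25934 (iv F192847)) (tt N23812 (iv D40829)) (tt N25935 D41862) (tt N24121 F188455) (tt N23922 F188456))
theorem Q24904 : ∀ i, i < 24904 → P i := stepQ 24903 Q24903 (allL N24903 (tt N23831 F188457) (tt N25340 (iv F189738)) (tt N24215 F188458) (tt N25928 (iv F192825)) (tt N23813 (iv D40830)) (tt N25693 (iv F191777)) (tt N24210 F188459) (tt N25732 (iv F191985)) (tt N23815 F188460) (tt N25936 D41863))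
theorem Q24905 : ∀ i, i < 24905 → P i := stepQ 24904 Q24904 (allL N24904 (tt N23832 F188461) (tt N25341 (iv F189746)) (tt N24218 F188462) (tt N25707 (iv F191850)) (tt N25936 (iv F192858)) (tt N23814 F188463) (tt N24211 F188464) (tt N25734 (iv F191999)) (tt N25937 D41864) (tt N23813 (iv D40831)))
theorem Q24906 : ∀ i, i < 24906 → P i := stepQ 24905 Q24905 (allL N24905 (tt N23834 F188465) (tt N25342 (iv F189752)) (tt N24223 F188466) (tt N25847 (iv F192473)) (tt N23816 F188467) (tt N23817 F188468) (tt N24212 F188469) (tt N25736 (iv F192011)) (tt N25938 D41865) (tt N23815 (iv D40832)))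
theorem Q24907 : ∀ i, i < 24907 → P i := stepQ 24906 Q24906 (allL N24906 (tt N23835 F188470) (tt N25343 (iv F189760)) (tt N24226 F188471) (tt N25576 (iv F191148)) (tt N25938 (iv F192866)) (tt N25687 (iv F191739)) (tt N24213 F188472) (tt N25737 (iv F192017)) (tt N23816 (iv D40833)) (tt N25937 (iv F192863)))
theorem Q24908 : ∀ i, i < 24908 → P i := stepQ 24907 Q24907 (allL N24907 (tt N25721 (iv F191914)) (tt N23820 F188473) (tt N23861 F188474) (tt N25390 (iv F190055)) (tt N24237 F188475) (tt N25754 (iv F192083)) (tt N25329 (iv F189664)) (tt N23827 F188476) (tt N23818 (iv D40834)) (tt N25939 D41866))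
theorem Q24909 : ∀ i, i < 24909 → P i := stepQ 24908 Q24908 (allL N24908 (tt N25729 (iv F191959)) (tt N25393 (iv F190070)) (tt N25680 (iv F191689)) (tt N25496 (iv F190689)) (tt N23819 (iv D40835)) (tt N24908 F188477) (tt N25353 (iv F189827)) (tt N23828 F188478) (tt N25940 D41867) (tt N25704 (iv F191835)))
theorem Q24910 : ∀ i, i < 24910 → P i := stepQ 24909 Q24909 (allL N24909 (tt N25730 (iv F191967)) (tt N25390 (iv F190054)) (tt N25681 (iv F191696)) (tt N23820 F188479) (tt N25940 (iv F192873)) (tt N25611 (iv F191339)) (tt N25350 (iv F189808)) (tt N23829 F188480) (tt N23819 (iv D40836)) (tt N25941 D41868))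
theorem Q24911 : ∀ i, i < 24911 → P i := stepQ 24910 Q24910 (allL N24910 (tt N25731 (iv F191974)) (tt N25939 (iv F192869)) (tt N23822 F188481) (tt N25941 (iv F192875)) (tt N25500 (iv F190715)) (tt N25876 (iv F192605)) (tt N25514 (iv F190795)) (tt N23830 F188482) (tt N25706 (iv F191847)) (tt N23820 (iv D40837)))
theorem Q24912 : ∀ i, i < 24912 → P i := stepQ 24911 Q24911 (allL N24911 (tt N25732 (iv F191981)) (tt N23873 F188483) (tt N25873 (iv F192593)) (tt N25889 (iv F192656)) (tt N23821 (iv D40838)) (tt N25505 (iv F190746)) (tt N25942 D41869) (tt N23831 F188484) (tt N23823 F188485) (tt N25943 D41870))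
theorem Q24913 : ∀ i, i < 24913 → P i := stepQ 24912 Q24912 (allL N24912 (tt N25733 (iv F191987)) (tt N23874 F188486) (tt N25821 (iv F192362)) (tt N25684 (iv F191716)) (tt N25942 (iv F192878)) (tt N25516 (iv F190806)) (tt N23821 (iv D40839)) (tt N25814 (iv F192330)) (tt N23824 F188487) (tt N25944 D41871))
theorem Q24914 : ∀ i, i < 24914 → P i := stepQ 24913 Q24913 (allL N24913 (tt N25734 (iv F191994)) (tt N23875 F188488) (tt N25876 (iv F192604)) (tt N25685 (iv F191722)) (tt N25943 (iv F192881)) (tt N23822 F188489) (tt N25944 (iv F192884)) (tt N23832 F188490) (tt N25945 D41872) (tt N23821 (iv D40840)))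
theorem Q24915 : ∀ i, i < 24915 → P i := stepQ 24914 Q24914 (allL N24914 (tt N25735 (iv F192000)) (tt N23876 F188491) (tt N25825 (iv F192376)) (tt N25892 (iv F192667)) (tt N23824 F188492) (tt N24914 F188493) (tt N23823 (iv D40841)) (tt N25816 (iv F192342)) (tt N25942 (iv F192879)) (tt N25770 (iv F192152)))
theorem Q24916 : ∀ i, i < 24916 → P i := stepQ 24915 Q24915 (allL N24915 (tt N25736 (iv F192006)) (tt N23877 F188494) (tt N25880 (iv F192621)) (tt N25893 (iv F192671)) (tt N23825 F188495) (tt N23826 F188496) (tt N25770 (iv F192151)) (tt N23834 F188497) (tt N25946 D41873) (tt N23823 (iv D40842)))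
theorem Q24917 : ∀ i, i < 24917 → P i := stepQ 24916 Q24916 (allL N24916 (tt N25737 (iv F192012)) (tt N23879 F188498) (tt N25882 (iv F192633)) (tt N25687 (iv F191737)) (tt N25946 (iv F192889)) (tt N25576 (iv F191150)) (tt N25768 (iv F192143)) (tt N23835 F188499) (tt N23825 (iv D40843)) (tt N25945 (iv F192887)))
theorem Q24918 : ∀ i, i < 24918 → P i := stepQ 24917 Q24917 (allL N24917 (tt N25777 (iv F192171)) (tt N23830 F188500) (tt N23884 F188501) (tt N25391 (iv F190060)) (tt N24238 F188502) (tt N25755 (iv F192087)) (tt N24128 F188503) (tt N25939 (iv F192872)) (tt N25703 (iv F191828)) (tt N23827 (iv D40844)))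
theorem Q24919 : ∀ i, i < 24919 → P i := stepQ 24918 Q24918 (allL N24918 (tt N25855 (iv F192509)) (tt N25388 (iv F190043)) (tt N25922 (iv F192801)) (tt N25743 (iv F192036)) (tt N23829 F188504) (tt N25947 D41874) (tt N24139 F188505) (tt N25940 (iv F192874)) (tt N23828 (iv D40845)) (tt N25948 D41875))
theorem Q24920 : ∀ i, i < 24920 → P i := stepQ 24919 Q24919 (allL N24919 (tt N25857 (iv F192514)) (tt N25391 (iv F190059)) (tt N25923 (iv F192804)) (tt N23830 F188506) (tt N25948 (iv F192892)) (tt N25612 (iv F191343)) (tt N24140 F188507) (tt N25941 (iv F192876)) (tt N25739 (iv F192023)) (tt N23829 (iv D40846)))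
theorem Q24921 : ∀ i, i < 24921 → P i := stepQ 24920 Q24920 (allL N24920 (tt N25928 (iv F192823)) (tt N23904 F188508) (tt N25949 D41876) (tt N23831 (iv D40847)) (tt N25832 F192404) (tt N25751 (iv F192071)) (tt N25866 (iv F192564)) (tt N25889 (iv F192657)) (tt N23833 F188509) (tt N25950 D41877))
theorem Q24922 : ∀ i, i < 24922 → P i := stepQ 24921 Q24921 (allL N24921 (tt N25936 (iv F192856)) (tt N23906 F188510) (tt N25874 (iv F192597)) (tt N25950 (iv F192896)) (tt N23832 F188511) (tt N25753 (iv F192080)) (tt N25867 (iv F192571)) (tt N25943 (iv F192882)) (tt N25951 D41878) (tt N23831 (iv D40848)))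
theorem Q24923 : ∀ i, i < 24923 → P i := stepQ 24922 Q24922 (allL N24922 (tt N25937 (iv F192860)) (tt N23909 F188512) (tt N25877 (iv F192608)) (tt N25925 (iv F192810)) (tt N25951 (iv F192898)) (tt N25742 (iv F192033)) (tt N25868 (iv F192576)) (tt N25945 (iv F192886)) (tt N23832 (iv D40849)) (tt N23835 F188513))
theorem Q24924 : ∀ i, i < 24924 → P i := stepQ 24923 Q24923 (allL N24923 (tt N25926 (iv F192812)) (tt N25806 (iv F192291)) (tt N23833 (iv D40850)) (tt N25878 (iv F192613)) (tt N25536 (iv F190936)) (tt N23836 F188514) (tt N25534 (iv F190923)) (tt N25887 (iv F192650)) (tt N25949 (iv F192894)) (tt N25533 F190916))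
theorem Q24925 : ∀ i, i < 24925 → P i := stepQ 24924 Q24924 (allL N24924 (tt N25847 (iv F192470)) (tt N23912 F188515) (tt N25533 (iv F190912)) (tt N23834 F188516) (tt N25529 (iv F190890)) (tt N23837 F188517) (tt N25528 F190885) (tt N25893 (iv F192674)) (tt N25952 D41879) (tt N23833 (iv D40851)))
theorem Q24926 : ∀ i, i < 24926 → P i := stepQ 24925 Q24925 (allL N24925 (tt N25938 (iv F192864)) (tt N23915 F188518) (tt N25881 (iv F192627)) (tt N25952 (iv F192901)) (tt N23835 F188519) (tt N25428 (iv F190269)) (tt N25869 (iv F192582)) (tt N25946 (iv F192890)) (tt N23834 (iv D40852)) (tt N25951 (iv F192899)))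
theorem Q24927 : ∀ i, i < 24927 → P i := stepQ 24926 Q24926 (allL N24926 (tt N25470 (iv F190535)) (tt N23840 F188520) (tt N25405 (iv F190146)) (tt N23839 F188521) (tt N25953 D41880) (tt N23838 (iv D40853)) (tt N23860 F188522) (tt N24148 F188523) (tt N25954 D41881) (tt N24147 F188524))
theorem Q24928 : ∀ i, i < 24928 → P i := stepQ 24927 Q24927 (allL N24927 (tt N25727 (iv F191945)) (tt N23842 F188525) (tt N25329 (iv F189660)) (tt N25954 (iv F192909)) (tt N24201 F188526) (tt N25649 (iv F191523)) (tt N23861 F188527) (tt N24149 F188528) (tt N23839 (iv D40854)) (tt N25955 D41882))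
theorem Q24929 : ∀ i, i < 24929 → P i := stepQ 24928 Q24928 (allL N24928 (tt N25355 (iv F189836)) (tt N25953 (iv F192902)) (tt N25689 (iv F191750)) (tt N25452 (iv F190428)) (tt N23840 (iv D40855)) (tt N24928 F188529) (tt N23865 F188530) (tt N24150 F188531) (tt N25956 D41883) (tt N25447 (iv F190394)))
theorem Q24930 : ∀ i, i < 24930 → P i := stepQ 24929 Q24929 (allL N24929 (tt N25356 (iv F189844)) (tt N25954 (iv F192908)) (tt N25690 (iv F191757)) (tt N23842 F188532) (tt N25956 (iv F192916)) (tt N25957 D41884) (tt N23866 F188533) (tt N24151 F188534) (tt N23840 (iv D40856)) (tt N25958 D41885))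
theorem Q24931 : ∀ i, i < 24931 → P i := stepQ 24930 Q24930 (allL N24930 (tt N25357 (iv F189850)) (tt N25643 (iv F191490)) (tt N25373 (iv F189946)) (tt N23843 F188535) (tt N25959 D41886) (tt N23841 (iv D40857)) (tt N25362 (iv F189886)) (tt N24152 F188536) (tt N25957 (iv F192921)) (tt N25361 F189880))
theorem Q24932 : ∀ i, i < 24932 → P i := stepQ 24931 Q24931 (allL N24931 (tt N25358 (iv F189857)) (tt N25649 (iv F191521)) (tt N23848 F188537) (tt N25957 (iv F192919)) (tt N25960 D41887) (tt N23842 (iv D40858)) (tt N25961 D41888) (tt N24154 F188538) (tt N23843 F188539) (tt N25962 D41889))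
theorem Q24933 : ∀ i, i < 24933 → P i := stepQ 24932 Q24932 (allL N24932 (tt N25359 (iv F189862)) (tt N25955 (iv F192912)) (tt N23849 F188540) (tt N25958 (iv F192922)) (tt N25456 (iv F190454)) (tt N25962 (iv F192934)) (tt N23868 F188541) (tt N24155 F188542) (tt N25449 (iv F190408)) (tt N23842 (iv D40859)))
theorem Q24934 : ∀ i, i < 24934 → P i := stepQ 24933 Q24933 (allL N24933 (tt N25360 (iv F189869)) (tt N25653 (iv F191538)) (tt N23850 F188543) (tt N25963 D41890) (tt N23843 (iv D40860)) (tt N23846 F188544) (tt N25964 D41891) (tt N24156 F188545) (tt N25960 (iv F192929)) (tt N25965 D41892))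
theorem Q24935 : ∀ i, i < 24935 → P i := stepQ 24934 Q24934 (allL N24934 (tt N25361 (iv F189874)) (tt N25560 (iv F191072)) (tt N23851 F188546) (tt N25362 (iv F189884)) (tt N25964 (iv F192939)) (tt N23845 F188547) (tt N23843 (iv D40861)) (tt N25547 (iv F191005)) (tt N25961 (iv F192932)) (tt N25357 (iv F189856)))
theorem Q24936 : ∀ i, i < 24936 → P i := stepQ 24935 Q24935 (allL N24935 (tt N25362 (iv F189881)) (tt N25655 (iv F191546)) (tt N23852 F188548) (tt N25361 (iv F189877)) (tt N25965 (iv F192942)) (tt N23844 F188549) (tt N25357 (iv F189854)) (tt N24157 F188550) (tt N25966 D41893) (tt N23843 (iv D40862)))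
theorem Q24937 : ∀ i, i < 24937 → P i := stepQ 24936 Q24936 (allL N24936 (tt N25363 (iv F189888)) (tt N25667 (iv F191599)) (tt N25967 D41894) (tt N23846 (iv D40863)) (tt N24936 F188551) (tt N25963 (iv F192936)) (tt N24936 F188552) (tt N24158 F188553) (tt N25460 (iv F190482)) (tt N25968 D41895))
theorem Q24938 : ∀ i, i < 24938 → P i := stepQ 24937 Q24937 (allL N24937 (tt N25364 (iv F189894)) (tt N25472 (iv F190548)) (tt N23855 F188554) (tt N25968 (iv F192952)) (tt N23847 F188555) (tt N25965 (iv F192943)) (tt N24937 F188556) (tt N24159 F188557) (tt N25969 D41896) (tt N23846 (iv D40864)))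
theorem Q24939 : ∀ i, i < 24939 → P i := stepQ 24938 Q24938 (allL N24938 (tt N25365 (iv F189900)) (tt N23857 F188558) (tt N23856 F188559) (tt N24938 F188560) (tt N25969 (iv F192958)) (tt N23938 F188561) (tt N24938 F188562) (tt N24160 F188563) (tt N23847 (iv D40865)) (tt N25462 (iv F190496)))
theorem Q24940 : ∀ i, i < 24940 → P i := stepQ 24939 Q24939 (allL N24939 (tt N25366 (iv F189908)) (tt N25515 (iv F190799)) (tt N25960 (iv F192927)) (tt N25970 D41897) (tt N23848 (iv D40866)) (tt N25463 (iv F190499)) (tt N25971 D41898) (tt N24161 F188564) (tt N23850 F188565) (tt N25972 D41899))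
theorem Q24941 : ∀ i, i < 24941 → P i := stepQ 24940 Q24940 (allL N24940 (tt N25367 (iv F189913)) (tt N25516 (iv F190804)) (tt N25961 (iv F192930)) (tt N25694 (iv F191783)) (tt N25971 (iv F192963)) (tt N23874 F188566) (tt N23848 (iv D40867)) (tt N25973 D41900) (tt N23851 F188567) (tt N25974 D41901))
theorem Q24942 : ∀ i, i < 24942 → P i := stepQ 24941 Q24941 (allL N24941 (tt N25368 (iv F189918)) (tt N25517 (iv F190809)) (tt N25962 (iv F192933)) (tt N25695 (iv F191788)) (tt N25972 (iv F192965)) (tt N23849 F188568) (tt N25974 (iv F192971)) (tt N24163 F188569) (tt N25975 D41902) (tt N23848 (iv D40868)))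
theorem Q24943 : ∀ i, i < 24943 → P i := stepQ 24942 Q24942 (allL N24942 (tt N25369 (iv F189923)) (tt N25518 (iv F190815)) (tt N25976 D41903) (tt N23850 (iv D40869)) (tt N25696 (iv F191794)) (tt N23854 F188570) (tt N25977 D41904) (tt N24164 F188571) (tt N25970 (iv F192962)) (tt N25978 D41905))
theorem Q24944 : ∀ i, i < 24944 → P i := stepQ 24943 Q24943 (allL N24943 (tt N25370 (iv F189928)) (tt N25519 (iv F190822)) (tt N25964 (iv F192938)) (tt N25977 (iv F192979)) (tt N23851 F188572) (tt N24943 F188573) (tt N23850 (iv D40870)) (tt N25979 D41906) (tt N25971 (iv F192964)) (tt N25746 (iv F192050)))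
theorem Q24945 : ∀ i, i < 24945 → P i := stepQ 24944 Q24944 (allL N24944 (tt N25371 (iv F189932)) (tt N23890 F188574) (tt N25965 (iv F192941)) (tt N25978 (iv F192982)) (tt N23852 F188575) (tt N23855 F188576) (tt N25746 (iv F192049)) (tt N24166 F188577) (tt N25980 D41907) (tt N23850 (iv D40871)))
theorem Q24946 : ∀ i, i < 24946 → P i := stepQ 24945 Q24945 (allL N24945 (tt N25372 (iv F189937)) (tt N25458 (iv F190464)) (tt N25547 (iv F191002)) (tt N25503 (iv F190734)) (tt N25979 (iv F192986)) (tt N23853 F188578) (tt N24167 F188579) (tt N23851 (iv D40872)) (tt N25973 (iv F192969)) (tt N25498 (iv F190706)))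
theorem Q24947 : ∀ i, i < 24947 → P i := stepQ 24946 Q24946 (allL N24946 (tt N25374 (iv F189951)) (tt N23888 F188580) (tt N25966 (iv F192945)) (tt N23883 F188581) (tt N25980 (iv F192990)) (tt N23882 F188582) (tt N25744 (iv F192041)) (tt N24169 F188583) (tt N23852 (iv D40873)) (tt N25975 (iv F192976)))
theorem Q24948 : ∀ i, i < 24948 → P i := stepQ 24947 Q24947 (allL N24947 (tt N25375 (iv F189956)) (tt N25969 (iv F192956)) (tt N23854 (iv D40874)) (tt N25967 (iv F192948)) (tt N23857 F188584) (tt N25976 (iv F192977)) (tt N24947 F188585) (tt N24172 F188586) (tt N25472 (iv F190552)) (tt N25981 D41908))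
theorem Q24949 : ∀ i, i < 24949 → P i := stepQ 24948 Q24948 (allL N24948 (tt N25376 (iv F189961)) (tt N23942 F188587) (tt N25981 (iv F192992)) (tt N23855 F188588) (tt N23858 F188589) (tt N25978 (iv F192984)) (tt N24948 F188590) (tt N24173 F188591) (tt N25549 (iv F191021)) (tt N23854 (iv D40875)))
theorem Q24950 : ∀ i, i < 24950 → P i := stepQ 24949 Q24949 (allL N24949 (tt N25377 (iv F189968)) (tt N23941 F188592) (tt N25969 (iv F192957)) (tt N25549 (iv F191017)) (tt N23856 F188593) (tt N25982 D41909) (tt N24949 F188594) (tt N24174 F188595) (tt N23855 (iv D40876)) (tt N25473 (iv F190560)))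
theorem Q24951 : ∀ i, i < 24951 → P i := stepQ 24950 Q24950 (allL N24950 (tt N25379 (iv F189983)) (tt N25462 (iv F190490)) (tt N23858 F188596) (tt N24950 F188597) (tt N25981 (iv F192993)) (tt N23930 F188598) (tt N24950 F188599) (tt N24175 F188600) (tt N24260 F188601) (tt N23857 (iv D40877)))
theorem Q24952 : ∀ i, i < 24952 → P i := stepQ 24951 Q24951 (allL N24951 (tt N25459 (iv F190470)) (tt N25657 (iv F191557)) (tt N23860 F188602) (tt N25387 (iv F190038)) (tt N25983 D41910) (tt N23859 (iv D40878)) (tt N25405 (iv F190149)) (tt N23880 F188603) (tt N25984 D41911) (tt N24053 F188604))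
theorem Q24953 : ∀ i, i < 24953 → P i := stepQ 24952 Q24952 (allL N24952 (tt N25468 (iv F190522)) (tt N23865 F188605) (tt N25983 (iv F193000)) (tt N24110 F188606) (tt N23860 (iv D40879)) (tt N23934 F188607) (tt N25953 (iv F192905)) (tt N23881 F188608) (tt N25985 D41912) (tt N24146 F188609))
theorem Q24954 : ∀ i, i < 24954 → P i := stepQ 24953 Q24953 (allL N24953 (tt N25471 (iv F190542)) (tt N23866 F188610) (tt N25984 (iv F193004)) (tt N23861 F188611) (tt N25985 (iv F193009)) (tt N24169 F188612) (tt N25954 (iv F192910)) (tt N23882 F188613) (tt N23860 (iv D40880)) (tt N25986 D41913))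
theorem Q24955 : ∀ i, i < 24955 → P i := stepQ 24954 Q24954 (allL N24954 (tt N25512 (iv F190782)) (tt N23867 F188614) (tt N25754 (iv F192082)) (tt N24169 F188615) (tt N25987 D41914) (tt N23861 (iv D40881)) (tt N25988 D41915) (tt N23883 F188616) (tt N23862 F188617) (tt N25989 D41916))
theorem Q24956 : ∀ i, i < 24956 → P i := stepQ 24955 Q24955 (allL N24955 (tt N25726 (iv F191940)) (tt N23868 F188618) (tt N25939 (iv F192870)) (tt N25986 (iv F193012)) (tt N24240 F188619) (tt N25989 (iv F193025)) (tt N25955 (iv F192914)) (tt N23884 F188620) (tt N25677 (iv F191673)) (tt N23861 (iv D40882)))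
theorem Q24957 : ∀ i, i < 24957 → P i := stepQ 24956 Q24956 (allL N24956 (tt N25439 (iv F190334)) (tt N23869 F188621) (tt N25759 (iv F192099)) (tt N25990 D41917) (tt N23862 (iv D40883)) (tt N23864 F188622) (tt N25991 D41918) (tt N23885 F188623) (tt N25987 (iv F193019)) (tt N24002 F188624))
theorem Q24958 : ∀ i, i < 24958 → P i := stepQ 24957 Q24957 (allL N24957 (tt N25511 (iv F190775)) (tt N23870 F188625) (tt N25510 (iv F190770)) (tt N24168 F188626) (tt N25991 (iv F193034)) (tt N23863 F188627) (tt N23862 (iv D40884)) (tt N25502 (iv F190729)) (tt N25988 (iv F193022)) (tt N24003 F188628))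
theorem Q24959 : ∀ i, i < 24959 → P i := stepQ 24958 Q24958 (allL N24958 (tt N25438 (iv F190327)) (tt N23872 F188629) (tt N25992 D41919) (tt N23864 (iv D40885)) (tt N23931 F188630) (tt N25990 (iv F193030)) (tt N24958 F188631) (tt N23886 F188632) (tt N23927 F188633) (tt N24005 F188634))
theorem Q24960 : ∀ i, i < 24960 → P i := stepQ 24959 Q24959 (allL N24959 (tt N25380 (iv F189991)) (tt N25985 (iv F193007)) (tt N25854 F192508) (tt N25810 (iv F192306)) (tt N23866 F188635) (tt N25993 D41920) (tt N25956 (iv F192917)) (tt N23887 F188636) (tt N23865 (iv D40886)) (tt N25994 D41921))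
theorem Q24961 : ∀ i, i < 24961 → P i := stepQ 24960 Q24960 (allL N24960 (tt N25381 (iv F189997)) (tt N25986 (iv F193011)) (tt N25861 (iv F192530)) (tt N23868 F188637) (tt N25994 (iv F193044)) (tt N25586 (iv F191210)) (tt N25958 (iv F192923)) (tt N23889 F188638) (tt N25583 (iv F191197)) (tt N23866 (iv D40887)))
theorem Q24962 : ∀ i, i < 24962 → P i := stepQ 24961 Q24961 (allL N24961 (tt N25382 (iv F190004)) (tt N25987 (iv F193016)) (tt N23873 F188639) (tt N25995 D41922) (tt N23867 (iv D40888)) (tt N25813 (iv F192324)) (tt N25996 D41923) (tt N23893 F188640) (tt N23869 F188641) (tt N25997 D41924))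
theorem Q24963 : ∀ i, i < 24963 → P i := stepQ 24962 Q24962 (allL N24962 (tt N25383 (iv F190010)) (tt N25988 (iv F193020)) (tt N23874 F188642) (tt N25482 (iv F190606)) (tt N25996 (iv F193049)) (tt N25961 (iv F192931)) (tt N23867 (iv D40889)) (tt N25998 D41925) (tt N23870 F188643) (tt N25999 D41926))
theorem Q24964 : ∀ i, i < 24964 → P i := stepQ 24963 Q24963 (allL N24963 (tt N25384 (iv F190015)) (tt N25989 (iv F193023)) (tt N23875 F188644) (tt N25586 (iv F191209)) (tt N25997 (iv F193052)) (tt N23868 F188645) (tt N25999 (iv F193058)) (tt N23895 F188646) (tt N25579 (iv F191172)) (tt N23867 (iv D40890)))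
theorem Q24965 : ∀ i, i < 24965 → P i := stepQ 24964 Q24964 (allL N24964 (tt N25385 (iv F190022)) (tt N25990 (iv F193028)) (tt N25623 (iv F191392)) (tt N23869 (iv D40891)) (tt N25588 (iv F191224)) (tt N23872 F188647) (tt N26000 D41927) (tt N23896 F188648) (tt N25995 (iv F193047)) (tt N25580 (iv F191178)))
theorem Q24966 : ∀ i, i < 24966 → P i := stepQ 24965 Q24965 (allL N24965 (tt N25386 (iv F190029)) (tt N25991 (iv F193033)) (tt N23876 F188649) (tt N26000 (iv F193059)) (tt N23870 F188650) (tt N24965 F188651) (tt N23869 (iv D40892)) (tt N26001 D41928) (tt N25996 (iv F193050)) (tt N25477 (iv F190581)))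
theorem Q24967 : ∀ i, i < 24967 → P i := stepQ 24966 Q24966 (allL N24966 (tt N25387 (iv F190035)) (tt N25502 (iv F190725)) (tt N23878 F188652) (tt N25459 (iv F190473)) (tt N26001 (iv F193062)) (tt N23871 F188653) (tt N23899 F188654) (tt N23870 (iv D40893)) (tt N25998 (iv F193056)) (tt N25454 (iv F190445)))
theorem Q24968 : ∀ i, i < 24968 → P i := stepQ 24967 Q24967 (allL N24967 (tt N25388 (iv F190042)) (tt N25942 (iv F192877)) (tt N25996 (iv F193048)) (tt N25900 (iv F192695)) (tt N23874 F188655) (tt N26002 D41929) (tt N23873 (iv D40894)) (tt N26003 D41930) (tt N23876 F188656) (tt N26004 D41931))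
theorem Q24969 : ∀ i, i < 24969 → P i := stepQ 24968 Q24968 (allL N24968 (tt N25389 (iv F190047)) (tt N25943 (iv F192880)) (tt N25997 (iv F193051)) (tt N25901 (iv F192699)) (tt N23875 F188657) (tt N25820 (iv F192359)) (tt N26004 (iv F193070)) (tt N23906 F188658) (tt N26005 D41932) (tt N23873 (iv D40895)))
theorem Q24970 : ∀ i, i < 24970 → P i := stepQ 24969 Q24969 (allL N24969 (tt N25390 (iv F190053)) (tt N25814 (iv F192328)) (tt N25998 (iv F193054)) (tt N25721 (iv F191916)) (tt N26003 (iv F193066)) (tt N25973 (iv F192967)) (tt N23907 F188659) (tt N23874 (iv D40896)) (tt N23878 F188660) (tt N26006 D41933))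
theorem Q24971 : ∀ i, i < 24971 → P i := stepQ 24970 Q24970 (allL N24970 (tt N25391 (iv F190058)) (tt N25944 (iv F192883)) (tt N25999 (iv F193057)) (tt N25777 (iv F192173)) (tt N26004 (iv F193069)) (tt N25974 (iv F192970)) (tt N23875 F188661) (tt N26006 (iv F193075)) (tt N25775 (iv F192163)) (tt N23874 (iv D40897)))
theorem Q24972 : ∀ i, i < 24972 → P i := stepQ 24971 Q24971 (allL N24971 (tt N25392 (iv F190062)) (tt N25945 (iv F192885)) (tt N25579 (iv F191168)) (tt N25776 (iv F192166)) (tt N26005 (iv F193071)) (tt N25577 (iv F191156)) (tt N25775 (iv F192162)) (tt N23909 F188662) (tt N23875 (iv D40898)) (tt N23879 F188663))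
theorem Q24973 : ∀ i, i < 24973 → P i := stepQ 24972 Q24972 (allL N24972 (tt N25393 (iv F190069)) (tt N25816 (iv F192338)) (tt N26001 (iv F193061)) (tt N25905 (iv F192712)) (tt N23878 F188664) (tt N24972 F188665) (tt N23913 F188666) (tt N23876 (iv D40899)) (tt N26003 (iv F193068)) (tt N25718 (iv F191904)))
theorem Q24974 : ∀ i, i < 24974 → P i := stepQ 24973 Q24973 (allL N24973 (tt N25395 (iv F190082)) (tt N25946 (iv F192888)) (tt N25578 (iv F191162)) (tt N25906 (iv F192717)) (tt N23879 F188667) (tt N25852 (iv F192497)) (tt N25774 (iv F192158)) (tt N23915 F188668) (tt N23877 (iv D40900)) (tt N26005 (iv F193073)))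
theorem Q24975 : ∀ i, i < 24975 → P i := stepQ 24974 Q24974 (allL N24974 (tt N25481 (iv F190597)) (tt N25926 (iv F192813)) (tt N23881 F188669) (tt N26007 D41934) (tt N23880 (iv D40901)) (tt N23937 F188670) (tt N24052 F188671) (tt N25983 (iv F193002)) (tt N26008 D41935) (tt N24051 F188672))
theorem Q24976 : ∀ i, i < 24976 → P i := stepQ 24975 Q24975 (allL N24975 (tt N25482 (iv F190603)) (tt N25927 (iv F192819)) (tt N23882 F188673) (tt N25383 (iv F190013)) (tt N26008 (iv F193082)) (tt N25966 (iv F192946)) (tt N24054 F188674) (tt N25984 (iv F193006)) (tt N23880 (iv D40902)) (tt N26009 D41936))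
theorem Q24977 : ∀ i, i < 24977 → P i := stepQ 24976 Q24976 (allL N24976 (tt N25494 (iv F190676)) (tt N23887 F188675) (tt N26008 (iv F193081)) (tt N24105 F188676) (tt N23882 F188677) (tt N26010 D41937) (tt N24104 F188678) (tt N25985 (iv F193010)) (tt N23881 (iv D40903)) (tt N26011 D41938))
theorem Q24978 : ∀ i, i < 24978 → P i := stepQ 24977 Q24977 (allL N24977 (tt N25491 (iv F190658)) (tt N23889 F188679) (tt N26009 (iv F193084)) (tt N23884 F188680) (tt N26011 (iv F193092)) (tt N25975 (iv F192974)) (tt N24227 F188681) (tt N25986 (iv F193014)) (tt N25451 (iv F190424)) (tt N23882 (iv D40904)))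
theorem Q24979 : ∀ i, i < 24979 → P i := stepQ 24978 Q24978 (allL N24978 (tt N25417 (iv F190211)) (tt N23893 F188682) (tt N25752 (iv F192074)) (tt N26012 D41939) (tt N23883 (iv D40905)) (tt N23905 F188683) (tt N25747 (iv F192055)) (tt N25987 (iv F193018)) (tt N23885 F188684) (tt N26013 D41940))
theorem Q24980 : ∀ i, i < 24980 → P i := stepQ 24979 Q24979 (allL N24979 (tt N25756 (iv F192089)) (tt N23895 F188685) (tt N25755 (iv F192086)) (tt N25975 (iv F192973)) (tt N26013 (iv F193098)) (tt N23884 F188686) (tt N25748 (iv F192060)) (tt N25989 (iv F193026)) (tt N25695 (iv F191791)) (tt N23883 (iv D40906)))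
theorem Q24981 : ∀ i, i < 24981 → P i := stepQ 24980 Q24980 (allL N24980 (tt N25437 (iv F190322)) (tt N23896 F188687) (tt N26014 D41941) (tt N23885 (iv D40907)) (tt N25978 (iv F192983)) (tt N23886 F188688) (tt N25749 (iv F192064)) (tt N25990 (iv F193031)) (tt N26012 (iv F193096)) (tt N25696 (iv F191797)))
theorem Q24982 : ∀ i, i < 24982 → P i := stepQ 24981 Q24981 (allL N24981 (tt N25436 (iv F190316)) (tt N25795 (iv F192252)) (tt N23886 (iv D40908)) (tt N25917 (iv F192778)) (tt N23930 F188689) (tt N26014 (iv F193100)) (tt N23920 F188690) (tt N25992 (iv F193039)) (tt N23926 F188691) (tt N25697 (iv F191805)))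
theorem Q24983 : ∀ i, i < 24983 → P i := stepQ 24982 Q24982 (allL N24982 (tt N25398 (iv F190102)) (tt N26010 (iv F193087)) (tt N25930 (iv F192832)) (tt N25862 (iv F192537)) (tt N26015 D41942) (tt N23887 (iv D40909)) (tt N26016 D41943) (tt N25993 (iv F193042)) (tt N23940 F188692) (tt N26017 D41944))
theorem Q24984 : ∀ i, i < 24984 → P i := stepQ 24983 Q24983 (allL N24983 (tt N25399 (iv F190107)) (tt N26011 (iv F193090)) (tt N25931 (iv F192835)) (tt N25863 (iv F192542)) (tt N23889 F188693) (tt N26017 (iv F193105)) (tt N24229 F188694) (tt N25994 (iv F193045)) (tt N25860 (iv F192528)) (tt N23887 (iv D40910)))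
theorem Q24985 : ∀ i, i < 24985 → P i := stepQ 24984 Q24984 (allL N24984 (tt N25400 (iv F190113)) (tt N25980 (iv F192989)) (tt N25563 F191094) (tt N26018 D41945) (tt N23888 (iv D40911)) (tt N26015 (iv F193101)) (tt N26019 D41946) (tt N25589 (iv F191231)) (tt N23890 F188695) (tt N26020 D41947))
theorem Q24986 : ∀ i, i < 24986 → P i := stepQ 24985 Q24985 (allL N24985 (tt N25401 (iv F190118)) (tt N25744 (iv F192039)) (tt N25840 (iv F192442)) (tt N23894 F188696) (tt N26019 (iv F193108)) (tt N24231 F188697) (tt N23888 (iv D40912)) (tt N26021 D41948) (tt N23891 F188698) (tt N26022 D41949))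
theorem Q24987 : ∀ i, i < 24987 → P i := stepQ 24986 Q24986 (allL N24986 (tt N25402 (iv F190124)) (tt N25975 (iv F192972)) (tt N25841 (iv F192447)) (tt N23895 F188699) (tt N26020 (iv F193110)) (tt N23889 F188700) (tt N26022 (iv F193116)) (tt N25586 (iv F191211)) (tt N25517 (iv F190813)) (tt N23888 (iv D40913)))
theorem Q24988 : ∀ i, i < 24988 → P i := stepQ 24987 Q24987 (allL N24987 (tt N25403 (iv F190131)) (tt N25978 (iv F192981)) (tt N25557 (iv F191056)) (tt N23890 (iv D40914)) (tt N23896 F188701) (tt N23942 F188702) (tt N26023 D41950) (tt N25588 (iv F191226)) (tt N26018 (iv F193107)) (tt N25518 (iv F190819)))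
theorem Q24989 : ∀ i, i < 24989 → P i := stepQ 24988 Q24988 (allL N24988 (tt N25404 (iv F190138)) (tt N25746 (iv F192047)) (tt N25569 (iv F191113)) (tt N26023 (iv F193117)) (tt N23891 F188703) (tt N24988 F188704) (tt N23890 (iv D40915)) (tt N26024 D41951) (tt N26019 (iv F193109)) (tt N25519 (iv F190825)))
theorem Q24990 : ∀ i, i < 24990 → P i := stepQ 24989 Q24989 (allL N24989 (tt N25405 (iv F190144)) (tt N25498 (iv F190701)) (tt N25470 (iv F190537)) (tt N23899 F188705) (tt N26024 (iv F193120)) (tt N23892 F188706) (tt N25459 (iv F190475)) (tt N23891 (iv D40916)) (tt N26021 (iv F193113)) (tt N25458 F190469))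
theorem Q24991 : ∀ i, i < 24991 → P i := stepQ 24990 Q24990 (allL N24990 (tt N25406 (iv F190151)) (tt N26012 (iv F193094)) (tt N26025 D41952) (tt N23893 (iv D40917)) (tt N26018 (iv F193106)) (tt N25866 (iv F192563)) (tt N26026 D41953) (tt N25995 (iv F193046)) (tt N23896 F188707) (tt N26027 D41954))
theorem Q24992 : ∀ i, i < 24992 → P i := stepQ 24991 Q24991 (allL N24991 (tt N25407 (iv F190155)) (tt N25747 (iv F192052)) (tt N23905 F188708) (tt N26026 (iv F193124)) (tt N23894 F188709) (tt N25752 (iv F192076)) (tt N23893 (iv D40918)) (tt N26028 D41955) (tt N23897 F188710) (tt N26029 D41956))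
theorem Q24993 : ∀ i, i < 24993 → P i := stepQ 24992 Q24992 (allL N24992 (tt N25408 (iv F190160)) (tt N26013 (iv F193097)) (tt N23906 F188711) (tt N26027 (iv F193126)) (tt N23895 F188712) (tt N25867 (iv F192570)) (tt N26029 (iv F193132)) (tt N25997 (iv F193053)) (tt N26030 D41957) (tt N23893 (iv D40919)))
theorem Q24994 : ∀ i, i < 24994 → P i := stepQ 24993 Q24993 (allL N24993 (tt N25409 (iv F190166)) (tt N25499 (iv F190708)) (tt N23907 F188713) (tt N26021 (iv F193111)) (tt N26028 (iv F193128)) (tt N24237 F188714) (tt N25998 (iv F193055)) (tt N23894 (iv D40920)) (tt N23899 F188715) (tt N26031 D41958))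
theorem Q24995 : ∀ i, i < 24995 → P i := stepQ 24994 Q24994 (allL N24994 (tt N25410 (iv F190171)) (tt N25748 (iv F192057)) (tt N23908 F188716) (tt N26022 (iv F193114)) (tt N26029 (iv F193131)) (tt N24238 F188717) (tt N23895 F188718) (tt N26031 (iv F193139)) (tt N26032 D41959) (tt N23894 (iv D40921)))
theorem Q24996 : ∀ i, i < 24996 → P i := stepQ 24995 Q24995 (allL N24995 (tt N24135 F188719) (tt N25695 (iv F191787)) (tt N23909 F188720) (tt N25517 (iv F190810)) (tt N26030 (iv F193135)) (tt N24122 F188721) (tt N26032 (iv F193142)) (tt N25579 (iv F191171)) (tt N23895 (iv D40922)) (tt N23901 F188722))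
theorem Q24997 : ∀ i, i < 24997 → P i := stepQ 24996 Q24996 (allL N24996 (tt N25411 (iv F190177)) (tt N25809 (iv F192301)) (tt N23896 (iv D40923)) (tt N23910 F188723) (tt N25557 (iv F191057)) (tt N23903 F188724) (tt N26033 D41960) (tt N25623 (iv F191395)) (tt N26025 (iv F193123)) (tt N23940 F188725))
theorem Q24998 : ∀ i, i < 24998 → P i := stepQ 24997 Q24997 (allL N24997 (tt N25412 (iv F190184)) (tt N25749 (iv F192062)) (tt N26033 (iv F193144)) (tt N23897 F188726) (tt N26023 (iv F193118)) (tt N23922 F188727) (tt N23896 (iv D40924)) (tt N26034 D41961) (tt N26026 (iv F193125)) (tt N25934 (iv F192848)))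
theorem Q24999 : ∀ i, i < 24999 → P i := stepQ 24998 Q24998 (allL N24998 (tt N25413 (iv F190189)) (tt N25501 (iv F190720)) (tt N23913 F188728) (tt N26034 (iv F193148)) (tt N23899 F188729) (tt N23923 F188730) (tt N26001 (iv F193064)) (tt N23897 (iv D40925)) (tt N26028 (iv F193129)) (tt N26035 D41962))
theorem Q25000 : ∀ i, i < 25000 → P i := stepQ 24999 Q24999 (allL N24999 (tt N24137 F188731) (tt N25432 (iv F190292)) (tt N23914 F188732) (tt N25934 (iv F192846)) (tt N23900 F188733) (tt N23924 F188734) (tt N23898 F188735) (tt N26035 (iv F193154)) (tt N26036 D41963) (tt N23897 (iv D40926)))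
theorem Q25001 : ∀ i, i < 25001 → P i := stepQ 25000 Q25000 (allL N25000 (tt N24133 F188736) (tt N25693 (iv F191775)) (tt N23915 F188737) (tt N25930 (iv F192833)) (tt N23901 F188738) (tt N25340 (iv F189741)) (tt N26036 (iv F193159)) (tt N25578 (iv F191164)) (tt N23898 (iv D40927)) (tt N26030 (iv F193136)))
theorem Q25002 : ∀ i, i < 25002 → P i := stepQ 25001 Q25001 (allL N25001 (tt N24138 F188739) (tt N25503 (iv F190732)) (tt N23916 F188740) (tt N25458 (iv F190466)) (tt N26035 (iv F193152)) (tt N23902 F188741) (tt N25454 (iv F190443)) (tt N23900 F188742) (tt N26037 D41964) (tt N23899 (iv D40928)))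
theorem Q25003 : ∀ i, i < 25003 → P i := stepQ 25002 Q25002 (allL N25002 (tt N24134 F188743) (tt N25694 (iv F191781)) (tt N23917 F188744) (tt N25516 (iv F190805)) (tt N26036 (iv F193157)) (tt N25684 (iv F191718)) (tt N23901 F188745) (tt N26037 (iv F193162)) (tt N23900 (iv D40929)) (tt N26032 (iv F193143)))
theorem Q25004 : ∀ i, i < 25004 → P i := stepQ 25003 Q25003 (allL N25003 (tt N25414 (iv F190195)) (tt N26038 D41965) (tt N23904 (iv D40930)) (tt N26025 (iv F193122)) (tt N25551 F191031) (tt N25870 (iv F192584)) (tt N26039 D41966) (tt N25638 (iv F191465)) (tt N23910 F188746) (tt N26040 D41967))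
theorem Q25005 : ∀ i, i < 25005 → P i := stepQ 25004 Q25004 (allL N25004 (tt N25415 (iv F190201)) (tt N25866 (iv F192561)) (tt N26039 (iv F193164)) (tt N23905 F188747) (tt N25624 (iv F191400)) (tt N26012 (iv F193095)) (tt N23904 (iv D40931)) (tt N26041 D41968) (tt N23911 F188748) (tt N26042 D41969))
theorem Q25006 : ∀ i, i < 25006 → P i := stepQ 25005 Q25005 (allL N25005 (tt N25416 (iv F190206)) (tt N25950 (iv F192895)) (tt N26040 (iv F193166)) (tt N23906 F188749) (tt N25837 (iv F192427)) (tt N25872 (iv F192591)) (tt N26042 (iv F193170)) (tt N25901 (iv F192701)) (tt N26043 D41970) (tt N23904 (iv D40932)))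
theorem Q25007 : ∀ i, i < 25007 → P i := stepQ 25006 Q25006 (allL N25006 (tt N25418 (iv F190216)) (tt N25813 (iv F192322)) (tt N26028 (iv F193127)) (tt N26041 (iv F193167)) (tt N23907 F188750) (tt N25987 (iv F193017)) (tt N26003 (iv F193067)) (tt N23905 (iv D40933)) (tt N23913 F188751) (tt N26044 D41971))
theorem Q25008 : ∀ i, i < 25008 → P i := stepQ 25007 Q25007 (allL N25007 (tt N25419 (iv F190219)) (tt N25867 (iv F192567)) (tt N26029 (iv F193130)) (tt N26042 (iv F193169)) (tt N23908 F188752) (tt N26013 (iv F193099)) (tt N23906 F188753) (tt N26044 (iv F193174)) (tt N26045 D41972) (tt N23905 (iv D40934)))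
theorem Q25009 : ∀ i, i < 25009 → P i := stepQ 25008 Q25008 (allL N25008 (tt N25420 (iv F190222)) (tt N25951 (iv F192897)) (tt N26030 (iv F193134)) (tt N26043 (iv F193171)) (tt N23909 F188754) (tt N26046 D41973) (tt N26045 (iv F193176)) (tt N26005 (iv F193072)) (tt N23906 (iv D40935)) (tt N23915 F188755))
theorem Q25010 : ∀ i, i < 25010 → P i := stepQ 25009 Q25009 (allL N25009 (tt N25421 (iv F190226)) (tt N25815 (iv F192333)) (tt N26031 (iv F193137)) (tt N25932 (iv F192838)) (tt N26044 (iv F193173)) (tt N24240 F188756) (tt N26006 (iv F193074)) (tt N23908 F188757) (tt N26047 D41974) (tt N23907 (iv D40936)))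
theorem Q25011 : ∀ i, i < 25011 → P i := stepQ 25010 Q25010 (allL N25010 (tt N25422 (iv F190229)) (tt N25868 (iv F192573)) (tt N26032 (iv F193141)) (tt N25933 (iv F192841)) (tt N26045 (iv F193175)) (tt N25897 (iv F192688)) (tt N23909 F188758) (tt N26047 (iv F193179)) (tt N23908 (iv D40937)) (tt N23917 F188759))
theorem Q25012 : ∀ i, i < 25012 → P i := stepQ 25011 Q25011 (allL N25011 (tt N25634 (iv F191446)) (tt N23910 (iv D40938)) (tt N25806 (iv F192292)) (tt N25809 (iv F192302)) (tt N25543 (iv F190983)) (tt N23918 F188760) (tt N25791 (iv F192238)) (tt N25631 (iv F191434)) (tt N26038 (iv F193163)) (tt N24117 F188761))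
theorem Q25013 : ∀ i, i < 25013 → P i := stepQ 25012 Q25012 (allL N25012 (tt N25423 (iv F190233)) (tt N25791 (iv F192234)) (tt N23911 F188762) (tt N26033 (iv F193145)) (tt N25553 (iv F191040)) (tt N23926 F188763) (tt N23910 (iv D40939)) (tt N26048 D41975) (tt N26039 (iv F193165)) (tt N25783 (iv F192208)))
theorem Q25014 : ∀ i, i < 25014 → P i := stepQ 25013 Q25013 (allL N25013 (tt N25424 (iv F190239)) (tt N25604 (iv F191302)) (tt N26048 (iv F193181)) (tt N23913 F188764) (tt N25538 (iv F190950)) (tt N23927 F188765) (tt N25905 (iv F192715)) (tt N23911 (iv D40940)) (tt N26041 (iv F193168)) (tt N25594 (iv F191253)))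
theorem Q25015 : ∀ i, i < 25015 → P i := stepQ 25014 Q25014 (allL N25014 (tt N25425 (iv F190245)) (tt N25528 (iv F190879)) (tt N25783 (iv F192204)) (tt N23914 F188766) (tt N25523 (iv F190850)) (tt N23928 F188767) (tt N23912 F188768) (tt N25594 (iv F191252)) (tt N26049 D41976) (tt N23911 (iv D40941)))
theorem Q25016 : ∀ i, i < 25016 → P i := stepQ 25015 Q25015 (allL N25015 (tt N25426 (iv F190252)) (tt N25952 (iv F192900)) (tt N25862 (iv F192536)) (tt N23915 F188769) (tt N25838 (iv F192433)) (tt N25596 (iv F191265)) (tt N26049 (iv F193186)) (tt N25906 (iv F192719)) (tt N23912 (iv D40942)) (tt N26043 (iv F193172)))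
theorem Q25017 : ∀ i, i < 25017 → P i := stepQ 25016 Q25016 (allL N25016 (tt N25427 (iv F190259)) (tt N25602 (iv F191291)) (tt N26035 (iv F193151)) (tt N25594 (iv F191250)) (tt N23916 F188770) (tt N23929 F188771) (tt N25718 (iv F191902)) (tt N23914 F188772) (tt N26050 D41977) (tt N23913 (iv D40943)))
theorem Q25018 : ∀ i, i < 25018 → P i := stepQ 25017 Q25017 (allL N25017 (tt N25428 (iv F190265)) (tt N25869 (iv F192579)) (tt N26036 (iv F193156)) (tt N26049 (iv F193185)) (tt N23917 F188773) (tt N25938 (iv F192867)) (tt N23915 F188774) (tt N26050 (iv F193188)) (tt N23914 (iv D40944)) (tt N26045 (iv F193177)))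
theorem Q25019 : ∀ i, i < 25019 → P i := stepQ 25018 Q25018 (allL N25018 (tt N25346 (iv F189780)) (tt N25428 (iv F190266)) (tt N25340 (iv F189739)) (tt N25596 (iv F191263)) (tt N25338 (iv F189727)) (tt N23915 (iv D40945)) (tt N25354 (iv F189834)) (tt N25852 (iv F192498)) (tt N23919 F188775) (tt N26046 (iv F193178)))
theorem Q25020 : ∀ i, i < 25020 → P i := stepQ 25019 Q25019 (allL N25019 (tt N25429 (iv F190271)) (tt N25817 (iv F192344)) (tt N26037 (iv F193161)) (tt N25719 (iv F191908)) (tt N26050 (iv F193187)) (tt N25835 (iv F192419)) (tt N25716 F191898) (tt N23917 F188776) (tt N23916 (iv D40946)) (tt N26047 (iv F193180)))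
theorem Q25021 : ∀ i, i < 25021 → P i := stepQ 25020 Q25020 (allL N25020 (tt N25434 (iv F190304)) (tt N25794 (iv F192247)) (tt N23922 F188777) (tt N23926 F188778) (tt N25020 F188779) (tt N26033 (iv F193146)) (tt N23921 (iv D40947)) (tt N26051 D41978) (tt N25917 (iv F192780)) (tt N23945 F188780))
theorem Q25022 : ∀ i, i < 25022 → P i := stepQ 25021 Q25021 (allL N25021 (tt N25435 (iv F190310)) (tt N25504 (iv F190739)) (tt N26051 (iv F193189)) (tt N23923 F188781) (tt N25021 F188782) (tt N26034 (iv F193149)) (tt N25021 F188783) (tt N23922 (iv D40948)) (tt N25918 (iv F192786)) (tt N25935 (iv F192855)))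
theorem Q25023 : ∀ i, i < 25023 → P i := stepQ 25022 Q25022 (allL N25022 (tt N24246 F188784) (tt N25433 (iv F190298)) (tt N23929 F188785) (tt N25935 (iv F192851)) (tt N23925 F188786) (tt N26035 (iv F193153)) (tt N25022 F188787) (tt N23924 F188788) (tt N24250 F188789) (tt N23923 (iv D40949)))
theorem Q25024 : ∀ i, i < 25024 → P i := stepQ 25023 Q25023 (allL N25023 (tt N25440 (iv F190339)) (tt N25364 (iv F189895)) (tt N23927 F188790) (tt N26051 (iv F193190)) (tt N23932 F188791) (tt N26048 (iv F193183)) (tt N25023 F188792) (tt N23926 (iv D40950)) (tt N25992 (iv F193040)) (tt N24261 F188793))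
theorem Q25025 : ∀ i, i < 25025 → P i := stepQ 25024 Q25024 (allL N25024 (tt N25378 (iv F189975)) (tt N25365 (iv F189901)) (tt N23931 F188794) (tt N25024 F188795) (tt N25992 (iv F193037)) (tt N24175 F188796) (tt N25024 F188797) (tt N23930 (iv D40951)) (tt N23932 F188798) (tt N24006 F188799))
theorem Q25026 : ∀ i, i < 25026 → P i := stepQ 25025 Q25025 (allL N25025 (tt N25461 (iv F190483)) (tt N25668 (iv F191605)) (tt N23934 F188800) (tt N26052 D41979) (tt N23933 (iv D40952)) (tt N25983 (iv F193001)) (tt N25025 F188801) (tt N23937 F188802) (tt N26053 D41980) (tt N24113 F188803))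
theorem Q25027 : ∀ i, i < 25027 → P i := stepQ 25026 Q25026 (allL N25026 (tt N25462 (iv F190489)) (tt N24006 F188804) (tt N23935 F188805) (tt N25026 F188806) (tt N26053 (iv F193202)) (tt N24160 F188807) (tt N25026 F188808) (tt N23938 F188809) (tt N23933 (iv D40953)) (tt N25365 (iv F189907)))
theorem Q25028 : ∀ i, i < 25028 → P i := stepQ 25027 Q25027 (allL N25027 (tt N25473 (iv F190554)) (tt N23936 F188810) (tt N26053 (iv F193201)) (tt N24118 F188811) (tt N23935 F188812) (tt N26054 D41981) (tt N25027 F188813) (tt N23939 F188814) (tt N23934 (iv D40954)) (tt N25377 (iv F189974)))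
theorem Q25029 : ∀ i, i < 25029 → P i := stepQ 25028 Q25028 (allL N25028 (tt N25442 (iv F190353)) (tt N26054 (iv F193205)) (tt N25580 F191179) (tt N25642 (iv F191485)) (tt N25587 (iv F191215)) (tt N23936 (iv D40955)) (tt N26055 D41982) (tt N23940 F188815) (tt N25993 (iv F193043)) (tt N25623 (iv F191396)))
theorem Q25030 : ∀ i, i < 25030 → P i := stepQ 25029 Q25029 (allL N25029 (tt N25484 (iv F190615)) (tt N24243 F188816) (tt N24115 F188817) (tt N23937 (iv D40956)) (tt N25029 F188818) (tt N26007 (iv F193078)) (tt N23943 F188819) (tt N26052 (iv F193198)) (tt N25913 (iv F192757)) (tt N24112 F188820))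
theorem Q25031 : ∀ i, i < 25031 → P i := stepQ 25030 Q25030 (allL N25030 (tt N25485 (iv F190622)) (tt N25697 (iv F191799)) (tt N23939 F188821) (tt N25913 (iv F192755)) (tt N23938 F188822) (tt N26056 D41983) (tt N23944 F188823) (tt N26053 (iv F193204)) (tt N23937 (iv D40957)) (tt N25795 (iv F192256)))
theorem Q25032 : ∀ i, i < 25032 → P i := stepQ 25031 Q25031 (allL N25031 (tt N25495 (iv F190681)) (tt N23940 F188824) (tt N26056 (iv F193210)) (tt N24117 F188825) (tt N25982 (iv F192998)) (tt N23939 (iv D40958)) (tt N25790 (iv F192232)) (tt N26054 (iv F193208)) (tt N26010 (iv F193089)) (tt N25809 (iv F192303)))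
theorem Q25033 : ∀ i, i < 25033 → P i := stepQ 25032 Q25032 (allL N25032 (tt N25443 (iv F190360)) (tt N25982 (iv F192997)) (tt N25518 F190820) (tt N25559 (iv F191067)) (tt N23940 (iv D40959)) (tt N23941 F188826) (tt N26057 D41984) (tt N25587 (iv F191217)) (tt N26015 (iv F193102)) (tt N25557 F191060))
theorem Q25034 : ∀ i, i < 25034 → P i := stepQ 25033 Q25033 (allL N25033 (tt N25444 (iv F190367)) (tt N25790 (iv F192230)) (tt N25934 (iv F192845)) (tt N25783 F192209) (tt N26057 (iv F193211)) (tt N23945 F188827) (tt N23940 (iv D40960)) (tt N26058 D41985) (tt N26016 (iv F193104)) (tt N26033 (iv F193147)))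
theorem Q25035 : ∀ i, i < 25035 → P i := stepQ 25034 Q25034 (allL N25034 (tt N25445 (iv F190372)) (tt N25363 (iv F189889)) (tt N25935 (iv F192850)) (tt N24261 F188828) (tt N25034 F188829) (tt N26058 (iv F193214)) (tt N25034 F188830) (tt N23945 (iv D40961)) (tt N24242 F188831) (tt N26051 (iv F193193)))
theorem Q25036 : ∀ i, i < 25036 → P i := stepQ 25035 Q25035 (allL N25035 (tt N25719 (iv F191905)) (tt N23947 F188832) (tt N25446 (iv F190381)) (tt N25429 (iv F190274)) (tt N25522 (iv F190843)) (tt N25848 (iv F192480)) (tt N25675 F191660) (tt N25332 (iv F189687)) (tt N23946 (iv D40962)) (tt N26059 D41986))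
theorem Q25037 : ∀ i, i < 25037 → P i := stepQ 25036 Q25036 (allL N25036 (tt N23986 F188833) (tt N26059 (iv F193215)) (tt N23948 F188834) (tt N25853 (iv F192502)) (tt N25527 (iv F190874)) (tt N25851 (iv F192492)) (tt N25706 (iv F191845)) (tt N25581 (iv F191184)) (tt N25514 (iv F190797)) (tt N23947 (iv D40963)))
theorem Q25038 : ∀ i, i < 25038 → P i := stepQ 25037 Q25037 (allL N25037 (tt N25865 (iv F192552)) (tt N23950 F188835) (tt N24009 F188836) (tt N24213 F188837) (tt N24058 F188838) (tt N24236 F188839) (tt N25576 (iv F191151)) (tt N23981 F188840) (tt N23949 (iv D40964)) (tt N26060 D41987))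
theorem Q25039 : ∀ i, i < 25039 → P i := stepQ 25038 Q25038 (allL N25038 (tt N25581 (iv F191180)) (tt N26060 (iv F193216)) (tt N23953 F188841) (tt N25347 (iv F189789)) (tt N24063 F188842) (tt N25345 (iv F189776)) (tt N25577 (iv F191157)) (tt N23986 F188843) (tt N24045 F188844) (tt N23950 (iv D40965)))
theorem Q25040 : ∀ i, i < 25040 → P i := stepQ 25039 Q25039 (allL N25039 (tt N25582 (iv F191186)) (tt N24024 F188845) (tt N25344 (iv F189767)) (tt N24196 F188846) (tt N23952 (iv D40966)) (tt N24068 F188847) (tt N25474 (iv F190565)) (tt N23988 F188848) (tt N23954 F188849) (tt N26061 D41988))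
theorem Q25041 : ∀ i, i < 25041 → P i := stepQ 25040 Q25040 (allL N25040 (tt N25583 (iv F191192)) (tt N24026 F188850) (tt N25345 (iv F189774)) (tt N24124 F188851) (tt N26061 (iv F193225)) (tt N23953 F188852) (tt N25476 (iv F190575)) (tt N23989 F188853) (tt N25381 (iv F190003)) (tt N23952 (iv D40967)))
theorem Q25042 : ∀ i, i < 25042 → P i := stepQ 25041 Q25041 (allL N25041 (tt N25597 (iv F191267)) (tt N23957 F188854) (tt N24041 F188855) (tt N24062 F188856) (tt N23981 F188857) (tt N24061 F188858) (tt N25672 (iv F191638)) (tt N24058 F188859) (tt N23955 (iv D40968)) (tt N26062 D41989))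
theorem Q25043 : ∀ i, i < 25043 → P i := stepQ 25042 Q25042 (allL N25042 (tt N25524 (iv F190854)) (tt N24064 F188860) (tt N24177 F188861) (tt N23983 F188862) (tt N23956 (iv D40969)) (tt N24059 F188863) (tt N25673 (iv F191645)) (tt N24060 F188864) (tt N26063 D41990) (tt N24012 F188865))
theorem Q25044 : ∀ i, i < 25044 → P i := stepQ 25043 Q25043 (allL N25043 (tt N25525 (iv F190861)) (tt N24062 F188866) (tt N24178 F188867) (tt N23957 F188868) (tt N26063 (iv F193238)) (tt N24058 F188869) (tt N25674 (iv F191652)) (tt N24061 F188870) (tt N23956 (iv D40970)) (tt N26064 D41991))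
theorem Q25045 : ∀ i, i < 25045 → P i := stepQ 25044 Q25044 (allL N25044 (tt N25526 (iv F190867)) (tt N24061 F188871) (tt N23960 F188872) (tt N24058 F188873) (tt N26065 D41992) (tt N23957 (iv D40971)) (tt N25848 (iv F192481)) (tt N24062 F188874) (tt N23958 F188875) (tt N26066 D41993))
theorem Q25046 : ∀ i, i < 25046 → P i := stepQ 25045 Q25045 (allL N25045 (tt N25527 (iv F190872)) (tt N26062 (iv F193228)) (tt N23961 F188876) (tt N26064 (iv F193243)) (tt N23986 F188877) (tt N26066 (iv F193256)) (tt N25676 (iv F191664)) (tt N24063 F188878) (tt N24016 F188879) (tt N23957 (iv D40972)))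
theorem Q25047 : ∀ i, i < 25047 → P i := stepQ 25046 Q25046 (allL N25046 (tt N25528 (iv F190878)) (tt N24060 F188880) (tt N23962 F188881) (tt N24212 F188882) (tt N23958 (iv D40973)) (tt N23959 F188883) (tt N25847 (iv F192475)) (tt N24064 F188884) (tt N26065 (iv F193252)) (tt N24084 F188885))
theorem Q25048 : ∀ i, i < 25048 → P i := stepQ 25047 Q25047 (allL N25047 (tt N25530 (iv F190894)) (tt N24047 F188886) (tt N26065 (iv F193248)) (tt N24228 (iv F188890)) (tt N23960 (iv D40974)) (tt N23988 F188887) (tt N26067 D41994) (tt N24068 F188888) (tt N23962 F188889) (tt N26068 D41995))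
theorem Q25049 : ∀ i, i < 25049 → P i := stepQ 25048 Q25048 (allL N25048 (tt N25531 (iv F190900)) (tt N24048 F188891) (tt N25848 (iv F192478)) (tt N24184 F188892) (tt N26067 (iv F193261)) (tt N25446 (iv F190384)) (tt N23960 (iv D40975)) (tt N26069 D41996) (tt N23963 F188893) (tt N26070 D41997))
theorem Q25050 : ∀ i, i < 25050 → P i := stepQ 25049 Q25049 (allL N25049 (tt N25532 (iv F190905)) (tt N24049 F188894) (tt N26066 (iv F193254)) (tt N24185 F188895) (tt N26068 (iv F193265)) (tt N23961 F188896) (tt N26070 (iv F193275)) (tt N24070 F188897) (tt N26071 D41998) (tt N23960 (iv D40976)))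
theorem Q25051 : ∀ i, i < 25051 → P i := stepQ 25050 Q25050 (allL N25050 (tt N25533 (iv F190910)) (tt N24051 F188898) (tt N25847 (iv F192472)) (tt N24241 F188899) (tt N23963 F188900) (tt N23990 F188901) (tt N23962 (iv D40977)) (tt N26072 D41999) (tt N26067 (iv F193262)) (tt N25926 (iv F192817)))
theorem Q25052 : ∀ i, i < 25052 → P i := stepQ 25051 Q25051 (allL N25051 (tt N25534 (iv F190917)) (tt N24052 F188902) (tt N24084 F188903) (tt N24220 F188904) (tt N23964 F188905) (tt N23966 F188906) (tt N25926 (iv F192816)) (tt N24073 F188907) (tt N26073 D42000) (tt N23962 (iv D40978)))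
theorem Q25053 : ∀ i, i < 25053 → P i := stepQ 25052 Q25052 (allL N25052 (tt N25535 (iv F190925)) (tt N24053 F188908) (tt N25333 (iv F189690)) (tt N24189 F188909) (tt N26072 (iv F193284)) (tt N23965 F188910) (tt N24074 F188911) (tt N23963 (iv D40979)) (tt N26069 (iv F193272)) (tt N25657 (iv F191562)))
theorem Q25054 : ∀ i, i < 25054 → P i := stepQ 25053 Q25053 (allL N25053 (tt N25537 (iv F190940)) (tt N24054 F188912) (tt N24085 F188913) (tt N24191 F188914) (tt N26073 (iv F193290)) (tt N24032 F188915) (tt N25927 (iv F192822)) (tt N24076 F188916) (tt N23964 (iv D40980)) (tt N26071 (iv F193281)))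
theorem Q25055 : ∀ i, i < 25055 → P i := stepQ 25054 Q25054 (allL N25054 (tt N25811 (iv F192309)) (tt N23969 F188917) (tt N24058 F188918) (tt N24179 F188919) (tt N24009 F188920) (tt N24178 F188921) (tt N25728 (iv F191957)) (tt N24041 F188922) (tt N23967 (iv D40981)) (tt N26074 D42001))
theorem Q25056 : ∀ i, i < 25056 → P i := stepQ 25055 Q25055 (allL N25055 (tt N25353 (iv F189821)) (tt N24181 F188923) (tt N24130 F188924) (tt N24012 F188925) (tt N23968 (iv D40982)) (tt N24119 F188926) (tt N25729 (iv F191964)) (tt N24042 F188927) (tt N26075 D42002) (tt N23983 F188928))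
theorem Q25057 : ∀ i, i < 25057 → P i := stepQ 25056 Q25056 (allL N25056 (tt N25350 (iv F189803)) (tt N24179 F188929) (tt N24131 F188930) (tt N23969 F188931) (tt N26075 (iv F193302)) (tt N24176 F188932) (tt N25730 (iv F191972)) (tt N24043 F188933) (tt N23968 (iv D40983)) (tt N26076 D42003))
theorem Q25058 : ∀ i, i < 25058 → P i := stepQ 25057 Q25057 (allL N25057 (tt N25489 (iv F190645)) (tt N24178 F188934) (tt N23973 F188935) (tt N24176 F188936) (tt N26077 D42004) (tt N23969 (iv D40984)) (tt N26078 D42005) (tt N24044 F188937) (tt N23970 F188938) (tt N26079 D42006))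
theorem Q25059 : ∀ i, i < 25059 → P i := stepQ 25058 Q25058 (allL N25058 (tt N25514 (iv F190792)) (tt N26074 (iv F193292)) (tt N23974 F188939) (tt N26076 (iv F193307)) (tt N24016 F188940) (tt N26079 (iv F193326)) (tt N25731 (iv F191978)) (tt N24045 F188941) (tt N23986 F188942) (tt N23969 (iv D40985)))
theorem Q25060 : ∀ i, i < 25060 → P i := stepQ 25059 Q25059 (allL N25059 (tt N25493 (iv F190669)) (tt N24177 F188943) (tt N23975 F188944) (tt N24029 F188945) (tt N23970 (iv D40986)) (tt N23972 F188946) (tt N26080 D42007) (tt N24046 F188947) (tt N26077 (iv F193316)) (tt N24027 F188948))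
theorem Q25061 : ∀ i, i < 25061 → P i := stepQ 25060 Q25060 (allL N25060 (tt N25469 (iv F190528)) (tt N24142 F188949) (tt N23976 F188950) (tt N24141 F188951) (tt N26080 (iv F193332)) (tt N23971 F188952) (tt N23970 (iv D40987)) (tt N24147 F188953) (tt N26078 (iv F193322)) (tt N24148 F188954))
theorem Q25062 : ∀ i, i < 25062 → P i := stepQ 25061 Q25061 (allL N25061 (tt N25515 (iv F190798)) (tt N24068 F188955) (tt N26077 (iv F193312)) (tt N26081 D42008) (tt N23973 (iv D40988)) (tt N24024 F188956) (tt N26082 D42009) (tt N24047 F188957) (tt N23975 F188958) (tt N26083 D42010))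
theorem Q25063 : ∀ i, i < 25063 → P i := stepQ 25062 Q25062 (allL N25062 (tt N25516 (iv F190803)) (tt N24069 F188959) (tt N26078 (iv F193318)) (tt N24134 F188960) (tt N26082 (iv F193342)) (tt N25733 (iv F191991)) (tt N23973 (iv D40989)) (tt N26084 D42011) (tt N23976 F188961) (tt N26085 D42012))
theorem Q25064 : ∀ i, i < 25064 → P i := stepQ 25063 Q25063 (allL N25063 (tt N25517 (iv F190808)) (tt N24070 F188962) (tt N26079 (iv F193324)) (tt N24135 F188963) (tt N26083 (iv F193345)) (tt N23974 F188964) (tt N26085 (iv F193356)) (tt N24049 F188965) (tt N25402 (iv F190130)) (tt N23973 (iv D40990)))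
theorem Q25065 : ∀ i, i < 25065 → P i := stepQ 25064 Q25064 (allL N25064 (tt N25518 (iv F190814)) (tt N24071 F188966) (tt N25443 (iv F190362)) (tt N23975 (iv D40991)) (tt N24136 F188967) (tt N23978 F188968) (tt N26086 D42013) (tt N24050 F188969) (tt N26081 (iv F193340)) (tt N25403 (iv F190137)))
theorem Q25066 : ∀ i, i < 25066 → P i := stepQ 25065 Q25065 (allL N25065 (tt N25519 (iv F190821)) (tt N24072 F188970) (tt N26080 (iv F193330)) (tt N26086 (iv F193358)) (tt N23976 F188971) (tt N25065 F188972) (tt N23975 (iv D40992)) (tt N26087 D42014) (tt N26082 (iv F193343)) (tt N25404 (iv F190143)))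
theorem Q25067 : ∀ i, i < 25067 → P i := stepQ 25066 Q25066 (allL N25066 (tt N25458 (iv F190463)) (tt N24074 F188973) (tt N24147 F188974) (tt N24138 F188975) (tt N26087 (iv F193363)) (tt N23977 F188976) (tt N24053 F188977) (tt N23976 (iv D40993)) (tt N26084 (iv F193353)) (tt N25405 (iv F190150)))
theorem Q25068 : ∀ i, i < 25068 → P i := stepQ 25067 Q25067 (allL N25067 (tt N23981 F188978) (tt N25719 (iv F191906)) (tt N24082 F188979) (tt N25817 (iv F192346)) (tt N25597 F191273) (tt N25838 (iv F192434)) (tt N25713 F191888) (tt N25865 (iv F192559)) (tt N23979 (iv D40994)) (tt N26088 D42015))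
theorem Q25069 : ∀ i, i < 25069 → P i := stepQ 25068 Q25068 (allL N25068 (tt N25602 (iv F191290)) (tt N23983 F188980) (tt N24188 F188981) (tt N24064 F188982) (tt N23980 (iv D40995)) (tt N24066 F188983) (tt N25919 (iv F192792)) (tt N24212 F188984) (tt N26089 D42016) (tt N24181 F188985))
theorem Q25070 : ∀ i, i < 25070 → P i := stepQ 25069 Q25069 (allL N25069 (tt N25817 (iv F192343)) (tt N23984 F188986) (tt N24191 F188987) (tt N23981 F188988) (tt N26089 (iv F193371)) (tt N24200 F188989) (tt N25920 (iv F192797)) (tt N24213 F188990) (tt N23980 (iv D40996)) (tt N26090 D42017))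
theorem Q25071 : ∀ i, i < 25071 → P i := stepQ 25070 Q25070 (allL N25070 (tt N25838 (iv F192430)) (tt N23985 F188991) (tt N24086 F188992) (tt N24200 F188993) (tt N25426 (iv F190256)) (tt N23981 (iv D40997)) (tt N25591 (iv F191240)) (tt N24236 F188994) (tt N23982 F188995) (tt N26091 D42018))
theorem Q25072 : ∀ i, i < 25072 → P i := stepQ 25071 Q25071 (allL N25071 (tt N26088 (iv F193366)) (tt N23986 F188996) (tt N24087 F188997) (tt N26090 (iv F193376)) (tt N26062 (iv F193231)) (tt N26091 (iv F193383)) (tt N25921 (iv F192800)) (tt N26060 (iv F193221)) (tt N26074 (iv F193298)) (tt N23981 (iv D40998)))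
theorem Q25073 : ∀ i, i < 25073 → P i := stepQ 25072 Q25072 (allL N25072 (tt N25852 (iv F192495)) (tt N26089 (iv F193368)) (tt N24139 F188998) (tt N26063 (iv F193237)) (tt N23984 F188999) (tt N25395 (iv F190087)) (tt N25922 (iv F192803)) (tt N25346 (iv F189785)) (tt N23983 (iv D40999)) (tt N26092 D42019))
theorem Q25074 : ∀ i, i < 25074 → P i := stepQ 25073 Q25073 (allL N25073 (tt N25853 (iv F192500)) (tt N26090 (iv F193374)) (tt N24140 F189000) (tt N23986 F189001) (tt N26092 (iv F193387)) (tt N24206 F189002) (tt N25923 (iv F192806)) (tt N25347 (iv F189791)) (tt N26076 (iv F193310)) (tt N23984 (iv D41000)))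
theorem Q25075 : ∀ i, i < 25075 → P i := stepQ 25074 Q25074 (allL N25074 (tt N25850 (iv F192485)) (tt N25426 (iv F190253)) (tt N23988 F189003) (tt N25354 (iv F189831)) (tt N23985 (iv D41001)) (tt N26065 (iv F193250)) (tt N25596 (iv F191266)) (tt N25344 (iv F189772)) (tt N23987 F189004) (tt N26093 D42020))
theorem Q25076 : ∀ i, i < 25076 → P i := stepQ 25075 Q25075 (allL N25075 (tt N25851 (iv F192489)) (tt N26091 (iv F193380)) (tt N23989 F189005) (tt N24206 F189006) (tt N26093 (iv F193389)) (tt N23986 F189007) (tt N25598 (iv F191277)) (tt N25345 (iv F189778)) (tt N25328 (iv F189657)) (tt N23985 (iv D41002)))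
theorem Q25077 : ∀ i, i < 25077 → P i := stepQ 25076 Q25076 (allL N25076 (tt N25860 (iv F192524)) (tt N24106 F189008) (tt N26093 (iv F193388)) (tt N24229 F189009) (tt N23989 F189010) (tt N26068 (iv F193266)) (tt N25863 (iv F192544)) (tt N26061 (iv F193227)) (tt N25399 (iv F190112)) (tt N23988 (iv D41003)))
theorem Q25078 : ∀ i, i < 25078 → P i := stepQ 25077 Q25077 (allL N25077 (tt N25910 (iv F192734)) (tt N24113 F189011) (tt N25334 (iv F189697)) (tt N24242 F189012) (tt N23991 F189013) (tt N26072 (iv F193285)) (tt N25077 F189014) (tt N23990 (iv D41004)) (tt N24261 F189015) (tt N25668 (iv F191610)))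
theorem Q25079 : ∀ i, i < 25079 → P i := stepQ 25078 Q25078 (allL N25078 (tt N25606 (iv F191315)) (tt N23994 F189016) (tt N24075 F189017) (tt N23993 F189018) (tt N26094 D42021) (tt N23992 (iv D41005)) (tt N24008 F189019) (tt N25622 (iv F191389)) (tt N26095 D42022) (tt N24065 F189020))
theorem Q25080 : ∀ i, i < 25080 → P i := stepQ 25079 Q25079 (allL N25079 (tt N25895 (iv F192678)) (tt N23996 F189021) (tt N25576 (iv F191147)) (tt N26095 (iv F193398)) (tt N25728 (iv F191955)) (tt N25882 (iv F192634)) (tt N24009 F189022) (tt N25688 (iv F191748)) (tt N23993 (iv D41006)) (tt N26096 D42023))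
theorem Q25081 : ∀ i, i < 25081 → P i := stepQ 25080 Q25080 (allL N25080 (tt N25496 (iv F190686)) (tt N26094 (iv F193390)) (tt N24150 F189023) (tt N25729 (iv F191962)) (tt N23994 (iv D41007)) (tt N25080 F189024) (tt N24012 F189025) (tt N25689 (iv F191754)) (tt N26097 D42024) (tt N25673 (iv F191647)))
theorem Q25082 : ∀ i, i < 25082 → P i := stepQ 25081 Q25081 (allL N25081 (tt N25497 (iv F190694)) (tt N26095 (iv F193396)) (tt N24151 F189026) (tt N23996 F189027) (tt N26097 (iv F193403)) (tt N26098 D42025) (tt N24013 F189028) (tt N25690 (iv F191760)) (tt N23994 (iv D41008)) (tt N26099 D42026))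
theorem Q25083 : ∀ i, i < 25083 → P i := stepQ 25082 Q25082 (allL N25082 (tt N25498 (iv F190700)) (tt N25620 (iv F191375)) (tt N24152 F189029) (tt N23997 F189030) (tt N26100 D42027) (tt N23995 (iv D41009)) (tt N25628 (iv F191421)) (tt N25373 (iv F189950)) (tt N26098 (iv F193407)) (tt N25372 F189943))
theorem Q25084 : ∀ i, i < 25084 → P i := stepQ 25083 Q25083 (allL N25083 (tt N25499 (iv F190707)) (tt N25882 (iv F192632)) (tt N24000 F189031) (tt N26098 (iv F193406)) (tt N26101 D42028) (tt N23996 (iv D41010)) (tt N26102 D42029) (tt N25691 (iv F191766)) (tt N23997 F189032) (tt N26103 D42030))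
theorem Q25085 : ∀ i, i < 25085 → P i := stepQ 25084 Q25084 (allL N25084 (tt N25500 (iv F190712)) (tt N26096 (iv F193400)) (tt N24001 F189033) (tt N26099 (iv F193409)) (tt N25731 (iv F191976)) (tt N26103 (iv F193421)) (tt N24016 F189034) (tt N25692 (iv F191772)) (tt N25676 (iv F191666)) (tt N23996 (iv D41011)))
theorem Q25086 : ∀ i, i < 25086 → P i := stepQ 25085 Q25085 (allL N25085 (tt N25501 (iv F190719)) (tt N25880 (iv F192620)) (tt N24002 F189035) (tt N26104 D42031) (tt N23997 (iv D41012)) (tt N23999 F189036) (tt N26105 D42032) (tt N24248 F189037) (tt N26101 (iv F193416)) (tt N25759 (iv F192102)))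
theorem Q25087 : ∀ i, i < 25087 → P i := stepQ 25086 Q25086 (allL N25086 (tt N25502 (iv F190724)) (tt N25766 (iv F192132)) (tt N24003 F189038) (tt N25628 (iv F191420)) (tt N26105 (iv F193425)) (tt N23998 F189039) (tt N23997 (iv D41013)) (tt N25511 (iv F190781)) (tt N26102 (iv F193419)) (tt N25510 F190774))
theorem Q25088 : ∀ i, i < 25088 → P i := stepQ 25087 Q25087 (allL N25087 (tt N25504 (iv F190738)) (tt N25671 (iv F191625)) (tt N26106 D42033) (tt N23999 (iv D41014)) (tt N25087 F189040) (tt N26104 (iv F193422)) (tt N25087 F189041) (tt N24247 F189042) (tt N24249 F189043) (tt N25918 (iv F192787)))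
theorem Q25089 : ∀ i, i < 25089 → P i := stepQ 25088 Q25088 (allL N25088 (tt N25505 (iv F190744)) (tt N25578 (iv F191161)) (tt N26101 (iv F193413)) (tt N26107 D42034) (tt N24000 (iv D41015)) (tt N25732 (iv F191984)) (tt N26108 D42035) (tt N25693 (iv F191778)) (tt N24002 F189044) (tt N26109 D42036))
theorem Q25090 : ∀ i, i < 25090 → P i := stepQ 25089 Q25089 (allL N25089 (tt N25506 (iv F190749)) (tt N25475 (iv F190567)) (tt N26102 (iv F193417)) (tt N24162 F189045) (tt N26108 (iv F193434)) (tt N24025 F189046) (tt N24000 (iv D41016)) (tt N26110 D42037) (tt N24003 F189047) (tt N26111 D42038))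
theorem Q25091 : ∀ i, i < 25091 → P i := stepQ 25090 Q25090 (allL N25090 (tt N25507 (iv F190754)) (tt N25579 (iv F191167)) (tt N26103 (iv F193420)) (tt N24163 F189048) (tt N26109 (iv F193436)) (tt N24001 F189049) (tt N26111 (iv F193442)) (tt N25695 (iv F191790)) (tt N25989 (iv F193027)) (tt N24000 (iv D41017)))
theorem Q25092 : ∀ i, i < 25092 → P i := stepQ 25091 Q25091 (allL N25091 (tt N25508 (iv F190759)) (tt N25580 (iv F191174)) (tt N26112 D42039) (tt N24002 (iv D41018)) (tt N24164 F189050) (tt N24005 F189051) (tt N26113 D42040) (tt N25696 (iv F191796)) (tt N26107 (iv F193433)) (tt N25990 (iv F193032)))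
theorem Q25093 : ∀ i, i < 25093 → P i := stepQ 25092 Q25092 (allL N25092 (tt N25509 (iv F190764)) (tt N25477 (iv F190577)) (tt N26105 (iv F193424)) (tt N26113 (iv F193445)) (tt N24003 F189052) (tt N25092 F189053) (tt N24002 (iv D41019)) (tt N26114 D42041) (tt N26108 (iv F193435)) (tt N25991 (iv F193036)))
theorem Q25094 : ∀ i, i < 25094 → P i := stepQ 25093 Q25093 (allL N25093 (tt N25510 (iv F190768)) (tt N25454 (iv F190440)) (tt N25511 (iv F190777)) (tt N24167 F189054) (tt N26114 (iv F193448)) (tt N24004 F189055) (tt N25503 (iv F190736)) (tt N24003 (iv D41020)) (tt N26110 (iv F193439)) (tt N25502 F190730))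
theorem Q25095 : ∀ i, i < 25095 → P i := stepQ 25094 Q25094 (allL N25094 (tt N25513 (iv F190787)) (tt N26053 (iv F193200)) (tt N24005 (iv D41021)) (tt N26106 (iv F193427)) (tt N24006 F189056) (tt N26112 (iv F193444)) (tt N25094 F189057) (tt N25697 (iv F191803)) (tt N25668 (iv F191609)) (tt N25992 (iv F193041)))
theorem Q25096 : ∀ i, i < 25096 → P i := stepQ 25095 Q25095 (allL N25095 (tt N24009 F189058) (tt N25539 (iv F190955)) (tt N25865 (iv F192554)) (tt N25607 (iv F191324)) (tt N25811 F192315) (tt N25645 (iv F191506)) (tt N25895 (iv F192682)) (tt N24082 F189059) (tt N24007 (iv D41022)) (tt N26115 D42042))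
theorem Q25097 : ∀ i, i < 25097 → P i := stepQ 25096 Q25096 (allL N25096 (tt N25604 (iv F191301)) (tt N24012 F189060) (tt N24073 F189061) (tt N24181 F189062) (tt N24008 (iv D41023)) (tt N24067 F189063) (tt N26094 (iv F193394)) (tt N24084 F189064) (tt N26116 D42043) (tt N24064 F189065))
theorem Q25098 : ∀ i, i < 25098 → P i := stepQ 25097 Q25097 (allL N25097 (tt N25607 (iv F191322)) (tt N24013 F189066) (tt N24076 F189067) (tt N24009 F189068) (tt N26116 (iv F193455)) (tt N24103 F189069) (tt N26095 (iv F193399)) (tt N24085 F189070) (tt N24008 (iv D41024)) (tt N26117 D42044))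
theorem Q25099 : ∀ i, i < 25099 → P i := stepQ 25098 Q25098 (allL N25098 (tt N25645 (iv F191503)) (tt N24015 F189071) (tt N24236 F189072) (tt N24103 F189073) (tt N26118 D42045) (tt N24009 (iv D41025)) (tt N25765 (iv F192130)) (tt N24086 F189074) (tt N24010 F189075) (tt N26119 D42046))
theorem Q25100 : ∀ i, i < 25100 → P i := stepQ 25099 Q25099 (allL N25099 (tt N26115 (iv F193450)) (tt N24016 F189076) (tt N26060 (iv F193217)) (tt N26117 (iv F193459)) (tt N26074 (iv F193295)) (tt N26119 (iv F193471)) (tt N26096 (iv F193401)) (tt N24087 F189077) (tt N26062 (iv F193234)) (tt N24009 (iv D41026)))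
theorem Q25101 : ∀ i, i < 25101 → P i := stepQ 25100 Q25100 (allL N25100 (tt N25642 (iv F191482)) (tt N24017 F189078) (tt N24234 F189079) (tt N25442 (iv F190356)) (tt N24010 (iv D41027)) (tt N24011 F189080) (tt N25764 (iv F192125)) (tt N24088 F189081) (tt N26118 (iv F193467)) (tt N24093 F189082))
theorem Q25102 : ∀ i, i < 25102 → P i := stepQ 25101 Q25101 (allL N25101 (tt N25550 (iv F191022)) (tt N26116 (iv F193452)) (tt N24196 F189083) (tt N26075 (iv F193301)) (tt N24013 F189084) (tt N26120 D42047) (tt N26097 (iv F193404)) (tt N24090 F189085) (tt N24012 (iv D41028)) (tt N26121 D42048))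
theorem Q25103 : ∀ i, i < 25103 → P i := stepQ 25102 Q25102 (allL N25102 (tt N25551 (iv F191026)) (tt N24103 F189086) (tt N24197 F189087) (tt N24015 F189088) (tt N25414 (iv F190197)) (tt N24013 (iv D41029)) (tt N25627 (iv F191416)) (tt N24091 F189089) (tt N24014 F189090) (tt N26122 D42049))
theorem Q25104 : ∀ i, i < 25104 → P i := stepQ 25103 Q25103 (allL N25103 (tt N25552 (iv F191032)) (tt N26117 (iv F193457)) (tt N24198 F189091) (tt N24016 F189092) (tt N26121 (iv F193480)) (tt N26122 (iv F193485)) (tt N26099 (iv F193410)) (tt N24092 F189093) (tt N26064 (iv F193246)) (tt N24013 (iv D41030)))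
theorem Q25105 : ∀ i, i < 25105 → P i := stepQ 25104 Q25104 (allL N25104 (tt N25554 (iv F191044)) (tt N26118 (iv F193463)) (tt N24024 F189094) (tt N26123 D42050) (tt N24015 (iv D41031)) (tt N26077 (iv F193314)) (tt N26124 D42051) (tt N24096 F189095) (tt N24017 F189096) (tt N26125 D42052))
theorem Q25106 : ∀ i, i < 25106 → P i := stepQ 25105 Q25105 (allL N25105 (tt N25555 (iv F191048)) (tt N25765 (iv F192127)) (tt N24025 F189097) (tt N25627 (iv F191415)) (tt N26124 (iv F193492)) (tt N26102 (iv F193418)) (tt N24015 (iv D41032)) (tt N26126 D42053) (tt N24018 F189098) (tt N26127 D42054))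
theorem Q25107 : ∀ i, i < 25107 → P i := stepQ 25106 Q25106 (allL N25106 (tt N25556 (iv F191051)) (tt N26119 (iv F193468)) (tt N24026 F189099) (tt N26122 (iv F193484)) (tt N26125 (iv F193495)) (tt N24016 F189100) (tt N26127 (iv F193501)) (tt N24098 F189101) (tt N26128 D42055) (tt N24015 (iv D41033)))
theorem Q25108 : ∀ i, i < 25108 → P i := stepQ 25107 Q25107 (allL N25107 (tt N25557 (iv F191055)) (tt N25442 (iv F190354)) (tt N25403 (iv F190133)) (tt N24017 (iv D41034)) (tt N25411 (iv F190180)) (tt N24022 F189102) (tt N26129 D42056) (tt N24099 F189103) (tt N26123 (iv F193490)) (tt N25443 (iv F190366)))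
theorem Q25109 : ∀ i, i < 25109 → P i := stepQ 25108 Q25108 (allL N25108 (tt N25558 (iv F191061)) (tt N25764 (iv F192122)) (tt N24028 F189104) (tt N26129 (iv F193508)) (tt N24018 F189105) (tt N25108 F189106) (tt N24017 (iv D41035)) (tt N26130 D42057) (tt N26124 (iv F193493)) (tt N26131 D42058))
theorem Q25110 : ∀ i, i < 25110 → P i := stepQ 25109 Q25109 (allL N25109 (tt N25559 (iv F191065)) (tt N24093 F189107) (tt N24029 F189108) (tt N25443 (iv F190363)) (tt N24019 F189109) (tt N24023 F189110) (tt N26131 (iv F193518)) (tt N24101 F189111) (tt N26132 D42059) (tt N24017 (iv D41036)))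
theorem Q25111 : ∀ i, i < 25111 → P i := stepQ 25110 Q25110 (allL N25110 (tt N25560 (iv F191071)) (tt N25709 (iv F191862)) (tt N24030 F189112) (tt N25541 (iv F190971)) (tt N26130 (iv F193511)) (tt N24020 F189113) (tt N24102 F189114) (tt N24018 (iv D41037)) (tt N26126 (iv F193499)) (tt N25575 (iv F191144)))
theorem Q25112 : ∀ i, i < 25112 → P i := stepQ 25111 Q25111 (allL N25111 (tt N25561 (iv F191078)) (tt N24094 F189115) (tt N24031 F189116) (tt N24089 F189117) (tt N26131 (iv F193516)) (tt N24021 F189118) (tt N24019 F189119) (tt N25575 (iv F191143)) (tt N26133 D42060) (tt N24018 (iv D41038)))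
theorem Q25113 : ∀ i, i < 25113 → P i := stepQ 25112 Q25112 (allL N25112 (tt N25562 (iv F191085)) (tt N24091 F189120) (tt N24032 F189121) (tt N24086 F189122) (tt N26132 (iv F193521)) (tt N24085 F189123) (tt N26133 (iv F193526)) (tt N24103 F189124) (tt N24019 (iv D41039)) (tt N26128 (iv F193507)))
theorem Q25114 : ∀ i, i < 25114 → P i := stepQ 25113 Q25113 (allL N25113 (tt N25563 (iv F191090)) (tt N24196 F189125) (tt N25400 (iv F190115)) (tt N24024 (iv D41040)) (tt N24194 F189126) (tt N26081 (iv F193338)) (tt N26134 D42061) (tt N24104 F189127) (tt N24027 F189128) (tt N26135 D42062))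
theorem Q25115 : ∀ i, i < 25115 → P i := stepQ 25114 Q25114 (allL N25114 (tt N25564 (iv F191095)) (tt N25474 (iv F190561)) (tt N26124 (iv F193491)) (tt N26134 (iv F193528)) (tt N24025 F189129) (tt N26136 D42063) (tt N24024 (iv D41041)) (tt N26137 D42064) (tt N24028 F189130) (tt N26138 D42065))
theorem Q25116 : ∀ i, i < 25116 → P i := stepQ 25115 Q25115 (allL N25115 (tt N25565 (iv F191098)) (tt N26061 (iv F193223)) (tt N26125 (iv F193494)) (tt N26135 (iv F193532)) (tt N24026 F189131) (tt N26083 (iv F193346)) (tt N26138 (iv F193540)) (tt N24106 F189132) (tt N26139 D42066) (tt N24024 (iv D41042)))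
theorem Q25117 : ∀ i, i < 25117 → P i := stepQ 25116 Q25116 (allL N25116 (tt N25566 (iv F191101)) (tt N25453 (iv F190434)) (tt N26126 (iv F193497)) (tt N24201 F189133) (tt N26137 (iv F193536)) (tt N26110 (iv F193438)) (tt N24107 F189134) (tt N24025 (iv D41043)) (tt N24030 F189135) (tt N26140 D42067))
theorem Q25118 : ∀ i, i < 25118 → P i := stepQ 25117 Q25117 (allL N25117 (tt N25567 (iv F191105)) (tt N25476 (iv F190572)) (tt N26127 (iv F193500)) (tt N24202 F189136) (tt N26138 (iv F193539)) (tt N26111 (iv F193441)) (tt N24026 F189137) (tt N26140 (iv F193546)) (tt N26141 D42068) (tt N24025 (iv D41044)))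
theorem Q25119 : ∀ i, i < 25119 → P i := stepQ 25118 Q25118 (allL N25118 (tt N25568 (iv F191108)) (tt N25381 (iv F189998)) (tt N26128 (iv F193503)) (tt N24203 F189138) (tt N26139 (iv F193541)) (tt N26071 (iv F193279)) (tt N26141 (iv F193548)) (tt N24109 F189139) (tt N24026 (iv D41045)) (tt N24032 F189140))
theorem Q25120 : ∀ i, i < 25120 → P i := stepQ 25119 Q25119 (allL N25119 (tt N25569 (iv F191112)) (tt N24150 F189141) (tt N25404 (iv F190140)) (tt N24028 F189142) (tt N24148 F189143) (tt N25119 F189144) (tt N24027 (iv D41046)) (tt N25953 (iv F192906)) (tt N26134 (iv F193530)) (tt N26080 (iv F193335)))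
theorem Q25121 : ∀ i, i < 25121 → P i := stepQ 25120 Q25120 (allL N25120 (tt N25570 (iv F191117)) (tt N25452 (iv F190426)) (tt N26130 (iv F193510)) (tt N25953 (iv F192903)) (tt N24030 F189145) (tt N25120 F189146) (tt N24110 F189147) (tt N24028 (iv D41047)) (tt N26137 (iv F193538)) (tt N25779 (iv F192188)))
theorem Q25122 : ∀ i, i < 25122 → P i := stepQ 25121 Q25121 (allL N25121 (tt N25571 (iv F191121)) (tt N25355 (iv F189837)) (tt N26131 (iv F193515)) (tt N26080 (iv F193331)) (tt N24031 F189148) (tt N25121 F189149) (tt N24029 F189150) (tt N25779 (iv F192187)) (tt N26142 D42069) (tt N24028 (iv D41048)))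
theorem Q25123 : ∀ i, i < 25123 → P i := stepQ 25122 Q25122 (allL N25122 (tt N25572 (iv F191125)) (tt N25380 (iv F189992)) (tt N26132 (iv F193520)) (tt N26077 (iv F193313)) (tt N24032 F189151) (tt N26123 (iv F193488)) (tt N26142 (iv F193551)) (tt N24111 F189152) (tt N24029 (iv D41049)) (tt N26139 (iv F193543)))
theorem Q25124 : ∀ i, i < 25124 → P i := stepQ 25123 Q25123 (allL N25123 (tt N25574 (iv F191135)) (tt N25356 (iv F189845)) (tt N26133 (iv F193524)) (tt N24204 F189153) (tt N26142 (iv F193550)) (tt N26143 D42070) (tt N24032 F189154) (tt N25780 (iv F192192)) (tt N24031 (iv D41050)) (tt N26141 (iv F193549)))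
theorem Q25125 : ∀ i, i < 25125 → P i := stepQ 25124 Q25124 (allL N25124 (tt N25575 (iv F191138)) (tt N25357 (iv F189851)) (tt N25573 (iv F191130)) (tt N24205 F189155) (tt N26144 D42071) (tt N24033 (iv D41051)) (tt N25655 (iv F191550)) (tt N25561 (iv F191084)) (tt N26143 (iv F193553)) (tt N25560 F191077))
theorem Q25126 : ∀ i, i < 25126 → P i := stepQ 25125 Q25125 (allL N25125 (tt N25577 (iv F191153)) (tt N25331 (iv F189674)) (tt N24036 F189156) (tt N25352 (iv F189817)) (tt N24206 F189157) (tt N25392 (iv F190066)) (tt N25581 (iv F191183)) (tt N24132 F189158) (tt N24123 F189159) (tt N24034 (iv D41052)))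
theorem Q25127 : ∀ i, i < 25127 → P i := stepQ 25126 Q25126 (allL N25126 (tt N25578 (iv F191160)) (tt N24183 F189160) (tt N25395 (iv F190084)) (tt N26145 D42072) (tt N24035 (iv D41053)) (tt N24139 F189161) (tt N26146 D42073) (tt N24133 F189162) (tt N24037 F189163) (tt N26147 D42074))
theorem Q25128 : ∀ i, i < 25128 → P i := stepQ 25127 Q25127 (allL N25127 (tt N25475 (iv F190566)) (tt N24184 F189164) (tt N25397 (iv F190098)) (tt N24048 F189165) (tt N26146 (iv F193561)) (tt N25448 (iv F190399)) (tt N24035 (iv D41054)) (tt N26148 D42075) (tt N24038 F189166) (tt N26149 D42076))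
theorem Q25129 : ∀ i, i < 25129 → P i := stepQ 25128 Q25128 (allL N25128 (tt N25579 (iv F191166)) (tt N24185 F189167) (tt N25392 (iv F190064)) (tt N24049 F189168) (tt N26147 (iv F193564)) (tt N24036 F189169) (tt N26149 (iv F193574)) (tt N24135 F189170) (tt N25384 (iv F190021)) (tt N24035 (iv D41055)))
theorem Q25130 : ∀ i, i < 25130 → P i := stepQ 25129 Q25129 (allL N25129 (tt N25580 (iv F191173)) (tt N24186 F189171) (tt N25442 (iv F190355)) (tt N24037 (iv D41056)) (tt N24050 F189172) (tt N24040 F189173) (tt N26150 D42077) (tt N24136 F189174) (tt N26145 (iv F193559)) (tt N25385 (iv F190028)))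
theorem Q25131 : ∀ i, i < 25131 → P i := stepQ 25130 Q25130 (allL N25130 (tt N25477 (iv F190576)) (tt N24187 F189175) (tt N25394 (iv F190077)) (tt N26150 (iv F193576)) (tt N24038 F189176) (tt N25130 F189177) (tt N24037 (iv D41057)) (tt N26151 D42078) (tt N26146 (iv F193562)) (tt N25386 (iv F190034)))
theorem Q25132 : ∀ i, i < 25132 → P i := stepQ 25131 Q25131 (allL N25131 (tt N25454 (iv F190439)) (tt N24189 F189178) (tt N25396 (iv F190091)) (tt N24053 F189179) (tt N26151 (iv F193580)) (tt N24039 F189180) (tt N24138 F189181) (tt N24038 (iv D41058)) (tt N26148 (iv F193571)) (tt N25387 (iv F190041)))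
theorem Q25133 : ∀ i, i < 25133 → P i := stepQ 25132 Q25132 (allL N25132 (tt N25864 (iv F192546)) (tt N24045 F189182) (tt N26062 (iv F193229)) (tt N24211 F189183) (tt N24087 F189184) (tt N24209 F189185) (tt N25707 (iv F191853)) (tt N26074 (iv F193297)) (tt N26060 (iv F193222)) (tt N24041 (iv D41059)))
theorem Q25134 : ∀ i, i < 25134 → P i := stepQ 25133 Q25133 (allL N25133 (tt N25348 (iv F189793)) (tt N24210 F189186) (tt N25354 (iv F189830)) (tt N24090 F189187) (tt N24043 F189188) (tt N24224 F189189) (tt N25340 (iv F189742)) (tt N26075 (iv F193304)) (tt N24042 (iv D41060)) (tt N26152 D42079))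
theorem Q25135 : ∀ i, i < 25135 → P i := stepQ 25134 Q25134 (allL N25134 (tt N25351 (iv F189810)) (tt N24211 F189190) (tt N25352 (iv F189816)) (tt N24045 F189191) (tt N26152 (iv F193585)) (tt N24207 F189192) (tt N25341 (iv F189749)) (tt N26076 (iv F193309)) (tt N25347 (iv F189792)) (tt N24043 (iv D41061)))
theorem Q25136 : ∀ i, i < 25136 → P i := stepQ 25135 Q25135 (allL N25135 (tt N25487 (iv F190635)) (tt N24208 F189193) (tt N24047 F189194) (tt N24111 F189195) (tt N24044 (iv D41062)) (tt N24096 F189196) (tt N25450 (iv F190414)) (tt N26077 (iv F193315)) (tt N24046 F189197) (tt N26153 D42080))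
theorem Q25137 : ∀ i, i < 25137 → P i := stepQ 25136 Q25136 (allL N25136 (tt N25490 (iv F190651)) (tt N24209 F189198) (tt N24049 F189199) (tt N24207 F189200) (tt N26153 (iv F193590)) (tt N24045 F189201) (tt N25451 (iv F190422)) (tt N26079 (iv F193327)) (tt N24227 F189202) (tt N24044 (iv D41063)))
theorem Q25138 : ∀ i, i < 25138 → P i := stepQ 25137 Q25137 (allL N25137 (tt N25584 (iv F191198)) (tt N24228 F189203) (tt N26154 D42081) (tt N24047 (iv D41064)) (tt N26145 (iv F193556)) (tt N24104 F189204) (tt N26155 D42082) (tt N26081 (iv F193339)) (tt N24050 F189205) (tt N26156 D42083))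
theorem Q25139 : ∀ i, i < 25139 → P i := stepQ 25138 Q25138 (allL N25138 (tt N25478 (iv F190582)) (tt N26067 (iv F193259)) (tt N25450 (iv F190411)) (tt N26155 (iv F193597)) (tt N24048 F189206) (tt N25788 (iv F192223)) (tt N24047 (iv D41065)) (tt N26157 D42084) (tt N24051 F189207) (tt N26158 D42085))
theorem Q25140 : ∀ i, i < 25140 → P i := stepQ 25139 Q25139 (allL N25139 (tt N25585 (iv F191202)) (tt N26068 (iv F193263)) (tt N26153 (iv F193588)) (tt N26156 (iv F193600)) (tt N24049 F189208) (tt N24106 F189209) (tt N26158 (iv F193606)) (tt N26083 (iv F193347)) (tt N26159 D42086) (tt N24047 (iv D41066)))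
theorem Q25141 : ∀ i, i < 25141 → P i := stepQ 25140 Q25140 (allL N25140 (tt N25455 (iv F190446)) (tt N26069 (iv F193268)) (tt N24144 F189210) (tt N26148 (iv F193568)) (tt N26157 (iv F193603)) (tt N24143 F189211) (tt N26084 (iv F193352)) (tt N24048 (iv D41067)) (tt N24053 F189212) (tt N26160 D42087))
theorem Q25142 : ∀ i, i < 25142 → P i := stepQ 25141 Q25141 (allL N25141 (tt N25479 (iv F190588)) (tt N26070 (iv F193273)) (tt N25451 (iv F190419)) (tt N26149 (iv F193573)) (tt N26158 (iv F193605)) (tt N25449 (iv F190405)) (tt N24049 F189213) (tt N26160 (iv F193612)) (tt N26009 (iv F193086)) (tt N24048 (iv D41068)))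
theorem Q25143 : ∀ i, i < 25143 → P i := stepQ 25142 Q25142 (allL N25142 (tt N25586 (iv F191206)) (tt N26071 (iv F193276)) (tt N24227 F189214) (tt N25384 (iv F190018)) (tt N26159 (iv F193608)) (tt N25381 (iv F190001)) (tt N26009 (iv F193085)) (tt N25402 (iv F190129)) (tt N24049 (iv D41069)) (tt N24054 F189215))
theorem Q25144 : ∀ i, i < 25144 → P i := stepQ 25143 Q25143 (allL N25143 (tt N25587 (iv F191213)) (tt N25411 (iv F190178)) (tt N24050 (iv D41070)) (tt N24101 F189216) (tt N25442 (iv F190357)) (tt N24055 F189217) (tt N25883 (iv F192638)) (tt N25443 (iv F190365)) (tt N26154 (iv F193595)) (tt N24099 (iv F189218)))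
theorem Q25145 : ∀ i, i < 25145 → P i := stepQ 25144 Q25144 (allL N25144 (tt N25480 (iv F190593)) (tt N24241 F189219) (tt N25883 (iv F192636)) (tt N24051 F189220) (tt N26150 (iv F193577)) (tt N24112 F189221) (tt N24050 (iv D41071)) (tt N26161 D42088) (tt N26155 (iv F193598)) (tt N26007 (iv F193080)))
theorem Q25146 : ∀ i, i < 25146 → P i := stepQ 25145 Q25145 (allL N25145 (tt N25588 (iv F191220)) (tt N24220 F189222) (tt N24099 F189223) (tt N24052 F189224) (tt N25385 (iv F190025)) (tt N24056 F189225) (tt N26007 (iv F193079)) (tt N25403 (iv F190136)) (tt N26162 D42089) (tt N24050 (iv D41072)))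
theorem Q25147 : ∀ i, i < 25147 → P i := stepQ 25146 Q25146 (allL N25146 (tt N25457 (iv F190458)) (tt N26072 (iv F193282)) (tt N24146 F189226) (tt N26161 (iv F193614)) (tt N24053 F189227) (tt N24113 F189228) (tt N26087 (iv F193365)) (tt N24051 (iv D41073)) (tt N26157 (iv F193604)) (tt N25983 (iv F193003)))
theorem Q25148 : ∀ i, i < 25148 → P i := stepQ 25147 Q25147 (allL N25147 (tt N25589 (iv F191227)) (tt N26073 (iv F193287)) (tt N24104 F189229) (tt N26162 (iv F193618)) (tt N24054 F189230) (tt N26154 (iv F193594)) (tt N26008 (iv F193083)) (tt N25400 (iv F190116)) (tt N24052 (iv D41074)) (tt N26159 (iv F193609)))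
theorem Q25149 : ∀ i, i < 25149 → P i := stepQ 25148 Q25148 (allL N25148 (tt N24058 F189231) (tt N25590 (iv F191233)) (tt N25811 (iv F192311)) (tt N25526 (iv F190869)) (tt N25865 (iv F192556)) (tt N25525 (iv F190864)) (tt N25835 (iv F192420)) (tt N25597 (iv F191271)) (tt N24057 (iv D41075)) (tt N26163 D42090))
theorem Q25150 : ∀ i, i < 25150 → P i := stepQ 25149 Q25149 (allL N25149 (tt N26163 (iv F193620)) (tt N24063 F189232) (tt N26074 (iv F193293)) (tt N26066 (iv F193255)) (tt N26060 (iv F193219)) (tt N26064 (iv F193244)) (tt N25849 (iv F192483)) (tt N26062 (iv F193233)) (tt N24087 F189233) (tt N24058 (iv D41076)))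
theorem Q25151 : ∀ i, i < 25151 → P i := stepQ 25150 Q25150 (allL N25150 (tt N25596 (iv F191261)) (tt N26065 (iv F193247)) (tt N24208 F189234) (tt N25346 (iv F189783)) (tt N24061 F189235) (tt N25426 (iv F190257)) (tt N25850 (iv F192488)) (tt N26063 (iv F193240)) (tt N24060 (iv D41077)) (tt N26164 D42091))
theorem Q25152 : ∀ i, i < 25152 → P i := stepQ 25151 Q25151 (allL N25151 (tt N25598 (iv F191274)) (tt N26066 (iv F193253)) (tt N24209 F189236) (tt N24063 F189237) (tt N26164 (iv F193623)) (tt N26062 (iv F193232)) (tt N25851 (iv F192493)) (tt N26064 (iv F193245)) (tt N24092 F189238) (tt N24061 (iv D41078)))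
theorem Q25153 : ∀ i, i < 25153 → P i := stepQ 25152 Q25152 (allL N25152 (tt N25599 (iv F191279)) (tt N26063 (iv F193235)) (tt N24068 F189239) (tt N26089 (iv F193370)) (tt N24062 (iv D41079)) (tt N25344 (iv F189770)) (tt N26165 D42092) (tt N26065 (iv F193251)) (tt N24064 F189240) (tt N26166 D42093))
theorem Q25154 : ∀ i, i < 25154 → P i := stepQ 25153 Q25153 (allL N25153 (tt N25600 (iv F191282)) (tt N25674 (iv F191649)) (tt N24069 F189241) (tt N25672 (iv F191635)) (tt N26165 (iv F193626)) (tt N25705 (iv F191839)) (tt N24062 (iv D41080)) (tt N25699 (iv F191814)) (tt N24065 F189242) (tt N26167 D42094))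
theorem Q25155 : ∀ i, i < 25155 → P i := stepQ 25154 Q25154 (allL N25154 (tt N25601 (iv F191287)) (tt N26064 (iv F193241)) (tt N24070 F189243) (tt N26062 (iv F193230)) (tt N26166 (iv F193629)) (tt N24063 F189244) (tt N26167 (iv F193631)) (tt N26066 (iv F193257)) (tt N26117 (iv F193462)) (tt N24062 (iv D41081)))
theorem Q25156 : ∀ i, i < 25156 → P i := stepQ 25155 Q25155 (allL N25155 (tt N25603 (iv F191297)) (tt N25673 (iv F191641)) (tt N24072 F189245) (tt N25919 (iv F192790)) (tt N24065 F189246) (tt N25155 F189247) (tt N24064 (iv D41082)) (tt N25698 (iv F191809)) (tt N26165 (iv F193627)) (tt N26094 (iv F193395)))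
theorem Q25157 : ∀ i, i < 25157 → P i := stepQ 25156 Q25156 (allL N25156 (tt N25608 (iv F191327)) (tt N26081 (iv F193336)) (tt N26120 (iv F193474)) (tt N24068 (iv D41083)) (tt N24214 F189248) (tt N24196 F189249) (tt N26168 D42095) (tt N24228 F189250) (tt N24071 F189251) (tt N26169 D42096))
theorem Q25158 : ∀ i, i < 25158 → P i := stepQ 25157 Q25157 (allL N25157 (tt N25609 (iv F191332)) (tt N26082 (iv F193341)) (tt N26165 (iv F193625)) (tt N26168 (iv F193632)) (tt N24069 F189252) (tt N26170 D42097) (tt N24068 (iv D41084)) (tt N26171 D42098) (tt N24072 F189253) (tt N26172 D42099))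
theorem Q25159 : ∀ i, i < 25159 → P i := stepQ 25158 Q25158 (allL N25158 (tt N25610 (iv F191335)) (tt N26083 (iv F193344)) (tt N26166 (iv F193628)) (tt N26169 (iv F193635)) (tt N24070 F189254) (tt N26061 (iv F193226)) (tt N26172 (iv F193643)) (tt N26068 (iv F193267)) (tt N26173 D42100) (tt N24068 (iv D41085)))
theorem Q25160 : ∀ i, i < 25160 → P i := stepQ 25159 Q25159 (allL N25159 (tt N25611 (iv F191337)) (tt N26084 (iv F193348)) (tt N25699 (iv F191811)) (tt N24217 F189255) (tt N26171 (iv F193640)) (tt N25730 (iv F191971)) (tt N26069 (iv F193271)) (tt N24069 (iv D41086)) (tt N24074 F189256) (tt N26174 D42101))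
theorem Q25161 : ∀ i, i < 25161 → P i := stepQ 25160 Q25160 (allL N25160 (tt N25612 (iv F191341)) (tt N26085 (iv F193354)) (tt N26167 (iv F193630)) (tt N24218 F189257) (tt N26172 (iv F193642)) (tt N25857 (iv F192516)) (tt N24070 F189258) (tt N26174 (iv F193647)) (tt N26175 D42102) (tt N24069 (iv D41087)))
theorem Q25162 : ∀ i, i < 25162 → P i := stepQ 25161 Q25161 (allL N25161 (tt N25613 (iv F191345)) (tt N25402 (iv F190125)) (tt N26117 (iv F193458)) (tt N24219 F189259) (tt N26173 (iv F193644)) (tt N24109 F189260) (tt N26175 (iv F193649)) (tt N26071 (iv F193280)) (tt N24070 (iv D41088)) (tt N24076 F189261))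
theorem Q25163 : ∀ i, i < 25163 → P i := stepQ 25162 Q25162 (allL N25162 (tt N25614 (iv F191349)) (tt N25385 (iv F190023)) (tt N24071 (iv D41089)) (tt N24188 F189262) (tt N24220 F189263) (tt N24078 F189264) (tt N26176 D42103) (tt N24120 F189265) (tt N26120 (iv F193478)) (tt N24186 (iv F189266)))
theorem Q25164 : ∀ i, i < 25164 → P i := stepQ 25163 Q25163 (allL N25163 (tt N25615 (iv F191355)) (tt N26086 (iv F193357)) (tt N26176 (iv F193651)) (tt N24072 F189267) (tt N24221 F189268) (tt N25163 F189269) (tt N24071 (iv D41090)) (tt N26177 D42104) (tt N26168 (iv F193634)) (tt N26178 D42105))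
theorem Q25165 : ∀ i, i < 25165 → P i := stepQ 25164 Q25164 (allL N25164 (tt N25616 (iv F191359)) (tt N25403 (iv F190132)) (tt N24186 F189270) (tt N24073 F189271) (tt N24120 F189272) (tt N24079 F189273) (tt N26178 (iv F193664)) (tt N24220 F189274) (tt N26179 D42106) (tt N24071 (iv D41091)))
theorem Q25166 : ∀ i, i < 25166 → P i := stepQ 25165 Q25165 (allL N25165 (tt N25617 (iv F191365)) (tt N26087 (iv F193361)) (tt N25698 (iv F191807)) (tt N26177 (iv F193656)) (tt N24074 F189275) (tt N25165 F189276) (tt N26072 (iv F193286)) (tt N24072 (iv D41092)) (tt N26171 (iv F193641)) (tt N26180 D42107))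
theorem Q25167 : ∀ i, i < 25167 → P i := stepQ 25166 Q25166 (allL N25166 (tt N25618 (iv F191368)) (tt N25404 (iv F190139)) (tt N26094 (iv F193391)) (tt N26178 (iv F193661)) (tt N24075 F189277) (tt N25166 F189278) (tt N24073 F189279) (tt N26180 (iv F193672)) (tt N26181 D42108) (tt N24072 (iv D41093)))
theorem Q25168 : ∀ i, i < 25168 → P i := stepQ 25167 Q25167 (allL N25167 (tt N25619 (iv F191372)) (tt N25400 (iv F190114)) (tt N26116 (iv F193453)) (tt N26179 (iv F193666)) (tt N24076 F189280) (tt N26182 D42109) (tt N26181 (iv F193674)) (tt N26073 (iv F193291)) (tt N24073 (iv D41094)) (tt N26173 (iv F193645)))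
theorem Q25169 : ∀ i, i < 25169 → P i := stepQ 25168 Q25168 (allL N25168 (tt N25620 (iv F191374)) (tt N25405 (iv F190145)) (tt N25622 (iv F191386)) (tt N24225 F189281) (tt N26180 (iv F193670)) (tt N24077 F189282) (tt N25657 (iv F191560)) (tt N24075 F189283) (tt N26183 D42110) (tt N24074 (iv D41095)))
theorem Q25170 : ∀ i, i < 25170 → P i := stepQ 25169 Q25169 (allL N25169 (tt N25621 (iv F191381)) (tt N25401 (iv F190119)) (tt N26095 (iv F193397)) (tt N24226 F189284) (tt N26181 (iv F193673)) (tt N25890 (iv F192661)) (tt N24076 F189285) (tt N26183 (iv F193679)) (tt N24075 (iv D41096)) (tt N26175 (iv F193650)))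
theorem Q25171 : ∀ i, i < 25171 → P i := stepQ 25170 Q25170 (allL N25170 (tt N25623 (iv F191391)) (tt N25443 (iv F190361)) (tt N25385 (iv F190024)) (tt N24093 F189286) (tt N24099 F189287) (tt N24080 (iv D41097)) (tt N26184 D42111) (tt N25411 (iv F190182)) (tt N26182 (iv F193677)) (tt N25442 (iv F190359)))
theorem Q25172 : ∀ i, i < 25172 → P i := stepQ 25171 Q25171 (allL N25171 (tt N24085 F189288) (tt N25624 (iv F191398)) (tt N25537 (iv F190942)) (tt N24082 F189289) (tt N25866 (iv F192562)) (tt N25562 (iv F191088)) (tt N25832 F192405) (tt N25607 (iv F191326)) (tt N24081 (iv D41098)) (tt N26185 D42112))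
theorem Q25173 : ∀ i, i < 25173 → P i := stepQ 25172 Q25172 (allL N25172 (tt N24086 F189290) (tt N25625 (iv F191403)) (tt N25838 (iv F192431)) (tt N25562 (iv F191087)) (tt N25862 (iv F192538)) (tt N24082 (iv D41099)) (tt N25781 (iv F192195)) (tt N25645 (iv F191507)) (tt N24083 F189291) (tt N26186 D42113))
theorem Q25174 : ∀ i, i < 25174 → P i := stepQ 25173 Q25173 (allL N25173 (tt N24087 F189292) (tt N25626 (iv F191409)) (tt N26088 (iv F193367)) (tt N26185 (iv F193684)) (tt N25864 (iv F192549)) (tt N26186 (iv F193686)) (tt N25834 (iv F192414)) (tt N26115 (iv F193451)) (tt N26163 (iv F193621)) (tt N24082 (iv D41100)))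
theorem Q25175 : ∀ i, i < 25175 → P i := stepQ 25174 Q25174 (allL N25174 (tt N25866 (iv F192560)) (tt N24090 F189293) (tt N26073 (iv F193288)) (tt N24210 F189294) (tt N24085 F189295) (tt N25406 (iv F190153)) (tt N25928 (iv F192827)) (tt N26116 (iv F193456)) (tt N24084 (iv D41101)) (tt N26187 D42114))
theorem Q25176 : ∀ i, i < 25176 → P i := stepQ 25175 Q25175 (allL N25175 (tt N26185 (iv F193683)) (tt N24092 F189296) (tt N26071 (iv F193277)) (tt N24087 F189297) (tt N26187 (iv F193689)) (tt N26128 (iv F193505)) (tt N25929 (iv F192830)) (tt N26117 (iv F193461)) (tt N26066 (iv F193258)) (tt N24085 (iv D41102)))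
theorem Q25177 : ∀ i, i < 25177 → P i := stepQ 25176 Q25176 (allL N25176 (tt N25862 (iv F192534)) (tt N24096 F189298) (tt N25426 (iv F190254)) (tt N25398 (iv F190105)) (tt N24086 (iv D41103)) (tt N24208 F189299) (tt N26188 D42115) (tt N26118 (iv F193466)) (tt N24088 F189300) (tt N26189 D42116))
theorem Q25178 : ∀ i, i < 25178 → P i := stepQ 25177 Q25177 (allL N25177 (tt N25781 (iv F192193)) (tt N24097 F189301) (tt N25591 (iv F191238)) (tt N26133 (iv F193525)) (tt N26188 (iv F193691)) (tt N25722 (iv F191923)) (tt N24086 (iv D41104)) (tt N25845 (iv F192464)) (tt N24089 F189302) (tt N26190 D42117))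
theorem Q25179 : ∀ i, i < 25179 → P i := stepQ 25178 Q25178 (allL N25178 (tt N26186 (iv F193685)) (tt N24098 F189303) (tt N26091 (iv F193381)) (tt N26128 (iv F193504)) (tt N26189 (iv F193694)) (tt N24087 F189304) (tt N26190 (iv F193697)) (tt N26119 (iv F193472)) (tt N26122 (iv F193487)) (tt N24086 (iv D41105)))
theorem Q25180 : ∀ i, i < 25180 → P i := stepQ 25179 Q25179 (allL N25179 (tt N25783 (iv F192202)) (tt N24100 F189305) (tt N25425 (iv F190247)) (tt N25444 (iv F190370)) (tt N24089 F189306) (tt N24114 F189307) (tt N24088 (iv D41106)) (tt N25846 (iv F192469)) (tt N26188 (iv F193692)) (tt N25423 (iv F190238)))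
theorem Q25181 : ∀ i, i < 25181 → P i := stepQ 25180 Q25180 (allL N25180 (tt N25636 (iv F191456)) (tt N25406 (iv F190152)) (tt N24228 F189308) (tt N24224 F189309) (tt N26179 (iv F193667)) (tt N24090 (iv D41107)) (tt N26191 D42118) (tt N26120 (iv F193477)) (tt N24120 F189310) (tt N26192 D42119))
theorem Q25182 : ∀ i, i < 25182 → P i := stepQ 25181 Q25181 (allL N25181 (tt N25637 (iv F191460)) (tt N26187 (iv F193687)) (tt N24229 F189311) (tt N26152 (iv F193584)) (tt N24092 F189312) (tt N26192 (iv F193703)) (tt N25931 (iv F192837)) (tt N26121 (iv F193481)) (tt N26164 (iv F193624)) (tt N24090 (iv D41108)))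
theorem Q25183 : ∀ i, i < 25183 → P i := stepQ 25182 Q25182 (allL N25182 (tt N25638 (iv F191463)) (tt N26132 (iv F193519)) (tt N24230 F189313) (tt N26182 (iv F193675)) (tt N24091 (iv D41109)) (tt N26179 (iv F193668)) (tt N26193 D42120) (tt N25414 (iv F190199)) (tt N24093 F189314) (tt N26194 D42121))
theorem Q25184 : ∀ i, i < 25184 → P i := stepQ 25183 Q25183 (allL N25183 (tt N25639 (iv F191467)) (tt N26133 (iv F193523)) (tt N24231 F189315) (tt N24097 F189316) (tt N26193 (iv F193706)) (tt N25840 (iv F192444)) (tt N24091 (iv D41110)) (tt N26195 D42122) (tt N24094 F189317) (tt N26196 D42123))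
theorem Q25185 : ∀ i, i < 25185 → P i := stepQ 25184 Q25184 (allL N25184 (tt N25640 (iv F191473)) (tt N26128 (iv F193502)) (tt N24232 F189318) (tt N24098 F189319) (tt N26194 (iv F193709)) (tt N24092 F189320) (tt N26196 (iv F193715)) (tt N26122 (iv F193486)) (tt N26119 (iv F193473)) (tt N24091 (iv D41111)))
theorem Q25186 : ∀ i, i < 25186 → P i := stepQ 25185 Q25185 (allL N25185 (tt N25641 (iv F191477)) (tt N26131 (iv F193514)) (tt N24233 F189321) (tt N26184 (iv F193680)) (tt N24094 F189322) (tt N25185 F189323) (tt N24093 (iv D41112)) (tt N26197 D42124) (tt N26193 (iv F193707)) (tt N25764 (iv F192126)))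
theorem Q25187 : ∀ i, i < 25187 → P i := stepQ 25186 Q25186 (allL N25186 (tt N25643 (iv F191489)) (tt N25575 (iv F191139)) (tt N24235 F189324) (tt N24102 F189325) (tt N26197 (iv F193717)) (tt N24095 F189326) (tt N25541 (iv F190972)) (tt N24094 (iv D41113)) (tt N26195 (iv F193712)) (tt N25709 (iv F191867)))
theorem Q25188 : ∀ i, i < 25188 → P i := stepQ 25187 Q25187 (allL N25187 (tt N25646 (iv F191508)) (tt N25398 (iv F190103)) (tt N26162 (iv F193617)) (tt N24096 (iv D41114)) (tt N26182 (iv F193676)) (tt N24111 F189327) (tt N26198 D42125) (tt N26123 (iv F193489)) (tt N24099 F189328) (tt N26199 D42126))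
theorem Q25189 : ∀ i, i < 25189 → P i := stepQ 25188 Q25188 (allL N25188 (tt N25647 (iv F191511)) (tt N26188 (iv F193690)) (tt N24105 F189329) (tt N26198 (iv F193719)) (tt N24097 F189330) (tt N25797 (iv F192264)) (tt N24096 (iv D41115)) (tt N26200 D42127) (tt N24100 F189331) (tt N26201 D42128))
theorem Q25190 : ∀ i, i < 25190 → P i := stepQ 25189 Q25189 (allL N25189 (tt N25648 (iv F191517)) (tt N26189 (iv F193693)) (tt N24106 F189332) (tt N26199 (iv F193721)) (tt N24098 F189333) (tt N26153 (iv F193591)) (tt N26201 (iv F193728)) (tt N26125 (iv F193496)) (tt N26202 D42129) (tt N24096 (iv D41116)))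
theorem Q25191 : ∀ i, i < 25191 → P i := stepQ 25190 Q25190 (allL N25190 (tt N25649 (iv F191520)) (tt N25845 (iv F192463)) (tt N24107 F189334) (tt N26195 (iv F193711)) (tt N26200 (iv F193724)) (tt N25727 (iv F191949)) (tt N26126 (iv F193498)) (tt N24097 (iv D41117)) (tt N24102 F189335) (tt N26203 D42130))
theorem Q25192 : ∀ i, i < 25192 → P i := stepQ 25191 Q25191 (allL N25191 (tt N25650 (iv F191525)) (tt N26190 (iv F193696)) (tt N24108 F189336) (tt N26196 (iv F193714)) (tt N26201 (iv F193727)) (tt N25842 (iv F192454)) (tt N24098 F189337) (tt N26203 (iv F193733)) (tt N25886 (iv F192647)) (tt N24097 (iv D41118)))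
theorem Q25193 : ∀ i, i < 25193 → P i := stepQ 25192 Q25192 (allL N25192 (tt N25651 (iv F191530)) (tt N26122 (iv F193482)) (tt N24109 F189338) (tt N26119 (iv F193470)) (tt N26202 (iv F193730)) (tt N26117 (iv F193460)) (tt N25886 (iv F192646)) (tt N26128 (iv F193506)) (tt N24098 (iv D41119)) (tt N24103 F189339))
theorem Q25194 : ∀ i, i < 25194 → P i := stepQ 25193 Q25193 (allL N25193 (tt N25652 (iv F191533)) (tt N25444 (iv F190368)) (tt N26007 (iv F193077)) (tt N24100 F189340) (tt N26184 (iv F193681)) (tt N24115 F189341) (tt N24099 (iv D41120)) (tt N26204 D42131) (tt N26198 (iv F193720)) (tt N25883 (iv F192639)))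
theorem Q25195 : ∀ i, i < 25195 → P i := stepQ 25194 Q25194 (allL N25194 (tt N25653 (iv F191537)) (tt N25846 (iv F192467)) (tt N24110 F189342) (tt N26204 (iv F193734)) (tt N24102 F189343) (tt N24116 F189344) (tt N26130 (iv F193513)) (tt N24100 (iv D41121)) (tt N26200 (iv F193725)) (tt N25829 (iv F192392)))
theorem Q25196 : ∀ i, i < 25196 → P i := stepQ 25195 Q25195 (allL N25195 (tt N25654 (iv F191542)) (tt N25414 (iv F190196)) (tt N24111 F189345) (tt N26154 (iv F193593)) (tt N24103 F189346) (tt N26162 (iv F193619)) (tt N25884 (iv F192642)) (tt N26132 (iv F193522)) (tt N24101 (iv D41122)) (tt N26202 (iv F193731)))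
theorem Q25197 : ∀ i, i < 25197 → P i := stepQ 25196 Q25196 (allL N25196 (tt N25658 (iv F191563)) (tt N24229 F189347) (tt N26159 (iv F193607)) (tt N24106 F189348) (tt N24227 F189349) (tt N26156 (iv F193601)) (tt N26011 (iv F193093)) (tt N26135 (iv F193534)) (tt N26153 (iv F193592)) (tt N24104 (iv D41123)))
theorem Q25198 : ∀ i, i < 25198 → P i := stepQ 25197 Q25197 (allL N25197 (tt N25632 (iv F191436)) (tt N25862 (iv F192535)) (tt N25797 (iv F192262)) (tt N26010 (iv F193088)) (tt N25625 (iv F191405)) (tt N24105 (iv D41124)) (tt N25788 (iv F192224)) (tt N26205 D42132) (tt N24117 F189350) (tt N26206 D42133))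
theorem Q25199 : ∀ i, i < 25199 → P i := stepQ 25198 Q25198 (allL N25198 (tt N25659 (iv F191566)) (tt N25810 (iv F192305)) (tt N26200 (iv F193723)) (tt N25985 (iv F193008)) (tt N24107 F189351) (tt N26205 (iv F193736)) (tt N26137 (iv F193537)) (tt N24105 (iv D41125)) (tt N24110 F189352) (tt N26207 D42134))
theorem Q25200 : ∀ i, i < 25200 → P i := stepQ 25199 Q25199 (allL N25199 (tt N25660 (iv F191569)) (tt N25863 (iv F192541)) (tt N26201 (iv F193726)) (tt N26011 (iv F193091)) (tt N24108 F189353) (tt N26206 (iv F193738)) (tt N24106 F189354) (tt N26207 (iv F193740)) (tt N25888 (iv F192654)) (tt N24105 (iv D41126)))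
theorem Q25201 : ∀ i, i < 25201 → P i := stepQ 25200 Q25200 (allL N25200 (tt N25661 (iv F191572)) (tt N25399 (iv F190108)) (tt N26202 (iv F193729)) (tt N26153 (iv F193589)) (tt N24109 F189355) (tt N26199 (iv F193722)) (tt N25888 (iv F192653)) (tt N26139 (iv F193542)) (tt N24106 (iv D41127)) (tt N24111 F189356))
theorem Q25202 : ∀ i, i < 25202 → P i := stepQ 25201 Q25201 (allL N25201 (tt N25662 (iv F191575)) (tt N25812 (iv F192317)) (tt N26203 (iv F193732)) (tt N24240 F189357) (tt N26207 (iv F193739)) (tt N25932 (iv F192839)) (tt N26140 (iv F193545)) (tt N24108 F189358) (tt N25833 (iv F192409)) (tt N24107 (iv D41128)))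
theorem Q25203 : ∀ i, i < 25203 → P i := stepQ 25202 Q25202 (allL N25202 (tt N25460 (iv F190477)) (tt N24242 F189359) (tt N25908 (iv F192723)) (tt N24113 F189360) (tt N25202 F189361) (tt N26161 (iv F193615)) (tt N25202 F189362) (tt N24112 (iv D41129)) (tt N25363 (iv F189893)) (tt N26052 (iv F193199)))
theorem Q25204 : ∀ i, i < 25204 → P i := stepQ 25203 Q25203 (allL N25203 (tt N25667 (iv F191598)) (tt N25445 (iv F190373)) (tt N26052 (iv F193195)) (tt N24116 F189363) (tt N25203 F189364) (tt N26204 (iv F193735)) (tt N25203 F189365) (tt N24115 (iv D41130)) (tt N25915 (iv F192771)) (tt N25908 (iv F192727)))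
theorem Q25205 : ∀ i, i < 25205 → P i := stepQ 25204 Q25204 (allL N25204 (tt N25546 (iv F190995)) (tt N25642 (iv F191483)) (tt N25805 (iv F192287)) (tt N26054 (iv F193206)) (tt N25540 (iv F190964)) (tt N24118 F189366) (tt N26208 D42135) (tt N24117 (iv D41131)) (tt N26205 (iv F193737)) (tt N25631 (iv F191435)))
theorem Q25206 : ∀ i, i < 25206 → P i := stepQ 25205 Q25205 (allL N25205 (tt N25670 (iv F191618)) (tt N25412 (iv F190185)) (tt N24241 F189367) (tt N24223 F189368) (tt N26178 (iv F193662)) (tt N24121 F189369) (tt N24120 (iv D41132)) (tt N26209 D42136) (tt N26191 (iv F193700)) (tt N24221 F189370))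
theorem Q25207 : ∀ i, i < 25207 → P i := stepQ 25206 Q25206 (allL N25206 (tt N25671 (iv F191624)) (tt N25435 (iv F190311)) (tt N24242 F189371) (tt N24250 F189372) (tt N25206 F189373) (tt N26209 (iv F193746)) (tt N25206 F189374) (tt N24121 (iv D41133)) (tt N25935 (iv F192854)) (tt N24249 F189375))
theorem Q25208 : ∀ i, i < 25208 → P i := stepQ 25207 Q25207 (allL N25207 (tt N25854 (iv F192504)) (tt N24230 F189376) (tt N25380 (iv F189993)) (tt N24139 F189377) (tt N24126 F189378) (tt N26145 (iv F193557)) (tt N25743 (iv F192038)) (tt N25327 (iv F189649)) (tt N24125 (iv D41134)) (tt N26210 D42137))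
theorem Q25209 : ∀ i, i < 25209 → P i := stepQ 25208 Q25208 (allL N25208 (tt N25861 (iv F192529)) (tt N24232 F189379) (tt N25381 (iv F189999)) (tt N24127 F189380) (tt N26210 (iv F193750)) (tt N24227 F189381) (tt N25745 (iv F192045)) (tt N25328 (iv F189656)) (tt N25345 (iv F189779)) (tt N24126 (iv D41135)))
theorem Q25210 : ∀ i, i < 25210 → P i := stepQ 25209 Q25209 (allL N25209 (tt N25776 (iv F192164)) (tt N24132 F189382) (tt N24207 F189383) (tt N25392 (iv F190065)) (tt N24239 F189384) (tt N25352 (iv F189818)) (tt N25703 (iv F191827)) (tt N25331 (iv F189679)) (tt N24128 (iv D41136)) (tt N24129 F189385))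
theorem Q25211 : ∀ i, i < 25211 → P i := stepQ 25210 Q25210 (allL N25210 (tt N25859 (iv F192522)) (tt N25395 (iv F190083)) (tt N26075 (iv F193300)) (tt N25344 (iv F189768)) (tt N24131 F189386) (tt N26089 (iv F193372)) (tt N25738 (iv F192020)) (tt N25354 (iv F189835)) (tt N24130 (iv D41137)) (tt N26211 D42138))
theorem Q25212 : ∀ i, i < 25212 → P i := stepQ 25211 Q25211 (allL N25211 (tt N25858 (iv F192518)) (tt N25392 (iv F190063)) (tt N26076 (iv F193306)) (tt N24132 F189387) (tt N26211 (iv F193751)) (tt N25331 (iv F189678)) (tt N25739 (iv F192022)) (tt N25352 (iv F189819)) (tt N24140 F189388) (tt N24131 (iv D41138)))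
theorem Q25213 : ∀ i, i < 25213 → P i := stepQ 25212 Q25212 (allL N25212 (tt N25930 (iv F192831)) (tt N24214 F189389) (tt N25398 (iv F190104)) (tt N24133 (iv D41139)) (tt N26081 (iv F193337)) (tt N25327 (iv F189647)) (tt N26212 D42139) (tt N26145 (iv F193558)) (tt N24136 F189390) (tt N26213 D42140))
theorem Q25214 : ∀ i, i < 25214 → P i := stepQ 25213 Q25213 (allL N25213 (tt N26036 (iv F193155)) (tt N24215 F189391) (tt N25428 (iv F190267)) (tt N26212 (iv F193754)) (tt N24134 F189392) (tt N25881 (iv F192629)) (tt N24133 (iv D41140)) (tt N26214 D42141) (tt N24137 F189393) (tt N26215 D42142))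
theorem Q25215 : ∀ i, i < 25215 → P i := stepQ 25214 Q25214 (allL N25214 (tt N26030 (iv F193133)) (tt N24216 F189394) (tt N25420 (iv F190223)) (tt N26213 (iv F193757)) (tt N24135 F189395) (tt N25349 (iv F189801)) (tt N26215 (iv F193763)) (tt N26147 (iv F193566)) (tt N25408 (iv F190165)) (tt N24133 (iv D41141)))
theorem Q25216 : ∀ i, i < 25216 → P i := stepQ 25215 Q25215 (allL N25215 (tt N26037 (iv F193160)) (tt N24217 F189396) (tt N25429 (iv F190273)) (tt N26084 (iv F193350)) (tt N26214 (iv F193759)) (tt N25728 (iv F191956)) (tt N26148 (iv F193570)) (tt N24134 (iv D41142)) (tt N24138 F189397) (tt N26216 D42143))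
theorem Q25217 : ∀ i, i < 25217 → P i := stepQ 25216 Q25216 (allL N25216 (tt N26032 (iv F193140)) (tt N24218 F189398) (tt N25422 (iv F190230)) (tt N26085 (iv F193355)) (tt N26215 (iv F193762)) (tt N25741 (iv F192030)) (tt N24135 F189399) (tt N26216 (iv F193765)) (tt N25410 (iv F190176)) (tt N24134 (iv D41143)))
theorem Q25218 : ∀ i, i < 25218 → P i := stepQ 25217 Q25217 (allL N25217 (tt N25934 (iv F192844)) (tt N24221 F189400) (tt N25444 (iv F190369)) (tt N24137 F189401) (tt N26086 (iv F193359)) (tt N24245 F189402) (tt N24136 (iv D41144)) (tt N26217 D42144) (tt N26212 (iv F193755)) (tt N25412 (iv F190188)))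
theorem Q25219 : ∀ i, i < 25219 → P i := stepQ 25218 Q25218 (allL N25218 (tt N26035 (iv F193150)) (tt N24222 F189403) (tt N25427 (iv F190261)) (tt N26217 (iv F193767)) (tt N24138 F189404) (tt N24246 F189405) (tt N26151 (iv F193582)) (tt N24137 (iv D41145)) (tt N26214 (iv F193760)) (tt N25413 (iv F190194)))
theorem Q25220 : ∀ i, i < 25220 → P i := stepQ 25219 Q25219 (allL N25219 (tt N25856 (iv F192512)) (tt N25389 (iv F190048)) (tt N26092 (iv F193386)) (tt N26210 (iv F193749)) (tt N24140 F189406) (tt N26147 (iv F193565)) (tt N25948 (iv F192893)) (tt N25349 (iv F189802)) (tt N26211 (iv F193752)) (tt N24139 (iv D41146)))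
theorem Q25221 : ∀ i, i < 25221 → P i := stepQ 25220 Q25220 (allL N25220 (tt N25724 (iv F191932)) (tt N24143 F189407) (tt N25332 (iv F189683)) (tt N26078 (iv F193319)) (tt N24204 F189408) (tt N26069 (iv F193270)) (tt N24176 F189409) (tt N25446 (iv F190386)) (tt N24141 (iv D41147)) (tt N26218 D42145))
theorem Q25222 : ∀ i, i < 25222 → P i := stepQ 25221 Q25221 (allL N25221 (tt N25452 (iv F190425)) (tt N26080 (iv F193329)) (tt N25673 (iv F191642)) (tt N25355 (iv F189839)) (tt N24142 (iv D41148)) (tt N25221 F189410) (tt N24177 F189411) (tt N25447 (iv F190393)) (tt N26219 D42146) (tt N24150 F189412))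
theorem Q25223 : ∀ i, i < 25223 → P i := stepQ 25222 Q25222 (allL N25222 (tt N25453 (iv F190433)) (tt N26078 (iv F193317)) (tt N25674 (iv F191650)) (tt N24143 F189413) (tt N26219 (iv F193773)) (tt N26148 (iv F193569)) (tt N24178 F189414) (tt N25448 (iv F190401)) (tt N24142 (iv D41149)) (tt N26220 D42147))
theorem Q25224 : ∀ i, i < 25224 → P i := stepQ 25223 Q25223 (allL N25223 (tt N25456 (iv F190451)) (tt N26218 (iv F193769)) (tt N24145 F189415) (tt N26220 (iv F193775)) (tt N25359 (iv F189865)) (tt N26160 (iv F193611)) (tt N24180 F189416) (tt N25449 (iv F190407)) (tt N24155 F189417) (tt N24143 (iv D41150)))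
theorem Q25225 : ∀ i, i < 25225 → P i := stepQ 25224 Q25224 (allL N25224 (tt N25463 (iv F190497)) (tt N25582 (iv F191187)) (tt N26157 (iv F193602)) (tt N25831 (iv F192396)) (tt N24144 (iv D41151)) (tt N25366 (iv F189910)) (tt N26221 D42148) (tt N25450 (iv F190415)) (tt N24146 F189418) (tt N26222 D42149))
theorem Q25226 : ∀ i, i < 25226 → P i := stepQ 25225 Q25225 (allL N25225 (tt N25464 (iv F190502)) (tt N25448 (iv F190396)) (tt N26084 (iv F193349)) (tt N25446 (iv F190382)) (tt N26221 (iv F193778)) (tt N24184 F189419) (tt N24144 (iv D41152)) (tt N26078 (iv F193321)) (tt N24147 F189420) (tt N26223 D42150))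
theorem Q25227 : ∀ i, i < 25227 → P i := stepQ 25226 Q25226 (allL N25226 (tt N25465 (iv F190507)) (tt N25583 (iv F191193)) (tt N26160 (iv F193610)) (tt N25677 (iv F191669)) (tt N26222 (iv F193780)) (tt N24145 F189421) (tt N26223 (iv F193782)) (tt N25451 (iv F190423)) (tt N25986 (iv F193015)) (tt N24144 (iv D41153)))
theorem Q25228 : ∀ i, i < 25228 → P i := stepQ 25227 Q25227 (allL N25227 (tt N25467 (iv F190518)) (tt N25447 (iv F190388)) (tt N26087 (iv F193362)) (tt N25779 (iv F192184)) (tt N24147 F189422) (tt N25227 F189423) (tt N24146 (iv D41154)) (tt N26080 (iv F193334)) (tt N26221 (iv F193779)) (tt N25953 (iv F192907)))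
theorem Q25229 : ∀ i, i < 25229 → P i := stepQ 25228 Q25228 (allL N25228 (tt N25840 (iv F192441)) (tt N24151 F189424) (tt N25401 (iv F190120)) (tt N24149 F189425) (tt N26134 (iv F193529)) (tt N25639 (iv F191471)) (tt N24194 F189426) (tt N25954 (iv F192911)) (tt N24148 (iv D41155)) (tt N26224 D42151))
theorem Q25230 : ∀ i, i < 25230 → P i := stepQ 25229 Q25229 (allL N25229 (tt N25842 (iv F192451)) (tt N24155 F189427) (tt N25330 (iv F189668)) (tt N26224 (iv F193784)) (tt N24202 F189428) (tt N25650 (iv F191528)) (tt N24195 F189429) (tt N25955 (iv F192915)) (tt N26218 (iv F193772)) (tt N24149 (iv D41156)))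
theorem Q25231 : ∀ i, i < 25231 → P i := stepQ 25230 Q25230 (allL N25230 (tt N25784 (iv F192210)) (tt N26134 (iv F193527)) (tt N26097 (iv F193402)) (tt N25474 (iv F190563)) (tt N24151 F189430) (tt N26225 D42152) (tt N24196 F189431) (tt N25956 (iv F192918)) (tt N24150 (iv D41157)) (tt N26226 D42153))
theorem Q25232 : ∀ i, i < 25232 → P i := stepQ 25231 Q25231 (allL N25231 (tt N25785 (iv F192213)) (tt N25639 (iv F191468)) (tt N26098 (iv F193405)) (tt N24154 F189432) (tt N26227 D42154) (tt N24151 (iv D41158)) (tt N25629 (iv F191426)) (tt N25957 (iv F192920)) (tt N24152 F189433) (tt N26228 D42155))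
theorem Q25233 : ∀ i, i < 25233 → P i := stepQ 25232 Q25232 (allL N25232 (tt N25786 (iv F192216)) (tt N26224 (iv F193783)) (tt N26099 (iv F193408)) (tt N24155 F189434) (tt N26226 (iv F193787)) (tt N26228 (iv F193791)) (tt N24198 F189435) (tt N25958 (iv F192924)) (tt N26220 (iv F193777)) (tt N24151 (iv D41159)))
theorem Q25234 : ∀ i, i < 25234 → P i := stepQ 25233 Q25233 (allL N25233 (tt N25787 (iv F192219)) (tt N25641 (iv F191478)) (tt N26100 (iv F193411)) (tt N26229 D42156) (tt N24152 (iv D41160)) (tt N25233 F189436) (tt N25631 (iv F191433)) (tt N25959 (iv F192926)) (tt N26227 (iv F193789)) (tt N26208 (iv F193743)))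
theorem Q25235 : ∀ i, i < 25235 → P i := stepQ 25234 Q25234 (allL N25234 (tt N25547 (iv F191000)) (tt N25644 (iv F191497)) (tt N25372 (iv F189939)) (tt N24157 F189437) (tt N26208 (iv F193741)) (tt N24153 F189438) (tt N25540 (iv F190965)) (tt N25361 F189879) (tt N26230 D42157) (tt N24152 (iv D41161)))
theorem Q25236 : ∀ i, i < 25236 → P i := stepQ 25235 Q25235 (allL N25235 (tt N25788 (iv F192221)) (tt N25647 (iv F191512)) (tt N24161 F189439) (tt N26231 D42158) (tt N24154 (iv D41162)) (tt N25478 (iv F190585)) (tt N25632 (iv F191440)) (tt N25960 (iv F192928)) (tt N24156 F189440) (tt N26232 D42159))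
theorem Q25237 : ∀ i, i < 25237 → P i := stepQ 25236 Q25236 (allL N25236 (tt N25789 (iv F192226)) (tt N25650 (iv F191526)) (tt N24163 F189441) (tt N26228 (iv F193790)) (tt N26232 (iv F193797)) (tt N24155 F189442) (tt N25633 (iv F191445)) (tt N25962 (iv F192935)) (tt N26233 D42160) (tt N24154 (iv D41163)))
theorem Q25238 : ∀ i, i < 25238 → P i := stepQ 25237 Q25237 (allL N25237 (tt N25790 (iv F192229)) (tt N25652 (iv F191534)) (tt N26234 D42161) (tt N24156 (iv D41164)) (tt N26229 (iv F193792)) (tt N24158 F189443) (tt N25495 (iv F190684)) (tt N25963 (iv F192937)) (tt N26231 (iv F193795)) (tt N26235 D42162))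
theorem Q25239 : ∀ i, i < 25239 → P i := stepQ 25238 Q25238 (allL N25238 (tt N25791 (iv F192233)) (tt N25492 (iv F190664)) (tt N24166 F189444) (tt N26235 (iv F193802)) (tt N24157 F189445) (tt N24159 F189446) (tt N25634 (iv F191452)) (tt N25965 (iv F192944)) (tt N26236 D42163) (tt N24156 (iv D41165)))
theorem Q25240 : ∀ i, i < 25240 → P i := stepQ 25239 Q25239 (allL N25239 (tt N25792 (iv F192239)) (tt N25656 (iv F191553)) (tt N24169 F189447) (tt N26230 (iv F193794)) (tt N26236 (iv F193806)) (tt N25984 (iv F193005)) (tt N25635 (iv F191455)) (tt N25966 (iv F192947)) (tt N24157 (iv D41166)) (tt N26233 (iv F193799)))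
theorem Q25241 : ∀ i, i < 25241 → P i := stepQ 25240 Q25240 (allL N25240 (tt N25793 (iv F192241)) (tt N26237 D42164) (tt N24158 (iv D41167)) (tt N24172 F189448) (tt N25240 F189449) (tt N26234 (iv F193801)) (tt N24251 F189450) (tt N25967 (iv F192951)) (tt N25483 (iv F190612)) (tt N26238 D42165))
theorem Q25242 : ∀ i, i < 25242 → P i := stepQ 25241 Q25241 (allL N25241 (tt N25794 (iv F192246)) (tt N25483 F190613) (tt N26238 (iv F193814)) (tt N24159 F189451) (tt N25241 F189452) (tt N26235 (iv F193803)) (tt N24252 F189453) (tt N25968 (iv F192955)) (tt N26237 (iv F193811)) (tt N24158 (iv D41168)))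
theorem Q25243 : ∀ i, i < 25243 → P i := stepQ 25242 Q25242 (allL N25242 (tt N25795 (iv F192251)) (tt N24172 F189454) (tt N24174 F189455) (tt N26237 (iv F193808)) (tt N24160 F189456) (tt N26239 D42166) (tt N24253 F189457) (tt N25969 (iv F192960)) (tt N24159 (iv D41169)) (tt N25485 (iv F190628)))
theorem Q25244 : ∀ i, i < 25244 → P i := stepQ 25243 Q25243 (allL N25243 (tt N25796 (iv F192257)) (tt N25584 (iv F191199)) (tt N26240 D42167) (tt N24161 (iv D41170)) (tt N26107 (iv F193432)) (tt N25486 (iv F190632)) (tt N26241 D42168) (tt N25970 (iv F192961)) (tt N24164 F189458) (tt N26242 D42169))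
theorem Q25245 : ∀ i, i < 25245 → P i := stepQ 25244 Q25244 (allL N25244 (tt N25797 (iv F192261)) (tt N25478 (iv F190583)) (tt N25632 (iv F191438)) (tt N26241 (iv F193822)) (tt N24162 F189459) (tt N25647 (iv F191515)) (tt N24161 (iv D41171)) (tt N26243 D42170) (tt N24165 F189460) (tt N26244 D42171))
theorem Q25246 : ∀ i, i < 25246 → P i := stepQ 25245 Q25245 (allL N25245 (tt N25798 (iv F192266)) (tt N25585 (iv F191203)) (tt N26232 (iv F193796)) (tt N26242 (iv F193824)) (tt N24163 F189461) (tt N25488 (iv F190644)) (tt N26244 (iv F193828)) (tt N25972 (iv F192966)) (tt N26245 D42172) (tt N24161 (iv D41172)))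
theorem Q25247 : ∀ i, i < 25247 → P i := stepQ 25246 Q25246 (allL N25246 (tt N25799 (iv F192268)) (tt N25455 (iv F190447)) (tt N25544 (iv F190988)) (tt N26110 (iv F193437)) (tt N26243 (iv F193825)) (tt N24201 F189462) (tt N25973 (iv F192968)) (tt N24162 (iv D41173)) (tt N24167 F189463) (tt N26246 D42173))
theorem Q25248 : ∀ i, i < 25248 → P i := stepQ 25247 Q25247 (allL N25247 (tt N25800 (iv F192271)) (tt N25479 (iv F190589)) (tt N25633 (iv F191443)) (tt N26111 (iv F193440)) (tt N26244 (iv F193827)) (tt N24202 F189464) (tt N24163 F189465) (tt N26246 (iv F193832)) (tt N26247 D42174) (tt N24162 (iv D41174)))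
theorem Q25249 : ∀ i, i < 25249 → P i := stepQ 25248 Q25248 (allL N25248 (tt N25801 (iv F192274)) (tt N25586 (iv F191207)) (tt N26233 (iv F193798)) (tt N25989 (iv F193024)) (tt N26245 (iv F193829)) (tt N25986 (iv F193013)) (tt N26247 (iv F193833)) (tt N25975 (iv F192975)) (tt N24163 (iv D41175)) (tt N24169 F189466))
theorem Q25250 : ∀ i, i < 25250 → P i := stepQ 25249 Q25249 (allL N25249 (tt N25802 (iv F192276)) (tt N26239 (iv F193819)) (tt N24164 (iv D41176)) (tt N26234 (iv F193800)) (tt N26112 (iv F193443)) (tt N24172 F189467) (tt N26248 D42175) (tt N25976 (iv F192978)) (tt N26240 (iv F193821)) (tt N26249 D42176))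
theorem Q25251 : ∀ i, i < 25251 → P i := stepQ 25250 Q25250 (allL N25250 (tt N25803 (iv F192278)) (tt N25480 (iv F190594)) (tt N26248 (iv F193835)) (tt N24165 F189468) (tt N26113 (iv F193446)) (tt N24255 F189469) (tt N24164 (iv D41177)) (tt N26250 D42177) (tt N26241 (iv F193823)) (tt N26251 D42178))
theorem Q25252 : ∀ i, i < 25252 → P i := stepQ 25251 Q25251 (allL N25251 (tt N25804 (iv F192282)) (tt N25588 (iv F191221)) (tt N26249 (iv F193837)) (tt N24166 F189470) (tt N25990 (iv F193029)) (tt N24173 F189471) (tt N26251 (iv F193843)) (tt N25978 (iv F192985)) (tt N26252 D42179) (tt N24164 (iv D41178)))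
theorem Q25253 : ∀ i, i < 25253 → P i := stepQ 25252 Q25252 (allL N25252 (tt N25805 (iv F192286)) (tt N25457 (iv F190459)) (tt N25546 (iv F190997)) (tt N26250 (iv F193839)) (tt N24167 F189472) (tt N24257 F189473) (tt N25979 (iv F192988)) (tt N24165 (iv D41179)) (tt N26243 (iv F193826)) (tt N26253 D42180))
theorem Q25254 : ∀ i, i < 25254 → P i := stepQ 25253 Q25253 (allL N25253 (tt N25806 (iv F192290)) (tt N25481 (iv F190598)) (tt N25634 (iv F191448)) (tt N26251 (iv F193841)) (tt N24168 F189474) (tt N24258 F189475) (tt N24166 F189476) (tt N26253 (iv F193847)) (tt N26254 D42181) (tt N24165 (iv D41180)))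
theorem Q25255 : ∀ i, i < 25255 → P i := stepQ 25254 Q25254 (allL N25254 (tt N25807 (iv F192296)) (tt N25589 (iv F191228)) (tt N26236 (iv F193805)) (tt N26252 (iv F193844)) (tt N24169 F189477) (tt N26255 D42182) (tt N26254 (iv F193849)) (tt N25980 (iv F192991)) (tt N24166 (iv D41181)) (tt N26245 (iv F193830)))
theorem Q25256 : ∀ i, i < 25256 → P i := stepQ 25255 Q25255 (allL N25255 (tt N25628 (iv F191417)) (tt N25459 (iv F190471)) (tt N25548 (iv F191009)) (tt N25502 (iv F190727)) (tt N26253 (iv F193845)) (tt N24170 F189478) (tt N25498 (iv F190704)) (tt N24168 F189479) (tt N26256 D42183) (tt N24167 (iv D41182)))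
theorem Q25257 : ∀ i, i < 25257 → P i := stepQ 25256 Q25256 (allL N25256 (tt N25808 (iv F192298)) (tt N25482 (iv F190604)) (tt N25635 (iv F191454)) (tt N25988 (iv F193021)) (tt N26254 (iv F193848)) (tt N26257 D42184) (tt N24169 F189480) (tt N26256 (iv F193851)) (tt N24168 (iv D41183)) (tt N26247 (iv F193834)))
theorem Q25258 : ∀ i, i < 25258 → P i := stepQ 25257 Q25257 (allL N25257 (tt N25541 (iv F190968)) (tt N25362 (iv F189882)) (tt N25538 (iv F190948)) (tt N25560 (iv F191074)) (tt N26048 (iv F193182)) (tt N24171 (iv D41184)) (tt N25643 (iv F191494)) (tt N25553 F191043) (tt N26257 (iv F193852)) (tt N24205 F189481))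
theorem Q25259 : ∀ i, i < 25259 → P i := stepQ 25258 Q25258 (allL N25258 (tt N25760 (iv F192103)) (tt N25485 (iv F190623)) (tt N24173 F189482) (tt N26238 (iv F193815)) (tt N24175 F189483) (tt N26249 (iv F193838)) (tt N24259 F189484) (tt N25981 (iv F192995)) (tt N24258 F189485) (tt N24172 (iv D41185)))
theorem Q25260 : ∀ i, i < 25260 → P i := stepQ 25259 Q25259 (allL N25259 (tt N25809 (iv F192300)) (tt N25587 (iv F191219)) (tt N26239 (iv F193820)) (tt N25634 (iv F191449)) (tt N26054 (iv F193207)) (tt N24174 (iv D41186)) (tt N26235 (iv F193804)) (tt N25982 (iv F192999)) (tt N26255 (iv F193850)) (tt N25495 (iv F190685)))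
theorem Q25261 : ∀ i, i < 25261 → P i := stepQ 25260 Q25260 (allL N25260 (tt N25778 (iv F192177)) (tt N24180 F189486) (tt N25331 (iv F189675)) (tt N26079 (iv F193325)) (tt N24203 F189487) (tt N26076 (iv F193308)) (tt N26218 (iv F193771)) (tt N24207 F189488) (tt N24195 F189489) (tt N24176 (iv D41187)))
theorem Q25262 : ∀ i, i < 25262 → P i := stepQ 25261 Q25261 (allL N25261 (tt N25810 (iv F192304)) (tt N26077 (iv F193311)) (tt N26063 (iv F193236)) (tt N25380 (iv F189994)) (tt N24178 F189490) (tt N26118 (iv F193465)) (tt N26219 (iv F193774)) (tt N24208 F189491) (tt N24177 (iv D41188)) (tt N26258 D42185))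
theorem Q25263 : ∀ i, i < 25263 → P i := stepQ 25262 Q25262 (allL N25262 (tt N25812 (iv F192316)) (tt N26079 (iv F193323)) (tt N26064 (iv F193242)) (tt N24180 F189492) (tt N26258 (iv F193853)) (tt N26074 (iv F193296)) (tt N26220 (iv F193776)) (tt N24209 F189493) (tt N24198 F189494) (tt N24178 (iv D41189)))
theorem Q25264 : ∀ i, i < 25264 → P i := stepQ 25263 Q25263 (allL N25263 (tt N25813 (iv F192321)) (tt N26075 (iv F193299)) (tt N24183 F189495) (tt N26116 (iv F193454)) (tt N24179 (iv D41190)) (tt N25382 (iv F190007)) (tt N26259 D42186) (tt N24210 F189496) (tt N24181 F189497) (tt N26260 D42187))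
theorem Q25265 : ∀ i, i < 25265 → P i := stepQ 25264 Q25264 (allL N25264 (tt N25814 (iv F192327)) (tt N25730 (iv F191968)) (tt N24184 F189498) (tt N25728 (iv F191954)) (tt N26259 (iv F193857)) (tt N26084 (iv F193351)) (tt N24179 (iv D41191)) (tt N25733 (iv F191992)) (tt N24182 F189499) (tt N26261 D42188))
theorem Q25266 : ∀ i, i < 25266 → P i := stepQ 25265 Q25265 (allL N25265 (tt N25815 (iv F192332)) (tt N26076 (iv F193305)) (tt N24185 F189500) (tt N26074 (iv F193294)) (tt N26260 (iv F193860)) (tt N24180 F189501) (tt N26261 (iv F193863)) (tt N24211 F189502) (tt N26090 (iv F193379)) (tt N24179 (iv D41192)))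
theorem Q25267 : ∀ i, i < 25267 → P i := stepQ 25266 Q25266 (allL N25266 (tt N25816 (iv F192337)) (tt N25729 (iv F191960)) (tt N24187 F189503) (tt N26094 (iv F193392)) (tt N24182 F189504) (tt N25266 F189505) (tt N24181 (iv D41193)) (tt N25735 (iv F192005)) (tt N26259 (iv F193858)) (tt N25919 (iv F192793)))
theorem Q25268 : ∀ i, i < 25268 → P i := stepQ 25267 Q25267 (allL N25267 (tt N25818 (iv F192349)) (tt N26145 (iv F193555)) (tt N26179 (iv F193665)) (tt N24183 (iv D41194)) (tt N24228 F189506) (tt N24230 F189507) (tt N26262 D42189) (tt N24214 F189508) (tt N24186 F189509) (tt N26263 D42190))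
theorem Q25269 : ∀ i, i < 25269 → P i := stepQ 25268 Q25268 (allL N25268 (tt N25819 (iv F192354)) (tt N26146 (iv F193560)) (tt N26259 (iv F193856)) (tt N26262 (iv F193864)) (tt N24184 F189510) (tt N26264 D42191) (tt N24183 (iv D41195)) (tt N26265 D42192) (tt N24187 F189511) (tt N26266 D42193))
theorem Q25270 : ∀ i, i < 25270 → P i := stepQ 25269 Q25269 (allL N25269 (tt N25820 (iv F192357)) (tt N26147 (iv F193563)) (tt N26260 (iv F193859)) (tt N26263 (iv F193867)) (tt N24185 F189512) (tt N25389 (iv F190051)) (tt N26266 (iv F193876)) (tt N24216 F189513) (tt N26267 D42194) (tt N24183 (iv D41196)))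
theorem Q25271 : ∀ i, i < 25271 → P i := stepQ 25270 Q25270 (allL N25270 (tt N25821 (iv F192361)) (tt N26148 (iv F193567)) (tt N25733 (iv F191989)) (tt N26069 (iv F193269)) (tt N26265 (iv F193872)) (tt N26078 (iv F193320)) (tt N24217 F189514) (tt N24184 (iv D41197)) (tt N24189 F189515) (tt N26268 D42195))
theorem Q25272 : ∀ i, i < 25272 → P i := stepQ 25271 Q25271 (allL N25271 (tt N25822 (iv F192365)) (tt N26149 (iv F193572)) (tt N26261 (iv F193862)) (tt N26070 (iv F193274)) (tt N26266 (iv F193875)) (tt N26223 (iv F193781)) (tt N24185 F189516) (tt N26268 (iv F193881)) (tt N26269 D42196) (tt N24184 (iv D41198)))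
theorem Q25273 : ∀ i, i < 25273 → P i := stepQ 25272 Q25272 (allL N25272 (tt N25823 (iv F192367)) (tt N25384 (iv F190016)) (tt N26090 (iv F193375)) (tt N26071 (iv F193278)) (tt N26267 (iv F193877)) (tt N24203 F189517) (tt N26269 (iv F193882)) (tt N24219 F189518) (tt N24185 (iv D41199)) (tt N24191 F189519))
theorem Q25274 : ∀ i, i < 25274 → P i := stepQ 25273 Q25273 (allL N25273 (tt N25824 (iv F192371)) (tt N26150 (iv F193575)) (tt N26178 (iv F193660)) (tt N24187 F189520) (tt N24241 F189521) (tt N25273 F189522) (tt N24186 (iv D41200)) (tt N26270 D42197) (tt N26262 (iv F193866)) (tt N26176 (iv F193655)))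
theorem Q25275 : ∀ i, i < 25275 → P i := stepQ 25274 Q25274 (allL N25274 (tt N25825 (iv F192375)) (tt N26151 (iv F193579)) (tt N25735 (iv F192002)) (tt N26270 (iv F193884)) (tt N24189 F189523) (tt N25274 F189524) (tt N24222 F189525) (tt N24187 (iv D41201)) (tt N26265 (iv F193874)) (tt N26271 D42198))
theorem Q25276 : ∀ i, i < 25276 → P i := stepQ 25275 Q25275 (allL N25275 (tt N25826 (iv F192380)) (tt N25386 (iv F190030)) (tt N25919 (iv F192789)) (tt N26176 (iv F193652)) (tt N24190 F189526) (tt N25275 F189527) (tt N24188 F189528) (tt N26271 (iv F193891)) (tt N26272 D42199) (tt N24187 (iv D41202)))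
theorem Q25277 : ∀ i, i < 25277 → P i := stepQ 25276 Q25276 (allL N25276 (tt N25827 (iv F192384)) (tt N25382 (iv F190005)) (tt N26089 (iv F193369)) (tt N26120 (iv F193475)) (tt N24191 F189529) (tt N26075 (iv F193303)) (tt N26272 (iv F193893)) (tt N24224 F189530) (tt N24188 (iv D41203)) (tt N26267 (iv F193879)))
theorem Q25278 : ∀ i, i < 25278 → P i := stepQ 25277 Q25277 (allL N25277 (tt N25766 (iv F192131)) (tt N25387 (iv F190036)) (tt N25678 (iv F191676)) (tt N25657 (iv F191559)) (tt N26271 (iv F193888)) (tt N24192 F189531) (tt N24225 F189532) (tt N24190 F189533) (tt N26273 D42200) (tt N24189 (iv D41204)))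
theorem Q25279 : ∀ i, i < 25279 → P i := stepQ 25278 Q25278 (allL N25278 (tt N25828 (iv F192387)) (tt N25383 (iv F190011)) (tt N25920 (iv F192795)) (tt N25927 (iv F192821)) (tt N26272 (iv F193892)) (tt N26274 D42201) (tt N24191 F189534) (tt N26273 (iv F193895)) (tt N24190 (iv D41205)) (tt N26269 (iv F193883)))
theorem Q25280 : ∀ i, i < 25280 → P i := stepQ 25279 Q25279 (allL N25279 (tt N25709 (iv F191861)) (tt N25361 (iv F189875)) (tt N25595 (iv F191256)) (tt N25655 (iv F191548)) (tt N26275 D42202) (tt N24193 (iv D41206)) (tt N24205 F189535) (tt N25644 (iv F191502)) (tt N26274 (iv F193897)) (tt N25643 F191495))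
theorem Q25281 : ∀ i, i < 25281 → P i := stepQ 25280 Q25280 (allL N25280 (tt N25841 (iv F192446)) (tt N24198 F189536) (tt N25402 (iv F190126)) (tt N24195 F189537) (tt N26135 (iv F193533)) (tt N25328 (iv F189654)) (tt N26224 (iv F193785)) (tt N24227 F189538) (tt N26079 (iv F193328)) (tt N24194 (iv D41207)))
theorem Q25282 : ∀ i, i < 25282 → P i := stepQ 25281 Q25281 (allL N25281 (tt N25836 (iv F192422)) (tt N26135 (iv F193531)) (tt N26121 (iv F193479)) (tt N26061 (iv F193224)) (tt N24198 F189539) (tt N26169 (iv F193637)) (tt N26226 (iv F193788)) (tt N24229 F189540) (tt N26258 (iv F193855)) (tt N24196 (iv D41208)))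
theorem Q25283 : ∀ i, i < 25283 → P i := stepQ 25282 Q25282 (allL N25282 (tt N25837 (iv F192425)) (tt N25328 (iv F189651)) (tt N26122 (iv F193483)) (tt N24199 F189541) (tt N25416 (iv F190208)) (tt N24198 F189542) (tt N25630 (iv F191430)) (tt N24232 F189543) (tt N26091 (iv F193385)) (tt N24197 (iv D41209)))
theorem Q25284 : ∀ i, i < 25284 → P i := stepQ 25283 Q25283 (allL N25283 (tt N25839 (iv F192436)) (tt N24206 F189544) (tt N24203 F189545) (tt N26091 (iv F193382)) (tt N25331 (iv F189677)) (tt N26090 (iv F193377)) (tt N25593 (iv F191246)) (tt N24239 F189546) (tt N24199 (iv D41210)) (tt N24200 F189547))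
theorem Q25285 : ∀ i, i < 25285 → P i := stepQ 25284 Q25284 (allL N25284 (tt N25843 (iv F192456)) (tt N25456 (iv F190452)) (tt N25545 (iv F190992)) (tt N26140 (iv F193544)) (tt N25955 (iv F192913)) (tt N26246 (iv F193831)) (tt N24240 F189548) (tt N24202 F189549) (tt N25782 (iv F192201)) (tt N24201 (iv D41211)))
theorem Q25286 : ∀ i, i < 25286 → P i := stepQ 25285 Q25285 (allL N25285 (tt N25844 (iv F192459)) (tt N25359 (iv F189863)) (tt N25593 (iv F191245)) (tt N26141 (iv F193547)) (tt N26218 (iv F193770)) (tt N26276 D42203) (tt N24203 F189550) (tt N25782 (iv F192200)) (tt N24202 (iv D41212)) (tt N24204 F189551))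
theorem Q25287 : ∀ i, i < 25287 → P i := stepQ 25286 Q25286 (allL N25286 (tt N25845 (iv F192462)) (tt N25358 (iv F189858)) (tt N25592 (iv F191242)) (tt N26143 (iv F193552)) (tt N26277 D42204) (tt N24204 (iv D41213)) (tt N26274 (iv F193896)) (tt N25781 (iv F192196)) (tt N24205 F189552) (tt N26276 (iv F193900)))
theorem Q25288 : ∀ i, i < 25288 → P i := stepQ 25287 Q25287 (allL N25287 (tt N25846 (iv F192466)) (tt N25360 (iv F189870)) (tt N25594 (iv F191249)) (tt N26058 (iv F193213)) (tt N24205 (iv D41214)) (tt N24261 F189553) (tt N26275 (iv F193899)) (tt N25783 (iv F192207)) (tt N26277 (iv F193901)) (tt N26048 (iv F193184)))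
theorem Q25289 : ∀ i, i < 25289 → P i := stepQ 25288 Q25288 (allL N25288 (tt N25863 (iv F192540)) (tt N26153 (iv F193587)) (tt N26164 (iv F193622)) (tt N25399 (iv F190109)) (tt N24209 F189554) (tt N26189 (iv F193695)) (tt N25860 (iv F192527)) (tt N26258 (iv F193854)) (tt N24229 F189555) (tt N24208 (iv D41215)))
theorem Q25290 : ∀ i, i < 25290 → P i := stepQ 25289 Q25289 (allL N25289 (tt N25867 (iv F192566)) (tt N26152 (iv F193583)) (tt N24216 F189556) (tt N26187 (iv F193688)) (tt N24211 F189557) (tt N25408 (iv F190164)) (tt N25936 (iv F192859)) (tt N26260 (iv F193861)) (tt N26278 D42205) (tt N24210 (iv D41216)))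
theorem Q25291 : ∀ i, i < 25291 → P i := stepQ 25290 Q25290 (allL N25290 (tt N25868 (iv F192572)) (tt N25347 (iv F189787)) (tt N24219 F189558) (tt N26060 (iv F193218)) (tt N26278 (iv F193903)) (tt N24239 F189559) (tt N25937 (iv F192862)) (tt N26090 (iv F193378)) (tt N24211 (iv D41217)) (tt N24213 F189560))
theorem Q25292 : ∀ i, i < 25292 → P i := stepQ 25291 Q25291 (allL N25291 (tt N25869 (iv F192578)) (tt N25346 (iv F189781)) (tt N24224 F189561) (tt N26065 (iv F193249)) (tt N24213 F189562) (tt N25354 (iv F189833)) (tt N25938 (iv F192868)) (tt N26089 (iv F193373)) (tt N24212 (iv D41218)) (tt N26278 (iv F193904)))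
theorem Q25293 : ∀ i, i < 25293 → P i := stepQ 25292 Q25292 (allL N25292 (tt N25870 (iv F192583)) (tt N26162 (iv F193616)) (tt N24214 (iv D41219)) (tt N26073 (iv F193289)) (tt N26120 (iv F193476)) (tt N25414 (iv F190198)) (tt N26279 D42206) (tt N26179 (iv F193669)) (tt N24220 F189563) (tt N26280 D42207))
theorem Q25294 : ∀ i, i < 25294 → P i := stepQ 25293 Q25293 (allL N25293 (tt N25871 (iv F192586)) (tt N26212 (iv F193753)) (tt N26279 (iv F193905)) (tt N24215 F189564) (tt N26168 (iv F193633)) (tt N26281 D42208) (tt N24214 (iv D41220)) (tt N26282 D42209) (tt N24221 F189565) (tt N26283 D42210))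
theorem Q25295 : ∀ i, i < 25295 → P i := stepQ 25294 Q25294 (allL N25294 (tt N25872 (iv F192589)) (tt N26213 (iv F193756)) (tt N26280 (iv F193907)) (tt N24216 F189566) (tt N26169 (iv F193636)) (tt N25416 (iv F190209)) (tt N26283 (iv F193914)) (tt N26263 (iv F193870)) (tt N26192 (iv F193704)) (tt N24214 (iv D41221)))
theorem Q25296 : ∀ i, i < 25296 → P i := stepQ 25295 Q25295 (allL N25295 (tt N25747 (iv F192051)) (tt N25881 (iv F192626)) (tt N25693 (iv F191776)) (tt N26281 (iv F193909)) (tt N25691 (iv F191764)) (tt N24215 (iv D41222)) (tt N25417 (iv F190214)) (tt N26101 (iv F193415)) (tt N24248 F189567) (tt N26284 D42211))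
theorem Q25297 : ∀ i, i < 25297 → P i := stepQ 25296 Q25296 (allL N25296 (tt N25873 (iv F192592)) (tt N26214 (iv F193758)) (tt N25732 (iv F191983)) (tt N26282 (iv F193911)) (tt N24217 F189568) (tt N26101 (iv F193414)) (tt N26265 (iv F193873)) (tt N24215 (iv D41223)) (tt N24222 F189569) (tt N26285 D42212))
theorem Q25298 : ∀ i, i < 25298 → P i := stepQ 25297 Q25297 (allL N25297 (tt N25874 (iv F192596)) (tt N26215 (iv F193761)) (tt N25936 (iv F192857)) (tt N26283 (iv F193913)) (tt N24218 F189570) (tt N26284 (iv F193915)) (tt N24216 F189571) (tt N26285 (iv F193917)) (tt N26286 D42213) (tt N24215 (iv D41224)))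
theorem Q25299 : ∀ i, i < 25299 → P i := stepQ 25298 Q25298 (allL N25298 (tt N25875 (iv F192600)) (tt N25408 (iv F190161)) (tt N26278 (iv F193902)) (tt N26192 (iv F193702)) (tt N24219 F189572) (tt N26152 (iv F193586)) (tt N26286 (iv F193919)) (tt N26267 (iv F193878)) (tt N24216 (iv D41225)) (tt N24224 F189573))
theorem Q25300 : ∀ i, i < 25300 → P i := stepQ 25299 Q25299 (allL N25299 (tt N25876 (iv F192603)) (tt N26216 (iv F193764)) (tt N25734 (iv F191996)) (tt N26174 (iv F193646)) (tt N26285 (iv F193916)) (tt N25731 (iv F191977)) (tt N26268 (iv F193880)) (tt N24218 F189574) (tt N26287 D42214) (tt N24217 (iv D41226)))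
theorem Q25301 : ∀ i, i < 25301 → P i := stepQ 25300 Q25300 (allL N25300 (tt N25877 (iv F192607)) (tt N25410 (iv F190172)) (tt N25937 (iv F192861)) (tt N26175 (iv F193648)) (tt N26286 (iv F193918)) (tt N25896 (iv F192685)) (tt N24219 F189575) (tt N26287 (iv F193921)) (tt N24218 (iv D41227)) (tt N24226 F189576))
theorem Q25302 : ∀ i, i < 25302 → P i := stepQ 25301 Q25301 (allL N25301 (tt N25878 (iv F192611)) (tt N26007 (iv F193076)) (tt N24221 F189577) (tt N25926 F192818) (tt N26176 (iv F193653)) (tt N24243 F189578) (tt N24220 (iv D41228)) (tt N26288 D42215) (tt N26279 (iv F193906)) (tt N24241 F189579))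
theorem Q25303 : ∀ i, i < 25303 → P i := stepQ 25302 Q25302 (allL N25302 (tt N25879 (iv F192616)) (tt N26217 (iv F193766)) (tt N26288 (iv F193923)) (tt N24222 F189580) (tt N26177 (iv F193657)) (tt N24249 F189581) (tt N26270 (iv F193887)) (tt N24221 (iv D41229)) (tt N26282 (iv F193912)) (tt N26209 (iv F193747)))
theorem Q25304 : ∀ i, i < 25304 → P i := stepQ 25303 Q25303 (allL N25303 (tt N25880 (iv F192619)) (tt N25413 (iv F190190)) (tt N25736 (iv F192008)) (tt N26209 (iv F193745)) (tt N24225 F189582) (tt N24250 F189583) (tt N26271 (iv F193890)) (tt N24223 F189584) (tt N26289 D42216) (tt N24222 (iv D41230)))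
theorem Q25305 : ∀ i, i < 25305 → P i := stepQ 25304 Q25304 (allL N25304 (tt N25881 (iv F192625)) (tt N25407 (iv F190156)) (tt N25938 (iv F192865)) (tt N26191 (iv F193699)) (tt N24226 F189585) (tt N26036 (iv F193158)) (tt N24224 F189586) (tt N26289 (iv F193927)) (tt N24223 (iv D41231)) (tt N26286 (iv F193920)))
theorem Q25306 : ∀ i, i < 25306 → P i := stepQ 25305 Q25305 (allL N25305 (tt N25882 (iv F192631)) (tt N25409 (iv F190167)) (tt N25737 (iv F192014)) (tt N26183 (iv F193678)) (tt N26289 (iv F193926)) (tt N25895 (iv F192681)) (tt N26273 (iv F193894)) (tt N24226 F189587) (tt N24225 (iv D41232)) (tt N26287 (iv F193922)))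
theorem Q25307 : ∀ i, i < 25307 → P i := stepQ 25306 Q25306 (allL N25306 (tt N25898 (iv F192690)) (tt N26155 (iv F193596)) (tt N26191 (iv F193698)) (tt N26067 (iv F193260)) (tt N26262 (iv F193865)) (tt N26016 (iv F193103)) (tt N24228 (iv D41233)) (tt N26290 D42217) (tt N24241 F189588) (tt N26291 D42218))
theorem Q25308 : ∀ i, i < 25308 → P i := stepQ 25307 Q25307 (allL N25307 (tt N25899 (iv F192692)) (tt N26156 (iv F193599)) (tt N26192 (iv F193701)) (tt N26068 (iv F193264)) (tt N26263 (iv F193868)) (tt N24229 F189589) (tt N26291 (iv F193929)) (tt N26169 (iv F193638)) (tt N26280 (iv F193908)) (tt N24228 (iv D41234)))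
theorem Q25309 : ∀ i, i < 25309 → P i := stepQ 25308 Q25308 (allL N25308 (tt N25900 (iv F192694)) (tt N25743 (iv F192035)) (tt N26193 (iv F193705)) (tt N25388 (iv F190044)) (tt N24231 F189590) (tt N26292 D42219) (tt N24230 (iv D41235)) (tt N26293 D42220) (tt N24233 F189591) (tt N26294 D42221))
theorem Q25310 : ∀ i, i < 25310 → P i := stepQ 25309 Q25309 (allL N25309 (tt N25901 (iv F192698)) (tt N26210 (iv F193748)) (tt N26194 (iv F193708)) (tt N25389 (iv F190049)) (tt N24232 F189592) (tt N26263 (iv F193869)) (tt N26294 (iv F193934)) (tt N25416 (iv F190210)) (tt N26295 D42222) (tt N24230 (iv D41236)))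
theorem Q25311 : ∀ i, i < 25311 → P i := stepQ 25310 Q25310 (allL N25310 (tt N25902 (iv F192702)) (tt N25497 (iv F190695)) (tt N26195 (iv F193710)) (tt N24237 F189593) (tt N26293 (iv F193931)) (tt N26021 (iv F193112)) (tt N25542 (iv F190977)) (tt N24231 (iv D41237)) (tt N24235 F189594) (tt N26296 D42223))
theorem Q25312 : ∀ i, i < 25312 → P i := stepQ 25311 Q25311 (allL N25311 (tt N25903 (iv F192705)) (tt N25745 (iv F192043)) (tt N26196 (iv F193713)) (tt N24238 F189595) (tt N26294 (iv F193933)) (tt N26022 (iv F193115)) (tt N24232 F189596) (tt N26296 (iv F193938)) (tt N25769 (iv F192148)) (tt N24231 (iv D41238)))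
theorem Q25313 : ∀ i, i < 25313 → P i := stepQ 25312 Q25312 (allL N25312 (tt N25904 (iv F192708)) (tt N25345 (iv F189773)) (tt N26119 (iv F193469)) (tt N24239 F189597) (tt N26295 (iv F193935)) (tt N26060 (iv F193220)) (tt N25769 (iv F192147)) (tt N26091 (iv F193384)) (tt N24232 (iv D41239)) (tt N24236 F189598))
theorem Q25314 : ∀ i, i < 25314 → P i := stepQ 25313 Q25313 (allL N25313 (tt N25905 (iv F192711)) (tt N25496 (iv F190687)) (tt N26197 (iv F193716)) (tt N25393 (iv F190071)) (tt N24235 F189599) (tt N25313 F189600) (tt N25424 (iv F190244)) (tt N24233 (iv D41240)) (tt N26293 (iv F193932)) (tt N25710 (iv F191871)))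
theorem Q25315 : ∀ i, i < 25315 → P i := stepQ 25314 Q25314 (allL N25314 (tt N25906 (iv F192716)) (tt N25344 (iv F189766)) (tt N26118 (iv F193464)) (tt N25395 (iv F190085)) (tt N24236 F189601) (tt N26063 (iv F193239)) (tt N25767 (iv F192140)) (tt N25426 (iv F190258)) (tt N24234 (iv D41241)) (tt N26295 (iv F193936)))
theorem Q25316 : ∀ i, i < 25316 → P i := stepQ 25315 Q25315 (allL N25315 (tt N25907 (iv F192720)) (tt N25500 (iv F190713)) (tt N24240 F189602) (tt N26296 (iv F193937)) (tt N25939 (iv F192871)) (tt N26031 (iv F193138)) (tt N25545 (iv F190993)) (tt N24238 F189603) (tt N25714 (iv F191892)) (tt N24237 (iv D41242)))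
theorem Q25317 : ∀ i, i < 25317 → P i := stepQ 25316 Q25316 (allL N25316 (tt N25911 (iv F192742)) (tt N26161 (iv F193613)) (tt N26209 (iv F193744)) (tt N26072 (iv F193283)) (tt N26270 (iv F193885)) (tt N24242 F189604) (tt N26177 (iv F193659)) (tt N24241 (iv D41243)) (tt N26290 (iv F193928)) (tt N26288 (iv F193925)))
theorem Q25318 : ∀ i, i < 25318 → P i := stepQ 25317 Q25317 (allL N25317 (tt N25909 (iv F192728)) (tt N26052 (iv F193194)) (tt N24249 F189605) (tt N25668 F191611) (tt N25317 F189606) (tt N26288 (iv F193924)) (tt N25317 F189607) (tt N24243 F189608) (tt N26106 (iv F193431)) (tt N24242 (iv D41244)))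
theorem Q25319 : ∀ i, i < 25319 → P i := stepQ 25318 Q25318 (allL N25318 (tt N25750 (iv F192065)) (tt N25913 (iv F192753)) (tt N24247 F189609) (tt N25697 (iv F191800)) (tt N25318 F189610) (tt N26297 D42224) (tt N24244 F189611) (tt N26106 (iv F193430)) (tt N24243 (iv D41245)) (tt N25917 (iv F192781)))
theorem Q25320 : ∀ i, i < 25320 → P i := stepQ 25319 Q25319 (allL N25319 (tt N25935 (iv F192849)) (tt N24249 F189612) (tt N25445 (iv F190374)) (tt N24246 F189613) (tt N25319 F189614) (tt N26217 (iv F193768)) (tt N25319 F189615) (tt N24245 (iv D41246)) (tt N25671 (iv F191630)) (tt N25435 (iv F190315)))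
theorem Q25321 : ∀ i, i < 25321 → P i := stepQ 25320 Q25320 (allL N25320 (tt N25749 (iv F192061)) (tt N25670 (iv F191619)) (tt N26297 (iv F193939)) (tt N24248 F189616) (tt N26298 D42225) (tt N24247 (iv D41247)) (tt N25437 (iv F190325)) (tt N26104 (iv F193423)) (tt N26281 (iv F193910)) (tt N25758 (iv F192097)))
theorem Q25322 : ∀ i, i < 25322 → P i := stepQ 25321 Q25321 (allL N25321 (tt N25914 (iv F192758)) (tt N24251 (iv D41248)) (tt N24256 F189617) (tt N24253 F189618) (tt N25321 F189619) (tt N24259 F189620) (tt N26237 (iv F193810)) (tt N25321 F189621) (tt N24252 F189622) (tt N24254 (iv F189623)))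
theorem Q25323 : ∀ i, i < 25323 → P i := stepQ 25322 Q25322 (allL N25322 (tt N25912 (iv F192744)) (tt N24254 F189624) (tt N24252 F189625) (tt N24259 F189626) (tt N25322 F189627) (tt N24253 F189628) (tt N26238 (iv F193817)) (tt N25322 F189629) (tt N24256 F189630) (tt N24251 (iv D41249)))
theorem Q25324 : ∀ i, i < 25324 → P i := stepQ 25323 Q25323 (allL N25323 (tt N25913 (iv F192752)) (tt N26238 (iv F193813)) (tt N24255 F189631) (tt N25485 (iv F190625)) (tt N25323 F189632) (tt N26248 (iv F193836)) (tt N24254 (iv D41250)) (tt N26299 D42226) (tt N25484 F190621) (tt N26237 F193812))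
theorem Q25325 : ∀ i, i < 25325 → P i := stepQ 25324 Q25324 (allL N25324 (tt N25915 (iv F192766)) (tt N25460 (iv F190478)) (tt N26299 (iv F193941)) (tt N24257 F189633) (tt N25324 F189634) (tt N26250 (iv F193840)) (tt N25324 F189635) (tt N24255 (iv D41251)) (tt N25667 (iv F191603)) (tt N26300 D42227))
theorem Q25326 : ∀ i, i < 25326 → P i := stepQ 25325 Q25325 (allL N25325 (tt N25916 (iv F192772)) (tt N25484 (iv F190616)) (tt N26237 (iv F193807)) (tt N24258 F189636) (tt N25325 F189637) (tt N26251 (iv F193842)) (tt N24256 F189638) (tt N26300 (iv F193947)) (tt N26238 (iv F193818)) (tt N24255 (iv D41252)))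
theorem Q25327 : ∀ i, i < 25327 → P i := stepQ 25326 Q25326 (allL N25326 (tt N25669 (iv F191612)) (tt N25461 (iv F190484)) (tt N25549 (iv F191016)) (tt N26300 (iv F193944)) (tt N24260 F189639) (tt N26253 (iv F193846)) (tt N25326 F189640) (tt N24258 F189641) (tt N25981 (iv F192996)) (tt N24257 (iv D41253)))
theorem Q25328 : ∀ i, i < 25328 → P i := stepQ 25327 Q25327 (allL N25327 (tt N24894 F189642) (tt N24344 F189643) (tt N24331 F189644) (tt N24286 F189645) (tt N24263 F189646) (tt N25212 F189647) (tt N24568 F189648) (tt N25207 F189649) (tt N24262 (iv D41254)) (tt N26301 D42228))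
theorem Q25329 : ∀ i, i < 25329 → P i := stepQ 25328 Q25328 (allL N25328 (tt N24895 F189650) (tt N25282 F189651) (tt N24333 F189652) (tt N24264 F189653) (tt N26301 (iv F193952)) (tt N25280 F189654) (tt N24570 F189655) (tt N25208 F189656) (tt N25075 F189657) (tt N24263 (iv D41255)))
theorem Q25330 : ∀ i, i < 25330 → P i := stepQ 25329 Q25329 (allL N25329 (tt N24896 F189658) (tt N24446 F189659) (tt N24927 F189660) (tt N24347 F189661) (tt N24475 F189662) (tt N24590 F189663) (tt N24907 F189664) (tt N24265 (iv D41256)) (tt N24267 F189665) (tt N26302 D42229))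
theorem Q25331 : ∀ i, i < 25331 → P i := stepQ 25330 Q25330 (allL N25330 (tt N24897 F189666) (tt N24516 F189667) (tt N25229 F189668) (tt N24348 F189669) (tt N24564 F189670) (tt N24591 F189671) (tt N24266 F189672) (tt N26302 (iv F193964)) (tt N26303 D42230) (tt N24265 (iv D41257)))
theorem Q25332 : ∀ i, i < 25332 → P i := stepQ 25331 Q25331 (allL N25331 (tt N24898 F189673) (tt N25125 F189674) (tt N25260 F189675) (tt N24349 F189676) (tt N25283 F189677) (tt N25211 F189678) (tt N26303 (iv F193971)) (tt N25209 F189679) (tt N24266 (iv D41258)) (tt N24269 F189680))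
theorem Q25333 : ∀ i, i < 25333 → P i := stepQ 25332 Q25332 (allL N25332 (tt N24899 F189681) (tt N24511 F189682) (tt N25220 F189683) (tt N24357 F189684) (tt N24526 F189685) (tt N26304 D42231) (tt N24269 F189686) (tt N25035 F189687) (tt N24268 (iv D41259)) (tt N26303 (iv F193973)))
theorem Q25334 : ∀ i, i < 25334 → P i := stepQ 25333 Q25333 (allL N25333 (tt N24834 F189688) (tt N24273 F189689) (tt N25052 F189690) (tt N24272 F189691) (tt N26305 D42232) (tt N24270 (iv D41260)) (tt N24634 F189692) (tt N24784 F189693) (tt N26304 (iv F193980)) (tt N24597 F189694))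
theorem Q25335 : ∀ i, i < 25335 → P i := stepQ 25334 Q25334 (allL N25334 (tt N24860 F189695) (tt N24512 F189696) (tt N25077 F189697) (tt N24673 F189698) (tt N24271 (iv D41261)) (tt N26305 (iv F193985)) (tt N25334 F189699) (tt N24855 F189700) (tt N24529 F189701) (tt N24601 F189702))
theorem Q25336 : ∀ i, i < 25336 → P i := stepQ 25335 Q25335 (allL N25335 (tt N24838 F189703) (tt N24274 F189704) (tt N24678 F189705) (tt N26304 (iv F193977)) (tt N24680 F189706) (tt N24357 F189707) (tt N24635 F189708) (tt N24785 F189709) (tt N24272 (iv D41262)) (tt N26306 D42233))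
theorem Q25337 : ∀ i, i < 25337 → P i := stepQ 25336 Q25336 (allL N25336 (tt N24281 F189710) (tt N26305 (iv F193982)) (tt N24515 F189711) (tt N24796 F189712) (tt N24273 (iv D41263)) (tt N24512 F189713) (tt N24636 F189714) (tt N24786 F189715) (tt N26307 D42234) (tt N24794 F189716))
theorem Q25338 : ∀ i, i < 25338 → P i := stepQ 25337 Q25337 (allL N25337 (tt N24282 F189717) (tt N26304 (iv F193975)) (tt N24513 F189718) (tt N24274 F189719) (tt N26307 (iv F194000)) (tt N24511 F189720) (tt N24637 F189721) (tt N24787 F189722) (tt N24273 (iv D41264)) (tt N26308 D42235))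
theorem Q25339 : ∀ i, i < 25339 → P i := stepQ 25338 Q25338 (allL N25338 (tt N24283 F189723) (tt N24357 F189724) (tt N24276 F189725) (tt N24511 F189726) (tt N25018 F189727) (tt N24274 (iv D41265)) (tt N24292 F189728) (tt N24788 F189729) (tt N24275 F189730) (tt N26309 D42236))
theorem Q25340 : ∀ i, i < 25340 → P i := stepQ 25339 Q25339 (allL N25339 (tt N24284 F189731) (tt N26306 (iv F193990)) (tt N24277 F189732) (tt N26308 (iv F194006)) (tt N24803 F189733) (tt N26309 (iv F194016)) (tt N24639 F189734) (tt N24789 F189735) (tt N24801 F189736) (tt N24274 (iv D41266)))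
theorem Q25341 : ∀ i, i < 25341 → P i := stepQ 25340 Q25340 (allL N25340 (tt N24286 F189737) (tt N24903 F189738) (tt N25018 F189739) (tt N24894 F189740) (tt N24276 (iv D41267)) (tt N25000 F189741) (tt N25133 F189742) (tt N24791 F189743) (tt N24278 F189744) (tt N26310 D42237))
theorem Q25342 : ∀ i, i < 25342 → P i := stepQ 25341 Q25341 (allL N25341 (tt N24288 F189745) (tt N24904 F189746) (tt N26309 (iv F194013)) (tt N24744 F189747) (tt N26310 (iv F194024)) (tt N24277 F189748) (tt N25134 F189749) (tt N24793 F189750) (tt N26311 D42238) (tt N24276 (iv D41268)))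
theorem Q25343 : ∀ i, i < 25343 → P i := stepQ 25342 Q25342 (allL N25342 (tt N24290 F189751) (tt N24905 F189752) (tt N24289 F189753) (tt N24786 F189754) (tt N24279 F189755) (tt N24280 F189756) (tt N24285 F189757) (tt N24796 F189758) (tt N26312 D42239) (tt N24278 (iv D41269)))
theorem Q25344 : ∀ i, i < 25344 → P i := stepQ 25343 Q25343 (allL N25343 (tt N24292 F189759) (tt N24906 F189760) (tt N24287 F189761) (tt N24506 F189762) (tt N26312 (iv F194040)) (tt N24710 F189763) (tt N24283 F189764) (tt N24797 F189765) (tt N24279 (iv D41270)) (tt N26311 (iv F194035)))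
theorem Q25345 : ∀ i, i < 25345 → P i := stepQ 25344 Q25344 (allL N25344 (tt N26307 (iv F193997)) (tt N25314 F189766) (tt N25039 F189767) (tt N25210 F189768) (tt N24282 F189769) (tt N25152 F189770) (tt N24706 F189771) (tt N25074 F189772) (tt N24281 (iv D41271)) (tt N26313 D42240))
theorem Q25346 : ∀ i, i < 25346 → P i := stepQ 25345 Q25345 (allL N25345 (tt N26308 (iv F194004)) (tt N25312 F189773) (tt N25040 F189774) (tt N24284 F189775) (tt N26313 (iv F194047)) (tt N25038 F189776) (tt N24708 F189777) (tt N25075 F189778) (tt N25208 F189779) (tt N24282 (iv D41272)))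
theorem Q25347 : ∀ i, i < 25347 → P i := stepQ 25346 Q25346 (allL N25346 (tt N25018 F189780) (tt N25291 F189781) (tt N24286 F189782) (tt N25150 F189783) (tt N24283 (iv D41273)) (tt N24355 F189784) (tt N26312 (iv F194042)) (tt N25072 F189785) (tt N24285 F189786) (tt N26314 D42241))
theorem Q25348 : ∀ i, i < 25348 → P i := stepQ 25347 Q25347 (allL N25347 (tt N26309 (iv F194011)) (tt N25290 F189787) (tt N24288 F189788) (tt N25038 F189789) (tt N26314 (iv F194056)) (tt N24284 F189790) (tt N26311 (iv F194033)) (tt N25073 F189791) (tt N25134 F189792) (tt N24283 (iv D41274)))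
theorem Q25349 : ∀ i, i < 25349 → P i := stepQ 25348 Q25348 (allL N25348 (tt N25133 F189793) (tt N24345 F189794) (tt N26312 (iv F194038)) (tt N24568 F189795) (tt N24287 F189796) (tt N24823 (iv F189798)) (tt N24286 (iv D41275)) (tt N26315 D42242) (tt N24289 F189797) (tt N26316 D42243))
theorem Q25350 : ∀ i, i < 25350 → P i := stepQ 25349 Q25349 (allL N25349 (tt N26310 (iv F194020)) (tt N24346 F189799) (tt N26314 (iv F194054)) (tt N26301 (iv F193951)) (tt N24288 F189800) (tt N25214 F189801) (tt N26316 (iv F194073)) (tt N25219 F189802) (tt N26317 D42244) (tt N24286 (iv D41276)))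
theorem Q25351 : ∀ i, i < 25351 → P i := stepQ 25350 Q25350 (allL N25350 (tt N25056 F189803) (tt N24347 F189804) (tt N24797 F189805) (tt N24446 F189806) (tt N26315 (iv F194064)) (tt N24714 F189807) (tt N24909 F189808) (tt N24287 (iv D41277)) (tt N24291 F189809) (tt N26318 D42245))
theorem Q25352 : ∀ i, i < 25352 → P i := stepQ 25351 Q25351 (allL N25351 (tt N25134 F189810) (tt N24348 F189811) (tt N26311 (iv F194030)) (tt N24516 F189812) (tt N26316 (iv F194071)) (tt N24715 F189813) (tt N24288 F189814) (tt N26318 (iv F194089)) (tt N26309 (iv F194019)) (tt N24287 (iv D41278)))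
theorem Q25353 : ∀ i, i < 25353 → P i := stepQ 25352 Q25352 (allL N25352 (tt N26311 (iv F194028)) (tt N24349 F189815) (tt N25134 F189816) (tt N25125 F189817) (tt N26317 (iv F194078)) (tt N25209 F189818) (tt N26309 (iv F194017)) (tt N25211 F189819) (tt N24288 (iv D41279)) (tt N24292 F189820))
theorem Q25354 : ∀ i, i < 25354 → P i := stepQ 25353 Q25353 (allL N25353 (tt N25055 F189821) (tt N24353 F189822) (tt N24796 F189823) (tt N24481 F189824) (tt N24291 F189825) (tt N24293 F189826) (tt N24908 F189827) (tt N24289 (iv D41280)) (tt N26315 (iv F194067)) (tt N24790 F189828))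
theorem Q25355 : ∀ i, i < 25355 → P i := stepQ 25354 Q25354 (allL N25354 (tt N26312 (iv F194036)) (tt N24355 F189829) (tt N25133 F189830) (tt N25074 F189831) (tt N24292 F189832) (tt N25291 F189833) (tt N25018 F189834) (tt N25210 F189835) (tt N24290 (iv D41281)) (tt N26317 (iv F194082)))
theorem Q25356 : ∀ i, i < 25356 → P i := stepQ 25355 Q25355 (allL N25355 (tt N24928 F189836) (tt N25121 F189837) (tt N24681 F189838) (tt N25221 F189839) (tt N24294 (iv D41282)) (tt N25355 F189840) (tt N24314 F189841) (tt N24721 F189842) (tt N26319 D42246) (tt N24406 F189843))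
theorem Q25357 : ∀ i, i < 25357 → P i := stepQ 25356 Q25356 (allL N25356 (tt N24929 F189844) (tt N25123 F189845) (tt N24682 F189846) (tt N24296 F189847) (tt N26319 (iv F194095)) (tt N26320 D42247) (tt N24315 F189848) (tt N24722 F189849) (tt N24294 (iv D41283)) (tt N26321 D42248))
theorem Q25358 : ∀ i, i < 25358 → P i := stepQ 25357 Q25357 (allL N25357 (tt N24930 F189850) (tt N25124 F189851) (tt N24683 F189852) (tt N24297 F189853) (tt N26322 D42249) (tt N24295 (iv D41284)) (tt N24935 F189854) (tt N24723 F189855) (tt N26320 (iv F194104)) (tt N24934 F189856))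
theorem Q25359 : ∀ i, i < 25359 → P i := stepQ 25358 Q25358 (allL N25358 (tt N24931 F189857) (tt N25286 F189858) (tt N24302 F189859) (tt N26320 (iv F194101)) (tt N26323 D42250) (tt N24296 (iv D41285)) (tt N26324 D42251) (tt N24724 F189860) (tt N24297 F189861) (tt N26325 D42252))
theorem Q25360 : ∀ i, i < 25360 → P i := stepQ 25359 Q25359 (allL N25359 (tt N24932 F189862) (tt N25285 F189863) (tt N24303 F189864) (tt N26321 (iv F194108)) (tt N25223 F189865) (tt N26325 (iv F194135)) (tt N24317 F189866) (tt N24725 F189867) (tt N24410 F189868) (tt N24296 (iv D41286)))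
theorem Q25361 : ∀ i, i < 25361 → P i := stepQ 25360 Q25360 (allL N25360 (tt N24933 F189869) (tt N25287 F189870) (tt N24304 F189871) (tt N26326 D42253) (tt N24297 (iv D41287)) (tt N24300 F189872) (tt N26327 D42254) (tt N24726 F189873) (tt N26323 (iv F194124)) (tt N26328 D42255))
theorem Q25362 : ∀ i, i < 25362 → P i := stepQ 25361 Q25361 (allL N25361 (tt N24934 F189874) (tt N25279 F189875) (tt N24305 F189876) (tt N24935 F189877) (tt N26327 (iv F194144)) (tt N24299 F189878) (tt N24297 (iv D41288)) (tt N25234 (iv F189879)) (tt N26324 (iv F194130)) (tt N24930 (iv F189880)))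
theorem Q25363 : ∀ i, i < 25363 → P i := stepQ 25362 Q25362 (allL N25362 (tt N24935 F189881) (tt N25257 F189882) (tt N24306 F189883) (tt N24934 F189884) (tt N26328 (iv F194151)) (tt N24298 F189885) (tt N24930 F189886) (tt N24727 F189887) (tt N26329 D42256) (tt N24297 (iv D41289)))
theorem Q25364 : ∀ i, i < 25364 → P i := stepQ 25363 Q25363 (allL N25363 (tt N24936 F189888) (tt N25034 F189889) (tt N26330 D42257) (tt N24300 (iv D41290)) (tt N25363 F189890) (tt N26326 (iv F194139)) (tt N25363 F189891) (tt N24728 F189892) (tt N25202 F189893) (tt N26331 D42258))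
theorem Q25365 : ∀ i, i < 25365 → P i := stepQ 25364 Q25364 (allL N25364 (tt N24937 F189894) (tt N25023 F189895) (tt N24310 F189896) (tt N26331 (iv F194170)) (tt N24301 F189897) (tt N26328 (iv F194152)) (tt N25364 F189898) (tt N24729 F189899) (tt N26332 D42259) (tt N24300 (iv D41291)))
theorem Q25366 : ∀ i, i < 25366 → P i := stepQ 25365 Q25365 (allL N25365 (tt N24938 F189900) (tt N25024 F189901) (tt N24311 F189902) (tt N25365 F189903) (tt N26332 (iv F194177)) (tt N24415 F189904) (tt N25365 F189905) (tt N24730 F189906) (tt N24301 (iv D41292)) (tt N25026 F189907))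
theorem Q25367 : ∀ i, i < 25367 → P i := stepQ 25366 Q25366 (allL N25366 (tt N24939 F189908) (tt N24542 F189909) (tt N26323 (iv F194121)) (tt N26333 D42260) (tt N24302 (iv D41293)) (tt N25224 F189910) (tt N26334 D42261) (tt N24731 F189911) (tt N24304 F189912) (tt N26335 D42262))
theorem Q25368 : ∀ i, i < 25368 → P i := stepQ 25367 Q25367 (allL N25367 (tt N24940 F189913) (tt N24543 F189914) (tt N26324 (iv F194127)) (tt N24689 F189915) (tt N26334 (iv F194189)) (tt N24323 F189916) (tt N24302 (iv D41294)) (tt N26336 D42263) (tt N24305 F189917) (tt N26337 D42264))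
theorem Q25369 : ∀ i, i < 25369 → P i := stepQ 25368 Q25368 (allL N25368 (tt N24941 F189918) (tt N24544 F189919) (tt N26325 (iv F194134)) (tt N24690 F189920) (tt N26335 (iv F194193)) (tt N24303 F189921) (tt N26337 (iv F194207)) (tt N24733 F189922) (tt N26338 D42265) (tt N24302 (iv D41295)))
theorem Q25370 : ∀ i, i < 25370 → P i := stepQ 25369 Q25369 (allL N25369 (tt N24942 F189923) (tt N24545 F189924) (tt N26339 D42266) (tt N24304 (iv D41296)) (tt N24691 F189925) (tt N24309 F189926) (tt N26340 D42267) (tt N24734 F189927) (tt N26333 (iv F194186)) (tt N26341 D42268))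
theorem Q25371 : ∀ i, i < 25371 → P i := stepQ 25370 Q25370 (allL N25370 (tt N24943 F189928) (tt N24546 F189929) (tt N26327 (iv F194143)) (tt N26340 (iv F194220)) (tt N24305 F189930) (tt N25370 F189931) (tt N24304 (iv D41297)) (tt N26342 D42269) (tt N26334 (iv F194190)) (tt N26343 D42270))
theorem Q25372 : ∀ i, i < 25372 → P i := stepQ 25371 Q25371 (allL N25371 (tt N24944 F189932) (tt N24547 F189933) (tt N26328 (iv F194150)) (tt N26341 (iv F194226)) (tt N24306 F189934) (tt N24310 F189935) (tt N26343 (iv F194244)) (tt N24736 F189936) (tt N26344 D42271) (tt N24304 (iv D41298)))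
theorem Q25373 : ∀ i, i < 25373 → P i := stepQ 25372 Q25372 (allL N25372 (tt N24945 F189937) (tt N24548 F189938) (tt N25234 F189939) (tt N24693 F189940) (tt N26342 (iv F194234)) (tt N24307 F189941) (tt N24737 F189942) (tt N24305 (iv D41299)) (tt N26336 (iv F194202)) (tt N25082 (iv F189943)))
theorem Q25374 : ∀ i, i < 25374 → P i := stepQ 25373 Q25373 (allL N25373 (tt N24683 F189944) (tt N24549 F189945) (tt N24930 F189946) (tt N24627 F189947) (tt N26343 (iv F194242)) (tt N24308 F189948) (tt N24306 F189949) (tt N25082 F189950) (tt N26345 D42272) (tt N24305 (iv D41300)))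
theorem Q25375 : ∀ i, i < 25375 → P i := stepQ 25374 Q25374 (allL N25374 (tt N24946 F189951) (tt N24550 F189952) (tt N26329 (iv F194157)) (tt N24694 F189953) (tt N26344 (iv F194248)) (tt N24423 F189954) (tt N26345 (iv F194255)) (tt N24739 F189955) (tt N24306 (iv D41301)) (tt N26338 (iv F194213)))
theorem Q25376 : ∀ i, i < 25376 → P i := stepQ 25375 Q25375 (allL N25375 (tt N24947 F189956) (tt N26346 D42273) (tt N24309 (iv D41302)) (tt N26330 (iv F194163)) (tt N24312 F189957) (tt N26339 (iv F194216)) (tt N25375 F189958) (tt N24740 F189959) (tt N24854 F189960) (tt N26347 D42274))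
theorem Q25377 : ∀ i, i < 25377 → P i := stepQ 25376 Q25376 (allL N25376 (tt N24948 F189961) (tt N24554 F189962) (tt N26347 (iv F194266)) (tt N24310 F189963) (tt N24313 F189964) (tt N26341 (iv F194228)) (tt N25376 F189965) (tt N24741 F189966) (tt N24604 F189967) (tt N24309 (iv D41303)))
theorem Q25378 : ∀ i, i < 25378 → P i := stepQ 25377 Q25377 (allL N25377 (tt N24949 F189968) (tt N24555 F189969) (tt N26332 (iv F194176)) (tt N24604 F189970) (tt N24311 F189971) (tt N26348 D42275) (tt N25377 F189972) (tt N24742 F189973) (tt N24310 (iv D41304)) (tt N25027 F189974))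
theorem Q25379 : ∀ i, i < 25379 → P i := stepQ 25378 Q25378 (allL N25378 (tt N25024 F189975) (tt N24312 (iv D41305)) (tt N24373 F189976) (tt N25378 F189977) (tt N26346 (iv F194259)) (tt N24696 F189978) (tt N25378 F189979) (tt N24372 F189980) (tt N24374 F189981) (tt N24445 (iv F189982)))
theorem Q25380 : ∀ i, i < 25380 → P i := stepQ 25379 Q25379 (allL N25379 (tt N24950 F189983) (tt N24445 F189984) (tt N24313 F189985) (tt N25379 F189986) (tt N26347 (iv F194267)) (tt N24372 F189987) (tt N25379 F189988) (tt N24696 F189989) (tt N24603 F189990) (tt N24312 (iv D41306)))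
theorem Q25381 : ∀ i, i < 25381 → P i := stepQ 25380 Q25380 (allL N25380 (tt N24959 F189991) (tt N25122 F189992) (tt N25207 F189993) (tt N25261 F189994) (tt N24315 F189995) (tt N26349 D42276) (tt N26319 (iv F194096)) (tt N24331 F189996) (tt N24314 (iv D41307)) (tt N26350 D42277))
theorem Q25382 : ∀ i, i < 25382 → P i := stepQ 25381 Q25381 (allL N25381 (tt N24960 F189997) (tt N25118 F189998) (tt N25208 F189999) (tt N24317 F190000) (tt N26350 (iv F194289)) (tt N25142 F190001) (tt N26321 (iv F194109)) (tt N24333 F190002) (tt N25040 F190003) (tt N24315 (iv D41308)))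
theorem Q25383 : ∀ i, i < 25383 → P i := stepQ 25382 Q25382 (allL N25382 (tt N24961 F190004) (tt N25276 F190005) (tt N24322 F190006) (tt N26351 D42278) (tt N24316 (iv D41309)) (tt N25263 F190007) (tt N26352 D42279) (tt N24337 F190008) (tt N24318 F190009) (tt N26353 D42280))
theorem Q25384 : ∀ i, i < 25384 → P i := stepQ 25383 Q25383 (allL N25383 (tt N24962 F190010) (tt N25278 F190011) (tt N24323 F190012) (tt N24975 F190013) (tt N26352 (iv F194302)) (tt N26324 (iv F194129)) (tt N24316 (iv D41310)) (tt N26354 D42281) (tt N24319 F190014) (tt N26355 D42282))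
theorem Q25385 : ∀ i, i < 25385 → P i := stepQ 25384 Q25384 (allL N25384 (tt N24963 F190015) (tt N25272 F190016) (tt N24324 F190017) (tt N25142 F190018) (tt N26353 (iv F194307)) (tt N24317 F190019) (tt N26355 (iv F194322)) (tt N24339 F190020) (tt N25128 F190021) (tt N24316 (iv D41311)))
theorem Q25386 : ∀ i, i < 25386 → P i := stepQ 25385 Q25385 (allL N25385 (tt N24964 F190022) (tt N25162 F190023) (tt N25170 F190024) (tt N24318 (iv D41312)) (tt N25145 F190025) (tt N24321 F190026) (tt N26356 D42283) (tt N24340 F190027) (tt N26351 (iv F194298)) (tt N25129 F190028))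
theorem Q25387 : ∀ i, i < 25387 → P i := stepQ 25386 Q25386 (allL N25386 (tt N24965 F190029) (tt N25275 F190030) (tt N24325 F190031) (tt N26356 (iv F194327)) (tt N24319 F190032) (tt N25386 F190033) (tt N24318 (iv D41313)) (tt N26357 D42284) (tt N26352 (iv F194303)) (tt N25130 F190034))
theorem Q25388 : ∀ i, i < 25388 → P i := stepQ 25387 Q25387 (allL N25387 (tt N24966 F190035) (tt N25277 F190036) (tt N24327 F190037) (tt N24951 F190038) (tt N26357 (iv F194334)) (tt N24320 F190039) (tt N24342 F190040) (tt N24319 (iv D41314)) (tt N26354 (iv F194317)) (tt N25131 F190041))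
theorem Q25389 : ∀ i, i < 25389 → P i := stepQ 25388 Q25388 (allL N25388 (tt N24967 F190042) (tt N24918 F190043) (tt N26352 (iv F194301)) (tt N25308 F190044) (tt N24323 F190045) (tt N26358 D42285) (tt N24322 (iv D41315)) (tt N26359 D42286) (tt N24325 F190046) (tt N26360 D42287))
theorem Q25390 : ∀ i, i < 25390 → P i := stepQ 25389 Q25389 (allL N25389 (tt N24968 F190047) (tt N25219 F190048) (tt N26353 (iv F194306)) (tt N25309 F190049) (tt N24324 F190050) (tt N25269 F190051) (tt N26360 (iv F194353)) (tt N24346 F190052) (tt N26361 D42288) (tt N24322 (iv D41316)))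
theorem Q25391 : ∀ i, i < 25391 → P i := stepQ 25390 Q25390 (allL N25390 (tt N24969 F190053) (tt N24909 F190054) (tt N26354 (iv F194313)) (tt N24907 F190055) (tt N26359 (iv F194346)) (tt N26336 (iv F194200)) (tt N24347 F190056) (tt N24323 (iv D41317)) (tt N24327 F190057) (tt N26362 D42289))
theorem Q25392 : ∀ i, i < 25392 → P i := stepQ 25391 Q25391 (allL N25391 (tt N24970 F190058) (tt N24919 F190059) (tt N26355 (iv F194320)) (tt N24917 F190060) (tt N26360 (iv F194352)) (tt N26337 (iv F194206)) (tt N24324 F190061) (tt N26362 (iv F194366)) (tt N26363 D42290) (tt N24323 (iv D41318)))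
theorem Q25393 : ∀ i, i < 25393 → P i := stepQ 25392 Q25392 (allL N25392 (tt N24971 F190062) (tt N25211 F190063) (tt N25128 F190064) (tt N25209 F190065) (tt N26361 (iv F194358)) (tt N25125 F190066) (tt N26363 (iv F194371)) (tt N24349 F190067) (tt N24324 (iv D41319)) (tt N24329 F190068))
theorem Q25394 : ∀ i, i < 25394 → P i := stepQ 25393 Q25393 (allL N25393 (tt N24972 F190069) (tt N24908 F190070) (tt N26357 (iv F194333)) (tt N25313 F190071) (tt N24327 F190072) (tt N25393 F190073) (tt N24353 F190074) (tt N24325 (iv D41320)) (tt N26359 (iv F194348)) (tt N26364 D42291))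
theorem Q25395 : ∀ i, i < 25395 → P i := stepQ 25394 Q25394 (allL N25394 (tt N24709 F190075) (tt N24674 F190076) (tt N25130 F190077) (tt N24701 F190078) (tt N24328 F190079) (tt N25394 F190080) (tt N24326 F190081) (tt N26364 (iv F194381)) (tt N26365 D42292) (tt N24325 (iv D41321)))
theorem Q25396 : ∀ i, i < 25396 → P i := stepQ 25395 Q25395 (allL N25395 (tt N24973 F190082) (tt N25210 F190083) (tt N25126 F190084) (tt N25314 F190085) (tt N24329 F190086) (tt N25072 F190087) (tt N26365 (iv F194387)) (tt N24355 F190088) (tt N24326 (iv D41322)) (tt N26361 (iv F194360)))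
theorem Q25397 : ∀ i, i < 25397 → P i := stepQ 25396 Q25396 (allL N25396 (tt N24653 F190089) (tt N24641 F190090) (tt N25131 F190091) (tt N24611 F190092) (tt N26364 (iv F194378)) (tt N24330 F190093) (tt N24356 F190094) (tt N24328 F190095) (tt N26366 D42293) (tt N24327 (iv D41323)))
theorem Q25398 : ∀ i, i < 25398 → P i := stepQ 25397 Q25397 (allL N25397 (tt N24707 F190096) (tt N24675 F190097) (tt N25127 F190098) (tt N24638 F190099) (tt N26365 (iv F194386)) (tt N24637 F190100) (tt N24329 F190101) (tt N26366 (iv F194394)) (tt N24328 (iv D41324)) (tt N26363 (iv F194372)))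
theorem Q25399 : ∀ i, i < 25399 → P i := stepQ 25398 Q25398 (allL N25398 (tt N24982 F190102) (tt N25187 F190103) (tt N25212 F190104) (tt N25176 F190105) (tt N26367 D42294) (tt N24331 (iv D41325)) (tt N26368 D42295) (tt N26349 (iv F194283)) (tt N24377 F190106) (tt N26369 D42296))
theorem Q25400 : ∀ i, i < 25400 → P i := stepQ 25399 Q25399 (allL N25399 (tt N24983 F190107) (tt N25200 F190108) (tt N26301 (iv F193950)) (tt N25288 F190109) (tt N24333 F190110) (tt N26369 (iv F194412)) (tt N24840 F190111) (tt N26350 (iv F194290)) (tt N25076 F190112) (tt N24331 (iv D41326)))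
theorem Q25401 : ∀ i, i < 25401 → P i := stepQ 25400 Q25400 (allL N25400 (tt N24984 F190113) (tt N25167 F190114) (tt N25113 F190115) (tt N26370 D42297) (tt N24332 (iv D41327)) (tt N26367 (iv F194399)) (tt N26371 D42298) (tt N25147 F190116) (tt N24334 F190117) (tt N26372 D42299))
theorem Q25402 : ∀ i, i < 25402 → P i := stepQ 25401 Q25401 (allL N25401 (tt N24985 F190118) (tt N25169 F190119) (tt N25228 F190120) (tt N24338 F190121) (tt N26371 (iv F194423)) (tt N24842 F190122) (tt N24332 (iv D41328)) (tt N26373 D42300) (tt N24335 F190123) (tt N26374 D42301))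
theorem Q25403 : ∀ i, i < 25403 → P i := stepQ 25402 Q25402 (allL N25402 (tt N24986 F190124) (tt N25161 F190125) (tt N25280 F190126) (tt N24339 F190127) (tt N26372 (iv F194428)) (tt N24333 F190128) (tt N26374 (iv F194443)) (tt N25142 F190129) (tt N25063 F190130) (tt N24332 (iv D41329)))
theorem Q25404 : ∀ i, i < 25404 → P i := stepQ 25403 Q25403 (allL N25403 (tt N24987 F190131) (tt N25164 F190132) (tt N25107 F190133) (tt N24334 (iv D41330)) (tt N24340 F190134) (tt N24379 F190135) (tt N26375 D42302) (tt N25145 F190136) (tt N26370 (iv F194419)) (tt N25064 F190137))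
theorem Q25405 : ∀ i, i < 25405 → P i := stepQ 25404 Q25404 (allL N25404 (tt N24988 F190138) (tt N25166 F190139) (tt N25119 F190140) (tt N26375 (iv F194448)) (tt N24335 F190141) (tt N25404 F190142) (tt N24334 (iv D41331)) (tt N26376 D42303) (tt N26371 (iv F194424)) (tt N25065 F190143))
theorem Q25406 : ∀ i, i < 25406 → P i := stepQ 25405 Q25405 (allL N25405 (tt N24989 F190144) (tt N25168 F190145) (tt N24926 F190146) (tt N24342 F190147) (tt N26376 (iv F194455)) (tt N24336 F190148) (tt N24951 F190149) (tt N24335 (iv D41332)) (tt N26373 (iv F194437)) (tt N25066 F190150))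
theorem Q25407 : ∀ i, i < 25407 → P i := stepQ 25406 Q25406 (allL N25406 (tt N24990 F190151) (tt N25180 F190152) (tt N26377 D42304) (tt N24337 (iv D41333)) (tt N26370 (iv F194416)) (tt N25174 F190153) (tt N26378 D42305) (tt N26351 (iv F194297)) (tt N24340 F190154) (tt N26379 D42306))
theorem Q25408 : ∀ i, i < 25408 → P i := stepQ 25407 Q25407 (allL N25407 (tt N24991 F190155) (tt N25304 F190156) (tt N24345 F190157) (tt N26378 (iv F194468)) (tt N24338 F190158) (tt N26380 D42307) (tt N24337 (iv D41334)) (tt N26381 D42308) (tt N24341 F190159) (tt N26382 D42309))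
theorem Q25409 : ∀ i, i < 25409 → P i := stepQ 25408 Q25408 (allL N25408 (tt N24992 F190160) (tt N25298 F190161) (tt N24346 F190162) (tt N26379 (iv F194472)) (tt N24339 F190163) (tt N25289 F190164) (tt N26382 (iv F194490)) (tt N26353 (iv F194309)) (tt N25214 F190165) (tt N24337 (iv D41335)))
theorem Q25410 : ∀ i, i < 25410 → P i := stepQ 25409 Q25409 (allL N25409 (tt N24993 F190166) (tt N25305 F190167) (tt N24347 F190168) (tt N26373 (iv F194434)) (tt N26381 (iv F194484)) (tt N24849 F190169) (tt N26354 (iv F194316)) (tt N24338 (iv D41336)) (tt N24342 F190170) (tt N26383 D42310))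
theorem Q25411 : ∀ i, i < 25411 → P i := stepQ 25410 Q25410 (allL N25410 (tt N24994 F190171) (tt N25300 F190172) (tt N24348 F190173) (tt N26374 (iv F194441)) (tt N26382 (iv F194489)) (tt N24850 F190174) (tt N24339 F190175) (tt N26383 (iv F194496)) (tt N25216 F190176) (tt N24338 (iv D41337)))
theorem Q25412 : ∀ i, i < 25412 → P i := stepQ 25411 Q25411 (allL N25411 (tt N24996 F190177) (tt N25143 F190178) (tt N24340 (iv D41338)) (tt N24350 F190179) (tt N25107 F190180) (tt N24343 F190181) (tt N26384 D42311) (tt N25170 F190182) (tt N26377 (iv F194465)) (tt N24377 F190183))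
theorem Q25413 : ∀ i, i < 25413 → P i := stepQ 25412 Q25412 (allL N25412 (tt N24997 F190184) (tt N25205 F190185) (tt N26384 (iv F194500)) (tt N24341 F190186) (tt N26375 (iv F194449)) (tt N24362 F190187) (tt N24340 (iv D41339)) (tt N26385 D42312) (tt N26378 (iv F194469)) (tt N25217 F190188))
theorem Q25414 : ∀ i, i < 25414 → P i := stepQ 25413 Q25413 (allL N25413 (tt N24998 F190189) (tt N25303 F190190) (tt N24353 F190191) (tt N26385 (iv F194507)) (tt N24342 F190192) (tt N24363 F190193) (tt N26357 (iv F194336)) (tt N24341 (iv D41340)) (tt N26381 (iv F194485)) (tt N25218 F190194))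
theorem Q25415 : ∀ i, i < 25415 → P i := stepQ 25414 Q25414 (allL N25414 (tt N25003 F190195) (tt N25195 F190196) (tt N24344 (iv D41341)) (tt N26377 (iv F194461)) (tt N25102 F190197) (tt N25292 F190198) (tt N26386 D42313) (tt N25182 F190199) (tt N24350 F190200) (tt N26387 D42314))
theorem Q25416 : ∀ i, i < 25416 → P i := stepQ 25415 Q25415 (allL N25415 (tt N25004 F190201) (tt N24568 F190202) (tt N26386 (iv F194512)) (tt N24345 F190203) (tt N24561 F190204) (tt N26388 D42315) (tt N24344 (iv D41342)) (tt N26389 D42316) (tt N24351 F190205) (tt N26390 D42317))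
theorem Q25417 : ∀ i, i < 25417 → P i := stepQ 25416 Q25416 (allL N25416 (tt N25005 F190206) (tt N26301 (iv F193949)) (tt N26387 (iv F194517)) (tt N24346 F190207) (tt N25282 F190208) (tt N25294 F190209) (tt N26390 (iv F194537)) (tt N25309 F190210) (tt N26391 D42318) (tt N24344 (iv D41343)))
theorem Q25418 : ∀ i, i < 25418 → P i := stepQ 25417 Q25417 (allL N25417 (tt N24978 F190211) (tt N24823 F190212) (tt N26380 (iv F194477)) (tt N26388 (iv F194524)) (tt N24694 F190213) (tt N24345 (iv D41344)) (tt N25295 F190214) (tt N26392 D42319) (tt N24366 F190215) (tt N26393 D42320))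
theorem Q25419 : ∀ i, i < 25419 → P i := stepQ 25418 Q25418 (allL N25418 (tt N25006 F190216) (tt N26315 (iv F194061)) (tt N26381 (iv F194483)) (tt N26389 (iv F194529)) (tt N24347 F190217) (tt N26392 (iv F194549)) (tt N26359 (iv F194347)) (tt N24345 (iv D41345)) (tt N24353 F190218) (tt N26394 D42321))
theorem Q25420 : ∀ i, i < 25420 → P i := stepQ 25419 Q25419 (allL N25419 (tt N25007 F190219) (tt N26316 (iv F194069)) (tt N26382 (iv F194488)) (tt N26390 (iv F194535)) (tt N24348 F190220) (tt N26393 (iv F194554)) (tt N24346 F190221) (tt N26394 (iv F194559)) (tt N26395 D42322) (tt N24345 (iv D41346)))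
theorem Q25421 : ∀ i, i < 25421 → P i := stepQ 25420 Q25420 (allL N25420 (tt N25008 F190222) (tt N26317 (iv F194075)) (tt N25214 F190223) (tt N26391 (iv F194541)) (tt N24349 F190224) (tt N26314 (iv F194057)) (tt N26395 (iv F194565)) (tt N26361 (iv F194359)) (tt N24346 (iv D41347)) (tt N24355 F190225))
theorem Q25422 : ∀ i, i < 25422 → P i := stepQ 25421 Q25421 (allL N25421 (tt N25009 F190226) (tt N26318 (iv F194084)) (tt N26383 (iv F194494)) (tt N26302 (iv F193960)) (tt N26394 (iv F194558)) (tt N24853 F190227) (tt N26362 (iv F194365)) (tt N24348 F190228) (tt N26396 D42323) (tt N24347 (iv D41348)))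
theorem Q25423 : ∀ i, i < 25423 → P i := stepQ 25422 Q25422 (allL N25422 (tt N25010 F190229) (tt N26309 (iv F194012)) (tt N25216 F190230) (tt N26303 (iv F193969)) (tt N26395 (iv F194563)) (tt N26306 (iv F193993)) (tt N24349 F190231) (tt N26396 (iv F194572)) (tt N24348 (iv D41349)) (tt N24357 F190232))
theorem Q25424 : ∀ i, i < 25424 → P i := stepQ 25423 Q25423 (allL N25423 (tt N25012 F190233) (tt N24826 F190234) (tt N24351 F190235) (tt N26384 (iv F194501)) (tt N24559 F190236) (tt N24368 F190237) (tt N24350 (iv D41350)) (tt N26397 D42324) (tt N26386 (iv F194514)) (tt N25179 F190238))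
theorem Q25425 : ∀ i, i < 25425 → P i := stepQ 25424 Q25424 (allL N25424 (tt N25013 F190239) (tt N24481 F190240) (tt N26397 (iv F194576)) (tt N24353 F190241) (tt N24473 F190242) (tt N24369 F190243) (tt N25313 F190244) (tt N24351 (iv D41351)) (tt N26389 (iv F194532)) (tt N26398 D42325))
theorem Q25426 : ∀ i, i < 25426 → P i := stepQ 25425 Q25425 (allL N25425 (tt N25014 F190245) (tt N24530 F190246) (tt N25179 F190247) (tt N24354 F190248) (tt N24525 F190249) (tt N24370 F190250) (tt N24352 F190251) (tt N26398 (iv F194588)) (tt N26399 D42326) (tt N24351 (iv D41352)))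
theorem Q25427 : ∀ i, i < 25427 → P i := stepQ 25426 Q25426 (allL N25426 (tt N25015 F190252) (tt N25074 F190253) (tt N25176 F190254) (tt N24355 F190255) (tt N25070 F190256) (tt N25150 F190257) (tt N26399 (iv F194595)) (tt N25314 F190258) (tt N24352 (iv D41353)) (tt N26391 (iv F194545)))
theorem Q25428 : ∀ i, i < 25428 → P i := stepQ 25427 Q25427 (allL N25427 (tt N25016 F190259) (tt N24790 F190260) (tt N25218 F190261) (tt N26398 (iv F194584)) (tt N24356 F190262) (tt N24371 F190263) (tt N26364 (iv F194380)) (tt N24354 F190264) (tt N26400 D42327) (tt N24353 (iv D41354)))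
theorem Q25429 : ∀ i, i < 25429 → P i := stepQ 25428 Q25428 (allL N25428 (tt N25017 F190265) (tt N25018 F190266) (tt N25213 F190267) (tt N26399 (iv F194592)) (tt N24357 F190268) (tt N24925 F190269) (tt N24355 F190270) (tt N26400 (iv F194601)) (tt N24354 (iv D41355)) (tt N26395 (iv F194566)))
theorem Q25430 : ∀ i, i < 25430 → P i := stepQ 25429 Q25429 (allL N25429 (tt N25019 F190271) (tt N24788 F190272) (tt N25215 F190273) (tt N25035 F190274) (tt N26400 (iv F194599)) (tt N24785 F190275) (tt N26366 (iv F194393)) (tt N24357 F190276) (tt N24356 (iv D41356)) (tt N26396 (iv F194573)))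
theorem Q25431 : ∀ i, i < 25431 → P i := stepQ 25430 Q25430 (allL N25430 (tt N24872 F190277) (tt N24863 F190278) (tt N24358 (iv D41357)) (tt N24364 F190279) (tt N25430 F190280) (tt N24871 F190281) (tt N26401 D42328) (tt N25430 F190282) (tt N24361 F190283) (tt N24870 F190284))
theorem Q25432 : ∀ i, i < 25432 → P i := stepQ 25431 Q25431 (allL N25431 (tt N24873 F190285) (tt N24902 F190286) (tt N26401 (iv F194604)) (tt N24359 F190287) (tt N25431 F190288) (tt N26402 D42329) (tt N24358 (iv D41358)) (tt N26403 D42330) (tt N24362 F190289) (tt N24687 F190290))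
theorem Q25433 : ∀ i, i < 25433 → P i := stepQ 25432 Q25432 (allL N25432 (tt N24692 F190291) (tt N24999 F190292) (tt N24366 F190293) (tt N26402 (iv F194611)) (tt N24631 F190294) (tt N24359 (iv D41359)) (tt N24630 F190295) (tt N26404 D42331) (tt N26380 (iv F194480)) (tt N24686 F190296))
theorem Q25434 : ∀ i, i < 25434 → P i := stepQ 25433 Q25433 (allL N25433 (tt N24874 F190297) (tt N25022 F190298) (tt N24367 F190299) (tt N26403 (iv F194617)) (tt N24360 F190300) (tt N26404 (iv F194626)) (tt N25433 F190301) (tt N24359 (iv D41360)) (tt N24363 F190302) (tt N24436 F190303))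
theorem Q25435 : ∀ i, i < 25435 → P i := stepQ 25434 Q25434 (allL N25434 (tt N25020 F190304) (tt N24857 F190305) (tt N24362 F190306) (tt N24368 F190307) (tt N25434 F190308) (tt N26384 (iv F194503)) (tt N24361 (iv D41361)) (tt N26405 D42332) (tt N26401 (iv F194607)) (tt N24380 F190309))
theorem Q25436 : ∀ i, i < 25436 → P i := stepQ 25435 Q25435 (allL N25435 (tt N25021 F190310) (tt N25206 F190311) (tt N26405 (iv F194631)) (tt N24363 F190312) (tt N25435 F190313) (tt N26385 (iv F194508)) (tt N25435 F190314) (tt N24362 (iv D41362)) (tt N26403 (iv F194620)) (tt N25319 F190315))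
theorem Q25437 : ∀ i, i < 25437 → P i := stepQ 25436 Q25436 (allL N25436 (tt N24981 F190316) (tt N24740 F190317) (tt N24365 F190318) (tt N26401 (iv F194605)) (tt N24372 F190319) (tt N26406 D42333) (tt N24364 (iv D41363)) (tt N26346 (iv F194261)) (tt N24368 F190320) (tt N24695 F190321))
theorem Q25438 : ∀ i, i < 25438 → P i := stepQ 25437 Q25437 (allL N25437 (tt N24980 F190322) (tt N24605 F190323) (tt N26406 (iv F194638)) (tt N24366 F190324) (tt N26341 (iv F194227)) (tt N24365 (iv D41364)) (tt N25320 F190325) (tt N26407 D42334) (tt N26388 (iv F194526)) (tt N24691 F190326))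
theorem Q25439 : ∀ i, i < 25439 → P i := stepQ 25438 Q25438 (allL N25438 (tt N24958 F190327) (tt N24553 F190328) (tt N26346 (iv F194258)) (tt N24367 F190329) (tt N24373 F190330) (tt N26407 (iv F194645)) (tt N25438 F190331) (tt N24365 (iv D41365)) (tt N24369 F190332) (tt N24444 F190333))
theorem Q25440 : ∀ i, i < 25440 → P i := stepQ 25439 Q25439 (allL N25439 (tt N24956 F190334) (tt N24758 F190335) (tt N26404 (iv F194624)) (tt N26407 (iv F194643)) (tt N24441 F190336) (tt N24367 F190337) (tt N26408 D42335) (tt N24366 (iv D41366)) (tt N26392 (iv F194550)) (tt N24439 F190338))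
theorem Q25441 : ∀ i, i < 25441 → P i := stepQ 25440 Q25440 (allL N25440 (tt N25023 F190339) (tt N24854 F190340) (tt N24369 F190341) (tt N26405 (iv F194632)) (tt N24374 F190342) (tt N26397 (iv F194578)) (tt N25440 F190343) (tt N24368 (iv D41367)) (tt N26346 (iv F194262)) (tt N24881 F190344))
theorem Q25442 : ∀ i, i < 25442 → P i := stepQ 25441 Q25441 (allL N25441 (tt N24529 F190345) (tt N24602 F190346) (tt N24881 F190347) (tt N24371 F190348) (tt N24375 F190349) (tt N26398 (iv F194586)) (tt N25441 F190350) (tt N24370 F190351) (tt N24860 F190352) (tt N24369 (iv D41368)))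
theorem Q25443 : ∀ i, i < 25443 → P i := stepQ 25442 Q25442 (allL N25442 (tt N25028 F190353) (tt N25107 F190354) (tt N25129 F190355) (tt N25100 F190356) (tt N25143 F190357) (tt N24376 (iv D41369)) (tt N26409 D42336) (tt N24377 F190358) (tt N26349 (iv F194284)) (tt N25170 F190359))
theorem Q25444 : ∀ i, i < 25444 → P i := stepQ 25443 Q25443 (allL N25443 (tt N25032 F190360) (tt N25170 F190361) (tt N25064 F190362) (tt N25109 F190363) (tt N24377 (iv D41370)) (tt N24378 F190364) (tt N26410 D42337) (tt N25143 F190365) (tt N26367 (iv F194401)) (tt N25107 F190366))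
theorem Q25445 : ∀ i, i < 25445 → P i := stepQ 25444 Q25444 (allL N25444 (tt N25033 F190367) (tt N25193 F190368) (tt N25217 F190369) (tt N25179 F190370) (tt N26410 (iv F194665)) (tt N24380 F190371) (tt N24377 (iv D41371)) (tt N26411 D42338) (tt N26368 (iv F194407)) (tt N26384 (iv F194504)))
theorem Q25446 : ∀ i, i < 25446 → P i := stepQ 25445 Q25445 (allL N25445 (tt N25034 F190372) (tt N25203 F190373) (tt N25319 F190374) (tt N24881 F190375) (tt N25445 F190376) (tt N26411 (iv F194672)) (tt N25445 F190377) (tt N24380 (iv D41372)) (tt N24868 F190378) (tt N26405 (iv F194635)))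
theorem Q25447 : ∀ i, i < 25447 → P i := stepQ 25446 Q25446 (allL N25446 (tt N24659 F190379) (tt N24383 F190380) (tt N25035 F190381) (tt N25225 F190382) (tt N24718 F190383) (tt N25048 F190384) (tt N24612 F190385) (tt N25220 F190386) (tt N24381 (iv D41373)) (tt N26412 D42339))
theorem Q25448 : ∀ i, i < 25448 → P i := stepQ 25447 Q25447 (allL N25447 (tt N24406 F190387) (tt N25227 F190388) (tt N24636 F190389) (tt N24721 F190390) (tt N24382 (iv D41374)) (tt N25447 F190391) (tt N24515 F190392) (tt N25221 F190393) (tt N26413 D42340) (tt N24928 F190394))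
theorem Q25449 : ∀ i, i < 25449 → P i := stepQ 25448 Q25448 (allL N25448 (tt N24407 F190395) (tt N25225 F190396) (tt N24637 F190397) (tt N24383 F190398) (tt N26413 (iv F194686)) (tt N25127 F190399) (tt N24513 F190400) (tt N25222 F190401) (tt N24382 (iv D41375)) (tt N26414 D42341))
theorem Q25450 : ∀ i, i < 25450 → P i := stepQ 25449 Q25449 (allL N25449 (tt N24410 F190402) (tt N26412 (iv F194674)) (tt N24385 F190403) (tt N26414 (iv F194692)) (tt N24725 F190404) (tt N25141 F190405) (tt N24743 F190406) (tt N25223 F190407) (tt N24932 F190408) (tt N24383 (iv D41376)))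
theorem Q25451 : ∀ i, i < 25451 → P i := stepQ 25450 Q25450 (allL N25450 (tt N24416 F190409) (tt N24798 F190410) (tt N25138 F190411) (tt N24829 F190412) (tt N24384 (iv D41377)) (tt N24731 F190413) (tt N25135 F190414) (tt N25224 F190415) (tt N24386 F190416) (tt N26415 D42342))
theorem Q25452 : ∀ i, i < 25452 → P i := stepQ 25451 Q25451 (allL N25451 (tt N24418 F190417) (tt N24799 F190418) (tt N25141 F190419) (tt N24640 F190420) (tt N26415 (iv F194701)) (tt N24385 F190421) (tt N25136 F190422) (tt N25226 F190423) (tt N24977 F190424) (tt N24384 (iv D41378)))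
theorem Q25453 : ∀ i, i < 25453 → P i := stepQ 25452 Q25452 (allL N25452 (tt N25221 F190425) (tt N25120 F190426) (tt N24651 F190427) (tt N24928 F190428) (tt N24387 (iv D41379)) (tt N25452 F190429) (tt N24745 F190430) (tt N24406 F190431) (tt N26416 D42343) (tt N24721 F190432))
theorem Q25454 : ∀ i, i < 25454 → P i := stepQ 25453 Q25453 (allL N25453 (tt N25222 F190433) (tt N25116 F190434) (tt N24652 F190435) (tt N24389 F190436) (tt N26416 (iv F194710)) (tt N26417 D42344) (tt N24746 F190437) (tt N24407 F190438) (tt N24387 (iv D41380)) (tt N26418 D42345))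
theorem Q25455 : ∀ i, i < 25455 → P i := stepQ 25454 Q25454 (allL N25454 (tt N25131 F190439) (tt N25093 F190440) (tt N24653 F190441) (tt N24390 F190442) (tt N26419 D42346) (tt N24388 (iv D41381)) (tt N25001 F190443) (tt N24408 F190444) (tt N26417 (iv F194718)) (tt N24966 F190445))
theorem Q25456 : ∀ i, i < 25456 → P i := stepQ 25455 Q25455 (allL N25455 (tt N25140 F190446) (tt N25246 F190447) (tt N24395 F190448) (tt N26417 (iv F194716)) (tt N26420 D42347) (tt N24389 (iv D41382)) (tt N26421 D42348) (tt N24409 F190449) (tt N24390 F190450) (tt N26422 D42349))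
theorem Q25457 : ∀ i, i < 25457 → P i := stepQ 25456 Q25456 (allL N25456 (tt N25223 F190451) (tt N25284 F190452) (tt N24396 F190453) (tt N26418 (iv F194723)) (tt N24932 F190454) (tt N26422 (iv F194750)) (tt N24749 F190455) (tt N24410 F190456) (tt N24725 F190457) (tt N24389 (iv D41383)))
theorem Q25458 : ∀ i, i < 25458 → P i := stepQ 25457 Q25457 (allL N25457 (tt N25146 F190458) (tt N25252 F190459) (tt N24397 F190460) (tt N26423 D42350) (tt N24390 (iv D41384)) (tt N24393 F190461) (tt N26424 D42351) (tt N24411 F190462) (tt N26420 (iv F194739)) (tt N26425 D42352))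
theorem Q25459 : ∀ i, i < 25459 → P i := stepQ 25458 Q25458 (allL N25458 (tt N25066 F190463) (tt N24945 F190464) (tt N24398 F190465) (tt N25001 F190466) (tt N26424 (iv F194759)) (tt N24392 F190467) (tt N24390 (iv D41385)) (tt N24450 F190468) (tt N26421 (iv F194746)) (tt N24989 (iv F190469)))
theorem Q25460 : ∀ i, i < 25460 → P i := stepQ 25459 Q25459 (allL N25459 (tt N24951 F190470) (tt N25255 F190471) (tt N24399 F190472) (tt N24966 F190473) (tt N26425 (iv F194766)) (tt N24391 F190474) (tt N24989 F190475) (tt N24412 F190476) (tt N26426 D42353) (tt N24390 (iv D41386)))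
theorem Q25461 : ∀ i, i < 25461 → P i := stepQ 25460 Q25460 (allL N25460 (tt N25202 F190477) (tt N25324 F190478) (tt N26427 D42354) (tt N24393 (iv D41387)) (tt N25460 F190479) (tt N26423 (iv F194754)) (tt N25460 F190480) (tt N24413 F190481) (tt N24936 F190482) (tt N26428 D42355))
theorem Q25462 : ∀ i, i < 25462 → P i := stepQ 25461 Q25461 (allL N25461 (tt N25025 F190483) (tt N25326 F190484) (tt N24403 F190485) (tt N26428 (iv F194788)) (tt N24394 F190486) (tt N26425 (iv F194767)) (tt N25461 F190487) (tt N24414 F190488) (tt N26429 D42356) (tt N24393 (iv D41388)))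
theorem Q25463 : ∀ i, i < 25463 → P i := stepQ 25462 Q25462 (allL N25462 (tt N25026 F190489) (tt N24950 F190490) (tt N24404 F190491) (tt N25462 F190492) (tt N26429 (iv F194797)) (tt N24730 F190493) (tt N25462 F190494) (tt N24415 F190495) (tt N24394 (iv D41389)) (tt N24938 F190496))
theorem Q25464 : ∀ i, i < 25464 → P i := stepQ 25463 Q25463 (allL N25463 (tt N25224 F190497) (tt N24494 F190498) (tt N26420 (iv F194736)) (tt N26430 D42357) (tt N24395 (iv D41390)) (tt N24939 F190499) (tt N26431 D42358) (tt N24416 F190500) (tt N24397 F190501) (tt N26432 D42359))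
theorem Q25465 : ∀ i, i < 25465 → P i := stepQ 25464 Q25464 (allL N25464 (tt N25225 F190502) (tt N24495 F190503) (tt N26421 (iv F194742)) (tt N24659 F190504) (tt N26431 (iv F194809)) (tt N24754 F190505) (tt N24395 (iv D41391)) (tt N26433 D42360) (tt N24398 F190506) (tt N26434 D42361))
theorem Q25466 : ∀ i, i < 25466 → P i := stepQ 25465 Q25465 (allL N25465 (tt N25226 F190507) (tt N24496 F190508) (tt N26422 (iv F194749)) (tt N24660 F190509) (tt N26432 (iv F194813)) (tt N24396 F190510) (tt N26434 (iv F194827)) (tt N24418 F190511) (tt N26435 D42362) (tt N24395 (iv D41392)))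
theorem Q25467 : ∀ i, i < 25467 → P i := stepQ 25466 Q25466 (allL N25466 (tt N24763 F190512) (tt N24497 F190513) (tt N26436 D42363) (tt N24397 (iv D41393)) (tt N24595 F190514) (tt N24402 F190515) (tt N26437 D42364) (tt N24419 F190516) (tt N26430 (iv F194806)) (tt N24593 (iv F190517)))
theorem Q25468 : ∀ i, i < 25468 → P i := stepQ 25467 Q25467 (allL N25467 (tt N25227 F190518) (tt N24498 F190519) (tt N26424 (iv F194758)) (tt N26437 (iv F194844)) (tt N24398 F190520) (tt N25467 F190521) (tt N24397 (iv D41394)) (tt N26438 D42365) (tt N26431 (iv F194810)) (tt N26439 D42366))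
theorem Q25469 : ∀ i, i < 25469 → P i := stepQ 25468 Q25468 (allL N25468 (tt N24952 F190522) (tt N24499 F190523) (tt N26425 (iv F194765)) (tt N24593 F190524) (tt N24399 F190525) (tt N24403 F190526) (tt N26439 (iv F194863)) (tt N24421 F190527) (tt N26440 D42367) (tt N24397 (iv D41395)))
theorem Q25470 : ∀ i, i < 25470 → P i := stepQ 25469 Q25469 (allL N25469 (tt N25060 F190528) (tt N24500 F190529) (tt N24450 F190530) (tt N24662 F190531) (tt N26438 (iv F194853)) (tt N24400 F190532) (tt N24422 F190533) (tt N24398 (iv D41396)) (tt N26433 (iv F194822)) (tt N24781 (iv F190534)))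
theorem Q25471 : ∀ i, i < 25471 → P i := stepQ 25470 Q25470 (allL N25470 (tt N24926 F190535) (tt N24501 F190536) (tt N24989 F190537) (tt N24663 F190538) (tt N26439 (iv F194861)) (tt N24401 F190539) (tt N24399 F190540) (tt N24781 F190541) (tt N26441 D42368) (tt N24398 (iv D41397)))
theorem Q25472 : ∀ i, i < 25472 → P i := stepQ 25471 Q25471 (allL N25471 (tt N24953 F190542) (tt N24502 F190543) (tt N26426 (iv F194772)) (tt N24664 F190544) (tt N26440 (iv F194868)) (tt N24739 F190545) (tt N26441 (iv F194875)) (tt N24423 F190546) (tt N24399 (iv D41398)) (tt N26435 (iv F194833)))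
theorem Q25473 : ∀ i, i < 25473 → P i := stepQ 25472 Q25472 (allL N25472 (tt N24854 F190547) (tt N24937 F190548) (tt N24402 (iv D41399)) (tt N26427 (iv F194778)) (tt N24405 F190549) (tt N26436 (iv F194837)) (tt N25472 F190550) (tt N24424 F190551) (tt N24947 F190552) (tt N24599 F190553))
theorem Q25474 : ∀ i, i < 25474 → P i := stepQ 25473 Q25473 (allL N25473 (tt N25027 F190554) (tt N24492 F190555) (tt N26429 (iv F194795)) (tt N24479 F190556) (tt N24404 F190557) (tt N26442 D42369) (tt N25473 F190558) (tt N24425 F190559) (tt N24403 (iv D41400)) (tt N24949 F190560))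
theorem Q25475 : ∀ i, i < 25475 → P i := stepQ 25474 Q25474 (allL N25474 (tt N26413 (iv F194682)) (tt N25114 F190561) (tt N24706 F190562) (tt N25230 F190563) (tt N24407 F190564) (tt N26443 D42370) (tt N25039 F190565) (tt N26416 (iv F194712)) (tt N24406 (iv D41401)) (tt N26444 D42371))
theorem Q25476 : ∀ i, i < 25476 → P i := stepQ 25475 Q25475 (allL N25475 (tt N25127 F190566) (tt N25089 F190567) (tt N24707 F190568) (tt N24409 F190569) (tt N26445 D42372) (tt N24407 (iv D41402)) (tt N24507 F190570) (tt N26417 (iv F194717)) (tt N24408 F190571) (tt N26446 D42373))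
theorem Q25477 : ∀ i, i < 25477 → P i := stepQ 25476 Q25476 (allL N25476 (tt N26414 (iv F194689)) (tt N25117 F190572) (tt N24708 F190573) (tt N24410 F190574) (tt N26444 (iv F194891)) (tt N26446 (iv F194902)) (tt N25040 F190575) (tt N26418 (iv F194725)) (tt N26321 (iv F194111)) (tt N24407 (iv D41403)))
theorem Q25478 : ∀ i, i < 25478 → P i := stepQ 25477 Q25477 (allL N25477 (tt N25130 F190576) (tt N25092 F190577) (tt N24709 F190578) (tt N26447 D42374) (tt N24408 (iv D41404)) (tt N25477 F190579) (tt N24509 F190580) (tt N26419 (iv F194732)) (tt N26445 (iv F194897)) (tt N24965 F190581))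
theorem Q25479 : ∀ i, i < 25479 → P i := stepQ 25478 Q25478 (allL N25478 (tt N25138 F190582) (tt N25244 F190583) (tt N24416 F190584) (tt N26448 D42375) (tt N24409 (iv D41405)) (tt N25235 F190585) (tt N24517 F190586) (tt N26420 (iv F194738)) (tt N24411 F190587) (tt N26449 D42376))
theorem Q25480 : ∀ i, i < 25480 → P i := stepQ 25479 Q25479 (allL N25479 (tt N25141 F190588) (tt N25247 F190589) (tt N24418 F190590) (tt N26446 (iv F194901)) (tt N26449 (iv F194920)) (tt N24410 F190591) (tt N24518 F190592) (tt N26422 (iv F194751)) (tt N26450 D42377) (tt N24409 (iv D41406)))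
theorem Q25481 : ∀ i, i < 25481 → P i := stepQ 25480 Q25480 (allL N25480 (tt N25144 F190593) (tt N25250 F190594) (tt N26451 D42378) (tt N24411 (iv D41407)) (tt N26447 (iv F194907)) (tt N24413 F190595) (tt N24519 F190596) (tt N26423 (iv F194755)) (tt N26448 (iv F194916)) (tt N26452 D42379))
theorem Q25482 : ∀ i, i < 25482 → P i := stepQ 25481 Q25481 (allL N25481 (tt N24974 F190597) (tt N25253 F190598) (tt N24421 F190599) (tt N26452 (iv F194939)) (tt N24412 F190600) (tt N24414 F190601) (tt N24520 F190602) (tt N26425 (iv F194769)) (tt N26453 D42380) (tt N24411 (iv D41408)))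
theorem Q25483 : ∀ i, i < 25483 → P i := stepQ 25482 Q25482 (allL N25482 (tt N24975 F190603) (tt N25256 F190604) (tt N24423 F190605) (tt N24962 F190606) (tt N26453 (iv F194946)) (tt N26329 (iv F194159)) (tt N24521 F190607) (tt N26426 (iv F194776)) (tt N24412 (iv D41409)) (tt N26450 (iv F194928)))
theorem Q25484 : ∀ i, i < 25484 → P i := stepQ 25483 Q25483 (allL N25483 (tt N24857 F190608) (tt N25241 (iv F190613)) (tt N24413 (iv D41410)) (tt N24424 F190609) (tt N25483 F190610) (tt N26451 (iv F194932)) (tt N24426 F190611) (tt N26427 (iv F194781)) (tt N25240 F190612) (tt N24598 (iv F190614)))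
theorem Q25485 : ∀ i, i < 25485 → P i := stepQ 25484 Q25484 (allL N25484 (tt N25029 F190615) (tt N25325 F190616) (tt N24598 F190617) (tt N24414 F190618) (tt N25484 F190619) (tt N26452 (iv F194941)) (tt N24427 F190620) (tt N26428 (iv F194791)) (tt N25323 (iv F190621)) (tt N24413 (iv D41411)))
theorem Q25486 : ∀ i, i < 25486 → P i := stepQ 25485 Q25485 (allL N25485 (tt N25030 F190622) (tt N25258 F190623) (tt N24425 F190624) (tt N25323 F190625) (tt N24415 F190626) (tt N26454 D42381) (tt N24428 F190627) (tt N26429 (iv F194799)) (tt N24414 (iv D41412)) (tt N25242 F190628))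
theorem Q25487 : ∀ i, i < 25487 → P i := stepQ 25486 Q25486 (allL N25486 (tt N24829 F190629) (tt N24587 F190630) (tt N26455 D42382) (tt N24416 (iv D41413)) (tt N24596 F190631) (tt N25243 F190632) (tt N24594 (iv F190634)) (tt N26430 (iv F194805)) (tt N24419 F190633) (tt N26456 D42383))
theorem Q25488 : ∀ i, i < 25488 → P i := stepQ 25487 Q25487 (allL N25487 (tt N25135 F190635) (tt N24588 F190636) (tt N24517 F190637) (tt N24594 F190638) (tt N24417 F190639) (tt N24576 (iv F190641)) (tt N24416 (iv D41414)) (tt N26457 D42384) (tt N24420 F190640) (tt N26458 D42385))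
theorem Q25489 : ∀ i, i < 25489 → P i := stepQ 25488 Q25488 (allL N25488 (tt N26415 (iv F194697)) (tt N24589 F190642) (tt N26449 (iv F194919)) (tt N26456 (iv F194962)) (tt N24418 F190643) (tt N25245 F190644) (tt N26458 (iv F194980)) (tt N26432 (iv F194815)) (tt N26459 D42386) (tt N24416 (iv D41415)))
theorem Q25490 : ∀ i, i < 25490 → P i := stepQ 25489 Q25489 (allL N25489 (tt N25057 F190645) (tt N24590 F190646) (tt N24447 F190647) (tt N24714 F190648) (tt N26457 (iv F194971)) (tt N24446 F190649) (tt N26433 (iv F194821)) (tt N24417 (iv D41416)) (tt N24422 F190650) (tt N26460 D42387))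
theorem Q25491 : ∀ i, i < 25491 → P i := stepQ 25490 Q25490 (allL N25490 (tt N25136 F190651) (tt N24591 F190652) (tt N24518 F190653) (tt N24715 F190654) (tt N26458 (iv F194978)) (tt N24516 F190655) (tt N24418 F190656) (tt N26460 (iv F194993)) (tt N24852 F190657) (tt N24417 (iv D41417)))
theorem Q25492 : ∀ i, i < 25492 → P i := stepQ 25491 Q25491 (allL N25491 (tt N24977 F190658) (tt N24592 F190659) (tt N26450 (iv F194925)) (tt N24716 F190660) (tt N26459 (iv F194985)) (tt N26338 (iv F194211)) (tt N24852 F190661) (tt N26435 (iv F194832)) (tt N24418 (iv D41418)) (tt N24423 F190662))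
theorem Q25493 : ∀ i, i < 25493 → P i := stepQ 25492 Q25492 (allL N25492 (tt N24826 F190663) (tt N25238 F190664) (tt N24419 (iv D41419)) (tt N26451 (iv F194930)) (tt N24583 F190665) (tt N24424 F190666) (tt N24581 F190667) (tt N26436 (iv F194838)) (tt N26455 (iv F194959)) (tt N24580 F190668))
theorem Q25494 : ∀ i, i < 25494 → P i := stepQ 25493 Q25493 (allL N25493 (tt N25059 F190669) (tt N24593 F190670) (tt N24449 F190671) (tt N24499 F190672) (tt N24422 F190673) (tt N24429 F190674) (tt N26438 (iv F194855)) (tt N24420 (iv D41420)) (tt N26457 (iv F194973)) (tt N24497 F190675))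
theorem Q25495 : ∀ i, i < 25495 → P i := stepQ 25494 Q25494 (allL N25494 (tt N24976 F190676) (tt N24594 F190677) (tt N26453 (iv F194945)) (tt N24588 F190678) (tt N24423 F190679) (tt N26461 D42388) (tt N24587 F190680) (tt N26440 (iv F194869)) (tt N24421 (iv D41421)) (tt N26459 (iv F194987)))
theorem Q25496 : ∀ i, i < 25496 → P i := stepQ 25495 Q25495 (allL N25495 (tt N25031 F190681) (tt N24579 F190682) (tt N26454 (iv F194950)) (tt N24565 F190683) (tt N26348 (iv F194274)) (tt N24425 (iv D41422)) (tt N25237 F190684) (tt N26442 (iv F194881)) (tt N26461 (iv F194999)) (tt N25259 F190685))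
theorem Q25497 : ∀ i, i < 25497 → P i := stepQ 25496 Q25496 (allL N25496 (tt N25080 F190686) (tt N25313 F190687) (tt N24721 F190688) (tt N24908 F190689) (tt N24430 (iv D41423)) (tt N25496 F190690) (tt N24481 F190691) (tt N24681 F190692) (tt N26462 D42389) (tt N24651 F190693))
theorem Q25498 : ∀ i, i < 25498 → P i := stepQ 25497 Q25497 (allL N25497 (tt N25081 F190694) (tt N25310 F190695) (tt N24722 F190696) (tt N24432 F190697) (tt N26462 (iv F195004)) (tt N26463 D42390) (tt N24482 F190698) (tt N24682 F190699) (tt N24430 (iv D41424)) (tt N26464 D42391))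
theorem Q25499 : ∀ i, i < 25499 → P i := stepQ 25498 Q25498 (allL N25498 (tt N25082 F190700) (tt N24989 F190701) (tt N24723 F190702) (tt N24433 F190703) (tt N26465 D42392) (tt N24431 (iv D41425)) (tt N25255 F190704) (tt N24683 F190705) (tt N26463 (iv F195012)) (tt N24945 F190706))
theorem Q25500 : ∀ i, i < 25500 → P i := stepQ 25499 Q25499 (allL N25499 (tt N25083 F190707) (tt N24993 F190708) (tt N24437 F190709) (tt N26463 (iv F195010)) (tt N26466 D42393) (tt N24432 (iv D41426)) (tt N26467 D42394) (tt N24684 F190710) (tt N24433 F190711) (tt N26468 D42395))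
theorem Q25501 : ∀ i, i < 25501 → P i := stepQ 25500 Q25500 (allL N25500 (tt N25084 F190712) (tt N25315 F190713) (tt N24438 F190714) (tt N26464 (iv F195017)) (tt N24910 F190715) (tt N26468 (iv F195044)) (tt N24486 F190716) (tt N24685 F190717) (tt N24655 F190718) (tt N24432 (iv D41427)))
theorem Q25502 : ∀ i, i < 25502 → P i := stepQ 25501 Q25501 (allL N25501 (tt N25085 F190719) (tt N24998 F190720) (tt N24439 F190721) (tt N26469 D42396) (tt N24433 (iv D41428)) (tt N24436 F190722) (tt N26470 D42397) (tt N24686 F190723) (tt N26466 (iv F195033)) (tt N26404 (iv F194628)))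
theorem Q25503 : ∀ i, i < 25503 → P i := stepQ 25502 Q25502 (allL N25502 (tt N25086 F190724) (tt N24966 F190725) (tt N24440 F190726) (tt N25255 F190727) (tt N26470 (iv F195053)) (tt N24435 F190728) (tt N24433 (iv D41429)) (tt N24957 F190729) (tt N26467 (iv F195040)) (tt N25093 (iv F190730)))
theorem Q25504 : ∀ i, i < 25504 → P i := stepQ 25503 Q25503 (allL N25503 (tt N24693 F190731) (tt N25001 F190732) (tt N24441 F190733) (tt N24945 F190734) (tt N26404 (iv F194625)) (tt N24434 F190735) (tt N25093 F190736) (tt N24631 F190737) (tt N26471 D42398) (tt N24433 (iv D41430)))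
theorem Q25505 : ∀ i, i < 25505 → P i := stepQ 25504 Q25504 (allL N25504 (tt N25087 F190738) (tt N25021 F190739) (tt N26472 D42399) (tt N24436 (iv D41431)) (tt N25504 F190740) (tt N26469 (iv F195048)) (tt N25504 F190741) (tt N24687 F190742) (tt N24875 F190743) (tt N26403 (iv F194621)))
theorem Q25506 : ∀ i, i < 25506 → P i := stepQ 25505 Q25505 (allL N25505 (tt N25088 F190744) (tt N24753 F190745) (tt N26466 (iv F195030)) (tt N26473 D42400) (tt N24437 (iv D41432)) (tt N24911 F190746) (tt N26474 D42401) (tt N24688 F190747) (tt N24439 F190748) (tt N26475 D42402))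
theorem Q25507 : ∀ i, i < 25507 → P i := stepQ 25506 Q25506 (allL N25506 (tt N25089 F190749) (tt N24754 F190750) (tt N26467 (iv F195036)) (tt N24732 F190751) (tt N26474 (iv F195078)) (tt N24495 F190752) (tt N24437 (iv D41433)) (tt N26476 D42403) (tt N24440 F190753) (tt N26477 D42404))
theorem Q25508 : ∀ i, i < 25508 → P i := stepQ 25507 Q25507 (allL N25507 (tt N25090 F190754) (tt N24755 F190755) (tt N26468 (iv F195043)) (tt N24733 F190756) (tt N26475 (iv F195082)) (tt N24438 F190757) (tt N26477 (iv F195096)) (tt N24690 F190758) (tt N26478 D42405) (tt N24437 (iv D41434)))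
theorem Q25509 : ∀ i, i < 25509 → P i := stepQ 25508 Q25508 (allL N25508 (tt N25091 F190759) (tt N24756 F190760) (tt N26479 D42406) (tt N24439 (iv D41435)) (tt N24734 F190761) (tt N24444 F190762) (tt N26480 D42407) (tt N24691 F190763) (tt N26473 (iv F195075)) (tt N26407 (iv F194646)))
theorem Q25510 : ∀ i, i < 25510 → P i := stepQ 25509 Q25509 (allL N25509 (tt N25092 F190764) (tt N24757 F190765) (tt N26470 (iv F195052)) (tt N26480 (iv F195109)) (tt N24440 F190766) (tt N25509 F190767) (tt N24439 (iv D41436)) (tt N26481 D42408) (tt N26474 (iv F195079)) (tt N26408 (iv F194653)))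
theorem Q25511 : ∀ i, i < 25511 → P i := stepQ 25510 Q25510 (allL N25510 (tt N25093 F190768) (tt N24759 F190769) (tt N24957 F190770) (tt N24737 F190771) (tt N26481 (iv F195115)) (tt N24442 F190772) (tt N24693 F190773) (tt N24440 (iv D41437)) (tt N26476 (iv F195091)) (tt N25086 (iv F190774)))
theorem Q25512 : ∀ i, i < 25512 → P i := stepQ 25511 Q25511 (allL N25511 (tt N24957 F190775) (tt N24760 F190776) (tt N25093 F190777) (tt N24738 F190778) (tt N26408 (iv F194650)) (tt N24443 F190779) (tt N24441 F190780) (tt N25086 F190781) (tt N26482 D42409) (tt N24440 (iv D41438)))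
theorem Q25513 : ∀ i, i < 25513 → P i := stepQ 25512 Q25512 (allL N25512 (tt N24954 F190782) (tt N24761 F190783) (tt N26471 (iv F195059)) (tt N24739 F190784) (tt N26392 (iv F194548)) (tt N24664 F190785) (tt N26482 (iv F195124)) (tt N24694 F190786) (tt N24441 (iv D41439)) (tt N26478 (iv F195102)))
theorem Q25514 : ∀ i, i < 25514 → P i := stepQ 25513 Q25513 (allL N25513 (tt N25094 F190787) (tt N26347 (iv F194265)) (tt N24444 (iv D41440)) (tt N26472 (iv F195065)) (tt N24445 F190788) (tt N26479 (iv F195105)) (tt N25513 F190789) (tt N24695 F190790) (tt N24858 F190791) (tt N26346 F194263))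
theorem Q25515 : ∀ i, i < 25515 → P i := stepQ 25514 Q25514 (allL N25514 (tt N25058 F190792) (tt N26302 (iv F193958)) (tt N24448 F190793) (tt N26318 (iv F194086)) (tt N24486 F190794) (tt N26460 (iv F194992)) (tt N24910 F190795) (tt N24516 F190796) (tt N25036 F190797) (tt N24446 (iv D41441)))
theorem Q25516 : ∀ i, i < 25516 → P i := stepQ 25515 Q25515 (allL N25515 (tt N25061 F190798) (tt N24939 F190799) (tt N26457 (iv F194969)) (tt N26483 D42410) (tt N24447 (iv D41442)) (tt N24494 F190800) (tt N26484 D42411) (tt N24517 F190801) (tt N24449 F190802) (tt N26485 D42412))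
theorem Q25517 : ∀ i, i < 25517 → P i := stepQ 25516 Q25516 (allL N25516 (tt N25062 F190803) (tt N24940 F190804) (tt N26433 (iv F194818)) (tt N25002 F190805) (tt N26484 (iv F195135)) (tt N24912 F190806) (tt N24447 (iv D41443)) (tt N26421 (iv F194745)) (tt N24450 F190807) (tt N26486 D42413))
theorem Q25518 : ∀ i, i < 25518 → P i := stepQ 25517 Q25517 (allL N25517 (tt N25063 F190808) (tt N24941 F190809) (tt N26460 (iv F194990)) (tt N24995 F190810) (tt N26485 (iv F195139)) (tt N24448 F190811) (tt N26486 (iv F195147)) (tt N24518 F190812) (tt N24986 F190813) (tt N24447 (iv D41444)))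
theorem Q25519 : ∀ i, i < 25519 → P i := stepQ 25518 Q25518 (allL N25518 (tt N25064 F190814) (tt N24942 F190815) (tt N25032 (iv F190820)) (tt N24449 (iv D41445)) (tt N24901 F190816) (tt N24451 F190817) (tt N26487 D42414) (tt N24519 F190818) (tt N26483 (iv F195131)) (tt N24987 F190819))
theorem Q25520 : ∀ i, i < 25520 → P i := stepQ 25519 Q25519 (allL N25519 (tt N25065 F190821) (tt N24943 F190822) (tt N26438 (iv F194851)) (tt N26487 (iv F195152)) (tt N24450 F190823) (tt N25519 F190824) (tt N24449 (iv D41446)) (tt N26424 (iv F194761)) (tt N26484 (iv F195136)) (tt N24988 F190825))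
theorem Q25521 : ∀ i, i < 25521 → P i := stepQ 25520 Q25520 (allL N25520 (tt N24454 F190826) (tt N24532 F190827) (tt N24661 F190828) (tt N24527 F190829) (tt N24656 F190830) (tt N24452 (iv D41447)) (tt N24645 F190831) (tt N24524 F190832) (tt N26488 D42415) (tt N24470 F190833))
theorem Q25522 : ∀ i, i < 25522 → P i := stepQ 25521 Q25521 (allL N25521 (tt N24527 F190834) (tt N24456 F190835) (tt N24783 F190836) (tt N24454 F190837) (tt N26398 (iv F194585)) (tt N24453 (iv D41448)) (tt N24647 F190838) (tt N24525 F190839) (tt N26489 D42416) (tt N24473 F190840))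
theorem Q25523 : ∀ i, i < 25523 → P i := stepQ 25522 Q25522 (allL N25522 (tt N26488 (iv F195156)) (tt N24457 F190841) (tt N24718 F190842) (tt N26489 (iv F195167)) (tt N25035 F190843) (tt N26490 D42417) (tt N24649 F190844) (tt N24526 F190845) (tt N24454 (iv D41449)) (tt N26491 D42418))
theorem Q25524 : ∀ i, i < 25524 → P i := stepQ 25523 Q25523 (allL N25523 (tt N24525 F190846) (tt N24458 F190847) (tt N24719 F190848) (tt N24524 F190849) (tt N25014 F190850) (tt N24455 (iv D41450)) (tt N24772 F190851) (tt N24527 F190852) (tt N26490 (iv F195177)) (tt N24556 F190853))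
theorem Q25525 : ∀ i, i < 25525 → P i := stepQ 25524 Q25524 (allL N25524 (tt N25042 F190854) (tt N26398 (iv F194582)) (tt N24745 F190855) (tt N24790 F190856) (tt N24456 (iv D41451)) (tt N24602 F190857) (tt N24651 F190858) (tt N24530 F190859) (tt N26492 D42419) (tt N24481 F190860))
theorem Q25526 : ∀ i, i < 25526 → P i := stepQ 25525 Q25525 (allL N25525 (tt N25043 F190861) (tt N26489 (iv F195165)) (tt N24746 F190862) (tt N24457 F190863) (tt N26492 (iv F195188)) (tt N25148 F190864) (tt N24652 F190865) (tt N24531 F190866) (tt N24456 (iv D41452)) (tt N26493 D42420))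
theorem Q25527 : ∀ i, i < 25527 → P i := stepQ 25526 Q25526 (allL N25526 (tt N25044 F190867) (tt N26490 (iv F195172)) (tt N24461 F190868) (tt N25148 F190869) (tt N26494 D42421) (tt N24457 (iv D41453)) (tt N26495 D42422) (tt N24533 F190870) (tt N24458 F190871) (tt N26496 D42423))
theorem Q25528 : ∀ i, i < 25528 → P i := stepQ 25527 Q25527 (allL N25527 (tt N25045 F190872) (tt N26491 (iv F195179)) (tt N24462 F190873) (tt N26493 (iv F195194)) (tt N25036 F190874) (tt N26496 (iv F195218)) (tt N24655 F190875) (tt N24534 F190876) (tt N24486 F190877) (tt N24457 (iv D41454)))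
theorem Q25529 : ∀ i, i < 25529 → P i := stepQ 25528 Q25528 (allL N25528 (tt N25046 F190878) (tt N25014 F190879) (tt N24463 F190880) (tt N24811 F190881) (tt N24458 (iv D41455)) (tt N24460 F190882) (tt N24924 (iv F190885)) (tt N24535 F190883) (tt N26494 (iv F195205)) (tt N24810 F190884))
theorem Q25530 : ∀ i, i < 25530 → P i := stepQ 25529 Q25529 (allL N25529 (tt N24784 F190886) (tt N24772 F190887) (tt N24464 F190888) (tt N24768 F190889) (tt N24924 F190890) (tt N24459 F190891) (tt N24458 (iv D41456)) (tt N24834 (iv F190893)) (tt N26495 (iv F195213)) (tt N24765 F190892))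
theorem Q25531 : ∀ i, i < 25531 → P i := stepQ 25530 Q25530 (allL N25530 (tt N25047 F190894) (tt N24731 F190895) (tt N26494 (iv F195201)) (tt N24839 (iv F190899)) (tt N24461 (iv D41457)) (tt N24798 F190896) (tt N26497 D42424) (tt N24542 F190897) (tt N24463 F190898) (tt N26498 D42425))
theorem Q25532 : ∀ i, i < 25532 → P i := stepQ 25531 Q25531 (allL N25531 (tt N25048 F190900) (tt N24732 F190901) (tt N26495 (iv F195209)) (tt N24754 F190902) (tt N26497 (iv F195225)) (tt N24659 F190903) (tt N24461 (iv D41458)) (tt N26499 D42426) (tt N24464 F190904) (tt N26500 D42427))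
theorem Q25533 : ∀ i, i < 25533 → P i := stepQ 25532 Q25532 (allL N25532 (tt N25049 F190905) (tt N24733 F190906) (tt N26496 (iv F195216)) (tt N24755 F190907) (tt N26498 (iv F195231)) (tt N24462 F190908) (tt N26500 (iv F195245)) (tt N24544 F190909) (tt N26501 D42428) (tt N24461 (iv D41459)))
theorem Q25534 : ∀ i, i < 25534 → P i := stepQ 25533 Q25533 (allL N25533 (tt N25050 F190910) (tt N24735 F190911) (tt N24924 F190912) (tt N24861 F190913) (tt N24464 F190914) (tt N24862 F190915) (tt N24463 (iv D41460)) (tt N26502 D42429) (tt N26497 (iv F195227)) (tt N24923 (iv F190916)))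
theorem Q25535 : ∀ i, i < 25535 → P i := stepQ 25534 Q25534 (allL N25534 (tt N25051 F190917) (tt N24736 F190918) (tt N24810 F190919) (tt N24819 F190920) (tt N24465 F190921) (tt N24468 F190922) (tt N24923 F190923) (tt N24547 F190924) (tt N26503 D42430) (tt N24463 (iv D41461)))
theorem Q25536 : ∀ i, i < 25536 → P i := stepQ 25535 Q25535 (allL N25535 (tt N25052 F190925) (tt N24737 F190926) (tt N24834 F190927) (tt N24759 F190928) (tt N26502 (iv F195257)) (tt N24466 F190929) (tt N24548 F190930) (tt N24464 (iv D41462)) (tt N26499 (iv F195240)) (tt N24828 (iv F190931)))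
theorem Q25537 : ∀ i, i < 25537 → P i := stepQ 25536 Q25536 (allL N25536 (tt N24890 F190932) (tt N24738 F190933) (tt N24765 F190934) (tt N24760 F190935) (tt N24923 F190936) (tt N24467 F190937) (tt N24465 F190938) (tt N24828 F190939) (tt N26504 D42431) (tt N24464 (iv D41463)))
theorem Q25538 : ∀ i, i < 25538 → P i := stepQ 25537 Q25537 (allL N25537 (tt N25053 F190940) (tt N24739 F190941) (tt N25171 F190942) (tt N24761 F190943) (tt N26503 (iv F195265)) (tt N24502 F190944) (tt N26504 (iv F195275)) (tt N24550 F190945) (tt N24465 (iv D41464)) (tt N26501 (iv F195252)))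
theorem Q25539 : ∀ i, i < 25539 → P i := stepQ 25538 Q25538 (allL N25538 (tt N24473 F190946) (tt N24537 F190947) (tt N25257 F190948) (tt N24470 F190949) (tt N25013 F190950) (tt N24469 (iv D41465)) (tt N24846 F190951) (tt N24556 F190952) (tt N26505 D42432) (tt N24527 F190953))
theorem Q25540 : ∀ i, i < 25540 → P i := stepQ 25539 Q25539 (allL N25539 (tt N24475 F190954) (tt N25095 F190955) (tt N24778 F190956) (tt N26505 (iv F195280)) (tt N24896 F190957) (tt N26506 D42433) (tt N24849 F190958) (tt N24557 F190959) (tt N24470 (iv D41466)) (tt N26507 D42434))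
theorem Q25541 : ∀ i, i < 25541 → P i := stepQ 25540 Q25540 (allL N25540 (tt N24476 F190960) (tt N24573 F190961) (tt N24737 F190962) (tt N24566 F190963) (tt N25204 F190964) (tt N24471 (iv D41467)) (tt N25234 F190965) (tt N24558 F190966) (tt N26506 (iv F195292)) (tt N24562 F190967))
theorem Q25542 : ∀ i, i < 25542 → P i := stepQ 25541 Q25541 (allL N25541 (tt N25257 F190968) (tt N24762 F190969) (tt N24473 F190970) (tt N25110 F190971) (tt N26397 (iv F194577)) (tt N24472 (iv D41468)) (tt N25186 F190972) (tt N24559 F190973) (tt N26508 D42435) (tt N24783 F190974))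
theorem Q25543 : ∀ i, i < 25543 → P i := stepQ 25542 Q25542 (allL N25542 (tt N26505 (iv F195277)) (tt N24482 F190975) (tt N26508 (iv F195301)) (tt N24475 F190976) (tt N26389 (iv F194530)) (tt N26509 D42436) (tt N25310 F190977) (tt N24561 F190978) (tt N24473 (iv D41469)) (tt N26510 D42437))
theorem Q25544 : ∀ i, i < 25544 → P i := stepQ 25543 Q25543 (allL N25543 (tt N24566 F190979) (tt N24483 F190980) (tt N24738 F190981) (tt N24476 F190982) (tt N25011 F190983) (tt N24474 (iv D41470)) (tt N24727 F190984) (tt N24562 F190985) (tt N26509 (iv F195312)) (tt N24558 F190986))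
theorem Q25545 : ∀ i, i < 25545 → P i := stepQ 25544 Q25544 (allL N25544 (tt N26506 (iv F195285)) (tt N24485 F190987) (tt N25246 F190988) (tt N26509 (iv F195309)) (tt N26511 D42438) (tt N24475 (iv D41471)) (tt N26512 D42439) (tt N24563 F190989) (tt N24476 F190990) (tt N26513 D42440))
theorem Q25546 : ∀ i, i < 25546 → P i := stepQ 25545 Q25545 (allL N25545 (tt N26507 (iv F195293)) (tt N24486 F190991) (tt N25284 F190992) (tt N26510 (iv F195315)) (tt N26302 (iv F193961)) (tt N26513 (iv F195333)) (tt N25315 F190993) (tt N24564 F190994) (tt N26491 (iv F195184)) (tt N24475 (iv D41472)))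
theorem Q25547 : ∀ i, i < 25547 → P i := stepQ 25546 Q25546 (allL N25546 (tt N25204 F190995) (tt N24487 F190996) (tt N25252 F190997) (tt N26442 (iv F194879)) (tt N24476 (iv D41473)) (tt N24479 F190998) (tt N26514 D42441) (tt N24565 F190999) (tt N26511 (iv F195323)) (tt N26515 D42442))
theorem Q25548 : ∀ i, i < 25548 → P i := stepQ 25547 Q25547 (allL N25547 (tt N25234 F191000) (tt N24488 F191001) (tt N24945 F191002) (tt N24727 F191003) (tt N26514 (iv F195338)) (tt N24478 F191004) (tt N24476 (iv D41474)) (tt N24934 F191005) (tt N26512 (iv F195330)) (tt N24723 (iv F191006)))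
theorem Q25549 : ∀ i, i < 25549 → P i := stepQ 25548 Q25548 (allL N25548 (tt N24562 F191007) (tt N24489 F191008) (tt N25255 F191009) (tt N24558 F191010) (tt N26515 (iv F195346)) (tt N24477 F191011) (tt N24723 F191012) (tt N24566 F191013) (tt N26516 D42443) (tt N24476 (iv D41475)))
theorem Q25550 : ∀ i, i < 25550 → P i := stepQ 25549 Q25549 (allL N25549 (tt N24604 F191014) (tt N24493 F191015) (tt N25326 F191016) (tt N24949 F191017) (tt N24480 F191018) (tt N26515 (iv F195347)) (tt N25549 F191019) (tt N24567 F191020) (tt N24948 F191021) (tt N24479 (iv D41476)))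
theorem Q25551 : ∀ i, i < 25551 → P i := stepQ 25550 Q25550 (allL N25550 (tt N25101 F191022) (tt N26389 (iv F194528)) (tt N24769 F191023) (tt N26315 (iv F194063)) (tt N24482 F191024) (tt N26517 D42444) (tt N26462 (iv F195005)) (tt N24568 F191025) (tt N24481 (iv D41477)) (tt N26518 D42445))
theorem Q25552 : ∀ i, i < 25552 → P i := stepQ 25551 Q25551 (allL N25551 (tt N25102 F191026) (tt N26509 (iv F195307)) (tt N24770 F191027) (tt N24485 F191028) (tt N25003 (iv F191031)) (tt N24482 (iv D41478)) (tt N26519 D42446) (tt N24569 F191029) (tt N24483 F191030) (tt N26520 D42447))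
theorem Q25553 : ∀ i, i < 25553 → P i := stepQ 25552 Q25552 (allL N25552 (tt N25103 F191032) (tt N26510 (iv F195314)) (tt N24771 F191033) (tt N24486 F191034) (tt N26518 (iv F195365)) (tt N26520 (iv F195379)) (tt N26464 (iv F195018)) (tt N24570 F191035) (tt N26493 (iv F195198)) (tt N24482 (iv D41479)))
theorem Q25554 : ∀ i, i < 25554 → P i := stepQ 25553 Q25553 (allL N25553 (tt N24559 F191036) (tt N24727 F191037) (tt N24556 F191038) (tt N24488 F191039) (tt N25012 F191040) (tt N24484 F191041) (tt N24483 (iv D41480)) (tt N25257 (iv F191043)) (tt N26519 (iv F195373)) (tt N24719 F191042))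
theorem Q25555 : ∀ i, i < 25555 → P i := stepQ 25554 Q25554 (allL N25554 (tt N25104 F191044) (tt N26511 (iv F195319)) (tt N24494 F191045) (tt N26521 D42448) (tt N24485 (iv D41481)) (tt N26457 (iv F194972)) (tt N26522 D42449) (tt N24576 F191046) (tt N24487 F191047) (tt N26523 D42450))
theorem Q25556 : ∀ i, i < 25556 → P i := stepQ 25555 Q25555 (allL N25555 (tt N25105 F191048) (tt N26512 (iv F195325)) (tt N24495 F191049) (tt N26519 (iv F195370)) (tt N26522 (iv F195390)) (tt N26467 (iv F195038)) (tt N24485 (iv D41482)) (tt N26524 D42451) (tt N24488 F191050) (tt N26525 D42452))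
theorem Q25557 : ∀ i, i < 25557 → P i := stepQ 25556 Q25556 (allL N25556 (tt N25106 F191051) (tt N26513 (iv F195331)) (tt N24496 F191052) (tt N26520 (iv F195377)) (tt N26523 (iv F195394)) (tt N24486 F191053) (tt N26525 (iv F195405)) (tt N24578 F191054) (tt N26526 D42453) (tt N24485 (iv D41483)))
theorem Q25558 : ∀ i, i < 25558 → P i := stepQ 25557 Q25557 (allL N25557 (tt N25107 F191055) (tt N26442 (iv F194878)) (tt N24987 F191056) (tt N24487 (iv D41484)) (tt N24996 F191057) (tt N24492 F191058) (tt N26527 D42454) (tt N24579 F191059) (tt N26521 (iv F195387)) (tt N25032 (iv F191060)))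
theorem Q25559 : ∀ i, i < 25559 → P i := stepQ 25558 Q25558 (allL N25558 (tt N25108 F191061) (tt N26514 (iv F195336)) (tt N24498 F191062) (tt N26527 (iv F195414)) (tt N24488 F191063) (tt N25558 F191064) (tt N24487 (iv D41485)) (tt N26528 D42455) (tt N26522 (iv F195391)) (tt N26529 D42456))
theorem Q25560 : ∀ i, i < 25560 → P i := stepQ 25559 Q25559 (allL N25559 (tt N25109 F191065) (tt N26515 (iv F195343)) (tt N24499 F191066) (tt N25032 F191067) (tt N24489 F191068) (tt N24493 F191069) (tt N26529 (iv F195431)) (tt N24581 F191070) (tt N26530 D42457) (tt N24487 (iv D41486)))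
theorem Q25561 : ∀ i, i < 25561 → P i := stepQ 25560 Q25560 (allL N25560 (tt N25110 F191071) (tt N24934 F191072) (tt N24500 F191073) (tt N25257 F191074) (tt N26528 (iv F195421)) (tt N24490 F191075) (tt N24582 F191076) (tt N24488 (iv D41487)) (tt N26524 (iv F195402)) (tt N25124 (iv F191077)))
theorem Q25562 : ∀ i, i < 25562 → P i := stepQ 25561 Q25561 (allL N25561 (tt N25111 F191078) (tt N24723 F191079) (tt N24501 F191080) (tt N24719 F191081) (tt N26529 (iv F195429)) (tt N24491 F191082) (tt N24489 F191083) (tt N25124 F191084) (tt N26531 D42458) (tt N24488 (iv D41488)))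
theorem Q25563 : ∀ i, i < 25563 → P i := stepQ 25562 Q25562 (allL N25562 (tt N25112 F191085) (tt N26516 (iv F195351)) (tt N24502 F191086) (tt N25172 F191087) (tt N26530 (iv F195436)) (tt N25171 F191088) (tt N26531 (iv F195444)) (tt N24584 F191089) (tt N24489 (iv D41489)) (tt N26526 (iv F195411)))
theorem Q25564 : ∀ i, i < 25564 → P i := stepQ 25563 Q25563 (allL N25563 (tt N25113 F191090) (tt N26430 (iv F194802)) (tt N24984 (iv F191094)) (tt N24494 (iv D41490)) (tt N24775 F191091) (tt N26483 (iv F195129)) (tt N26532 D42459) (tt N24587 F191092) (tt N24497 F191093) (tt N26533 D42460))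
theorem Q25565 : ∀ i, i < 25565 → P i := stepQ 25564 Q25564 (allL N25564 (tt N25114 F191095) (tt N26431 (iv F194808)) (tt N26522 (iv F195389)) (tt N26532 (iv F195448)) (tt N24495 F191096) (tt N26534 D42461) (tt N24494 (iv D41491)) (tt N26535 D42462) (tt N24498 F191097) (tt N26536 D42463))
theorem Q25566 : ∀ i, i < 25566 → P i := stepQ 25565 Q25565 (allL N25565 (tt N25115 F191098) (tt N26432 (iv F194812)) (tt N26523 (iv F195393)) (tt N26533 (iv F195453)) (tt N24496 F191099) (tt N26485 (iv F195140)) (tt N26536 (iv F195464)) (tt N24589 F191100) (tt N26537 D42464) (tt N24494 (iv D41492)))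
theorem Q25567 : ∀ i, i < 25567 → P i := stepQ 25566 Q25566 (allL N25566 (tt N25116 F191101) (tt N26433 (iv F194817)) (tt N26524 (iv F195398)) (tt N24778 F191102) (tt N26535 (iv F195459)) (tt N26476 (iv F195089)) (tt N24590 F191103) (tt N24495 (iv D41493)) (tt N24500 F191104) (tt N26538 D42465))
theorem Q25568 : ∀ i, i < 25568 → P i := stepQ 25567 Q25567 (allL N25567 (tt N25117 F191105) (tt N26434 (iv F194824)) (tt N26525 (iv F195404)) (tt N24779 F191106) (tt N26536 (iv F195463)) (tt N26477 (iv F195095)) (tt N24496 F191107) (tt N26538 (iv F195472)) (tt N26539 D42466) (tt N24495 (iv D41494)))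
theorem Q25569 : ∀ i, i < 25569 → P i := stepQ 25568 Q25568 (allL N25568 (tt N25118 F191108) (tt N26435 (iv F194829)) (tt N26526 (iv F195407)) (tt N24780 F191109) (tt N26537 (iv F195466)) (tt N26501 (iv F195250)) (tt N26539 (iv F195475)) (tt N24592 F191110) (tt N24496 (iv D41495)) (tt N24502 F191111))
theorem Q25570 : ∀ i, i < 25570 → P i := stepQ 25569 Q25569 (allL N25569 (tt N25119 F191112) (tt N26437 (iv F194842)) (tt N24988 F191113) (tt N24498 F191114) (tt N24781 F191115) (tt N25569 F191116) (tt N24497 (iv D41496)) (tt N26439 (iv F194864)) (tt N26532 (iv F195450)) (tt N26438 F194856))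
theorem Q25571 : ∀ i, i < 25571 → P i := stepQ 25570 Q25570 (allL N25570 (tt N25120 F191117) (tt N26438 (iv F194850)) (tt N26528 (iv F195420)) (tt N26439 (iv F194860)) (tt N24500 F191118) (tt N25570 F191119) (tt N24593 F191120) (tt N24498 (iv D41497)) (tt N26535 (iv F195461)) (tt N26437 (iv F194848)))
theorem Q25572 : ∀ i, i < 25572 → P i := stepQ 25571 Q25571 (allL N25571 (tt N25121 F191121) (tt N26439 (iv F194858)) (tt N26529 (iv F195427)) (tt N26438 (iv F194852)) (tt N24501 F191122) (tt N25571 F191123) (tt N24499 F191124) (tt N26437 (iv F194847)) (tt N26540 D42467) (tt N24498 (iv D41498)))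
theorem Q25573 : ∀ i, i < 25573 → P i := stepQ 25572 Q25572 (allL N25572 (tt N25122 F191125) (tt N26440 (iv F194866)) (tt N26530 (iv F195434)) (tt N26457 (iv F194970)) (tt N24502 F191126) (tt N26521 (iv F195385)) (tt N26540 (iv F195479)) (tt N24594 F191127) (tt N24499 (iv D41499)) (tt N26537 (iv F195468)))
theorem Q25574 : ∀ i, i < 25574 → P i := stepQ 25573 Q25573 (allL N25573 (tt N24717 F191128) (tt N24781 F191129) (tt N25124 F191130) (tt N24661 F191131) (tt N26437 (iv F194845)) (tt N24503 F191132) (tt N24595 F191133) (tt N24501 F191134) (tt N26541 D42468) (tt N24500 (iv D41500)))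
theorem Q25575 : ∀ i, i < 25575 → P i := stepQ 25574 Q25574 (allL N25574 (tt N25123 F191135) (tt N26441 (iv F194871)) (tt N26531 (iv F195441)) (tt N24782 F191136) (tt N26540 (iv F195478)) (tt N26542 D42469) (tt N24502 F191137) (tt N26541 (iv F195486)) (tt N24501 (iv D41501)) (tt N26539 (iv F195476)))
theorem Q25576 : ∀ i, i < 25576 → P i := stepQ 25575 Q25575 (allL N25575 (tt N25124 F191138) (tt N25186 F191139) (tt N24717 F191140) (tt N24783 F191141) (tt N26543 D42470) (tt N24504 (iv D41502)) (tt N24762 F191142) (tt N25111 F191143) (tt N26542 (iv F195493)) (tt N25110 F191144))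
theorem Q25577 : ∀ i, i < 25577 → P i := stepQ 25576 Q25576 (allL N25576 (tt N24889 F191145) (tt N24506 F191146) (tt N25079 F191147) (tt N24906 F191148) (tt N24785 F191149) (tt N24916 F191150) (tt N25037 F191151) (tt N24680 F191152) (tt N24505 (iv D41503)) (tt N26544 D42471))
theorem Q25578 : ∀ i, i < 25578 → P i := stepQ 25577 Q25577 (allL N25577 (tt N25125 F191153) (tt N26544 (iv F195502)) (tt N24508 F191154) (tt N26311 (iv F194031)) (tt N24789 F191155) (tt N24971 F191156) (tt N25038 F191157) (tt N24803 F191158) (tt N24744 F191159) (tt N24506 (iv D41504)))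
theorem Q25579 : ∀ i, i < 25579 → P i := stepQ 25578 Q25578 (allL N25578 (tt N25126 F191160) (tt N25088 F191161) (tt N24973 F191162) (tt N26545 D42472) (tt N24507 (iv D41505)) (tt N24791 F191163) (tt N26445 (iv F194896)) (tt N25000 F191164) (tt N24509 F191165) (tt N26546 D42473))
theorem Q25580 : ∀ i, i < 25580 → P i := stepQ 25579 Q25579 (allL N25579 (tt N25128 F191166) (tt N25090 F191167) (tt N24971 F191168) (tt N24518 F191169) (tt N26546 (iv F195520)) (tt N24508 F191170) (tt N26446 (iv F194903)) (tt N24995 F191171) (tt N24963 F191172) (tt N24507 (iv D41506)))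
theorem Q25581 : ∀ i, i < 25581 → P i := stepQ 25580 Q25580 (allL N25580 (tt N25129 F191173) (tt N25091 F191174) (tt N25028 (iv F191179)) (tt N24509 (iv D41507)) (tt N24519 F191175) (tt N24510 F191176) (tt N26447 (iv F194909)) (tt N24901 F191177) (tt N26545 (iv F195515)) (tt N24964 F191178))
theorem Q25582 : ∀ i, i < 25582 → P i := stepQ 25581 Q25581 (allL N25581 (tt N25038 F191180) (tt N26303 (iv F193967)) (tt N24514 F191181) (tt N26309 (iv F194014)) (tt N24534 F191182) (tt N26308 (iv F194007)) (tt N25125 F191183) (tt N25036 F191184) (tt N24516 F191185) (tt N24511 (iv D41508)))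
theorem Q25583 : ∀ i, i < 25583 → P i := stepQ 25582 Q25582 (allL N25582 (tt N25039 F191186) (tt N25224 F191187) (tt N26307 (iv F193998)) (tt N24769 F191188) (tt N24513 (iv D41509)) (tt N24542 F191189) (tt N26413 (iv F194687)) (tt N24798 F191190) (tt N24515 F191191) (tt N26547 D42474))
theorem Q25584 : ∀ i, i < 25584 → P i := stepQ 25583 Q25583 (allL N25583 (tt N25040 F191192) (tt N25226 F191193) (tt N26308 (iv F194005)) (tt N24743 F191194) (tt N26547 (iv F195527)) (tt N24514 F191195) (tt N26414 (iv F194694)) (tt N24799 F191196) (tt N24960 F191197) (tt N24513 (iv D41510)))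
theorem Q25585 : ∀ i, i < 25585 → P i := stepQ 25584 Q25584 (allL N25584 (tt N25137 F191198) (tt N25243 F191199) (tt N26548 D42475) (tt N24517 (iv D41511)) (tt N26545 (iv F195512)) (tt N24587 F191200) (tt N26448 (iv F194915)) (tt N26483 (iv F195130)) (tt N24519 F191201) (tt N26549 D42476))
theorem Q25586 : ∀ i, i < 25586 → P i := stepQ 25585 Q25585 (allL N25585 (tt N25139 F191202) (tt N25245 F191203) (tt N26458 (iv F194976)) (tt N26549 (iv F195540)) (tt N24518 F191204) (tt N24589 F191205) (tt N26449 (iv F194922)) (tt N26485 (iv F195141)) (tt N26550 D42477) (tt N24517 (iv D41512)))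
theorem Q25587 : ∀ i, i < 25587 → P i := stepQ 25586 Q25586 (allL N25586 (tt N25142 F191206) (tt N25248 F191207) (tt N24852 F191208) (tt N24963 F191209) (tt N26550 (iv F195545)) (tt N24960 F191210) (tt N26450 (iv F194927)) (tt N24986 F191211) (tt N24518 (iv D41513)) (tt N24521 F191212))
theorem Q25588 : ∀ i, i < 25588 → P i := stepQ 25587 Q25587 (allL N25587 (tt N25143 F191213) (tt N25259 F191219) (tt N24519 (iv D41514)) (tt N24581 F191214) (tt N25028 F191215) (tt N24522 F191216) (tt N26451 (iv F194933)) (tt N25032 F191217) (tt N26548 (iv F195536)) (tt N24579 (iv F191218)))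
theorem Q25589 : ∀ i, i < 25589 → P i := stepQ 25588 Q25588 (allL N25588 (tt N25145 F191220) (tt N25251 F191221) (tt N24579 F191222) (tt N24520 F191223) (tt N24964 F191224) (tt N24523 F191225) (tt N26452 (iv F194942)) (tt N24987 F191226) (tt N26551 D42478) (tt N24519 (iv D41515)))
theorem Q25590 : ∀ i, i < 25590 → P i := stepQ 25589 Q25589 (allL N25589 (tt N25147 F191227) (tt N25254 F191228) (tt N24587 F191229) (tt N26551 (iv F195551)) (tt N24521 F191230) (tt N26548 (iv F195534)) (tt N26453 (iv F194947)) (tt N24984 F191231) (tt N24520 (iv D41516)) (tt N26550 (iv F195547)))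
theorem Q25591 : ∀ i, i < 25591 → P i := stepQ 25590 Q25590 (allL N25590 (tt N24526 F191232) (tt N25148 F191233) (tt N24782 F191234) (tt N26490 (iv F195174)) (tt N24899 F191235) (tt N26489 (iv F195168)) (tt N24774 F191236) (tt N26488 (iv F195163)) (tt N24524 (iv D41517)) (tt N26552 D42479))
theorem Q25592 : ∀ i, i < 25592 → P i := stepQ 25591 Q25591 (allL N25591 (tt N26490 (iv F195171)) (tt N24531 F191237) (tt N25177 F191238) (tt N24526 F191239) (tt N26399 (iv F194593)) (tt N26488 (iv F195161)) (tt N25070 F191240) (tt N26489 (iv F195170)) (tt N24525 (iv D41518)) (tt N26553 D42480))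
theorem Q25593 : ∀ i, i < 25593 → P i := stepQ 25592 Q25592 (allL N25592 (tt N26489 (iv F195164)) (tt N24533 F191241) (tt N25286 F191242) (tt N26488 (iv F195159)) (tt N26554 D42481) (tt N24526 (iv D41519)) (tt N26555 D42482) (tt N26490 (iv F195176)) (tt N24527 F191243) (tt N26556 D42483))
theorem Q25594 : ∀ i, i < 25594 → P i := stepQ 25593 Q25593 (allL N25593 (tt N26552 (iv F195555)) (tt N24534 F191244) (tt N25285 F191245) (tt N26553 (iv F195563)) (tt N26303 (iv F193970)) (tt N26556 (iv F195580)) (tt N25283 F191246) (tt N26491 (iv F195183)) (tt N24564 F191247) (tt N24526 (iv D41520)))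
theorem Q25595 : ∀ i, i < 25595 → P i := stepQ 25594 Q25594 (allL N25594 (tt N26398 (iv F194581)) (tt N24535 F191248) (tt N25287 F191249) (tt N25016 F191250) (tt N24527 (iv D41521)) (tt N24529 F191251) (tt N26557 D42484) (tt N25014 F191252) (tt N26554 (iv F195570)) (tt N25013 F191253))
theorem Q25596 : ∀ i, i < 25596 → P i := stepQ 25595 Q25595 (allL N25595 (tt N24647 F191254) (tt N24536 F191255) (tt N25279 F191256) (tt N24645 F191257) (tt N26557 (iv F195585)) (tt N24528 F191258) (tt N24527 (iv D41522)) (tt N24697 F191259) (tt N26555 (iv F195577)) (tt N24846 F191260))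
theorem Q25597 : ∀ i, i < 25597 → P i := stepQ 25596 Q25596 (allL N25596 (tt N25150 F191261) (tt N26399 (iv F194590)) (tt N24804 F191262) (tt N25018 F191263) (tt N24531 F191264) (tt N25015 F191265) (tt N25074 F191266) (tt N26492 (iv F195191)) (tt N24530 (iv D41523)) (tt N26558 D42485))
theorem Q25598 : ∀ i, i < 25598 → P i := stepQ 25597 Q25597 (allL N25597 (tt N25041 F191267) (tt N26488 (iv F195157)) (tt N24805 F191268) (tt N24533 F191269) (tt N25067 (iv F191273)) (tt N24531 (iv D41524)) (tt N24886 F191270) (tt N25148 F191271) (tt N24532 F191272) (tt N26559 D42486))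
theorem Q25599 : ∀ i, i < 25599 → P i := stepQ 25598 Q25598 (allL N25598 (tt N25151 F191274) (tt N26553 (iv F195561)) (tt N24806 F191275) (tt N24534 F191276) (tt N26558 (iv F195592)) (tt N26559 (iv F195600)) (tt N25075 F191277) (tt N26493 (iv F195197)) (tt N24570 F191278) (tt N24531 (iv D41525)))
theorem Q25600 : ∀ i, i < 25600 → P i := stepQ 25599 Q25599 (allL N25599 (tt N25152 F191279) (tt N26554 (iv F195566)) (tt N24542 F191280) (tt N26560 D42487) (tt N24533 (iv D41526)) (tt N26307 (iv F194001)) (tt N26561 D42488) (tt N26494 (iv F195204)) (tt N24535 F191281) (tt N26562 D42489))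
theorem Q25601 : ∀ i, i < 25601 → P i := stepQ 25600 Q25600 (allL N25600 (tt N25153 F191282) (tt N26555 (iv F195572)) (tt N24543 F191283) (tt N24886 F191284) (tt N26561 (iv F195613)) (tt N24885 F191285) (tt N24533 (iv D41527)) (tt N26563 D42490) (tt N24536 F191286) (tt N26564 D42491))
theorem Q25602 : ∀ i, i < 25602 → P i := stepQ 25601 Q25601 (allL N25601 (tt N25154 F191287) (tt N26556 (iv F195578)) (tt N24544 F191288) (tt N26559 (iv F195598)) (tt N26562 (iv F195617)) (tt N24534 F191289) (tt N26564 (iv F195629)) (tt N26496 (iv F195219)) (tt N26565 D42492) (tt N24533 (iv D41528)))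
theorem Q25603 : ∀ i, i < 25603 → P i := stepQ 25602 Q25602 (allL N25602 (tt N25068 F191290) (tt N25016 F191291) (tt N24758 (iv F191295)) (tt N24535 (iv D41529)) (tt N24752 F191292) (tt N24540 F191293) (tt N26566 D42493) (tt N24811 F191294) (tt N26560 (iv F195610)) (tt N24750 (iv F191296)))
theorem Q25604 : ∀ i, i < 25604 → P i := stepQ 25603 Q25603 (allL N25603 (tt N25155 F191297) (tt N26557 (iv F195582)) (tt N24546 F191298) (tt N26566 (iv F195639)) (tt N24536 F191299) (tt N25603 F191300) (tt N24535 (iv D41530)) (tt N26567 D42494) (tt N26561 (iv F195614)) (tt N26568 D42495))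
theorem Q25605 : ∀ i, i < 25605 → P i := stepQ 25604 Q25604 (allL N25604 (tt N25096 F191301) (tt N25013 F191302) (tt N24547 F191303) (tt N24750 F191304) (tt N24537 F191305) (tt N24541 F191306) (tt N26568 (iv F195658)) (tt N24810 F191307) (tt N26569 D42496) (tt N24535 (iv D41531)))
theorem Q25606 : ∀ i, i < 25606 → P i := stepQ 25605 Q25605 (allL N25605 (tt N24634 F191308) (tt N24697 F191309) (tt N24548 F191310) (tt N24618 F191311) (tt N26567 (iv F195648)) (tt N24538 F191312) (tt N24834 F191313) (tt N24536 (iv D41532)) (tt N26563 (iv F195624)) (tt N24833 (iv F191314)))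
theorem Q25607 : ∀ i, i < 25607 → P i := stepQ 25606 Q25606 (allL N25606 (tt N25078 F191315) (tt N24846 F191316) (tt N24549 F191317) (tt N24837 F191318) (tt N26568 (iv F195656)) (tt N24539 F191319) (tt N24537 F191320) (tt N24833 F191321) (tt N26570 D42497) (tt N24536 (iv D41533)))
theorem Q25608 : ∀ i, i < 25608 → P i := stepQ 25607 Q25607 (allL N25607 (tt N25097 F191322) (tt N26505 (iv F195278)) (tt N24550 F191323) (tt N25095 F191324) (tt N26569 (iv F195664)) (tt N24584 F191325) (tt N26570 (iv F195672)) (tt N25171 F191326) (tt N24537 (iv D41534)) (tt N26565 (iv F195635)))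
theorem Q25609 : ∀ i, i < 25609 → P i := stepQ 25608 Q25608 (allL N25608 (tt N25156 F191327) (tt N26333 (iv F194182)) (tt N26517 (iv F195358)) (tt N24542 (iv D41535)) (tt N24813 F191328) (tt N24769 F191329) (tt N26571 D42498) (tt N24839 F191330) (tt N24545 F191331) (tt N26572 D42499))
theorem Q25610 : ∀ i, i < 25610 → P i := stepQ 25609 Q25609 (allL N25609 (tt N25157 F191332) (tt N26334 (iv F194188)) (tt N26561 (iv F195612)) (tt N26571 (iv F195675)) (tt N24543 F191333) (tt N26573 D42500) (tt N24542 (iv D41536)) (tt N26574 D42501) (tt N24546 F191334) (tt N26575 D42502))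
theorem Q25611 : ∀ i, i < 25611 → P i := stepQ 25610 Q25610 (allL N25610 (tt N25158 F191335) (tt N26335 (iv F194192)) (tt N26562 (iv F195616)) (tt N26572 (iv F195679)) (tt N24544 F191336) (tt N26547 (iv F195528)) (tt N26575 (iv F195691)) (tt N26498 (iv F195233)) (tt N26576 D42503) (tt N24542 (iv D41537)))
theorem Q25612 : ∀ i, i < 25612 → P i := stepQ 25611 Q25611 (allL N25611 (tt N25159 F191337) (tt N26336 (iv F194197)) (tt N26563 (iv F195620)) (tt N24816 F191338) (tt N26574 (iv F195687)) (tt N24909 F191339) (tt N26499 (iv F195239)) (tt N24543 (iv D41538)) (tt N24548 F191340) (tt N26577 D42504))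
theorem Q25613 : ∀ i, i < 25613 → P i := stepQ 25612 Q25612 (allL N25612 (tt N25160 F191341) (tt N26337 (iv F194204)) (tt N26564 (iv F195626)) (tt N24817 F191342) (tt N26575 (iv F195690)) (tt N24919 F191343) (tt N24544 F191344) (tt N26577 (iv F195698)) (tt N26578 D42505) (tt N24543 (iv D41539)))
theorem Q25614 : ∀ i, i < 25614 → P i := stepQ 25613 Q25613 (allL N25613 (tt N25161 F191345) (tt N26338 (iv F194209)) (tt N26565 (iv F195631)) (tt N24818 F191346) (tt N26576 (iv F195693)) (tt N24592 F191347) (tt N26578 (iv F195701)) (tt N26501 (iv F195251)) (tt N24544 (iv D41540)) (tt N24550 F191348))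
theorem Q25615 : ∀ i, i < 25615 → P i := stepQ 25614 Q25614 (allL N25614 (tt N25162 F191349) (tt N26407 (iv F194642)) (tt N24545 (iv D41541)) (tt N24758 F191350) (tt N24819 F191351) (tt N24553 F191352) (tt N26579 D42506) (tt N24605 F191353) (tt N26517 (iv F195362)) (tt N24756 (iv F191354)))
theorem Q25616 : ∀ i, i < 25616 → P i := stepQ 25615 Q25615 (allL N25615 (tt N25163 F191355) (tt N26340 (iv F194219)) (tt N26579 (iv F195704)) (tt N24546 F191356) (tt N24820 F191357) (tt N25615 F191358) (tt N24545 (iv D41542)) (tt N26580 D42507) (tt N26571 (iv F195677)) (tt N26581 D42508))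
theorem Q25617 : ∀ i, i < 25617 → P i := stepQ 25616 Q25616 (allL N25616 (tt N25164 F191359) (tt N26341 (iv F194225)) (tt N24756 F191360) (tt N24547 F191361) (tt N24605 F191362) (tt N24554 F191363) (tt N26581 (iv F195720)) (tt N24819 F191364) (tt N26582 D42509) (tt N24545 (iv D41543)))
theorem Q25618 : ∀ i, i < 25618 → P i := stepQ 25617 Q25617 (allL N25617 (tt N25165 F191365) (tt N26342 (iv F194232)) (tt N26567 (iv F195646)) (tt N26580 (iv F195710)) (tt N24548 F191366) (tt N25617 F191367) (tt N26502 (iv F195259)) (tt N24546 (iv D41544)) (tt N26574 (iv F195688)) (tt N26583 D42510))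
theorem Q25619 : ∀ i, i < 25619 → P i := stepQ 25618 Q25618 (allL N25618 (tt N25166 F191368) (tt N26343 (iv F194239)) (tt N26568 (iv F195654)) (tt N26581 (iv F195717)) (tt N24549 F191369) (tt N25618 F191370) (tt N24547 F191371) (tt N26583 (iv F195733)) (tt N26584 D42511) (tt N24546 (iv D41545)))
theorem Q25620 : ∀ i, i < 25620 → P i := stepQ 25619 Q25619 (allL N25619 (tt N25167 F191372) (tt N26344 (iv F194247)) (tt N26569 (iv F195662)) (tt N26582 (iv F195723)) (tt N24550 F191373) (tt N26585 D42512) (tt N26584 (iv F195736)) (tt N26503 (iv F195268)) (tt N24547 (iv D41546)) (tt N26576 (iv F195694)))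
theorem Q25621 : ∀ i, i < 25621 → P i := stepQ 25620 Q25620 (allL N25620 (tt N25168 F191374) (tt N25082 F191375) (tt N24833 F191376) (tt N24824 F191377) (tt N26583 (iv F195730)) (tt N24551 F191378) (tt N24828 F191379) (tt N24549 F191380) (tt N26586 D42513) (tt N24548 (iv D41547)))
theorem Q25622 : ∀ i, i < 25622 → P i := stepQ 25621 Q25621 (allL N25621 (tt N25169 F191381) (tt N26345 (iv F194251)) (tt N26570 (iv F195669)) (tt N24825 F191382) (tt N26584 (iv F195735)) (tt N26587 D42514) (tt N24550 F191383) (tt N26586 (iv F195749)) (tt N24549 (iv D41548)) (tt N26578 (iv F195702)))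
theorem Q25623 : ∀ i, i < 25623 → P i := stepQ 25622 Q25622 (allL N25622 (tt N24833 F191384) (tt N24625 F191385) (tt N25168 F191386) (tt N24624 F191387) (tt N26588 D42515) (tt N24552 (iv D41549)) (tt N24597 F191388) (tt N25078 F191389) (tt N26587 (iv F195756)) (tt N24634 F191390))
theorem Q25624 : ∀ i, i < 25624 → P i := stepQ 25623 Q25623 (allL N25623 (tt N25170 F191391) (tt N26348 (iv F194272)) (tt N24964 F191392) (tt N24571 F191393) (tt N24579 F191394) (tt N24555 (iv D41550)) (tt N26589 D42516) (tt N24996 F191395) (tt N26585 (iv F195742)) (tt N25028 F191396))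
theorem Q25625 : ∀ i, i < 25625 → P i := stepQ 25624 Q25624 (allL N25624 (tt N24561 F191397) (tt N25171 F191398) (tt N26519 (iv F195369)) (tt N24557 F191399) (tt N25004 F191400) (tt N26516 (iv F195354)) (tt N24770 F191401) (tt N26505 (iv F195284)) (tt N24556 (iv D41551)) (tt N26590 D42517))
theorem Q25626 : ∀ i, i < 25626 → P i := stepQ 25625 Q25625 (allL N25625 (tt N24563 F191402) (tt N25172 F191403) (tt N24732 F191404) (tt N26516 (iv F195353)) (tt N25197 F191405) (tt N24557 (iv D41552)) (tt N24724 F191406) (tt N26506 (iv F195291)) (tt N24558 F191407) (tt N26591 D42518))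
theorem Q25627 : ∀ i, i < 25627 → P i := stepQ 25626 Q25626 (allL N25626 (tt N24564 F191408) (tt N25173 F191409) (tt N24779 F191410) (tt N26590 (iv F195774)) (tt N24897 F191411) (tt N26591 (iv F195781)) (tt N24773 F191412) (tt N26507 (iv F195298)) (tt N26552 (iv F195560)) (tt N24557 (iv D41553)))
theorem Q25628 : ∀ i, i < 25628 → P i := stepQ 25627 Q25627 (allL N25627 (tt N26519 (iv F195367)) (tt N24827 F191413) (tt N24561 F191414) (tt N25105 F191415) (tt N26386 (iv F194513)) (tt N26592 D42519) (tt N25102 F191416) (tt N26508 (iv F195305)) (tt N24559 (iv D41554)) (tt N26593 D42520))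
theorem Q25629 : ∀ i, i < 25629 → P i := stepQ 25628 Q25628 (allL N25628 (tt N25255 F191417) (tt N24828 F191418) (tt N24562 F191419) (tt N25086 F191420) (tt N26594 D42521) (tt N24560 (iv D41555)) (tt N25082 F191421) (tt N24738 F191422) (tt N26592 (iv F195789)) (tt N24737 F191423))
theorem Q25630 : ∀ i, i < 25630 → P i := stepQ 25629 Q25629 (allL N25629 (tt N26516 (iv F195350)) (tt N24569 F191424) (tt N26592 (iv F195785)) (tt N24563 F191425) (tt N26595 D42522) (tt N24561 (iv D41556)) (tt N25231 F191426) (tt N26509 (iv F195311)) (tt N24562 F191427) (tt N26596 D42523))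
theorem Q25631 : ∀ i, i < 25631 → P i := stepQ 25630 Q25630 (allL N25630 (tt N26590 (iv F195772)) (tt N24570 F191428) (tt N26593 (iv F195791)) (tt N24564 F191429) (tt N26390 (iv F194536)) (tt N26596 (iv F195808)) (tt N25282 F191430) (tt N26510 (iv F195317)) (tt N26553 (iv F195565)) (tt N24561 (iv D41557)))
theorem Q25632 : ∀ i, i < 25632 → P i := stepQ 25631 Q25631 (allL N25631 (tt N26515 (iv F195342)) (tt N24571 F191431) (tt N26594 (iv F195797)) (tt N26348 (iv F194273)) (tt N24562 (iv D41558)) (tt N24604 F191432) (tt N25233 F191433) (tt N25011 F191434) (tt N26595 (iv F195805)) (tt N25204 F191435))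
theorem Q25633 : ∀ i, i < 25633 → P i := stepQ 25632 Q25632 (allL N25632 (tt N25197 F191436) (tt N24576 F191437) (tt N25244 F191438) (tt N26461 (iv F194997)) (tt N24563 (iv D41559)) (tt N24588 F191439) (tt N25235 F191440) (tt N26511 (iv F195322)) (tt N24565 F191441) (tt N26597 D42524))
theorem Q25634 : ∀ i, i < 25634 → P i := stepQ 25633 Q25633 (allL N25633 (tt N26591 (iv F195777)) (tt N24578 F191442) (tt N25247 F191443) (tt N26596 (iv F195807)) (tt N26597 (iv F195813)) (tt N24564 F191444) (tt N25236 F191445) (tt N26513 (iv F195334)) (tt N26598 D42525) (tt N24563 (iv D41560)))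
theorem Q25635 : ∀ i, i < 25635 → P i := stepQ 25634 Q25634 (allL N25634 (tt N25011 F191446) (tt N24581 F191447) (tt N25253 F191448) (tt N25259 F191449) (tt N24566 F191450) (tt N24567 F191451) (tt N25238 F191452) (tt N26515 (iv F195349)) (tt N26599 D42526) (tt N24565 (iv D41561)))
theorem Q25636 : ∀ i, i < 25636 → P i := stepQ 25635 Q25635 (allL N25635 (tt N26509 (iv F195306)) (tt N24584 F191453) (tt N25256 F191454) (tt N26506 (iv F195288)) (tt N26599 (iv F195824)) (tt N26505 (iv F195282)) (tt N25239 F191455) (tt N26516 (iv F195356)) (tt N24566 (iv D41562)) (tt N26598 (iv F195819)))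
theorem Q25637 : ∀ i, i < 25637 → P i := stepQ 25636 Q25636 (allL N25636 (tt N25180 F191456) (tt N26388 (iv F194523)) (tt N24839 F191457) (tt N24823 F191458) (tt N26582 (iv F195724)) (tt N24568 (iv D41563)) (tt N26600 D42527) (tt N26517 (iv F195361)) (tt N24605 F191459) (tt N26601 D42528))
theorem Q25638 : ∀ i, i < 25638 → P i := stepQ 25637 Q25637 (allL N25637 (tt N25181 F191460) (tt N26390 (iv F194534)) (tt N24840 F191461) (tt N26316 (iv F194070)) (tt N24570 F191462) (tt N26601 (iv F195836)) (tt N26301 (iv F193954)) (tt N26518 (iv F195366)) (tt N26558 (iv F195595)) (tt N24568 (iv D41564)))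
theorem Q25639 : ∀ i, i < 25639 → P i := stepQ 25638 Q25638 (allL N25638 (tt N25182 F191463) (tt N26595 (iv F195802)) (tt N24841 F191464) (tt N26585 (iv F195739)) (tt N24569 (iv D41565)) (tt N26582 (iv F195725)) (tt N26602 D42529) (tt N25003 F191465) (tt N24571 F191466) (tt N26603 D42530))
theorem Q25640 : ∀ i, i < 25640 → P i := stepQ 25639 Q25639 (allL N25639 (tt N25183 F191467) (tt N25231 F191468) (tt N24842 F191469) (tt N24577 F191470) (tt N26602 (iv F195841)) (tt N25228 F191471) (tt N24569 (iv D41566)) (tt N26604 D42531) (tt N24572 F191472) (tt N26605 D42532))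
theorem Q25641 : ∀ i, i < 25641 → P i := stepQ 25640 Q25640 (allL N25640 (tt N25184 F191473) (tt N26596 (iv F195806)) (tt N24843 F191474) (tt N24578 F191475) (tt N26603 (iv F195845)) (tt N24570 F191476) (tt N26605 (iv F195859)) (tt N26520 (iv F195380)) (tt N26606 D42533) (tt N24569 (iv D41567)))
theorem Q25642 : ∀ i, i < 25642 → P i := stepQ 25641 Q25641 (allL N25641 (tt N25185 F191477) (tt N25233 F191478) (tt N24844 F191479) (tt N26589 (iv F195768)) (tt N24572 F191480) (tt N25641 F191481) (tt N24571 (iv D41568)) (tt N26607 D42534) (tt N26602 (iv F195842)) (tt N26608 D42535))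
theorem Q25643 : ∀ i, i < 25643 → P i := stepQ 25642 Q25642 (allL N25642 (tt N25100 F191482) (tt N25204 F191483) (tt N24845 F191484) (tt N25028 F191485) (tt N24573 F191486) (tt N24606 F191487) (tt N26608 (iv F195879)) (tt N24856 F191488) (tt N26609 D42536) (tt N24571 (iv D41569)))
theorem Q25644 : ∀ i, i < 25644 → P i := stepQ 25643 Q25643 (allL N25643 (tt N25186 F191489) (tt N24930 F191490) (tt N24846 F191491) (tt N24582 F191492) (tt N26607 (iv F195869)) (tt N24574 F191493) (tt N25257 F191494) (tt N24572 (iv D41570)) (tt N26604 (iv F195853)) (tt N25279 (iv F191495)))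
theorem Q25645 : ∀ i, i < 25645 → P i := stepQ 25644 Q25644 (allL N25644 (tt N24699 F191496) (tt N25234 F191497) (tt N24697 F191498) (tt N24583 F191499) (tt N26608 (iv F195877)) (tt N24575 F191500) (tt N24573 F191501) (tt N25279 F191502) (tt N26610 D42537) (tt N24572 (iv D41571)))
theorem Q25646 : ∀ i, i < 25646 → P i := stepQ 25645 Q25645 (allL N25645 (tt N25098 F191503) (tt N26506 (iv F195286)) (tt N24847 F191504) (tt N24584 F191505) (tt N26609 (iv F195885)) (tt N25095 F191506) (tt N26610 (iv F195893)) (tt N25172 F191507) (tt N24573 (iv D41572)) (tt N26606 (iv F195865)))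
theorem Q25647 : ∀ i, i < 25647 → P i := stepQ 25646 Q25646 (allL N25646 (tt N25187 F191508) (tt N26461 (iv F194996)) (tt N26551 (iv F195550)) (tt N24576 (iv D41573)) (tt N26585 (iv F195740)) (tt N24594 F191509) (tt N26611 D42538) (tt N26521 (iv F195386)) (tt N24579 F191510) (tt N26612 D42539))
theorem Q25648 : ∀ i, i < 25648 → P i := stepQ 25647 Q25647 (allL N25647 (tt N25188 F191511) (tt N25235 F191512) (tt N24588 F191513) (tt N26611 (iv F195897)) (tt N24577 F191514) (tt N25244 F191515) (tt N24576 (iv D41574)) (tt N26613 D42540) (tt N24580 F191516) (tt N26614 D42541))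
theorem Q25649 : ∀ i, i < 25649 → P i := stepQ 25648 Q25648 (allL N25648 (tt N25189 F191517) (tt N26597 (iv F195811)) (tt N24589 F191518) (tt N26612 (iv F195901)) (tt N24578 F191519) (tt N26458 (iv F194979)) (tt N26614 (iv F195914)) (tt N26523 (iv F195395)) (tt N26615 D42542) (tt N24576 (iv D41575)))
theorem Q25650 : ∀ i, i < 25650 → P i := stepQ 25649 Q25649 (allL N25649 (tt N25190 F191520) (tt N24931 F191521) (tt N24590 F191522) (tt N26604 (iv F195850)) (tt N26613 (iv F195906)) (tt N24927 F191523) (tt N26524 (iv F195401)) (tt N24577 (iv D41576)) (tt N24582 F191524) (tt N26616 D42543))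
theorem Q25651 : ∀ i, i < 25651 → P i := stepQ 25650 Q25650 (allL N25650 (tt N25191 F191525) (tt N25236 F191526) (tt N24591 F191527) (tt N26605 (iv F195857)) (tt N26614 (iv F195912)) (tt N25229 F191528) (tt N24578 F191529) (tt N26616 (iv F195923)) (tt N26617 D42544) (tt N24577 (iv D41577)))
theorem Q25652 : ∀ i, i < 25652 → P i := stepQ 25651 Q25651 (allL N25651 (tt N25192 F191530) (tt N26598 (iv F195816)) (tt N24592 F191531) (tt N26606 (iv F195862)) (tt N26615 (iv F195917)) (tt N26565 (iv F195633)) (tt N26617 (iv F195927)) (tt N26526 (iv F195410)) (tt N24578 (iv D41578)) (tt N24584 F191532))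
theorem Q25653 : ∀ i, i < 25653 → P i := stepQ 25652 Q25652 (allL N25652 (tt N25193 F191533) (tt N25237 F191534) (tt N26452 (iv F194938)) (tt N24580 F191535) (tt N26589 (iv F195769)) (tt N24598 F191536) (tt N24579 (iv D41579)) (tt N26618 D42545) (tt N26611 (iv F195899)) (tt N26451 F194935))
theorem Q25654 : ∀ i, i < 25654 → P i := stepQ 25653 Q25653 (allL N25653 (tt N25194 F191537) (tt N24933 F191538) (tt N24593 F191539) (tt N26618 (iv F195931)) (tt N24582 F191540) (tt N24599 F191541) (tt N26528 (iv F195423)) (tt N24580 (iv D41580)) (tt N26613 (iv F195908)) (tt N26436 (iv F194839)))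
theorem Q25655 : ∀ i, i < 25655 → P i := stepQ 25654 Q25654 (allL N25654 (tt N25195 F191542) (tt N26599 (iv F195821)) (tt N24594 F191543) (tt N26548 (iv F195532)) (tt N24584 F191544) (tt N26551 (iv F195553)) (tt N26455 (iv F194958)) (tt N26530 (iv F195438)) (tt N24581 (iv D41581)) (tt N26615 (iv F195918)))
theorem Q25656 : ∀ i, i < 25656 → P i := stepQ 25655 Q25655 (allL N25655 (tt N24762 F191545) (tt N24935 F191546) (tt N24595 F191547) (tt N25279 F191548) (tt N26436 (iv F194836)) (tt N24585 F191549) (tt N25124 F191550) (tt N24583 F191551) (tt N26619 D42546) (tt N24582 (iv D41582)))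
theorem Q25657 : ∀ i, i < 25657 → P i := stepQ 25656 Q25656 (allL N25656 (tt N24827 F191552) (tt N25239 F191553) (tt N24596 F191554) (tt N26610 (iv F195891)) (tt N26455 (iv F194956)) (tt N26620 D42547) (tt N24584 F191555) (tt N26619 (iv F195939)) (tt N24583 (iv D41583)) (tt N26617 (iv F195928)))
theorem Q25658 : ∀ i, i < 25658 → P i := stepQ 25657 Q25657 (allL N25657 (tt N24828 F191556) (tt N24951 F191557) (tt N24597 F191558) (tt N25277 F191559) (tt N26621 D42548) (tt N24586 (iv D41584)) (tt N25168 F191560) (tt N24890 F191561) (tt N26620 (iv F195946)) (tt N25052 F191562))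
theorem Q25659 : ∀ i, i < 25659 → P i := stepQ 25658 Q25658 (allL N25658 (tt N25196 F191563) (tt N26456 (iv F194961)) (tt N26550 (iv F195544)) (tt N24589 F191564) (tt N24852 F191565) (tt N26549 (iv F195541)) (tt N26459 (iv F194986)) (tt N26533 (iv F195455)) (tt N26458 (iv F194981)) (tt N24587 (iv D41585)))
theorem Q25660 : ∀ i, i < 25660 → P i := stepQ 25659 Q25659 (allL N25659 (tt N25198 F191566) (tt N26457 (iv F194968)) (tt N26613 (iv F195905)) (tt N26440 (iv F194867)) (tt N24590 F191567) (tt N26511 (iv F195321)) (tt N26535 (iv F195460)) (tt N24588 (iv D41586)) (tt N24593 F191568) (tt N26622 D42549))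
theorem Q25661 : ∀ i, i < 25661 → P i := stepQ 25660 Q25660 (allL N25660 (tt N25199 F191569) (tt N26458 (iv F194975)) (tt N26614 (iv F195911)) (tt N26459 (iv F194984)) (tt N24591 F191570) (tt N26597 (iv F195814)) (tt N24589 F191571) (tt N26622 (iv F195957)) (tt N26456 (iv F194966)) (tt N24588 (iv D41587)))
theorem Q25662 : ∀ i, i < 25662 → P i := stepQ 25661 Q25661 (allL N25661 (tt N25200 F191572) (tt N26459 (iv F194983)) (tt N26615 (iv F195916)) (tt N26458 (iv F194977)) (tt N24592 F191573) (tt N26612 (iv F195902)) (tt N26456 (iv F194965)) (tt N26537 (iv F195467)) (tt N24589 (iv D41588)) (tt N24594 F191574))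
theorem Q25663 : ∀ i, i < 25663 → P i := stepQ 25662 Q25662 (allL N25662 (tt N25201 F191575) (tt N26460 (iv F194989)) (tt N26616 (iv F195921)) (tt N24853 F191576) (tt N26622 (iv F195956)) (tt N26302 (iv F193962)) (tt N26538 (iv F195471)) (tt N24591 F191577) (tt N26623 D42550) (tt N24590 (iv D41589)))
theorem Q25664 : ∀ i, i < 25664 → P i := stepQ 25663 Q25663 (allL N25663 (tt N24831 F191578) (tt N24852 F191579) (tt N26617 (iv F195926)) (tt N24713 F191580) (tt N26456 (iv F194963)) (tt N26624 D42551) (tt N24592 F191581) (tt N26623 (iv F195961)) (tt N24591 (iv D41590)) (tt N24596 F191582))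
theorem Q25665 : ∀ i, i < 25665 → P i := stepQ 25664 Q25664 (allL N25664 (tt N24764 F191583) (tt N24775 F191584) (tt N26619 (iv F195935)) (tt N24658 F191585) (tt N26430 (iv F194803)) (tt N24892 F191586) (tt N26541 (iv F195485)) (tt N24596 F191587) (tt N24595 (iv D41591)) (tt N26623 (iv F195962)))
theorem Q25666 : ∀ i, i < 25666 → P i := stepQ 25665 Q25665 (allL N25665 (tt N24830 F191588) (tt N24800 F191589) (tt N26620 (iv F195942)) (tt N24677 F191590) (tt N26625 D42552) (tt N24596 (iv D41592)) (tt N26587 (iv F195754)) (tt N24892 F191591) (tt N24597 F191592) (tt N26624 (iv F195968)))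
theorem Q25667 : ∀ i, i < 25667 → P i := stepQ 25666 Q25666 (allL N25666 (tt N24832 F191593) (tt N24794 F191594) (tt N26621 (iv F195949)) (tt N24670 F191595) (tt N24597 (iv D41593)) (tt N24601 F191596) (tt N26588 (iv F195762)) (tt N24891 F191597) (tt N26625 (iv F195974)) (tt N26305 (iv F193988)))
theorem Q25668 : ∀ i, i < 25668 → P i := stepQ 25667 Q25667 (allL N25667 (tt N25203 F191598) (tt N24936 F191599) (tt N26428 (iv F194787)) (tt N24599 F191600) (tt N25667 F191601) (tt N26618 (iv F195932)) (tt N25667 F191602) (tt N24598 (iv D41594)) (tt N25324 F191603) (tt N26427 F194784))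
theorem Q25669 : ∀ i, i < 25669 → P i := stepQ 25668 Q25668 (allL N25668 (tt N24858 F191604) (tt N25025 F191605) (tt N24601 F191606) (tt N25317 (iv F191611)) (tt N24600 (iv D41595)) (tt N26621 (iv F195950)) (tt N25668 F191607) (tt N24900 F191608) (tt N25094 F191609) (tt N25077 F191610))
theorem Q25670 : ∀ i, i < 25670 → P i := stepQ 25669 Q25669 (allL N25669 (tt N25326 F191612) (tt N24858 F191613) (tt N24604 F191614) (tt N26626 D42553) (tt N24603 (iv D41596)) (tt N26594 (iv F195798)) (tt N25669 F191615) (tt N24880 F191616) (tt N26347 (iv F194270)) (tt N24879 F191617))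
theorem Q25671 : ∀ i, i < 25671 → P i := stepQ 25670 Q25670 (allL N25670 (tt N25205 F191618) (tt N25320 F191619) (tt N24861 F191620) (tt N24822 F191621) (tt N26581 (iv F195718)) (tt N24607 F191622) (tt N24605 (iv D41597)) (tt N26627 D42554) (tt N26600 (iv F195832)) (tt N24820 F191623))
theorem Q25672 : ∀ i, i < 25672 → P i := stepQ 25671 Q25671 (allL N25671 (tt N25206 F191624) (tt N25087 F191625) (tt N24868 F191626) (tt N24876 F191627) (tt N25671 F191628) (tt N26627 (iv F195985)) (tt N25671 F191629) (tt N24607 (iv D41598)) (tt N25319 F191630) (tt N24875 F191631))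
theorem Q25673 : ∀ i, i < 25673 → P i := stepQ 25672 Q25672 (allL N25672 (tt N24886 F191632) (tt N24610 F191633) (tt N24643 F191634) (tt N25153 F191635) (tt N24883 F191636) (tt N24642 F191637) (tt N25041 F191638) (tt N24635 F191639) (tt N24608 (iv D41599)) (tt N26628 D42555))
theorem Q25674 : ∀ i, i < 25674 → P i := stepQ 25673 Q25673 (allL N25673 (tt N24651 F191640) (tt N25155 F191641) (tt N25221 F191642) (tt N24884 F191643) (tt N24609 (iv D41600)) (tt N25673 F191644) (tt N25042 F191645) (tt N24636 F191646) (tt N26629 D42556) (tt N25080 F191647))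
theorem Q25675 : ∀ i, i < 25675 → P i := stepQ 25674 Q25674 (allL N25674 (tt N24652 F191648) (tt N25153 F191649) (tt N25222 F191650) (tt N24610 F191651) (tt N26629 (iv F196000)) (tt N26366 (iv F194392)) (tt N25043 F191652) (tt N24637 F191653) (tt N24609 (iv D41601)) (tt N26630 D42557))
theorem Q25676 : ∀ i, i < 25676 → P i := stepQ 25675 Q25675 (allL N25675 (tt N24654 F191654) (tt N24642 F191655) (tt N24612 F191656) (tt N26366 (iv F194391)) (tt N24649 (iv F191659)) (tt N24610 (iv D41602)) (tt N25035 (iv F191660)) (tt N24638 F191657) (tt N24611 F191658) (tt N26631 D42558))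
theorem Q25677 : ∀ i, i < 25677 → P i := stepQ 25676 Q25676 (allL N25676 (tt N24655 F191661) (tt N26628 (iv F195988)) (tt N24613 F191662) (tt N26630 (iv F196006)) (tt N24887 F191663) (tt N26631 (iv F196014)) (tt N25045 F191664) (tt N24639 F191665) (tt N25084 F191666) (tt N24610 (iv D41603)))
theorem Q25678 : ∀ i, i < 25678 → P i := stepQ 25677 Q25677 (allL N25677 (tt N24660 F191667) (tt N24743 F191668) (tt N26631 (iv F196012)) (tt N25226 F191669) (tt N24767 F191670) (tt N24613 F191671) (tt N26412 (iv F194679)) (tt N24640 F191672) (tt N24955 F191673) (tt N24612 (iv D41604)))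
theorem Q25679 : ∀ i, i < 25679 → P i := stepQ 25678 Q25678 (allL N25678 (tt N24703 F191674) (tt N24616 F191675) (tt N25277 F191676) (tt N24615 F191677) (tt N26632 D42559) (tt N24614 (iv D41605)) (tt N24672 F191678) (tt N24882 F191679) (tt N26633 D42560) (tt N24671 F191680))
theorem Q25680 : ∀ i, i < 25680 → P i := stepQ 25679 Q25679 (allL N25679 (tt N24704 F191681) (tt N24617 F191682) (tt N24677 F191683) (tt N26633 (iv F196029)) (tt N24635 F191684) (tt N24698 F191685) (tt N24680 F191686) (tt N24883 F191687) (tt N24615 (iv D41606)) (tt N26634 D42561))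
theorem Q25681 : ∀ i, i < 25681 → P i := stepQ 25680 Q25680 (allL N25680 (tt N24674 F191688) (tt N26632 (iv F196019)) (tt N24908 F191689) (tt N24636 F191690) (tt N24616 (iv D41607)) (tt N25680 F191691) (tt N24796 F191692) (tt N24884 F191693) (tt N26635 D42562) (tt N24795 F191694))
theorem Q25682 : ∀ i, i < 25682 → P i := stepQ 25681 Q25681 (allL N25681 (tt N24675 F191695) (tt N26633 (iv F196027)) (tt N24909 F191696) (tt N24617 F191697) (tt N26635 (iv F196044)) (tt N26563 (iv F195622)) (tt N24797 F191698) (tt N24885 F191699) (tt N24616 (iv D41608)) (tt N26636 D42563))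
theorem Q25683 : ∀ i, i < 25683 → P i := stepQ 25682 Q25682 (allL N25682 (tt N24635 F191700) (tt N24698 F191701) (tt N24619 F191702) (tt N26563 (iv F195621)) (tt N24704 F191703) (tt N24617 (iv D41609)) (tt N24838 F191704) (tt N24886 F191705) (tt N24618 F191706) (tt N26637 D42564))
theorem Q25684 : ∀ i, i < 25684 → P i := stepQ 25683 Q25683 (allL N25683 (tt N24676 F191707) (tt N26634 (iv F196034)) (tt N24620 F191708) (tt N26636 (iv F196049)) (tt N24639 F191709) (tt N26637 (iv F196057)) (tt N24803 F191710) (tt N24887 F191711) (tt N24802 F191712) (tt N24617 (iv D41610)))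
theorem Q25685 : ∀ i, i < 25685 → P i := stepQ 25684 Q25684 (allL N25684 (tt N24678 F191713) (tt N24712 F191714) (tt N24838 F191715) (tt N24912 F191716) (tt N24835 F191717) (tt N25002 F191718) (tt N24619 (iv D41611)) (tt N26638 D42565) (tt N24621 F191719) (tt N26639 D42566))
theorem Q25686 : ∀ i, i < 25686 → P i := stepQ 25685 Q25685 (allL N25685 (tt N24679 F191720) (tt N24848 F191721) (tt N26637 (iv F196055)) (tt N24913 F191722) (tt N24836 F191723) (tt N24620 F191724) (tt N26639 (iv F196075)) (tt N24888 F191725) (tt N26640 D42567) (tt N24619 (iv D41612)))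
theorem Q25687 : ∀ i, i < 25687 → P i := stepQ 25686 Q25686 (allL N25686 (tt N24665 F191726) (tt N24657 F191727) (tt N24768 F191728) (tt N24751 F191729) (tt N24837 F191730) (tt N24623 F191731) (tt N24747 F191732) (tt N24621 (iv D41613)) (tt N26638 (iv F196068)) (tt N24650 F191733))
theorem Q25688 : ∀ i, i < 25688 → P i := stepQ 25687 Q25687 (allL N25687 (tt N24680 F191734) (tt N24710 F191735) (tt N24835 F191736) (tt N24916 F191737) (tt N24838 F191738) (tt N24906 F191739) (tt N24704 F191740) (tt N24889 F191741) (tt N24622 (iv D41614)) (tt N26640 (iv F196085)))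
theorem Q25689 : ∀ i, i < 25689 → P i := stepQ 25688 Q25688 (allL N25688 (tt N24835 F191742) (tt N24626 F191743) (tt N24680 F191744) (tt N26587 (iv F195753)) (tt N24678 F191745) (tt N24825 F191746) (tt N24677 F191747) (tt N25079 F191748) (tt N24624 (iv D41615)) (tt N26641 D42568))
theorem Q25690 : ∀ i, i < 25690 → P i := stepQ 25689 Q25689 (allL N25689 (tt N24681 F191749) (tt N26588 (iv F195758)) (tt N24928 F191750) (tt N24795 F191751) (tt N24625 (iv D41616)) (tt N25689 F191752) (tt N24794 F191753) (tt N25080 F191754) (tt N26642 D42569) (tt N24636 F191755))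
theorem Q25691 : ∀ i, i < 25691 → P i := stepQ 25690 Q25690 (allL N25690 (tt N24682 F191756) (tt N26587 (iv F195751)) (tt N24929 F191757) (tt N24626 F191758) (tt N26642 (iv F196097)) (tt N26345 (iv F194254)) (tt N24800 F191759) (tt N25081 F191760) (tt N24625 (iv D41617)) (tt N26643 D42570))
theorem Q25692 : ∀ i, i < 25692 → P i := stepQ 25691 Q25691 (allL N25691 (tt N24684 F191761) (tt N24825 F191762) (tt N24628 F191763) (tt N26345 (iv F194253)) (tt N25295 F191764) (tt N24626 (iv D41618)) (tt N24694 F191765) (tt N25083 F191766) (tt N24627 F191767) (tt N26644 D42571))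
theorem Q25693 : ∀ i, i < 25693 → P i := stepQ 25692 Q25692 (allL N25692 (tt N24685 F191768) (tt N26641 (iv F196087)) (tt N24629 F191769) (tt N26643 (iv F196102)) (tt N24802 F191770) (tt N26644 (iv F196110)) (tt N24801 F191771) (tt N25084 F191772) (tt N24639 F191773) (tt N24626 (iv D41619)))
theorem Q25694 : ∀ i, i < 25694 → P i := stepQ 25693 Q25693 (allL N25693 (tt N24688 F191774) (tt N25000 F191775) (tt N25295 F191776) (tt N26645 D42572) (tt N24628 (iv D41620)) (tt N24903 F191777) (tt N26380 (iv F194479)) (tt N25088 F191778) (tt N24630 F191779) (tt N26646 D42573))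
theorem Q25695 : ∀ i, i < 25695 → P i := stepQ 25694 Q25694 (allL N25694 (tt N24689 F191780) (tt N25002 F191781) (tt N24694 F191782) (tt N24940 F191783) (tt N26380 (iv F194478)) (tt N24712 F191784) (tt N24628 (iv D41621)) (tt N26471 (iv F195063)) (tt N24631 F191785) (tt N26647 D42574))
theorem Q25696 : ∀ i, i < 25696 → P i := stepQ 25695 Q25695 (allL N25695 (tt N24690 F191786) (tt N24995 F191787) (tt N26644 (iv F196108)) (tt N24941 F191788) (tt N26646 (iv F196123)) (tt N24629 F191789) (tt N26647 (iv F196132)) (tt N25090 F191790) (tt N24979 F191791) (tt N24628 (iv D41622)))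
theorem Q25697 : ∀ i, i < 25697 → P i := stepQ 25696 Q25696 (allL N25696 (tt N24691 F191792) (tt N24901 F191793) (tt N26648 D42575) (tt N24630 (iv D41623)) (tt N24942 F191794) (tt N24632 F191795) (tt N26402 (iv F194612)) (tt N25091 F191796) (tt N26645 (iv F196119)) (tt N24980 F191797))
theorem Q25698 : ∀ i, i < 25698 → P i := stepQ 25697 Q25697 (allL N25697 (tt N24695 F191798) (tt N25030 F191799) (tt N24632 (iv D41624)) (tt N25318 F191800) (tt N24633 F191801) (tt N26648 (iv F196138)) (tt N24871 F191802) (tt N25094 F191803) (tt N24900 F191804) (tt N24981 F191805))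
theorem Q25699 : ∀ i, i < 25699 → P i := stepQ 25698 Q25698 (allL N25698 (tt N26567 (iv F195644)) (tt N24636 F191806) (tt N25165 F191807) (tt N26632 (iv F196021)) (tt N24634 (iv D41625)) (tt N25698 F191808) (tt N26305 (iv F193986)) (tt N25155 F191809) (tt N26649 D42576) (tt N26588 (iv F195764)))
theorem Q25700 : ∀ i, i < 25700 → P i := stepQ 25699 Q25699 (allL N25699 (tt N26563 (iv F195618)) (tt N24637 F191810) (tt N25159 F191811) (tt N24635 F191812) (tt N26649 (iv F196143)) (tt N24675 F191813) (tt N26304 (iv F193978)) (tt N25153 F191814) (tt N24634 (iv D41626)) (tt N26650 D42577))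
theorem Q25701 : ∀ i, i < 25701 → P i := stepQ 25700 Q25700 (allL N25700 (tt N26637 (iv F196053)) (tt N24639 F191815) (tt N24679 F191816) (tt N26650 (iv F196147)) (tt N26634 (iv F196036)) (tt N24676 F191817) (tt N26306 (iv F193994)) (tt N26628 (iv F195994)) (tt N26641 (iv F196093)) (tt N24635 (iv D41627)))
theorem Q25702 : ∀ i, i < 25702 → P i := stepQ 25701 Q25701 (allL N25701 (tt N24706 F191818) (tt N26649 (iv F196141)) (tt N26413 (iv F194684)) (tt N26635 (iv F196043)) (tt N24637 F191819) (tt N26651 D42578) (tt N26307 (iv F194002)) (tt N26629 (iv F196002)) (tt N24636 (iv D41628)) (tt N26652 D42579))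
theorem Q25703 : ∀ i, i < 25703 → P i := stepQ 25702 Q25702 (allL N25702 (tt N24708 F191820) (tt N26650 (iv F196145)) (tt N26414 (iv F194691)) (tt N24639 F191821) (tt N26652 (iv F196153)) (tt N26363 F194373) (tt N26308 (iv F194008)) (tt N26630 (iv F196008)) (tt N26643 (iv F196105)) (tt N24637 (iv D41629)))
theorem Q25704 : ∀ i, i < 25704 → P i := stepQ 25703 Q25703 (allL N25703 (tt N24711 F191822) (tt N24676 F191823) (tt N24640 F191824) (tt N26363 (iv F194370)) (tt N24705 F191825) (tt N24639 F191826) (tt N25209 F191827) (tt N26631 (iv F196016)) (tt N24917 F191828) (tt N24638 (iv D41630)))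
theorem Q25705 : ∀ i, i < 25705 → P i := stepQ 25704 Q25704 (allL N25704 (tt N24884 F191829) (tt N26364 (iv F194375)) (tt N24795 F191830) (tt N24651 F191831) (tt N24641 (iv D41631)) (tt N25704 F191832) (tt N24790 F191833) (tt N24674 F191834) (tt N26653 D42580) (tt N24908 F191835))
theorem Q25706 : ∀ i, i < 25706 → P i := stepQ 25705 Q25705 (allL N25705 (tt N24885 F191836) (tt N26366 (iv F194389)) (tt N24792 F191837) (tt N24642 F191838) (tt N26653 (iv F196157)) (tt N25153 F191839) (tt N24788 F191840) (tt N24675 F191841) (tt N24641 (iv D41632)) (tt N26654 D42581))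
theorem Q25707 : ∀ i, i < 25707 → P i := stepQ 25706 Q25706 (allL N25706 (tt N24887 F191842) (tt N26631 (iv F196011)) (tt N24644 F191843) (tt N26654 (iv F196162)) (tt N24655 F191844) (tt N26628 (iv F195992)) (tt N25036 F191845) (tt N24676 F191846) (tt N24910 F191847) (tt N24642 (iv D41633)))
theorem Q25708 : ∀ i, i < 25708 → P i := stepQ 25707 Q25707 (allL N25707 (tt N24888 F191848) (tt N24744 F191849) (tt N26628 (iv F195989)) (tt N24904 F191850) (tt N24893 F191851) (tt N24644 F191852) (tt N25132 F191853) (tt N24679 F191854) (tt N26544 (iv F195509)) (tt N24643 (iv D41634)))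
theorem Q25709 : ∀ i, i < 25709 → P i := stepQ 25708 Q25708 (allL N25708 (tt N24649 F191855) (tt N24886 F191856) (tt N24658 F191857) (tt N26555 (iv F195574)) (tt N24654 F191858) (tt N24883 F191859) (tt N26488 (iv F195162)) (tt N24698 F191860) (tt N24645 (iv D41635)) (tt N26655 D42582))
theorem Q25710 : ∀ i, i < 25710 → P i := stepQ 25709 Q25709 (allL N25709 (tt N25279 F191861) (tt N25110 F191862) (tt N24647 F191863) (tt N24762 F191864) (tt N26656 D42583) (tt N24646 (iv D41636)) (tt N24783 F191865) (tt N24699 F191866) (tt N26657 D42584) (tt N25186 F191867))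
theorem Q25711 : ∀ i, i < 25711 → P i := stepQ 25710 Q25710 (allL N25710 (tt N26557 (iv F195581)) (tt N24651 F191868) (tt N26656 (iv F196176)) (tt N26364 (iv F194377)) (tt N24647 (iv D41637)) (tt N25710 F191869) (tt N26398 (iv F194587)) (tt N24701 F191870) (tt N26658 D42585) (tt N25313 F191871))
theorem Q25712 : ∀ i, i < 25712 → P i := stepQ 25711 Q25711 (allL N25711 (tt N26555 (iv F195571)) (tt N24652 F191872) (tt N26657 (iv F196183)) (tt N24649 F191873) (tt N26658 (iv F196189)) (tt N26659 D42586) (tt N26489 (iv F195169)) (tt N24702 F191874) (tt N24647 (iv D41638)) (tt N26660 D42587))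
theorem Q25713 : ∀ i, i < 25713 → P i := stepQ 25712 Q25712 (allL N25712 (tt N24882 F191875) (tt N24653 F191876) (tt N24760 F191877) (tt N24650 F191878) (tt N26566 (iv F195640)) (tt N24648 (iv D41639)) (tt N24752 F191879) (tt N24703 F191880) (tt N26659 (iv F196197)) (tt N24751 F191881))
theorem Q25714 : ∀ i, i < 25714 → P i := stepQ 25713 Q25713 (allL N25713 (tt N24883 F191882) (tt N24654 F191883) (tt N24766 F191884) (tt N26659 (iv F196194)) (tt N24886 F191885) (tt N24649 (iv D41640)) (tt N25067 (iv F191888)) (tt N24704 F191886) (tt N24650 F191887) (tt N26661 D42588))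
theorem Q25715 : ∀ i, i < 25715 → P i := stepQ 25714 Q25714 (allL N25714 (tt N26655 (iv F196167)) (tt N24655 F191889) (tt N24767 F191890) (tt N26660 (iv F196199)) (tt N26631 (iv F196013)) (tt N26661 (iv F196206)) (tt N26491 (iv F195182)) (tt N24705 F191891) (tt N25315 F191892) (tt N24649 (iv D41641)))
theorem Q25716 : ∀ i, i < 25716 → P i := stepQ 25715 Q25715 (allL N25715 (tt N26629 (iv F195996)) (tt N26658 (iv F196188)) (tt N26416 (iv F194708)) (tt N26653 (iv F196156)) (tt N24652 F191893) (tt N26662 D42589) (tt N26492 (iv F195190)) (tt N24706 F191894) (tt N24651 (iv D41642)) (tt N26663 D42590))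
theorem Q25717 : ∀ i, i < 25717 → P i := stepQ 25716 Q25716 (allL N25716 (tt N26366 (iv F194388)) (tt N26659 (iv F196192)) (tt N26417 (iv F194715)) (tt N24654 F191895) (tt N26664 D42591) (tt N24652 (iv D41643)) (tt N25019 (iv F191898)) (tt N24707 F191896) (tt N24653 F191897) (tt N26665 D42592))
theorem Q25718 : ∀ i, i < 25718 → P i := stepQ 25717 Q25717 (allL N25717 (tt N26630 (iv F196003)) (tt N26660 (iv F196198)) (tt N26418 (iv F194722)) (tt N24655 F191899) (tt N26663 (iv F196211)) (tt N26665 (iv F196217)) (tt N26493 (iv F195196)) (tt N24708 F191900) (tt N26464 (iv F195020)) (tt N24652 (iv D41644)))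
theorem Q25719 : ∀ i, i < 25719 → P i := stepQ 25718 Q25718 (allL N25718 (tt N26364 (iv F194374)) (tt N26566 (iv F195637)) (tt N26419 (iv F194729)) (tt N26557 (iv F195584)) (tt N24653 (iv D41645)) (tt N25718 F191901) (tt N25016 F191902) (tt N24709 F191903) (tt N26664 (iv F196215)) (tt N24972 F191904))
theorem Q25720 : ∀ i, i < 25720 → P i := stepQ 25719 Q25719 (allL N25719 (tt N25035 F191905) (tt N25067 F191906) (tt N24659 F191907) (tt N25019 F191908) (tt N26488 (iv F195160)) (tt N26495 (iv F195212)) (tt N24654 (iv D41646)) (tt N24899 F191909) (tt N24656 F191910) (tt N26666 D42593))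
theorem Q25721 : ∀ i, i < 25721 → P i := stepQ 25720 Q25720 (allL N25720 (tt N26631 (iv F196010)) (tt N26661 (iv F196203)) (tt N24660 F191911) (tt N26665 (iv F196216)) (tt N26655 (iv F196170)) (tt N24655 F191912) (tt N26666 (iv F196225)) (tt N24711 F191913) (tt N26667 D42594) (tt N24654 (iv D41647)))
theorem Q25722 : ∀ i, i < 25722 → P i := stepQ 25721 Q25721 (allL N25721 (tt N24907 F191914) (tt N26638 (iv F196062)) (tt N24664 F191915) (tt N24969 F191916) (tt N24849 F191917) (tt N26471 (iv F195061)) (tt N24896 F191918) (tt N24712 F191919) (tt N24657 (iv D41648)) (tt N26667 (iv F196234)))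
theorem Q25723 : ∀ i, i < 25723 → P i := stepQ 25722 Q25722 (allL N25722 (tt N24718 F191920) (tt N24776 F191921) (tt N26488 (iv F195158)) (tt N26541 (iv F195483)) (tt N24659 F191922) (tt N25177 F191923) (tt N24658 (iv D41649)) (tt N24782 F191924) (tt N24661 F191925) (tt N26668 D42595))
theorem Q25724 : ∀ i, i < 25724 → P i := stepQ 25723 Q25723 (allL N25723 (tt N24767 F191926) (tt N24777 F191927) (tt N26655 (iv F196169)) (tt N26623 (iv F195960)) (tt N24660 F191928) (tt N24893 F191929) (tt N26668 (iv F196239)) (tt N24713 F191930) (tt N24853 F191931) (tt N24658 (iv D41650)))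
theorem Q25725 : ∀ i, i < 25725 → P i := stepQ 25724 Q25724 (allL N25724 (tt N25220 F191932) (tt N24778 F191933) (tt N24899 F191934) (tt N26433 (iv F194819)) (tt N24782 F191935) (tt N26499 (iv F195238)) (tt N24714 F191936) (tt N24659 (iv D41651)) (tt N24662 F191937) (tt N26669 D42596))
theorem Q25726 : ∀ i, i < 25726 → P i := stepQ 25725 Q25725 (allL N25725 (tt N26412 (iv F194673)) (tt N24779 F191938) (tt N26666 (iv F196223)) (tt N26434 (iv F194825)) (tt N26668 (iv F196237)) (tt N26500 (iv F195244)) (tt N24660 F191939) (tt N26669 (iv F196247)) (tt N26670 D42597) (tt N24659 (iv D41652)))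
theorem Q25727 : ∀ i, i < 25727 → P i := stepQ 25726 Q25726 (allL N25726 (tt N24955 F191940) (tt N24780 F191941) (tt N26667 (iv F196229)) (tt N26435 (iv F194830)) (tt N24853 F191942) (tt N26478 (iv F195100)) (tt N26670 (iv F196253)) (tt N24716 F191943) (tt N24660 (iv D41653)) (tt N24664 F191944))
theorem Q25728 : ∀ i, i < 25728 → P i := stepQ 25727 Q25727 (allL N25727 (tt N24927 F191945) (tt N24782 F191946) (tt N24896 F191947) (tt N26441 (iv F194873)) (tt N24778 F191948) (tt N25190 F191949) (tt N24664 F191950) (tt N24776 F191951) (tt N24663 (iv D41654)) (tt N26670 (iv F196255)))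
theorem Q25729 : ∀ i, i < 25729 → P i := stepQ 25728 Q25728 (allL N25728 (tt N26638 (iv F196061)) (tt N24667 F191952) (tt N24785 F191953) (tt N25264 F191954) (tt N25079 F191955) (tt N25215 F191956) (tt N25054 F191957) (tt N24678 F191958) (tt N24665 (iv D41655)) (tt N26671 D42598))
theorem Q25730 : ∀ i, i < 25730 → P i := stepQ 25729 Q25729 (allL N25729 (tt N24908 F191959) (tt N25266 F191960) (tt N24674 F191961) (tt N25080 F191962) (tt N24666 (iv D41656)) (tt N25729 F191963) (tt N25055 F191964) (tt N24795 F191965) (tt N26672 D42599) (tt N24884 F191966))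
theorem Q25731 : ∀ i, i < 25731 → P i := stepQ 25730 Q25730 (allL N25730 (tt N24909 F191967) (tt N25264 F191968) (tt N24675 F191969) (tt N24667 F191970) (tt N26672 (iv F196269)) (tt N25159 F191971) (tt N25056 F191972) (tt N24792 F191973) (tt N24666 (iv D41657)) (tt N26673 D42600))
theorem Q25732 : ∀ i, i < 25732 → P i := stepQ 25731 Q25731 (allL N25731 (tt N24910 F191974) (tt N26671 (iv F196257)) (tt N24669 F191975) (tt N26673 (iv F196275)) (tt N25084 F191976) (tt N25299 F191977) (tt N25058 F191978) (tt N24802 F191979) (tt N24887 F191980) (tt N24667 (iv D41658)))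
theorem Q25733 : ∀ i, i < 25733 → P i := stepQ 25732 Q25732 (allL N25732 (tt N24911 F191981) (tt N24791 F191982) (tt N25296 F191983) (tt N26625 (iv F195971)) (tt N24668 (iv D41659)) (tt N25088 F191984) (tt N26674 D42601) (tt N24903 F191985) (tt N24670 F191986) (tt N26675 D42602))
theorem Q25734 : ∀ i, i < 25734 → P i := stepQ 25733 Q25733 (allL N25733 (tt N24912 F191987) (tt N24792 F191988) (tt N25270 F191989) (tt N24678 F191990) (tt N26674 (iv F196283)) (tt N25062 F191991) (tt N24668 (iv D41660)) (tt N25264 F191992) (tt N24671 F191993) (tt N26676 D42603))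
theorem Q25735 : ∀ i, i < 25735 → P i := stepQ 25734 Q25734 (allL N25734 (tt N24913 F191994) (tt N24793 F191995) (tt N25299 F191996) (tt N24679 F191997) (tt N26675 (iv F196289)) (tt N24669 F191998) (tt N26676 (iv F196297)) (tt N24904 F191999) (tt N26677 D42604) (tt N24668 (iv D41661)))
theorem Q25736 : ∀ i, i < 25736 → P i := stepQ 25735 Q25735 (allL N25735 (tt N24914 F192000) (tt N24795 F192001) (tt N25274 F192002) (tt N26588 (iv F195760)) (tt N24671 F192003) (tt N25735 F192004) (tt N24670 (iv D41662)) (tt N25266 F192005) (tt N26674 (iv F196285)) (tt N26632 (iv F196025)))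
theorem Q25737 : ∀ i, i < 25737 → P i := stepQ 25736 Q25736 (allL N25736 (tt N24915 F192006) (tt N24796 F192007) (tt N25303 F192008) (tt N26305 (iv F193984)) (tt N24672 F192009) (tt N24673 F192010) (tt N26632 (iv F196023)) (tt N24905 F192011) (tt N26678 D42605) (tt N24670 (iv D41663)))
theorem Q25738 : ∀ i, i < 25738 → P i := stepQ 25737 Q25737 (allL N25737 (tt N24916 F192012) (tt N24797 F192013) (tt N25305 F192014) (tt N24680 F192015) (tt N26678 (iv F196309)) (tt N24889 F192016) (tt N26633 (iv F196031)) (tt N24906 F192017) (tt N24672 (iv D41664)) (tt N26677 (iv F196305)))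
theorem Q25739 : ∀ i, i < 25739 → P i := stepQ 25738 Q25738 (allL N25738 (tt N26635 (iv F196041)) (tt N26365 (iv F194383)) (tt N26672 (iv F196267)) (tt N24706 F192018) (tt N24675 F192019) (tt N26679 D42606) (tt N25210 F192020) (tt N26653 (iv F196159)) (tt N24674 (iv D41665)) (tt N26680 D42607))
theorem Q25740 : ∀ i, i < 25740 → P i := stepQ 25739 Q25739 (allL N25739 (tt N26636 (iv F196047)) (tt N26363 (iv F194368)) (tt N26673 (iv F196274)) (tt N24676 F192021) (tt N26680 (iv F196315)) (tt N26650 (iv F196148)) (tt N25211 F192022) (tt N26654 (iv F196165)) (tt N24919 F192023) (tt N24675 (iv D41666)))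
theorem Q25741 : ∀ i, i < 25741 → P i := stepQ 25740 Q25740 (allL N25740 (tt N24836 F192024) (tt N24801 F192025) (tt N26634 (iv F196035)) (tt N26624 (iv F195966)) (tt N24679 F192026) (tt N24713 F192027) (tt N26641 (iv F196091)) (tt N24893 F192028) (tt N26306 (iv F193996)) (tt N24677 (iv D41667)))
theorem Q25742 : ∀ i, i < 25742 → P i := stepQ 25741 Q25741 (allL N25741 (tt N26639 (iv F196069)) (tt N24802 F192029) (tt N26306 (iv F193991)) (tt N26676 (iv F196295)) (tt N26641 (iv F196089)) (tt N25216 F192030) (tt N24679 F192031) (tt N26671 (iv F196263)) (tt N26634 (iv F196040)) (tt N24678 (iv D41668)))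
theorem Q25743 : ∀ i, i < 25743 → P i := stepQ 25742 Q25742 (allL N25742 (tt N26640 (iv F196077)) (tt N24803 F192032) (tt N26641 (iv F196088)) (tt N26677 (iv F196302)) (tt N26306 (iv F193992)) (tt N24922 F192033) (tt N26634 (iv F196038)) (tt N26544 (iv F195508)) (tt N24679 (iv D41669)) (tt N24680 F192034))
theorem Q25744 : ∀ i, i < 25744 → P i := stepQ 25743 Q25743 (allL N25743 (tt N26642 (iv F196094)) (tt N25308 F192035) (tt N26319 (iv F194093)) (tt N24918 F192036) (tt N24682 F192037) (tt N26681 D42608) (tt N25207 F192038) (tt N26462 (iv F195006)) (tt N24681 (iv D41670)) (tt N26682 D42609))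
theorem Q25745 : ∀ i, i < 25745 → P i := stepQ 25744 Q25744 (allL N25744 (tt N26345 (iv F194250)) (tt N24985 F192039) (tt N26320 (iv F194100)) (tt N24684 F192040) (tt N26683 D42610) (tt N24682 (iv D41671)) (tt N24946 F192041) (tt N26463 (iv F195011)) (tt N24683 F192042) (tt N26684 D42611))
theorem Q25746 : ∀ i, i < 25746 → P i := stepQ 25745 Q25745 (allL N25745 (tt N26643 (iv F196100)) (tt N25311 F192043) (tt N26321 (iv F194107)) (tt N24685 F192044) (tt N26682 (iv F196323)) (tt N26684 (iv F196331)) (tt N25208 F192045) (tt N26464 (iv F195019)) (tt N24708 F192046) (tt N24682 (iv D41672)))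
theorem Q25747 : ∀ i, i < 25747 → P i := stepQ 25746 Q25746 (allL N25746 (tt N26343 (iv F194238)) (tt N24988 F192047) (tt N26322 (iv F194114)) (tt N26685 D42612) (tt N24683 (iv D41673)) (tt N25746 F192048) (tt N24944 F192049) (tt N26465 (iv F195026)) (tt N26683 (iv F196328)) (tt N24943 F192050))
theorem Q25748 : ∀ i, i < 25748 → P i := stepQ 25747 Q25747 (allL N25747 (tt N25295 F192051) (tt N24991 F192052) (tt N24688 F192053) (tt N26686 D42613) (tt N24684 (iv D41674)) (tt N24814 F192054) (tt N24978 F192055) (tt N26466 (iv F195032)) (tt N24686 F192056) (tt N26687 D42614))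
theorem Q25749 : ∀ i, i < 25749 → P i := stepQ 25748 Q25748 (allL N25748 (tt N26644 (iv F196106)) (tt N24994 F192057) (tt N24690 F192058) (tt N26684 (iv F196330)) (tt N26687 (iv F196348)) (tt N24685 F192059) (tt N24979 F192060) (tt N26468 (iv F195045)) (tt N26647 (iv F196133)) (tt N24684 (iv D41675)))
theorem Q25750 : ∀ i, i < 25750 → P i := stepQ 25749 Q25749 (allL N25749 (tt N25320 F192061) (tt N24997 F192062) (tt N26688 D42615) (tt N24686 (iv D41676)) (tt N26685 (iv F196336)) (tt N24687 F192063) (tt N24980 F192064) (tt N26469 (iv F195049)) (tt N26686 (iv F196344)) (tt N26402 (iv F194613)))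
theorem Q25751 : ∀ i, i < 25751 → P i := stepQ 25750 Q25750 (allL N25750 (tt N25318 F192065) (tt N26689 D42616) (tt N24687 (iv D41677)) (tt N24695 F192066) (tt N25750 F192067) (tt N26688 (iv F196353)) (tt N24870 F192068) (tt N26472 (iv F195068)) (tt N24869 F192069) (tt N26401 (iv F194608)))
theorem Q25752 : ∀ i, i < 25752 → P i := stepQ 25751 Q25751 (allL N25751 (tt N26645 (iv F196114)) (tt N24813 F192070) (tt N26690 D42617) (tt N24688 (iv D41678)) (tt N26333 (iv F194183)) (tt N24920 F192071) (tt N26691 D42618) (tt N26473 (iv F195074)) (tt N24691 F192072) (tt N26692 D42619))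
theorem Q25753 : ∀ i, i < 25753 → P i := stepQ 25752 Q25752 (allL N25752 (tt N26380 (iv F194475)) (tt N24814 F192073) (tt N24978 F192074) (tt N26691 (iv F196365)) (tt N24689 F192075) (tt N24991 F192076) (tt N24688 (iv D41679)) (tt N26693 D42620) (tt N24692 F192077) (tt N26694 D42621))
theorem Q25754 : ∀ i, i < 25754 → P i := stepQ 25753 Q25753 (allL N25753 (tt N26646 (iv F196120)) (tt N24815 F192078) (tt N26687 (iv F196347)) (tt N26692 (iv F196369)) (tt N24690 F192079) (tt N24921 F192080) (tt N26694 (iv F196380)) (tt N26475 (iv F195084)) (tt N26393 (iv F194556)) (tt N24688 (iv D41680)))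
theorem Q25755 : ∀ i, i < 25755 → P i := stepQ 25754 Q25754 (allL N25754 (tt N26471 (iv F195057)) (tt N24816 F192081) (tt N24954 F192082) (tt N26336 (iv F194199)) (tt N26693 (iv F196373)) (tt N24907 F192083) (tt N26476 (iv F195090)) (tt N24689 (iv D41681)) (tt N24693 F192084) (tt N26695 D42622))
theorem Q25756 : ∀ i, i < 25756 → P i := stepQ 25755 Q25755 (allL N25755 (tt N26647 (iv F196127)) (tt N24817 F192085) (tt N24979 F192086) (tt N26337 (iv F194205)) (tt N26694 (iv F196378)) (tt N24917 F192087) (tt N24690 F192088) (tt N26695 (iv F196385)) (tt N26644 (iv F196113)) (tt N24689 (iv D41682)))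
theorem Q25757 : ∀ i, i < 25757 → P i := stepQ 25756 Q25756 (allL N25756 (tt N24979 F192089) (tt N24818 F192090) (tt N26647 (iv F196129)) (tt N26338 (iv F194210)) (tt N26393 (iv F194553)) (tt N24716 F192091) (tt N26644 (iv F196111)) (tt N26478 (iv F195101)) (tt N24690 (iv D41683)) (tt N24694 F192092))
theorem Q25758 : ∀ i, i < 25758 → P i := stepQ 25757 Q25757 (allL N25757 (tt N26648 (iv F196134)) (tt N26696 D42623) (tt N24691 (iv D41684)) (tt N26688 (iv F196352)) (tt N26339 (iv F194215)) (tt N24695 F192093) (tt N26697 D42624) (tt N26479 (iv F195106)) (tt N26690 (iv F196363)) (tt N26406 (iv F194640)))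
theorem Q25759 : ∀ i, i < 25759 → P i := stepQ 25758 Q25758 (allL N25758 (tt N26402 (iv F194609)) (tt N24820 F192094) (tt N26697 (iv F196391)) (tt N24692 F192095) (tt N26340 (iv F194221)) (tt N24873 F192096) (tt N24691 (iv D41685)) (tt N26698 D42625) (tt N26691 (iv F196367)) (tt N25320 F192097))
theorem Q25760 : ∀ i, i < 25760 → P i := stepQ 25759 Q25759 (allL N25759 (tt N26404 (iv F194622)) (tt N24821 F192098) (tt N24956 F192099) (tt N26698 (iv F196396)) (tt N24693 F192100) (tt N24874 F192101) (tt N26481 (iv F195117)) (tt N24692 (iv D41686)) (tt N26693 (iv F196375)) (tt N25085 F192102))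
theorem Q25761 : ∀ i, i < 25761 → P i := stepQ 25760 Q25760 (allL N25760 (tt N25258 F192103) (tt N24695 (iv D41687)) (tt N24741 F192104) (tt N26689 (iv F196357)) (tt N24696 F192105) (tt N26696 (iv F196389)) (tt N24865 F192106) (tt N26347 (iv F194269)) (tt N24880 F192107) (tt N24740 F192108))
theorem Q25762 : ∀ i, i < 25762 → P i := stepQ 25761 Q25761 (allL N25761 (tt N24701 F192109) (tt N26567 (iv F195645)) (tt N26608 (iv F195875)) (tt N24709 F192110) (tt N24697 (iv D41688)) (tt N25761 F192111) (tt N24845 F192112) (tt N26557 (iv F195587)) (tt N26699 D42626) (tt N24844 F192113))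
theorem Q25763 : ∀ i, i < 25763 → P i := stepQ 25762 Q25762 (allL N25762 (tt N24702 F192114) (tt N26563 (iv F195619)) (tt N26610 (iv F195890)) (tt N24698 F192115) (tt N26699 (iv F196401)) (tt N26633 (iv F196030)) (tt N24847 F192116) (tt N26555 (iv F195576)) (tt N24697 (iv D41689)) (tt N26700 D42627))
theorem Q25764 : ∀ i, i < 25764 → P i := stepQ 25763 Q25763 (allL N25763 (tt N24705 F192117) (tt N26637 (iv F196054)) (tt N24713 F192118) (tt N26700 (iv F196404)) (tt N24711 F192119) (tt N26634 (iv F196037)) (tt N24851 F192120) (tt N26655 (iv F196172)) (tt N24850 F192121) (tt N24698 (iv D41690)))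
theorem Q25765 : ∀ i, i < 25765 → P i := stepQ 25764 Q25764 (allL N25764 (tt N26608 (iv F195873)) (tt N25108 F192122) (tt N24701 F192123) (tt N26409 (iv F194657)) (tt N24699 (iv D41691)) (tt N25764 F192124) (tt N25100 F192125) (tt N26656 (iv F196179)) (tt N26701 D42628) (tt N25185 F192126))
theorem Q25766 : ∀ i, i < 25766 → P i := stepQ 25765 Q25765 (allL N25765 (tt N26610 (iv F195888)) (tt N25105 F192127) (tt N24702 F192128) (tt N24827 F192129) (tt N26701 (iv F196409)) (tt N26702 D42629) (tt N25098 F192130) (tt N26657 (iv F196187)) (tt N24699 (iv D41692)) (tt N26703 D42630))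
theorem Q25767 : ∀ i, i < 25767 → P i := stepQ 25766 Q25766 (allL N25766 (tt N25277 F192131) (tt N25086 F192132) (tt N24703 F192133) (tt N24828 F192134) (tt N26704 D42631) (tt N24700 (iv D41693)) (tt N24824 F192135) (tt N24760 F192136) (tt N26702 (iv F196417)) (tt N24759 F192137))
theorem Q25768 : ∀ i, i < 25768 → P i := stepQ 25767 Q25767 (allL N25767 (tt N26699 (iv F196399)) (tt N24706 F192138) (tt N26701 (iv F196408)) (tt N26365 (iv F194385)) (tt N24702 F192139) (tt N26705 D42632) (tt N25314 F192140) (tt N26658 (iv F196190)) (tt N24701 (iv D41694)) (tt N26706 D42633))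
theorem Q25769 : ∀ i, i < 25769 → P i := stepQ 25768 Q25768 (allL N25768 (tt N26633 (iv F196026)) (tt N24707 F192141) (tt N26702 (iv F196413)) (tt N24704 F192142) (tt N26707 D42634) (tt N24702 (iv D41695)) (tt N24916 F192143) (tt N26659 (iv F196196)) (tt N24703 F192144) (tt N26708 D42635))
theorem Q25770 : ∀ i, i < 25770 → P i := stepQ 25769 Q25769 (allL N25769 (tt N26700 (iv F196403)) (tt N24708 F192145) (tt N26703 (iv F196419)) (tt N24705 F192146) (tt N26706 (iv F196433)) (tt N26708 (iv F196441)) (tt N25312 F192147) (tt N26660 (iv F196200)) (tt N25311 F192148) (tt N24702 (iv D41696)))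
theorem Q25771 : ∀ i, i < 25771 → P i := stepQ 25770 Q25770 (allL N25770 (tt N26632 (iv F196018)) (tt N24709 F192149) (tt N26704 (iv F196425)) (tt N26567 (iv F195647)) (tt N24703 (iv D41697)) (tt N25770 F192150) (tt N24915 F192151) (tt N26566 (iv F195642)) (tt N26707 (iv F196438)) (tt N24914 F192152))
theorem Q25772 : ∀ i, i < 25772 → P i := stepQ 25771 Q25771 (allL N25771 (tt N26634 (iv F196033)) (tt N24711 F192153) (tt N24836 F192154) (tt N26708 (iv F196440)) (tt N26637 (iv F196056)) (tt N24705 F192155) (tt N26640 (iv F196083)) (tt N26661 (iv F196208)) (tt N26639 (iv F196076)) (tt N24704 (iv D41698)))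
theorem Q25773 : ∀ i, i < 25773 → P i := stepQ 25772 Q25772 (allL N25772 (tt N26651 (iv F196150)) (tt N26705 (iv F196430)) (tt N26443 (iv F194884)) (tt N26679 (iv F196312)) (tt N26709 D42636) (tt N24706 (iv D41699)) (tt N26710 D42637) (tt N26662 (iv F196209)) (tt N25772 F192156) (tt N26711 D42638))
theorem Q25774 : ∀ i, i < 25774 → P i := stepQ 25773 Q25773 (allL N25773 (tt N26652 (iv F196152)) (tt N26706 (iv F196432)) (tt N26444 (iv F194889)) (tt N26680 (iv F196314)) (tt N24708 F192157) (tt N26711 (iv F196449)) (tt N26313 (iv F194049)) (tt N26663 (iv F196212)) (tt N26682 (iv F196325)) (tt N24706 (iv D41700)))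
theorem Q25775 : ∀ i, i < 25775 → P i := stepQ 25774 Q25774 (allL N25774 (tt N26365 (iv F194382)) (tt N26707 (iv F196436)) (tt N26445 (iv F194895)) (tt N26699 (iv F196400)) (tt N24707 (iv D41701)) (tt N26709 (iv F196444)) (tt N24973 F192158) (tt N26664 (iv F196214)) (tt N24709 F192159) (tt N26712 D42639))
theorem Q25776 : ∀ i, i < 25776 → P i := stepQ 25775 Q25775 (allL N25775 (tt N26363 (iv F194367)) (tt N26708 (iv F196439)) (tt N26446 (iv F194900)) (tt N24711 F192160) (tt N26712 (iv F196450)) (tt N24708 F192161) (tt N24971 F192162) (tt N26665 (iv F196219)) (tt N24970 F192163) (tt N24707 (iv D41702)))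
theorem Q25777 : ∀ i, i < 25777 → P i := stepQ 25776 Q25776 (allL N25776 (tt N25209 F192164) (tt N26640 (iv F196078)) (tt N24715 F192165) (tt N24971 F192166) (tt N24851 F192167) (tt N26311 (iv F194032)) (tt N24711 F192168) (tt N24898 F192169) (tt N24848 F192170) (tt N24710 (iv D41703)))
theorem Q25778 : ∀ i, i < 25778 → P i := stepQ 25777 Q25777 (allL N25777 (tt N24917 F192171) (tt N26639 (iv F196070)) (tt N24716 F192172) (tt N24970 F192173) (tt N24850 F192174) (tt N26647 (iv F196131)) (tt N24848 F192175) (tt N26667 (iv F196233)) (tt N24711 (iv D41704)) (tt N24712 F192176))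
theorem Q25779 : ∀ i, i < 25779 → P i := stepQ 25778 Q25778 (allL N25778 (tt N25260 F192177) (tt N24853 F192178) (tt N24898 F192179) (tt N26460 (iv F194991)) (tt N24780 F192180) (tt N26318 (iv F194087)) (tt N26669 (iv F196246)) (tt N24715 F192181) (tt N24777 F192182) (tt N24714 (iv D41705)))
theorem Q25780 : ∀ i, i < 25780 → P i := stepQ 25779 Q25779 (allL N25779 (tt N26437 (iv F194841)) (tt N24721 F192183) (tt N26543 (iv F195496)) (tt N25227 F192184) (tt N24717 (iv D41706)) (tt N25779 F192185) (tt N24763 F192186) (tt N25121 F192187) (tt N26713 D42640) (tt N25120 F192188))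
theorem Q25781 : ∀ i, i < 25781 → P i := stepQ 25780 Q25780 (allL N25780 (tt N26541 (iv F195480)) (tt N24722 F192189) (tt N26542 (iv F195489)) (tt N24718 F192190) (tt N26713 (iv F196455)) (tt N26531 (iv F195443)) (tt N24764 F192191) (tt N25123 F192192) (tt N24717 (iv D41707)) (tt N26714 D42641))
theorem Q25782 : ∀ i, i < 25782 → P i := stepQ 25781 Q25781 (allL N25781 (tt N25177 F192193) (tt N24724 F192194) (tt N26490 (iv F195173)) (tt N26531 (iv F195442)) (tt N26715 D42642) (tt N24718 (iv D41708)) (tt N25172 F192195) (tt N25286 F192196) (tt N24719 F192197) (tt N26716 D42643))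
theorem Q25783 : ∀ i, i < 25783 → P i := stepQ 25782 Q25782 (allL N25782 (tt N26668 (iv F196235)) (tt N24725 F192198) (tt N26491 (iv F195180)) (tt N26714 (iv F196459)) (tt N26412 (iv F194677)) (tt N26716 (iv F196473)) (tt N24767 F192199) (tt N25285 F192200) (tt N25284 F192201) (tt N24718 (iv D41709)))
theorem Q25784 : ∀ i, i < 25784 → P i := stepQ 25783 Q25783 (allL N25783 (tt N25179 F192202) (tt N24726 F192203) (tt N25014 F192204) (tt N25033 (iv F192209)) (tt N24719 (iv D41710)) (tt N24720 F192205) (tt N24856 F192206) (tt N25287 F192207) (tt N26715 (iv F196469)) (tt N25012 F192208))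
theorem Q25785 : ∀ i, i < 25785 → P i := stepQ 25784 Q25784 (allL N25784 (tt N25230 F192210) (tt N26713 (iv F196453)) (tt N26462 (iv F195002)) (tt N26413 (iv F194685)) (tt N24722 F192211) (tt N26717 D42644) (tt N24769 F192212) (tt N26319 (iv F194097)) (tt N24721 (iv D41711)) (tt N26718 D42645))
theorem Q25786 : ∀ i, i < 25786 → P i := stepQ 25785 Q25785 (allL N25785 (tt N25231 F192213) (tt N26531 (iv F195440)) (tt N26463 (iv F195009)) (tt N24724 F192214) (tt N26719 D42646) (tt N24722 (iv D41712)) (tt N26516 (iv F195355)) (tt N26320 (iv F194103)) (tt N24723 F192215) (tt N26720 D42647))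
theorem Q25787 : ∀ i, i < 25787 → P i := stepQ 25786 Q25786 (allL N25786 (tt N25232 F192216) (tt N26714 (iv F196458)) (tt N26464 (iv F195016)) (tt N24725 F192217) (tt N26718 (iv F196479)) (tt N26720 (iv F196485)) (tt N24771 F192218) (tt N26321 (iv F194110)) (tt N26418 (iv F194726)) (tt N24722 (iv D41713)))
theorem Q25788 : ∀ i, i < 25788 → P i := stepQ 25787 Q25787 (allL N25787 (tt N25233 F192219) (tt N26529 (iv F195426)) (tt N26465 (iv F195023)) (tt N26721 D42648) (tt N24723 (iv D41714)) (tt N25787 F192220) (tt N26515 (iv F195348)) (tt N26322 (iv F194117)) (tt N26719 (iv F196482)) (tt N26514 F195341))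
theorem Q25789 : ∀ i, i < 25789 → P i := stepQ 25788 Q25788 (allL N25788 (tt N25235 F192221) (tt N26715 (iv F196464)) (tt N24731 F192222) (tt N26722 D42649) (tt N24724 (iv D41715)) (tt N25138 F192223) (tt N25197 F192224) (tt N26323 (iv F194123)) (tt N24726 F192225) (tt N26723 D42650))
theorem Q25790 : ∀ i, i < 25790 → P i := stepQ 25789 Q25789 (allL N25789 (tt N25236 F192226) (tt N26716 (iv F196472)) (tt N24733 F192227) (tt N26720 (iv F196484)) (tt N26723 (iv F196498)) (tt N24725 F192228) (tt N26591 (iv F195782)) (tt N26325 (iv F194136)) (tt N26724 D42651) (tt N24724 (iv D41716)))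
theorem Q25791 : ∀ i, i < 25791 → P i := stepQ 25790 Q25790 (allL N25790 (tt N25237 F192229) (tt N25033 F192230) (tt N26725 D42652) (tt N24726 (iv D41717)) (tt N26721 (iv F196488)) (tt N24728 F192231) (tt N25031 F192232) (tt N26326 (iv F194140)) (tt N26722 (iv F196495)) (tt N26726 D42653))
theorem Q25792 : ∀ i, i < 25792 → P i := stepQ 25791 Q25791 (allL N25791 (tt N25238 F192233) (tt N25012 F192234) (tt N24736 F192235) (tt N26726 (iv F196510)) (tt N24727 F192236) (tt N24729 F192237) (tt N25011 F192238) (tt N26328 (iv F194154)) (tt N26727 D42654) (tt N24726 (iv D41718)))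
theorem Q25793 : ∀ i, i < 25793 → P i := stepQ 25792 Q25792 (allL N25792 (tt N25239 F192239) (tt N26519 (iv F195368)) (tt N24739 F192240) (tt N26512 (iv F195327)) (tt N26727 (iv F196516)) (tt N26426 (iv F194774)) (tt N26509 (iv F195310)) (tt N26329 (iv F194161)) (tt N24727 (iv D41719)) (tt N26724 (iv F196503)))
theorem Q25794 : ∀ i, i < 25794 → P i := stepQ 25793 Q25793 (allL N25793 (tt N25240 F192241) (tt N26401 (iv F194603)) (tt N24728 (iv D41720)) (tt N24740 F192242) (tt N25793 F192243) (tt N26725 (iv F196506)) (tt N24863 F192244) (tt N26330 (iv F194166)) (tt N24857 F192245) (tt N26689 (iv F196361)))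
theorem Q25795 : ∀ i, i < 25795 → P i := stepQ 25794 Q25794 (allL N25794 (tt N25241 F192246) (tt N25020 F192247) (tt N26689 (iv F196356)) (tt N24729 F192248) (tt N25794 F192249) (tt N26726 (iv F196511)) (tt N24877 F192250) (tt N26331 (iv F194173)) (tt N26728 D42655) (tt N24728 (iv D41721)))
theorem Q25796 : ∀ i, i < 25796 → P i := stepQ 25795 Q25795 (allL N25795 (tt N25242 F192251) (tt N24981 F192252) (tt N24742 F192253) (tt N26728 (iv F196521)) (tt N24730 F192254) (tt N26729 D42656) (tt N24878 F192255) (tt N26332 (iv F194179)) (tt N24729 (iv D41722)) (tt N25030 F192256))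
theorem Q25797 : ∀ i, i < 25797 → P i := stepQ 25796 Q25796 (allL N25796 (tt N25243 F192257) (tt N24839 F192258) (tt N26730 D42657) (tt N24731 (iv D41723)) (tt N26473 (iv F195072)) (tt N24829 F192259) (tt N26731 D42658) (tt N26333 (iv F194185)) (tt N24734 F192260) (tt N26732 D42659))
theorem Q25798 : ∀ i, i < 25798 → P i := stepQ 25797 Q25797 (allL N25797 (tt N25244 F192261) (tt N26497 (iv F195222)) (tt N25197 F192262) (tt N26731 (iv F196534)) (tt N24732 F192263) (tt N25188 F192264) (tt N24731 (iv D41724)) (tt N26733 D42660) (tt N24735 F192265) (tt N26734 D42661))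
theorem Q25799 : ∀ i, i < 25799 → P i := stepQ 25798 Q25798 (allL N25798 (tt N25245 F192266) (tt N26498 (iv F195229)) (tt N26723 (iv F196497)) (tt N26732 (iv F196539)) (tt N24733 F192267) (tt N26415 (iv F194702)) (tt N26734 (iv F196550)) (tt N26335 (iv F194195)) (tt N26735 D42662) (tt N24731 (iv D41725)))
theorem Q25800 : ∀ i, i < 25800 → P i := stepQ 25799 Q25799 (allL N25799 (tt N25246 F192268) (tt N26499 (iv F195235)) (tt N26506 (iv F195287)) (tt N26476 (iv F195088)) (tt N26733 (iv F196543)) (tt N24778 F192269) (tt N26336 (iv F194201)) (tt N24732 (iv D41726)) (tt N24737 F192270) (tt N26736 D42663))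
theorem Q25801 : ∀ i, i < 25801 → P i := stepQ 25800 Q25800 (allL N25800 (tt N25247 F192271) (tt N26500 (iv F195242)) (tt N26591 (iv F195779)) (tt N26477 (iv F195094)) (tt N26734 (iv F196548)) (tt N24779 F192272) (tt N24733 F192273) (tt N26736 (iv F196556)) (tt N26737 D42664) (tt N24732 (iv D41727)))
theorem Q25802 : ∀ i, i < 25802 → P i := stepQ 25801 Q25801 (allL N25801 (tt N25248 F192274) (tt N26501 (iv F195247)) (tt N26724 (iv F196502)) (tt N26478 (iv F195099)) (tt N26735 (iv F196552)) (tt N26435 (iv F194831)) (tt N26737 (iv F196558)) (tt N26338 (iv F194212)) (tt N24733 (iv D41728)) (tt N24739 F192275))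
theorem Q25803 : ∀ i, i < 25803 → P i := stepQ 25802 Q25802 (allL N25802 (tt N25249 F192276) (tt N26406 (iv F194637)) (tt N24734 (iv D41729)) (tt N26725 (iv F196505)) (tt N26479 (iv F195104)) (tt N24740 F192277) (tt N26738 D42665) (tt N26339 (iv F194217)) (tt N26730 (iv F196531)) (tt N26696 (iv F196390)))
theorem Q25804 : ∀ i, i < 25804 → P i := stepQ 25803 Q25803 (allL N25803 (tt N25250 F192278) (tt N24861 F192279) (tt N26738 (iv F196562)) (tt N24735 F192280) (tt N26480 (iv F195110)) (tt N24866 F192281) (tt N24734 (iv D41730)) (tt N26739 D42666) (tt N26731 (iv F196536)) (tt N26740 D42667))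
theorem Q25805 : ∀ i, i < 25805 → P i := stepQ 25804 Q25804 (allL N25804 (tt N25251 F192282) (tt N24819 F192283) (tt N26696 (iv F196388)) (tt N24736 F192284) (tt N26407 (iv F194644)) (tt N24741 F192285) (tt N26740 (iv F196573)) (tt N26341 (iv F194230)) (tt N26741 D42668) (tt N24734 (iv D41731)))
theorem Q25806 : ∀ i, i < 25806 → P i := stepQ 25805 Q25805 (allL N25805 (tt N25252 F192286) (tt N26502 (iv F195254)) (tt N25204 F192287) (tt N26739 (iv F196567)) (tt N24737 F192288) (tt N24879 F192289) (tt N26342 (iv F194236)) (tt N24735 (iv D41732)) (tt N26733 (iv F196545)) (tt N26594 (iv F195801)))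
theorem Q25807 : ∀ i, i < 25807 → P i := stepQ 25806 Q25806 (allL N25806 (tt N25253 F192290) (tt N24923 F192291) (tt N25011 F192292) (tt N26740 (iv F196571)) (tt N24738 F192293) (tt N24880 F192294) (tt N24736 F192295) (tt N26594 (iv F195800)) (tt N26742 D42669) (tt N24735 (iv D41733)))
theorem Q25808 : ∀ i, i < 25808 → P i := stepQ 25807 Q25807 (allL N25807 (tt N25254 F192296) (tt N26503 (iv F195262)) (tt N26727 (iv F196515)) (tt N26741 (iv F196576)) (tt N24739 F192297) (tt N26743 D42670) (tt N26742 (iv F196582)) (tt N26344 (iv F194249)) (tt N24736 (iv D41734)) (tt N26735 (iv F196553)))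
theorem Q25809 : ∀ i, i < 25809 → P i := stepQ 25808 Q25808 (allL N25808 (tt N25256 F192298) (tt N26504 (iv F195270)) (tt N26509 (iv F195308)) (tt N26482 (iv F195122)) (tt N26742 (iv F196581)) (tt N26508 (iv F195303)) (tt N24739 F192299) (tt N26592 (iv F195788)) (tt N24738 (iv D41735)) (tt N26737 (iv F196559)))
theorem Q25810 : ∀ i, i < 25810 → P i := stepQ 25809 Q25809 (allL N25809 (tt N25259 F192300) (tt N24996 F192301) (tt N26729 (iv F196527)) (tt N25011 F192302) (tt N26442 (iv F194880)) (tt N24742 (iv D41736)) (tt N26726 (iv F196512)) (tt N26348 (iv F194275)) (tt N26743 (iv F196586)) (tt N25031 F192303))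
theorem Q25811 : ∀ i, i < 25811 → P i := stepQ 25810 Q25810 (allL N25810 (tt N25261 F192304) (tt N25198 F192305) (tt N26492 (iv F195186)) (tt N24959 F192306) (tt N24746 F192307) (tt N26609 (iv F195886)) (tt N26416 (iv F194711)) (tt N24804 F192308) (tt N24745 (iv D41737)) (tt N26744 D42671))
theorem Q25812 : ∀ i, i < 25812 → P i := stepQ 25811 Q25811 (allL N25811 (tt N25054 F192309) (tt N24896 F192310) (tt N25148 F192311) (tt N24748 F192312) (tt N25095 (iv F192315)) (tt N24746 (iv D41738)) (tt N26638 (iv F196067)) (tt N24805 F192313) (tt N24747 F192314) (tt N26745 D42672))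
theorem Q25813 : ∀ i, i < 25813 → P i := stepQ 25812 Q25812 (allL N25812 (tt N25262 F192316) (tt N25201 F192317) (tt N26493 (iv F195193)) (tt N24749 F192318) (tt N26744 (iv F196590)) (tt N26745 (iv F196598)) (tt N26418 (iv F194724)) (tt N24806 F192319) (tt N24771 F192320) (tt N24746 (iv D41739)))
theorem Q25814 : ∀ i, i < 25814 → P i := stepQ 25813 Q25813 (allL N25813 (tt N25263 F192321) (tt N25006 F192322) (tt N24753 F192323) (tt N26569 (iv F195663)) (tt N24748 (iv D41740)) (tt N24961 F192324) (tt N26746 D42673) (tt N24808 F192325) (tt N24750 F192326) (tt N26747 D42674))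
theorem Q25815 : ∀ i, i < 25815 → P i := stepQ 25814 Q25814 (allL N25814 (tt N25264 F192327) (tt N24969 F192328) (tt N24754 F192329) (tt N26638 (iv F196064)) (tt N26746 (iv F196604)) (tt N26421 (iv F194744)) (tt N24748 (iv D41741)) (tt N24912 F192330) (tt N24751 F192331) (tt N26748 D42675))
theorem Q25816 : ∀ i, i < 25816 → P i := stepQ 25815 Q25815 (allL N25815 (tt N25265 F192332) (tt N25009 F192333) (tt N24755 F192334) (tt N26745 (iv F196596)) (tt N26747 (iv F196610)) (tt N24749 F192335) (tt N26748 (iv F196616)) (tt N24809 F192336) (tt N26749 D42676) (tt N24748 (iv D41742)))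
theorem Q25817 : ∀ i, i < 25817 → P i := stepQ 25816 Q25816 (allL N25816 (tt N25266 F192337) (tt N24972 F192338) (tt N24757 F192339) (tt N26568 (iv F195655)) (tt N24751 F192340) (tt N25816 F192341) (tt N24750 (iv D41743)) (tt N24914 F192342) (tt N26746 (iv F196606)) (tt N26566 (iv F195643)))
theorem Q25818 : ∀ i, i < 25818 → P i := stepQ 25817 Q25817 (allL N25817 (tt N25069 F192343) (tt N25019 F192344) (tt N24761 F192345) (tt N25067 F192346) (tt N26560 (iv F195607)) (tt N24774 F192347) (tt N26659 (iv F196195)) (tt N24812 F192348) (tt N24752 (iv D41744)) (tt N26749 (iv F196624)))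
theorem Q25819 : ∀ i, i < 25819 → P i := stepQ 25818 Q25818 (allL N25818 (tt N25267 F192349) (tt N26473 (iv F195071)) (tt N26582 (iv F195722)) (tt N24753 (iv D41745)) (tt N24839 F192350) (tt N24841 F192351) (tt N26750 D42677) (tt N24813 F192352) (tt N24756 F192353) (tt N26751 D42678))
theorem Q25820 : ∀ i, i < 25820 → P i := stepQ 25819 Q25819 (allL N25819 (tt N25268 F192354) (tt N26474 (iv F195077)) (tt N26746 (iv F196603)) (tt N26750 (iv F196626)) (tt N24754 F192355) (tt N26752 D42679) (tt N24753 (iv D41746)) (tt N26753 D42680) (tt N24757 F192356) (tt N26754 D42681))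
theorem Q25821 : ∀ i, i < 25821 → P i := stepQ 25820 Q25820 (allL N25820 (tt N25269 F192357) (tt N26475 (iv F195081)) (tt N26747 (iv F196609)) (tt N26751 (iv F196630)) (tt N24755 F192358) (tt N24968 F192359) (tt N26754 (iv F196644)) (tt N24815 F192360) (tt N26755 D42682) (tt N24753 (iv D41747)))
theorem Q25822 : ∀ i, i < 25822 → P i := stepQ 25821 Q25821 (allL N25821 (tt N25270 F192361) (tt N26476 (iv F195086)) (tt N24912 F192362) (tt N26499 (iv F195237)) (tt N26753 (iv F196639)) (tt N26433 (iv F194820)) (tt N24816 F192363) (tt N24754 (iv D41748)) (tt N24759 F192364) (tt N26756 D42683))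
theorem Q25823 : ∀ i, i < 25823 → P i := stepQ 25822 Q25822 (allL N25822 (tt N25271 F192365) (tt N26477 (iv F195093)) (tt N26748 (iv F196615)) (tt N26500 (iv F195243)) (tt N26754 (iv F196643)) (tt N26434 (iv F194826)) (tt N24755 F192366) (tt N26756 (iv F196652)) (tt N26757 D42684) (tt N24754 (iv D41749)))
theorem Q25824 : ∀ i, i < 25824 → P i := stepQ 25823 Q25823 (allL N25823 (tt N25272 F192367) (tt N26478 (iv F195098)) (tt N26749 (iv F196620)) (tt N26501 (iv F195249)) (tt N26755 (iv F196646)) (tt N24780 F192368) (tt N26757 (iv F196654)) (tt N24818 F192369) (tt N24755 (iv D41750)) (tt N24761 F192370))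
theorem Q25825 : ∀ i, i < 25825 → P i := stepQ 25824 Q25824 (allL N25824 (tt N25273 F192371) (tt N26480 (iv F195108)) (tt N26581 (iv F195716)) (tt N24757 F192372) (tt N24861 F192373) (tt N25824 F192374) (tt N24756 (iv D41751)) (tt N26758 D42685) (tt N26750 (iv F196628)) (tt N26579 (iv F195708)))
theorem Q25826 : ∀ i, i < 25826 → P i := stepQ 25825 Q25825 (allL N25825 (tt N25274 F192375) (tt N26481 (iv F195113)) (tt N24914 F192376) (tt N26758 (iv F196657)) (tt N24759 F192377) (tt N25825 F192378) (tt N24821 F192379) (tt N24757 (iv D41752)) (tt N26753 (iv F196641)) (tt N26704 (iv F196429)))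
theorem Q25827 : ∀ i, i < 25827 → P i := stepQ 25826 Q25826 (allL N25826 (tt N25275 F192380) (tt N26408 (iv F194648)) (tt N26566 (iv F195638)) (tt N26579 (iv F195705)) (tt N24760 F192381) (tt N25826 F192382) (tt N24758 F192383) (tt N26704 (iv F196428)) (tt N26759 D42686) (tt N24757 (iv D41753)))
theorem Q25828 : ∀ i, i < 25828 → P i := stepQ 25827 Q25827 (allL N25827 (tt N25276 F192384) (tt N26392 (iv F194547)) (tt N26560 (iv F195606)) (tt N26517 (iv F195359)) (tt N24761 F192385) (tt N26315 (iv F194065)) (tt N26759 (iv F196663)) (tt N24823 F192386) (tt N24758 (iv D41754)) (tt N26755 (iv F196648)))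
theorem Q25829 : ∀ i, i < 25829 → P i := stepQ 25828 Q25828 (allL N25828 (tt N25278 F192387) (tt N26482 (iv F195120)) (tt N26659 (iv F196193)) (tt N26504 (iv F195272)) (tt N26759 (iv F196662)) (tt N26657 (iv F196185)) (tt N24761 F192388) (tt N26702 (iv F196416)) (tt N24760 (iv D41755)) (tt N26757 (iv F196655)))
theorem Q25830 : ∀ i, i < 25830 → P i := stepQ 25829 Q25829 (allL N25829 (tt N26436 (iv F194834)) (tt N26397 (iv F194575)) (tt N24763 F192389) (tt N26760 D42687) (tt N24762 (iv D41756)) (tt N24854 F192390) (tt N26543 (iv F195498)) (tt N24826 F192391) (tt N26761 D42688) (tt N25194 F192392))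
theorem Q25831 : ∀ i, i < 25831 → P i := stepQ 25830 Q25830 (allL N25830 (tt N26619 (iv F195933)) (tt N26508 (iv F195300)) (tt N24764 F192393) (tt N26657 (iv F196184)) (tt N26761 (iv F196669)) (tt N26504 (iv F195274)) (tt N26542 (iv F195491)) (tt N24827 F192394) (tt N24762 (iv D41757)) (tt N26762 D42689))
theorem Q25832 : ∀ i, i < 25832 → P i := stepQ 25831 Q25831 (allL N25831 (tt N26430 (iv F194801)) (tt N24769 F192395) (tt N26761 (iv F196668)) (tt N25224 F192396) (tt N24764 F192397) (tt N26333 (iv F194184)) (tt N26713 (iv F196456)) (tt N24829 F192398) (tt N24763 (iv D41758)) (tt N26763 D42690))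
theorem Q25833 : ∀ i, i < 25833 → P i := stepQ 25832 Q25832 (allL N25832 (tt N24892 F192399) (tt N24770 F192400) (tt N26504 (iv F195271)) (tt N24766 F192401) (tt N24920 (iv F192404)) (tt N24764 (iv D41759)) (tt N25171 (iv F192405)) (tt N24830 F192402) (tt N24765 F192403) (tt N26764 D42691))
theorem Q25834 : ∀ i, i < 25834 → P i := stepQ 25833 Q25833 (allL N25833 (tt N26623 (iv F195958)) (tt N24771 F192406) (tt N26762 (iv F196671)) (tt N24767 F192407) (tt N26763 (iv F196676)) (tt N26764 (iv F196683)) (tt N26714 (iv F196460)) (tt N24831 F192408) (tt N25201 F192409) (tt N24764 (iv D41760)))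
theorem Q25835 : ∀ i, i < 25835 → P i := stepQ 25834 Q25834 (allL N25834 (tt N24893 F192410) (tt N24773 F192411) (tt N26661 (iv F196204)) (tt N26764 (iv F196681)) (tt N24888 F192412) (tt N24767 F192413) (tt N25173 F192414) (tt N24836 F192415) (tt N26765 D42692) (tt N24766 (iv D41761)))
theorem Q25836 : ∀ i, i < 25836 → P i := stepQ 25835 Q25835 (allL N25835 (tt N24785 F192416) (tt N24774 F192417) (tt N26638 (iv F196063)) (tt N26495 (iv F195210)) (tt N24889 F192418) (tt N25019 F192419) (tt N25148 F192420) (tt N24838 F192421) (tt N24768 (iv D41762)) (tt N26765 (iv F196692)))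
theorem Q25837 : ∀ i, i < 25837 → P i := stepQ 25836 Q25836 (allL N25836 (tt N25281 F192422) (tt N26763 (iv F196674)) (tt N26518 (iv F195364)) (tt N26547 (iv F195526)) (tt N24771 F192423) (tt N26572 (iv F195681)) (tt N26718 (iv F196480)) (tt N24840 F192424) (tt N26744 (iv F196592)) (tt N24769 (iv D41763)))
theorem Q25838 : ∀ i, i < 25838 → P i := stepQ 25837 Q25837 (allL N25837 (tt N25282 F192425) (tt N26764 (iv F196680)) (tt N26520 (iv F195376)) (tt N24773 F192426) (tt N25005 F192427) (tt N24771 F192428) (tt N26590 (iv F195776)) (tt N24843 F192429) (tt N26766 D42693) (tt N24770 (iv D41764)))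
theorem Q25839 : ∀ i, i < 25839 → P i := stepQ 25838 Q25838 (allL N25838 (tt N25070 F192430) (tt N26495 (iv F195208)) (tt N25172 F192431) (tt N24774 F192432) (tt N25015 F192433) (tt N25067 F192434) (tt N26490 (iv F195175)) (tt N24847 F192435) (tt N24772 (iv D41765)) (tt N26766 (iv F196699)))
theorem Q25840 : ∀ i, i < 25840 → P i := stepQ 25839 Q25839 (allL N25839 (tt N25283 F192436) (tt N26765 (iv F196687)) (tt N24780 F192437) (tt N26766 (iv F196695)) (tt N24898 F192438) (tt N26749 (iv F196622)) (tt N26552 (iv F195559)) (tt N24851 F192439) (tt N24773 (iv D41766)) (tt N24774 F192440))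
theorem Q25841 : ∀ i, i < 25841 → P i := stepQ 25840 Q25840 (allL N25840 (tt N25228 F192441) (tt N26541 (iv F195481)) (tt N24985 F192442) (tt N24776 F192443) (tt N26532 (iv F195449)) (tt N25183 F192444) (tt N24775 (iv D41767)) (tt N26441 (iv F194876)) (tt N24781 F192445) (tt N26767 D42694))
theorem Q25842 : ∀ i, i < 25842 → P i := stepQ 25841 Q25841 (allL N25841 (tt N25280 F192446) (tt N26623 (iv F195959)) (tt N24986 F192447) (tt N24777 F192448) (tt N26533 (iv F195454)) (tt N24895 F192449) (tt N26767 (iv F196704)) (tt N24852 F192450) (tt N26460 (iv F194994)) (tt N24775 (iv D41768)))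
theorem Q25843 : ∀ i, i < 25843 → P i := stepQ 25842 Q25842 (allL N25842 (tt N25229 F192451) (tt N26668 (iv F196236)) (tt N24897 F192452) (tt N26767 (iv F196702)) (tt N24779 F192453) (tt N25191 F192454) (tt N24777 F192455) (tt N26670 (iv F196254)) (tt N26669 (iv F196248)) (tt N24776 (iv D41769)))
theorem Q25844 : ∀ i, i < 25844 → P i := stepQ 25843 Q25843 (allL N25843 (tt N25284 F192456) (tt N26669 (iv F196243)) (tt N26507 (iv F195295)) (tt N26538 (iv F195470)) (tt N26670 (iv F196252)) (tt N26736 (iv F196555)) (tt N24853 F192457) (tt N24779 F192458) (tt N26668 (iv F196241)) (tt N24778 (iv D41770)))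
theorem Q25845 : ∀ i, i < 25845 → P i := stepQ 25844 Q25844 (allL N25844 (tt N25285 F192459) (tt N26670 (iv F196250)) (tt N26552 (iv F195557)) (tt N26539 (iv F195474)) (tt N26669 (iv F196245)) (tt N26768 D42695) (tt N24780 F192460) (tt N26668 (iv F196240)) (tt N24779 (iv D41771)) (tt N24782 F192461))
theorem Q25846 : ∀ i, i < 25846 → P i := stepQ 25845 Q25845 (allL N25845 (tt N25286 F192462) (tt N25190 F192463) (tt N26489 (iv F195166)) (tt N26542 (iv F195490)) (tt N26769 D42696) (tt N24782 (iv D41772)) (tt N26657 (iv F196186)) (tt N25177 F192464) (tt N24783 F192465) (tt N26768 (iv F196708)))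
theorem Q25847 : ∀ i, i < 25847 → P i := stepQ 25846 Q25846 (allL N25846 (tt N25287 F192466) (tt N25194 F192467) (tt N26398 (iv F194583)) (tt N26411 (iv F194671)) (tt N24783 (iv D41773)) (tt N24881 F192468) (tt N26656 (iv F196178)) (tt N25179 F192469) (tt N26769 (iv F196712)) (tt N26397 (iv F194580)))
theorem Q25848 : ∀ i, i < 25848 → P i := stepQ 25847 Q25847 (allL N25847 (tt N24924 F192470) (tt N24786 F192471) (tt N25050 F192472) (tt N24905 F192473) (tt N24784 (iv D41774)) (tt N24855 F192474) (tt N25046 F192475) (tt N26305 (iv F193987)) (tt N26770 D42697) (tt N24891 F192476))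
theorem Q25849 : ∀ i, i < 25849 → P i := stepQ 25848 Q25848 (allL N25848 (tt N26495 (iv F195207)) (tt N24787 F192477) (tt N25048 F192478) (tt N24785 F192479) (tt N26770 (iv F196717)) (tt N25035 F192480) (tt N25044 F192481) (tt N26304 (iv F193979)) (tt N24784 (iv D41775)) (tt N26771 D42698))
theorem Q25850 : ∀ i, i < 25850 → P i := stepQ 25849 Q25849 (allL N25849 (tt N26765 (iv F196686)) (tt N24789 F192482) (tt N26671 (iv F196258)) (tt N26771 (iv F196722)) (tt N26544 (iv F195505)) (tt N26396 (iv F194571)) (tt N25149 F192483) (tt N26306 (iv F193995)) (tt N24893 F192484) (tt N24785 (iv D41776)))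
theorem Q25851 : ∀ i, i < 25851 → P i := stepQ 25850 Q25850 (allL N25850 (tt N25074 F192485) (tt N26770 (iv F196714)) (tt N24798 F192486) (tt N26312 (iv F194039)) (tt N24787 F192487) (tt N26494 (iv F195203)) (tt N25150 F192488) (tt N26307 (iv F194003)) (tt N24786 (iv D41777)) (tt N26772 D42699))
theorem Q25852 : ∀ i, i < 25852 → P i := stepQ 25851 Q25851 (allL N25851 (tt N25075 F192489) (tt N26771 (iv F196720)) (tt N24799 F192490) (tt N24789 F192491) (tt N26772 (iv F196728)) (tt N25036 F192492) (tt N25151 F192493) (tt N26308 (iv F194009)) (tt N24895 F192494) (tt N24787 (iv D41778)))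
theorem Q25853 : ∀ i, i < 25853 → P i := stepQ 25852 Q25852 (allL N25852 (tt N25072 F192495) (tt N26400 (iv F194597)) (tt N24791 F192496) (tt N26492 (iv F195187)) (tt N24788 (iv D41779)) (tt N24973 F192497) (tt N26653 (iv F196158)) (tt N25018 F192498) (tt N24790 F192499) (tt N26773 D42700))
theorem Q25854 : ∀ i, i < 25854 → P i := stepQ 25853 Q25853 (allL N25853 (tt N25073 F192500) (tt N26396 (iv F194568)) (tt N24793 F192501) (tt N25036 F192502) (tt N26773 (iv F196733)) (tt N24789 F192503) (tt N26654 (iv F196164)) (tt N26309 (iv F194018)) (tt N26318 (iv F194090)) (tt N24788 (iv D41780)))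
theorem Q25855 : ∀ i, i < 25855 → P i := stepQ 25854 Q25854 (allL N25854 (tt N25207 F192504) (tt N26625 (iv F195970)) (tt N24959 (iv F192508)) (tt N24791 (iv D41781)) (tt N24800 F192505) (tt N26545 (iv F195513)) (tt N26642 (iv F196098)) (tt N24894 F192506) (tt N24794 F192507) (tt N26774 D42701))
theorem Q25856 : ∀ i, i < 25856 → P i := stepQ 25855 Q25855 (allL N25855 (tt N24918 F192509) (tt N26674 (iv F196281)) (tt N26653 (iv F196155)) (tt N26642 (iv F196096)) (tt N24792 F192510) (tt N26775 D42702) (tt N24791 (iv D41782)) (tt N26672 (iv F196271)) (tt N24795 F192511) (tt N26776 D42703))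
theorem Q25857 : ∀ i, i < 25857 → P i := stepQ 25856 Q25856 (allL N25856 (tt N25219 F192512) (tt N26675 (iv F196287)) (tt N26773 (iv F196732)) (tt N26774 (iv F196738)) (tt N24793 F192513) (tt N26546 (iv F195521)) (tt N26776 (iv F196746)) (tt N26310 (iv F194027)) (tt N26777 D42704) (tt N24791 (iv D41783)))
theorem Q25858 : ∀ i, i < 25858 → P i := stepQ 25857 Q25857 (allL N25857 (tt N24919 F192514) (tt N26676 (iv F196293)) (tt N26654 (iv F196161)) (tt N24802 F192515) (tt N26776 (iv F196745)) (tt N25160 F192516) (tt N24793 F192517) (tt N26673 (iv F196278)) (tt N26636 (iv F196052)) (tt N24792 (iv D41784)))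
theorem Q25859 : ∀ i, i < 25859 → P i := stepQ 25858 Q25858 (allL N25858 (tt N25211 F192518) (tt N26677 (iv F196300)) (tt N26318 (iv F194085)) (tt N24803 F192519) (tt N26777 (iv F196748)) (tt N24898 F192520) (tt N26636 (iv F196050)) (tt N26311 (iv F194034)) (tt N24793 (iv D41785)) (tt N24797 F192521))
theorem Q25860 : ∀ i, i < 25860 → P i := stepQ 25859 Q25859 (allL N25859 (tt N25210 F192522) (tt N26678 (iv F196307)) (tt N26315 (iv F194062)) (tt N26307 (iv F193999)) (tt N24797 F192523) (tt N26560 (iv F195608)) (tt N26635 (iv F196045)) (tt N26312 (iv F194043)) (tt N24796 (iv D41786)) (tt N26777 (iv F196749)))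
theorem Q25861 : ∀ i, i < 25861 → P i := stepQ 25860 Q25860 (allL N25860 (tt N25076 F192524) (tt N26415 (iv F194698)) (tt N26772 (iv F196727)) (tt N24840 F192525) (tt N24799 F192526) (tt N26498 (iv F195232)) (tt N25288 F192527) (tt N26547 (iv F195529)) (tt N24983 F192528) (tt N24798 (iv D41787)))
theorem Q25862 : ∀ i, i < 25862 → P i := stepQ 25861 Q25861 (allL N25861 (tt N25208 F192529) (tt N26624 (iv F195965)) (tt N24960 F192530) (tt N24801 F192531) (tt N26774 (iv F196739)) (tt N24852 F192532) (tt N26643 (iv F196103)) (tt N24895 F192533) (tt N26308 (iv F194010)) (tt N24800 (iv D41788)))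
theorem Q25863 : ∀ i, i < 25863 → P i := stepQ 25862 Q25862 (allL N25862 (tt N25176 F192534) (tt N25197 F192535) (tt N25015 F192536) (tt N24982 F192537) (tt N25172 F192538) (tt N24804 (iv D41789)) (tt N26715 (iv F196467)) (tt N26609 (iv F195887)) (tt N24856 F192539) (tt N26778 D42705))
theorem Q25864 : ∀ i, i < 25864 → P i := stepQ 25863 Q25863 (allL N25863 (tt N25288 F192540) (tt N25199 F192541) (tt N26558 (iv F195590)) (tt N24983 F192542) (tt N24806 F192543) (tt N26778 (iv F196755)) (tt N25076 F192544) (tt N26744 (iv F196591)) (tt N24840 F192545) (tt N24804 (iv D41790)))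
theorem Q25865 : ∀ i, i < 25865 → P i := stepQ 25864 Q25864 (allL N25864 (tt N25132 F192546) (tt N24897 F192547) (tt N26559 (iv F195597)) (tt N24809 F192548) (tt N25173 F192549) (tt N24806 F192550) (tt N24888 F192551) (tt N26745 (iv F196599)) (tt N26779 D42706) (tt N24805 (iv D41791)))
theorem Q25866 : ∀ i, i < 25866 → P i := stepQ 25865 Q25865 (allL N25865 (tt N25037 F192552) (tt N24899 F192553) (tt N25095 F192554) (tt N24812 F192555) (tt N25148 F192556) (tt N24847 F192557) (tt N24889 F192558) (tt N25067 F192559) (tt N24807 (iv D41792)) (tt N26779 (iv F196765)))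
theorem Q25867 : ∀ i, i < 25867 → P i := stepQ 25866 Q25866 (allL N25866 (tt N25174 F192560) (tt N25004 F192561) (tt N26503 (iv F195263)) (tt N24808 (iv D41793)) (tt N25171 F192562) (tt N24990 F192563) (tt N24920 F192564) (tt N26569 (iv F195666)) (tt N24810 F192565) (tt N26780 D42707))
theorem Q25868 : ∀ i, i < 25868 → P i := stepQ 25867 Q25867 (allL N25867 (tt N25289 F192566) (tt N25007 F192567) (tt N24815 F192568) (tt N26780 (iv F196768)) (tt N24809 F192569) (tt N24992 F192570) (tt N24921 F192571) (tt N26747 (iv F196612)) (tt N26781 D42708) (tt N24808 (iv D41794)))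
theorem Q25869 : ∀ i, i < 25869 → P i := stepQ 25868 Q25868 (allL N25868 (tt N25290 F192572) (tt N25010 F192573) (tt N24818 F192574) (tt N26779 (iv F196760)) (tt N26781 (iv F196775)) (tt N24851 F192575) (tt N24922 F192576) (tt N26749 (iv F196623)) (tt N24809 (iv D41795)) (tt N24812 F192577))
theorem Q25870 : ∀ i, i < 25870 → P i := stepQ 25869 Q25869 (allL N25869 (tt N25291 F192578) (tt N25017 F192579) (tt N24823 F192580) (tt N26494 (iv F195202)) (tt N24812 F192581) (tt N26312 (iv F194041)) (tt N24925 F192582) (tt N26560 (iv F195609)) (tt N24811 (iv D41796)) (tt N26781 (iv F196777)))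
theorem Q25871 : ∀ i, i < 25871 → P i := stepQ 25870 Q25870 (allL N25870 (tt N25292 F192583) (tt N26741 (iv F196575)) (tt N24813 (iv D41797)) (tt N26503 (iv F195264)) (tt N26517 (iv F195360)) (tt N25003 F192584) (tt N26782 D42709) (tt N26582 (iv F195726)) (tt N24819 F192585) (tt N26783 D42710))
theorem Q25872 : ∀ i, i < 25872 → P i := stepQ 25871 Q25871 (allL N25871 (tt N25293 F192586) (tt N26691 (iv F196364)) (tt N26782 (iv F196779)) (tt N24814 F192587) (tt N26571 (iv F195676)) (tt N26686 (iv F196342)) (tt N24813 (iv D41798)) (tt N26784 D42711) (tt N24820 F192588) (tt N26785 D42712))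
theorem Q25873 : ∀ i, i < 25873 → P i := stepQ 25872 Q25872 (allL N25872 (tt N25294 F192589) (tt N26692 (iv F196368)) (tt N26783 (iv F196783)) (tt N24815 F192590) (tt N26572 (iv F195680)) (tt N25005 F192591) (tt N26785 (iv F196791)) (tt N26751 (iv F196633)) (tt N26601 (iv F195837)) (tt N24813 (iv D41799)))
theorem Q25874 : ∀ i, i < 25874 → P i := stepQ 25873 Q25873 (allL N25873 (tt N25296 F192592) (tt N26693 (iv F196371)) (tt N24911 F192593) (tt N26784 (iv F196787)) (tt N24816 F192594) (tt N26466 (iv F195031)) (tt N26753 (iv F196640)) (tt N24814 (iv D41800)) (tt N24821 F192595) (tt N26786 D42713))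
theorem Q25875 : ∀ i, i < 25875 → P i := stepQ 25874 Q25874 (allL N25874 (tt N25297 F192596) (tt N26694 (iv F196376)) (tt N24921 F192597) (tt N26785 (iv F196790)) (tt N24817 F192598) (tt N26687 (iv F196349)) (tt N24815 F192599) (tt N26786 (iv F196795)) (tt N26787 D42714) (tt N24814 (iv D41801)))
theorem Q25876 : ∀ i, i < 25876 → P i := stepQ 25875 Q25875 (allL N25875 (tt N25298 F192600) (tt N26393 (iv F194552)) (tt N26781 (iv F196774)) (tt N26601 (iv F195835)) (tt N24818 F192601) (tt N26316 (iv F194072)) (tt N26787 (iv F196800)) (tt N26755 (iv F196647)) (tt N24815 (iv D41802)) (tt N24823 F192602))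
theorem Q25877 : ∀ i, i < 25877 → P i := stepQ 25876 Q25876 (allL N25876 (tt N25299 F192603) (tt N26695 (iv F196382)) (tt N24913 F192604) (tt N26577 (iv F195696)) (tt N26786 (iv F196794)) (tt N24910 F192605) (tt N26756 (iv F196651)) (tt N24817 F192606) (tt N26788 D42715) (tt N24816 (iv D41803)))
theorem Q25878 : ∀ i, i < 25878 → P i := stepQ 25877 Q25877 (allL N25877 (tt N25300 F192607) (tt N26644 (iv F196107)) (tt N24922 F192608) (tt N26578 (iv F195700)) (tt N26787 (iv F196799)) (tt N26641 (iv F196090)) (tt N24818 F192609) (tt N26788 (iv F196807)) (tt N24817 (iv D41804)) (tt N24825 F192610))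
theorem Q25879 : ∀ i, i < 25879 → P i := stepQ 25878 Q25878 (allL N25878 (tt N25301 F192611) (tt N26740 (iv F196570)) (tt N24820 F192612) (tt N24923 F192613) (tt N26579 (iv F195706)) (tt N24869 F192614) (tt N24819 (iv D41805)) (tt N26789 D42716) (tt N26782 (iv F196781)) (tt N24861 F192615))
theorem Q25880 : ∀ i, i < 25880 → P i := stepQ 25879 Q25879 (allL N25879 (tt N25302 F192616) (tt N26698 (iv F196395)) (tt N26789 (iv F196810)) (tt N24821 F192617) (tt N26580 (iv F195711)) (tt N24875 F192618) (tt N26758 (iv F196660)) (tt N24820 (iv D41806)) (tt N26784 (iv F196788)) (tt N26627 (iv F195986)))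
theorem Q25881 : ∀ i, i < 25881 → P i := stepQ 25880 Q25880 (allL N25880 (tt N25303 F192619) (tt N25085 F192620) (tt N24915 F192621) (tt N26627 (iv F195984)) (tt N24824 F192622) (tt N24876 F192623) (tt N26704 (iv F196427)) (tt N24822 F192624) (tt N26790 D42717) (tt N24821 (iv D41807)))
theorem Q25882 : ∀ i, i < 25882 → P i := stepQ 25881 Q25881 (allL N25881 (tt N25304 F192625) (tt N25295 F192626) (tt N24925 F192627) (tt N26600 (iv F195830)) (tt N24825 F192628) (tt N25213 F192629) (tt N24823 F192630) (tt N26790 (iv F196819)) (tt N24822 (iv D41808)) (tt N26787 (iv F196801)))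
theorem Q25883 : ∀ i, i < 25883 → P i := stepQ 25882 Q25882 (allL N25882 (tt N25305 F192631) (tt N25083 F192632) (tt N24916 F192633) (tt N26586 (iv F195746)) (tt N26790 (iv F196817)) (tt N25079 F192634) (tt N26702 (iv F196415)) (tt N24825 F192635) (tt N24824 (iv D41809)) (tt N26788 (iv F196808)))
theorem Q25884 : ∀ i, i < 25884 → P i := stepQ 25883 Q25883 (allL N25883 (tt N26451 (iv F194929)) (tt N26384 (iv F194499)) (tt N25144 F192636) (tt N24826 (iv D41810)) (tt N26409 (iv F194658)) (tt N24857 F192637) (tt N25143 F192638) (tt N26760 (iv F196666)) (tt N26791 D42718) (tt N25193 F192639))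
theorem Q25885 : ∀ i, i < 25885 → P i := stepQ 25884 Q25884 (allL N25884 (tt N26455 (iv F194954)) (tt N26386 (iv F194511)) (tt N24829 F192640) (tt N26791 (iv F196821)) (tt N24827 F192641) (tt N26730 (iv F196530)) (tt N25195 F192642) (tt N26761 (iv F196670)) (tt N24826 (iv D41811)) (tt N26792 D42719))
theorem Q25886 : ∀ i, i < 25886 → P i := stepQ 25885 Q25885 (allL N25885 (tt N26620 (iv F195940)) (tt N26592 (iv F195784)) (tt N24830 F192643) (tt N26702 (iv F196414)) (tt N26793 D42720) (tt N24827 (iv D41812)) (tt N26586 (iv F195748)) (tt N26504 (iv F195276)) (tt N24828 F192644) (tt N26794 D42721))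
theorem Q25887 : ∀ i, i < 25887 → P i := stepQ 25886 Q25886 (allL N25886 (tt N26617 (iv F195924)) (tt N26593 (iv F195790)) (tt N24831 F192645) (tt N26703 (iv F196420)) (tt N26792 (iv F196824)) (tt N26794 (iv F196831)) (tt N25192 F192646) (tt N26762 (iv F196672)) (tt N25191 F192647) (tt N24827 (iv D41813)))
theorem Q25888 : ∀ i, i < 25888 → P i := stepQ 25887 Q25887 (allL N25887 (tt N26621 (iv F195947)) (tt N26594 (iv F195796)) (tt N24832 F192648) (tt N26789 (iv F196811)) (tt N24828 (iv D41814)) (tt N24858 F192649) (tt N26583 (iv F195732)) (tt N24923 F192650) (tt N26793 (iv F196829)) (tt N26502 (iv F195260)))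
theorem Q25889 : ∀ i, i < 25889 → P i := stepQ 25888 Q25888 (allL N25888 (tt N26456 (iv F194960)) (tt N24840 F192651) (tt N26792 (iv F196823)) (tt N26415 (iv F194700)) (tt N24831 F192652) (tt N26732 (iv F196540)) (tt N25200 F192653) (tt N26763 (iv F196677)) (tt N25199 F192654) (tt N24829 (iv D41815)))
theorem Q25890 : ∀ i, i < 25890 → P i := stepQ 25889 Q25889 (allL N25889 (tt N26625 (iv F195969)) (tt N24841 F192655) (tt N26793 (iv F196827)) (tt N24911 F192656) (tt N24830 (iv D41816)) (tt N26473 (iv F195073)) (tt N26795 D42722) (tt N24920 F192657) (tt N24832 F192658) (tt N26796 D42723))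
theorem Q25891 : ∀ i, i < 25891 → P i := stepQ 25890 Q25890 (allL N25890 (tt N26587 (iv F195750)) (tt N24842 F192659) (tt N26586 (iv F195745)) (tt N24835 F192660) (tt N26795 (iv F196834)) (tt N25169 F192661) (tt N24830 (iv D41817)) (tt N26570 (iv F195673)) (tt N24833 F192662) (tt N26797 D42724))
theorem Q25892 : ∀ i, i < 25892 → P i := stepQ 25891 Q25891 (allL N25891 (tt N26624 (iv F195964)) (tt N24843 F192663) (tt N26794 (iv F196830)) (tt N24836 F192664) (tt N26796 (iv F196838)) (tt N24831 F192665) (tt N26797 (iv F196843)) (tt N26764 (iv F196685)) (tt N26798 D42725) (tt N24830 (iv D41818)))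
theorem Q25893 : ∀ i, i < 25893 → P i := stepQ 25892 Q25892 (allL N25892 (tt N26588 (iv F195757)) (tt N24844 F192666) (tt N26583 (iv F195729)) (tt N24914 F192667) (tt N24833 F192668) (tt N25892 F192669) (tt N24832 (iv D41819)) (tt N26568 (iv F195659)) (tt N26795 (iv F196835)) (tt N26567 F195651))
theorem Q25894 : ∀ i, i < 25894 → P i := stepQ 25893 Q25893 (allL N25893 (tt N26305 (iv F193981)) (tt N24845 F192670) (tt N26502 (iv F195255)) (tt N24915 F192671) (tt N24834 F192672) (tt N24860 F192673) (tt N26567 (iv F195650)) (tt N24924 F192674) (tt N26799 D42726) (tt N24832 (iv D41820)))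
theorem Q25895 : ∀ i, i < 25895 → P i := stepQ 25894 Q25894 (allL N25894 (tt N26304 (iv F193974)) (tt N24847 F192675) (tt N26499 (iv F195236)) (tt N24838 F192676) (tt N26799 (iv F196850)) (tt N24899 F192677) (tt N26563 (iv F195623)) (tt N26495 (iv F195214)) (tt N24834 (iv D41821)) (tt N26798 (iv F196847)))
theorem Q25896 : ∀ i, i < 25896 → P i := stepQ 25895 Q25895 (allL N25895 (tt N25079 F192678) (tt N24849 F192679) (tt N24889 F192680) (tt N26570 (iv F195670)) (tt N26638 (iv F196065)) (tt N25305 F192681) (tt N25095 F192682) (tt N24835 (iv D41822)) (tt N24837 F192683) (tt N26800 D42727))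
theorem Q25897 : ∀ i, i < 25897 → P i := stepQ 25896 Q25896 (allL N25896 (tt N26641 (iv F196086)) (tt N24850 F192684) (tt N26640 (iv F196079)) (tt N26797 (iv F196841)) (tt N26639 (iv F196073)) (tt N25300 F192685) (tt N24836 F192686) (tt N26800 (iv F196857)) (tt N26637 (iv F196060)) (tt N24835 (iv D41823)))
theorem Q25898 : ∀ i, i < 25898 → P i := stepQ 25897 Q25897 (allL N25897 (tt N26306 (iv F193989)) (tt N24851 F192687) (tt N26639 (iv F196071)) (tt N26798 (iv F196845)) (tt N26640 (iv F196081)) (tt N25010 F192688) (tt N26637 (iv F196058)) (tt N26765 (iv F196691)) (tt N24836 (iv D41824)) (tt N24838 F192689))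
theorem Q25899 : ∀ i, i < 25899 → P i := stepQ 25898 Q25898 (allL N25898 (tt N25306 F192690) (tt N26731 (iv F196533)) (tt N26600 (iv F195829)) (tt N26497 (iv F195224)) (tt N26750 (iv F196627)) (tt N26368 (iv F194406)) (tt N24839 (iv D41825)) (tt N26801 D42728) (tt N24861 F192691) (tt N26802 D42729))
theorem Q25900 : ∀ i, i < 25900 → P i := stepQ 25899 Q25899 (allL N25899 (tt N25307 F192692) (tt N26732 (iv F196538)) (tt N26601 (iv F195834)) (tt N26498 (iv F195230)) (tt N26751 (iv F196631)) (tt N24840 F192693) (tt N26802 (iv F196862)) (tt N26572 (iv F195682)) (tt N26783 (iv F196785)) (tt N24839 (iv D41826)))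
theorem Q25901 : ∀ i, i < 25901 → P i := stepQ 25900 Q25900 (allL N25900 (tt N25308 F192694) (tt N26795 (iv F196832)) (tt N26602 (iv F195840)) (tt N24967 F192695) (tt N24842 F192696) (tt N26803 D42730) (tt N24841 (iv D41827)) (tt N26804 D42731) (tt N24844 F192697) (tt N26805 D42732))
theorem Q25902 : ∀ i, i < 25902 → P i := stepQ 25901 Q25901 (allL N25901 (tt N25309 F192698) (tt N26796 (iv F196836)) (tt N26603 (iv F195844)) (tt N24968 F192699) (tt N24843 F192700) (tt N26751 (iv F196632)) (tt N26805 (iv F196874)) (tt N25005 F192701) (tt N26806 D42733) (tt N24841 (iv D41828)))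
theorem Q25903 : ∀ i, i < 25903 → P i := stepQ 25902 Q25902 (allL N25902 (tt N25310 F192702) (tt N26570 (iv F195668)) (tt N26604 (iv F195849)) (tt N24849 F192703) (tt N26804 (iv F196868)) (tt N26373 (iv F194435)) (tt N26505 (iv F195283)) (tt N24842 (iv D41829)) (tt N24846 F192704) (tt N26807 D42734))
theorem Q25904 : ∀ i, i < 25904 → P i := stepQ 25903 Q25903 (allL N25903 (tt N25311 F192705) (tt N26797 (iv F196840)) (tt N26605 (iv F195856)) (tt N24850 F192706) (tt N26805 (iv F196873)) (tt N26374 (iv F194442)) (tt N24843 F192707) (tt N26807 (iv F196882)) (tt N26700 (iv F196406)) (tt N24842 (iv D41830)))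
theorem Q25905 : ∀ i, i < 25905 → P i := stepQ 25904 Q25904 (allL N25904 (tt N25312 F192708) (tt N26798 (iv F196844)) (tt N26606 (iv F195861)) (tt N24851 F192709) (tt N26806 (iv F196877)) (tt N26779 (iv F196762)) (tt N26700 (iv F196405)) (tt N26766 (iv F196698)) (tt N24843 (iv D41831)) (tt N24847 F192710))
theorem Q25906 : ∀ i, i < 25906 → P i := stepQ 25905 Q25905 (allL N25905 (tt N25313 F192711) (tt N26568 (iv F195653)) (tt N26607 (iv F195868)) (tt N24972 F192712) (tt N24846 F192713) (tt N25905 F192714) (tt N25013 F192715) (tt N24844 (iv D41832)) (tt N26804 (iv F196870)) (tt N26557 (iv F195588)))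
theorem Q25907 : ∀ i, i < 25907 → P i := stepQ 25906 Q25906 (allL N25906 (tt N25314 F192716) (tt N26799 (iv F196848)) (tt N26609 (iv F195883)) (tt N24973 F192717) (tt N24847 F192718) (tt N26492 (iv F195189)) (tt N26699 (iv F196402)) (tt N25015 F192719) (tt N24845 (iv D41833)) (tt N26806 (iv F196879)))
theorem Q25908 : ∀ i, i < 25908 → P i := stepQ 25907 Q25907 (allL N25907 (tt N25315 F192720) (tt N26800 (iv F196853)) (tt N24853 F192721) (tt N26807 (iv F196881)) (tt N26667 (iv F196231)) (tt N26383 (iv F194495)) (tt N26507 (iv F195297)) (tt N24850 F192722) (tt N26655 (iv F196173)) (tt N24849 (iv D41834)))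
theorem Q25909 : ∀ i, i < 25909 → P i := stepQ 25908 Q25908 (allL N25908 (tt N26427 (iv F194777)) (tt N26405 (iv F194630)) (tt N25202 F192723) (tt N24854 (iv D41835)) (tt N25908 F192724) (tt N26760 (iv F196665)) (tt N25908 F192725) (tt N24857 F192726) (tt N26330 (iv F194167)) (tt N25203 F192727))
theorem Q25910 : ∀ i, i < 25910 → P i := stepQ 25909 Q25909 (allL N25909 (tt N25317 F192728) (tt N26626 (iv F195976)) (tt N24875 F192729) (tt N24858 (iv D41836)) (tt N25909 F192730) (tt N26789 (iv F196812)) (tt N25909 F192731) (tt N24869 F192732) (tt N26472 (iv F195069)) (tt N24868 (iv F192733)))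
theorem Q25911 : ∀ i, i < 25911 → P i := stepQ 25910 Q25910 (allL N25910 (tt N25077 F192734) (tt N24879 F192735) (tt N24860 F192736) (tt N24868 F192737) (tt N24859 F192738) (tt N26502 (iv F195258)) (tt N25910 F192739) (tt N24862 F192740) (tt N24881 (iv F192741)) (tt N24858 (iv D41837)))
theorem Q25912 : ∀ i, i < 25912 → P i := stepQ 25911 Q25911 (allL N25911 (tt N25316 F192742) (tt N26739 (iv F196566)) (tt N26627 (iv F195983)) (tt N26502 (iv F195256)) (tt N26758 (iv F196658)) (tt N24868 F192743) (tt N26580 (iv F195713)) (tt N24861 (iv D41838)) (tt N26801 (iv F196860)) (tt N26789 (iv F196813)))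
theorem Q25913 : ∀ i, i < 25913 → P i := stepQ 25912 Q25912 (allL N25912 (tt N25322 F192744) (tt N24870 F192745) (tt N24877 F192746) (tt N24865 F192747) (tt N25912 F192748) (tt N24878 F192749) (tt N26689 (iv F196359)) (tt N25912 F192750) (tt N24867 F192751) (tt N24863 (iv D41839)))
theorem Q25914 : ∀ i, i < 25914 → P i := stepQ 25913 Q25913 (allL N25913 (tt N25323 F192752) (tt N25318 F192753) (tt N24866 F192754) (tt N25030 F192755) (tt N25913 F192756) (tt N26738 (iv F196564)) (tt N24864 (iv D41840)) (tt N26808 D42735) (tt N25029 F192757) (tt N26728 (iv F196524)))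
theorem Q25915 : ∀ i, i < 25915 → P i := stepQ 25914 Q25914 (allL N25914 (tt N25321 F192758) (tt N24872 F192759) (tt N24867 F192760) (tt N24878 F192761) (tt N25914 F192762) (tt N24865 F192763) (tt N26728 (iv F196523)) (tt N25914 F192764) (tt N24877 F192765) (tt N24864 (iv D41841)))
theorem Q25916 : ∀ i, i < 25916 → P i := stepQ 25915 Q25915 (allL N25915 (tt N25324 F192766) (tt N24868 F192767) (tt N26808 (iv F196885)) (tt N24879 F192768) (tt N25915 F192769) (tt N26739 (iv F196568)) (tt N25915 F192770) (tt N24866 (iv D41842)) (tt N25203 F192771) (tt N26626 (iv F195980)))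
theorem Q25917 : ∀ i, i < 25917 → P i := stepQ 25916 Q25916 (allL N25916 (tt N25325 F192772) (tt N24869 F192773) (tt N26728 (iv F196520)) (tt N24880 F192774) (tt N25916 F192775) (tt N26740 (iv F196572)) (tt N24867 F192776) (tt N26626 (iv F195979)) (tt N26689 (iv F196360)) (tt N24866 (iv D41843)))
theorem Q25918 : ∀ i, i < 25918 → P i := stepQ 25917 Q25917 (allL N25917 (tt N26401 (iv F194602)) (tt N26728 (iv F196519)) (tt N24873 F192777) (tt N24981 F192778) (tt N25917 F192779) (tt N26697 (iv F196393)) (tt N24872 (iv D41844)) (tt N26809 D42736) (tt N25020 F192780) (tt N25318 F192781))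
theorem Q25919 : ∀ i, i < 25919 → P i := stepQ 25918 Q25918 (allL N25918 (tt N26403 (iv F194615)) (tt N24875 F192782) (tt N26809 (iv F196890)) (tt N24874 F192783) (tt N25918 F192784) (tt N26698 (iv F196397)) (tt N25918 F192785) (tt N24873 (iv D41845)) (tt N25021 F192786) (tt N25087 F192787))
theorem Q25920 : ∀ i, i < 25920 → P i := stepQ 25919 Q25919 (allL N25919 (tt N26566 (iv F195636)) (tt N24884 F192788) (tt N25275 F192789) (tt N25155 F192790) (tt N24882 (iv D41846)) (tt N25919 F192791) (tt N25068 F192792) (tt N26632 (iv F196024)) (tt N26810 D42737) (tt N25266 F192793))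
theorem Q25921 : ∀ i, i < 25921 → P i := stepQ 25920 Q25920 (allL N25920 (tt N26659 (iv F196191)) (tt N24885 F192794) (tt N25278 F192795) (tt N24883 F192796) (tt N26810 (iv F196899)) (tt N26555 (iv F195575)) (tt N25069 F192797) (tt N26633 (iv F196032)) (tt N24882 (iv D41847)) (tt N26811 D42738))
theorem Q25922 : ∀ i, i < 25922 → P i := stepQ 25921 Q25921 (allL N25921 (tt N26661 (iv F196202)) (tt N24887 F192798) (tt N24893 F192799) (tt N26811 (iv F196903)) (tt N26628 (iv F195991)) (tt N26655 (iv F196171)) (tt N25071 F192800) (tt N26634 (iv F196039)) (tt N26671 (iv F196264)) (tt N24883 (iv D41848)))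
theorem Q25923 : ∀ i, i < 25923 → P i := stepQ 25922 Q25922 (allL N25922 (tt N26653 (iv F196154)) (tt N26810 (iv F196896)) (tt N24918 F192801) (tt N26629 (iv F195999)) (tt N24885 F192802) (tt N26812 D42739) (tt N25072 F192803) (tt N26635 (iv F196046)) (tt N24884 (iv D41849)) (tt N26813 D42740))
theorem Q25924 : ∀ i, i < 25924 → P i := stepQ 25923 Q25923 (allL N25923 (tt N26654 (iv F196160)) (tt N26811 (iv F196901)) (tt N24919 F192804) (tt N24887 F192805) (tt N26813 (iv F196909)) (tt N26564 (iv F195628)) (tt N25073 F192806) (tt N26636 (iv F196051)) (tt N26673 (iv F196279)) (tt N24885 (iv D41850)))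
theorem Q25925 : ∀ i, i < 25925 → P i := stepQ 25924 Q25924 (allL N25924 (tt N26628 (iv F195987)) (tt N26655 (iv F196168)) (tt N24888 F192807) (tt N26564 (iv F195627)) (tt N26661 (iv F196205)) (tt N24887 F192808) (tt N26559 (iv F195601)) (tt N26637 (iv F196059)) (tt N26800 (iv F196858)) (tt N24886 (iv D41851)))
theorem Q25926 : ∀ i, i < 25926 → P i := stepQ 25925 Q25925 (allL N25925 (tt N26544 (iv F195501)) (tt N24898 F192809) (tt N26800 (iv F196854)) (tt N24922 F192810) (tt N26765 (iv F196688)) (tt N26677 (iv F196303)) (tt N26779 (iv F196763)) (tt N26640 (iv F196084)) (tt N24888 (iv D41852)) (tt N24889 F192811))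
theorem Q25927 : ∀ i, i < 25927 → P i := stepQ 25926 Q25926 (allL N25926 (tt N24923 F192812) (tt N24974 F192813) (tt N24891 F192814) (tt N25301 (iv F192818)) (tt N24890 (iv D41853)) (tt N24900 F192815) (tt N25051 F192816) (tt N26621 (iv F195952)) (tt N26814 D42741) (tt N25050 F192817))
theorem Q25928 : ∀ i, i < 25928 → P i := stepQ 25927 Q25927 (allL N25927 (tt N26504 (iv F195269)) (tt N24975 F192819) (tt N24892 F192820) (tt N25278 F192821) (tt N26814 (iv F196915)) (tt N26619 (iv F195937)) (tt N25053 F192822) (tt N26620 (iv F195945)) (tt N24890 (iv D41854)) (tt N26815 D42742))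
theorem Q25929 : ∀ i, i < 25929 → P i := stepQ 25928 Q25928 (allL N25928 (tt N24920 F192823) (tt N24894 F192824) (tt N26814 (iv F196913)) (tt N24903 F192825) (tt N24892 F192826) (tt N26645 (iv F196117)) (tt N25174 F192827) (tt N26625 (iv F195973)) (tt N24891 (iv D41855)) (tt N26816 D42743))
theorem Q25930 : ∀ i, i < 25930 → P i := stepQ 25929 Q25929 (allL N25929 (tt N26764 (iv F196679)) (tt N24895 F192828) (tt N26815 (iv F196918)) (tt N24893 F192829) (tt N26816 (iv F196925)) (tt N26623 F195963) (tt N25175 F192830) (tt N26624 (iv F195967)) (tt N26771 (iv F196725)) (tt N24892 (iv D41856)))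
theorem Q25931 : ∀ i, i < 25931 → P i := stepQ 25930 Q25930 (allL N25930 (tt N25212 F192831) (tt N26645 (iv F196115)) (tt N24982 F192832) (tt N25000 F192833) (tt N26483 (iv F195128)) (tt N24894 (iv D41857)) (tt N26817 D42744) (tt N26545 (iv F195514)) (tt N24901 F192834) (tt N26818 D42745))
theorem Q25932 : ∀ i, i < 25932 → P i := stepQ 25931 Q25931 (allL N25931 (tt N26301 (iv F193948)) (tt N26816 (iv F196923)) (tt N24983 F192835) (tt N26310 (iv F194023)) (tt N24895 F192836) (tt N26818 (iv F196935)) (tt N25181 F192837) (tt N26774 (iv F196740)) (tt N26772 (iv F196730)) (tt N24894 (iv D41858)))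
theorem Q25933 : ∀ i, i < 25933 → P i := stepQ 25932 Q25932 (allL N25932 (tt N26302 (iv F193957)) (tt N26745 (iv F196594)) (tt N26670 (iv F196251)) (tt N25009 F192838) (tt N26507 (iv F195296)) (tt N25201 F192839) (tt N26667 (iv F196232)) (tt N24897 F192840) (tt N26666 (iv F196227)) (tt N24896 (iv D41859)))
theorem Q25934 : ∀ i, i < 25934 → P i := stepQ 25933 Q25933 (allL N25933 (tt N26303 (iv F193966)) (tt N26779 (iv F196758)) (tt N26669 (iv F196244)) (tt N25010 F192841) (tt N26552 (iv F195558)) (tt N26798 (iv F196846)) (tt N24898 F192842) (tt N26666 (iv F196226)) (tt N24897 (iv D41860)) (tt N24899 F192843))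
theorem Q25935 : ∀ i, i < 25935 → P i := stepQ 25934 Q25934 (allL N25934 (tt N25217 F192844) (tt N26402 (iv F194610)) (tt N25033 F192845) (tt N24999 F192846) (tt N26487 (iv F195153)) (tt N24902 F192847) (tt N24901 (iv D41861)) (tt N26819 D42746) (tt N26817 (iv F196931)) (tt N24997 F192848))
theorem Q25936 : ∀ i, i < 25936 → P i := stepQ 25935 Q25935 (allL N25935 (tt N25319 F192849) (tt N26403 (iv F194616)) (tt N25034 F192850) (tt N25022 F192851) (tt N25935 F192852) (tt N26819 (iv F196940)) (tt N25935 F192853) (tt N24902 (iv D41862)) (tt N25206 F192854) (tt N25021 F192855))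
theorem Q25937 : ∀ i, i < 25937 → P i := stepQ 25936 Q25936 (allL N25936 (tt N24921 F192856) (tt N26310 (iv F194021)) (tt N25297 F192857) (tt N26816 (iv F196924)) (tt N24904 F192858) (tt N26646 (iv F196124)) (tt N25289 F192859) (tt N26675 (iv F196291)) (tt N26820 D42747) (tt N24903 (iv D41863)))
theorem Q25938 : ∀ i, i < 25938 → P i := stepQ 25937 Q25937 (allL N25937 (tt N24922 F192860) (tt N26311 (iv F194029)) (tt N25300 F192861) (tt N26544 (iv F195504)) (tt N26820 (iv F196944)) (tt N26640 (iv F196082)) (tt N25290 F192862) (tt N26677 (iv F196304)) (tt N24904 (iv D41864)) (tt N24906 F192863))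
theorem Q25939 : ∀ i, i < 25939 → P i := stepQ 25938 Q25938 (allL N25938 (tt N24925 F192864) (tt N26312 (iv F194037)) (tt N25304 F192865) (tt N26770 (iv F196716)) (tt N24906 F192866) (tt N25017 F192867) (tt N25291 F192868) (tt N26678 (iv F196311)) (tt N24905 (iv D41865)) (tt N26820 (iv F196947)))
theorem Q25940 : ∀ i, i < 25940 → P i := stepQ 25939 Q25939 (allL N25939 (tt N26667 (iv F196228)) (tt N24910 F192869) (tt N24955 F192870) (tt N26362 (iv F194364)) (tt N25315 F192871) (tt N26695 (iv F196384)) (tt N26302 (iv F193963)) (tt N24917 F192872) (tt N26631 (iv F196017)) (tt N24907 (iv D41866)))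
theorem Q25941 : ∀ i, i < 25941 → P i := stepQ 25940 Q25940 (allL N25940 (tt N26672 (iv F196265)) (tt N26359 (iv F194344)) (tt N26635 (iv F196042)) (tt N26462 (iv F195003)) (tt N24909 F192873) (tt N26821 D42748) (tt N26315 (iv F194066)) (tt N24918 F192874) (tt N24908 (iv D41867)) (tt N26822 D42749))
theorem Q25942 : ∀ i, i < 25942 → P i := stepQ 25941 Q25941 (allL N25941 (tt N26673 (iv F196272)) (tt N26362 (iv F194363)) (tt N26636 (iv F196048)) (tt N24910 F192875) (tt N26822 (iv F196950)) (tt N26577 (iv F195697)) (tt N26318 (iv F194088)) (tt N24919 F192876) (tt N26654 (iv F196166)) (tt N24909 (iv D41868)))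
theorem Q25943 : ∀ i, i < 25943 → P i := stepQ 25942 Q25942 (allL N25942 (tt N26674 (iv F196280)) (tt N24967 F192877) (tt N26753 (iv F196638)) (tt N26795 (iv F196833)) (tt N24912 F192878) (tt N26823 D42750) (tt N24911 (iv D41869)) (tt N26746 (iv F196605)) (tt N24914 F192879) (tt N26824 D42751))
theorem Q25944 : ∀ i, i < 25944 → P i := stepQ 25943 Q25943 (allL N25943 (tt N26675 (iv F196286)) (tt N24968 F192880) (tt N26786 (iv F196793)) (tt N26796 (iv F196837)) (tt N24913 F192881) (tt N26475 (iv F195083)) (tt N26824 (iv F196956)) (tt N24921 F192882) (tt N26825 D42752) (tt N24911 (iv D41870)))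
theorem Q25945 : ∀ i, i < 25945 → P i := stepQ 25944 Q25944 (allL N25944 (tt N26676 (iv F196292)) (tt N24970 F192883) (tt N26756 (iv F196650)) (tt N26639 (iv F196072)) (tt N26824 (iv F196955)) (tt N26486 (iv F195146)) (tt N24913 F192884) (tt N26748 (iv F196617)) (tt N26708 (iv F196443)) (tt N24912 (iv D41871)))
theorem Q25946 : ∀ i, i < 25946 → P i := stepQ 25945 Q25945 (allL N25945 (tt N26677 (iv F196299)) (tt N24971 F192885) (tt N26788 (iv F196805)) (tt N26640 (iv F196080)) (tt N26825 (iv F196958)) (tt N26544 (iv F195506)) (tt N26708 (iv F196442)) (tt N24922 F192886) (tt N24913 (iv D41872)) (tt N24916 F192887))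
theorem Q25947 : ∀ i, i < 25947 → P i := stepQ 25946 Q25946 (allL N25946 (tt N26678 (iv F196306)) (tt N24973 F192888) (tt N26790 (iv F196816)) (tt N26799 (iv F196849)) (tt N24916 F192889) (tt N26400 (iv F194600)) (tt N26707 (iv F196437)) (tt N24925 F192890) (tt N24915 (iv D41873)) (tt N26825 (iv F196960)))
theorem Q25948 : ∀ i, i < 25948 → P i := stepQ 25947 Q25947 (allL N25947 (tt N26775 (iv F196741)) (tt N26358 (iv F194339)) (tt N26812 (iv F196906)) (tt N26681 (iv F196319)) (tt N26573 (iv F195684)) (tt N24918 (iv D41874)) (tt N26826 D42753) (tt N26821 (iv F196948)) (tt N25947 F192891) (tt N26827 D42754))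
theorem Q25949 : ∀ i, i < 25949 → P i := stepQ 25948 Q25948 (allL N25948 (tt N26776 (iv F196744)) (tt N26360 (iv F194350)) (tt N26813 (iv F196908)) (tt N26682 (iv F196322)) (tt N24919 F192892) (tt N26827 (iv F196964)) (tt N25219 F192893) (tt N26822 (iv F196951)) (tt N26680 (iv F196317)) (tt N24918 (iv D41875)))
theorem Q25950 : ∀ i, i < 25950 → P i := stepQ 25949 Q25949 (allL N25949 (tt N26814 (iv F196911)) (tt N26742 (iv F196579)) (tt N24920 (iv D41876)) (tt N26782 (iv F196780)) (tt N26504 (iv F195273)) (tt N26690 (iv F196362)) (tt N26503 (iv F195267)) (tt N26793 (iv F196828)) (tt N24923 F192894) (tt N26828 D42755))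
theorem Q25951 : ∀ i, i < 25951 → P i := stepQ 25950 Q25950 (allL N25950 (tt N26816 (iv F196922)) (tt N25005 F192895) (tt N26828 (iv F196965)) (tt N24921 F192896) (tt N26764 (iv F196682)) (tt N26692 (iv F196370)) (tt N26780 (iv F196771)) (tt N26796 (iv F196839)) (tt N26829 D42756) (tt N24920 (iv D41877)))
theorem Q25952 : ∀ i, i < 25952 → P i := stepQ 25951 Q25951 (allL N25951 (tt N26820 (iv F196942)) (tt N25008 F192897) (tt N26787 (iv F196798)) (tt N26829 (iv F196967)) (tt N24922 F192898) (tt N26395 (iv F194564)) (tt N26781 (iv F196776)) (tt N26825 (iv F196959)) (tt N24921 (iv D41878)) (tt N24925 F192899))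
theorem Q25953 : ∀ i, i < 25953 → P i := stepQ 25952 Q25952 (allL N25952 (tt N26770 (iv F196713)) (tt N25015 F192900) (tt N26497 (iv F195223)) (tt N24925 F192901) (tt N26495 (iv F195211)) (tt N26399 (iv F194594)) (tt N26494 F195206) (tt N26799 (iv F196851)) (tt N24924 (iv D41879)) (tt N26829 (iv F196968)))
theorem Q25954 : ∀ i, i < 25954 → P i := stepQ 25953 Q25953 (allL N25953 (tt N26439 (iv F194857)) (tt N24928 F192902) (tt N26376 (iv F194454)) (tt N25120 F192903) (tt N24926 (iv D41880)) (tt N25953 F192904) (tt N24952 F192905) (tt N25119 F192906) (tt N26830 D42757) (tt N25227 F192907))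
theorem Q25955 : ∀ i, i < 25955 → P i := stepQ 25954 Q25954 (allL N25954 (tt N26441 (iv F194870)) (tt N24929 F192908) (tt N26373 (iv F194433)) (tt N24927 F192909) (tt N26830 (iv F196971)) (tt N26604 (iv F195851)) (tt N24953 F192910) (tt N25228 F192911) (tt N24926 (iv D41881)) (tt N26831 D42758))
theorem Q25956 : ∀ i, i < 25956 → P i := stepQ 25955 Q25955 (allL N25955 (tt N26670 (iv F196249)) (tt N24932 F192912) (tt N26302 (iv F193959)) (tt N26831 (iv F196975)) (tt N25284 F192913) (tt N26616 (iv F195922)) (tt N24955 F192914) (tt N25229 F192915) (tt N26412 (iv F194681)) (tt N24927 (iv D41882)))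
theorem Q25957 : ∀ i, i < 25957 → P i := stepQ 25956 Q25956 (allL N25956 (tt N26319 (iv F194091)) (tt N26830 (iv F196969)) (tt N26642 (iv F196095)) (tt N26416 (iv F194709)) (tt N24929 F192916) (tt N26832 D42759) (tt N24959 F192917) (tt N25230 F192918) (tt N24928 (iv D41883)) (tt N26833 D42760))
theorem Q25958 : ∀ i, i < 25958 → P i := stepQ 25957 Q25957 (allL N25957 (tt N26320 (iv F194098)) (tt N26604 (iv F195848)) (tt N26345 (iv F194252)) (tt N24931 F192919) (tt N26834 D42761) (tt N24929 (iv D41884)) (tt N26329 (iv F194160)) (tt N25231 F192920) (tt N24930 F192921) (tt N26835 D42762))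
theorem Q25959 : ∀ i, i < 25959 → P i := stepQ 25958 Q25958 (allL N25958 (tt N26321 (iv F194105)) (tt N26831 (iv F196974)) (tt N26643 (iv F196101)) (tt N24932 F192922) (tt N26833 (iv F196981)) (tt N26835 (iv F196987)) (tt N24960 F192923) (tt N25232 F192924) (tt N26414 (iv F194696)) (tt N24929 (iv D41885)))
theorem Q25960 : ∀ i, i < 25960 → P i := stepQ 25959 Q25959 (allL N25959 (tt N26322 (iv F194112)) (tt N26607 (iv F195867)) (tt N26343 (iv F194240)) (tt N26836 D42763) (tt N24930 (iv D41886)) (tt N25959 F192925) (tt N26328 (iv F194153)) (tt N25233 F192926) (tt N26834 (iv F196985)) (tt N26327 F194147))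
theorem Q25961 : ∀ i, i < 25961 → P i := stepQ 25960 Q25960 (allL N25960 (tt N26323 (iv F194119)) (tt N26613 (iv F195904)) (tt N24939 F192927) (tt N26837 D42764) (tt N24931 (iv D41887)) (tt N26420 (iv F194737)) (tt N26838 D42765) (tt N25235 F192928) (tt N24933 F192929) (tt N26839 D42766))
theorem Q25962 : ∀ i, i < 25962 → P i := stepQ 25961 Q25961 (allL N25961 (tt N26324 (iv F194125)) (tt N26524 (iv F195397)) (tt N24940 F192930) (tt N26329 (iv F194158)) (tt N26838 (iv F196995)) (tt N24962 F192931) (tt N24931 (iv D41888)) (tt N26512 (iv F195329)) (tt N24934 F192932) (tt N26840 D42767))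
theorem Q25963 : ∀ i, i < 25963 → P i := stepQ 25962 Q25962 (allL N25962 (tt N26325 (iv F194132)) (tt N26616 (iv F195920)) (tt N24941 F192933) (tt N26835 (iv F196986)) (tt N26839 (iv F196998)) (tt N24932 F192934) (tt N26840 (iv F197002)) (tt N25236 F192935) (tt N26841 D42768) (tt N24931 (iv D41889)))
theorem Q25964 : ∀ i, i < 25964 → P i := stepQ 25963 Q25963 (allL N25963 (tt N26326 (iv F194137)) (tt N26618 (iv F195930)) (tt N26842 D42769) (tt N24933 (iv D41890)) (tt N26836 (iv F196989)) (tt N24936 F192936) (tt N26843 D42770) (tt N25237 F192937) (tt N26837 (iv F196993)) (tt N26844 D42771))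
theorem Q25965 : ∀ i, i < 25965 → P i := stepQ 25964 Q25964 (allL N25964 (tt N26327 (iv F194141)) (tt N26528 (iv F195419)) (tt N24943 F192938) (tt N26843 (iv F197010)) (tt N24934 F192939) (tt N25964 F192940) (tt N24933 (iv D41891)) (tt N26514 (iv F195340)) (tt N26838 (iv F196996)) (tt N26322 (iv F194118)))
theorem Q25966 : ∀ i, i < 25966 → P i := stepQ 25965 Q25965 (allL N25965 (tt N26328 (iv F194148)) (tt N26436 (iv F194835)) (tt N24944 F192941) (tt N26844 (iv F197012)) (tt N24935 F192942) (tt N24937 F192943) (tt N26322 (iv F194116)) (tt N25238 F192944) (tt N26845 D42772) (tt N24933 (iv D41892)))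
theorem Q25967 : ∀ i, i < 25967 → P i := stepQ 25966 Q25966 (allL N25966 (tt N26329 (iv F194155)) (tt N26619 (iv F195934)) (tt N24946 F192945) (tt N26324 (iv F194128)) (tt N26845 (iv F197016)) (tt N24975 F192946) (tt N26320 (iv F194102)) (tt N25239 F192947) (tt N24935 (iv D41893)) (tt N26841 (iv F197006)))
theorem Q25968 : ∀ i, i < 25968 → P i := stepQ 25967 Q25967 (allL N25967 (tt N26330 (iv F194162)) (tt N26846 D42773) (tt N24936 (iv D41894)) (tt N24947 F192948) (tt N25967 F192949) (tt N26842 (iv F197008)) (tt N25967 F192950) (tt N25240 F192951) (tt N26427 (iv F194782)) (tt N26847 D42774))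
theorem Q25969 : ∀ i, i < 25969 → P i := stepQ 25968 Q25968 (allL N25968 (tt N26331 (iv F194168)) (tt N26427 F194783) (tt N26847 (iv F197026)) (tt N24937 F192952) (tt N25968 F192953) (tt N26844 (iv F197013)) (tt N25968 F192954) (tt N25241 F192955) (tt N26846 (iv F197023)) (tt N24936 (iv D41895)))
theorem Q25970 : ∀ i, i < 25970 → P i := stepQ 25969 Q25969 (allL N25969 (tt N26332 (iv F194174)) (tt N24947 F192956) (tt N24949 F192957) (tt N26846 (iv F197019)) (tt N24938 F192958) (tt N26848 D42775) (tt N25969 F192959) (tt N25242 F192960) (tt N24937 (iv D41896)) (tt N26429 (iv F194800)))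
theorem Q25971 : ∀ i, i < 25971 → P i := stepQ 25970 Q25970 (allL N25970 (tt N26333 (iv F194181)) (tt N26483 (iv F195127)) (tt N26849 D42776) (tt N24939 (iv D41897)) (tt N26645 (iv F196116)) (tt N26430 (iv F194804)) (tt N26850 D42777) (tt N25243 F192961) (tt N24942 F192962) (tt N26851 D42778))
theorem Q25972 : ∀ i, i < 25972 → P i := stepQ 25971 Q25971 (allL N25971 (tt N26334 (iv F194187)) (tt N26484 (iv F195134)) (tt N26838 (iv F196994)) (tt N26850 (iv F197038)) (tt N24940 F192963) (tt N26852 D42779) (tt N24939 (iv D41898)) (tt N26853 D42780) (tt N24943 F192964) (tt N26854 D42781))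
theorem Q25973 : ∀ i, i < 25973 → P i := stepQ 25972 Q25972 (allL N25972 (tt N26335 (iv F194191)) (tt N26485 (iv F195138)) (tt N26839 (iv F196997)) (tt N26851 (iv F197040)) (tt N24941 F192965) (tt N26432 (iv F194814)) (tt N26854 (iv F197048)) (tt N25245 F192966) (tt N26855 D42782) (tt N24939 (iv D41899)))
theorem Q25974 : ∀ i, i < 25974 → P i := stepQ 25973 Q25973 (allL N25973 (tt N26336 (iv F194196)) (tt N26421 (iv F194741)) (tt N26512 (iv F195326)) (tt N26471 (iv F195060)) (tt N26853 (iv F197044)) (tt N24969 F192967) (tt N25246 F192968) (tt N24940 (iv D41900)) (tt N24945 F192969) (tt N26856 D42783))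
theorem Q25975 : ∀ i, i < 25975 → P i := stepQ 25974 Q25974 (allL N25974 (tt N26337 (iv F194203)) (tt N26486 (iv F195144)) (tt N26840 (iv F197000)) (tt N26647 (iv F196130)) (tt N26854 (iv F197047)) (tt N24970 F192970) (tt N24941 F192971) (tt N26856 (iv F197055)) (tt N26684 (iv F196333)) (tt N24940 (iv D41901)))
theorem Q25976 : ∀ i, i < 25976 → P i := stepQ 25975 Q25975 (allL N25975 (tt N26338 (iv F194208)) (tt N24986 F192972) (tt N26841 (iv F197003)) (tt N24979 F192973) (tt N26855 (iv F197050)) (tt N24977 F192974) (tt N26684 (iv F196332)) (tt N25248 F192975) (tt N24941 (iv D41902)) (tt N24946 F192976))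
theorem Q25977 : ∀ i, i < 25977 → P i := stepQ 25976 Q25976 (allL N25976 (tt N26339 (iv F194214)) (tt N26848 (iv F197032)) (tt N24942 (iv D41903)) (tt N26842 (iv F197007)) (tt N26648 (iv F196137)) (tt N24947 F192977) (tt N26857 D42784) (tt N25249 F192978) (tt N26849 (iv F197037)) (tt N26858 D42785))
theorem Q25978 : ∀ i, i < 25978 → P i := stepQ 25977 Q25977 (allL N25977 (tt N26340 (iv F194218)) (tt N26487 (iv F195150)) (tt N26857 (iv F197056)) (tt N24943 F192979) (tt N26402 F194614) (tt N25977 F192980) (tt N24942 (iv D41904)) (tt N26859 D42786) (tt N26850 (iv F197039)) (tt N26685 (iv F196339)))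
theorem Q25979 : ∀ i, i < 25979 → P i := stepQ 25978 Q25978 (allL N25978 (tt N26341 (iv F194224)) (tt N24987 F192981) (tt N26858 (iv F197058)) (tt N24944 F192982) (tt N24980 F192983) (tt N24948 F192984) (tt N26685 (iv F196338)) (tt N25251 F192985) (tt N26860 D42787) (tt N24942 (iv D41905)))
theorem Q25980 : ∀ i, i < 25980 → P i := stepQ 25979 Q25979 (allL N25979 (tt N26342 (iv F194231)) (tt N26424 (iv F194757)) (tt N26514 (iv F195337)) (tt N26859 (iv F197062)) (tt N24945 F192986) (tt N25979 F192987) (tt N25252 F192988) (tt N24943 (iv D41906)) (tt N26853 (iv F197046)) (tt N26465 (iv F195027)))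
theorem Q25981 : ∀ i, i < 25981 → P i := stepQ 25980 Q25980 (allL N25980 (tt N26344 (iv F194246)) (tt N24984 F192989) (tt N26845 (iv F197015)) (tt N26860 (iv F197066)) (tt N24946 F192990) (tt N26861 D42788) (tt N26683 (iv F196327)) (tt N25254 F192991) (tt N24944 (iv D41907)) (tt N26855 (iv F197052)))
theorem Q25982 : ∀ i, i < 25982 → P i := stepQ 25981 Q25981 (allL N25981 (tt N26347 (iv F194264)) (tt N26429 (iv F194794)) (tt N24948 F192992) (tt N26847 (iv F197027)) (tt N24950 F192993) (tt N26858 (iv F197060)) (tt N25981 F192994) (tt N25258 F192995) (tt N25326 F192996) (tt N24947 (iv D41908)))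
theorem Q25983 : ∀ i, i < 25983 → P i := stepQ 25982 Q25982 (allL N25982 (tt N26348 (iv F194271)) (tt N25032 F192997) (tt N26848 (iv F197033)) (tt N26515 (iv F195345)) (tt N25031 F192998) (tt N24949 (iv D41909)) (tt N26721 (iv F196490)) (tt N25259 F192999) (tt N26861 (iv F197072)) (tt N26442 (iv F194882)))
theorem Q25984 : ∀ i, i < 25984 → P i := stepQ 25983 Q25983 (allL N25983 (tt N26425 (iv F194763)) (tt N26621 (iv F195948)) (tt N24952 F193000) (tt N26862 D42789) (tt N24951 (iv D41910)) (tt N25025 F193001) (tt N26376 (iv F194457)) (tt N24974 F193002) (tt N26863 D42790) (tt N25146 F193003))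
theorem Q25985 : ∀ i, i < 25985 → P i := stepQ 25984 Q25984 (allL N25984 (tt N26426 (iv F194770)) (tt N26620 (iv F195941)) (tt N24953 F193004) (tt N26354 (iv F194314)) (tt N26863 (iv F197079)) (tt N25239 F193005) (tt N26373 (iv F194436)) (tt N24975 F193006) (tt N24951 (iv D41911)) (tt N26864 D42791))
theorem Q25986 : ∀ i, i < 25986 → P i := stepQ 25985 Q25985 (allL N25985 (tt N26440 (iv F194865)) (tt N24959 F193007) (tt N26863 (iv F197078)) (tt N25198 F193008) (tt N24953 F193009) (tt N26865 D42792) (tt N26830 (iv F196972)) (tt N24976 F193010) (tt N24952 (iv D41912)) (tt N26866 D42793))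
theorem Q25987 : ∀ i, i < 25987 → P i := stepQ 25986 Q25986 (allL N25986 (tt N26435 (iv F194828)) (tt N24960 F193011) (tt N26864 (iv F197081)) (tt N24955 F193012) (tt N26866 (iv F197092)) (tt N25248 F193013) (tt N26831 (iv F196976)) (tt N24977 F193014) (tt N25226 F193015) (tt N24953 (iv D41913)))
theorem Q25988 : ∀ i, i < 25988 → P i := stepQ 25987 Q25987 (allL N25987 (tt N26392 (iv F194546)) (tt N24961 F193016) (tt N26693 (iv F196372)) (tt N26867 D42794) (tt N24954 (iv D41914)) (tt N25006 F193017) (tt N26868 D42795) (tt N24978 F193018) (tt N24956 F193019) (tt N26869 D42796))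
theorem Q25989 : ∀ i, i < 25989 → P i := stepQ 25988 Q25988 (allL N25988 (tt N26482 (iv F195119)) (tt N24962 F193020) (tt N26476 (iv F195087)) (tt N25256 F193021) (tt N26868 (iv F197101)) (tt N26524 (iv F195400)) (tt N24954 (iv D41915)) (tt N26467 (iv F195039)) (tt N24957 F193022) (tt N26870 D42797))
theorem Q25990 : ∀ i, i < 25990 → P i := stepQ 25989 Q25989 (allL N25989 (tt N26478 (iv F195097)) (tt N24963 F193023) (tt N26695 (iv F196383)) (tt N25248 F193024) (tt N26869 (iv F197104)) (tt N24955 F193025) (tt N26870 (iv F197110)) (tt N24979 F193026) (tt N25090 F193027) (tt N24954 (iv D41916)))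
theorem Q25991 : ∀ i, i < 25991 → P i := stepQ 25990 Q25990 (allL N25990 (tt N26407 (iv F194641)) (tt N24964 F193028) (tt N26871 D42798) (tt N24956 (iv D41917)) (tt N25251 F193029) (tt N24958 F193030) (tt N26872 D42799) (tt N24980 F193031) (tt N26867 (iv F197099)) (tt N25091 F193032))
theorem Q25992 : ∀ i, i < 25992 → P i := stepQ 25991 Q25991 (allL N25991 (tt N26408 (iv F194647)) (tt N24965 F193033) (tt N26481 (iv F195114)) (tt N26872 (iv F197117)) (tt N24957 F193034) (tt N25991 F193035) (tt N24956 (iv D41918)) (tt N26470 (iv F195055)) (tt N26868 (iv F197102)) (tt N25092 F193036))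
theorem Q25993 : ∀ i, i < 25993 → P i := stepQ 25992 Q25992 (allL N25992 (tt N26346 (iv F194257)) (tt N26332 (iv F194175)) (tt N24958 (iv D41919)) (tt N26809 (iv F196891)) (tt N25024 F193037) (tt N26871 (iv F197113)) (tt N25992 F193038) (tt N24981 F193039) (tt N25023 F193040) (tt N25094 F193041))
theorem Q25994 : ∀ i, i < 25994 → P i := stepQ 25993 Q25993 (allL N25993 (tt N26349 (iv F194278)) (tt N26865 (iv F197085)) (tt N26545 F195516) (tt N26609 (iv F195884)) (tt N26548 (iv F195533)) (tt N24959 (iv D41920)) (tt N26873 D42800) (tt N24982 F193042) (tt N25028 F193043) (tt N26874 D42801))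
theorem Q25995 : ∀ i, i < 25995 → P i := stepQ 25994 Q25994 (allL N25994 (tt N26350 (iv F194285)) (tt N26866 (iv F197090)) (tt N26774 (iv F196737)) (tt N26744 (iv F196589)) (tt N24960 F193044) (tt N26874 (iv F197122)) (tt N26833 (iv F196982)) (tt N24983 F193045) (tt N26547 (iv F195530)) (tt N24959 (iv D41921)))
theorem Q25996 : ∀ i, i < 25996 → P i := stepQ 25995 Q25995 (allL N25995 (tt N26351 (iv F194292)) (tt N26867 (iv F197095)) (tt N26585 (iv F195738)) (tt N24961 (iv D41922)) (tt N26551 (iv F195552)) (tt N26569 (iv F195665)) (tt N26875 D42802) (tt N24990 F193046) (tt N24964 F193047) (tt N26876 D42803))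
theorem Q25997 : ∀ i, i < 25997 → P i := stepQ 25996 Q25996 (allL N25996 (tt N26352 (iv F194299)) (tt N26868 (iv F197100)) (tt N24967 F193048) (tt N26875 (iv F197124)) (tt N24962 F193049) (tt N26877 D42804) (tt N24961 (iv D41923)) (tt N26878 D42805) (tt N24965 F193050) (tt N26879 D42806))
theorem Q25998 : ∀ i, i < 25998 → P i := stepQ 25997 Q25997 (allL N25997 (tt N26353 (iv F194304)) (tt N26869 (iv F197103)) (tt N24968 F193051) (tt N26876 (iv F197126)) (tt N24963 F193052) (tt N26747 (iv F196611)) (tt N26879 (iv F197136)) (tt N24992 F193053) (tt N26546 (iv F195523)) (tt N24961 (iv D41924)))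
theorem Q25999 : ∀ i, i < 25999 → P i := stepQ 25998 Q25998 (allL N25998 (tt N26354 (iv F194311)) (tt N26467 (iv F195035)) (tt N24969 F193054) (tt N26426 (iv F194773)) (tt N26878 (iv F197131)) (tt N26512 (iv F195328)) (tt N24993 F193055) (tt N24962 (iv D41925)) (tt N24966 F193056) (tt N26880 D42807))
theorem Q26000 : ∀ i, i < 26000 → P i := stepQ 25999 Q25999 (allL N25999 (tt N26355 (iv F194318)) (tt N26870 (iv F197108)) (tt N24970 F193057) (tt N26450 (iv F194926)) (tt N26879 (iv F197135)) (tt N26840 (iv F197001)) (tt N24963 F193058) (tt N26880 (iv F197139)) (tt N26446 (iv F194904)) (tt N24962 (iv D41926)))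
theorem Q26001 : ∀ i, i < 26001 → P i := stepQ 26000 Q26000 (allL N26000 (tt N26356 (iv F194324)) (tt N26872 (iv F197116)) (tt N26589 (iv F195767)) (tt N24965 F193059) (tt N26452 (iv F194940)) (tt N26000 F193060) (tt N24964 (iv D41927)) (tt N26881 D42808) (tt N26875 (iv F197125)) (tt N26447 (iv F194910)))
theorem Q26002 : ∀ i, i < 26002 → P i := stepQ 26001 Q26001 (allL N26001 (tt N26357 (iv F194331)) (tt N26470 (iv F195051)) (tt N24972 F193061) (tt N26881 (iv F197140)) (tt N24966 F193062) (tt N26001 F193063) (tt N24998 F193064) (tt N24965 (iv D41928)) (tt N26878 (iv F197133)) (tt N26419 (iv F194733)))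
theorem Q26003 : ∀ i, i < 26003 → P i := stepQ 26002 Q26002 (allL N26002 (tt N26358 (iv F194338)) (tt N26823 (iv F196952)) (tt N26877 (iv F197128)) (tt N26803 (iv F196864)) (tt N26852 (iv F197042)) (tt N24967 (iv D41929)) (tt N26752 (iv F196635)) (tt N26882 D42809) (tt N26002 F193065) (tt N26883 D42810))
theorem Q26004 : ∀ i, i < 26004 → P i := stepQ 26003 Q26003 (allL N26003 (tt N26359 (iv F194343)) (tt N26746 (iv F196602)) (tt N26878 (iv F197130)) (tt N26804 (iv F196867)) (tt N24969 F193066) (tt N26882 (iv F197143)) (tt N25006 F193067) (tt N24967 (iv D41930)) (tt N24972 F193068) (tt N26884 D42811))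
theorem Q26005 : ∀ i, i < 26005 → P i := stepQ 26004 Q26004 (allL N26004 (tt N26360 (iv F194349)) (tt N26824 (iv F196954)) (tt N26879 (iv F197134)) (tt N26805 (iv F196872)) (tt N24970 F193069) (tt N26883 (iv F197145)) (tt N24968 F193070) (tt N26884 (iv F197148)) (tt N26712 (iv F196452)) (tt N24967 (iv D41931)))
theorem Q26006 : ∀ i, i < 26006 → P i := stepQ 26005 Q26005 (allL N26005 (tt N26361 (iv F194354)) (tt N26825 (iv F196957)) (tt N26546 (iv F195519)) (tt N26806 (iv F196876)) (tt N24971 F193071) (tt N26773 (iv F196734)) (tt N26712 (iv F196451)) (tt N25008 F193072) (tt N24968 (iv D41932)) (tt N24973 F193073))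
theorem Q26007 : ∀ i, i < 26007 → P i := stepQ 26006 Q26006 (allL N26006 (tt N26362 (iv F194362)) (tt N26748 (iv F196614)) (tt N26880 (iv F197137)) (tt N26667 (iv F196230)) (tt N26884 (iv F197146)) (tt N26856 (iv F197053)) (tt N25009 F193074) (tt N24970 F193075) (tt N26665 (iv F196220)) (tt N24969 (iv D41933)))
theorem Q26008 : ∀ i, i < 26008 → P i := stepQ 26007 Q26007 (allL N26007 (tt N26452 (iv F194936)) (tt N25301 F193076) (tt N25193 F193077) (tt N24974 (iv D41934)) (tt N26356 (iv F194328)) (tt N25029 F193078) (tt N25145 F193079) (tt N26862 (iv F197076)) (tt N26885 D42812) (tt N25144 F193080))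
theorem Q26009 : ∀ i, i < 26009 → P i := stepQ 26008 Q26008 (allL N26008 (tt N26453 (iv F194943)) (tt N26814 (iv F196912)) (tt N24976 F193081) (tt N26885 (iv F197151)) (tt N24975 F193082) (tt N26886 D42813) (tt N25147 F193083) (tt N26863 (iv F197080)) (tt N24974 (iv D41935)) (tt N26887 D42814))
theorem Q26010 : ∀ i, i < 26010 → P i := stepQ 26009 Q26009 (allL N26009 (tt N26450 (iv F194923)) (tt N26815 (iv F196917)) (tt N24977 F193084) (tt N26355 (iv F194321)) (tt N26887 (iv F197156)) (tt N26841 (iv F197004)) (tt N25142 F193085) (tt N26864 (iv F197083)) (tt N25141 F193086) (tt N24975 (iv D41936)))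
theorem Q26011 : ∀ i, i < 26011 → P i := stepQ 26010 Q26010 (allL N26010 (tt N26461 (iv F194995)) (tt N24982 F193087) (tt N26886 (iv F197153)) (tt N25197 F193088) (tt N26861 (iv F197070)) (tt N24976 (iv D41937)) (tt N26722 (iv F196494)) (tt N26865 (iv F197088)) (tt N25031 F193089) (tt N26888 D42815))
theorem Q26012 : ∀ i, i < 26012 → P i := stepQ 26011 Q26011 (allL N26011 (tt N26459 (iv F194982)) (tt N24983 F193090) (tt N26887 (iv F197155)) (tt N25199 F193091) (tt N24977 F193092) (tt N26888 (iv F197161)) (tt N25196 F193093) (tt N26866 (iv F197093)) (tt N26415 (iv F194705)) (tt N24976 (iv D41938)))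
theorem Q26013 : ∀ i, i < 26013 → P i := stepQ 26012 Q26012 (allL N26012 (tt N26388 (iv F194522)) (tt N24990 F193094) (tt N26889 D42816) (tt N24978 (iv D41939)) (tt N26860 (iv F197067)) (tt N25004 F193095) (tt N26686 (iv F196343)) (tt N26867 (iv F197098)) (tt N24980 F193096) (tt N26890 D42817))
theorem Q26014 : ∀ i, i < 26014 → P i := stepQ 26013 Q26013 (allL N26013 (tt N26393 (iv F194551)) (tt N24992 F193097) (tt N26694 (iv F196377)) (tt N26890 (iv F197165)) (tt N24979 F193098) (tt N25007 F193099) (tt N26687 (iv F196350)) (tt N26869 (iv F197106)) (tt N26646 (iv F196126)) (tt N24978 (iv D41940)))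
theorem Q26015 : ∀ i, i < 26015 → P i := stepQ 26014 Q26014 (allL N26014 (tt N26406 (iv F194636)) (tt N26729 (iv F196526)) (tt N24980 (iv D41941)) (tt N26697 (iv F196392)) (tt N26858 (iv F197059)) (tt N24981 F193100) (tt N26688 (iv F196354)) (tt N26871 (iv F197114)) (tt N26889 (iv F197163)) (tt N26648 (iv F196140)))
theorem Q26016 : ∀ i, i < 26016 → P i := stepQ 26015 Q26015 (allL N26015 (tt N26367 (iv F194395)) (tt N26861 (iv F197069)) (tt N26483 F195132) (tt N26530 (iv F195435)) (tt N24982 (iv D41942)) (tt N24984 F193101) (tt N26891 D42818) (tt N26548 (iv F195535)) (tt N25032 F193102) (tt N26892 D42819))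
theorem Q26017 : ∀ i, i < 26017 → P i := stepQ 26016 Q26016 (allL N26016 (tt N26368 (iv F194402)) (tt N26722 (iv F196492)) (tt N26817 (iv F196928)) (tt N26715 F196470) (tt N26891 (iv F197167)) (tt N25306 F193103) (tt N24982 (iv D41943)) (tt N26893 D42820) (tt N25033 F193104) (tt N26894 D42821))
theorem Q26018 : ∀ i, i < 26018 → P i := stepQ 26017 Q26017 (allL N26017 (tt N26369 (iv F194408)) (tt N26888 (iv F197159)) (tt N26818 (iv F196933)) (tt N26778 (iv F196753)) (tt N26892 (iv F197169)) (tt N24983 F193105) (tt N26894 (iv F197175)) (tt N26874 (iv F197123)) (tt N26895 D42822) (tt N24982 (iv D41944)))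
theorem Q26019 : ∀ i, i < 26019 → P i := stepQ 26018 Q26018 (allL N26018 (tt N26370 (iv F194413)) (tt N26860 (iv F197065)) (tt N26521 (iv F195383)) (tt N24984 (iv D41945)) (tt N24990 F193106) (tt N26530 (iv F195437)) (tt N26896 D42823) (tt N26551 (iv F195554)) (tt N24987 F193107) (tt N26897 D42824))
theorem Q26020 : ∀ i, i < 26020 → P i := stepQ 26019 Q26019 (allL N26019 (tt N26371 (iv F194420)) (tt N26683 (iv F196326)) (tt N26532 (iv F195447)) (tt N26896 (iv F197179)) (tt N24985 F193108) (tt N26898 D42825) (tt N24984 (iv D41946)) (tt N26899 D42826) (tt N24988 F193109) (tt N26900 D42827))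
theorem Q26021 : ∀ i, i < 26021 → P i := stepQ 26020 Q26020 (allL N26020 (tt N26372 (iv F194425)) (tt N26855 (iv F197049)) (tt N26533 (iv F195452)) (tt N26897 (iv F197182)) (tt N24986 F193110) (tt N26892 (iv F197170)) (tt N26900 (iv F197189)) (tt N26550 (iv F195546)) (tt N26485 (iv F195142)) (tt N24984 (iv D41947)))
theorem Q26022 : ∀ i, i < 26022 → P i := stepQ 26021 Q26021 (allL N26021 (tt N26373 (iv F194431)) (tt N26463 (iv F195008)) (tt N26441 (iv F194872)) (tt N24993 F193111) (tt N26899 (iv F197186)) (tt N25310 F193112) (tt N26426 (iv F194775)) (tt N24985 (iv D41948)) (tt N24989 F193113) (tt N26901 D42828))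
theorem Q26023 : ∀ i, i < 26023 → P i := stepQ 26022 Q26022 (allL N26022 (tt N26374 (iv F194438)) (tt N26684 (iv F196329)) (tt N26767 (iv F196701)) (tt N24994 F193114) (tt N26900 (iv F197188)) (tt N25311 F193115) (tt N24986 F193116) (tt N26901 (iv F197192)) (tt N26486 (iv F195148)) (tt N24985 (iv D41949)))
theorem Q26024 : ∀ i, i < 26024 → P i := stepQ 26023 Q26023 (allL N26023 (tt N26375 (iv F194445)) (tt N26685 (iv F196335)) (tt N26527 (iv F195413)) (tt N24988 F193117) (tt N24997 F193118) (tt N26023 F193119) (tt N24987 (iv D41950)) (tt N26902 D42829) (tt N26896 (iv F197181)) (tt N26487 (iv F195155)))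
theorem Q26025 : ∀ i, i < 26025 → P i := stepQ 26024 Q26024 (allL N26024 (tt N26376 (iv F194452)) (tt N26465 (iv F195022)) (tt N26439 (iv F194859)) (tt N26902 (iv F197193)) (tt N24989 F193120) (tt N26024 F193121) (tt N26425 (iv F194768)) (tt N24988 (iv D41951)) (tt N26899 (iv F197187)) (tt N26424 F194762))
theorem Q26026 : ∀ i, i < 26026 → P i := stepQ 26025 Q26025 (allL N26025 (tt N26377 (iv F194459)) (tt N26743 (iv F196584)) (tt N24990 (iv D41952)) (tt N25003 F193122) (tt N26521 (iv F195384)) (tt N26503 (iv F195266)) (tt N26903 D42830) (tt N26585 (iv F195741)) (tt N24996 F193123) (tt N26895 (iv F197178)))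
theorem Q26027 : ∀ i, i < 26027 → P i := stepQ 26026 Q26026 (allL N26026 (tt N26378 (iv F194466)) (tt N26686 (iv F196341)) (tt N26903 (iv F197196)) (tt N24991 F193124) (tt N26896 (iv F197180)) (tt N26691 (iv F196366)) (tt N24990 (iv D41953)) (tt N26904 D42831) (tt N24997 F193125) (tt N26905 D42832))
theorem Q26028 : ∀ i, i < 26028 → P i := stepQ 26027 Q26027 (allL N26027 (tt N26379 (iv F194470)) (tt N26890 (iv F197164)) (tt N26895 (iv F197176)) (tt N24992 F193126) (tt N26897 (iv F197183)) (tt N26780 (iv F196770)) (tt N26905 (iv F197202)) (tt N26876 (iv F197127)) (tt N26818 (iv F196936)) (tt N24990 (iv D41954)))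
theorem Q26029 : ∀ i, i < 26029 → P i := stepQ 26028 Q26028 (allL N26028 (tt N26381 (iv F194481)) (tt N26466 (iv F195029)) (tt N25006 F193127) (tt N26904 (iv F197199)) (tt N24993 F193128) (tt N26693 (iv F196374)) (tt N26878 (iv F197132)) (tt N24991 (iv D41955)) (tt N24998 F193129) (tt N26906 D42833))
theorem Q26030 : ∀ i, i < 26030 → P i := stepQ 26029 Q26029 (allL N26029 (tt N26382 (iv F194486)) (tt N26687 (iv F196346)) (tt N25007 F193130) (tt N26905 (iv F197201)) (tt N24994 F193131) (tt N26694 (iv F196379)) (tt N24992 F193132) (tt N26906 (iv F197205)) (tt N26907 D42834) (tt N24991 (iv D41956)))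
theorem Q26031 : ∀ i, i < 26031 → P i := stepQ 26030 Q26030 (allL N26030 (tt N25214 F193133) (tt N26646 (iv F196121)) (tt N25008 F193134) (tt N26818 (iv F196934)) (tt N24995 F193135) (tt N26310 (iv F194025)) (tt N26907 (iv F197210)) (tt N26546 (iv F195522)) (tt N24992 (iv D41957)) (tt N25000 F193136))
theorem Q26032 : ∀ i, i < 26032 → P i := stepQ 26031 Q26031 (allL N26031 (tt N26383 (iv F194492)) (tt N26468 (iv F195042)) (tt N25009 F193137) (tt N26901 (iv F197190)) (tt N26906 (iv F197204)) (tt N25315 F193138) (tt N26880 (iv F197138)) (tt N24994 F193139) (tt N26908 D42835) (tt N24993 (iv D41958)))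
theorem Q26033 : ∀ i, i < 26033 → P i := stepQ 26032 Q26032 (allL N26032 (tt N25216 F193140) (tt N26647 (iv F196128)) (tt N25010 F193141) (tt N26486 (iv F195145)) (tt N26907 (iv F197208)) (tt N26639 (iv F196074)) (tt N24995 F193142) (tt N26908 (iv F197214)) (tt N24994 (iv D41959)) (tt N25002 F193143))
theorem Q26034 : ∀ i, i < 26034 → P i := stepQ 26033 Q26033 (allL N26033 (tt N26384 (iv F194498)) (tt N26726 (iv F196509)) (tt N24997 F193144) (tt N25012 F193145) (tt N26527 (iv F195415)) (tt N25020 F193146) (tt N24996 (iv D41960)) (tt N26909 D42836) (tt N26903 (iv F197198)) (tt N25033 F193147))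
theorem Q26035 : ∀ i, i < 26035 → P i := stepQ 26034 Q26034 (allL N26034 (tt N26385 (iv F194505)) (tt N26469 (iv F195047)) (tt N26909 (iv F197216)) (tt N24998 F193148) (tt N26902 (iv F197194)) (tt N25021 F193149) (tt N26881 (iv F197142)) (tt N24997 (iv D41961)) (tt N26904 (iv F197200)) (tt N26819 (iv F196941)))
theorem Q26036 : ∀ i, i < 26036 → P i := stepQ 26035 Q26035 (allL N26035 (tt N25218 F193150) (tt N26404 (iv F194623)) (tt N25016 F193151) (tt N26819 (iv F196939)) (tt N25001 F193152) (tt N25022 F193153) (tt N26419 (iv F194731)) (tt N24999 F193154) (tt N26910 D42837) (tt N24998 (iv D41962)))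
theorem Q26037 : ∀ i, i < 26037 → P i := stepQ 26036 Q26036 (allL N26036 (tt N25213 F193155) (tt N26380 (iv F194476)) (tt N25017 F193156) (tt N26817 (iv F196929)) (tt N25002 F193157) (tt N25304 F193158) (tt N25000 F193159) (tt N26910 (iv F197224)) (tt N24999 (iv D41963)) (tt N26907 (iv F197211)))
theorem Q26038 : ∀ i, i < 26038 → P i := stepQ 26037 Q26037 (allL N26037 (tt N25215 F193160) (tt N26471 (iv F195058)) (tt N25019 F193161) (tt N26421 (iv F194743)) (tt N26910 (iv F197222)) (tt N26638 (iv F196066)) (tt N26417 F194719) (tt N25002 F193162) (tt N25001 (iv D41964)) (tt N26908 (iv F197215)))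
theorem Q26039 : ∀ i, i < 26039 → P i := stepQ 26038 Q26038 (allL N26038 (tt N26599 (iv F195820)) (tt N25003 (iv D41965)) (tt N26742 (iv F196580)) (tt N26743 (iv F196585)) (tt N26509 F195313) (tt N26741 (iv F196577)) (tt N26727 (iv F196517)) (tt N26595 (iv F195804)) (tt N25011 F193163) (tt N26911 D42838))
theorem Q26040 : ∀ i, i < 26040 → P i := stepQ 26039 Q26039 (allL N26039 (tt N26386 (iv F194510)) (tt N26727 (iv F196514)) (tt N25004 F193164) (tt N26903 (iv F197197)) (tt N26519 (iv F195371)) (tt N26889 (iv F197162)) (tt N25003 (iv D41966)) (tt N26912 D42839) (tt N25012 F193165) (tt N26913 D42840))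
theorem Q26041 : ∀ i, i < 26041 → P i := stepQ 26040 Q26040 (allL N26040 (tt N26387 (iv F194515)) (tt N26911 (iv F197225)) (tt N25005 F193166) (tt N26895 (iv F197177)) (tt N26520 (iv F195378)) (tt N26783 (iv F196784)) (tt N26913 (iv F197231)) (tt N26603 (iv F195846)) (tt N26778 (iv F196756)) (tt N25003 (iv D41967)))
theorem Q26042 : ∀ i, i < 26042 → P i := stepQ 26041 Q26041 (allL N26041 (tt N26389 (iv F194527)) (tt N26569 (iv F195661)) (tt N26912 (iv F197227)) (tt N25006 F193167) (tt N26505 (iv F195281)) (tt N26867 (iv F197097)) (tt N26804 (iv F196869)) (tt N25004 (iv D41968)) (tt N25013 F193168) (tt N26914 D42841))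
theorem Q26043 : ∀ i, i < 26043 → P i := stepQ 26042 Q26042 (allL N26042 (tt N26390 (iv F194533)) (tt N26780 (iv F196767)) (tt N26913 (iv F197230)) (tt N25007 F193169) (tt N26590 (iv F195775)) (tt N26890 (iv F197166)) (tt N25005 F193170) (tt N26914 (iv F197233)) (tt N26915 D42842) (tt N25004 (iv D41969)))
theorem Q26044 : ∀ i, i < 26044 → P i := stepQ 26043 Q26043 (allL N26043 (tt N26391 (iv F194538)) (tt N26829 (iv F196966)) (tt N26778 (iv F196752)) (tt N25008 F193171) (tt N26766 (iv F196696)) (tt N26558 (iv F195593)) (tt N26915 (iv F197235)) (tt N26806 (iv F196878)) (tt N25005 (iv D41970)) (tt N25015 F193172))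
theorem Q26045 : ∀ i, i < 26045 → P i := stepQ 26044 Q26044 (allL N26044 (tt N26394 (iv F194557)) (tt N26747 (iv F196608)) (tt N26906 (iv F197203)) (tt N26914 (iv F197232)) (tt N25009 F193173) (tt N26869 (iv F197105)) (tt N26884 (iv F197147)) (tt N25007 F193174) (tt N26916 D42843) (tt N25006 (iv D41971)))
theorem Q26046 : ∀ i, i < 26046 → P i := stepQ 26045 Q26045 (allL N26045 (tt N26395 (iv F194560)) (tt N26781 (iv F196773)) (tt N26907 (iv F197207)) (tt N26915 (iv F197234)) (tt N25010 F193175) (tt N26820 (iv F196945)) (tt N25008 F193176) (tt N26916 (iv F197238)) (tt N25007 (iv D41972)) (tt N25017 F193177))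
theorem Q26047 : ∀ i, i < 26047 → P i := stepQ 26046 Q26046 (allL N26046 (tt N26314 (iv F194052)) (tt N26395 (iv F194561)) (tt N26310 (iv F194022)) (tt N26558 (iv F195591)) (tt N26309 (iv F194015)) (tt N25008 (iv D41973)) (tt N26317 (iv F194080)) (tt N26773 (iv F196735)) (tt N26316 (iv F194074)) (tt N25018 F193178))
theorem Q26048 : ∀ i, i < 26048 → P i := stepQ 26047 Q26047 (allL N26047 (tt N26396 (iv F194567)) (tt N26749 (iv F196619)) (tt N26908 (iv F197213)) (tt N26666 (iv F196224)) (tt N26916 (iv F197237)) (tt N26765 (iv F196689)) (tt N26665 (iv F196218)) (tt N25010 F193179) (tt N25009 (iv D41974)) (tt N25019 F193180))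
theorem Q26049 : ∀ i, i < 26049 → P i := stepQ 26048 Q26048 (allL N26048 (tt N26397 (iv F194574)) (tt N26328 (iv F194149)) (tt N25013 F193181) (tt N26909 (iv F197217)) (tt N25257 F193182) (tt N25023 F193183) (tt N26607 (iv F195871)) (tt N25012 (iv D41975)) (tt N26912 (iv F197229)) (tt N25287 F193184))
theorem Q26050 : ∀ i, i < 26050 → P i := stepQ 26049 Q26049 (allL N26049 (tt N26399 (iv F194589)) (tt N26494 (iv F195200)) (tt N26715 (iv F196465)) (tt N25017 F193185) (tt N26490 F195178) (tt N26770 (iv F196718)) (tt N25015 F193186) (tt N26554 (iv F195569)) (tt N25014 (iv D41976)) (tt N26915 (iv F197236)))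
theorem Q26051 : ∀ i, i < 26051 → P i := stepQ 26050 Q26050 (allL N26050 (tt N26400 (iv F194596)) (tt N26560 (iv F195605)) (tt N26910 (iv F197221)) (tt N26554 (iv F195568)) (tt N25019 F193187) (tt N26678 (iv F196310)) (tt N26664 (iv F196213)) (tt N25017 F193188) (tt N25016 (iv D41977)) (tt N26916 (iv F197239)))
theorem Q26052 : ∀ i, i < 26052 → P i := stepQ 26051 Q26051 (allL N26051 (tt N26405 (iv F194629)) (tt N26331 (iv F194169)) (tt N25021 F193189) (tt N25023 F193190) (tt N26051 F193191) (tt N26909 (iv F197218)) (tt N26051 F193192) (tt N25020 (iv D41978)) (tt N26809 (iv F196894)) (tt N25034 F193193))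
theorem Q26053 : ∀ i, i < 26053 → P i := stepQ 26052 Q26052 (allL N26052 (tt N26428 (iv F194785)) (tt N25317 F193194) (tt N25203 F193195) (tt N25025 (iv D41979)) (tt N26052 F193196) (tt N26862 (iv F197075)) (tt N26052 F193197) (tt N25029 F193198) (tt N26808 (iv F196889)) (tt N25202 F193199))
theorem Q26054 : ∀ i, i < 26054 → P i := stepQ 26053 Q26053 (allL N26053 (tt N26429 (iv F194793)) (tt N25094 F193200) (tt N25027 F193201) (tt N26808 (iv F196886)) (tt N25026 F193202) (tt N26917 D42844) (tt N26053 F193203) (tt N25030 F193204) (tt N25025 (iv D41980)) (tt N26332 (iv F194180)))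
theorem Q26055 : ∀ i, i < 26055 → P i := stepQ 26054 Q26054 (allL N26054 (tt N26442 (iv F194877)) (tt N25028 F193205) (tt N26917 (iv F197241)) (tt N25204 F193206) (tt N25259 F193207) (tt N25027 (iv D41981)) (tt N26918 D42845) (tt N25031 F193208) (tt N26865 (iv F197089)) (tt N26348 (iv F194276)))
theorem Q26056 : ∀ i, i < 26056 → P i := stepQ 26055 Q26055 (allL N26055 (tt N26409 (iv F194654)) (tt N26918 (iv F197244)) (tt N26447 F194911) (tt N26608 (iv F195876)) (tt N26451 (iv F194931)) (tt N26055 F193209) (tt N25028 (iv D41982)) (tt N26919 D42846) (tt N26873 (iv F197121)) (tt N26589 (iv F195771)))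
theorem Q26057 : ∀ i, i < 26057 → P i := stepQ 26056 Q26056 (allL N26056 (tt N26454 (iv F194948)) (tt N26648 (iv F196135)) (tt N25031 F193210) (tt N26738 (iv F196563)) (tt N26848 (iv F197034)) (tt N25030 (iv D41983)) (tt N26725 (iv F196507)) (tt N26917 (iv F197243)) (tt N26886 (iv F197154)) (tt N26729 (iv F196528)))
theorem Q26058 : ∀ i, i < 26058 → P i := stepQ 26057 Q26057 (allL N26057 (tt N26410 (iv F194661)) (tt N26721 (iv F196487)) (tt N26487 (iv F195151)) (tt N26529 (iv F195428)) (tt N25033 F193211) (tt N26057 F193212) (tt N25032 (iv D41984)) (tt N26920 D42847) (tt N26891 (iv F197168)) (tt N26527 (iv F195417)))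
theorem Q26059 : ∀ i, i < 26059 → P i := stepQ 26058 Q26058 (allL N26058 (tt N26411 (iv F194668)) (tt N26326 (iv F194138)) (tt N26819 (iv F196938)) (tt N25287 F193213) (tt N26920 (iv F197253)) (tt N25034 F193214) (tt N26919 (iv F197251)) (tt N25033 (iv D41985)) (tt N26893 (iv F197173)) (tt N26909 (iv F197219)))
theorem Q26060 : ∀ i, i < 26060 → P i := stepQ 26059 Q26059 (allL N26059 (tt N26666 (iv F196221)) (tt N25036 F193215) (tt N26412 (iv F194675)) (tt N26396 (iv F194570)) (tt N26491 (iv F195181)) (tt N26771 (iv F196723)) (tt N26631 (iv F196015)) (tt N26303 (iv F193972)) (tt N26302 (iv F193965)) (tt N25035 (iv D41986)))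
theorem Q26061 : ∀ i, i < 26061 → P i := stepQ 26060 Q26060 (allL N26060 (tt N26779 (iv F196757)) (tt N25038 F193216) (tt N25099 F193217) (tt N25290 F193218) (tt N25149 F193219) (tt N25312 F193220) (tt N26544 (iv F195507)) (tt N25071 F193221) (tt N25132 F193222) (tt N25037 (iv D41987)))
theorem Q26062 : ∀ i, i < 26062 → P i := stepQ 26061 Q26061 (allL N26061 (tt N26547 (iv F195524)) (tt N25115 F193223) (tt N26313 (iv F194045)) (tt N25281 F193224) (tt N25040 F193225) (tt N25158 F193226) (tt N26444 (iv F194892)) (tt N25076 F193227) (tt N26350 (iv F194291)) (tt N25039 (iv D41988)))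
theorem Q26063 : ∀ i, i < 26063 → P i := stepQ 26062 Q26062 (allL N26062 (tt N26559 (iv F195596)) (tt N25045 F193228) (tt N25132 F193229) (tt N25154 F193230) (tt N25071 F193231) (tt N25151 F193232) (tt N26628 (iv F195993)) (tt N25149 F193233) (tt N25099 F193234) (tt N25041 (iv D41989)))
theorem Q26064 : ∀ i, i < 26064 → P i := stepQ 26063 Q26063 (allL N26063 (tt N26492 (iv F195185)) (tt N25152 F193235) (tt N25261 F193236) (tt N25072 F193237) (tt N25043 F193238) (tt N25314 F193239) (tt N26629 (iv F196001)) (tt N25150 F193240) (tt N25042 (iv D41990)) (tt N26921 D42848))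
theorem Q26065 : ∀ i, i < 26065 → P i := stepQ 26064 Q26064 (allL N26064 (tt N26493 (iv F195192)) (tt N25154 F193241) (tt N25262 F193242) (tt N25045 F193243) (tt N26921 (iv F197258)) (tt N25149 F193244) (tt N26630 (iv F196007)) (tt N25151 F193245) (tt N25103 F193246) (tt N25043 (iv D41991)))
theorem Q26066 : ∀ i, i < 26066 → P i := stepQ 26065 Q26065 (allL N26065 (tt N26494 (iv F195199)) (tt N25150 F193247) (tt N25047 F193248) (tt N25291 F193249) (tt N25044 (iv D41992)) (tt N25074 F193250) (tt N26770 (iv F196719)) (tt N25152 F193251) (tt N25046 F193252) (tt N26922 D42849))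
theorem Q26067 : ∀ i, i < 26067 → P i := stepQ 26066 Q26066 (allL N26066 (tt N26496 (iv F195215)) (tt N25151 F193253) (tt N25049 F193254) (tt N25149 F193255) (tt N26922 (iv F197265)) (tt N25045 F193256) (tt N26771 (iv F196724)) (tt N25154 F193257) (tt N25175 F193258) (tt N25044 (iv D41993)))
theorem Q26068 : ∀ i, i < 26068 → P i := stepQ 26067 Q26067 (allL N26067 (tt N26497 (iv F195221)) (tt N25138 F193259) (tt N26770 (iv F196715)) (tt N25306 F193260) (tt N25048 F193261) (tt N26715 (iv F196466)) (tt N25047 (iv D41994)) (tt N26923 D42850) (tt N25050 F193262) (tt N26924 D42851))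
theorem Q26069 : ∀ i, i < 26069 → P i := stepQ 26068 Q26068 (allL N26068 (tt N26498 (iv F195228)) (tt N25139 F193263) (tt N26922 (iv F197263)) (tt N25307 F193264) (tt N25049 F193265) (tt N25076 F193266) (tt N26924 (iv F197278)) (tt N25158 F193267) (tt N26925 D42852) (tt N25047 (iv D41995)))
theorem Q26070 : ∀ i, i < 26070 → P i := stepQ 26069 Q26069 (allL N26069 (tt N26499 (iv F195234)) (tt N25140 F193268) (tt N26304 (iv F193976)) (tt N25270 F193269) (tt N26923 (iv F197271)) (tt N25220 F193270) (tt N25159 F193271) (tt N25048 (iv D41996)) (tt N25052 F193272) (tt N26926 D42853))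
theorem Q26071 : ∀ i, i < 26071 → P i := stepQ 26070 Q26070 (allL N26070 (tt N26500 (iv F195241)) (tt N25141 F193273) (tt N26771 (iv F196721)) (tt N25271 F193274) (tt N26924 (iv F197277)) (tt N26412 (iv F194678)) (tt N25049 F193275) (tt N26926 (iv F197289)) (tt N26815 (iv F196921)) (tt N25048 (iv D41997)))
theorem Q26072 : ∀ i, i < 26072 → P i := stepQ 26071 Q26071 (allL N26071 (tt N26501 (iv F195246)) (tt N25142 F193276) (tt N25175 F193277) (tt N25272 F193278) (tt N26925 (iv F197282)) (tt N25118 F193279) (tt N26815 (iv F196920)) (tt N25161 F193280) (tt N25049 (iv D41998)) (tt N25053 F193281))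
theorem Q26073 : ∀ i, i < 26073 → P i := stepQ 26072 Q26072 (allL N26072 (tt N26502 (iv F195253)) (tt N25146 F193282) (tt N26305 (iv F193983)) (tt N25316 F193283) (tt N25052 F193284) (tt N25077 F193285) (tt N25165 F193286) (tt N25050 (iv D41999)) (tt N26923 (iv F197274)) (tt N26621 (iv F195953)))
theorem Q26074 : ∀ i, i < 26074 → P i := stepQ 26073 Q26073 (allL N26073 (tt N26503 (iv F195261)) (tt N25147 F193287) (tt N25174 F193288) (tt N25292 F193289) (tt N25053 F193290) (tt N26377 (iv F194463)) (tt N26814 (iv F196916)) (tt N25167 F193291) (tt N25051 (iv D42000)) (tt N26925 (iv F197284)))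
theorem Q26075 : ∀ i, i < 26075 → P i := stepQ 26074 Q26074 (allL N26074 (tt N26745 (iv F196593)) (tt N25058 F193292) (tt N25149 F193293) (tt N25265 F193294) (tt N25099 F193295) (tt N25262 F193296) (tt N26671 (iv F196262)) (tt N25132 F193297) (tt N25071 F193298) (tt N25054 (iv D42001)))
theorem Q26076 : ∀ i, i < 26076 → P i := stepQ 26075 Q26075 (allL N26075 (tt N26315 (iv F194060)) (tt N25263 F193299) (tt N25210 F193300) (tt N25101 F193301) (tt N25056 F193302) (tt N25276 F193303) (tt N26672 (iv F196270)) (tt N25133 F193304) (tt N25055 (iv D42002)) (tt N26927 D42854))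
theorem Q26077 : ∀ i, i < 26077 → P i := stepQ 26076 Q26076 (allL N26076 (tt N26318 (iv F194083)) (tt N25265 F193305) (tt N25211 F193306) (tt N25058 F193307) (tt N26927 (iv F197293)) (tt N25260 F193308) (tt N26673 (iv F196277)) (tt N25134 F193309) (tt N25073 F193310) (tt N25056 (iv D42003)))
theorem Q26078 : ∀ i, i < 26078 → P i := stepQ 26077 Q26077 (allL N26077 (tt N26457 (iv F194967)) (tt N25261 F193311) (tt N25061 F193312) (tt N25122 F193313) (tt N25057 (iv D42004)) (tt N25104 F193314) (tt N26928 D42855) (tt N25135 F193315) (tt N25059 F193316) (tt N26929 D42856))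
theorem Q26079 : ∀ i, i < 26079 → P i := stepQ 26078 Q26078 (allL N26078 (tt N26433 (iv F194816)) (tt N25222 F193317) (tt N25062 F193318) (tt N25220 F193319) (tt N26928 (iv F197300)) (tt N25270 F193320) (tt N25057 (iv D42005)) (tt N25225 F193321) (tt N25060 F193322) (tt N26930 D42857))
theorem Q26080 : ∀ i, i < 26080 → P i := stepQ 26079 Q26079 (allL N26079 (tt N26460 (iv F194988)) (tt N25262 F193323) (tt N25063 F193324) (tt N25260 F193325) (tt N26929 (iv F197306)) (tt N25058 F193326) (tt N26930 (iv F197314)) (tt N25136 F193327) (tt N25280 F193328) (tt N25057 (iv D42006)))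
theorem Q26081 : ∀ i, i < 26081 → P i := stepQ 26080 Q26080 (allL N26080 (tt N26438 (iv F194849)) (tt N25221 F193329) (tt N25065 F193330) (tt N25121 F193331) (tt N25060 F193332) (tt N26080 F193333) (tt N25059 (iv D42007)) (tt N25227 F193334) (tt N26928 (iv F197302)) (tt N25119 F193335))
theorem Q26082 : ∀ i, i < 26082 → P i := stepQ 26081 Q26081 (allL N26081 (tt N26483 (iv F195126)) (tt N25156 F193336) (tt N26367 (iv F194397)) (tt N25061 (iv D42008)) (tt N25212 F193337) (tt N25113 F193338) (tt N26931 D42858) (tt N25137 F193339) (tt N25064 F193340) (tt N26932 D42859))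
theorem Q26083 : ∀ i, i < 26083 → P i := stepQ 26082 Q26082 (allL N26082 (tt N26484 (iv F195133)) (tt N25157 F193341) (tt N26928 (iv F197298)) (tt N26931 (iv F197318)) (tt N25062 F193342) (tt N26933 D42860) (tt N25061 (iv D42009)) (tt N26934 D42861) (tt N25065 F193343) (tt N26935 D42862))
theorem Q26084 : ∀ i, i < 26084 → P i := stepQ 26083 Q26083 (allL N26083 (tt N26485 (iv F195137)) (tt N25158 F193344) (tt N26929 (iv F197304)) (tt N26932 (iv F197322)) (tt N25063 F193345) (tt N25115 F193346) (tt N26935 (iv F197336)) (tt N25139 F193347) (tt N26372 (iv F194430)) (tt N25061 (iv D42010)))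
theorem Q26085 : ∀ i, i < 26085 → P i := stepQ 26084 Q26084 (allL N26084 (tt N26421 (iv F194740)) (tt N25159 F193348) (tt N25225 F193349) (tt N25215 F193350) (tt N26934 (iv F197331)) (tt N25264 F193351) (tt N25140 F193352) (tt N25062 (iv D42011)) (tt N25066 F193353) (tt N26936 D42863))
theorem Q26086 : ∀ i, i < 26086 → P i := stepQ 26085 Q26085 (allL N26085 (tt N26486 (iv F195143)) (tt N25160 F193354) (tt N26930 (iv F197311)) (tt N25216 F193355) (tt N26935 (iv F197335)) (tt N26676 (iv F196296)) (tt N25063 F193356) (tt N26936 (iv F197342)) (tt N26374 (iv F194444)) (tt N25062 (iv D42012)))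
theorem Q26087 : ∀ i, i < 26087 → P i := stepQ 26086 Q26086 (allL N26086 (tt N26487 (iv F195149)) (tt N25163 F193357) (tt N26410 (iv F194663)) (tt N25065 F193358) (tt N25217 F193359) (tt N26086 F193360) (tt N25064 (iv D42013)) (tt N26937 D42864) (tt N26931 (iv F197320)) (tt N26375 (iv F194451)))
theorem Q26088 : ∀ i, i < 26088 → P i := stepQ 26087 Q26087 (allL N26087 (tt N26424 (iv F194756)) (tt N25165 F193361) (tt N25227 F193362) (tt N26937 (iv F197344)) (tt N25066 F193363) (tt N26087 F193364) (tt N25146 F193365) (tt N25065 (iv D42014)) (tt N26934 (iv F197333)) (tt N26376 (iv F194458)))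
theorem Q26089 : ∀ i, i < 26089 → P i := stepQ 26088 Q26088 (allL N26088 (tt N25071 F193366) (tt N26666 (iv F196222)) (tt N25173 F193367) (tt N26749 (iv F196621)) (tt N26559 (iv F195599)) (tt N26766 (iv F196697)) (tt N26661 (iv F196207)) (tt N26779 (iv F196764)) (tt N26745 (iv F196600)) (tt N25067 (iv D42015)))
theorem Q26090 : ∀ i, i < 26090 → P i := stepQ 26089 Q26089 (allL N26089 (tt N26560 (iv F195604)) (tt N25072 F193368) (tt N25276 F193369) (tt N25152 F193370) (tt N25069 F193371) (tt N25210 F193372) (tt N26810 (iv F196900)) (tt N25291 F193373) (tt N25068 (iv D42016)) (tt N26938 D42865))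
theorem Q26091 : ∀ i, i < 26091 → P i := stepQ 26090 Q26090 (allL N26090 (tt N26749 (iv F196618)) (tt N25073 F193374) (tt N25272 F193375) (tt N25071 F193376) (tt N26938 (iv F197351)) (tt N25283 F193377) (tt N26811 (iv F196904)) (tt N25290 F193378) (tt N25265 F193379) (tt N25069 (iv D42017)))
theorem Q26092 : ∀ i, i < 26092 → P i := stepQ 26091 Q26091 (allL N26091 (tt N26766 (iv F196693)) (tt N25075 F193380) (tt N25178 F193381) (tt N25283 F193382) (tt N26391 (iv F194542)) (tt N25071 F193383) (tt N26553 (iv F195564)) (tt N25312 F193384) (tt N25282 F193385) (tt N25070 (iv D42018)))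
theorem Q26093 : ∀ i, i < 26093 → P i := stepQ 26092 Q26092 (allL N26092 (tt N26773 (iv F196731)) (tt N26938 (iv F197348)) (tt N25219 F193386) (tt N26921 (iv F197257)) (tt N25073 F193387) (tt N26361 F194361) (tt N26813 (iv F196910)) (tt N26314 (iv F194058)) (tt N26927 (iv F197296)) (tt N25072 (iv D42019)))
theorem Q26094 : ∀ i, i < 26094 → P i := stepQ 26093 Q26093 (allL N26093 (tt N26772 (iv F196726)) (tt N26391 (iv F194539)) (tt N25076 F193388) (tt N26317 (iv F194077)) (tt N25075 F193389) (tt N26922 (iv F197266)) (tt N26558 (iv F195594)) (tt N26313 (iv F194050)) (tt N26301 (iv F193956)) (tt N25074 (iv D42020)))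
theorem Q26095 : ∀ i, i < 26095 → P i := stepQ 26094 Q26094 (allL N26094 (tt N26568 (iv F195652)) (tt N25080 F193390) (tt N25166 F193391) (tt N25266 F193392) (tt N25078 (iv D42021)) (tt N26094 F193393) (tt N25096 F193394) (tt N26588 (iv F195763)) (tt N26939 D42866) (tt N25155 F193395))
theorem Q26096 : ∀ i, i < 26096 → P i := stepQ 26095 Q26095 (allL N26095 (tt N26570 (iv F195667)) (tt N25081 F193396) (tt N25169 F193397) (tt N25079 F193398) (tt N26939 (iv F197358)) (tt N26586 (iv F195747)) (tt N25097 F193399) (tt N26587 (iv F195755)) (tt N25078 (iv D42022)) (tt N26940 D42867))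
theorem Q26097 : ∀ i, i < 26097 → P i := stepQ 26096 Q26096 (allL N26096 (tt N26800 (iv F196852)) (tt N25084 F193400) (tt N26544 (iv F195503)) (tt N26940 (iv F197362)) (tt N26671 (iv F196260)) (tt N26788 (iv F196806)) (tt N25099 F193401) (tt N26641 (iv F196092)) (tt N26628 (iv F195995)) (tt N25079 (iv D42023)))
theorem Q26098 : ∀ i, i < 26098 → P i := stepQ 26097 Q26097 (allL N26097 (tt N26462 (iv F195000)) (tt N26939 (iv F197355)) (tt N25230 F193402) (tt N26672 (iv F196268)) (tt N25081 F193403) (tt N26941 D42868) (tt N25101 F193404) (tt N26642 (iv F196099)) (tt N25080 (iv D42024)) (tt N26942 D42869))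
theorem Q26099 : ∀ i, i < 26099 → P i := stepQ 26098 Q26098 (allL N26098 (tt N26463 (iv F195007)) (tt N26586 (iv F195744)) (tt N25231 F193405) (tt N25083 F193406) (tt N26943 D42870) (tt N25081 (iv D42025)) (tt N26592 (iv F195787)) (tt N26345 (iv F194256)) (tt N25082 F193407) (tt N26944 D42871))
theorem Q26100 : ∀ i, i < 26100 → P i := stepQ 26099 Q26099 (allL N26099 (tt N26464 (iv F195014)) (tt N26940 (iv F197360)) (tt N25232 F193408) (tt N25084 F193409) (tt N26942 (iv F197368)) (tt N26944 (iv F197374)) (tt N25103 F193410) (tt N26643 (iv F196104)) (tt N26630 (iv F196009)) (tt N25081 (iv D42026)))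
theorem Q26101 : ∀ i, i < 26101 → P i := stepQ 26100 Q26100 (allL N26100 (tt N26465 (iv F195021)) (tt N26583 (iv F195728)) (tt N25233 F193411) (tt N26945 D42872) (tt N25082 (iv D42027)) (tt N26100 F193412) (tt N26594 (iv F195799)) (tt N26343 (iv F194245)) (tt N26943 (iv F197371)) (tt N26342 F194237))
theorem Q26102 : ∀ i, i < 26102 → P i := stepQ 26101 Q26101 (allL N26101 (tt N26466 (iv F195028)) (tt N26790 (iv F196815)) (tt N25088 F193413) (tt N26946 D42873) (tt N25083 (iv D42028)) (tt N25296 F193414) (tt N26947 D42874) (tt N25295 F193415) (tt N25085 F193416) (tt N26948 D42875))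
theorem Q26103 : ∀ i, i < 26103 → P i := stepQ 26102 Q26102 (allL N26102 (tt N26467 (iv F195034)) (tt N26702 (iv F196412)) (tt N25089 F193417) (tt N26592 (iv F195786)) (tt N26947 (iv F197382)) (tt N25105 F193418) (tt N25083 (iv D42029)) (tt N26482 (iv F195125)) (tt N25086 F193419) (tt N26949 D42876))
theorem Q26104 : ∀ i, i < 26104 → P i := stepQ 26103 Q26103 (allL N26103 (tt N26468 (iv F195041)) (tt N26788 (iv F196804)) (tt N25090 F193420) (tt N26944 (iv F197373)) (tt N26948 (iv F197385)) (tt N25084 F193421) (tt N26949 (iv F197390)) (tt N26644 (iv F196112)) (tt N26695 (iv F196386)) (tt N25083 (iv D42030)))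
theorem Q26105 : ∀ i, i < 26105 → P i := stepQ 26104 Q26104 (allL N26104 (tt N26469 (iv F195046)) (tt N26627 (iv F195982)) (tt N26950 D42877) (tt N25085 (iv D42031)) (tt N26945 (iv F197375)) (tt N25087 F193422) (tt N26951 D42878) (tt N25320 F193423) (tt N26946 (iv F197380)) (tt N26698 (iv F196398)))
theorem Q26106 : ∀ i, i < 26106 → P i := stepQ 26105 Q26105 (allL N26105 (tt N26470 (iv F195050)) (tt N26704 (iv F196424)) (tt N25092 F193424) (tt N26951 (iv F197394)) (tt N25086 F193425) (tt N26105 F193426) (tt N25085 (iv D42032)) (tt N26408 (iv F194652)) (tt N26947 (iv F197383)) (tt N26481 (iv F195118)))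
theorem Q26107 : ∀ i, i < 26107 → P i := stepQ 26106 Q26106 (allL N26106 (tt N26472 (iv F195064)) (tt N26808 (iv F196884)) (tt N25087 (iv D42033)) (tt N25094 F193427) (tt N26106 F193428) (tt N26950 (iv F197392)) (tt N26106 F193429) (tt N25318 F193430) (tt N25317 F193431) (tt N26809 (iv F196895)))
theorem Q26108 : ∀ i, i < 26108 → P i := stepQ 26107 Q26107 (allL N26107 (tt N26473 (iv F195070)) (tt N26545 (iv F195511)) (tt N26952 D42879) (tt N25088 (iv D42034)) (tt N25243 F193432) (tt N26625 (iv F195972)) (tt N26953 D42880) (tt N26645 (iv F196118)) (tt N25091 F193433) (tt N26954 D42881))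
theorem Q26109 : ∀ i, i < 26109 → P i := stepQ 26108 Q26108 (allL N26108 (tt N26474 (iv F195076)) (tt N26445 (iv F194894)) (tt N26947 (iv F197381)) (tt N26953 (iv F197398)) (tt N25089 F193434) (tt N26955 D42882) (tt N25088 (iv D42035)) (tt N26956 D42883) (tt N25092 F193435) (tt N26957 D42884))
theorem Q26110 : ∀ i, i < 26110 → P i := stepQ 26109 Q26109 (allL N26109 (tt N26475 (iv F195080)) (tt N26546 (iv F195518)) (tt N26948 (iv F197384)) (tt N26954 (iv F197401)) (tt N25090 F193436) (tt N26675 (iv F196290)) (tt N26957 (iv F197408)) (tt N26646 (iv F196125)) (tt N26869 (iv F197107)) (tt N25088 (iv D42036)))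
theorem Q26111 : ∀ i, i < 26111 → P i := stepQ 26110 Q26110 (allL N26110 (tt N26476 (iv F195085)) (tt N26417 (iv F194714)) (tt N26482 (iv F195121)) (tt N25246 F193437) (tt N26956 (iv F197405)) (tt N25116 F193438) (tt N26471 (iv F195062)) (tt N25089 (iv D42037)) (tt N25093 F193439) (tt N26958 D42885))
theorem Q26112 : ∀ i, i < 26112 → P i := stepQ 26111 Q26111 (allL N26111 (tt N26477 (iv F195092)) (tt N26446 (iv F194899)) (tt N26949 (iv F197388)) (tt N25247 F193440) (tt N26957 (iv F197407)) (tt N25117 F193441) (tt N25090 F193442) (tt N26958 (iv F197411)) (tt N26870 (iv F197111)) (tt N25089 (iv D42038)))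
theorem Q26113 : ∀ i, i < 26113 → P i := stepQ 26112 Q26112 (allL N26112 (tt N26479 (iv F195103)) (tt N26917 (iv F197240)) (tt N25091 (iv D42039)) (tt N26950 (iv F197391)) (tt N25249 F193443) (tt N25094 F193444) (tt N26959 D42886) (tt N26648 (iv F196139)) (tt N26952 (iv F197397)) (tt N26871 (iv F197115)))
theorem Q26114 : ∀ i, i < 26114 → P i := stepQ 26113 Q26113 (allL N26113 (tt N26480 (iv F195107)) (tt N26447 (iv F194906)) (tt N26959 (iv F197412)) (tt N25092 F193445) (tt N25250 F193446) (tt N26113 F193447) (tt N25091 (iv D42040)) (tt N26960 D42887) (tt N26953 (iv F197400)) (tt N26872 (iv F197120)))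
theorem Q26115 : ∀ i, i < 26115 → P i := stepQ 26114 Q26114 (allL N26114 (tt N26481 (iv F195112)) (tt N26419 (iv F194728)) (tt N26408 (iv F194649)) (tt N26960 (iv F197415)) (tt N25093 F193448) (tt N26114 F193449) (tt N26404 (iv F194627)) (tt N25092 (iv D42041)) (tt N26956 (iv F197406)) (tt N26470 (iv F195056)))
theorem Q26116 : ∀ i, i < 26116 → P i := stepQ 26115 Q26115 (allL N26115 (tt N25099 F193450) (tt N26507 (iv F195294)) (tt N26779 (iv F196759)) (tt N26565 (iv F195632)) (tt N26745 (iv F196597)) (tt N26606 (iv F195863)) (tt N26800 (iv F196856)) (tt N25173 F193451) (tt N26559 (iv F195603)) (tt N25095 (iv D42042)))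
theorem Q26117 : ∀ i, i < 26117 → P i := stepQ 26116 Q26116 (allL N26116 (tt N26569 (iv F195660)) (tt N25101 F193452) (tt N25167 F193453) (tt N25263 F193454) (tt N25097 F193455) (tt N26351 (iv F194296)) (tt N26939 (iv F197359)) (tt N25174 F193456) (tt N25096 (iv D42043)) (tt N26961 D42888))
theorem Q26118 : ∀ i, i < 26118 → P i := stepQ 26117 Q26117 (allL N26117 (tt N26565 (iv F195630)) (tt N25103 F193457) (tt N25161 F193458) (tt N25099 F193459) (tt N26961 (iv F197421)) (tt N25192 F193460) (tt N26940 (iv F197363)) (tt N25175 F193461) (tt N25154 F193462) (tt N25097 (iv D42044)))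
theorem Q26119 : ∀ i, i < 26119 → P i := stepQ 26118 Q26118 (allL N26118 (tt N26609 (iv F195881)) (tt N25104 F193463) (tt N25314 F193464) (tt N26349 (iv F194281)) (tt N25098 (iv D42045)) (tt N25261 F193465) (tt N26701 (iv F196410)) (tt N25176 F193466) (tt N25100 F193467) (tt N26962 D42889))
theorem Q26120 : ∀ i, i < 26120 → P i := stepQ 26119 Q26119 (allL N26119 (tt N26606 (iv F195860)) (tt N25106 F193468) (tt N25312 F193469) (tt N25192 F193470) (tt N26962 (iv F197426)) (tt N25099 F193471) (tt N26703 (iv F196421)) (tt N25178 F193472) (tt N25184 F193473) (tt N25098 (iv D42046)))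
theorem Q26121 : ∀ i, i < 26121 → P i := stepQ 26120 Q26120 (allL N26120 (tt N26517 (iv F195357)) (tt N26351 (iv F194293)) (tt N25156 F193474) (tt N25276 F193475) (tt N25292 F193476) (tt N25101 (iv D42047)) (tt N26963 D42890) (tt N25180 F193477) (tt N25162 F193478) (tt N26964 D42891))
theorem Q26122 : ∀ i, i < 26122 → P i := stepQ 26121 Q26121 (allL N26121 (tt N26518 (iv F195363)) (tt N26961 (iv F197418)) (tt N25281 F193479) (tt N26927 (iv F197292)) (tt N25103 F193480) (tt N26964 (iv F197437)) (tt N26942 (iv F197369)) (tt N25181 F193481) (tt N26921 (iv F197261)) (tt N25101 (iv D42048)))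
theorem Q26123 : ∀ i, i < 26123 → P i := stepQ 26122 Q26122 (allL N26122 (tt N26520 (iv F195375)) (tt N25192 F193482) (tt N25282 F193483) (tt N25106 F193484) (tt N26387 (iv F194518)) (tt N25103 F193485) (tt N26593 (iv F195793)) (tt N25184 F193486) (tt N25178 F193487) (tt N25102 (iv D42049)))
theorem Q26124 : ∀ i, i < 26124 → P i := stepQ 26123 Q26123 (allL N26123 (tt N26521 (iv F195382)) (tt N26349 (iv F194279)) (tt N26370 (iv F194415)) (tt N25104 (iv D42050)) (tt N26377 (iv F194462)) (tt N25122 F193488) (tt N26965 D42892) (tt N25187 F193489) (tt N25107 F193490) (tt N26966 D42893))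
theorem Q26125 : ∀ i, i < 26125 → P i := stepQ 26124 Q26124 (allL N26124 (tt N26522 (iv F195388)) (tt N26701 (iv F196407)) (tt N25114 F193491) (tt N26965 (iv F197440)) (tt N25105 F193492) (tt N26967 D42894) (tt N25104 (iv D42051)) (tt N26968 D42895) (tt N25108 F193493) (tt N26969 D42896))
theorem Q26126 : ∀ i, i < 26126 → P i := stepQ 26125 Q26125 (allL N26125 (tt N26523 (iv F195392)) (tt N26962 (iv F197424)) (tt N25115 F193494) (tt N26966 (iv F197442)) (tt N25106 F193495) (tt N26929 (iv F197307)) (tt N26969 (iv F197453)) (tt N25189 F193496) (tt N26970 D42897) (tt N25104 (iv D42052)))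
theorem Q26127 : ∀ i, i < 26127 → P i := stepQ 26126 Q26126 (allL N26126 (tt N26524 (iv F195396)) (tt N26657 (iv F196182)) (tt N25116 F193497) (tt N26508 (iv F195302)) (tt N26968 (iv F197448)) (tt N26482 (iv F195123)) (tt N25190 F193498) (tt N25105 (iv D42053)) (tt N25110 F193499) (tt N26971 D42898))
theorem Q26128 : ∀ i, i < 26128 → P i := stepQ 26127 Q26127 (allL N26127 (tt N26525 (iv F195403)) (tt N26703 (iv F196418)) (tt N25117 F193500) (tt N26593 (iv F195792)) (tt N26969 (iv F197452)) (tt N26949 (iv F197389)) (tt N25106 F193501) (tt N26971 (iv F197461)) (tt N26972 D42899) (tt N25105 (iv D42054)))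
theorem Q26129 : ∀ i, i < 26129 → P i := stepQ 26128 Q26128 (allL N26128 (tt N26526 (iv F195406)) (tt N25184 F193502) (tt N25118 F193503) (tt N25178 F193504) (tt N26970 (iv F197456)) (tt N25175 F193505) (tt N26972 (iv F197465)) (tt N25192 F193506) (tt N25106 (iv D42055)) (tt N25112 F193507))
theorem Q26130 : ∀ i, i < 26130 → P i := stepQ 26129 Q26129 (allL N26129 (tt N26527 (iv F195412)) (tt N26409 (iv F194655)) (tt N26375 (iv F194447)) (tt N25108 F193508) (tt N26384 (iv F194502)) (tt N26129 F193509) (tt N25107 (iv D42056)) (tt N26973 D42900) (tt N26965 (iv F197441)) (tt N26410 (iv F194667)))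
theorem Q26131 : ∀ i, i < 26131 → P i := stepQ 26130 Q26130 (allL N26130 (tt N26528 (iv F195418)) (tt N26656 (iv F196175)) (tt N25120 F193510) (tt N26973 (iv F197467)) (tt N25110 F193511) (tt N26130 F193512) (tt N25194 F193513) (tt N25108 (iv D42057)) (tt N26968 (iv F197450)) (tt N26543 (iv F195500)))
theorem Q26132 : ∀ i, i < 26132 → P i := stepQ 26131 Q26131 (allL N26131 (tt N26529 (iv F195425)) (tt N25185 F193514) (tt N25121 F193515) (tt N26410 (iv F194664)) (tt N25111 F193516) (tt N26131 F193517) (tt N25109 F193518) (tt N26543 (iv F195499)) (tt N26974 D42901) (tt N25108 (iv D42058)))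
theorem Q26133 : ∀ i, i < 26133 → P i := stepQ 26132 Q26132 (allL N26132 (tt N26530 (iv F195433)) (tt N25182 F193519) (tt N25122 F193520) (tt N26367 (iv F194398)) (tt N25112 F193521) (tt N26370 (iv F194417)) (tt N26974 (iv F197473)) (tt N25195 F193522) (tt N25109 (iv D42059)) (tt N26970 (iv F197458)))
theorem Q26134 : ∀ i, i < 26134 → P i := stepQ 26133 Q26133 (allL N26133 (tt N26531 (iv F195439)) (tt N25183 F193523) (tt N25123 F193524) (tt N25177 F193525) (tt N26974 (iv F197472)) (tt N26541 (iv F195484)) (tt N25112 F193526) (tt N26542 (iv F195492)) (tt N25111 (iv D42060)) (tt N26972 (iv F197466)))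
theorem Q26135 : ∀ i, i < 26135 → P i := stepQ 26134 Q26134 (allL N26134 (tt N26532 (iv F195446)) (tt N25230 F193527) (tt N26371 (iv F194422)) (tt N25114 F193528) (tt N25228 F193529) (tt N26975 D42902) (tt N25113 (iv D42061)) (tt N26830 (iv F196973)) (tt N25119 F193530) (tt N26976 D42903))
theorem Q26136 : ∀ i, i < 26136 → P i := stepQ 26135 Q26135 (allL N26135 (tt N26533 (iv F195451)) (tt N25281 F193531) (tt N26372 (iv F194427)) (tt N25115 F193532) (tt N25280 F193533) (tt N26932 (iv F197324)) (tt N26976 (iv F197480)) (tt N25196 F193534) (tt N26929 (iv F197309)) (tt N25113 (iv D42062)))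
theorem Q26137 : ∀ i, i < 26137 → P i := stepQ 26136 Q26136 (allL N26136 (tt N26534 (iv F195456)) (tt N26443 (iv F194883)) (tt N26967 (iv F197445)) (tt N26975 (iv F197475)) (tt N26955 (iv F197403)) (tt N25114 (iv D42063)) (tt N26933 (iv F197327)) (tt N26977 D42904) (tt N26136 F193535) (tt N26978 D42905))
theorem Q26138 : ∀ i, i < 26138 → P i := stepQ 26137 Q26137 (allL N26137 (tt N26535 (iv F195458)) (tt N26416 (iv F194707)) (tt N26968 (iv F197447)) (tt N26830 (iv F196970)) (tt N25116 F193536) (tt N26977 (iv F197481)) (tt N25198 F193537) (tt N25114 (iv D42064)) (tt N25120 F193538) (tt N26979 D42906))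
theorem Q26139 : ∀ i, i < 26139 → P i := stepQ 26138 Q26138 (allL N26138 (tt N26536 (iv F195462)) (tt N26444 (iv F194888)) (tt N26969 (iv F197451)) (tt N26976 (iv F197478)) (tt N25117 F193539) (tt N26978 (iv F197483)) (tt N25115 F193540) (tt N26979 (iv F197486)) (tt N26980 D42907) (tt N25114 (iv D42065)))
theorem Q26140 : ∀ i, i < 26140 → P i := stepQ 26139 Q26139 (allL N26139 (tt N26537 (iv F195465)) (tt N26350 (iv F194286)) (tt N26970 (iv F197455)) (tt N26929 (iv F197305)) (tt N25118 F193541) (tt N26966 (iv F197443)) (tt N26980 (iv F197488)) (tt N25200 F193542) (tt N25115 (iv D42066)) (tt N25122 F193543))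
theorem Q26141 : ∀ i, i < 26141 → P i := stepQ 26140 Q26140 (allL N26140 (tt N26538 (iv F195469)) (tt N26418 (iv F194721)) (tt N26971 (iv F197459)) (tt N25284 F193544) (tt N26979 (iv F197484)) (tt N26958 (iv F197410)) (tt N25201 F193545) (tt N25117 F193546) (tt N26714 (iv F196462)) (tt N25116 (iv D42067)))
theorem Q26142 : ∀ i, i < 26142 → P i := stepQ 26141 Q26141 (allL N26141 (tt N26539 (iv F195473)) (tt N26321 (iv F194106)) (tt N26972 (iv F197463)) (tt N25285 F193547) (tt N26980 (iv F197487)) (tt N26981 D42908) (tt N25118 F193548) (tt N26714 (iv F196461)) (tt N25117 (iv D42068)) (tt N25123 F193549))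
theorem Q26143 : ∀ i, i < 26143 → P i := stepQ 26142 Q26142 (allL N26142 (tt N26540 (iv F195477)) (tt N26319 (iv F194092)) (tt N26974 (iv F197471)) (tt N26928 (iv F197299)) (tt N25123 F193550) (tt N26982 D42909) (tt N25122 F193551) (tt N26713 (iv F196457)) (tt N25121 (iv D42069)) (tt N26980 (iv F197489)))
theorem Q26144 : ∀ i, i < 26144 → P i := stepQ 26143 Q26143 (allL N26143 (tt N26542 (iv F195487)) (tt N26320 (iv F194099)) (tt N26541 (iv F195482)) (tt N25286 F193552) (tt N26983 D42910) (tt N25123 (iv D42070)) (tt N26619 (iv F195938)) (tt N26531 (iv F195445)) (tt N25124 F193553) (tt N26981 (iv F197491)))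
theorem Q26145 : ∀ i, i < 26145 → P i := stepQ 26144 Q26144 (allL N26144 (tt N26543 (iv F195494)) (tt N26322 (iv F194113)) (tt N26437 (iv F194843)) (tt N26920 (iv F197252)) (tt N25124 (iv D42071)) (tt N26144 F193554) (tt N26436 F194840) (tt N26529 (iv F195432)) (tt N26983 (iv F197493)) (tt N26528 F195424))
theorem Q26146 : ∀ i, i < 26146 → P i := stepQ 26145 Q26145 (allL N26145 (tt N26545 (iv F195510)) (tt N25267 F193555) (tt N26349 (iv F194280)) (tt N25126 (iv D42072)) (tt N25137 F193556) (tt N25207 F193557) (tt N26984 D42911) (tt N25212 F193558) (tt N25129 F193559) (tt N26985 D42912))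
theorem Q26147 : ∀ i, i < 26147 → P i := stepQ 26146 Q26146 (allL N26146 (tt N26445 (iv F194893)) (tt N25268 F193560) (tt N26365 (iv F194384)) (tt N26984 (iv F197495)) (tt N25127 F193561) (tt N26826 (iv F196962)) (tt N25126 (iv D42073)) (tt N26986 D42913) (tt N25130 F193562) (tt N26987 D42914))
theorem Q26148 : ∀ i, i < 26148 → P i := stepQ 26147 Q26147 (allL N26147 (tt N26546 (iv F195517)) (tt N25269 F193563) (tt N26361 (iv F194356)) (tt N26985 (iv F197499)) (tt N25128 F193564) (tt N25219 F193565) (tt N26987 (iv F197509)) (tt N25214 F193566) (tt N26353 (iv F194310)) (tt N25126 (iv D42074)))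
theorem Q26149 : ∀ i, i < 26149 → P i := stepQ 26148 Q26148 (allL N26148 (tt N26417 (iv F194713)) (tt N25270 F193567) (tt N26366 (iv F194390)) (tt N25140 F193568) (tt N26986 (iv F197504)) (tt N25222 F193569) (tt N25215 F193570) (tt N25127 (iv D42075)) (tt N25131 F193571) (tt N26988 D42915))
theorem Q26150 : ∀ i, i < 26150 → P i := stepQ 26149 Q26149 (allL N26149 (tt N26446 (iv F194898)) (tt N25271 F193572) (tt N26363 (iv F194369)) (tt N25141 F193573) (tt N26987 (iv F197508)) (tt N26414 (iv F194693)) (tt N25128 F193574) (tt N26988 (iv F197514)) (tt N26355 (iv F194323)) (tt N25127 (iv D42076)))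
theorem Q26151 : ∀ i, i < 26151 → P i := stepQ 26150 Q26150 (allL N26150 (tt N26447 (iv F194905)) (tt N25273 F193575) (tt N26409 (iv F194656)) (tt N25130 F193576) (tt N25144 F193577) (tt N26150 F193578) (tt N25129 (iv D42077)) (tt N26989 D42916) (tt N26984 (iv F197497)) (tt N26356 (iv F194330)))
theorem Q26152 : ∀ i, i < 26152 → P i := stepQ 26151 Q26151 (allL N26151 (tt N26419 (iv F194727)) (tt N25274 F193579) (tt N26364 (iv F194376)) (tt N26989 (iv F197516)) (tt N25131 F193580) (tt N26151 F193581) (tt N25218 F193582) (tt N25130 (iv D42078)) (tt N26986 (iv F197506)) (tt N26357 (iv F194337)))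
theorem Q26153 : ∀ i, i < 26153 → P i := stepQ 26152 Q26152 (allL N26152 (tt N26316 (iv F194068)) (tt N25289 F193583) (tt N26317 (iv F194076)) (tt N25181 F193584) (tt N25134 F193585) (tt N25298 F193586) (tt N26310 (iv F194026)) (tt N26927 (iv F197295)) (tt N26314 (iv F194059)) (tt N25133 (iv D42079)))
theorem Q26154 : ∀ i, i < 26154 → P i := stepQ 26153 Q26153 (allL N26153 (tt N26458 (iv F194974)) (tt N25288 F193587) (tt N25139 F193588) (tt N25200 F193589) (tt N25136 F193590) (tt N25189 F193591) (tt N26415 (iv F194703)) (tt N26929 (iv F197308)) (tt N25196 F193592) (tt N25135 (iv D42080)))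
theorem Q26155 : ∀ i, i < 26155 → P i := stepQ 26154 Q26154 (allL N26154 (tt N26548 (iv F195531)) (tt N26377 (iv F194460)) (tt N25137 (iv D42081)) (tt N25195 F193593) (tt N26349 (iv F194282)) (tt N25147 F193594) (tt N26791 (iv F196822)) (tt N26367 (iv F194400)) (tt N25143 F193595) (tt N26990 D42917))
theorem Q26156 : ∀ i, i < 26156 → P i := stepQ 26155 Q26155 (allL N26155 (tt N26448 (iv F194912)) (tt N25306 F193596) (tt N26791 (iv F196820)) (tt N25138 F193597) (tt N26984 (iv F197496)) (tt N26722 (iv F196493)) (tt N25137 (iv D42082)) (tt N26991 D42918) (tt N25144 F193598) (tt N26992 D42919))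
theorem Q26157 : ∀ i, i < 26157 → P i := stepQ 26156 Q26156 (allL N26156 (tt N26549 (iv F195538)) (tt N25307 F193599) (tt N26990 (iv F197520)) (tt N25139 F193600) (tt N26985 (iv F197500)) (tt N25196 F193601) (tt N26992 (iv F197529)) (tt N26932 (iv F197325)) (tt N26993 D42920) (tt N25137 (iv D42083)))
theorem Q26158 : ∀ i, i < 26158 → P i := stepQ 26157 Q26157 (allL N26157 (tt N26420 (iv F194734)) (tt N26923 (iv F197269)) (tt N25224 F193602) (tt N26991 (iv F197525)) (tt N25140 F193603) (tt N26323 (iv F194122)) (tt N26934 (iv F197332)) (tt N25138 (iv D42084)) (tt N25146 F193604) (tt N26994 D42921))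
theorem Q26159 : ∀ i, i < 26159 → P i := stepQ 26158 Q26158 (allL N26158 (tt N26449 (iv F194917)) (tt N26924 (iv F197275)) (tt N26415 (iv F194699)) (tt N26992 (iv F197528)) (tt N25141 F193605) (tt N26723 (iv F196499)) (tt N25139 F193606) (tt N26994 (iv F197537)) (tt N26887 (iv F197158)) (tt N25138 (iv D42085)))
theorem Q26160 : ∀ i, i < 26160 → P i := stepQ 26159 Q26159 (allL N26159 (tt N26550 (iv F195542)) (tt N26925 (iv F197279)) (tt N25196 F193607) (tt N26993 (iv F197532)) (tt N25142 F193608) (tt N26990 (iv F197522)) (tt N26887 (iv F197157)) (tt N26372 (iv F194429)) (tt N25139 (iv D42086)) (tt N25147 F193609))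
theorem Q26161 : ∀ i, i < 26161 → P i := stepQ 26160 Q26160 (allL N26160 (tt N26422 (iv F194747)) (tt N26926 (iv F197285)) (tt N25226 F193610) (tt N26988 (iv F197511)) (tt N26994 (iv F197536)) (tt N25223 F193611) (tt N26936 (iv F197341)) (tt N25141 F193612) (tt N26864 (iv F197084)) (tt N25140 (iv D42087)))
theorem Q26162 : ∀ i, i < 26162 → P i := stepQ 26161 Q26161 (allL N26161 (tt N26423 (iv F194752)) (tt N25316 F193613) (tt N26760 (iv F196664)) (tt N25146 F193614) (tt N26989 (iv F197517)) (tt N25202 F193615) (tt N26937 (iv F197347)) (tt N25144 (iv D42088)) (tt N26991 (iv F197526)) (tt N26862 (iv F197077)))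
theorem Q26163 : ∀ i, i < 26163 → P i := stepQ 26162 Q26162 (allL N26162 (tt N26551 (iv F195548)) (tt N25292 F193616) (tt N25187 F193617) (tt N25147 F193618) (tt N26351 (iv F194295)) (tt N25195 F193619) (tt N26885 (iv F197152)) (tt N26370 (iv F194418)) (tt N25145 (iv D42089)) (tt N26993 (iv F197534)))
theorem Q26164 : ∀ i, i < 26164 → P i := stepQ 26163 Q26163 (allL N26163 (tt N25149 F193620) (tt N26552 (iv F195556)) (tt N26745 (iv F196595)) (tt N26496 (iv F195217)) (tt N26779 (iv F196761)) (tt N26493 (iv F195195)) (tt N26765 (iv F196690)) (tt N26559 (iv F195602)) (tt N25173 F193621) (tt N25148 (iv D42090)))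
theorem Q26165 : ∀ i, i < 26165 → P i := stepQ 26164 Q26164 (allL N26164 (tt N26558 (iv F195589)) (tt N26922 (iv F197262)) (tt N25288 F193622) (tt N26314 (iv F194055)) (tt N25151 F193623) (tt N26391 (iv F194543)) (tt N26772 (iv F196729)) (tt N26921 (iv F197260)) (tt N25181 F193624) (tt N25150 (iv D42091)))
theorem Q26166 : ∀ i, i < 26166 → P i := stepQ 26165 Q26165 (allL N26165 (tt N26561 (iv F195611)) (tt N26629 (iv F195997)) (tt N25157 F193625) (tt N26810 (iv F196898)) (tt N25153 F193626) (tt N26710 (iv F196447)) (tt N25152 (iv D42092)) (tt N26649 (iv F196144)) (tt N25155 F193627) (tt N26995 D42922))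
theorem Q26167 : ∀ i, i < 26167 → P i := stepQ 26166 Q26166 (allL N26166 (tt N26562 (iv F195615)) (tt N26921 (iv F197255)) (tt N25158 F193628) (tt N26938 (iv F197350)) (tt N25154 F193629) (tt N26313 (iv F194048)) (tt N26995 (iv F197540)) (tt N26922 (iv F197267)) (tt N26961 (iv F197423)) (tt N25152 (iv D42093)))
theorem Q26168 : ∀ i, i < 26168 → P i := stepQ 26167 Q26167 (allL N26167 (tt N26564 (iv F195625)) (tt N26630 (iv F196004)) (tt N25160 F193630) (tt N26628 (iv F195990)) (tt N26995 (iv F197539)) (tt N26654 (iv F196163)) (tt N25154 F193631) (tt N26650 (iv F196149)) (tt N26940 (iv F197364)) (tt N25153 (iv D42094)))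
theorem Q26169 : ∀ i, i < 26169 → P i := stepQ 26168 Q26168 (allL N26168 (tt N26571 (iv F195674)) (tt N26931 (iv F197317)) (tt N26963 (iv F197430)) (tt N25157 F193632) (tt N25293 F193633) (tt N26996 D42923) (tt N25156 (iv D42095)) (tt N26997 D42924) (tt N25163 F193634) (tt N26998 D42925))
theorem Q26170 : ∀ i, i < 26170 → P i := stepQ 26169 Q26169 (allL N26169 (tt N26572 (iv F195678)) (tt N26932 (iv F197321)) (tt N26964 (iv F197434)) (tt N25158 F193635) (tt N25294 F193636) (tt N25281 F193637) (tt N26998 (iv F197550)) (tt N25307 F193638) (tt N26999 D42926) (tt N25156 (iv D42096)))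
theorem Q26171 : ∀ i, i < 26171 → P i := stepQ 26170 Q26170 (allL N26170 (tt N26573 (iv F195683)) (tt N26933 (iv F197326)) (tt N26710 (iv F196446)) (tt N26996 (iv F197541)) (tt N26775 (iv F196742)) (tt N25157 (iv D42097)) (tt N26443 (iv F194886)) (tt N27000 D42927) (tt N26170 F193639) (tt N27001 D42928))
theorem Q26172 : ∀ i, i < 26172 → P i := stepQ 26171 Q26171 (allL N26171 (tt N26574 (iv F195686)) (tt N26934 (iv F197329)) (tt N26649 (iv F196142)) (tt N26997 (iv F197544)) (tt N25159 F193640) (tt N27000 (iv F197557)) (tt N26923 (iv F197273)) (tt N25157 (iv D42098)) (tt N25165 F193641) (tt N27002 D42929))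
theorem Q26173 : ∀ i, i < 26173 → P i := stepQ 26172 Q26172 (allL N26172 (tt N26575 (iv F195689)) (tt N26935 (iv F197334)) (tt N26995 (iv F197538)) (tt N26998 (iv F197548)) (tt N25160 F193642) (tt N27001 (iv F197559)) (tt N25158 F193643) (tt N27002 (iv F197561)) (tt N27003 D42930) (tt N25157 (iv D42099)))
theorem Q26174 : ∀ i, i < 26174 → P i := stepQ 26173 Q26173 (allL N26173 (tt N26576 (iv F195692)) (tt N26372 (iv F194426)) (tt N26961 (iv F197419)) (tt N26999 (iv F197552)) (tt N25161 F193644) (tt N27004 D42931) (tt N27003 (iv F197563)) (tt N26925 (iv F197283)) (tt N25158 (iv D42100)) (tt N25167 F193645))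
theorem Q26175 : ∀ i, i < 26175 → P i := stepQ 26174 Q26174 (allL N26174 (tt N26577 (iv F195695)) (tt N26936 (iv F197337)) (tt N26650 (iv F196146)) (tt N25299 F193646) (tt N27002 (iv F197560)) (tt N26673 (iv F196276)) (tt N26926 (iv F197288)) (tt N25160 F193647) (tt N27005 D42932) (tt N25159 (iv D42101)))
theorem Q26176 : ∀ i, i < 26176 → P i := stepQ 26175 Q26175 (allL N26175 (tt N26578 (iv F195699)) (tt N26374 (iv F194439)) (tt N26940 (iv F197361)) (tt N25300 F193648) (tt N27003 (iv F197562)) (tt N26797 (iv F196842)) (tt N25161 F193649) (tt N27005 (iv F197569)) (tt N25160 (iv D42102)) (tt N25169 F193650))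
theorem Q26177 : ∀ i, i < 26177 → P i := stepQ 26176 Q26176 (allL N26176 (tt N26579 (iv F195703)) (tt N26356 (iv F194325)) (tt N25163 F193651) (tt N25275 F193652) (tt N25301 F193653) (tt N26176 F193654) (tt N25162 (iv D42103)) (tt N27006 D42933) (tt N26963 (iv F197433)) (tt N25273 F193655))
theorem Q26178 : ∀ i, i < 26178 → P i := stepQ 26177 Q26177 (allL N26177 (tt N26580 (iv F195709)) (tt N26937 (iv F197343)) (tt N27006 (iv F197571)) (tt N25165 F193656) (tt N25302 F193657) (tt N26177 F193658) (tt N25316 F193659) (tt N25163 (iv D42104)) (tt N26997 (iv F197547)) (tt N27007 D42934))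
theorem Q26179 : ∀ i, i < 26179 → P i := stepQ 26178 Q26178 (allL N26178 (tt N26581 (iv F195714)) (tt N26375 (iv F194446)) (tt N25273 F193660) (tt N25166 F193661) (tt N25205 F193662) (tt N26178 F193663) (tt N25164 F193664) (tt N27007 (iv F197582)) (tt N27008 D42935) (tt N25163 (iv D42105)))
theorem Q26180 : ∀ i, i < 26180 → P i := stepQ 26179 Q26179 (allL N26179 (tt N26582 (iv F195721)) (tt N26370 (iv F194414)) (tt N25267 F193665) (tt N25167 F193666) (tt N25180 F193667) (tt N25182 F193668) (tt N27008 (iv F197586)) (tt N25292 F193669) (tt N25164 (iv D42106)) (tt N26999 (iv F197556)))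
theorem Q26181 : ∀ i, i < 26181 → P i := stepQ 26180 Q26180 (allL N26180 (tt N26583 (iv F195727)) (tt N26376 (iv F194453)) (tt N26588 (iv F195759)) (tt N27007 (iv F197578)) (tt N25168 F193670) (tt N26180 F193671) (tt N26621 (iv F195951)) (tt N25166 F193672) (tt N27009 D42936) (tt N25165 (iv D42107)))
theorem Q26182 : ∀ i, i < 26182 → P i := stepQ 26181 Q26181 (allL N26181 (tt N26584 (iv F195734)) (tt N26371 (iv F194421)) (tt N26939 (iv F197356)) (tt N27008 (iv F197584)) (tt N25169 F193673) (tt N27010 D42937) (tt N25167 F193674) (tt N27009 (iv F197588)) (tt N25166 (iv D42108)) (tt N27003 (iv F197564)))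
theorem Q26183 : ∀ i, i < 26183 → P i := stepQ 26182 Q26182 (allL N26182 (tt N26585 (iv F195737)) (tt N26367 (iv F194396)) (tt N26351 (iv F194294)) (tt N25182 F193675) (tt N25187 F193676) (tt N25167 (iv D42109)) (tt N27011 D42938) (tt N26377 (iv F194464)) (tt N25170 F193677) (tt N27004 (iv F197567)))
theorem Q26184 : ∀ i, i < 26184 → P i := stepQ 26183 Q26183 (allL N26183 (tt N26586 (iv F195743)) (tt N26373 (iv F194432)) (tt N26587 (iv F195752)) (tt N25305 F193678) (tt N27009 (iv F197587)) (tt N26570 (iv F195671)) (tt N26620 (iv F195944)) (tt N25169 F193679) (tt N25168 (iv D42110)) (tt N27005 (iv F197570)))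
theorem Q26185 : ∀ i, i < 26185 → P i := stepQ 26184 Q26184 (allL N26184 (tt N26589 (iv F195765)) (tt N26410 (iv F194662)) (tt N26356 (iv F194326)) (tt N25185 F193680) (tt N25193 F193681) (tt N26184 F193682) (tt N25170 (iv D42111)) (tt N27012 D42939) (tt N27011 (iv F197592)) (tt N26409 (iv F194660)))
theorem Q26186 : ∀ i, i < 26186 → P i := stepQ 26185 Q26185 (allL N26185 (tt N25175 F193683) (tt N26590 (iv F195773)) (tt N26501 (iv F195248)) (tt N25173 F193684) (tt N26780 (iv F196769)) (tt N26526 (iv F195409)) (tt N26764 (iv F196684)) (tt N26565 (iv F195634)) (tt N26496 (iv F195220)) (tt N25171 (iv D42112)))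
theorem Q26187 : ∀ i, i < 26187 → P i := stepQ 26186 Q26186 (allL N26186 (tt N25178 F193685) (tt N26591 (iv F195778)) (tt N26766 (iv F196694)) (tt N26526 (iv F195408)) (tt N26778 (iv F196754)) (tt N25173 F193686) (tt N26716 (iv F196474)) (tt N26606 (iv F195864)) (tt N26520 (iv F195381)) (tt N25172 (iv D42113)))
theorem Q26188 : ∀ i, i < 26188 → P i := stepQ 26187 Q26187 (allL N26187 (tt N26780 (iv F196766)) (tt N25181 F193687) (tt N26925 (iv F197280)) (tt N25289 F193688) (tt N25175 F193689) (tt N26379 (iv F194473)) (tt N26816 (iv F196926)) (tt N26961 (iv F197422)) (tt N26922 (iv F197268)) (tt N25174 (iv D42114)))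
theorem Q26189 : ∀ i, i < 26189 → P i := stepQ 26188 Q26188 (allL N26188 (tt N26715 (iv F196463)) (tt N25188 F193690) (tt N26399 (iv F194591)) (tt N26368 (iv F194405)) (tt N25177 F193691) (tt N26497 (iv F195226)) (tt N25176 (iv D42115)) (tt N26769 (iv F196711)) (tt N25179 F193692) (tt N27013 D42940))
theorem Q26190 : ∀ i, i < 26190 → P i := stepQ 26189 Q26189 (allL N26189 (tt N26778 (iv F196750)) (tt N25189 F193693) (tt N26391 (iv F194540)) (tt N26369 (iv F194411)) (tt N25178 F193694) (tt N25288 F193695) (tt N27013 (iv F197598)) (tt N26962 (iv F197428)) (tt N26387 (iv F194521)) (tt N25176 (iv D42116)))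
theorem Q26191 : ∀ i, i < 26191 → P i := stepQ 26190 Q26190 (allL N26190 (tt N26716 (iv F196471)) (tt N25191 F193696) (tt N26553 (iv F195562)) (tt N26972 (iv F197464)) (tt N27013 (iv F197597)) (tt N26668 (iv F196238)) (tt N25178 F193697) (tt N26768 (iv F196707)) (tt N26593 (iv F195794)) (tt N25177 (iv D42117)))
theorem Q26192 : ∀ i, i < 26192 → P i := stepQ 26191 Q26191 (allL N26191 (tt N26600 (iv F195827)) (tt N26378 (iv F194467)) (tt N25306 F193698) (tt N25304 F193699) (tt N27008 (iv F197585)) (tt N26817 (iv F196930)) (tt N25180 (iv D42118)) (tt N27014 D42941) (tt N25205 F193700) (tt N27015 D42942))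
theorem Q26193 : ∀ i, i < 26193 → P i := stepQ 26192 Q26192 (allL N26192 (tt N26601 (iv F195833)) (tt N26379 (iv F194471)) (tt N25307 F193701) (tt N25298 F193702) (tt N26999 (iv F197553)) (tt N25181 F193703) (tt N27015 (iv F197604)) (tt N26964 (iv F197438)) (tt N25294 F193704) (tt N25180 (iv D42119)))
theorem Q26194 : ∀ i, i < 26194 → P i := stepQ 26193 Q26193 (allL N26193 (tt N26602 (iv F195838)) (tt N26974 (iv F197470)) (tt N25308 F193705) (tt N27011 (iv F197590)) (tt N25183 F193706) (tt N27016 D42943) (tt N25182 (iv D42120)) (tt N27017 D42944) (tt N25185 F193707) (tt N27018 D42945))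
theorem Q26195 : ∀ i, i < 26195 → P i := stepQ 26194 Q26194 (allL N26194 (tt N26603 (iv F195843)) (tt N26970 (iv F197454)) (tt N25309 F193708) (tt N27004 (iv F197565)) (tt N25184 F193709) (tt N26999 (iv F197554)) (tt N27018 (iv F197613)) (tt N26387 (iv F194520)) (tt N26962 (iv F197429)) (tt N25182 (iv D42121)))
theorem Q26196 : ∀ i, i < 26196 → P i := stepQ 26195 Q26195 (allL N26195 (tt N26604 (iv F195847)) (tt N26542 (iv F195488)) (tt N25310 F193710) (tt N25190 F193711) (tt N27017 (iv F197609)) (tt N26441 (iv F194874)) (tt N26508 (iv F195304)) (tt N25183 (iv D42122)) (tt N25186 F193712) (tt N27019 D42946))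
theorem Q26197 : ∀ i, i < 26197 → P i := stepQ 26196 Q26196 (allL N26196 (tt N26605 (iv F195854)) (tt N26972 (iv F197462)) (tt N25311 F193713) (tt N25191 F193714) (tt N27018 (iv F197612)) (tt N26767 (iv F196703)) (tt N25184 F193715) (tt N27019 (iv F197616)) (tt N26703 (iv F196422)) (tt N25183 (iv D42123)))
theorem Q26198 : ∀ i, i < 26198 → P i := stepQ 26197 Q26197 (allL N26197 (tt N26607 (iv F195866)) (tt N26543 (iv F195495)) (tt N25313 F193716) (tt N27012 (iv F197593)) (tt N25186 F193717) (tt N26197 F193718) (tt N26397 (iv F194579)) (tt N25185 (iv D42124)) (tt N27017 (iv F197610)) (tt N26656 (iv F196180)))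
theorem Q26199 : ∀ i, i < 26199 → P i := stepQ 26198 Q26198 (allL N26198 (tt N26611 (iv F195895)) (tt N26368 (iv F194403)) (tt N26885 (iv F197150)) (tt N25188 F193719) (tt N27011 (iv F197591)) (tt N26731 (iv F196535)) (tt N25187 (iv D42125)) (tt N27020 D42947) (tt N25193 F193720) (tt N27021 D42948))
theorem Q26200 : ∀ i, i < 26200 → P i := stepQ 26199 Q26199 (allL N26199 (tt N26612 (iv F195900)) (tt N26369 (iv F194409)) (tt N26993 (iv F197531)) (tt N25189 F193721) (tt N27004 (iv F197566)) (tt N25200 F193722) (tt N27021 (iv F197620)) (tt N26966 (iv F197444)) (tt N26990 (iv F197523)) (tt N25187 (iv D42126)))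
theorem Q26201 : ∀ i, i < 26201 → P i := stepQ 26200 Q26200 (allL N26200 (tt N26613 (iv F195903)) (tt N26769 (iv F196710)) (tt N25198 F193723) (tt N27020 (iv F197617)) (tt N25190 F193724) (tt N26733 (iv F196544)) (tt N26968 (iv F197449)) (tt N25188 (iv D42127)) (tt N25194 F193725) (tt N27022 D42949))
theorem Q26202 : ∀ i, i < 26202 → P i := stepQ 26201 Q26201 (allL N26201 (tt N26614 (iv F195909)) (tt N27013 (iv F197596)) (tt N25199 F193726) (tt N27021 (iv F197619)) (tt N25191 F193727) (tt N26734 (iv F196549)) (tt N25189 F193728) (tt N27022 (iv F197623)) (tt N26792 (iv F196826)) (tt N25188 (iv D42128)))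
theorem Q26203 : ∀ i, i < 26203 → P i := stepQ 26202 Q26202 (allL N26202 (tt N26615 (iv F195915)) (tt N26387 (iv F194516)) (tt N25200 F193729) (tt N26990 (iv F197521)) (tt N25192 F193730) (tt N26993 (iv F197533)) (tt N26792 (iv F196825)) (tt N26970 (iv F197457)) (tt N25189 (iv D42129)) (tt N25195 F193731))
theorem Q26204 : ∀ i, i < 26204 → P i := stepQ 26203 Q26203 (allL N26203 (tt N26616 (iv F195919)) (tt N26768 (iv F196706)) (tt N25201 F193732) (tt N27019 (iv F197615)) (tt N27022 (iv F197622)) (tt N26670 F196256) (tt N26971 (iv F197460)) (tt N25191 F193733) (tt N26762 (iv F196673)) (tt N25190 (iv D42130)))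
theorem Q26205 : ∀ i, i < 26205 → P i := stepQ 26204 Q26204 (allL N26204 (tt N26618 (iv F195929)) (tt N26411 (iv F194669)) (tt N26862 (iv F197074)) (tt N25194 F193734) (tt N27012 (iv F197594)) (tt N25203 F193735) (tt N26973 (iv F197469)) (tt N25193 (iv D42131)) (tt N27020 (iv F197618)) (tt N26760 (iv F196667)))
theorem Q26206 : ∀ i, i < 26206 → P i := stepQ 26205 Q26205 (allL N26205 (tt N26511 (iv F195318)) (tt N26609 (iv F195882)) (tt N26733 (iv F196542)) (tt N26865 (iv F197086)) (tt N26506 (iv F195289)) (tt N25198 F193736) (tt N27023 D42950) (tt N25197 (iv D42132)) (tt N25204 F193737) (tt N27024 D42951))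
theorem Q26207 : ∀ i, i < 26207 → P i := stepQ 26206 Q26206 (allL N26206 (tt N26597 (iv F195810)) (tt N26778 (iv F196751)) (tt N26734 (iv F196547)) (tt N26888 (iv F197160)) (tt N26591 (iv F195780)) (tt N25199 F193738) (tt N26723 (iv F196500)) (tt N27024 (iv F197627)) (tt N26911 (iv F197226)) (tt N25197 (iv D42133)))
theorem Q26208 : ∀ i, i < 26208 → P i := stepQ 26207 Q26207 (allL N26207 (tt N26622 (iv F195955)) (tt N26744 (iv F196588)) (tt N27022 (iv F197621)) (tt N26866 (iv F197091)) (tt N25201 F193739) (tt N27024 (iv F197626)) (tt N26979 (iv F197485)) (tt N25199 F193740) (tt N26763 (iv F196678)) (tt N25198 (iv D42134)))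
theorem Q26209 : ∀ i, i < 26209 → P i := stepQ 26208 Q26208 (allL N26208 (tt N26514 (iv F195335)) (tt N26608 (iv F195874)) (tt N26342 (iv F194233)) (tt N26918 (iv F197245)) (tt N25234 F193741) (tt N26208 F193742) (tt N25204 (iv D42135)) (tt N26327 (iv F194146)) (tt N27023 (iv F197625)) (tt N25233 F193743))
theorem Q26210 : ∀ i, i < 26210 → P i := stepQ 26209 Q26209 (allL N26209 (tt N26627 (iv F195981)) (tt N26385 (iv F194506)) (tt N25316 F193744) (tt N25303 F193745) (tt N27007 (iv F197579)) (tt N25206 F193746) (tt N27006 (iv F197575)) (tt N25205 (iv D42136)) (tt N27014 (iv F197601)) (tt N25302 F193747))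
theorem Q26211 : ∀ i, i < 26211 → P i := stepQ 26210 Q26210 (allL N26210 (tt N26774 (iv F196736)) (tt N25309 F193748) (tt N26350 (iv F194287)) (tt N25219 F193749) (tt N25208 F193750) (tt N26985 (iv F197501)) (tt N26682 (iv F196324)) (tt N26301 (iv F193955)) (tt N26313 (iv F194051)) (tt N25207 (iv D42137)))
theorem Q26212 : ∀ i, i < 26212 → P i := stepQ 26211 Q26211 (allL N26211 (tt N26777 (iv F196747)) (tt N26361 (iv F194355)) (tt N26927 (iv F197291)) (tt N26313 (iv F194046)) (tt N25211 F193751) (tt N26938 (iv F197352)) (tt N26680 (iv F196316)) (tt N26317 (iv F194081)) (tt N25219 F193752) (tt N25210 (iv D42138)))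
theorem Q26213 : ∀ i, i < 26213 → P i := stepQ 26212 Q26212 (allL N26212 (tt N26817 (iv F196927)) (tt N25293 F193753) (tt N26368 (iv F194404)) (tt N25213 F193754) (tt N26931 (iv F197319)) (tt N26600 (iv F195831)) (tt N25212 (iv D42139)) (tt N27025 D42952) (tt N25217 F193755) (tt N27026 D42953))
theorem Q26214 : ∀ i, i < 26214 → P i := stepQ 26213 Q26213 (allL N26213 (tt N26818 (iv F196932)) (tt N25294 F193756) (tt N26369 (iv F194410)) (tt N25214 F193757) (tt N26932 (iv F197323)) (tt N26301 (iv F193953)) (tt N27026 (iv F197633)) (tt N26985 (iv F197502)) (tt N26379 (iv F194474)) (tt N25212 (iv D42140)))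
theorem Q26215 : ∀ i, i < 26215 → P i := stepQ 26214 Q26214 (allL N26214 (tt N26910 (iv F197220)) (tt N25296 F193758) (tt N26400 (iv F194598)) (tt N27025 (iv F197629)) (tt N25215 F193759) (tt N26790 (iv F196818)) (tt N26986 (iv F197505)) (tt N25213 (iv D42141)) (tt N25218 F193760) (tt N27027 D42954))
theorem Q26216 : ∀ i, i < 26216 → P i := stepQ 26215 Q26215 (allL N26215 (tt N26907 (iv F197206)) (tt N25297 F193761) (tt N26395 (iv F194562)) (tt N27026 (iv F197632)) (tt N25216 F193762) (tt N26787 F196802) (tt N25214 F193763) (tt N27027 (iv F197636)) (tt N26382 (iv F194491)) (tt N25213 (iv D42142)))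
theorem Q26217 : ∀ i, i < 26217 → P i := stepQ 26216 Q26216 (allL N26216 (tt N26908 (iv F197212)) (tt N25299 F193764) (tt N26396 (iv F194569)) (tt N26936 (iv F197339)) (tt N27027 (iv F197635)) (tt N26671 (iv F196261)) (tt N26988 (iv F197513)) (tt N25216 F193765) (tt N26383 (iv F194497)) (tt N25215 (iv D42143)))
theorem Q26218 : ∀ i, i < 26218 → P i := stepQ 26217 Q26217 (allL N26217 (tt N26819 (iv F196937)) (tt N25302 F193766) (tt N26411 (iv F194670)) (tt N25218 F193767) (tt N26937 (iv F197345)) (tt N25319 F193768) (tt N26989 (iv F197519)) (tt N25217 (iv D42144)) (tt N27025 (iv F197630)) (tt N26385 (iv F194509)))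
theorem Q26219 : ∀ i, i < 26219 → P i := stepQ 26218 Q26218 (allL N26218 (tt N26669 (iv F196242)) (tt N25223 F193769) (tt N26303 (iv F193968)) (tt N26930 (iv F197312)) (tt N25285 F193770) (tt N26926 (iv F197287)) (tt N25260 F193771) (tt N26412 (iv F194680)) (tt N25229 F193772) (tt N25220 (iv D42145)))
theorem Q26220 : ∀ i, i < 26220 → P i := stepQ 26219 Q26219 (allL N26219 (tt N26416 (iv F194706)) (tt N26928 (iv F197297)) (tt N26629 (iv F195998)) (tt N26319 (iv F194094)) (tt N25222 F193773) (tt N27028 D42955) (tt N25261 F193774) (tt N26413 (iv F194688)) (tt N25221 (iv D42146)) (tt N27029 D42956))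
theorem Q26221 : ∀ i, i < 26221 → P i := stepQ 26220 Q26220 (allL N26220 (tt N26418 (iv F194720)) (tt N26930 (iv F197310)) (tt N26630 (iv F196005)) (tt N25223 F193775) (tt N27029 (iv F197638)) (tt N26988 (iv F197512)) (tt N25262 F193776) (tt N26414 (iv F194695)) (tt N25232 F193777) (tt N25222 (iv D42147)))
theorem Q26222 : ∀ i, i < 26222 → P i := stepQ 26221 Q26221 (allL N26221 (tt N26431 (iv F194807)) (tt N26413 (iv F194683)) (tt N26934 (iv F197330)) (tt N26713 (iv F196454)) (tt N25225 F193778) (tt N27030 D42957) (tt N25224 (iv D42148)) (tt N26928 (iv F197301)) (tt N25227 F193779) (tt N27031 D42958))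
theorem Q26223 : ∀ i, i < 26223 → P i := stepQ 26222 Q26222 (allL N26222 (tt N26432 (iv F194811)) (tt N26547 (iv F195525)) (tt N26994 (iv F197535)) (tt N26763 (iv F196675)) (tt N25226 F193780) (tt N26335 (iv F194194)) (tt N27031 (iv F197644)) (tt N26415 (iv F194704)) (tt N26866 (iv F197094)) (tt N25224 (iv D42149)))
theorem Q26224 : ∀ i, i < 26224 → P i := stepQ 26223 Q26223 (allL N26223 (tt N26434 (iv F194823)) (tt N26414 (iv F194690)) (tt N26936 (iv F197338)) (tt N26412 (iv F194676)) (tt N27031 (iv F197643)) (tt N25271 F193781) (tt N25226 F193782) (tt N26930 (iv F197315)) (tt N26831 (iv F196978)) (tt N25225 (iv D42150)))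
theorem Q26225 : ∀ i, i < 26225 → P i := stepQ 26224 Q26224 (allL N26224 (tt N26767 (iv F196700)) (tt N25232 F193783) (tt N26374 (iv F194440)) (tt N25229 F193784) (tt N26976 (iv F197479)) (tt N26605 (iv F195858)) (tt N25280 F193785) (tt N26831 (iv F196977)) (tt N26930 (iv F197316)) (tt N25228 (iv D42151)))
theorem Q26226 : ∀ i, i < 26226 → P i := stepQ 26225 Q26225 (allL N26225 (tt N26717 (iv F196476)) (tt N26975 (iv F197474)) (tt N26941 (iv F197365)) (tt N26443 (iv F194885)) (tt N27032 D42959) (tt N25230 (iv D42152)) (tt N26996 (iv F197542)) (tt N26832 (iv F196979)) (tt N26225 F193786) (tt N27033 D42960))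
theorem Q26227 : ∀ i, i < 26227 → P i := stepQ 26226 Q26226 (allL N26226 (tt N26718 (iv F196478)) (tt N26976 (iv F197477)) (tt N26942 (iv F197367)) (tt N26444 (iv F194890)) (tt N25232 F193787) (tt N27033 (iv F197647)) (tt N25281 F193788) (tt N26833 (iv F196983)) (tt N27029 (iv F197640)) (tt N25230 (iv D42153)))
theorem Q26228 : ∀ i, i < 26228 → P i := stepQ 26227 Q26227 (allL N26227 (tt N26719 (iv F196481)) (tt N26602 (iv F195839)) (tt N26943 (iv F197370)) (tt N27034 D42961) (tt N25231 (iv D42154)) (tt N27032 (iv F197645)) (tt N26595 (iv F195803)) (tt N26834 (iv F196984)) (tt N25233 F193789) (tt N27035 D42962))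
theorem Q26229 : ∀ i, i < 26229 → P i := stepQ 26228 Q26228 (allL N26228 (tt N26720 (iv F196483)) (tt N26605 (iv F195855)) (tt N26944 (iv F197372)) (tt N25236 F193790) (tt N27035 (iv F197650)) (tt N25232 F193791) (tt N26596 (iv F195809)) (tt N26835 (iv F196988)) (tt N27036 D42963) (tt N25231 (iv D42155)))
theorem Q26230 : ∀ i, i < 26230 → P i := stepQ 26229 Q26229 (allL N26229 (tt N26721 (iv F196486)) (tt N26589 (iv F195766)) (tt N27037 D42964) (tt N25233 (iv D42156)) (tt N25237 F193792) (tt N26229 F193793) (tt N26348 F194277) (tt N26836 (iv F196991)) (tt N27034 (iv F197649)) (tt N26918 (iv F197248)))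
theorem Q26231 : ∀ i, i < 26231 → P i := stepQ 26230 Q26230 (allL N26230 (tt N26512 (iv F195324)) (tt N26610 (iv F195889)) (tt N26336 (iv F194198)) (tt N25239 F193794) (tt N27023 (iv F197624)) (tt N26354 (iv F194315)) (tt N26506 (iv F195290)) (tt N26324 (iv F194131)) (tt N25234 (iv D42157)) (tt N27036 (iv F197652)))
theorem Q26232 : ∀ i, i < 26232 → P i := stepQ 26231 Q26231 (allL N26231 (tt N26722 (iv F196491)) (tt N26611 (iv F195896)) (tt N27038 D42965) (tt N25235 (iv D42158)) (tt N27034 (iv F197648)) (tt N26448 (iv F194914)) (tt N26461 (iv F194998)) (tt N26837 (iv F196992)) (tt N25237 F193795) (tt N27039 D42966))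
theorem Q26233 : ∀ i, i < 26233 → P i := stepQ 26232 Q26232 (allL N26232 (tt N26723 (iv F196496)) (tt N26614 (iv F195910)) (tt N25245 F193796) (tt N27039 (iv F197657)) (tt N25236 F193797) (tt N26449 (iv F194921)) (tt N26597 (iv F195815)) (tt N26839 (iv F196999)) (tt N27040 D42967) (tt N25235 (iv D42159)))
theorem Q26234 : ∀ i, i < 26234 → P i := stepQ 26233 Q26233 (allL N26233 (tt N26724 (iv F196501)) (tt N26617 (iv F195925)) (tt N25248 F193798) (tt N27036 (iv F197651)) (tt N27040 (iv F197659)) (tt N26864 (iv F197082)) (tt N26598 (iv F195818)) (tt N26841 (iv F197005)) (tt N25236 (iv D42160)) (tt N25239 F193799))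
theorem Q26235 : ∀ i, i < 26235 → P i := stepQ 26234 Q26234 (allL N26234 (tt N26725 (iv F196504)) (tt N27041 D42968) (tt N25237 (iv D42161)) (tt N25249 F193800) (tt N27037 (iv F197653)) (tt N25240 F193801) (tt N26454 (iv F194952)) (tt N26842 (iv F197009)) (tt N27038 (iv F197656)) (tt N27042 D42969))
theorem Q26236 : ∀ i, i < 26236 → P i := stepQ 26235 Q26235 (allL N26235 (tt N26726 (iv F196508)) (tt N26451 F194934) (tt N27042 (iv F197667)) (tt N25238 F193802) (tt N26918 (iv F197246)) (tt N25241 F193803) (tt N25259 F193804) (tt N26844 (iv F197014)) (tt N27043 D42970) (tt N25237 (iv D42162)))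
theorem Q26237 : ∀ i, i < 26237 → P i := stepQ 26236 Q26236 (allL N26236 (tt N26727 (iv F196513)) (tt N26455 (iv F194955)) (tt N25254 F193805) (tt N27043 (iv F197671)) (tt N25239 F193806) (tt N27044 D42971) (tt N26599 (iv F195826)) (tt N26845 (iv F197017)) (tt N25238 (iv D42163)) (tt N27040 (iv F197660)))
theorem Q26238 : ∀ i, i < 26238 → P i := stepQ 26237 Q26237 (allL N26237 (tt N26728 (iv F196518)) (tt N25240 (iv D42164)) (tt N25325 F193807) (tt N25242 F193808) (tt N26237 F193809) (tt N27041 (iv F197663)) (tt N25321 F193810) (tt N26846 (iv F197022)) (tt N25241 F193811) (tt N25323 (iv F193812)))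
theorem Q26239 : ∀ i, i < 26239 → P i := stepQ 26238 Q26238 (allL N26238 (tt N26689 (iv F196355)) (tt N25323 F193813) (tt N25241 F193814) (tt N25258 F193815) (tt N26238 F193816) (tt N27042 (iv F197669)) (tt N25322 F193817) (tt N26847 (iv F197030)) (tt N25325 F193818) (tt N25240 (iv D42165)))
theorem Q26240 : ∀ i, i < 26240 → P i := stepQ 26239 Q26239 (allL N26239 (tt N26729 (iv F196525)) (tt N25249 F193819) (tt N25259 F193820) (tt N27041 (iv F197662)) (tt N26917 (iv F197242)) (tt N25242 (iv D42166)) (tt N27042 (iv F197670)) (tt N26848 (iv F197035)) (tt N27044 (iv F197675)) (tt N26454 (iv F194953)))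
theorem Q26241 : ∀ i, i < 26241 → P i := stepQ 26240 Q26240 (allL N26240 (tt N26730 (iv F196529)) (tt N27044 (iv F197673)) (tt N25243 (iv D42167)) (tt N27038 (iv F197655)) (tt N26952 (iv F197396)) (tt N26455 (iv F194957)) (tt N27045 D42972) (tt N26849 (iv F197036)) (tt N25249 F193821) (tt N27046 D42973))
theorem Q26242 : ∀ i, i < 26242 → P i := stepQ 26241 Q26241 (allL N26241 (tt N26731 (iv F196532)) (tt N26448 (iv F194913)) (tt N27045 (iv F197676)) (tt N25244 F193822) (tt N26953 (iv F197399)) (tt N26611 (iv F195898)) (tt N25243 (iv D42168)) (tt N27047 D42974) (tt N25250 F193823) (tt N27048 D42975))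
theorem Q26243 : ∀ i, i < 26243 → P i := stepQ 26242 Q26242 (allL N26242 (tt N26732 (iv F196537)) (tt N26549 (iv F195539)) (tt N27046 (iv F197678)) (tt N25245 F193824) (tt N26954 (iv F197402)) (tt N26456 (iv F194964)) (tt N27048 (iv F197682)) (tt N26851 (iv F197041)) (tt N27049 D42976) (tt N25243 (iv D42169)))
theorem Q26244 : ∀ i, i < 26244 → P i := stepQ 26243 Q26243 (allL N26243 (tt N26733 (iv F196541)) (tt N26420 (iv F194735)) (tt N26511 (iv F195320)) (tt N27047 (iv F197679)) (tt N25246 F193825) (tt N26613 (iv F195907)) (tt N26853 (iv F197045)) (tt N25244 (iv D42170)) (tt N25252 F193826) (tt N27050 D42977))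
theorem Q26245 : ∀ i, i < 26245 → P i := stepQ 26244 Q26244 (allL N26244 (tt N26734 (iv F196546)) (tt N26449 (iv F194918)) (tt N26597 (iv F195812)) (tt N27048 (iv F197681)) (tt N25247 F193827) (tt N26614 (iv F195913)) (tt N25245 F193828) (tt N27050 (iv F197686)) (tt N27051 D42978) (tt N25244 (iv D42171)))
theorem Q26246 : ∀ i, i < 26246 → P i := stepQ 26245 Q26245 (allL N26245 (tt N26735 (iv F196551)) (tt N26550 (iv F195543)) (tt N27040 (iv F197658)) (tt N27049 (iv F197683)) (tt N25248 F193829) (tt N27052 D42979) (tt N27051 (iv F197688)) (tt N26855 (iv F197051)) (tt N25245 (iv D42172)) (tt N25254 F193830))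
theorem Q26247 : ∀ i, i < 26247 → P i := stepQ 26246 Q26246 (allL N26246 (tt N26736 (iv F196554)) (tt N26422 (iv F194748)) (tt N26513 (iv F195332)) (tt N26958 (iv F197409)) (tt N27050 (iv F197685)) (tt N25284 F193831) (tt N26856 (iv F197054)) (tt N25247 F193832) (tt N27053 D42980) (tt N25246 (iv D42173)))
theorem Q26248 : ∀ i, i < 26248 → P i := stepQ 26247 Q26247 (allL N26247 (tt N26737 (iv F196557)) (tt N26450 (iv F194924)) (tt N26598 (iv F195817)) (tt N26870 (iv F197109)) (tt N27051 (iv F197687)) (tt N27054 D42981) (tt N25248 F193833) (tt N27053 (iv F197691)) (tt N25247 (iv D42174)) (tt N25256 F193834))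
theorem Q26249 : ∀ i, i < 26249 → P i := stepQ 26248 Q26248 (allL N26248 (tt N26738 (iv F196560)) (tt N27042 (iv F197666)) (tt N25250 F193835) (tt N26454 (iv F194951)) (tt N26959 (iv F197413)) (tt N25323 F193836) (tt N25249 (iv D42175)) (tt N27055 D42982) (tt N27045 (iv F197677)) (tt N27041 F197665))
theorem Q26250 : ∀ i, i < 26250 → P i := stepQ 26249 Q26249 (allL N26249 (tt N26696 (iv F196387)) (tt N26454 (iv F194949)) (tt N25251 F193837) (tt N27042 (iv F197668)) (tt N26871 (iv F197112)) (tt N25258 F193838) (tt N27041 (iv F197664)) (tt N26858 (iv F197061)) (tt N27056 D42983) (tt N25249 (iv D42176)))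
theorem Q26251 : ∀ i, i < 26251 → P i := stepQ 26250 Q26250 (allL N26250 (tt N26739 (iv F196565)) (tt N26423 (iv F194753)) (tt N27055 (iv F197695)) (tt N25252 F193839) (tt N26960 (iv F197416)) (tt N25324 F193840) (tt N26859 (iv F197064)) (tt N25250 (iv D42177)) (tt N27047 (iv F197680)) (tt N27057 D42984))
theorem Q26252 : ∀ i, i < 26252 → P i := stepQ 26251 Q26251 (allL N26251 (tt N26740 (iv F196569)) (tt N26452 (iv F194937)) (tt N27041 (iv F197661)) (tt N25253 F193841) (tt N26872 (iv F197118)) (tt N25325 F193842) (tt N25251 F193843) (tt N27057 (iv F197701)) (tt N27058 D42985) (tt N25250 (iv D42178)))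
theorem Q26253 : ∀ i, i < 26253 → P i := stepQ 26252 Q26252 (allL N26252 (tt N26741 (iv F196574)) (tt N26551 (iv F195549)) (tt N27056 (iv F197697)) (tt N25254 F193844) (tt N26867 (iv F197096)) (tt N26599 (iv F195825)) (tt N27058 (iv F197703)) (tt N26860 (iv F197068)) (tt N25251 (iv D42179)) (tt N27049 (iv F197684)))
theorem Q26254 : ∀ i, i < 26254 → P i := stepQ 26253 Q26253 (allL N26253 (tt N26594 (iv F195795)) (tt N26425 (iv F194764)) (tt N26515 (iv F195344)) (tt N27057 (iv F197699)) (tt N25255 F193845) (tt N25326 F193846) (tt N26465 (iv F195025)) (tt N25253 F193847) (tt N27059 D42986) (tt N25252 (iv D42180)))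
theorem Q26255 : ∀ i, i < 26255 → P i := stepQ 26254 Q26254 (allL N26254 (tt N26742 (iv F196578)) (tt N26453 (iv F194944)) (tt N26599 (iv F195822)) (tt N27058 (iv F197702)) (tt N25256 F193848) (tt N27056 (iv F197698)) (tt N25254 F193849) (tt N27059 (iv F197705)) (tt N25253 (iv D42181)) (tt N27051 (iv F197689)))
theorem Q26256 : ∀ i, i < 26256 → P i := stepQ 26255 Q26255 (allL N26255 (tt N26743 (iv F196583)) (tt N26548 F195537) (tt N27044 (iv F197674)) (tt N26599 (iv F195823)) (tt N26865 (iv F197087)) (tt N25254 (iv D42182)) (tt N27043 (iv F197672)) (tt N26861 (iv F197071)) (tt N25259 F193850) (tt N27052 (iv F197690)))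
theorem Q26257 : ∀ i, i < 26257 → P i := stepQ 26256 Q26256 (allL N26256 (tt N26592 (iv F195783)) (tt N26426 (iv F194771)) (tt N26516 (iv F195352)) (tt N26467 (iv F195037)) (tt N27059 (iv F197704)) (tt N26519 (iv F195372)) (tt N26463 F195013) (tt N25256 F193851) (tt N25255 (iv D42183)) (tt N27053 (iv F197692)))
theorem Q26258 : ∀ i, i < 26258 → P i := stepQ 26257 Q26257 (allL N26257 (tt N26508 (iv F195299)) (tt N26329 (iv F194156)) (tt N26505 (iv F195279)) (tt N26524 (iv F195399)) (tt N26912 (iv F197228)) (tt N25256 (iv D42184)) (tt N26604 (iv F195852)) (tt N26519 (iv F195374)) (tt N25257 F193852) (tt N27054 (iv F197694)))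
theorem Q26259 : ∀ i, i < 26259 → P i := stepQ 26258 Q26258 (allL N26258 (tt N26744 (iv F196587)) (tt N26929 (iv F197303)) (tt N26921 (iv F197256)) (tt N26350 (iv F194288)) (tt N25262 F193853) (tt N26962 (iv F197427)) (tt N27029 (iv F197639)) (tt N25288 F193854) (tt N25281 F193855) (tt N25261 (iv D42185)))
theorem Q26260 : ∀ i, i < 26260 → P i := stepQ 26259 Q26259 (allL N26259 (tt N26746 (iv F196601)) (tt N26672 (iv F196266)) (tt N25268 F193856) (tt N26939 (iv F197357)) (tt N25264 F193857) (tt N27060 D42987) (tt N25263 (iv D42186)) (tt N26674 (iv F196284)) (tt N25266 F193858) (tt N27061 D42988))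
theorem Q26261 : ∀ i, i < 26261 → P i := stepQ 26260 Q26260 (allL N26260 (tt N26747 (iv F196607)) (tt N26927 (iv F197290)) (tt N25269 F193859) (tt N26961 (iv F197420)) (tt N25265 F193860) (tt N26353 (iv F194308)) (tt N27061 (iv F197710)) (tt N25289 F193861) (tt N26938 (iv F197354)) (tt N25263 (iv D42187)))
theorem Q26262 : ∀ i, i < 26262 → P i := stepQ 26261 Q26261 (allL N26261 (tt N26748 (iv F196613)) (tt N26673 (iv F196273)) (tt N25271 F193862) (tt N26671 (iv F196259)) (tt N27061 (iv F197709)) (tt N26936 (iv F197340)) (tt N25265 F193863) (tt N26676 (iv F196298)) (tt N26811 (iv F196905)) (tt N25264 (iv D42188)))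
theorem Q26263 : ∀ i, i < 26263 → P i := stepQ 26262 Q26262 (allL N26262 (tt N26750 (iv F196625)) (tt N26984 (iv F197494)) (tt N27008 (iv F197583)) (tt N25268 F193864) (tt N25306 F193865) (tt N27062 D42989) (tt N25267 (iv D42189)) (tt N27063 D42990) (tt N25273 F193866) (tt N27064 D42991))
theorem Q26264 : ∀ i, i < 26264 → P i := stepQ 26263 Q26263 (allL N26263 (tt N26751 (iv F196629)) (tt N26985 (iv F197498)) (tt N26999 (iv F197551)) (tt N25269 F193867) (tt N25307 F193868) (tt N25309 F193869) (tt N27064 (iv F197720)) (tt N25294 F193870) (tt N26964 (iv F197439)) (tt N25267 (iv D42190)))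
theorem Q26265 : ∀ i, i < 26265 → P i := stepQ 26264 Q26264 (allL N26264 (tt N26752 (iv F196634)) (tt N26826 (iv F196961)) (tt N27060 (iv F197706)) (tt N27062 (iv F197711)) (tt N27030 (iv F197641)) (tt N25268 (iv D42191)) (tt N26358 (iv F194341)) (tt N27065 D42992) (tt N26264 F193871) (tt N27066 D42993))
theorem Q26266 : ∀ i, i < 26266 → P i := stepQ 26265 Q26265 (allL N26265 (tt N26753 (iv F196637)) (tt N26986 (iv F197503)) (tt N26674 (iv F196282)) (tt N27063 (iv F197714)) (tt N25270 F193872) (tt N27065 (iv F197721)) (tt N25296 F193873) (tt N25268 (iv D42192)) (tt N25274 F193874) (tt N27067 D42994))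
theorem Q26267 : ∀ i, i < 26267 → P i := stepQ 26266 Q26266 (allL N26266 (tt N26754 (iv F196642)) (tt N26987 (iv F197507)) (tt N27061 (iv F197708)) (tt N27064 (iv F197718)) (tt N25271 F193875) (tt N27066 (iv F197723)) (tt N25269 F193876) (tt N27067 (iv F197726)) (tt N27068 D42995) (tt N25268 (iv D42193)))
theorem Q26268 : ∀ i, i < 26268 → P i := stepQ 26267 Q26267 (allL N26267 (tt N26755 (iv F196645)) (tt N26353 (iv F194305)) (tt N26938 (iv F197349)) (tt N26964 (iv F197435)) (tt N25272 F193877) (tt N26927 (iv F197294)) (tt N27068 (iv F197728)) (tt N25298 F193878) (tt N25269 (iv D42194)) (tt N25276 F193879))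
theorem Q26269 : ∀ i, i < 26269 → P i := stepQ 26268 Q26268 (allL N26268 (tt N26756 (iv F196649)) (tt N26988 (iv F197510)) (tt N26676 (iv F196294)) (tt N26926 (iv F197286)) (tt N27067 (iv F197724)) (tt N26930 (iv F197313)) (tt N25299 F193880) (tt N25271 F193881) (tt N27069 D42996) (tt N25270 (iv D42195)))
theorem Q26270 : ∀ i, i < 26270 → P i := stepQ 26269 Q26269 (allL N26269 (tt N26757 (iv F196653)) (tt N26355 (iv F194319)) (tt N26811 (iv F196902)) (tt N26815 (iv F196919)) (tt N27068 (iv F197727)) (tt N27070 D42997) (tt N25272 F193882) (tt N27069 (iv F197731)) (tt N25271 (iv D42196)) (tt N25278 F193883))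
theorem Q26271 : ∀ i, i < 26271 → P i := stepQ 26270 Q26270 (allL N26270 (tt N26758 (iv F196656)) (tt N26989 (iv F197515)) (tt N27007 (iv F197577)) (tt N25274 F193884) (tt N25316 F193885) (tt N26270 F193886) (tt N25302 F193887) (tt N25273 (iv D42197)) (tt N27063 (iv F197717)) (tt N27006 (iv F197576)))
theorem Q26272 : ∀ i, i < 26272 → P i := stepQ 26271 Q26271 (allL N26271 (tt N26704 (iv F196423)) (tt N26357 (iv F194332)) (tt N26632 (iv F196020)) (tt N27006 (iv F197572)) (tt N25277 F193888) (tt N26271 F193889) (tt N25303 F193890) (tt N25275 F193891) (tt N27071 D42998) (tt N25274 (iv D42198)))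
theorem Q26273 : ∀ i, i < 26273 → P i := stepQ 26272 Q26272 (allL N26272 (tt N26759 (iv F196661)) (tt N26352 (iv F194300)) (tt N26810 (iv F196897)) (tt N26963 (iv F197431)) (tt N25278 F193892) (tt N27072 D42999) (tt N25276 F193893) (tt N27071 (iv F197737)) (tt N25275 (iv D42199)) (tt N27068 (iv F197729)))
theorem Q26274 : ∀ i, i < 26274 → P i := stepQ 26273 Q26273 (allL N26273 (tt N26702 (iv F196411)) (tt N26354 (iv F194312)) (tt N26633 (iv F196028)) (tt N26620 (iv F195943)) (tt N27071 (iv F197735)) (tt N26610 (iv F195892)) (tt N25305 F193894) (tt N25278 F193895) (tt N25277 (iv D42200)) (tt N27069 (iv F197732)))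
theorem Q26275 : ∀ i, i < 26275 → P i := stepQ 26274 Q26274 (allL N26274 (tt N26657 (iv F196181)) (tt N26324 (iv F194126)) (tt N26555 (iv F195573)) (tt N26619 (iv F195936)) (tt N27073 D43000) (tt N25278 (iv D42201)) (tt N25286 F193896) (tt N26610 (iv F195894)) (tt N25279 F193897) (tt N27070 (iv F197734)))
theorem Q26276 : ∀ i, i < 26276 → P i := stepQ 26275 Q26275 (allL N26275 (tt N26656 (iv F196174)) (tt N26327 (iv F194142)) (tt N26557 (iv F195583)) (tt N26919 (iv F197249)) (tt N25279 (iv D42202)) (tt N26275 F193898) (tt N25287 F193899) (tt N26608 (iv F195880)) (tt N27073 (iv F197740)) (tt N26607 F195872))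
theorem Q26277 : ∀ i, i < 26277 → P i := stepQ 26276 Q26276 (allL N26276 (tt N26768 (iv F196705)) (tt N26325 (iv F194133)) (tt N26556 (iv F195579)) (tt N26981 (iv F197490)) (tt N27074 D43001) (tt N25285 (iv D42203)) (tt N27070 (iv F197733)) (tt N26716 (iv F196475)) (tt N27054 (iv F197693)) (tt N25286 F193900))
theorem Q26278 : ∀ i, i < 26278 → P i := stepQ 26277 Q26277 (allL N26277 (tt N26769 (iv F196709)) (tt N26323 (iv F194120)) (tt N26554 (iv F195567)) (tt N26893 (iv F197171)) (tt N25286 (iv D42204)) (tt N26923 (iv F197272)) (tt N27073 (iv F197739)) (tt N26715 (iv F196468)) (tt N25287 F193901) (tt N27074 (iv F197741)))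
theorem Q26279 : ∀ i, i < 26279 → P i := stepQ 26278 Q26278 (allL N26278 (tt N26781 (iv F196772)) (tt N26314 (iv F194053)) (tt N25298 F193902) (tt N26922 (iv F197264)) (tt N25290 F193903) (tt N26317 (iv F194079)) (tt N26820 (iv F196946)) (tt N26938 (iv F197353)) (tt N25289 (iv D42205)) (tt N25291 F193904))
theorem Q26280 : ∀ i, i < 26280 → P i := stepQ 26279 Q26279 (allL N26279 (tt N26782 (iv F196778)) (tt N26885 (iv F197149)) (tt N25293 F193905) (tt N26814 (iv F196914)) (tt N26963 (iv F197432)) (tt N27075 D43002) (tt N25292 (iv D42206)) (tt N27076 D43003) (tt N25301 F193906) (tt N27077 D43004))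
theorem Q26281 : ∀ i, i < 26281 → P i := stepQ 26280 Q26280 (allL N26280 (tt N26783 (iv F196782)) (tt N26993 (iv F197530)) (tt N25294 F193907) (tt N26925 (iv F197281)) (tt N26964 (iv F197436)) (tt N26387 (iv F194519)) (tt N27077 (iv F197747)) (tt N26999 (iv F197555)) (tt N25307 F193908) (tt N25292 (iv D42207)))
theorem Q26282 : ∀ i, i < 26282 → P i := stepQ 26281 Q26281 (allL N26281 (tt N26686 (iv F196340)) (tt N26600 (iv F195828)) (tt N27075 (iv F197742)) (tt N25295 F193909) (tt N27078 D43005) (tt N25293 (iv D42208)) (tt N26388 (iv F194525)) (tt N26946 (iv F197379)) (tt N25320 F193910) (tt N27079 D43006))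
theorem Q26283 : ∀ i, i < 26283 → P i := stepQ 26282 Q26282 (allL N26282 (tt N26784 (iv F196786)) (tt N27025 (iv F197628)) (tt N27076 (iv F197744)) (tt N25296 F193911) (tt N26997 (iv F197545)) (tt N26946 (iv F197378)) (tt N27063 (iv F197716)) (tt N25293 (iv D42209)) (tt N25302 F193912) (tt N27080 D43007))
theorem Q26284 : ∀ i, i < 26284 → P i := stepQ 26283 Q26283 (allL N26283 (tt N26785 (iv F196789)) (tt N27026 (iv F197631)) (tt N27077 (iv F197746)) (tt N25297 F193913) (tt N26998 (iv F197549)) (tt N27079 (iv F197751)) (tt N25294 F193914) (tt N27080 (iv F197753)) (tt N27015 (iv F197605)) (tt N25293 (iv D42210)))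
theorem Q26285 : ∀ i, i < 26285 → P i := stepQ 26284 Q26284 (allL N26284 (tt N26687 (iv F196345)) (tt N26787 (iv F196797)) (tt N26646 (iv F196122)) (tt N27079 (iv F197750)) (tt N26644 (iv F196109)) (tt N25297 F193915) (tt N26393 (iv F194555)) (tt N26948 (iv F197387)) (tt N26694 (iv F196381)) (tt N25295 (iv D42211)))
theorem Q26286 : ∀ i, i < 26286 → P i := stepQ 26285 Q26285 (allL N26285 (tt N26786 (iv F196792)) (tt N27027 (iv F197634)) (tt N26675 (iv F196288)) (tt N27080 (iv F197752)) (tt N25299 F193916) (tt N26948 (iv F197386)) (tt N27067 (iv F197725)) (tt N25297 F193917) (tt N27081 D43008) (tt N25296 (iv D42212)))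
theorem Q26287 : ∀ i, i < 26287 → P i := stepQ 26286 Q26286 (allL N26286 (tt N26787 (iv F196796)) (tt N26382 (iv F194487)) (tt N26820 (iv F196943)) (tt N27015 (iv F197603)) (tt N25300 F193918) (tt N26907 (iv F197209)) (tt N25298 F193919) (tt N27081 (iv F197755)) (tt N25297 (iv D42213)) (tt N25304 F193920))
theorem Q26288 : ∀ i, i < 26288 → P i := stepQ 26287 Q26287 (allL N26287 (tt N26788 (iv F196803)) (tt N26383 (iv F194493)) (tt N26677 (iv F196301)) (tt N27005 (iv F197568)) (tt N27081 (iv F197754)) (tt N26800 (iv F196855)) (tt N27069 (iv F197730)) (tt N25300 F193921) (tt N25299 (iv D42214)) (tt N25305 F193922))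
theorem Q26289 : ∀ i, i < 26289 → P i := stepQ 26288 Q26288 (allL N26288 (tt N26789 (iv F196809)) (tt N26862 (iv F197073)) (tt N25302 F193923) (tt N26621 F195954) (tt N27006 (iv F197573)) (tt N25317 F193924) (tt N27007 (iv F197581)) (tt N25301 (iv D42215)) (tt N27076 (iv F197745)) (tt N25316 F193925))
theorem Q26290 : ∀ i, i < 26290 → P i := stepQ 26289 Q26289 (allL N26289 (tt N26790 (iv F196814)) (tt N26381 (iv F194482)) (tt N26678 (iv F196308)) (tt N27014 (iv F197600)) (tt N25305 F193926) (tt N26910 (iv F197223)) (tt N27071 (iv F197736)) (tt N25304 F193927) (tt N25303 (iv D42216)) (tt N27081 (iv F197756)))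
theorem Q26291 : ∀ i, i < 26291 → P i := stepQ 26290 Q26290 (allL N26290 (tt N26801 (iv F196859)) (tt N26991 (iv F197524)) (tt N27014 (iv F197599)) (tt N26923 (iv F197270)) (tt N27063 (iv F197715)) (tt N26893 (iv F197172)) (tt N26997 (iv F197546)) (tt N25306 (iv D42217)) (tt N25316 F193928) (tt N27082 D43009))
theorem Q26292 : ∀ i, i < 26292 → P i := stepQ 26291 Q26291 (allL N26291 (tt N26802 (iv F196861)) (tt N26992 (iv F197527)) (tt N27015 (iv F197602)) (tt N26924 (iv F197276)) (tt N27064 (iv F197719)) (tt N26894 (iv F197174)) (tt N25307 F193929) (tt N27082 (iv F197757)) (tt N27077 (iv F197748)) (tt N25306 (iv D42218)))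
theorem Q26293 : ∀ i, i < 26293 → P i := stepQ 26292 Q26292 (allL N26292 (tt N26803 (iv F196863)) (tt N26681 (iv F196318)) (tt N27016 (iv F197606)) (tt N26358 (iv F194340)) (tt N26898 (iv F197184)) (tt N25308 (iv D42219)) (tt N27062 (iv F197712)) (tt N27083 D43010) (tt N26292 F193930) (tt N27084 D43011))
theorem Q26294 : ∀ i, i < 26294 → P i := stepQ 26293 Q26293 (allL N26293 (tt N26804 (iv F196866)) (tt N26462 (iv F195001)) (tt N27017 (iv F197608)) (tt N26359 (iv F194345)) (tt N25310 F193931) (tt N27083 (iv F197758)) (tt N26389 (iv F194531)) (tt N25308 (iv D42220)) (tt N25313 F193932) (tt N27085 D43012))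
theorem Q26295 : ∀ i, i < 26295 → P i := stepQ 26294 Q26294 (allL N26294 (tt N26805 (iv F196871)) (tt N26682 (iv F196321)) (tt N27018 (iv F197611)) (tt N26360 (iv F194351)) (tt N25311 F193933) (tt N27084 (iv F197760)) (tt N25309 F193934) (tt N27085 (iv F197762)) (tt N26706 (iv F196435)) (tt N25308 (iv D42221)))
theorem Q26296 : ∀ i, i < 26296 → P i := stepQ 26295 Q26295 (allL N26295 (tt N26806 (iv F196875)) (tt N26313 (iv F194044)) (tt N26962 (iv F197425)) (tt N26361 (iv F194357)) (tt N25312 F193935) (tt N26921 (iv F197259)) (tt N26706 (iv F196434)) (tt N26391 (iv F194544)) (tt N25309 (iv D42222)) (tt N25314 F193936))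
theorem Q26297 : ∀ i, i < 26297 → P i := stepQ 26296 Q26296 (allL N26296 (tt N26807 (iv F196880)) (tt N26464 (iv F195015)) (tt N27019 (iv F197614)) (tt N25315 F193937) (tt N27085 (iv F197761)) (tt N26901 (iv F197191)) (tt N26510 (iv F195316)) (tt N25311 F193938) (tt N26660 (iv F196201)) (tt N25310 (iv D42223)))
theorem Q26298 : ∀ i, i < 26298 → P i := stepQ 26297 Q26297 (allL N26297 (tt N26688 (iv F196351)) (tt N26738 (iv F196561)) (tt N25320 F193939) (tt N26648 (iv F196136)) (tt N27086 D43013) (tt N25318 (iv D42224)) (tt N26406 (iv F194639)) (tt N26950 (iv F197393)) (tt N27075 (iv F197743)) (tt N26697 (iv F196394)))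
theorem Q26299 : ∀ i, i < 26299 → P i := stepQ 26298 Q26298 (allL N26298 (tt N26685 (iv F196334)) (tt N26581 (iv F195715)) (tt N27086 (iv F197763)) (tt N26343 (iv F194241)) (tt N25320 (iv D42225)) (tt N26298 F193940) (tt N26341 (iv F194229)) (tt N26945 (iv F197377)) (tt N27078 (iv F197749)) (tt N26340 F194223))
theorem Q26300 : ∀ i, i < 26300 → P i := stepQ 26299 Q26299 (allL N26299 (tt N26808 (iv F196883)) (tt N26847 (iv F197025)) (tt N25324 F193941) (tt N26429 (iv F194796)) (tt N26299 F193942) (tt N27055 (iv F197696)) (tt N26299 F193943) (tt N25323 (iv D42226)) (tt N26428 F194792) (tt N26846 F197024))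
theorem Q26301 : ∀ i, i < 26301 → P i := stepQ 26300 Q26300 (allL N26300 (tt N26626 (iv F195975)) (tt N26428 (iv F194786)) (tt N26846 (iv F197018)) (tt N25326 F193944) (tt N26300 F193945) (tt N27057 (iv F197700)) (tt N26300 F193946) (tt N25325 F193947) (tt N26847 (iv F197031)) (tt N25324 (iv D42227)))
theorem Q26302 : ∀ i, i < 26302 → P i := stepQ 26301 Q26301 (allL N26301 (tt N25931 F193948) (tt N25416 F193949) (tt N25399 F193950) (tt N25349 F193951) (tt N25328 F193952) (tt N26213 F193953) (tt N25637 F193954) (tt N26210 F193955) (tt N26093 F193956) (tt N25327 (iv D42228)))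
theorem Q26303 : ∀ i, i < 26303 → P i := stepQ 26302 Q26302 (allL N26302 (tt N25932 F193957) (tt N25514 F193958) (tt N25955 F193959) (tt N25421 F193960) (tt N25545 F193961) (tt N25662 F193962) (tt N25939 F193963) (tt N25330 F193964) (tt N26059 F193965) (tt N25329 (iv D42229)))
theorem Q26304 : ∀ i, i < 26304 → P i := stepQ 26303 Q26303 (allL N26303 (tt N25933 F193966) (tt N25581 F193967) (tt N26218 F193968) (tt N25422 F193969) (tt N25593 F193970) (tt N27087 D43014) (tt N25331 F193971) (tt N26059 F193972) (tt N25330 (iv D42230)) (tt N25332 F193973))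
theorem Q26305 : ∀ i, i < 26305 → P i := stepQ 26304 Q26304 (allL N26304 (tt N25894 F193974) (tt N25337 F193975) (tt N26069 F193976) (tt N25335 F193977) (tt N27088 D43015) (tt N25332 (iv D42231)) (tt N25699 F193978) (tt N25848 F193979) (tt N25333 F193980) (tt N27087 (iv F197772)))
theorem Q26306 : ∀ i, i < 26306 → P i := stepQ 26305 Q26305 (allL N26305 (tt N25893 F193981) (tt N25336 F193982) (tt N26072 F193983) (tt N25736 F193984) (tt N25333 (iv D42232)) (tt N25334 F193985) (tt N25698 F193986) (tt N25847 F193987) (tt N27088 (iv F197780)) (tt N25666 F193988))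
theorem Q26307 : ∀ i, i < 26307 → P i := stepQ 26306 Q26306 (allL N26306 (tt N25897 F193989) (tt N25339 F193990) (tt N25741 F193991) (tt N27087 (iv F197768)) (tt N25742 F193992) (tt N25422 F193993) (tt N25700 F193994) (tt N25849 F193995) (tt N25740 F193996) (tt N25335 (iv D42233)))
theorem Q26308 : ∀ i, i < 26308 → P i := stepQ 26307 Q26307 (allL N26307 (tt N25344 F193997) (tt N27088 (iv F197774)) (tt N25582 F193998) (tt N25859 F193999) (tt N25337 F194000) (tt N25599 F194001) (tt N25701 F194002) (tt N25850 F194003) (tt N25336 (iv D42234)) (tt N27089 D43016))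
theorem Q26309 : ∀ i, i < 26309 → P i := stepQ 26308 Q26308 (allL N26308 (tt N25345 F194004) (tt N27087 (iv F197766)) (tt N25583 F194005) (tt N25339 F194006) (tt N27089 (iv F197784)) (tt N25581 F194007) (tt N25702 F194008) (tt N25851 F194009) (tt N25861 F194010) (tt N25337 (iv D42235)))
theorem Q26310 : ∀ i, i < 26310 → P i := stepQ 26309 Q26309 (allL N26309 (tt N25347 F194011) (tt N25422 F194012) (tt N25341 F194013) (tt N25581 F194014) (tt N26046 F194015) (tt N25339 F194016) (tt N25352 F194017) (tt N25853 F194018) (tt N25351 F194019) (tt N25338 (iv D42236)))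
theorem Q26311 : ∀ i, i < 26311 → P i := stepQ 26310 Q26310 (allL N26310 (tt N25349 F194020) (tt N25936 F194021) (tt N26046 F194022) (tt N25931 F194023) (tt N25341 F194024) (tt N26030 F194025) (tt N26152 F194026) (tt N25856 F194027) (tt N27090 D43017) (tt N25340 (iv D42237)))
theorem Q26312 : ∀ i, i < 26312 → P i := stepQ 26311 Q26311 (allL N26311 (tt N25352 F194028) (tt N25937 F194029) (tt N25351 F194030) (tt N25577 F194031) (tt N27090 (iv F197793)) (tt N25776 F194032) (tt N25347 F194033) (tt N25858 F194034) (tt N25341 (iv D42238)) (tt N25343 F194035))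
theorem Q26313 : ∀ i, i < 26313 → P i := stepQ 26312 Q26312 (allL N26312 (tt N25354 F194036) (tt N25938 F194037) (tt N25348 F194038) (tt N25850 F194039) (tt N25343 F194040) (tt N25869 F194041) (tt N25346 F194042) (tt N25859 F194043) (tt N25342 (iv D42239)) (tt N27090 (iv F197797)))
theorem Q26314 : ∀ i, i < 26314 → P i := stepQ 26313 Q26313 (allL N26313 (tt N27089 (iv F197781)) (tt N26295 F194044) (tt N26061 F194045) (tt N26211 F194046) (tt N25345 F194047) (tt N26166 F194048) (tt N25773 F194049) (tt N26093 F194050) (tt N26210 F194051) (tt N25344 (iv D42240)))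
theorem Q26315 : ∀ i, i < 26315 → P i := stepQ 26314 Q26314 (allL N26314 (tt N26046 F194052) (tt N26278 F194053) (tt N25349 F194054) (tt N26164 F194055) (tt N25347 F194056) (tt N25420 F194057) (tt N27090 (iv F197795)) (tt N26092 F194058) (tt N26152 F194059) (tt N25346 (iv D42241)))
theorem Q26316 : ∀ i, i < 26316 → P i := stepQ 26315 Q26315 (allL N26315 (tt N26075 F194060) (tt N25418 F194061) (tt N25859 F194062) (tt N25550 F194063) (tt N25350 F194064) (tt N25827 F194065) (tt N25940 F194066) (tt N25348 (iv D42242)) (tt N25353 F194067) (tt N27091 D43018))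
theorem Q26317 : ∀ i, i < 26317 → P i := stepQ 26316 Q26316 (allL N26316 (tt N26152 F194068) (tt N25419 F194069) (tt N27090 (iv F197791)) (tt N25637 F194070) (tt N25351 F194071) (tt N25875 F194072) (tt N25349 F194073) (tt N27091 (iv F197805)) (tt N26046 F194074) (tt N25348 (iv D42243)))
theorem Q26318 : ∀ i, i < 26318 → P i := stepQ 26317 Q26317 (allL N26317 (tt N27090 (iv F197789)) (tt N25420 F194075) (tt N26152 F194076) (tt N26093 F194077) (tt N25352 F194078) (tt N26278 F194079) (tt N26046 F194080) (tt N26211 F194081) (tt N25349 (iv D42244)) (tt N25354 F194082))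
theorem Q26319 : ∀ i, i < 26319 → P i := stepQ 26318 Q26318 (allL N26318 (tt N26076 F194083) (tt N25421 F194084) (tt N25858 F194085) (tt N25514 F194086) (tt N27091 (iv F197802)) (tt N25778 F194087) (tt N25941 F194088) (tt N25351 F194089) (tt N25853 F194090) (tt N25350 (iv D42245)))
theorem Q26320 : ∀ i, i < 26320 → P i := stepQ 26319 Q26319 (allL N26319 (tt N25956 F194091) (tt N26142 F194092) (tt N25743 F194093) (tt N26219 F194094) (tt N25356 F194095) (tt N27092 D43019) (tt N25380 F194096) (tt N25784 F194097) (tt N25355 (iv D42246)) (tt N27093 D43020))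
theorem Q26321 : ∀ i, i < 26321 → P i := stepQ 26320 Q26320 (allL N26320 (tt N25957 F194098) (tt N26143 F194099) (tt N25744 F194100) (tt N25358 F194101) (tt N27094 D43021) (tt N25356 (iv D42247)) (tt N25966 F194102) (tt N25785 F194103) (tt N25357 F194104) (tt N27095 D43022))
theorem Q26322 : ∀ i, i < 26322 → P i := stepQ 26321 Q26321 (allL N26321 (tt N25958 F194105) (tt N26141 F194106) (tt N25745 F194107) (tt N25359 F194108) (tt N27093 (iv F197817)) (tt N27095 (iv F197831)) (tt N25381 F194109) (tt N25786 F194110) (tt N25476 F194111) (tt N25356 (iv D42248)))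
theorem Q26323 : ∀ i, i < 26323 → P i := stepQ 26322 Q26322 (allL N26322 (tt N25959 F194112) (tt N26144 F194113) (tt N25746 F194114) (tt N27096 D43023) (tt N25357 (iv D42249)) (tt N26322 F194115) (tt N25965 F194116) (tt N25787 F194117) (tt N27094 (iv F197826)) (tt N25964 F194118))
theorem Q26324 : ∀ i, i < 26324 → P i := stepQ 26323 Q26323 (allL N26323 (tt N25960 F194119) (tt N26277 F194120) (tt N25366 F194121) (tt N27097 D43024) (tt N25358 (iv D42250)) (tt N26157 F194122) (tt N27098 D43025) (tt N25788 F194123) (tt N25360 F194124) (tt N27099 D43026))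
theorem Q26325 : ∀ i, i < 26325 → P i := stepQ 26324 Q26324 (allL N26324 (tt N25961 F194125) (tt N26274 F194126) (tt N25367 F194127) (tt N25966 F194128) (tt N27098 (iv F197850)) (tt N25383 F194129) (tt N25358 (iv D42251)) (tt N26230 F194131) (tt N25361 F194130) (tt N27100 D43027))
theorem Q26326 : ∀ i, i < 26326 → P i := stepQ 26325 Q26325 (allL N26325 (tt N25962 F194132) (tt N26276 F194133) (tt N25368 F194134) (tt N27095 (iv F197830)) (tt N27099 (iv F197856)) (tt N25359 F194135) (tt N27100 (iv F197864)) (tt N25789 F194136) (tt N27101 D43028) (tt N25358 (iv D42252)))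
theorem Q26327 : ∀ i, i < 26327 → P i := stepQ 26326 Q26326 (allL N26326 (tt N25963 F194137) (tt N26058 F194138) (tt N27102 D43029) (tt N25360 (iv D42253)) (tt N27096 (iv F197837)) (tt N25363 F194139) (tt N27103 D43030) (tt N25790 F194140) (tt N27097 (iv F197846)) (tt N27104 D43031))
theorem Q26328 : ∀ i, i < 26328 → P i := stepQ 26327 Q26327 (allL N26327 (tt N25964 F194141) (tt N26275 F194142) (tt N25370 F194143) (tt N27103 (iv F197881)) (tt N25361 F194144) (tt N26327 F194145) (tt N25360 (iv D42254)) (tt N26208 F194146) (tt N27098 (iv F197852)) (tt N25959 (iv F194147)))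
theorem Q26329 : ∀ i, i < 26329 → P i := stepQ 26328 Q26328 (allL N26328 (tt N25965 F194148) (tt N26048 F194149) (tt N25371 F194150) (tt N27104 (iv F197888)) (tt N25362 F194151) (tt N25364 F194152) (tt N25959 F194153) (tt N25791 F194154) (tt N27105 D43032) (tt N25360 (iv D42255)))
theorem Q26330 : ∀ i, i < 26330 → P i := stepQ 26329 Q26329 (allL N26329 (tt N25966 F194155) (tt N26257 F194156) (tt N25374 F194157) (tt N25961 F194158) (tt N27105 (iv F197896)) (tt N25482 F194159) (tt N25957 F194160) (tt N25792 F194161) (tt N25362 (iv D42256)) (tt N27101 (iv F197874)))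
theorem Q26331 : ∀ i, i < 26331 → P i := stepQ 26330 Q26330 (allL N26330 (tt N25967 F194162) (tt N27106 D43033) (tt N25363 (iv D42257)) (tt N25375 F194163) (tt N26330 F194164) (tt N27102 (iv F197877)) (tt N26330 F194165) (tt N25793 F194166) (tt N25908 F194167) (tt N27107 D43034))
theorem Q26332 : ∀ i, i < 26332 → P i := stepQ 26331 Q26331 (allL N26331 (tt N25968 F194168) (tt N26051 F194169) (tt N27107 (iv F197909)) (tt N25364 F194170) (tt N26331 F194171) (tt N27104 (iv F197890)) (tt N26331 F194172) (tt N25794 F194173) (tt N27108 D43035) (tt N25363 (iv D42258)))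
theorem Q26333 : ∀ i, i < 26333 → P i := stepQ 26332 Q26332 (allL N26332 (tt N25969 F194174) (tt N25992 F194175) (tt N25377 F194176) (tt N27108 (iv F197918)) (tt N25365 F194177) (tt N27109 D43036) (tt N26332 F194178) (tt N25795 F194179) (tt N25364 (iv D42259)) (tt N26053 F194180))
theorem Q26334 : ∀ i, i < 26334 → P i := stepQ 26333 Q26333 (allL N26333 (tt N25970 F194181) (tt N25608 F194182) (tt N27110 D43037) (tt N25366 (iv D42260)) (tt N25751 F194183) (tt N25831 F194184) (tt N27111 D43038) (tt N25796 F194185) (tt N25369 F194186) (tt N27112 D43039))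
theorem Q26335 : ∀ i, i < 26335 → P i := stepQ 26334 Q26334 (allL N26334 (tt N25971 F194187) (tt N25609 F194188) (tt N27098 (iv F197849)) (tt N27111 (iv F197937)) (tt N25367 F194189) (tt N27113 D43040) (tt N25366 (iv D42261)) (tt N27114 D43041) (tt N25370 F194190) (tt N27115 D43042))
theorem Q26336 : ∀ i, i < 26336 → P i := stepQ 26335 Q26335 (allL N26335 (tt N25972 F194191) (tt N25610 F194192) (tt N27099 (iv F197855)) (tt N27112 (iv F197942)) (tt N25368 F194193) (tt N26222 F194194) (tt N27115 (iv F197960)) (tt N25798 F194195) (tt N27116 D43043) (tt N25366 (iv D42262)))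
theorem Q26337 : ∀ i, i < 26337 → P i := stepQ 26336 Q26336 (allL N26336 (tt N25973 F194196) (tt N25611 F194197) (tt N26230 F194198) (tt N25754 F194199) (tt N27114 (iv F197954)) (tt N25390 F194200) (tt N25799 F194201) (tt N25367 (iv D42263)) (tt N25372 F194202) (tt N27117 D43044))
theorem Q26338 : ∀ i, i < 26338 → P i := stepQ 26337 Q26337 (allL N26337 (tt N25974 F194203) (tt N25612 F194204) (tt N27100 (iv F197861)) (tt N25755 F194205) (tt N27115 (iv F197959)) (tt N25391 F194206) (tt N25368 F194207) (tt N27117 (iv F197972)) (tt N27118 D43045) (tt N25367 (iv D42264)))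
theorem Q26339 : ∀ i, i < 26339 → P i := stepQ 26338 Q26338 (allL N26338 (tt N25975 F194208) (tt N25613 F194209) (tt N27101 (iv F197869)) (tt N25756 F194210) (tt N27116 (iv F197963)) (tt N25491 F194211) (tt N27118 (iv F197979)) (tt N25801 F194212) (tt N25368 (iv D42265)) (tt N25374 F194213))
theorem Q26340 : ∀ i, i < 26340 → P i := stepQ 26339 Q26339 (allL N26339 (tt N25976 F194214) (tt N27119 D43046) (tt N25369 (iv D42266)) (tt N27102 (iv F197876)) (tt N25757 F194215) (tt N25375 F194216) (tt N27120 D43047) (tt N25802 F194217) (tt N27110 (iv F197934)) (tt N27121 D43048))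
theorem Q26341 : ∀ i, i < 26341 → P i := stepQ 26340 Q26340 (allL N26340 (tt N25977 F194218) (tt N25615 F194219) (tt N27120 (iv F197989)) (tt N25370 F194220) (tt N25758 F194221) (tt N26340 F194222) (tt N25369 (iv D42267)) (tt N27122 D43049) (tt N27111 (iv F197939)) (tt N26298 (iv F194223)))
theorem Q26342 : ∀ i, i < 26342 → P i := stepQ 26341 Q26341 (allL N26341 (tt N25978 F194224) (tt N25616 F194225) (tt N27121 (iv F197995)) (tt N25371 F194226) (tt N25437 F194227) (tt N25376 F194228) (tt N26298 F194229) (tt N25804 F194230) (tt N27123 D43050) (tt N25369 (iv D42268)))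
theorem Q26343 : ∀ i, i < 26343 → P i := stepQ 26342 Q26342 (allL N26342 (tt N25979 F194231) (tt N25617 F194232) (tt N26208 F194233) (tt N27122 (iv F198002)) (tt N25372 F194234) (tt N26342 F194235) (tt N25805 F194236) (tt N25370 (iv D42269)) (tt N27114 (iv F197956)) (tt N26100 (iv F194237)))
theorem Q26344 : ∀ i, i < 26344 → P i := stepQ 26343 Q26343 (allL N26343 (tt N25746 F194238) (tt N25618 F194239) (tt N25959 F194240) (tt N26298 F194241) (tt N25373 F194242) (tt N26343 F194243) (tt N25371 F194244) (tt N26100 F194245) (tt N27124 D43051) (tt N25370 (iv D42270)))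
theorem Q26345 : ∀ i, i < 26345 → P i := stepQ 26344 Q26344 (allL N26344 (tt N25980 F194246) (tt N25619 F194247) (tt N27105 (iv F197895)) (tt N27123 (iv F198009)) (tt N25374 F194248) (tt N27125 D43052) (tt N27124 (iv F198019)) (tt N25807 F194249) (tt N25371 (iv D42271)) (tt N27116 (iv F197965)))
theorem Q26346 : ∀ i, i < 26346 → P i := stepQ 26345 Q26345 (allL N26345 (tt N25744 F194250) (tt N25621 F194251) (tt N25957 F194252) (tt N25691 F194253) (tt N27124 (iv F198018)) (tt N25690 F194254) (tt N25374 F194255) (tt N26098 F194256) (tt N25373 (iv D42272)) (tt N27118 (iv F197981)))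
theorem Q26347 : ∀ i, i < 26347 → P i := stepQ 26346 Q26346 (allL N26346 (tt N25992 F194257) (tt N25375 (iv D42273)) (tt N25438 F194258) (tt N27106 (iv F197900)) (tt N25378 F194259) (tt N27119 (iv F197985)) (tt N26346 F194260) (tt N25436 F194261) (tt N25440 F194262) (tt N25513 (iv F194263)))
theorem Q26348 : ∀ i, i < 26348 → P i := stepQ 26347 Q26347 (allL N26347 (tt N25981 F194264) (tt N25513 F194265) (tt N25376 F194266) (tt N27107 (iv F197910)) (tt N25379 F194267) (tt N27121 (iv F197997)) (tt N26347 F194268) (tt N25760 F194269) (tt N25669 F194270) (tt N25375 (iv D42274)))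
theorem Q26349 : ∀ i, i < 26349 → P i := stepQ 26348 Q26348 (allL N26348 (tt N25982 F194271) (tt N25623 F194272) (tt N27109 (iv F197925)) (tt N25631 F194273) (tt N25495 F194274) (tt N25377 (iv D42275)) (tt N26229 (iv F194277)) (tt N25809 F194275) (tt N27125 (iv F198026)) (tt N26054 F194276))
theorem Q26350 : ∀ i, i < 26350 → P i := stepQ 26349 Q26349 (allL N26349 (tt N25993 F194278) (tt N26123 F194279) (tt N26145 F194280) (tt N26118 F194281) (tt N26154 F194282) (tt N25380 (iv D42276)) (tt N27126 D43053) (tt N25398 F194283) (tt N25442 F194284) (tt N27127 D43054))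
theorem Q26351 : ∀ i, i < 26351 → P i := stepQ 26350 Q26350 (allL N26350 (tt N25994 F194285) (tt N26139 F194286) (tt N26210 F194287) (tt N26258 F194288) (tt N25381 F194289) (tt N27127 (iv F198039)) (tt N27093 (iv F197818)) (tt N25399 F194290) (tt N26061 F194291) (tt N25380 (iv D42277)))
theorem Q26352 : ∀ i, i < 26352 → P i := stepQ 26351 Q26351 (allL N26351 (tt N25995 F194292) (tt N26120 F194293) (tt N26182 F194294) (tt N25382 (iv D42278)) (tt N26162 F194295) (tt N26116 F194296) (tt N27128 D43055) (tt N25406 F194297) (tt N25385 F194298) (tt N27129 D43056))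
theorem Q26353 : ∀ i, i < 26353 → P i := stepQ 26352 Q26352 (allL N26352 (tt N25996 F194299) (tt N26272 F194300) (tt N25388 F194301) (tt N27128 (iv F198045)) (tt N25383 F194302) (tt N27130 D43057) (tt N25382 (iv D42279)) (tt N27131 D43058) (tt N25386 F194303) (tt N27132 D43059))
theorem Q26354 : ∀ i, i < 26354 → P i := stepQ 26353 Q26353 (allL N26353 (tt N25997 F194304) (tt N26267 F194305) (tt N25389 F194306) (tt N27129 (iv F198051)) (tt N25384 F194307) (tt N26260 F194308) (tt N27132 (iv F198071)) (tt N25408 F194309) (tt N26147 F194310) (tt N25382 (iv D42280)))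
theorem Q26355 : ∀ i, i < 26355 → P i := stepQ 26354 Q26354 (allL N26354 (tt N25998 F194311) (tt N26273 F194312) (tt N25390 F194313) (tt N25984 F194314) (tt N27131 (iv F198064)) (tt N26230 F194315) (tt N25409 F194316) (tt N25383 (iv D42281)) (tt N25387 F194317) (tt N27133 D43060))
theorem Q26356 : ∀ i, i < 26356 → P i := stepQ 26355 Q26355 (allL N26355 (tt N25999 F194318) (tt N26269 F194319) (tt N25391 F194320) (tt N26009 F194321) (tt N27132 (iv F198070)) (tt N27100 (iv F197863)) (tt N25384 F194322) (tt N27133 (iv F198079)) (tt N26149 F194323) (tt N25383 (iv D42282)))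
theorem Q26357 : ∀ i, i < 26357 → P i := stepQ 26356 Q26356 (allL N26356 (tt N26000 F194324) (tt N26176 F194325) (tt N26184 F194326) (tt N25386 F194327) (tt N26007 F194328) (tt N26356 F194329) (tt N25385 (iv D42283)) (tt N27134 D43061) (tt N27128 (iv F198047)) (tt N26150 F194330))
theorem Q26358 : ∀ i, i < 26358 → P i := stepQ 26357 Q26357 (allL N26357 (tt N26001 F194331) (tt N26271 F194332) (tt N25393 F194333) (tt N27134 (iv F198084)) (tt N25387 F194334) (tt N26357 F194335) (tt N25413 F194336) (tt N25386 (iv D42284)) (tt N27131 (iv F198066)) (tt N26151 F194337))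
theorem Q26359 : ∀ i, i < 26359 → P i := stepQ 26358 Q26358 (allL N26358 (tt N26002 F194338) (tt N25947 F194339) (tt N27130 (iv F198058)) (tt N26292 F194340) (tt N27113 (iv F197948)) (tt N25388 (iv D42285)) (tt N26264 F194341) (tt N27135 D43062) (tt N26358 F194342) (tt N27136 D43063))
theorem Q26360 : ∀ i, i < 26360 → P i := stepQ 26359 Q26359 (allL N26359 (tt N26003 F194343) (tt N25940 F194344) (tt N27131 (iv F198063)) (tt N26293 F194345) (tt N25390 F194346) (tt N27135 (iv F198092)) (tt N25418 F194347) (tt N25388 (iv D42286)) (tt N25393 F194348) (tt N27137 D43064))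
theorem Q26361 : ∀ i, i < 26361 → P i := stepQ 26360 Q26360 (allL N26360 (tt N26004 F194349) (tt N25948 F194350) (tt N27132 (iv F198069)) (tt N26294 F194351) (tt N25391 F194352) (tt N27136 (iv F198097)) (tt N25389 F194353) (tt N27137 (iv F198104)) (tt N27138 D43065) (tt N25388 (iv D42287)))
theorem Q26362 : ∀ i, i < 26362 → P i := stepQ 26361 Q26361 (allL N26361 (tt N26005 F194354) (tt N26211 F194355) (tt N26147 F194356) (tt N26295 F194357) (tt N25392 F194358) (tt N26092 (iv F194361)) (tt N27138 (iv F198110)) (tt N25420 F194359) (tt N25389 (iv D42288)) (tt N25395 F194360))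
theorem Q26363 : ∀ i, i < 26363 → P i := stepQ 26362 Q26362 (allL N26362 (tt N26006 F194362) (tt N25941 F194363) (tt N27133 (iv F198075)) (tt N25939 F194364) (tt N27137 (iv F198102)) (tt N27117 (iv F197970)) (tt N25421 F194365) (tt N25391 F194366) (tt N27139 D43066) (tt N25390 (iv D42289)))
theorem Q26364 : ∀ i, i < 26364 → P i := stepQ 26363 Q26363 (allL N26363 (tt N25775 F194367) (tt N25739 F194368) (tt N26149 F194369) (tt N25703 F194370) (tt N27138 (iv F198109)) (tt N25702 (iv F194373)) (tt N25392 F194371) (tt N27139 (iv F198118)) (tt N25391 (iv D42290)) (tt N25397 F194372))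
theorem Q26365 : ∀ i, i < 26365 → P i := stepQ 26364 Q26364 (allL N26364 (tt N25718 F194374) (tt N25704 F194375) (tt N26151 F194376) (tt N25710 F194377) (tt N25396 F194378) (tt N26364 F194379) (tt N25427 F194380) (tt N25394 F194381) (tt N27140 D43067) (tt N25393 (iv D42291)))
theorem Q26366 : ∀ i, i < 26366 → P i := stepQ 26365 Q26365 (allL N26365 (tt N25774 F194382) (tt N25738 F194383) (tt N26146 F194384) (tt N25767 F194385) (tt N25397 F194386) (tt N27141 D43068) (tt N25395 F194387) (tt N27140 (iv F198126)) (tt N25394 (iv D42292)) (tt N27138 (iv F198111)))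
theorem Q26367 : ∀ i, i < 26367 → P i := stepQ 26366 Q26366 (allL N26366 (tt N25716 F194388) (tt N25705 F194389) (tt N26148 F194390) (tt N25675 F194391) (tt N27140 (iv F198124)) (tt N25674 F194392) (tt N25429 F194393) (tt N25397 F194394) (tt N25396 (iv D42293)) (tt N27139 (iv F198119)))
theorem Q26368 : ∀ i, i < 26368 → P i := stepQ 26367 Q26367 (allL N26367 (tt N26015 F194395) (tt N26182 F194396) (tt N26081 F194397) (tt N26132 F194398) (tt N25398 (iv D42294)) (tt N25400 F194399) (tt N27142 D43069) (tt N26154 F194400) (tt N25443 F194401) (tt N27143 D43070))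
theorem Q26369 : ∀ i, i < 26369 → P i := stepQ 26368 Q26368 (allL N26368 (tt N26016 F194402) (tt N26198 F194403) (tt N26212 F194404) (tt N26188 F194405) (tt N27142 (iv F198138)) (tt N25898 F194406) (tt N25398 (iv D42295)) (tt N27144 D43071) (tt N25444 F194407) (tt N27145 D43072))
theorem Q26370 : ∀ i, i < 26370 → P i := stepQ 26369 Q26369 (allL N26369 (tt N26017 F194408) (tt N26199 F194409) (tt N26213 F194410) (tt N26189 F194411) (tt N27143 (iv F198144)) (tt N25399 F194412) (tt N27145 (iv F198159)) (tt N27127 (iv F198040)) (tt N27146 D43073) (tt N25398 (iv D42296)))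
theorem Q26371 : ∀ i, i < 26371 → P i := stepQ 26370 Q26370 (allL N26370 (tt N26018 F194413) (tt N26179 F194414) (tt N26123 F194415) (tt N25400 (iv D42297)) (tt N25406 F194416) (tt N26132 F194417) (tt N27147 D43074) (tt N26162 F194418) (tt N25403 F194419) (tt N27148 D43075))
theorem Q26372 : ∀ i, i < 26372 → P i := stepQ 26371 Q26371 (allL N26371 (tt N26019 F194420) (tt N26181 F194421) (tt N26134 F194422) (tt N27147 (iv F198171)) (tt N25401 F194423) (tt N27149 D43076) (tt N25400 (iv D42298)) (tt N27150 D43077) (tt N25404 F194424) (tt N27151 D43078))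
theorem Q26373 : ∀ i, i < 26373 → P i := stepQ 26372 Q26372 (allL N26372 (tt N26020 F194425) (tt N26173 F194426) (tt N26135 F194427) (tt N27148 (iv F198177)) (tt N25402 F194428) (tt N27143 (iv F198145)) (tt N27151 (iv F198197)) (tt N26159 F194429) (tt N26083 F194430) (tt N25400 (iv D42299)))
theorem Q26374 : ∀ i, i < 26374 → P i := stepQ 26373 Q26373 (allL N26373 (tt N26021 F194431) (tt N26183 F194432) (tt N25954 F194433) (tt N25409 F194434) (tt N27150 (iv F198190)) (tt N25902 F194435) (tt N25984 F194436) (tt N25401 (iv D42300)) (tt N25405 F194437) (tt N27152 D43079))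
theorem Q26375 : ∀ i, i < 26375 → P i := stepQ 26374 Q26374 (allL N26374 (tt N26022 F194438) (tt N26175 F194439) (tt N26224 F194440) (tt N25410 F194441) (tt N27151 (iv F198196)) (tt N25903 F194442) (tt N25402 F194443) (tt N27152 (iv F198205)) (tt N26085 F194444) (tt N25401 (iv D42301)))
theorem Q26376 : ∀ i, i < 26376 → P i := stepQ 26375 Q26375 (allL N26375 (tt N26023 F194445) (tt N26178 F194446) (tt N26129 F194447) (tt N25404 F194448) (tt N25412 F194449) (tt N26375 F194450) (tt N25403 (iv D42302)) (tt N27153 D43080) (tt N27147 (iv F198173)) (tt N26086 F194451))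
theorem Q26377 : ∀ i, i < 26377 → P i := stepQ 26376 Q26376 (allL N26376 (tt N26024 F194452) (tt N26180 F194453) (tt N25953 F194454) (tt N27153 (iv F198210)) (tt N25405 F194455) (tt N26376 F194456) (tt N25983 F194457) (tt N25404 (iv D42303)) (tt N27150 (iv F198192)) (tt N26087 F194458))
theorem Q26378 : ∀ i, i < 26378 → P i := stepQ 26377 Q26377 (allL N26377 (tt N26025 F194459) (tt N26154 F194460) (tt N25406 (iv D42304)) (tt N25414 F194461) (tt N26123 F194462) (tt N26073 F194463) (tt N27154 D43081) (tt N26182 F194464) (tt N25411 F194465) (tt N27146 (iv F198167)))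
theorem Q26379 : ∀ i, i < 26379 → P i := stepQ 26378 Q26378 (allL N26378 (tt N26026 F194466) (tt N26191 F194467) (tt N27154 (iv F198217)) (tt N25407 F194468) (tt N27147 (iv F198172)) (tt N27155 D43082) (tt N25406 (iv D42305)) (tt N27156 D43083) (tt N25412 F194469) (tt N27157 D43084))
theorem Q26380 : ∀ i, i < 26380 → P i := stepQ 26379 Q26379 (allL N26379 (tt N26027 F194470) (tt N26192 F194471) (tt N27146 (iv F198162)) (tt N25408 F194472) (tt N27148 (iv F198178)) (tt N26187 F194473) (tt N27157 (iv F198234)) (tt N27129 (iv F198054)) (tt N26213 F194474) (tt N25406 (iv D42306)))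
theorem Q26381 : ∀ i, i < 26381 → P i := stepQ 26380 Q26380 (allL N26380 (tt N25752 F194475) (tt N26036 F194476) (tt N25417 F194477) (tt N27155 (iv F198223)) (tt N25694 F194478) (tt N25407 (iv D42307)) (tt N25693 F194479) (tt N27158 D43085) (tt N25432 F194480) (tt N27159 D43086))
theorem Q26382 : ∀ i, i < 26382 → P i := stepQ 26381 Q26381 (allL N26381 (tt N26028 F194481) (tt N26289 F194482) (tt N25418 F194483) (tt N27156 (iv F198229)) (tt N25409 F194484) (tt N27158 (iv F198240)) (tt N27131 (iv F198065)) (tt N25407 (iv D42308)) (tt N25413 F194485) (tt N27160 D43087))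
theorem Q26383 : ∀ i, i < 26383 → P i := stepQ 26382 Q26382 (allL N26382 (tt N26029 F194486) (tt N26286 F194487) (tt N25419 F194488) (tt N27157 (iv F198233)) (tt N25410 F194489) (tt N27159 (iv F198247)) (tt N25408 F194490) (tt N27160 (iv F198254)) (tt N26215 F194491) (tt N25407 (iv D42309)))
theorem Q26384 : ∀ i, i < 26384 → P i := stepQ 26383 Q26383 (allL N26383 (tt N26031 F194492) (tt N26287 F194493) (tt N25421 F194494) (tt N27152 (iv F198202)) (tt N27160 (iv F198253)) (tt N25907 F194495) (tt N27133 (iv F198078)) (tt N25410 F194496) (tt N26216 F194497) (tt N25409 (iv D42310)))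
theorem Q26385 : ∀ i, i < 26385 → P i := stepQ 26384 Q26384 (allL N26384 (tt N26033 F194498) (tt N25883 F194499) (tt N25412 F194500) (tt N25423 F194501) (tt N26129 F194502) (tt N25434 F194503) (tt N25411 (iv D42311)) (tt N27161 D43088) (tt N27154 (iv F198220)) (tt N25444 F194504))
theorem Q26386 : ∀ i, i < 26386 → P i := stepQ 26385 Q26385 (allL N26385 (tt N26034 F194505) (tt N26209 F194506) (tt N27161 (iv F198258)) (tt N25413 F194507) (tt N27153 (iv F198211)) (tt N25435 F194508) (tt N27134 (iv F198087)) (tt N25412 (iv D42312)) (tt N27156 (iv F198230)) (tt N26217 F194509))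
theorem Q26387 : ∀ i, i < 26387 → P i := stepQ 26386 Q26386 (allL N26386 (tt N26039 F194510) (tt N25884 F194511) (tt N25415 F194512) (tt N27154 (iv F198218)) (tt N25627 F194513) (tt N27162 D43089) (tt N25414 (iv D42313)) (tt N27163 D43090) (tt N25423 F194514) (tt N27164 D43091))
theorem Q26388 : ∀ i, i < 26388 → P i := stepQ 26387 Q26387 (allL N26387 (tt N26040 F194515) (tt N26202 F194516) (tt N25416 F194517) (tt N27146 (iv F198163)) (tt N26122 F194518) (tt N26280 F194519) (tt N27164 (iv F198279)) (tt N26194 F194520) (tt N26189 F194521) (tt N25414 (iv D42314)))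
theorem Q26389 : ∀ i, i < 26389 → P i := stepQ 26388 Q26388 (allL N26388 (tt N26012 F194522) (tt N25636 F194523) (tt N27162 (iv F198266)) (tt N25417 F194524) (tt N27123 (iv F198010)) (tt N25415 (iv D42315)) (tt N26281 F194525) (tt N27165 D43092) (tt N25437 F194526) (tt N27166 D43093))
theorem Q26390 : ∀ i, i < 26390 → P i := stepQ 26389 Q26389 (allL N26389 (tt N26041 F194527) (tt N25550 F194528) (tt N27163 (iv F198271)) (tt N25418 F194529) (tt N25542 F194530) (tt N27165 (iv F198285)) (tt N26293 F194531) (tt N25415 (iv D42316)) (tt N25424 F194532) (tt N27167 D43094))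
theorem Q26391 : ∀ i, i < 26391 → P i := stepQ 26390 Q26390 (allL N26390 (tt N26042 F194533) (tt N25637 F194534) (tt N27164 (iv F198277)) (tt N25419 F194535) (tt N25630 F194536) (tt N27166 (iv F198290)) (tt N25416 F194537) (tt N27167 (iv F198298)) (tt N27168 D43095) (tt N25415 (iv D42317)))
theorem Q26392 : ∀ i, i < 26392 → P i := stepQ 26391 Q26391 (allL N26391 (tt N26043 F194538) (tt N26093 F194539) (tt N26189 F194540) (tt N25420 F194541) (tt N26091 F194542) (tt N26164 F194543) (tt N27168 (iv F198305)) (tt N26295 F194544) (tt N25416 (iv D42318)) (tt N25426 F194545))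
theorem Q26393 : ∀ i, i < 26393 → P i := stepQ 26392 Q26392 (allL N26392 (tt N25987 F194546) (tt N25827 F194547) (tt N27158 (iv F198238)) (tt N27165 (iv F198283)) (tt N25512 F194548) (tt N25418 F194549) (tt N27169 D43096) (tt N25417 (iv D42319)) (tt N25439 F194550) (tt N27170 D43097))
theorem Q26394 : ∀ i, i < 26394 → P i := stepQ 26393 Q26393 (allL N26393 (tt N26013 F194551) (tt N25875 F194552) (tt N27159 (iv F198245)) (tt N27166 (iv F198289)) (tt N25756 F194553) (tt N25419 F194554) (tt N26284 F194555) (tt N27170 (iv F198317)) (tt N25753 F194556) (tt N25417 (iv D42320)))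
theorem Q26395 : ∀ i, i < 26395 → P i := stepQ 26394 Q26394 (allL N26394 (tt N26044 F194557) (tt N27091 (iv F197799)) (tt N27160 (iv F198252)) (tt N27167 (iv F198295)) (tt N25421 F194558) (tt N27170 (iv F198316)) (tt N27137 (iv F198103)) (tt N25419 F194559) (tt N27171 D43098) (tt N25418 (iv D42321)))
theorem Q26396 : ∀ i, i < 26396 → P i := stepQ 26395 Q26395 (allL N26395 (tt N26045 F194560) (tt N26046 F194561) (tt N26215 F194562) (tt N27168 (iv F198302)) (tt N25422 F194563) (tt N25951 F194564) (tt N25420 F194565) (tt N27171 (iv F198324)) (tt N25419 (iv D42322)) (tt N25428 F194566))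
theorem Q26397 : ∀ i, i < 26397 → P i := stepQ 26396 Q26396 (allL N26396 (tt N26047 F194567) (tt N25853 F194568) (tt N26216 F194569) (tt N26059 F194570) (tt N27171 (iv F198322)) (tt N25849 F194571) (tt N27139 (iv F198117)) (tt N25422 F194572) (tt N25421 (iv D42323)) (tt N25429 F194573))
theorem Q26398 : ∀ i, i < 26398 → P i := stepQ 26397 Q26397 (allL N26397 (tt N26048 F194574) (tt N25829 F194575) (tt N25424 F194576) (tt N27161 (iv F198259)) (tt N25541 F194577) (tt N25440 F194578) (tt N26197 F194579) (tt N25423 (iv D42324)) (tt N27163 (iv F198274)) (tt N25846 F194580))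
theorem Q26399 : ∀ i, i < 26399 → P i := stepQ 26398 Q26398 (allL N26398 (tt N25594 F194581) (tt N25524 F194582) (tt N25846 F194583) (tt N25427 F194584) (tt N25521 F194585) (tt N25441 F194586) (tt N25710 F194587) (tt N25425 F194588) (tt N27172 D43099) (tt N25424 (iv D42325)))
theorem Q26400 : ∀ i, i < 26400 → P i := stepQ 26399 Q26399 (allL N26399 (tt N26049 F194589) (tt N25596 F194590) (tt N26188 F194591) (tt N25428 F194592) (tt N25591 F194593) (tt N25952 F194594) (tt N25426 F194595) (tt N27172 (iv F198333)) (tt N25425 (iv D42326)) (tt N27168 (iv F198306)))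
theorem Q26401 : ∀ i, i < 26401 → P i := stepQ 26400 Q26400 (allL N26400 (tt N26050 F194596) (tt N25852 F194597) (tt N26214 F194598) (tt N27172 (iv F198329)) (tt N25429 F194599) (tt N25946 F194600) (tt N27140 (iv F198125)) (tt N25428 F194601) (tt N25427 (iv D42327)) (tt N27171 (iv F198325)))
theorem Q26402 : ∀ i, i < 26402 → P i := stepQ 26401 Q26401 (allL N26401 (tt N25917 F194602) (tt N25793 F194603) (tt N25431 F194604) (tt N25436 F194605) (tt N26401 F194606) (tt N27173 D43100) (tt N25430 (iv D42328)) (tt N27106 (iv F197903)) (tt N25434 F194607) (tt N25750 F194608))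
theorem Q26403 : ∀ i, i < 26403 → P i := stepQ 26402 Q26402 (allL N26402 (tt N25758 F194609) (tt N25934 F194610) (tt N27173 (iv F198336)) (tt N25432 F194611) (tt N25977 (iv F194614)) (tt N25431 (iv D42329)) (tt N25696 F194612) (tt N27174 D43101) (tt N27155 (iv F198225)) (tt N25749 F194613))
theorem Q26404 : ∀ i, i < 26404 → P i := stepQ 26403 Q26403 (allL N26403 (tt N25918 F194615) (tt N25935 F194616) (tt N27106 (iv F197899)) (tt N25433 F194617) (tt N26403 F194618) (tt N27174 (iv F198345)) (tt N26403 F194619) (tt N25431 (iv D42330)) (tt N25435 F194620) (tt N25504 F194621))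
theorem Q26405 : ∀ i, i < 26405 → P i := stepQ 26404 Q26404 (allL N26404 (tt N25759 F194622) (tt N26035 F194623) (tt N25439 F194624) (tt N27174 (iv F198343)) (tt N25503 F194625) (tt N25433 F194626) (tt N26114 F194627) (tt N25432 (iv D42331)) (tt N27158 (iv F198242)) (tt N25501 F194628))
theorem Q26406 : ∀ i, i < 26406 → P i := stepQ 26405 Q26405 (allL N26405 (tt N26051 F194629) (tt N25908 F194630) (tt N25435 F194631) (tt N25440 F194632) (tt N26405 F194633) (tt N27161 (iv F198261)) (tt N26405 F194634) (tt N25434 (iv D42332)) (tt N27106 (iv F197904)) (tt N25445 F194635))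
theorem Q26407 : ∀ i, i < 26407 → P i := stepQ 26406 Q26406 (allL N26406 (tt N26014 F194636) (tt N25802 F194637) (tt N25437 F194638) (tt N27173 (iv F198337)) (tt N27121 (iv F197996)) (tt N25436 (iv D42333)) (tt N26297 F194639) (tt N27119 (iv F197986)) (tt N27162 (iv F198268)) (tt N25757 F194640))
theorem Q26408 : ∀ i, i < 26408 → P i := stepQ 26407 Q26407 (allL N26407 (tt N25990 F194641) (tt N25614 F194642) (tt N27119 (iv F197983)) (tt N25439 F194643) (tt N25804 F194644) (tt N25438 F194645) (tt N27175 D43102) (tt N25437 (iv D42334)) (tt N27165 (iv F198286)) (tt N25508 F194646))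
theorem Q26409 : ∀ i, i < 26409 → P i := stepQ 26408 Q26408 (allL N26408 (tt N25991 F194647) (tt N25826 F194648) (tt N26114 F194649) (tt N27175 (iv F198350)) (tt N25511 F194650) (tt N26408 F194651) (tt N25439 (iv D42335)) (tt N26105 F194652) (tt N27169 (iv F198312)) (tt N25509 F194653))
theorem Q26410 : ∀ i, i < 26410 → P i := stepQ 26409 Q26409 (allL N26409 (tt N26055 F194654) (tt N26129 F194655) (tt N26150 F194656) (tt N25764 F194657) (tt N25883 F194658) (tt N26409 F194659) (tt N25442 (iv D42336)) (tt N27176 D43103) (tt N27126 (iv F198033)) (tt N26184 F194660))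
theorem Q26411 : ∀ i, i < 26411 → P i := stepQ 26410 Q26410 (allL N26410 (tt N26057 F194661) (tt N26184 F194662) (tt N26086 F194663) (tt N26131 F194664) (tt N25444 F194665) (tt N26410 F194666) (tt N25443 (iv D42337)) (tt N27177 D43104) (tt N27142 (iv F198139)) (tt N26129 F194667))
theorem Q26412 : ∀ i, i < 26412 → P i := stepQ 26411 Q26411 (allL N26411 (tt N26058 F194668) (tt N26204 F194669) (tt N26217 F194670) (tt N25846 F194671) (tt N27177 (iv F198367)) (tt N25445 F194672) (tt N27176 (iv F198361)) (tt N25444 (iv D42338)) (tt N27144 (iv F198153)) (tt N27161 (iv F198263)))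
theorem Q26413 : ∀ i, i < 26413 → P i := stepQ 26412 Q26412 (allL N26412 (tt N25725 F194673) (tt N25449 F194674) (tt N26059 F194675) (tt N26223 F194676) (tt N25782 F194677) (tt N26070 F194678) (tt N25677 F194679) (tt N26218 F194680) (tt N25955 F194681) (tt N25446 (iv D42339)))
theorem Q26414 : ∀ i, i < 26414 → P i := stepQ 26413 Q26413 (allL N26413 (tt N25474 F194682) (tt N26221 F194683) (tt N25701 F194684) (tt N25784 F194685) (tt N25448 F194686) (tt N27178 D43105) (tt N25582 F194687) (tt N26219 F194688) (tt N25447 (iv D42340)) (tt N27179 D43106))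
theorem Q26415 : ∀ i, i < 26415 → P i := stepQ 26414 Q26414 (allL N26414 (tt N25476 F194689) (tt N26223 F194690) (tt N25702 F194691) (tt N25449 F194692) (tt N27179 (iv F198383)) (tt N26149 F194693) (tt N25583 F194694) (tt N26220 F194695) (tt N25958 F194696) (tt N25448 (iv D42341)))
theorem Q26416 : ∀ i, i < 26416 → P i := stepQ 26415 Q26415 (allL N26415 (tt N25488 F194697) (tt N25860 F194698) (tt N26158 F194699) (tt N25888 F194700) (tt N25451 F194701) (tt N25798 F194702) (tt N26153 F194703) (tt N26222 F194704) (tt N26011 F194705) (tt N25450 (iv D42342)))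
theorem Q26417 : ∀ i, i < 26417 → P i := stepQ 26416 Q26416 (allL N26416 (tt N26219 F194706) (tt N26137 F194707) (tt N25715 F194708) (tt N25956 F194709) (tt N25453 F194710) (tt N27180 D43107) (tt N25810 F194711) (tt N25474 F194712) (tt N25452 (iv D42343)) (tt N27181 D43108))
theorem Q26418 : ∀ i, i < 26418 → P i := stepQ 26417 Q26417 (allL N26417 (tt N26148 F194713) (tt N26110 F194714) (tt N25716 F194715) (tt N25455 F194716) (tt N27182 D43109) (tt N25453 (iv D42344)) (tt N26037 (iv F194719)) (tt N25475 F194717) (tt N25454 F194718) (tt N27183 D43110))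
theorem Q26419 : ∀ i, i < 26419 → P i := stepQ 26418 Q26418 (allL N26418 (tt N26220 F194720) (tt N26140 F194721) (tt N25717 F194722) (tt N25456 F194723) (tt N27181 (iv F198397)) (tt N27183 (iv F198411)) (tt N25812 F194724) (tt N25476 F194725) (tt N25786 F194726) (tt N25453 (iv D42345)))
theorem Q26420 : ∀ i, i < 26420 → P i := stepQ 26419 Q26419 (allL N26419 (tt N26151 F194727) (tt N26114 F194728) (tt N25718 F194729) (tt N27184 D43111) (tt N25454 (iv D42346)) (tt N26419 F194730) (tt N26035 F194731) (tt N25477 F194732) (tt N27182 (iv F198406)) (tt N26001 F194733))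
theorem Q26421 : ∀ i, i < 26421 → P i := stepQ 26420 Q26420 (allL N26420 (tt N26157 F194734) (tt N26243 F194735) (tt N25463 F194736) (tt N27185 D43112) (tt N25455 (iv D42347)) (tt N25960 F194737) (tt N27186 D43113) (tt N25478 F194738) (tt N25457 F194739) (tt N27187 D43114))
theorem Q26422 : ∀ i, i < 26422 → P i := stepQ 26421 Q26421 (allL N26421 (tt N26084 F194740) (tt N25973 F194741) (tt N25464 F194742) (tt N26037 F194743) (tt N27186 (iv F198431)) (tt N25814 F194744) (tt N25455 (iv D42348)) (tt N25516 F194745) (tt N25458 F194746) (tt N27188 D43115))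
theorem Q26423 : ∀ i, i < 26423 → P i := stepQ 26422 Q26422 (allL N26422 (tt N26160 F194747) (tt N26246 F194748) (tt N25465 F194749) (tt N27183 (iv F198410)) (tt N27187 (iv F198437)) (tt N25456 F194750) (tt N27188 (iv F198445)) (tt N25479 F194751) (tt N27189 D43116) (tt N25455 (iv D42349)))
theorem Q26424 : ∀ i, i < 26424 → P i := stepQ 26423 Q26423 (allL N26423 (tt N26161 F194752) (tt N26250 F194753) (tt N27190 D43117) (tt N25457 (iv D42350)) (tt N27184 (iv F198418)) (tt N25460 F194754) (tt N27191 D43118) (tt N25480 F194755) (tt N27185 (iv F198427)) (tt N27192 D43119))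
theorem Q26425 : ∀ i, i < 26425 → P i := stepQ 26424 Q26424 (allL N26424 (tt N26087 F194756) (tt N25979 F194757) (tt N25467 F194758) (tt N27191 (iv F198467)) (tt N25458 F194759) (tt N26424 F194760) (tt N25457 (iv D42351)) (tt N25519 F194761) (tt N27186 (iv F198433)) (tt N26024 (iv F194762)))
theorem Q26426 : ∀ i, i < 26426 → P i := stepQ 26425 Q26425 (allL N26425 (tt N25983 F194763) (tt N26253 F194764) (tt N25468 F194765) (tt N27192 (iv F198475)) (tt N25459 F194766) (tt N25461 F194767) (tt N26024 F194768) (tt N25481 F194769) (tt N27193 D43120) (tt N25457 (iv D42352)))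
theorem Q26427 : ∀ i, i < 26427 → P i := stepQ 26426 Q26426 (allL N26426 (tt N25984 F194770) (tt N26256 F194771) (tt N25471 F194772) (tt N25998 F194773) (tt N27193 (iv F198483)) (tt N25792 F194774) (tt N26021 F194775) (tt N25482 F194776) (tt N25459 (iv D42353)) (tt N27189 (iv F198455)))
theorem Q26428 : ∀ i, i < 26428 → P i := stepQ 26427 Q26427 (allL N26427 (tt N25908 F194777) (tt N25968 (iv F194783)) (tt N25460 (iv D42354)) (tt N25472 F194778) (tt N26427 F194779) (tt N27190 (iv F198459)) (tt N26427 F194780) (tt N25483 F194781) (tt N25967 F194782) (tt N25667 (iv F194784)))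
theorem Q26429 : ∀ i, i < 26429 → P i := stepQ 26428 Q26428 (allL N26428 (tt N26052 F194785) (tt N26300 F194786) (tt N25667 F194787) (tt N25461 F194788) (tt N26428 F194789) (tt N27192 (iv F198477)) (tt N26428 F194790) (tt N25484 F194791) (tt N26299 (iv F194792)) (tt N25460 (iv D42355)))
theorem Q26430 : ∀ i, i < 26430 → P i := stepQ 26429 Q26429 (allL N26429 (tt N26053 F194793) (tt N25981 F194794) (tt N25473 F194795) (tt N26299 F194796) (tt N25462 F194797) (tt N27194 D43121) (tt N26429 F194798) (tt N25485 F194799) (tt N25461 (iv D42356)) (tt N25969 F194800))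
theorem Q26431 : ∀ i, i < 26431 → P i := stepQ 26430 Q26430 (allL N26430 (tt N25831 F194801) (tt N25563 F194802) (tt N27195 D43122) (tt N25463 (iv D42357)) (tt N25664 F194803) (tt N25970 F194804) (tt N27196 D43123) (tt N25486 F194805) (tt N25466 F194806) (tt N27197 D43124))
theorem Q26432 : ∀ i, i < 26432 → P i := stepQ 26431 Q26431 (allL N26431 (tt N26221 F194807) (tt N25564 F194808) (tt N27186 (iv F198430)) (tt N27196 (iv F198503)) (tt N25464 F194809) (tt N27198 D43125) (tt N25463 (iv D42358)) (tt N27199 D43126) (tt N25467 F194810) (tt N27200 D43127))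
theorem Q26433 : ∀ i, i < 26433 → P i := stepQ 26432 Q26432 (allL N26432 (tt N26222 F194811) (tt N25565 F194812) (tt N27187 (iv F198436)) (tt N27197 (iv F198509)) (tt N25465 F194813) (tt N25972 F194814) (tt N27200 (iv F198529)) (tt N25488 F194815) (tt N27201 D43128) (tt N25463 (iv D42359)))
theorem Q26434 : ∀ i, i < 26434 → P i := stepQ 26433 Q26433 (allL N26433 (tt N26078 F194816) (tt N25566 F194817) (tt N25516 F194818) (tt N25724 F194819) (tt N27199 (iv F198523)) (tt N25821 F194820) (tt N25489 F194821) (tt N25464 (iv D42360)) (tt N25469 F194822) (tt N27202 D43129))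
theorem Q26435 : ∀ i, i < 26435 → P i := stepQ 26434 Q26434 (allL N26434 (tt N26223 F194823) (tt N25567 F194824) (tt N27188 (iv F198442)) (tt N25725 F194825) (tt N27200 (iv F198528)) (tt N25822 F194826) (tt N25465 F194827) (tt N27202 (iv F198542)) (tt N27203 D43130) (tt N25464 (iv D42361)))
theorem Q26436 : ∀ i, i < 26436 → P i := stepQ 26435 Q26435 (allL N26435 (tt N25986 F194828) (tt N25568 F194829) (tt N27189 (iv F198450)) (tt N25726 F194830) (tt N27201 (iv F198533)) (tt N25801 F194831) (tt N27203 (iv F198548)) (tt N25491 F194832) (tt N25465 (iv D42362)) (tt N25471 F194833))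
theorem Q26437 : ∀ i, i < 26437 → P i := stepQ 26436 Q26436 (allL N26436 (tt N25829 F194834) (tt N25965 F194835) (tt N25466 (iv D42363)) (tt N27190 (iv F198457)) (tt N25655 F194836) (tt N25472 F194837) (tt N26144 (iv F194840)) (tt N25492 F194838) (tt N27195 (iv F198498)) (tt N25653 F194839))
theorem Q26438 : ∀ i, i < 26438 → P i := stepQ 26437 Q26437 (allL N26437 (tt N25779 F194841) (tt N25569 F194842) (tt N26144 F194843) (tt N25467 F194844) (tt N25573 F194845) (tt N26437 F194846) (tt N25466 (iv D42364)) (tt N25571 F194847) (tt N27196 (iv F198506)) (tt N25570 F194848))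
theorem Q26439 : ∀ i, i < 26439 → P i := stepQ 26438 Q26438 (allL N26438 (tt N26080 F194849) (tt N25570 F194850) (tt N25519 F194851) (tt N25571 F194852) (tt N25469 F194853) (tt N26438 F194854) (tt N25493 F194855) (tt N25467 (iv D42365)) (tt N27199 (iv F198525)) (tt N25569 (iv F194856)))
theorem Q26440 : ∀ i, i < 26440 → P i := stepQ 26439 Q26439 (allL N26439 (tt N25953 F194857) (tt N25571 F194858) (tt N26024 F194859) (tt N25570 F194860) (tt N25470 F194861) (tt N26439 F194862) (tt N25468 F194863) (tt N25569 F194864) (tt N27204 D43131) (tt N25467 (iv D42366)))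
theorem Q26441 : ∀ i, i < 26441 → P i := stepQ 26440 Q26440 (allL N26440 (tt N25985 F194865) (tt N25572 F194866) (tt N27193 (iv F198482)) (tt N25659 F194867) (tt N25471 F194868) (tt N27205 D43132) (tt N27204 (iv F198557)) (tt N25494 F194869) (tt N25468 (iv D42367)) (tt N27201 (iv F198535)))
theorem Q26442 : ∀ i, i < 26442 → P i := stepQ 26441 Q26441 (allL N26441 (tt N25954 F194870) (tt N25574 F194871) (tt N26021 F194872) (tt N25727 F194873) (tt N27204 (iv F198556)) (tt N26195 F194874) (tt N25471 F194875) (tt N25840 F194876) (tt N25470 (iv D42368)) (tt N27203 (iv F198550)))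
theorem Q26443 : ∀ i, i < 26443 → P i := stepQ 26442 Q26442 (allL N26442 (tt N26054 F194877) (tt N25557 F194878) (tt N27194 (iv F198488)) (tt N25546 F194879) (tt N25809 F194880) (tt N25473 (iv D42369)) (tt N27206 D43133) (tt N25495 F194881) (tt N27205 (iv F198564)) (tt N25982 F194882))
theorem Q26444 : ∀ i, i < 26444 → P i := stepQ 26443 Q26443 (allL N26443 (tt N27178 (iv F198371)) (tt N26136 F194883) (tt N25772 F194884) (tt N26225 F194885) (tt N27207 D43134) (tt N25474 (iv D42370)) (tt N26170 F194886) (tt N27180 (iv F198391)) (tt N26443 F194887) (tt N27208 D43135))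
theorem Q26445 : ∀ i, i < 26445 → P i := stepQ 26444 Q26444 (allL N26444 (tt N27179 (iv F198379)) (tt N26138 F194888) (tt N25773 F194889) (tt N26226 F194890) (tt N25476 F194891) (tt N27208 (iv F198581)) (tt N26061 F194892) (tt N27181 (iv F198399)) (tt N27093 (iv F197820)) (tt N25474 (iv D42371)))
theorem Q26446 : ∀ i, i < 26446 → P i := stepQ 26445 Q26445 (allL N26445 (tt N26146 F194893) (tt N26108 F194894) (tt N25774 F194895) (tt N27209 D43136) (tt N25475 (iv D42372)) (tt N27207 (iv F198575)) (tt N25578 F194896) (tt N27182 (iv F198405)) (tt N25477 F194897) (tt N27210 D43137))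
theorem Q26447 : ∀ i, i < 26447 → P i := stepQ 26446 Q26446 (allL N26446 (tt N26149 F194898) (tt N26111 F194899) (tt N25775 F194900) (tt N25479 F194901) (tt N27210 (iv F198592)) (tt N25476 F194902) (tt N25579 F194903) (tt N27183 (iv F198413)) (tt N25999 F194904) (tt N25475 (iv D42373)))
theorem Q26448 : ∀ i, i < 26448 → P i := stepQ 26447 Q26447 (allL N26447 (tt N26150 F194905) (tt N26113 F194906) (tt N26055 (iv F194911)) (tt N25477 (iv D42374)) (tt N25480 F194907) (tt N26447 F194908) (tt N25580 F194909) (tt N27184 (iv F198421)) (tt N27209 (iv F198587)) (tt N26000 F194910))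
theorem Q26449 : ∀ i, i < 26449 → P i := stepQ 26448 Q26448 (allL N26448 (tt N26155 F194912) (tt N26241 F194913) (tt N27211 D43138) (tt N25478 (iv D42375)) (tt N27209 (iv F198585)) (tt N26231 F194914) (tt N25584 F194915) (tt N27185 (iv F198426)) (tt N25480 F194916) (tt N27212 D43139))
theorem Q26450 : ∀ i, i < 26450 → P i := stepQ 26449 Q26449 (allL N26449 (tt N26158 F194917) (tt N26244 F194918) (tt N25488 F194919) (tt N27212 (iv F198604)) (tt N25479 F194920) (tt N26232 F194921) (tt N25585 F194922) (tt N27187 (iv F198439)) (tt N27213 D43140) (tt N25478 (iv D42376)))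
theorem Q26451 : ∀ i, i < 26451 → P i := stepQ 26450 Q26450 (allL N26450 (tt N26009 F194923) (tt N26247 F194924) (tt N25491 F194925) (tt N25999 F194926) (tt N27213 (iv F198610)) (tt N27101 (iv F197871)) (tt N25586 F194927) (tt N27189 (iv F198454)) (tt N25479 (iv D42377)) (tt N25482 F194928))
theorem Q26452 : ∀ i, i < 26452 → P i := stepQ 26451 Q26451 (allL N26451 (tt N25883 F194929) (tt N26235 (iv F194934)) (tt N25480 (iv D42378)) (tt N25492 F194930) (tt N26055 F194931) (tt N25483 F194932) (tt N25587 F194933) (tt N27190 (iv F198460)) (tt N27211 (iv F198600)) (tt N25652 (iv F194935)))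
theorem Q26453 : ∀ i, i < 26453 → P i := stepQ 26452 Q26452 (allL N26452 (tt N26007 F194936) (tt N26251 F194937) (tt N25652 F194938) (tt N25481 F194939) (tt N26000 F194940) (tt N25484 F194941) (tt N25588 F194942) (tt N27192 (iv F198479)) (tt N27214 D43141) (tt N25480 (iv D42379)))
theorem Q26454 : ∀ i, i < 26454 → P i := stepQ 26453 Q26453 (allL N26453 (tt N26008 F194943) (tt N26254 F194944) (tt N25494 F194945) (tt N27214 (iv F198616)) (tt N25482 F194946) (tt N27215 D43142) (tt N25589 F194947) (tt N27193 (iv F198485)) (tt N25481 (iv D42380)) (tt N27213 (iv F198612)))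
theorem Q26455 : ∀ i, i < 26455 → P i := stepQ 26454 Q26454 (allL N26454 (tt N26056 F194948) (tt N26249 F194949) (tt N25495 F194950) (tt N26248 F194951) (tt N27109 (iv F197926)) (tt N25485 (iv D42381)) (tt N26234 F194952) (tt N27194 (iv F198491)) (tt N27215 (iv F198625)) (tt N26239 F194953))
theorem Q26456 : ∀ i, i < 26456 → P i := stepQ 26455 Q26455 (allL N26455 (tt N25884 F194954) (tt N26236 F194955) (tt N25486 (iv D42382)) (tt N27211 (iv F198596)) (tt N25656 F194956) (tt N26240 F194957) (tt N25654 F194958) (tt N27195 (iv F198497)) (tt N25492 F194959) (tt N27216 D43143))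
theorem Q26457 : ∀ i, i < 26457 → P i := stepQ 26456 Q26456 (allL N26456 (tt N25888 F194960) (tt N25658 F194961) (tt N27216 (iv F198628)) (tt N25488 F194962) (tt N25663 F194963) (tt N26242 F194964) (tt N25661 F194965) (tt N27197 (iv F198512)) (tt N25660 F194966) (tt N25486 (iv D42383)))
theorem Q26458 : ∀ i, i < 26458 → P i := stepQ 26457 Q26457 (allL N26457 (tt N26077 F194967) (tt N25659 F194968) (tt N25515 F194969) (tt N25572 F194970) (tt N25489 F194971) (tt N25554 F194972) (tt N27199 (iv F198524)) (tt N25487 (iv D42384)) (tt N25493 F194973) (tt N27217 D43144))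
theorem Q26459 : ∀ i, i < 26459 → P i := stepQ 26458 Q26458 (allL N26458 (tt N26153 F194974) (tt N25660 F194975) (tt N25585 F194976) (tt N25661 F194977) (tt N25490 F194978) (tt N25648 F194979) (tt N25488 F194980) (tt N27217 (iv F198639)) (tt N25658 F194981) (tt N25487 (iv D42385)))
theorem Q26460 : ∀ i, i < 26460 → P i := stepQ 26459 Q26459 (allL N26459 (tt N26011 F194982) (tt N25661 F194983) (tt N27213 (iv F198609)) (tt N25660 F194984) (tt N25491 F194985) (tt N27218 D43145) (tt N25658 F194986) (tt N27201 (iv F198534)) (tt N25488 (iv D42386)) (tt N25494 F194987))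
theorem Q26461 : ∀ i, i < 26461 → P i := stepQ 26460 Q26460 (allL N26460 (tt N26079 F194988) (tt N25662 F194989) (tt N25517 F194990) (tt N25778 F194991) (tt N27217 (iv F198637)) (tt N25514 F194992) (tt N27202 (iv F198541)) (tt N25490 F194993) (tt N25841 F194994) (tt N25489 (iv D42387)))
theorem Q26462 : ∀ i, i < 26462 → P i := stepQ 26461 Q26461 (allL N26461 (tt N26010 F194995) (tt N25646 F194996) (tt N27215 (iv F198622)) (tt N25632 F194997) (tt N27125 (iv F198024)) (tt N25494 (iv D42388)) (tt N26231 F194998) (tt N27205 (iv F198563)) (tt N25495 F194999) (tt N27218 (iv F198646)))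
theorem Q26463 : ∀ i, i < 26463 → P i := stepQ 26462 Q26462 (allL N26462 (tt N26097 F195000) (tt N26293 F195001) (tt N25784 F195002) (tt N25940 F195003) (tt N25497 F195004) (tt N27219 D43146) (tt N25550 F195005) (tt N25743 F195006) (tt N25496 (iv D42389)) (tt N27220 D43147))
theorem Q26464 : ∀ i, i < 26464 → P i := stepQ 26463 Q26463 (allL N26463 (tt N26098 F195007) (tt N26021 F195008) (tt N25785 F195009) (tt N25499 F195010) (tt N27221 D43148) (tt N25497 (iv D42390)) (tt N26256 (iv F195013)) (tt N25744 F195011) (tt N25498 F195012) (tt N27222 D43149))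
theorem Q26465 : ∀ i, i < 26465 → P i := stepQ 26464 Q26464 (allL N26464 (tt N26099 F195014) (tt N26296 F195015) (tt N25786 F195016) (tt N25500 F195017) (tt N27220 (iv F198657)) (tt N27222 (iv F198671)) (tt N25552 F195018) (tt N25745 F195019) (tt N25717 F195020) (tt N25497 (iv D42391)))
theorem Q26466 : ∀ i, i < 26466 → P i := stepQ 26465 Q26465 (allL N26465 (tt N26100 F195021) (tt N26024 F195022) (tt N25787 F195023) (tt N27223 D43150) (tt N25498 (iv D42392)) (tt N26465 F195024) (tt N26253 F195025) (tt N25746 F195026) (tt N27221 (iv F198666)) (tt N25979 F195027))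
theorem Q26467 : ∀ i, i < 26467 → P i := stepQ 26466 Q26466 (allL N26466 (tt N26101 F195028) (tt N26028 F195029) (tt N25505 F195030) (tt N27224 D43151) (tt N25499 (iv D42393)) (tt N25873 F195031) (tt N27225 D43152) (tt N25747 F195032) (tt N25501 F195033) (tt N27226 D43153))
theorem Q26468 : ∀ i, i < 26468 → P i := stepQ 26467 Q26467 (allL N26467 (tt N26102 F195034) (tt N25998 F195035) (tt N25506 F195036) (tt N26256 F195037) (tt N27225 (iv F198690)) (tt N25555 F195038) (tt N25499 (iv D42394)) (tt N25988 F195039) (tt N25502 F195040) (tt N27227 D43154))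
theorem Q26469 : ∀ i, i < 26469 → P i := stepQ 26468 Q26468 (allL N26468 (tt N26103 F195041) (tt N26031 F195042) (tt N25507 F195043) (tt N27222 (iv F198670)) (tt N27226 (iv F198696)) (tt N25500 F195044) (tt N27227 (iv F198704)) (tt N25748 F195045) (tt N27228 D43155) (tt N25499 (iv D42395)))
theorem Q26470 : ∀ i, i < 26470 → P i := stepQ 26469 Q26469 (allL N26469 (tt N26104 F195046) (tt N26034 F195047) (tt N27229 D43156) (tt N25501 (iv D42396)) (tt N27223 (iv F198677)) (tt N25504 F195048) (tt N27230 D43157) (tt N25749 F195049) (tt N27224 (iv F198686)) (tt N27174 (iv F198347)))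
theorem Q26471 : ∀ i, i < 26471 → P i := stepQ 26470 Q26470 (allL N26470 (tt N26105 F195050) (tt N26001 F195051) (tt N25509 F195052) (tt N27230 (iv F198721)) (tt N25502 F195053) (tt N26470 F195054) (tt N25501 (iv D42397)) (tt N25991 F195055) (tt N27225 (iv F198692)) (tt N26114 F195056))
theorem Q26472 : ∀ i, i < 26472 → P i := stepQ 26471 Q26471 (allL N26471 (tt N25754 F195057) (tt N26037 F195058) (tt N25512 F195059) (tt N25973 F195060) (tt N27158 (iv F198239)) (tt N25721 F195061) (tt N26110 F195062) (tt N25694 F195063) (tt N25503 (iv D42398)) (tt N27228 (iv F198714)))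
theorem Q26473 : ∀ i, i < 26473 → P i := stepQ 26472 Q26472 (allL N26472 (tt N26106 F195064) (tt N27107 (iv F197908)) (tt N25504 (iv D42399)) (tt N25513 F195065) (tt N26472 F195066) (tt N27229 (iv F198717)) (tt N26472 F195067) (tt N25750 F195068) (tt N25909 F195069) (tt N27106 F197906))
theorem Q26474 : ∀ i, i < 26474 → P i := stepQ 26473 Q26473 (allL N26473 (tt N26107 F195070) (tt N25818 F195071) (tt N27231 D43158) (tt N25505 (iv D42400)) (tt N25796 F195072) (tt N25889 F195073) (tt N27232 D43159) (tt N25751 F195074) (tt N25508 F195075) (tt N27233 D43160))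
theorem Q26475 : ∀ i, i < 26475 → P i := stepQ 26474 Q26474 (allL N26474 (tt N26108 F195076) (tt N25819 F195077) (tt N27225 (iv F198689)) (tt N27232 (iv F198733)) (tt N25506 F195078) (tt N27234 D43161) (tt N25505 (iv D42401)) (tt N27235 D43162) (tt N25509 F195079) (tt N27236 D43163))
theorem Q26476 : ∀ i, i < 26476 → P i := stepQ 26475 Q26475 (allL N26475 (tt N26109 F195080) (tt N25820 F195081) (tt N27226 (iv F198695)) (tt N27233 (iv F198738)) (tt N25507 F195082) (tt N25943 F195083) (tt N27236 (iv F198756)) (tt N25753 F195084) (tt N27170 (iv F198318)) (tt N25505 (iv D42402)))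
theorem Q26477 : ∀ i, i < 26477 → P i := stepQ 26476 Q26476 (allL N26476 (tt N26110 F195085) (tt N25821 F195086) (tt N25988 F195087) (tt N25799 F195088) (tt N27235 (iv F198750)) (tt N25566 F195089) (tt N25754 F195090) (tt N25506 (iv D42403)) (tt N25510 F195091) (tt N27237 D43164))
theorem Q26478 : ∀ i, i < 26478 → P i := stepQ 26477 Q26477 (allL N26477 (tt N26111 F195092) (tt N25822 F195093) (tt N27227 (iv F198701)) (tt N25800 F195094) (tt N27236 (iv F198755)) (tt N25567 F195095) (tt N25507 F195096) (tt N27237 (iv F198763)) (tt N27238 D43165) (tt N25506 (iv D42404)))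
theorem Q26479 : ∀ i, i < 26479 → P i := stepQ 26478 Q26478 (allL N26478 (tt N25989 F195097) (tt N25823 F195098) (tt N27228 (iv F198709)) (tt N25801 F195099) (tt N27170 (iv F198315)) (tt N25726 F195100) (tt N27238 (iv F198769)) (tt N25756 F195101) (tt N25507 (iv D42405)) (tt N25512 F195102))
theorem Q26480 : ∀ i, i < 26480 → P i := stepQ 26479 Q26479 (allL N26479 (tt N26112 F195103) (tt N27121 (iv F197994)) (tt N25508 (iv D42406)) (tt N27229 (iv F198716)) (tt N25802 F195104) (tt N25513 F195105) (tt N27239 D43166) (tt N25757 F195106) (tt N27231 (iv F198730)) (tt N27119 F197987))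
theorem Q26481 : ∀ i, i < 26481 → P i := stepQ 26480 Q26480 (allL N26480 (tt N26113 F195107) (tt N25824 F195108) (tt N27239 (iv F198775)) (tt N25509 F195109) (tt N25803 F195110) (tt N26480 F195111) (tt N25508 (iv D42407)) (tt N27240 D43167) (tt N27232 (iv F198735)) (tt N27175 (iv F198354)))
theorem Q26482 : ∀ i, i < 26482 → P i := stepQ 26481 Q26481 (allL N26481 (tt N26114 F195112) (tt N25825 F195113) (tt N25991 F195114) (tt N27240 (iv F198780)) (tt N25510 F195115) (tt N26481 F195116) (tt N25759 F195117) (tt N25509 (iv D42408)) (tt N27235 (iv F198752)) (tt N26105 F195118))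
theorem Q26483 : ∀ i, i < 26483 → P i := stepQ 26482 Q26482 (allL N26482 (tt N25988 F195119) (tt N25828 F195120) (tt N26110 F195121) (tt N25808 F195122) (tt N27169 (iv F198310)) (tt N26126 F195123) (tt N25512 F195124) (tt N26102 F195125) (tt N25511 (iv D42409)) (tt N27238 (iv F198771)))
theorem Q26484 : ∀ i, i < 26484 → P i := stepQ 26483 Q26483 (allL N26483 (tt N26081 F195126) (tt N25970 F195127) (tt N26015 (iv F195132)) (tt N25515 (iv D42410)) (tt N25930 F195128) (tt N25563 F195129) (tt N27241 D43168) (tt N25584 F195130) (tt N25518 F195131) (tt N27242 D43169))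
theorem Q26485 : ∀ i, i < 26485 → P i := stepQ 26484 Q26484 (allL N26484 (tt N26082 F195133) (tt N25971 F195134) (tt N27199 (iv F198521)) (tt N27241 (iv F198788)) (tt N25516 F195135) (tt N27243 D43170) (tt N25515 (iv D42411)) (tt N27186 (iv F198432)) (tt N25519 F195136) (tt N27244 D43171))
theorem Q26486 : ∀ i, i < 26486 → P i := stepQ 26485 Q26485 (allL N26485 (tt N26083 F195137) (tt N25972 F195138) (tt N27217 (iv F198635)) (tt N27242 (iv F198794)) (tt N25517 F195139) (tt N25565 F195140) (tt N27244 (iv F198807)) (tt N25585 F195141) (tt N26020 F195142) (tt N25515 (iv D42412)))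
theorem Q26487 : ∀ i, i < 26487 → P i := stepQ 26486 Q26486 (allL N26486 (tt N26085 F195143) (tt N25974 F195144) (tt N27202 (iv F198538)) (tt N26032 F195145) (tt N27244 (iv F198806)) (tt N25944 F195146) (tt N25517 F195147) (tt N27188 (iv F198446)) (tt N26022 F195148) (tt N25516 (iv D42413)))
theorem Q26488 : ∀ i, i < 26488 → P i := stepQ 26487 Q26487 (allL N26487 (tt N26086 F195149) (tt N25977 F195150) (tt N26057 F195151) (tt N25519 F195152) (tt N25934 F195153) (tt N26487 F195154) (tt N25518 (iv D42414)) (tt N27191 (iv F198470)) (tt N27241 (iv F198790)) (tt N26023 F195155))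
theorem Q26489 : ∀ i, i < 26489 → P i := stepQ 26488 Q26488 (allL N26488 (tt N25522 F195156) (tt N25597 F195157) (tt N25722 F195158) (tt N25592 F195159) (tt N25719 F195160) (tt N25591 F195161) (tt N25708 F195162) (tt N25590 F195163) (tt N25520 (iv D42415)) (tt N27245 D43172))
theorem Q26490 : ∀ i, i < 26490 → P i := stepQ 26489 Q26489 (allL N26489 (tt N25592 F195164) (tt N25525 F195165) (tt N25845 F195166) (tt N25522 F195167) (tt N27172 (iv F198330)) (tt N25590 F195168) (tt N25711 F195169) (tt N25591 F195170) (tt N25521 (iv D42416)) (tt N27246 D43173))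
theorem Q26491 : ∀ i, i < 26491 → P i := stepQ 26490 Q26490 (allL N26490 (tt N25591 F195171) (tt N25526 F195172) (tt N25781 F195173) (tt N25590 F195174) (tt N26049 (iv F195178)) (tt N25522 (iv D42417)) (tt N25838 F195175) (tt N25592 F195176) (tt N25523 F195177) (tt N27247 D43174))
theorem Q26492 : ∀ i, i < 26492 → P i := stepQ 26491 Q26491 (allL N26491 (tt N27245 (iv F198809)) (tt N25527 F195179) (tt N25782 F195180) (tt N27246 (iv F198821)) (tt N26059 F195181) (tt N27247 (iv F198831)) (tt N25714 F195182) (tt N25593 F195183) (tt N25545 F195184) (tt N25522 (iv D42418)))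
theorem Q26493 : ∀ i, i < 26493 → P i := stepQ 26492 Q26492 (allL N26492 (tt N26063 F195185) (tt N27172 (iv F198327)) (tt N25810 F195186) (tt N25852 F195187) (tt N25525 F195188) (tt N25906 F195189) (tt N25715 F195190) (tt N25596 F195191) (tt N25524 (iv D42419)) (tt N27248 D43175))
theorem Q26494 : ∀ i, i < 26494 → P i := stepQ 26493 Q26493 (allL N26493 (tt N26064 F195192) (tt N27246 (iv F198819)) (tt N25812 F195193) (tt N25527 F195194) (tt N27248 (iv F198838)) (tt N26163 F195195) (tt N25717 F195196) (tt N25598 F195197) (tt N25552 F195198) (tt N25525 (iv D42420)))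
theorem Q26495 : ∀ i, i < 26495 → P i := stepQ 26494 Q26494 (allL N26494 (tt N26065 F195199) (tt N26049 F195200) (tt N25530 F195201) (tt N25869 F195202) (tt N25526 (iv D42421)) (tt N25850 F195203) (tt N25952 (iv F195206)) (tt N25599 F195204) (tt N25528 F195205) (tt N27249 D43176))
theorem Q26496 : ∀ i, i < 26496 → P i := stepQ 26495 Q26495 (allL N26495 (tt N25848 F195207) (tt N25838 F195208) (tt N25531 F195209) (tt N25835 F195210) (tt N25952 F195211) (tt N25719 F195212) (tt N25526 (iv D42422)) (tt N25894 F195214) (tt N25529 F195213) (tt N27250 D43177))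
theorem Q26497 : ∀ i, i < 26497 → P i := stepQ 26496 Q26496 (allL N26496 (tt N26066 F195215) (tt N27247 (iv F198827)) (tt N25532 F195216) (tt N26163 F195217) (tt N27249 (iv F198847)) (tt N25527 F195218) (tt N27250 (iv F198858)) (tt N25601 F195219) (tt N26185 F195220) (tt N25526 (iv D42423)))
theorem Q26498 : ∀ i, i < 26498 → P i := stepQ 26497 Q26497 (allL N26497 (tt N26067 F195221) (tt N25797 F195222) (tt N25952 F195223) (tt N25898 F195224) (tt N25531 F195225) (tt N26188 F195226) (tt N25530 (iv D42424)) (tt N27251 D43178) (tt N25533 F195227) (tt N27252 D43179))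
theorem Q26499 : ∀ i, i < 26499 → P i := stepQ 26498 Q26498 (allL N26498 (tt N26068 F195228) (tt N25798 F195229) (tt N27249 (iv F198845)) (tt N25899 F195230) (tt N25532 F195231) (tt N25860 F195232) (tt N27252 (iv F198875)) (tt N25610 F195233) (tt N27253 D43180) (tt N25530 (iv D42425)))
theorem Q26500 : ∀ i, i < 26500 → P i := stepQ 26499 Q26499 (allL N26499 (tt N26069 F195234) (tt N25799 F195235) (tt N25894 F195236) (tt N25821 F195237) (tt N27251 (iv F198865)) (tt N25724 F195238) (tt N25611 F195239) (tt N25531 (iv D42426)) (tt N25535 F195240) (tt N27254 D43181))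
theorem Q26501 : ∀ i, i < 26501 → P i := stepQ 26500 Q26500 (allL N26500 (tt N26070 F195241) (tt N25800 F195242) (tt N27250 (iv F198854)) (tt N25822 F195243) (tt N27252 (iv F198873)) (tt N25725 F195244) (tt N25532 F195245) (tt N27254 (iv F198892)) (tt N27255 D43182) (tt N25531 (iv D42427)))
theorem Q26502 : ∀ i, i < 26502 → P i := stepQ 26501 Q26501 (allL N26501 (tt N26071 F195246) (tt N25801 F195247) (tt N26185 F195248) (tt N25823 F195249) (tt N27253 (iv F198881)) (tt N25568 F195250) (tt N27255 (iv F198900)) (tt N25613 F195251) (tt N25532 (iv D42428)) (tt N25537 F195252))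
theorem Q26503 : ∀ i, i < 26503 → P i := stepQ 26502 Q26502 (allL N26502 (tt N26072 F195253) (tt N25805 F195254) (tt N25893 F195255) (tt N25911 F195256) (tt N25535 F195257) (tt N25910 F195258) (tt N25617 F195259) (tt N25533 (iv D42429)) (tt N27251 (iv F198868)) (tt N25887 F195260))
theorem Q26504 : ∀ i, i < 26504 → P i := stepQ 26503 Q26503 (allL N26503 (tt N26073 F195261) (tt N25807 F195262) (tt N25866 F195263) (tt N25870 F195264) (tt N25537 F195265) (tt N26025 F195266) (tt N25949 F195267) (tt N25619 F195268) (tt N25534 (iv D42430)) (tt N27253 (iv F198885)))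
theorem Q26505 : ∀ i, i < 26505 → P i := stepQ 26504 Q26504 (allL N26504 (tt N25927 F195269) (tt N25808 F195270) (tt N25832 F195271) (tt N25828 F195272) (tt N25949 F195273) (tt N25830 F195274) (tt N25537 F195275) (tt N25885 F195276) (tt N25536 (iv D42431)) (tt N27255 (iv F198902)))
theorem Q26506 : ∀ i, i < 26506 → P i := stepQ 26505 Q26505 (allL N26505 (tt N25542 F195277) (tt N25607 F195278) (tt N26257 F195279) (tt N25539 F195280) (tt N26041 F195281) (tt N25635 F195282) (tt N25902 F195283) (tt N25624 F195284) (tt N25538 (iv D42432)) (tt N27256 D43183))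
theorem Q26507 : ∀ i, i < 26507 → P i := stepQ 26506 Q26506 (allL N26506 (tt N25544 F195285) (tt N25645 F195286) (tt N25799 F195287) (tt N25635 F195288) (tt N26205 F195289) (tt N25539 (iv D42433)) (tt N26230 F195290) (tt N25625 F195291) (tt N25540 F195292) (tt N27257 D43184))
theorem Q26508 : ∀ i, i < 26508 → P i := stepQ 26507 Q26507 (allL N26507 (tt N25545 F195293) (tt N26115 F195294) (tt N25843 F195295) (tt N27256 (iv F198906)) (tt N25932 F195296) (tt N27257 (iv F198917)) (tt N25907 F195297) (tt N25626 F195298) (tt N27245 (iv F198817)) (tt N25539 (iv D42434)))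
theorem Q26509 : ∀ i, i < 26509 → P i := stepQ 26508 Q26508 (allL N26508 (tt N26257 F195299) (tt N25830 F195300) (tt N25542 F195301) (tt N26126 F195302) (tt N27163 (iv F198272)) (tt N25808 F195303) (tt N26195 F195304) (tt N25627 F195305) (tt N25541 (iv D42435)) (tt N27258 D43185))
theorem Q26510 : ∀ i, i < 26510 → P i := stepQ 26509 Q26509 (allL N26509 (tt N25635 F195306) (tt N25551 F195307) (tt N25808 F195308) (tt N25544 F195309) (tt N26038 (iv F195313)) (tt N25542 (iv D42436)) (tt N25792 F195310) (tt N25629 F195311) (tt N25543 F195312) (tt N27259 D43186))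
theorem Q26511 : ∀ i, i < 26511 → P i := stepQ 26510 Q26510 (allL N26510 (tt N27256 (iv F198903)) (tt N25552 F195314) (tt N27258 (iv F198923)) (tt N25545 F195315) (tt N27167 (iv F198296)) (tt N27259 (iv F198934)) (tt N26296 F195316) (tt N25630 F195317) (tt N27246 (iv F198825)) (tt N25542 (iv D42437)))
theorem Q26512 : ∀ i, i < 26512 → P i := stepQ 26511 Q26511 (allL N26511 (tt N26205 F195318) (tt N25554 F195319) (tt N26243 F195320) (tt N27205 (iv F198561)) (tt N25544 (iv D42438)) (tt N25659 F195321) (tt N27260 D43187) (tt N25632 F195322) (tt N25546 F195323) (tt N27261 D43188))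
theorem Q26513 : ∀ i, i < 26513 → P i := stepQ 26512 Q26512 (allL N26512 (tt N26230 F195324) (tt N25555 F195325) (tt N25973 F195326) (tt N25792 F195327) (tt N27260 (iv F198941)) (tt N25998 F195328) (tt N25544 (iv D42439)) (tt N25961 F195329) (tt N25547 F195330) (tt N27262 D43189))
theorem Q26514 : ∀ i, i < 26514 → P i := stepQ 26513 Q26513 (allL N26513 (tt N27257 (iv F198912)) (tt N25556 F195331) (tt N26246 F195332) (tt N27259 (iv F198932)) (tt N27261 (iv F198947)) (tt N25545 F195333) (tt N27262 (iv F198955)) (tt N25633 F195334) (tt N27263 D43190) (tt N25544 (iv D42440)))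
theorem Q26515 : ∀ i, i < 26515 → P i := stepQ 26514 Q26514 (allL N26514 (tt N26208 F195335) (tt N25558 F195336) (tt N25979 F195337) (tt N27206 (iv F198567)) (tt N25547 F195338) (tt N26514 F195339) (tt N25546 (iv D42441)) (tt N25964 F195340) (tt N27260 (iv F198943)) (tt N25787 (iv F195341)))
theorem Q26516 : ∀ i, i < 26516 → P i := stepQ 26515 Q26515 (allL N26515 (tt N25631 F195342) (tt N25559 F195343) (tt N26253 F195344) (tt N25982 F195345) (tt N25548 F195346) (tt N25549 F195347) (tt N25787 F195348) (tt N25634 F195349) (tt N27264 D43191) (tt N25546 (iv D42442)))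
theorem Q26517 : ∀ i, i < 26517 → P i := stepQ 26516 Q26516 (allL N26516 (tt N25629 F195350) (tt N25562 F195351) (tt N26256 F195352) (tt N25625 F195353) (tt N27264 (iv F198970)) (tt N25624 F195354) (tt N25785 F195355) (tt N25635 F195356) (tt N25548 (iv D42443)) (tt N27263 (iv F198965)))
theorem Q26518 : ∀ i, i < 26518 → P i := stepQ 26517 Q26517 (allL N26517 (tt N26120 F195357) (tt N27165 (iv F198282)) (tt N25608 F195358) (tt N25827 F195359) (tt N25870 F195360) (tt N25550 (iv D42444)) (tt N27265 D43192) (tt N25636 F195361) (tt N25614 F195362) (tt N27266 D43193))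
theorem Q26519 : ∀ i, i < 26519 → P i := stepQ 26518 Q26518 (allL N26518 (tt N26121 F195363) (tt N27167 (iv F198294)) (tt N25836 F195364) (tt N27091 (iv F197801)) (tt N25552 F195365) (tt N27266 (iv F198983)) (tt N27220 (iv F198658)) (tt N25637 F195366) (tt N27248 (iv F198842)) (tt N25550 (iv D42445)))
theorem Q26520 : ∀ i, i < 26520 → P i := stepQ 26519 Q26519 (allL N26519 (tt N25627 F195367) (tt N25792 F195368) (tt N25624 F195369) (tt N25555 F195370) (tt N26039 F195371) (tt N26256 F195372) (tt N25551 (iv D42446)) (tt N26257 F195374) (tt N25553 F195373) (tt N27267 D43194))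
theorem Q26521 : ∀ i, i < 26521 → P i := stepQ 26520 Q26520 (allL N26520 (tt N26122 F195375) (tt N27259 (iv F198930)) (tt N25837 F195376) (tt N25556 F195377) (tt N26040 F195378) (tt N25552 F195379) (tt N27267 (iv F198992)) (tt N25640 F195380) (tt N26186 F195381) (tt N25551 (iv D42447)))
theorem Q26522 : ∀ i, i < 26522 → P i := stepQ 26521 Q26521 (allL N26521 (tt N26123 F195382) (tt N27205 (iv F198560)) (tt N26018 F195383) (tt N25554 (iv D42448)) (tt N26025 F195384) (tt N25572 F195385) (tt N27268 D43195) (tt N25646 F195386) (tt N25557 F195387) (tt N27269 D43196))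
theorem Q26523 : ∀ i, i < 26523 → P i := stepQ 26522 Q26522 (allL N26522 (tt N26124 F195388) (tt N27260 (iv F198939)) (tt N25564 F195389) (tt N27268 (iv F198997)) (tt N25555 F195390) (tt N27270 D43197) (tt N25554 (iv D42449)) (tt N27271 D43198) (tt N25558 F195391) (tt N27272 D43199))
theorem Q26524 : ∀ i, i < 26524 → P i := stepQ 26523 Q26523 (allL N26523 (tt N26125 F195392) (tt N27261 (iv F198945)) (tt N25565 F195393) (tt N27269 (iv F199002)) (tt N25556 F195394) (tt N27217 (iv F198638)) (tt N27272 (iv F199019)) (tt N25648 F195395) (tt N27273 D43200) (tt N25554 (iv D42450)))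
theorem Q26525 : ∀ i, i < 26525 → P i := stepQ 26524 Q26524 (allL N26524 (tt N26126 F195396) (tt N25961 F195397) (tt N25566 F195398) (tt N26257 F195399) (tt N27271 (iv F199013)) (tt N25988 F195400) (tt N25649 F195401) (tt N25555 (iv D42451)) (tt N25560 F195402) (tt N27274 D43201))
theorem Q26526 : ∀ i, i < 26526 → P i := stepQ 26525 Q26525 (allL N26525 (tt N26127 F195403) (tt N27262 (iv F198951)) (tt N25567 F195404) (tt N27267 (iv F198989)) (tt N27272 (iv F199018)) (tt N27227 (iv F198703)) (tt N25556 F195405) (tt N27274 (iv F199033)) (tt N27275 D43202) (tt N25555 (iv D42452)))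
theorem Q26527 : ∀ i, i < 26527 → P i := stepQ 26526 Q26526 (allL N26526 (tt N26128 F195406) (tt N27263 (iv F198959)) (tt N25568 F195407) (tt N26186 F195408) (tt N27273 (iv F199023)) (tt N26185 F195409) (tt N27275 (iv F199040)) (tt N25651 F195410) (tt N25556 (iv D42453)) (tt N25562 F195411))
theorem Q26528 : ∀ i, i < 26528 → P i := stepQ 26527 Q26527 (allL N26527 (tt N26129 F195412) (tt N27206 (iv F198566)) (tt N26023 F195413) (tt N25558 F195414) (tt N26033 F195415) (tt N26527 F195416) (tt N25557 (iv D42454)) (tt N27276 D43203) (tt N27268 (iv F198999)) (tt N26057 F195417))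
theorem Q26529 : ∀ i, i < 26529 → P i := stepQ 26528 Q26528 (allL N26528 (tt N26130 F195418) (tt N25964 F195419) (tt N25570 F195420) (tt N27276 (iv F199046)) (tt N25560 F195421) (tt N26528 F195422) (tt N25653 F195423) (tt N25558 (iv D42455)) (tt N27271 (iv F199015)) (tt N26144 (iv F195424)))
theorem Q26530 : ∀ i, i < 26530 → P i := stepQ 26529 Q26529 (allL N26529 (tt N26131 F195425) (tt N25787 F195426) (tt N25571 F195427) (tt N26057 F195428) (tt N25561 F195429) (tt N26529 F195430) (tt N25559 F195431) (tt N26144 F195432) (tt N27277 D43204) (tt N25558 (iv D42456)))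
theorem Q26531 : ∀ i, i < 26531 → P i := stepQ 26530 Q26530 (allL N26530 (tt N26132 F195433) (tt N27264 (iv F198967)) (tt N25572 F195434) (tt N26015 F195435) (tt N25562 F195436) (tt N26018 F195437) (tt N27277 (iv F199056)) (tt N25654 F195438) (tt N25559 (iv D42457)) (tt N27273 (iv F199026)))
theorem Q26532 : ∀ i, i < 26532 → P i := stepQ 26531 Q26531 (allL N26531 (tt N26133 F195439) (tt N25785 F195440) (tt N25574 F195441) (tt N25781 F195442) (tt N27277 (iv F199055)) (tt N25780 F195443) (tt N25562 F195444) (tt N26143 F195445) (tt N25561 (iv D42458)) (tt N27275 (iv F199042)))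
theorem Q26533 : ∀ i, i < 26533 → P i := stepQ 26532 Q26532 (allL N26532 (tt N26134 F195446) (tt N27196 (iv F198501)) (tt N26019 F195447) (tt N25564 F195448) (tt N25840 F195449) (tt N27278 D43205) (tt N25563 (iv D42459)) (tt N27204 (iv F198558)) (tt N25569 F195450) (tt N27279 D43206))
theorem Q26534 : ∀ i, i < 26534 → P i := stepQ 26533 Q26533 (allL N26533 (tt N26135 F195451) (tt N27197 (iv F198508)) (tt N26020 F195452) (tt N25565 F195453) (tt N25841 F195454) (tt N27242 (iv F198796)) (tt N27279 (iv F199067)) (tt N25658 F195455) (tt N27217 (iv F198640)) (tt N25563 (iv D42460)))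
theorem Q26535 : ∀ i, i < 26535 → P i := stepQ 26534 Q26534 (allL N26534 (tt N26136 F195456) (tt N27198 (iv F198515)) (tt N27270 (iv F199008)) (tt N27278 (iv F199060)) (tt N27234 (iv F198744)) (tt N25564 (iv D42461)) (tt N27243 (iv F198802)) (tt N27280 D43207) (tt N26534 F195457) (tt N27281 D43208))
theorem Q26536 : ∀ i, i < 26536 → P i := stepQ 26535 Q26535 (allL N26535 (tt N26137 F195458) (tt N27199 (iv F198520)) (tt N27271 (iv F199012)) (tt N27204 (iv F198555)) (tt N25566 F195459) (tt N27280 (iv F199069)) (tt N25659 F195460) (tt N25564 (iv D42462)) (tt N25570 F195461) (tt N27282 D43209))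
theorem Q26537 : ∀ i, i < 26537 → P i := stepQ 26536 Q26536 (allL N26536 (tt N26138 F195462) (tt N27200 (iv F198527)) (tt N27272 (iv F199017)) (tt N27279 (iv F199065)) (tt N25567 F195463) (tt N27281 (iv F199072)) (tt N25565 F195464) (tt N27282 (iv F199076)) (tt N27283 D43210) (tt N25564 (iv D42463)))
theorem Q26538 : ∀ i, i < 26538 → P i := stepQ 26537 Q26537 (allL N26537 (tt N26139 F195465) (tt N27201 (iv F198531)) (tt N27273 (iv F199021)) (tt N27217 (iv F198636)) (tt N25568 F195466) (tt N27269 (iv F199004)) (tt N27283 (iv F199079)) (tt N25661 F195467) (tt N25565 (iv D42464)) (tt N25572 F195468))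
theorem Q26539 : ∀ i, i < 26539 → P i := stepQ 26538 Q26538 (allL N26538 (tt N26140 F195469) (tt N27202 (iv F198537)) (tt N27274 (iv F199029)) (tt N25843 F195470) (tt N27282 (iv F199074)) (tt N27237 (iv F198761)) (tt N25662 F195471) (tt N25567 F195472) (tt N27284 D43211) (tt N25566 (iv D42465)))
theorem Q26540 : ∀ i, i < 26540 → P i := stepQ 26539 Q26539 (allL N26539 (tt N26141 F195473) (tt N27203 (iv F198545)) (tt N27275 (iv F199037)) (tt N25844 F195474) (tt N27283 (iv F199078)) (tt N27285 D43212) (tt N25568 F195475) (tt N27284 (iv F199087)) (tt N25567 (iv D42466)) (tt N25574 F195476))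
theorem Q26541 : ∀ i, i < 26541 → P i := stepQ 26540 Q26540 (allL N26540 (tt N26142 F195477) (tt N27204 (iv F198553)) (tt N27277 (iv F199053)) (tt N27199 (iv F198522)) (tt N25574 F195478) (tt N27286 D43213) (tt N25572 F195479) (tt N27196 (iv F198505)) (tt N25571 (iv D42467)) (tt N27283 (iv F199080)))
theorem Q26542 : ∀ i, i < 26542 → P i := stepQ 26541 Q26541 (allL N26541 (tt N25780 F195480) (tt N25840 F195481) (tt N26143 F195482) (tt N25722 F195483) (tt N27196 (iv F198504)) (tt N26133 F195484) (tt N25664 F195485) (tt N25574 F195486) (tt N25573 (iv D42468)) (tt N27284 (iv F199088)))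
theorem Q26543 : ∀ i, i < 26543 → P i := stepQ 26542 Q26542 (allL N26542 (tt N26143 F195487) (tt N26195 F195488) (tt N25780 F195489) (tt N25845 F195490) (tt N27287 D43214) (tt N25574 (iv D42469)) (tt N25830 F195491) (tt N26133 F195492) (tt N25575 F195493) (tt N27285 (iv F199096)))
theorem Q26544 : ∀ i, i < 26544 → P i := stepQ 26543 Q26543 (allL N26543 (tt N26144 F195494) (tt N26197 F195495) (tt N25779 F195496) (tt N27177 (iv F198366)) (tt N25575 (iv D42470)) (tt N26543 F195497) (tt N25829 F195498) (tt N26131 F195499) (tt N27287 (iv F199104)) (tt N26130 F195500))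
theorem Q26545 : ∀ i, i < 26545 → P i := stepQ 26544 Q26544 (allL N26544 (tt N25925 F195501) (tt N25577 F195502) (tt N26096 F195503) (tt N25937 F195504) (tt N25849 F195505) (tt N25945 F195506) (tt N26060 F195507) (tt N25742 F195508) (tt N25707 F195509) (tt N25576 (iv D42471)))
theorem Q26546 : ∀ i, i < 26546 → P i := stepQ 26545 Q26545 (allL N26545 (tt N26145 F195510) (tt N26107 F195511) (tt N25993 (iv F195516)) (tt N25578 (iv D42472)) (tt N25584 F195512) (tt N25854 F195513) (tt N27209 (iv F198586)) (tt N25930 F195514) (tt N25580 F195515) (tt N27288 D43215))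
theorem Q26547 : ∀ i, i < 26547 → P i := stepQ 26546 Q26546 (allL N26546 (tt N26147 F195517) (tt N26109 F195518) (tt N26005 F195519) (tt N27288 (iv F199108)) (tt N25579 F195520) (tt N25856 F195521) (tt N27210 (iv F198593)) (tt N26030 F195522) (tt N25997 F195523) (tt N25578 (iv D42473)))
theorem Q26548 : ∀ i, i < 26548 → P i := stepQ 26547 Q26547 (allL N26547 (tt N26061 F195524) (tt N26222 F195525) (tt N27089 (iv F197782)) (tt N25836 F195526) (tt N25583 F195527) (tt N25610 F195528) (tt N27179 (iv F198384)) (tt N25860 F195529) (tt N25994 F195530) (tt N25582 (iv D42474)))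
theorem Q26549 : ∀ i, i < 26549 → P i := stepQ 26548 Q26548 (allL N26548 (tt N26154 F195531) (tt N26255 (iv F195537)) (tt N25584 (iv D42475)) (tt N25654 F195532) (tt N25993 F195533) (tt N25589 F195534) (tt N27211 (iv F198599)) (tt N26015 F195535) (tt N25587 F195536) (tt N27289 D43216))
theorem Q26550 : ∀ i, i < 26550 → P i := stepQ 26549 Q26549 (allL N26549 (tt N26156 F195538) (tt N26242 F195539) (tt N27289 (iv F199115)) (tt N25585 F195540) (tt N27288 (iv F199109)) (tt N25658 F195541) (tt N27212 (iv F198606)) (tt N27242 (iv F198797)) (tt N27290 D43217) (tt N25584 (iv D42476)))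
theorem Q26551 : ∀ i, i < 26551 → P i := stepQ 26550 Q26550 (allL N26550 (tt N26159 F195542) (tt N26245 F195543) (tt N25658 F195544) (tt N27290 (iv F199124)) (tt N25586 F195545) (tt N27289 (iv F199118)) (tt N27213 (iv F198611)) (tt N26020 F195546) (tt N25585 (iv D42477)) (tt N25589 F195547))
theorem Q26552 : ∀ i, i < 26552 → P i := stepQ 26551 Q26551 (allL N26551 (tt N26162 F195548) (tt N26252 F195549) (tt N25646 F195550) (tt N25589 F195551) (tt N25995 F195552) (tt N25654 F195553) (tt N27214 (iv F198619)) (tt N26018 F195554) (tt N25588 (iv D42478)) (tt N27290 (iv F199128)))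
theorem Q26553 : ∀ i, i < 26553 → P i := stepQ 26552 Q26552 (allL N26552 (tt N25593 F195555) (tt N26163 F195556) (tt N25844 F195557) (tt N27247 (iv F198829)) (tt N25933 F195558) (tt N27246 (iv F198822)) (tt N25839 F195559) (tt N27245 (iv F198816)) (tt N25626 F195560) (tt N25590 (iv D42479)))
theorem Q26554 : ∀ i, i < 26554 → P i := stepQ 26553 Q26553 (allL N26553 (tt N27247 (iv F198826)) (tt N25598 F195561) (tt N26190 F195562) (tt N25593 F195563) (tt N27168 (iv F198303)) (tt N27245 (iv F198814)) (tt N26091 F195564) (tt N27246 (iv F198824)) (tt N25630 F195565) (tt N25591 (iv D42480)))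
theorem Q26555 : ∀ i, i < 26555 → P i := stepQ 26554 Q26554 (allL N26554 (tt N27172 (iv F198326)) (tt N25599 F195566) (tt N26277 F195567) (tt N26050 F195568) (tt N25592 (iv D42481)) (tt N27088 (iv F197777)) (tt N27291 D43218) (tt N26049 F195569) (tt N25594 F195570) (tt N27292 D43219))
theorem Q26556 : ∀ i, i < 26556 → P i := stepQ 26555 Q26555 (allL N26555 (tt N25711 F195571) (tt N25600 F195572) (tt N26274 F195573) (tt N25708 F195574) (tt N27291 (iv F199133)) (tt N25920 F195575) (tt N25592 (iv D42482)) (tt N25762 F195576) (tt N25595 F195577) (tt N27293 D43220))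
theorem Q26557 : ∀ i, i < 26557 → P i := stepQ 26556 Q26556 (allL N26556 (tt N27246 (iv F198818)) (tt N25601 F195578) (tt N26276 F195579) (tt N27245 (iv F198812)) (tt N27292 (iv F199139)) (tt N25593 F195580) (tt N27293 (iv F199147)) (tt N27247 (iv F198833)) (tt N27256 (iv F198911)) (tt N25592 (iv D42483)))
theorem Q26558 : ∀ i, i < 26558 → P i := stepQ 26557 Q26557 (allL N26557 (tt N25710 F195581) (tt N25603 F195582) (tt N26275 F195583) (tt N25718 F195584) (tt N25595 F195585) (tt N26557 F195586) (tt N25594 (iv D42484)) (tt N25761 F195587) (tt N27291 (iv F199135)) (tt N25905 F195588))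
theorem Q26559 : ∀ i, i < 26559 → P i := stepQ 26558 Q26558 (allL N26558 (tt N26164 F195589) (tt N27168 (iv F198300)) (tt N25863 F195590) (tt N26046 F195591) (tt N25598 F195592) (tt N26043 F195593) (tt N26093 F195594) (tt N27248 (iv F198841)) (tt N25637 F195595) (tt N25596 (iv D42485)))
theorem Q26560 : ∀ i, i < 26560 → P i := stepQ 26559 Q26559 (allL N26559 (tt N26062 F195596) (tt N27245 (iv F198810)) (tt N25864 F195597) (tt N25601 F195598) (tt N26088 F195599) (tt N25598 F195600) (tt N25924 F195601) (tt N26163 F195602) (tt N26115 F195603) (tt N25597 (iv D42486)))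
theorem Q26561 : ∀ i, i < 26561 → P i := stepQ 26560 Q26560 (allL N26560 (tt N26089 F195604) (tt N26050 F195605) (tt N25827 F195606) (tt N25599 (iv D42487)) (tt N25817 F195607) (tt N25859 F195608) (tt N27294 D43221) (tt N25869 F195609) (tt N25602 F195610) (tt N27295 D43222))
theorem Q26562 : ∀ i, i < 26562 → P i := stepQ 26561 Q26561 (allL N26561 (tt N26165 F195611) (tt N27291 (iv F199130)) (tt N25609 F195612) (tt N27294 (iv F199153)) (tt N25600 F195613) (tt N27296 D43223) (tt N25599 (iv D42488)) (tt N27297 D43224) (tt N25603 F195614) (tt N27298 D43225))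
theorem Q26563 : ∀ i, i < 26563 → P i := stepQ 26562 Q26562 (allL N26562 (tt N26166 F195615) (tt N27292 (iv F199136)) (tt N25610 F195616) (tt N27295 (iv F199160)) (tt N25601 F195617) (tt N27089 (iv F197785)) (tt N27298 (iv F199180)) (tt N27249 (iv F198850)) (tt N27299 D43226) (tt N25599 (iv D42489)))
theorem Q26564 : ∀ i, i < 26564 → P i := stepQ 26563 Q26563 (allL N26563 (tt N25699 F195618) (tt N25762 F195619) (tt N25611 F195620) (tt N25682 F195621) (tt N27297 (iv F199174)) (tt N25681 F195622) (tt N25894 F195623) (tt N25600 (iv D42490)) (tt N25605 F195624) (tt N27300 D43227))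
theorem Q26565 : ∀ i, i < 26565 → P i := stepQ 26564 Q26564 (allL N26564 (tt N26167 F195625) (tt N27293 (iv F199143)) (tt N25612 F195626) (tt N25924 F195627) (tt N27298 (iv F199179)) (tt N25923 F195628) (tt N25601 F195629) (tt N27300 (iv F199195)) (tt N27301 D43228) (tt N25600 (iv D42491)))
theorem Q26566 : ∀ i, i < 26566 → P i := stepQ 26565 Q26565 (allL N26565 (tt N26117 F195630) (tt N27256 (iv F198904)) (tt N25613 F195631) (tt N26115 F195632) (tt N27299 (iv F199185)) (tt N25651 F195633) (tt N27301 (iv F199202)) (tt N26185 F195634) (tt N25601 (iv D42492)) (tt N25607 F195635))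
theorem Q26567 : ∀ i, i < 26567 → P i := stepQ 26566 Q26566 (allL N26566 (tt N25919 F195636) (tt N25718 F195637) (tt N25826 F195638) (tt N25603 F195639) (tt N25712 F195640) (tt N26566 F195641) (tt N25602 (iv D42493)) (tt N25770 F195642) (tt N27294 (iv F199156)) (tt N25816 F195643))
theorem Q26568 : ∀ i, i < 26568 → P i := stepQ 26567 Q26567 (allL N26567 (tt N25698 F195644) (tt N25761 F195645) (tt N25617 F195646) (tt N25770 F195647) (tt N25605 F195648) (tt N26567 F195649) (tt N25893 F195650) (tt N25603 (iv D42494)) (tt N27297 (iv F199176)) (tt N25892 (iv F195651)))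
theorem Q26569 : ∀ i, i < 26569 → P i := stepQ 26568 Q26568 (allL N26568 (tt N26094 F195652) (tt N25905 F195653) (tt N25618 F195654) (tt N25816 F195655) (tt N25606 F195656) (tt N26568 F195657) (tt N25604 F195658) (tt N25892 F195659) (tt N27302 D43229) (tt N25603 (iv D42495)))
theorem Q26570 : ∀ i, i < 26570 → P i := stepQ 26569 Q26569 (allL N26569 (tt N26116 F195660) (tt N26041 F195661) (tt N25619 F195662) (tt N25813 F195663) (tt N25607 F195664) (tt N25995 F195665) (tt N27302 (iv F199210)) (tt N25866 F195666) (tt N25604 (iv D42496)) (tt N27299 (iv F199188)))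
theorem Q26571 : ∀ i, i < 26571 → P i := stepQ 26570 Q26570 (allL N26570 (tt N26095 F195667) (tt N25902 F195668) (tt N25621 F195669) (tt N25895 F195670) (tt N27302 (iv F199209)) (tt N26183 F195671) (tt N25607 F195672) (tt N25890 F195673) (tt N25606 (iv D42497)) (tt N27301 (iv F199204)))
theorem Q26572 : ∀ i, i < 26572 → P i := stepQ 26571 Q26571 (allL N26571 (tt N26168 F195674) (tt N27111 (iv F197936)) (tt N27265 (iv F198975)) (tt N25609 F195675) (tt N25871 F195676) (tt N27303 D43230) (tt N25608 (iv D42498)) (tt N27304 D43231) (tt N25615 F195677) (tt N27305 D43232))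
theorem Q26573 : ∀ i, i < 26573 → P i := stepQ 26572 Q26572 (allL N26572 (tt N26169 F195678) (tt N27112 (iv F197941)) (tt N27266 (iv F198980)) (tt N25610 F195679) (tt N25872 F195680) (tt N25836 F195681) (tt N27305 (iv F199224)) (tt N25899 F195682) (tt N27306 D43233) (tt N25608 (iv D42499)))
theorem Q26574 : ∀ i, i < 26574 → P i := stepQ 26573 Q26573 (allL N26573 (tt N26170 F195683) (tt N27113 (iv F197947)) (tt N27296 (iv F199166)) (tt N27303 (iv F199213)) (tt N25947 F195684) (tt N25609 (iv D42500)) (tt N27178 (iv F198376)) (tt N27307 D43234) (tt N26573 F195685) (tt N27308 D43235))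
theorem Q26575 : ∀ i, i < 26575 → P i := stepQ 26574 Q26574 (allL N26574 (tt N26171 F195686) (tt N27114 (iv F197952)) (tt N27297 (iv F199172)) (tt N27304 (iv F199217)) (tt N25611 F195687) (tt N27307 (iv F199234)) (tt N27251 (iv F198867)) (tt N25609 (iv D42501)) (tt N25617 F195688) (tt N27309 D43236))
theorem Q26576 : ∀ i, i < 26576 → P i := stepQ 26575 Q26575 (allL N26575 (tt N26172 F195689) (tt N27115 (iv F197958)) (tt N27298 (iv F199178)) (tt N27305 (iv F199222)) (tt N25612 F195690) (tt N27308 (iv F199238)) (tt N25610 F195691) (tt N27309 (iv F199241)) (tt N27310 D43237) (tt N25609 (iv D42502)))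
theorem Q26577 : ∀ i, i < 26577 → P i := stepQ 26576 Q26576 (allL N26576 (tt N26173 F195692) (tt N27116 (iv F197962)) (tt N27299 (iv F199183)) (tt N27306 (iv F199227)) (tt N25613 F195693) (tt N27311 D43238) (tt N27310 (iv F199244)) (tt N27253 (iv F198884)) (tt N25610 (iv D42503)) (tt N25619 F195694))
theorem Q26578 : ∀ i, i < 26578 → P i := stepQ 26577 Q26577 (allL N26577 (tt N26174 F195695) (tt N27117 (iv F197967)) (tt N27300 (iv F199191)) (tt N25876 F195696) (tt N27309 (iv F199240)) (tt N25941 F195697) (tt N27254 (iv F198891)) (tt N25612 F195698) (tt N27312 D43239) (tt N25611 (iv D42504)))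
theorem Q26579 : ∀ i, i < 26579 → P i := stepQ 26578 Q26578 (allL N26578 (tt N26175 F195699) (tt N27118 (iv F197975)) (tt N27301 (iv F199199)) (tt N25877 F195700) (tt N27310 (iv F199243)) (tt N27313 D43240) (tt N25613 F195701) (tt N27312 (iv F199259)) (tt N25612 (iv D42505)) (tt N25621 F195702))
theorem Q26580 : ∀ i, i < 26580 → P i := stepQ 26579 Q26579 (allL N26579 (tt N26176 F195703) (tt N27175 (iv F198349)) (tt N25615 F195704) (tt N25826 F195705) (tt N25878 F195706) (tt N26579 F195707) (tt N25614 (iv D42506)) (tt N27314 D43241) (tt N27265 (iv F198978)) (tt N25824 F195708))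
theorem Q26581 : ∀ i, i < 26581 → P i := stepQ 26580 Q26580 (allL N26580 (tt N26177 F195709) (tt N27122 (iv F198001)) (tt N27314 (iv F199271)) (tt N25617 F195710) (tt N25879 F195711) (tt N26580 F195712) (tt N25911 F195713) (tt N25615 (iv D42507)) (tt N27304 (iv F199220)) (tt N27315 D43242))
theorem Q26582 : ∀ i, i < 26582 → P i := stepQ 26581 Q26581 (allL N26581 (tt N26178 F195714) (tt N26298 F195715) (tt N25824 F195716) (tt N25618 F195717) (tt N25670 F195718) (tt N26581 F195719) (tt N25616 F195720) (tt N27315 (iv F199284)) (tt N27316 D43243) (tt N25615 (iv D42508)))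
theorem Q26583 : ∀ i, i < 26583 → P i := stepQ 26582 Q26582 (allL N26582 (tt N26179 F195721) (tt N27123 (iv F198008)) (tt N25818 F195722) (tt N25619 F195723) (tt N25636 F195724) (tt N25638 F195725) (tt N27316 (iv F199290)) (tt N25870 F195726) (tt N25616 (iv D42509)) (tt N27306 (iv F199230)))
theorem Q26584 : ∀ i, i < 26584 → P i := stepQ 26583 Q26583 (allL N26583 (tt N26180 F195727) (tt N26100 F195728) (tt N25892 F195729) (tt N27315 (iv F199280)) (tt N25620 F195730) (tt N26583 F195731) (tt N25887 F195732) (tt N25618 F195733) (tt N27317 D43244) (tt N25617 (iv D42510)))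
theorem Q26585 : ∀ i, i < 26585 → P i := stepQ 26584 Q26584 (allL N26584 (tt N26181 F195734) (tt N27124 (iv F198015)) (tt N27302 (iv F199207)) (tt N27316 (iv F199288)) (tt N25621 F195735) (tt N27318 D43245) (tt N25619 F195736) (tt N27317 (iv F199296)) (tt N25618 (iv D42511)) (tt N27310 (iv F199245)))
theorem Q26586 : ∀ i, i < 26586 → P i := stepQ 26585 Q26585 (allL N26585 (tt N26182 F195737) (tt N27125 (iv F198022)) (tt N25995 F195738) (tt N25638 F195739) (tt N25646 F195740) (tt N25619 (iv D42512)) (tt N27319 D43246) (tt N26025 F195741) (tt N25623 F195742) (tt N27311 (iv F199252)))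
theorem Q26587 : ∀ i, i < 26587 → P i := stepQ 26586 Q26586 (allL N26586 (tt N26183 F195743) (tt N26098 F195744) (tt N25890 F195745) (tt N25882 F195746) (tt N27317 (iv F199294)) (tt N26095 F195747) (tt N25885 F195748) (tt N25621 F195749) (tt N25620 (iv D42513)) (tt N27312 (iv F199260)))
theorem Q26588 : ∀ i, i < 26588 → P i := stepQ 26587 Q26587 (allL N26587 (tt N25890 F195750) (tt N25690 F195751) (tt N26183 F195752) (tt N25688 F195753) (tt N27320 D43247) (tt N25621 (iv D42514)) (tt N25665 F195754) (tt N26095 F195755) (tt N25622 F195756) (tt N27313 (iv F199268)))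
theorem Q26589 : ∀ i, i < 26589 → P i := stepQ 26588 Q26588 (allL N26588 (tt N25892 F195757) (tt N25689 F195758) (tt N26180 F195759) (tt N25735 F195760) (tt N25622 (iv D42515)) (tt N26588 F195761) (tt N25666 F195762) (tt N26094 F195763) (tt N27320 (iv F199311)) (tt N25698 F195764))
theorem Q26590 : ∀ i, i < 26590 → P i := stepQ 26589 Q26589 (allL N26589 (tt N26184 F195765) (tt N26229 F195766) (tt N26000 F195767) (tt N25641 F195768) (tt N25652 F195769) (tt N26589 F195770) (tt N25623 (iv D42516)) (tt N27321 D43248) (tt N27319 (iv F199304)) (tt N26055 F195771))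
theorem Q26591 : ∀ i, i < 26591 → P i := stepQ 26590 Q26590 (allL N26590 (tt N25630 F195772) (tt N26185 F195773) (tt N27267 (iv F198988)) (tt N25626 F195774) (tt N26042 F195775) (tt N27263 (iv F198962)) (tt N25837 F195776) (tt N27256 (iv F198910)) (tt N27247 (iv F198834)) (tt N25624 (iv D42517)))
theorem Q26592 : ∀ i, i < 26592 → P i := stepQ 26591 Q26591 (allL N26591 (tt N25633 F195777) (tt N26186 F195778) (tt N25800 F195779) (tt N27263 (iv F198961)) (tt N26206 F195780) (tt N25626 F195781) (tt N25789 F195782) (tt N27257 (iv F198919)) (tt N27259 (iv F198937)) (tt N25625 (iv D42518)))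
theorem Q26593 : ∀ i, i < 26593 → P i := stepQ 26592 Q26592 (allL N26592 (tt N26256 F195783) (tt N25885 F195784) (tt N25629 F195785) (tt N26102 F195786) (tt N27322 D43249) (tt N25627 (iv D42519)) (tt N26098 F195787) (tt N25808 F195788) (tt N25628 F195789) (tt N27323 D43250))
theorem Q26594 : ∀ i, i < 26594 → P i := stepQ 26593 Q26593 (allL N26593 (tt N27267 (iv F198986)) (tt N25886 F195790) (tt N25630 F195791) (tt N26127 F195792) (tt N27164 (iv F198278)) (tt N27323 (iv F199330)) (tt N26122 F195793) (tt N27258 (iv F198927)) (tt N26190 F195794) (tt N25627 (iv D42520)))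
theorem Q26595 : ∀ i, i < 26595 → P i := stepQ 26594 Q26594 (allL N26594 (tt N26253 F195795) (tt N25887 F195796) (tt N25631 F195797) (tt N27324 D43251) (tt N25628 (iv D42521)) (tt N25669 F195798) (tt N26100 F195799) (tt N25806 F195800) (tt N27322 (iv F199325)) (tt N25805 F195801))
theorem Q26596 : ∀ i, i < 26596 → P i := stepQ 26595 Q26595 (allL N26595 (tt N27264 (iv F198966)) (tt N25638 F195802) (tt N27322 (iv F199322)) (tt N27125 (iv F198023)) (tt N25629 (iv D42522)) (tt N27123 (iv F198011)) (tt N26227 F195803) (tt N26038 F195804) (tt N25631 F195805) (tt N27325 D43252))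
theorem Q26597 : ∀ i, i < 26597 → P i := stepQ 26596 Q26596 (allL N26596 (tt N27263 (iv F198958)) (tt N25640 F195806) (tt N27323 (iv F199328)) (tt N25633 F195807) (tt N27325 (iv F199342)) (tt N25630 F195808) (tt N26228 F195809) (tt N27259 (iv F198936)) (tt N27257 (iv F198920)) (tt N25629 (iv D42523)))
theorem Q26598 : ∀ i, i < 26598 → P i := stepQ 26597 Q26597 (allL N26597 (tt N26206 F195810) (tt N25648 F195811) (tt N26244 F195812) (tt N27218 (iv F198643)) (tt N25633 F195813) (tt N25660 F195814) (tt N26232 F195815) (tt N27261 (iv F198949)) (tt N27326 D43253) (tt N25632 (iv D42524)))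
theorem Q26599 : ∀ i, i < 26599 → P i := stepQ 26598 Q26598 (allL N26598 (tt N27259 (iv F198929)) (tt N25651 F195816) (tt N26247 F195817) (tt N27257 (iv F198915)) (tt N27326 (iv F199350)) (tt N27256 (iv F198908)) (tt N26233 F195818) (tt N27263 (iv F198964)) (tt N25633 (iv D42525)) (tt N25635 F195819))
theorem Q26600 : ∀ i, i < 26600 → P i := stepQ 26599 Q26599 (allL N26599 (tt N26038 F195820) (tt N25654 F195821) (tt N26254 F195822) (tt N26255 F195823) (tt N25635 F195824) (tt N26252 F195825) (tt N26236 F195826) (tt N27264 (iv F198973)) (tt N25634 (iv D42526)) (tt N27326 (iv F199353)))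
theorem Q26601 : ∀ i, i < 26601 → P i := stepQ 26600 Q26600 (allL N26600 (tt N26191 F195827) (tt N26281 F195828) (tt N25898 F195829) (tt N25881 F195830) (tt N27316 (iv F199289)) (tt N26212 F195831) (tt N25636 (iv D42527)) (tt N27327 D43254) (tt N25670 F195832) (tt N27328 D43255))
theorem Q26602 : ∀ i, i < 26602 → P i := stepQ 26601 Q26601 (allL N26601 (tt N26192 F195833) (tt N27166 (iv F198288)) (tt N25899 F195834) (tt N25875 F195835) (tt N27306 (iv F199228)) (tt N25637 F195836) (tt N27328 (iv F199365)) (tt N27266 (iv F198984)) (tt N25872 F195837) (tt N25636 (iv D42528)))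
theorem Q26603 : ∀ i, i < 26603 → P i := stepQ 26602 Q26602 (allL N26602 (tt N26193 F195838) (tt N26227 F195839) (tt N25900 F195840) (tt N27319 (iv F199302)) (tt N25639 F195841) (tt N27329 D43256) (tt N25638 (iv D42529)) (tt N27330 D43257) (tt N25641 F195842) (tt N27331 D43258))
theorem Q26604 : ∀ i, i < 26604 → P i := stepQ 26603 Q26603 (allL N26603 (tt N26194 F195843) (tt N27325 (iv F199341)) (tt N25901 F195844) (tt N27311 (iv F199248)) (tt N25640 F195845) (tt N27306 F199231) (tt N27331 (iv F199382)) (tt N26040 F195846) (tt N27332 D43259) (tt N25638 (iv D42530)))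
theorem Q26605 : ∀ i, i < 26605 → P i := stepQ 26604 Q26604 (allL N26604 (tt N26195 F195847) (tt N25957 F195848) (tt N25902 F195849) (tt N25649 F195850) (tt N27330 (iv F199375)) (tt N25954 F195851) (tt N26257 F195852) (tt N25639 (iv D42531)) (tt N25643 F195853) (tt N27333 D43260))
theorem Q26606 : ∀ i, i < 26606 → P i := stepQ 26605 Q26605 (allL N26605 (tt N26196 F195854) (tt N26228 F195855) (tt N25903 F195856) (tt N25650 F195857) (tt N27331 (iv F199381)) (tt N26224 F195858) (tt N25640 F195859) (tt N27333 (iv F199397)) (tt N27334 D43261) (tt N25639 (iv D42532)))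
theorem Q26607 : ∀ i, i < 26607 → P i := stepQ 26606 Q26606 (allL N26606 (tt N26119 F195860) (tt N27257 (iv F198913)) (tt N25904 F195861) (tt N25651 F195862) (tt N27332 (iv F199387)) (tt N26115 F195863) (tt N27334 (iv F199404)) (tt N26186 F195864) (tt N25640 (iv D42533)) (tt N25645 F195865))
theorem Q26608 : ∀ i, i < 26608 → P i := stepQ 26607 Q26607 (allL N26607 (tt N26197 F195866) (tt N25959 F195867) (tt N25905 F195868) (tt N27321 (iv F199315)) (tt N25643 F195869) (tt N26607 F195870) (tt N26048 F195871) (tt N25641 (iv D42534)) (tt N27330 (iv F199377)) (tt N26275 (iv F195872)))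
theorem Q26609 : ∀ i, i < 26609 → P i := stepQ 26608 Q26608 (allL N26608 (tt N25764 F195873) (tt N26208 F195874) (tt N25761 F195875) (tt N26055 F195876) (tt N25644 F195877) (tt N26608 F195878) (tt N25642 F195879) (tt N26275 F195880) (tt N27335 D43262) (tt N25641 (iv D42535)))
theorem Q26610 : ∀ i, i < 26610 → P i := stepQ 26609 Q26609 (allL N26609 (tt N26118 F195881) (tt N26205 F195882) (tt N25906 F195883) (tt N25993 F195884) (tt N25645 F195885) (tt N25810 F195886) (tt N27335 (iv F199412)) (tt N25862 F195887) (tt N25642 (iv D42536)) (tt N27332 (iv F199390)))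
theorem Q26611 : ∀ i, i < 26611 → P i := stepQ 26610 Q26610 (allL N26610 (tt N25765 F195888) (tt N26230 F195889) (tt N25762 F195890) (tt N25656 F195891) (tt N27335 (iv F199411)) (tt N26273 F195892) (tt N25645 F195893) (tt N26274 F195894) (tt N25644 (iv D42537)) (tt N27334 (iv F199406)))
theorem Q26612 : ∀ i, i < 26612 → P i := stepQ 26611 Q26611 (allL N26611 (tt N26198 F195895) (tt N26231 F195896) (tt N27214 (iv F198615)) (tt N25647 F195897) (tt N27319 (iv F199303)) (tt N26241 F195898) (tt N25646 (iv D42538)) (tt N27336 D43263) (tt N25652 F195899) (tt N27337 D43264))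
theorem Q26613 : ∀ i, i < 26613 → P i := stepQ 26612 Q26612 (allL N26612 (tt N26199 F195900) (tt N27218 (iv F198642)) (tt N27290 (iv F199123)) (tt N25648 F195901) (tt N27311 (iv F199249)) (tt N25661 F195902) (tt N27337 (iv F199423)) (tt N27269 (iv F199005)) (tt N27289 (iv F199120)) (tt N25646 (iv D42539)))
theorem Q26614 : ∀ i, i < 26614 → P i := stepQ 26613 Q26613 (allL N26613 (tt N26200 F195903) (tt N25960 F195904) (tt N25659 F195905) (tt N27336 (iv F199416)) (tt N25649 F195906) (tt N26243 F195907) (tt N27271 (iv F199014)) (tt N25647 (iv D42540)) (tt N25653 F195908) (tt N27338 D43265))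
theorem Q26615 : ∀ i, i < 26615 → P i := stepQ 26614 Q26614 (allL N26614 (tt N26201 F195909) (tt N26232 F195910) (tt N25660 F195911) (tt N27337 (iv F199421)) (tt N25650 F195912) (tt N26244 F195913) (tt N25648 F195914) (tt N27338 (iv F199429)) (tt N27216 (iv F198632)) (tt N25647 (iv D42541)))
theorem Q26616 : ∀ i, i < 26616 → P i := stepQ 26615 Q26615 (allL N26615 (tt N26202 F195915) (tt N27326 (iv F199347)) (tt N25661 F195916) (tt N27289 (iv F199116)) (tt N25651 F195917) (tt N27290 (iv F199126)) (tt N27216 (iv F198631)) (tt N27273 (iv F199025)) (tt N25648 (iv D42542)) (tt N25654 F195918))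
theorem Q26617 : ∀ i, i < 26617 → P i := stepQ 26616 Q26616 (allL N26616 (tt N26203 F195919) (tt N25962 F195920) (tt N25662 F195921) (tt N27333 (iv F199394)) (tt N27338 (iv F199427)) (tt N25955 F195922) (tt N27274 (iv F199032)) (tt N25650 F195923) (tt N27339 D43266) (tt N25649 (iv D42543)))
theorem Q26618 : ∀ i, i < 26618 → P i := stepQ 26617 Q26617 (allL N26617 (tt N25886 F195924) (tt N26233 F195925) (tt N25663 F195926) (tt N27334 (iv F199402)) (tt N27216 (iv F198629)) (tt N27340 D43267) (tt N25651 F195927) (tt N27339 (iv F199436)) (tt N25650 (iv D42544)) (tt N25656 F195928))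
theorem Q26619 : ∀ i, i < 26619 → P i := stepQ 26618 Q26618 (allL N26618 (tt N26204 F195929) (tt N25963 F195930) (tt N27192 (iv F198474)) (tt N25653 F195931) (tt N27321 (iv F199316)) (tt N25667 F195932) (tt N27276 (iv F199049)) (tt N25652 (iv D42545)) (tt N27336 (iv F199418)) (tt N27190 F198463))
theorem Q26620 : ∀ i, i < 26620 → P i := stepQ 26619 Q26619 (allL N26619 (tt N25830 F195933) (tt N25966 F195934) (tt N25664 F195935) (tt N26274 F195936) (tt N27195 (iv F198495)) (tt N25927 F195937) (tt N26143 F195938) (tt N25656 F195939) (tt N25655 (iv D42546)) (tt N27339 (iv F199437)))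
theorem Q26621 : ∀ i, i < 26621 → P i := stepQ 26620 Q26620 (allL N26620 (tt N25885 F195940) (tt N25984 F195941) (tt N25665 F195942) (tt N26273 F195943) (tt N27341 D43268) (tt N25656 (iv D42547)) (tt N26183 F195944) (tt N25927 F195945) (tt N25657 F195946) (tt N27340 (iv F199445)))
theorem Q26622 : ∀ i, i < 26622 → P i := stepQ 26621 Q26621 (allL N26621 (tt N25887 F195947) (tt N25983 F195948) (tt N25666 F195949) (tt N26288 (iv F195954)) (tt N25657 (iv D42548)) (tt N25668 F195950) (tt N26180 F195951) (tt N25926 F195952) (tt N27341 (iv F199452)) (tt N26072 F195953))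
theorem Q26623 : ∀ i, i < 26623 → P i := stepQ 26622 Q26622 (allL N26622 (tt N26207 F195955) (tt N27217 (iv F198634)) (tt N27338 (iv F199426)) (tt N27201 (iv F198532)) (tt N25662 F195956) (tt N27261 (iv F198948)) (tt N27282 (iv F199075)) (tt N25660 F195957) (tt N27197 (iv F198513)) (tt N25659 (iv D42549)))
theorem Q26624 : ∀ i, i < 26624 → P i := stepQ 26623 Q26623 (allL N26623 (tt N25833 F195958) (tt N25841 F195959) (tt N27339 (iv F199432)) (tt N25723 F195960) (tt N27197 (iv F198510)) (tt N25929 (iv F195963)) (tt N27284 (iv F199086)) (tt N25663 F195961) (tt N25662 (iv D42550)) (tt N25664 F195962))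
theorem Q26625 : ∀ i, i < 26625 → P i := stepQ 26624 Q26624 (allL N26624 (tt N25891 F195964) (tt N25861 F195965) (tt N27340 (iv F199440)) (tt N25740 F195966) (tt N27342 D43269) (tt N25663 (iv D42551)) (tt N27313 (iv F199265)) (tt N25929 F195967) (tt N27087 (iv F197771)) (tt N25665 F195968))
theorem Q26626 : ∀ i, i < 26626 → P i := stepQ 26625 Q26625 (allL N26625 (tt N25889 F195969) (tt N25854 F195970) (tt N27341 (iv F199448)) (tt N25732 F195971) (tt N25665 (iv D42552)) (tt N26107 F195972) (tt N27320 (iv F199309)) (tt N25928 F195973) (tt N25666 F195974) (tt N27342 (iv F199459)))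
theorem Q26627 : ∀ i, i < 26627 → P i := stepQ 26626 Q26626 (allL N26626 (tt N26300 F195975) (tt N25909 F195976) (tt N27108 (iv F197917)) (tt N25669 (iv D42553)) (tt N26626 F195977) (tt N27324 (iv F199337)) (tt N26626 F195978) (tt N25916 F195979) (tt N27107 (iv F197914)) (tt N25915 F195980))
theorem Q26628 : ∀ i, i < 26628 → P i := stepQ 26627 Q26627 (allL N26627 (tt N26209 F195981) (tt N26104 F195982) (tt N25911 F195983) (tt N25880 F195984) (tt N27315 (iv F199281)) (tt N25671 F195985) (tt N27314 (iv F199275)) (tt N25670 (iv D42554)) (tt N27327 (iv F199359)) (tt N25879 F195986))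
theorem Q26629 : ∀ i, i < 26629 → P i := stepQ 26628 Q26628 (allL N26628 (tt N25924 F195987) (tt N25676 F195988) (tt N25707 F195989) (tt N26167 F195990) (tt N25921 F195991) (tt N25706 F195992) (tt N26062 F195993) (tt N25700 F195994) (tt N26096 F195995) (tt N25672 (iv D42555)))
theorem Q26630 : ∀ i, i < 26630 → P i := stepQ 26629 Q26629 (allL N26629 (tt N25715 F195996) (tt N26165 F195997) (tt N26219 F195998) (tt N25922 F195999) (tt N25674 F196000) (tt N27343 D43270) (tt N26063 F196001) (tt N25701 F196002) (tt N25673 (iv D42556)) (tt N27344 D43271))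
theorem Q26631 : ∀ i, i < 26631 → P i := stepQ 26630 Q26630 (allL N26630 (tt N25717 F196003) (tt N26167 F196004) (tt N26220 F196005) (tt N25676 F196006) (tt N27344 (iv F199471)) (tt N27139 (iv F198116)) (tt N26064 F196007) (tt N25702 F196008) (tt N26099 F196009) (tt N25674 (iv D42557)))
theorem Q26632 : ∀ i, i < 26632 → P i := stepQ 26631 Q26631 (allL N26631 (tt N25720 F196010) (tt N25706 F196011) (tt N25677 F196012) (tt N27139 (iv F198115)) (tt N25714 F196013) (tt N25676 F196014) (tt N26059 F196015) (tt N25703 F196016) (tt N25939 F196017) (tt N25675 (iv D42558)))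
theorem Q26633 : ∀ i, i < 26633 → P i := stepQ 26632 Q26632 (allL N26632 (tt N25770 F196018) (tt N25680 F196019) (tt N26271 F196020) (tt N25698 F196021) (tt N25678 (iv D42559)) (tt N26632 F196022) (tt N25736 F196023) (tt N25919 F196024) (tt N27345 D43272) (tt N25735 F196025))
theorem Q26634 : ∀ i, i < 26634 → P i := stepQ 26633 Q26633 (allL N26633 (tt N25768 F196026) (tt N25681 F196027) (tt N26273 F196028) (tt N25679 F196029) (tt N27345 (iv F199479)) (tt N25762 F196030) (tt N25737 F196031) (tt N25920 F196032) (tt N25678 (iv D42560)) (tt N27346 D43273))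
theorem Q26635 : ∀ i, i < 26635 → P i := stepQ 26634 Q26634 (allL N26634 (tt N25771 F196033) (tt N25683 F196034) (tt N25740 F196035) (tt N27346 (iv F199485)) (tt N25700 F196036) (tt N25763 F196037) (tt N25742 F196038) (tt N25921 F196039) (tt N25741 F196040) (tt N25679 (iv D42561)))
theorem Q26636 : ∀ i, i < 26636 → P i := stepQ 26635 Q26635 (allL N26635 (tt N25738 F196041) (tt N27345 (iv F199476)) (tt N25940 F196042) (tt N25701 F196043) (tt N25681 F196044) (tt N27347 D43274) (tt N25859 F196045) (tt N25922 F196046) (tt N25680 (iv D42562)) (tt N27348 D43275))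
theorem Q26637 : ∀ i, i < 26637 → P i := stepQ 26636 Q26636 (allL N26636 (tt N25739 F196047) (tt N27346 (iv F199483)) (tt N25941 F196048) (tt N25683 F196049) (tt N27348 (iv F199498)) (tt N27300 (iv F199193)) (tt N25858 F196050) (tt N25923 F196051) (tt N25857 F196052) (tt N25681 (iv D42563)))
theorem Q26638 : ∀ i, i < 26638 → P i := stepQ 26637 Q26637 (allL N26637 (tt N25700 F196053) (tt N25763 F196054) (tt N25685 F196055) (tt N27300 (iv F199192)) (tt N25771 F196056) (tt N25683 F196057) (tt N25897 F196058) (tt N25924 F196059) (tt N25896 F196060) (tt N25682 (iv D42564)))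
theorem Q26639 : ∀ i, i < 26639 → P i := stepQ 26638 Q26638 (allL N26638 (tt N25728 F196061) (tt N25721 F196062) (tt N25835 F196063) (tt N25814 F196064) (tt N25895 F196065) (tt N26037 F196066) (tt N25811 F196067) (tt N25684 (iv D42565)) (tt N25686 F196068) (tt N27349 D43276))
theorem Q26640 : ∀ i, i < 26640 → P i := stepQ 26639 Q26639 (allL N26639 (tt N25741 F196069) (tt N25777 F196070) (tt N25897 F196071) (tt N25944 F196072) (tt N25896 F196073) (tt N26032 F196074) (tt N25685 F196075) (tt N27349 (iv F199509)) (tt N25771 F196076) (tt N25684 (iv D42566)))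
theorem Q26641 : ∀ i, i < 26641 → P i := stepQ 26640 Q26640 (allL N26640 (tt N25742 F196077) (tt N25776 F196078) (tt N25896 F196079) (tt N25945 F196080) (tt N25897 F196081) (tt N25937 F196082) (tt N25771 F196083) (tt N25925 F196084) (tt N25685 (iv D42567)) (tt N25687 F196085))
theorem Q26642 : ∀ i, i < 26642 → P i := stepQ 26641 Q26641 (allL N26641 (tt N25896 F196086) (tt N25692 F196087) (tt N25742 F196088) (tt N27313 (iv F199264)) (tt N25741 F196089) (tt N25877 F196090) (tt N25740 F196091) (tt N26096 F196092) (tt N25700 F196093) (tt N25688 (iv D42568)))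
theorem Q26643 : ∀ i, i < 26643 → P i := stepQ 26642 Q26642 (allL N26642 (tt N25743 F196094) (tt N27320 (iv F199306)) (tt N25956 F196095) (tt N25855 F196096) (tt N25690 F196097) (tt N27350 D43277) (tt N25854 F196098) (tt N26097 F196099) (tt N25689 (iv D42569)) (tt N27351 D43278))
theorem Q26644 : ∀ i, i < 26644 → P i := stepQ 26643 Q26643 (allL N26643 (tt N25745 F196100) (tt N27313 (iv F199262)) (tt N25958 F196101) (tt N25692 F196102) (tt N27351 (iv F199519)) (tt N27118 (iv F197978)) (tt N25861 F196103) (tt N26099 F196104) (tt N25702 F196105) (tt N25690 (iv D42570)))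
theorem Q26645 : ∀ i, i < 26645 → P i := stepQ 26644 Q26644 (allL N26644 (tt N25748 F196106) (tt N25877 F196107) (tt N25695 F196108) (tt N27118 (iv F197977)) (tt N26284 F196109) (tt N25692 F196110) (tt N25756 F196111) (tt N26103 F196112) (tt N25755 F196113) (tt N25691 (iv D42571)))
theorem Q26646 : ∀ i, i < 26646 → P i := stepQ 26645 Q26645 (allL N26645 (tt N25751 F196114) (tt N25930 F196115) (tt N27352 D43279) (tt N25693 (iv D42572)) (tt N25970 F196116) (tt N25928 F196117) (tt N27155 (iv F198224)) (tt N26107 F196118) (tt N25696 F196119) (tt N27353 D43280))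
theorem Q26647 : ∀ i, i < 26647 → P i := stepQ 26646 Q26646 (allL N26646 (tt N25753 F196120) (tt N26030 F196121) (tt N26284 F196122) (tt N27353 (iv F199532)) (tt N25695 F196123) (tt N25936 F196124) (tt N27159 (iv F198248)) (tt N26109 F196125) (tt N26013 F196126) (tt N25693 (iv D42573)))
theorem Q26648 : ∀ i, i < 26648 → P i := stepQ 26647 Q26647 (allL N26647 (tt N25755 F196127) (tt N26032 F196128) (tt N25756 F196129) (tt N25974 F196130) (tt N27159 (iv F198246)) (tt N25777 F196131) (tt N25695 F196132) (tt N27228 (iv F198713)) (tt N25748 F196133) (tt N25694 (iv D42574)))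
theorem Q26649 : ∀ i, i < 26649 → P i := stepQ 26648 Q26648 (allL N26648 (tt N25757 F196134) (tt N26056 F196135) (tt N25696 (iv D42575)) (tt N26297 F196136) (tt N25976 F196137) (tt N25697 F196138) (tt N27173 (iv F198338)) (tt N26112 F196139) (tt N27352 (iv F199529)) (tt N26014 F196140))
theorem Q26650 : ∀ i, i < 26650 → P i := stepQ 26649 Q26649 (allL N26649 (tt N27297 (iv F199170)) (tt N25701 F196141) (tt N26171 F196142) (tt N27345 (iv F199478)) (tt N25699 F196143) (tt N27354 D43281) (tt N27088 (iv F197778)) (tt N26165 F196144) (tt N25698 (iv D42576)) (tt N27355 D43282))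
theorem Q26651 : ∀ i, i < 26651 → P i := stepQ 26650 Q26650 (allL N26650 (tt N27300 (iv F199189)) (tt N25702 F196145) (tt N26174 F196146) (tt N25700 F196147) (tt N27355 (iv F199544)) (tt N25739 F196148) (tt N27087 (iv F197769)) (tt N26167 F196149) (tt N27313 (iv F199267)) (tt N25699 (iv D42577)))
theorem Q26652 : ∀ i, i < 26652 → P i := stepQ 26651 Q26651 (allL N26651 (tt N25772 F196150) (tt N27354 (iv F199537)) (tt N27178 (iv F198373)) (tt N27347 (iv F199492)) (tt N27141 (iv F198131)) (tt N25701 (iv D42578)) (tt N27296 (iv F199168)) (tt N27343 (iv F199465)) (tt N26651 F196151) (tt N27356 D43283))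
theorem Q26653 : ∀ i, i < 26653 → P i := stepQ 26652 Q26652 (allL N26652 (tt N25773 F196152) (tt N27355 (iv F199542)) (tt N27179 (iv F198381)) (tt N27348 (iv F199497)) (tt N25702 F196153) (tt N27356 (iv F199547)) (tt N27089 (iv F197786)) (tt N27344 (iv F199473)) (tt N27351 (iv F199522)) (tt N25701 (iv D42579)))
theorem Q26654 : ∀ i, i < 26654 → P i := stepQ 26653 Q26653 (allL N26653 (tt N25922 F196154) (tt N27140 (iv F198121)) (tt N25855 F196155) (tt N25715 F196156) (tt N25705 F196157) (tt N27357 D43284) (tt N25852 F196158) (tt N25738 F196159) (tt N25704 (iv D42580)) (tt N27358 D43285))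
theorem Q26655 : ∀ i, i < 26655 → P i := stepQ 26654 Q26654 (allL N26654 (tt N25923 F196160) (tt N27139 (iv F198113)) (tt N25857 F196161) (tt N25706 F196162) (tt N27358 (iv F199558)) (tt N26167 F196163) (tt N25853 F196164) (tt N25739 F196165) (tt N25941 F196166) (tt N25705 (iv D42581)))
theorem Q26656 : ∀ i, i < 26656 → P i := stepQ 26655 Q26655 (allL N26655 (tt N25714 F196167) (tt N25924 F196168) (tt N25723 F196169) (tt N27293 (iv F199145)) (tt N25720 F196170) (tt N25921 F196171) (tt N27245 (iv F198815)) (tt N25763 F196172) (tt N25907 F196173) (tt N25708 (iv D42582)))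
theorem Q26657 : ∀ i, i < 26657 → P i := stepQ 26656 Q26656 (allL N26656 (tt N26275 F196174) (tt N26130 F196175) (tt N25710 F196176) (tt N27176 (iv F198358)) (tt N25709 (iv D42583)) (tt N26656 F196177) (tt N25846 F196178) (tt N25764 F196179) (tt N27359 D43286) (tt N26197 F196180))
theorem Q26658 : ∀ i, i < 26658 → P i := stepQ 26657 Q26657 (allL N26657 (tt N26274 F196181) (tt N26126 F196182) (tt N25711 F196183) (tt N25830 F196184) (tt N27359 (iv F199565)) (tt N25828 F196185) (tt N25845 F196186) (tt N25765 F196187) (tt N25709 (iv D42584)) (tt N27360 D43287))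
theorem Q26659 : ∀ i, i < 26659 → P i := stepQ 26658 Q26658 (allL N26658 (tt N27291 (iv F199129)) (tt N25715 F196188) (tt N27359 (iv F199564)) (tt N27140 (iv F198123)) (tt N25711 F196189) (tt N27361 D43288) (tt N27172 (iv F198332)) (tt N25767 F196190) (tt N25710 (iv D42585)) (tt N27362 D43289))
theorem Q26660 : ∀ i, i < 26660 → P i := stepQ 26659 Q26659 (allL N26659 (tt N25920 F196191) (tt N25716 F196192) (tt N25828 F196193) (tt N25713 F196194) (tt N27294 (iv F199154)) (tt N25711 (iv D42586)) (tt N25817 F196195) (tt N25768 F196196) (tt N25712 F196197) (tt N27363 D43290))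
theorem Q26661 : ∀ i, i < 26661 → P i := stepQ 26660 Q26660 (allL N26660 (tt N27293 (iv F199142)) (tt N25717 F196198) (tt N27360 (iv F199570)) (tt N25714 F196199) (tt N27362 (iv F199580)) (tt N27363 (iv F199587)) (tt N27246 (iv F198823)) (tt N25769 F196200) (tt N26296 F196201) (tt N25711 (iv D42587)))
theorem Q26662 : ∀ i, i < 26662 → P i := stepQ 26661 Q26661 (allL N26661 (tt N25921 F196202) (tt N25720 F196203) (tt N25834 F196204) (tt N27363 (iv F199586)) (tt N25924 F196205) (tt N25714 F196206) (tt N26088 F196207) (tt N25771 F196208) (tt N27349 (iv F199510)) (tt N25713 (iv D42588)))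
theorem Q26663 : ∀ i, i < 26663 → P i := stepQ 26662 Q26662 (allL N26662 (tt N27343 (iv F199460)) (tt N27361 (iv F199576)) (tt N27180 (iv F198389)) (tt N27357 (iv F199550)) (tt N27364 D43291) (tt N25715 (iv D42589)) (tt N27365 D43292) (tt N25772 F196209) (tt N26662 F196210) (tt N27366 D43293))
theorem Q26664 : ∀ i, i < 26664 → P i := stepQ 26663 Q26663 (allL N26663 (tt N27344 (iv F199467)) (tt N27362 (iv F199579)) (tt N27181 (iv F198395)) (tt N27358 (iv F199557)) (tt N25717 F196211) (tt N27366 (iv F199598)) (tt N27248 (iv F198840)) (tt N25773 F196212) (tt N27220 (iv F198660)) (tt N25715 (iv D42590)))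
theorem Q26665 : ∀ i, i < 26665 → P i := stepQ 26664 Q26664 (allL N26664 (tt N27140 (iv F198120)) (tt N27294 (iv F199151)) (tt N27182 (iv F198403)) (tt N27291 (iv F199132)) (tt N25716 (iv D42591)) (tt N27364 (iv F199591)) (tt N26050 F196213) (tt N25774 F196214) (tt N25718 F196215) (tt N27367 D43294))
theorem Q26666 : ∀ i, i < 26666 → P i := stepQ 26665 Q26665 (allL N26665 (tt N27139 (iv F198112)) (tt N27363 (iv F199584)) (tt N27183 (iv F198409)) (tt N25720 F196216) (tt N27367 (iv F199600)) (tt N25717 F196217) (tt N26047 F196218) (tt N25775 F196219) (tt N26006 F196220) (tt N25716 (iv D42592)))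
theorem Q26667 : ∀ i, i < 26667 → P i := stepQ 26666 Q26666 (allL N26666 (tt N26059 F196221) (tt N26088 F196222) (tt N25725 F196223) (tt N26047 F196224) (tt N27245 (iv F198813)) (tt N27250 (iv F198857)) (tt N25720 F196225) (tt N25933 F196226) (tt N25932 F196227) (tt N25719 (iv D42593)))
theorem Q26668 : ∀ i, i < 26668 → P i := stepQ 26667 Q26667 (allL N26667 (tt N25939 F196228) (tt N27349 (iv F199503)) (tt N25726 F196229) (tt N26006 F196230) (tt N25907 F196231) (tt N27228 (iv F198711)) (tt N25932 F196232) (tt N25777 F196233) (tt N25720 (iv D42594)) (tt N25721 F196234))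
theorem Q26669 : ∀ i, i < 26669 → P i := stepQ 26668 Q26668 (allL N26668 (tt N25782 F196235) (tt N25842 F196236) (tt N27245 (iv F198811)) (tt N27284 (iv F199084)) (tt N25725 F196237) (tt N26190 F196238) (tt N25723 F196239) (tt N25844 F196240) (tt N25843 F196241) (tt N25722 (iv D42595)))
theorem Q26670 : ∀ i, i < 26670 → P i := stepQ 26669 Q26669 (allL N26669 (tt N26218 F196242) (tt N25843 F196243) (tt N25933 F196244) (tt N27202 (iv F198539)) (tt N25844 F196245) (tt N27254 (iv F198890)) (tt N25778 F196246) (tt N25725 F196247) (tt N25842 F196248) (tt N25724 (iv D42596)))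
theorem Q26671 : ∀ i, i < 26671 → P i := stepQ 26670 Q26670 (allL N26670 (tt N25955 F196249) (tt N25844 F196250) (tt N25932 F196251) (tt N27203 (iv F198547)) (tt N25843 F196252) (tt N26203 (iv F196256)) (tt N25726 F196253) (tt N25842 F196254) (tt N25725 (iv D42597)) (tt N25727 F196255))
theorem Q26672 : ∀ i, i < 26672 → P i := stepQ 26671 Q26671 (allL N26671 (tt N27349 (iv F199502)) (tt N25731 F196257) (tt N25849 F196258) (tt N26261 F196259) (tt N26096 F196260) (tt N26216 F196261) (tt N26074 F196262) (tt N25741 F196263) (tt N25921 F196264) (tt N25728 (iv D42598)))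
theorem Q26673 : ∀ i, i < 26673 → P i := stepQ 26672 Q26672 (allL N26672 (tt N25940 F196265) (tt N26259 F196266) (tt N25738 F196267) (tt N26097 F196268) (tt N25730 F196269) (tt N27368 D43295) (tt N26075 F196270) (tt N25855 F196271) (tt N25729 (iv D42599)) (tt N27369 D43296))
theorem Q26674 : ∀ i, i < 26674 → P i := stepQ 26673 Q26673 (allL N26673 (tt N25941 F196272) (tt N26261 F196273) (tt N25739 F196274) (tt N25731 F196275) (tt N27369 (iv F199616)) (tt N26174 F196276) (tt N26076 F196277) (tt N25857 F196278) (tt N25923 F196279) (tt N25730 (iv D42600)))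
theorem Q26675 : ∀ i, i < 26675 → P i := stepQ 26674 Q26674 (allL N26674 (tt N25942 F196280) (tt N25855 F196281) (tt N26265 F196282) (tt N27320 (iv F199308)) (tt N25733 F196283) (tt N27370 D43297) (tt N25732 (iv D42601)) (tt N26259 F196284) (tt N25735 F196285) (tt N27371 D43298))
theorem Q26676 : ∀ i, i < 26676 → P i := stepQ 26675 Q26675 (allL N26675 (tt N25943 F196286) (tt N25856 F196287) (tt N26285 F196288) (tt N27342 (iv F199456)) (tt N25734 F196289) (tt N26109 F196290) (tt N27371 (iv F199631)) (tt N25936 F196291) (tt N27372 D43299) (tt N25732 (iv D42602)))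
theorem Q26677 : ∀ i, i < 26677 → P i := stepQ 26676 Q26676 (allL N26676 (tt N25944 F196292) (tt N25857 F196293) (tt N26268 F196294) (tt N25741 F196295) (tt N27371 (iv F199630)) (tt N26085 F196296) (tt N25734 F196297) (tt N26261 F196298) (tt N27346 (iv F199489)) (tt N25733 (iv D42603)))
theorem Q26678 : ∀ i, i < 26678 → P i := stepQ 26677 Q26677 (allL N26677 (tt N25945 F196299) (tt N25858 F196300) (tt N26287 F196301) (tt N25742 F196302) (tt N27372 (iv F199636)) (tt N25925 F196303) (tt N27346 (iv F199487)) (tt N25937 F196304) (tt N25734 (iv D42604)) (tt N25737 F196305))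
theorem Q26679 : ∀ i, i < 26679 → P i := stepQ 26678 Q26678 (allL N26678 (tt N25946 F196306) (tt N25859 F196307) (tt N26289 F196308) (tt N27088 (iv F197776)) (tt N25737 F196309) (tt N26050 F196310) (tt N27345 (iv F199480)) (tt N25938 F196311) (tt N25736 (iv D42605)) (tt N27372 (iv F199639)))
theorem Q26680 : ∀ i, i < 26680 → P i := stepQ 26679 Q26679 (allL N26679 (tt N27347 (iv F199490)) (tt N27141 (iv F198128)) (tt N27368 (iv F199606)) (tt N25772 F196312) (tt N27354 (iv F199539)) (tt N25738 (iv D42606)) (tt N27373 D43300) (tt N27357 (iv F199553)) (tt N26679 F196313) (tt N27374 D43301))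
theorem Q26681 : ∀ i, i < 26681 → P i := stepQ 26680 Q26680 (allL N26680 (tt N27348 (iv F199495)) (tt N27138 (iv F198106)) (tt N27369 (iv F199614)) (tt N25773 F196314) (tt N25739 F196315) (tt N27374 (iv F199646)) (tt N26211 F196316) (tt N27358 (iv F199560)) (tt N25948 F196317) (tt N25738 (iv D42607)))
theorem Q26682 : ∀ i, i < 26682 → P i := stepQ 26681 Q26681 (allL N26681 (tt N27350 (iv F199511)) (tt N26292 F196318) (tt N27092 (iv F197809)) (tt N25947 F196319) (tt N27375 D43302) (tt N25743 (iv D42608)) (tt N27376 D43303) (tt N27219 (iv F198651)) (tt N26681 F196320) (tt N27377 D43304))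
theorem Q26683 : ∀ i, i < 26683 → P i := stepQ 26682 Q26682 (allL N26682 (tt N27351 (iv F199516)) (tt N26294 F196321) (tt N27093 (iv F197815)) (tt N25948 F196322) (tt N25745 F196323) (tt N27377 (iv F199656)) (tt N26210 F196324) (tt N27220 (iv F198659)) (tt N25773 F196325) (tt N25743 (iv D42609)))
theorem Q26684 : ∀ i, i < 26684 → P i := stepQ 26683 Q26683 (allL N26683 (tt N27124 (iv F198014)) (tt N26019 F196326) (tt N27094 (iv F197823)) (tt N27378 D43305) (tt N25744 (iv D42610)) (tt N27375 (iv F199648)) (tt N25980 F196327) (tt N27221 (iv F198665)) (tt N25746 F196328) (tt N27379 D43306))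
theorem Q26685 : ∀ i, i < 26685 → P i := stepQ 26684 Q26684 (allL N26684 (tt N27118 (iv F197974)) (tt N26022 F196329) (tt N27095 (iv F197829)) (tt N25748 F196330) (tt N27379 (iv F199663)) (tt N25745 F196331) (tt N25975 F196332) (tt N27222 (iv F198673)) (tt N25974 F196333) (tt N25744 (iv D42611)))
theorem Q26686 : ∀ i, i < 26686 → P i := stepQ 26685 Q26685 (allL N26685 (tt N26298 F196334) (tt N26023 F196335) (tt N27380 D43307) (tt N25746 (iv D42612)) (tt N25749 F196336) (tt N26685 F196337) (tt N25978 F196338) (tt N27223 (iv F198680)) (tt N27378 (iv F199661)) (tt N25977 F196339))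
theorem Q26687 : ∀ i, i < 26687 → P i := stepQ 26686 Q26686 (allL N26686 (tt N26281 F196340) (tt N26026 F196341) (tt N27381 D43308) (tt N25747 (iv D42613)) (tt N27378 (iv F199659)) (tt N25871 F196342) (tt N26012 F196343) (tt N27224 (iv F198685)) (tt N25749 F196344) (tt N27382 D43309))
theorem Q26688 : ∀ i, i < 26688 → P i := stepQ 26687 Q26687 (allL N26687 (tt N26284 F196345) (tt N26029 F196346) (tt N25753 F196347) (tt N27382 (iv F199678)) (tt N25748 F196348) (tt N25874 F196349) (tt N26013 F196350) (tt N27226 (iv F198698)) (tt N27159 (iv F198249)) (tt N25747 (iv D42614)))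
theorem Q26689 : ∀ i, i < 26689 → P i := stepQ 26688 Q26688 (allL N26688 (tt N26297 F196351) (tt N27383 D43310) (tt N25749 (iv D42615)) (tt N25757 F196352) (tt N27380 (iv F199667)) (tt N25750 F196353) (tt N26014 F196354) (tt N27229 (iv F198718)) (tt N27381 (iv F199675)) (tt N27173 (iv F198339)))
theorem Q26690 : ∀ i, i < 26690 → P i := stepQ 26689 Q26689 (allL N26689 (tt N26238 F196355) (tt N25750 (iv D42616)) (tt N25794 F196356) (tt N25760 F196357) (tt N26689 F196358) (tt N27383 (iv F199684)) (tt N25912 F196359) (tt N27107 (iv F197913)) (tt N25916 F196360) (tt N25793 F196361))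
theorem Q26691 : ∀ i, i < 26691 → P i := stepQ 26690 Q26690 (allL N26690 (tt N27352 (iv F199523)) (tt N27384 D43311) (tt N25751 (iv D42617)) (tt N27381 (iv F199672)) (tt N27110 (iv F197931)) (tt N25949 F196362) (tt N27385 D43312) (tt N27231 (iv F198729)) (tt N25757 F196363) (tt N27386 D43313))
theorem Q26692 : ∀ i, i < 26692 → P i := stepQ 26691 Q26691 (allL N26691 (tt N27155 (iv F198221)) (tt N25871 F196364) (tt N27385 (iv F199691)) (tt N25752 F196365) (tt N27111 (iv F197938)) (tt N26026 F196366) (tt N25751 (iv D42618)) (tt N27387 D43314) (tt N25758 F196367) (tt N27388 D43315))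
theorem Q26693 : ∀ i, i < 26693 → P i := stepQ 26692 Q26692 (allL N26692 (tt N27353 (iv F199530)) (tt N25872 F196368) (tt N27386 (iv F199695)) (tt N25753 F196369) (tt N27112 (iv F197943)) (tt N25950 F196370) (tt N27388 (iv F199704)) (tt N27233 (iv F198741)) (tt N27166 (iv F198292)) (tt N25751 (iv D42619)))
theorem Q26694 : ∀ i, i < 26694 → P i := stepQ 26693 Q26693 (allL N26693 (tt N27158 (iv F198236)) (tt N25873 F196371) (tt N25987 F196372) (tt N27387 (iv F199698)) (tt N25754 F196373) (tt N26028 F196374) (tt N27235 (iv F198751)) (tt N25752 (iv D42620)) (tt N25759 F196375) (tt N27389 D43316))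
theorem Q26695 : ∀ i, i < 26695 → P i := stepQ 26694 Q26694 (allL N26694 (tt N27159 (iv F198243)) (tt N25874 F196376) (tt N26013 F196377) (tt N27388 (iv F199702)) (tt N25755 F196378) (tt N26029 F196379) (tt N25753 F196380) (tt N27389 (iv F199710)) (tt N26284 F196381) (tt N25752 (iv D42621)))
theorem Q26696 : ∀ i, i < 26696 → P i := stepQ 26695 Q26695 (allL N26695 (tt N27228 (iv F198707)) (tt N25876 F196382) (tt N25989 F196383) (tt N27117 (iv F197969)) (tt N27389 (iv F199708)) (tt N25939 F196384) (tt N27237 (iv F198762)) (tt N25755 F196385) (tt N26103 F196386) (tt N25754 (iv D42622)))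
theorem Q26697 : ∀ i, i < 26697 → P i := stepQ 26696 Q26696 (allL N26696 (tt N26249 F196387) (tt N25757 (iv D42623)) (tt N25804 F196388) (tt N27383 (iv F199683)) (tt N27119 (iv F197984)) (tt N25760 F196389) (tt N27390 D43317) (tt N27121 (iv F197999)) (tt N27384 (iv F199690)) (tt N25802 F196390))
theorem Q26698 : ∀ i, i < 26698 → P i := stepQ 26697 Q26697 (allL N26697 (tt N27173 (iv F198334)) (tt N27390 (iv F199713)) (tt N25758 F196391) (tt N26014 F196392) (tt N27120 (iv F197990)) (tt N25917 F196393) (tt N25757 (iv D42624)) (tt N27391 D43318) (tt N27385 (iv F199694)) (tt N26297 F196394))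
theorem Q26699 : ∀ i, i < 26699 → P i := stepQ 26698 Q26698 (allL N26698 (tt N27174 (iv F198341)) (tt N25879 F196395) (tt N27391 (iv F199718)) (tt N25759 F196396) (tt N27122 (iv F198003)) (tt N25918 F196397) (tt N27240 (iv F198783)) (tt N25758 (iv D42625)) (tt N27387 (iv F199700)) (tt N26104 F196398))
theorem Q26700 : ∀ i, i < 26700 → P i := stepQ 26699 Q26699 (allL N26699 (tt N25767 F196399) (tt N27297 (iv F199171)) (tt N27335 (iv F199409)) (tt N25774 F196400) (tt N25762 F196401) (tt N27365 (iv F199596)) (tt N25906 F196402) (tt N27291 (iv F199134)) (tt N25761 (iv D42626)) (tt N27392 D43319))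
theorem Q26701 : ∀ i, i < 26701 → P i := stepQ 26700 Q26700 (allL N26700 (tt N25769 F196403) (tt N27300 (iv F199190)) (tt N27334 (iv F199401)) (tt N25763 F196404) (tt N27392 (iv F199724)) (tt N27346 (iv F199486)) (tt N25904 F196405) (tt N27293 (iv F199148)) (tt N25903 F196406) (tt N25762 (iv D42627)))
theorem Q26702 : ∀ i, i < 26702 → P i := stepQ 26701 Q26701 (allL N26701 (tt N27335 (iv F199407)) (tt N26124 F196407) (tt N25767 F196408) (tt N27126 (iv F198031)) (tt N25765 F196409) (tt N27393 D43320) (tt N26118 F196410) (tt N27359 (iv F199567)) (tt N25764 (iv D42628)) (tt N27394 D43321))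
theorem Q26703 : ∀ i, i < 26703 → P i := stepQ 26702 Q26702 (allL N26702 (tt N26273 F196411) (tt N26102 F196412) (tt N25768 F196413) (tt N25885 F196414) (tt N27395 D43322) (tt N25765 (iv D42629)) (tt N25882 F196415) (tt N25828 F196416) (tt N25766 F196417) (tt N27396 D43323))
theorem Q26704 : ∀ i, i < 26704 → P i := stepQ 26703 Q26703 (allL N26703 (tt N27334 (iv F199399)) (tt N26127 F196418) (tt N25769 F196419) (tt N25886 F196420) (tt N27394 (iv F199733)) (tt N27396 (iv F199746)) (tt N26119 F196421) (tt N27360 (iv F199574)) (tt N26196 F196422) (tt N25765 (iv D42630)))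
theorem Q26705 : ∀ i, i < 26705 → P i := stepQ 26704 Q26704 (allL N26704 (tt N26271 F196423) (tt N26105 F196424) (tt N25770 F196425) (tt N27314 (iv F199272)) (tt N25766 (iv D42631)) (tt N26704 F196426) (tt N25880 F196427) (tt N25826 F196428) (tt N27395 (iv F199741)) (tt N25825 F196429))
theorem Q26706 : ∀ i, i < 26706 → P i := stepQ 26705 Q26705 (allL N26705 (tt N27365 (iv F199594)) (tt N25772 F196430) (tt N27393 (iv F199728)) (tt N27141 (iv F198130)) (tt N27397 D43324) (tt N25767 (iv D42632)) (tt N27343 (iv F199464)) (tt N27361 (iv F199577)) (tt N26705 F196431) (tt N27398 D43325))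
theorem Q26707 : ∀ i, i < 26707 → P i := stepQ 26706 Q26706 (allL N26706 (tt N27392 (iv F199722)) (tt N25773 F196432) (tt N27394 (iv F199732)) (tt N27138 (iv F198108)) (tt N25769 F196433) (tt N27398 (iv F199754)) (tt N26295 F196434) (tt N27362 (iv F199581)) (tt N26294 F196435) (tt N25767 (iv D42633)))
theorem Q26708 : ∀ i, i < 26708 → P i := stepQ 26707 Q26707 (allL N26707 (tt N27345 (iv F199475)) (tt N25774 F196436) (tt N27395 (iv F199738)) (tt N27297 (iv F199173)) (tt N25768 (iv D42634)) (tt N27397 (iv F199751)) (tt N25946 F196437) (tt N27294 (iv F199155)) (tt N25770 F196438) (tt N27399 D43326))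
theorem Q26709 : ∀ i, i < 26709 → P i := stepQ 26708 Q26708 (allL N26708 (tt N27346 (iv F199482)) (tt N25775 F196439) (tt N27396 (iv F199744)) (tt N25771 F196440) (tt N27399 (iv F199756)) (tt N25769 F196441) (tt N25945 F196442) (tt N27363 (iv F199589)) (tt N25944 F196443) (tt N25768 (iv D42635)))
theorem Q26710 : ∀ i, i < 26710 → P i := stepQ 26709 Q26709 (allL N26709 (tt N27141 (iv F198127)) (tt N27397 (iv F199750)) (tt N27207 (iv F198574)) (tt N27365 (iv F199595)) (tt N25772 (iv D42636)) (tt N25774 F196444) (tt N27357 (iv F199552)) (tt N27364 (iv F199592)) (tt N26709 F196445) (tt N27400 D43327))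
theorem Q26711 : ∀ i, i < 26711 → P i := stepQ 26710 Q26710 (allL N26710 (tt N27296 (iv F199165)) (tt N27343 (iv F199461)) (tt N26170 F196446) (tt N27373 (iv F199642)) (tt N27357 (iv F199551)) (tt N26165 F196447) (tt N25772 (iv D42637)) (tt N27354 (iv F199540)) (tt N26710 F196448) (tt N27401 D43328))
theorem Q26712 : ∀ i, i < 26712 → P i := stepQ 26711 Q26711 (allL N26711 (tt N27356 (iv F199546)) (tt N27398 (iv F199753)) (tt N27208 (iv F198579)) (tt N27374 (iv F199645)) (tt N27400 (iv F199759)) (tt N25773 F196449) (tt N27401 (iv F199763)) (tt N27366 (iv F199599)) (tt N27402 D43329) (tt N25772 (iv D42638)))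
theorem Q26713 : ∀ i, i < 26713 → P i := stepQ 26712 Q26712 (allL N26712 (tt N27138 (iv F198105)) (tt N27399 (iv F199755)) (tt N27210 (iv F198591)) (tt N27392 (iv F199723)) (tt N25775 F196450) (tt N27400 (iv F199760)) (tt N26005 F196451) (tt N27367 (iv F199602)) (tt N26004 F196452) (tt N25774 (iv D42639)))
theorem Q26714 : ∀ i, i < 26714 → P i := stepQ 26713 Q26713 (allL N26713 (tt N27196 (iv F198500)) (tt N25784 F196453) (tt N27287 (iv F199101)) (tt N26221 F196454) (tt N25780 F196455) (tt N27403 D43330) (tt N25831 F196456) (tt N26142 F196457) (tt N25779 (iv D42640)) (tt N27404 D43331))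
theorem Q26715 : ∀ i, i < 26715 → P i := stepQ 26714 Q26714 (allL N26714 (tt N27284 (iv F199081)) (tt N25786 F196458) (tt N27285 (iv F199091)) (tt N25782 F196459) (tt N27404 (iv F199771)) (tt N27275 (iv F199039)) (tt N25833 F196460) (tt N26141 F196461) (tt N26140 F196462) (tt N25780 (iv D42641)))
theorem Q26716 : ∀ i, i < 26716 → P i := stepQ 26715 Q26715 (allL N26715 (tt N26188 F196463) (tt N25788 F196464) (tt N26049 F196465) (tt N26016 (iv F196470)) (tt N25781 (iv D42642)) (tt N26067 F196466) (tt N25862 F196467) (tt N26277 F196468) (tt N25783 F196469) (tt N27405 D43332))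
theorem Q26717 : ∀ i, i < 26717 → P i := stepQ 26716 Q26716 (allL N26716 (tt N26190 F196471) (tt N25789 F196472) (tt N27247 (iv F198828)) (tt N27275 (iv F199038)) (tt N27405 (iv F199779)) (tt N25782 F196473) (tt N26186 F196474) (tt N26276 F196475) (tt N27267 (iv F198994)) (tt N25781 (iv D42643)))
theorem Q26718 : ∀ i, i < 26718 → P i := stepQ 26717 Q26717 (allL N26717 (tt N26225 F196476) (tt N27403 (iv F199765)) (tt N27219 (iv F198649)) (tt N27178 (iv F198374)) (tt N27406 D43333) (tt N25784 (iv D42644)) (tt N27303 (iv F199214)) (tt N27092 (iv F197811)) (tt N26717 F196477) (tt N27407 D43334))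
theorem Q26719 : ∀ i, i < 26719 → P i := stepQ 26718 Q26718 (allL N26718 (tt N26226 F196478) (tt N27404 (iv F199769)) (tt N27220 (iv F198655)) (tt N27179 (iv F198382)) (tt N25786 F196479) (tt N27407 (iv F199788)) (tt N25836 F196480) (tt N27093 (iv F197819)) (tt N27181 (iv F198400)) (tt N25784 (iv D42645)))
theorem Q26720 : ∀ i, i < 26720 → P i := stepQ 26719 Q26719 (allL N26719 (tt N26227 F196481) (tt N27277 (iv F199052)) (tt N27221 (iv F198663)) (tt N27408 D43335) (tt N25785 (iv D42646)) (tt N27406 (iv F199785)) (tt N27264 (iv F198972)) (tt N27094 (iv F197825)) (tt N25787 F196482) (tt N27409 D43336))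
theorem Q26721 : ∀ i, i < 26721 → P i := stepQ 26720 Q26720 (allL N26720 (tt N26228 F196483) (tt N27275 (iv F199036)) (tt N27222 (iv F198669)) (tt N25789 F196484) (tt N27409 (iv F199795)) (tt N25786 F196485) (tt N27263 (iv F198963)) (tt N27095 (iv F197833)) (tt N27262 (iv F198957)) (tt N25785 (iv D42647)))
theorem Q26722 : ∀ i, i < 26722 → P i := stepQ 26721 Q26721 (allL N26721 (tt N26229 F196486) (tt N26057 F196487) (tt N27410 D43337) (tt N25787 (iv D42648)) (tt N25790 F196488) (tt N26721 F196489) (tt N25982 F196490) (tt N27096 (iv F197840)) (tt N27408 (iv F199793)) (tt N27206 (iv F198571)))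
theorem Q26723 : ∀ i, i < 26723 → P i := stepQ 26722 Q26722 (allL N26722 (tt N26231 F196491) (tt N26016 F196492) (tt N27411 D43338) (tt N25788 (iv D42649)) (tt N27408 (iv F199791)) (tt N26155 F196493) (tt N26010 F196494) (tt N27097 (iv F197845)) (tt N25790 F196495) (tt N27412 D43339))
theorem Q26724 : ∀ i, i < 26724 → P i := stepQ 26723 Q26723 (allL N26723 (tt N26232 F196496) (tt N27405 (iv F199776)) (tt N25798 F196497) (tt N27412 (iv F199808)) (tt N25789 F196498) (tt N26158 F196499) (tt N26206 F196500) (tt N27099 (iv F197858)) (tt N27413 D43340) (tt N25788 (iv D42650)))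
theorem Q26725 : ∀ i, i < 26725 → P i := stepQ 26724 Q26724 (allL N26724 (tt N26233 F196501) (tt N27267 (iv F198987)) (tt N25801 F196502) (tt N27262 (iv F198953)) (tt N27413 (iv F199814)) (tt N27189 (iv F198452)) (tt N27259 (iv F198935)) (tt N27101 (iv F197873)) (tt N25789 (iv D42651)) (tt N25792 F196503))
theorem Q26726 : ∀ i, i < 26726 → P i := stepQ 26725 Q26725 (allL N26725 (tt N26234 F196504) (tt N27173 (iv F198335)) (tt N25790 (iv D42652)) (tt N25802 F196505) (tt N27410 (iv F199798)) (tt N25793 F196506) (tt N26056 F196507) (tt N27102 (iv F197878)) (tt N27411 (iv F199805)) (tt N27383 (iv F199686)))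
theorem Q26727 : ∀ i, i < 26727 → P i := stepQ 26726 Q26726 (allL N26726 (tt N26235 F196508) (tt N26033 F196509) (tt N27383 (iv F199682)) (tt N25791 F196510) (tt N27206 (iv F198568)) (tt N25794 F196511) (tt N25809 F196512) (tt N27104 (iv F197892)) (tt N27414 D43341) (tt N25790 (iv D42653)))
theorem Q26728 : ∀ i, i < 26728 → P i := stepQ 26727 Q26727 (allL N26727 (tt N26236 F196513) (tt N26039 F196514) (tt N25807 F196515) (tt N27414 (iv F199819)) (tt N25792 F196516) (tt N27415 D43342) (tt N26038 F196517) (tt N27105 (iv F197898)) (tt N25791 (iv D42654)) (tt N27413 (iv F199816)))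
theorem Q26729 : ∀ i, i < 26729 → P i := stepQ 26728 Q26728 (allL N26728 (tt N26237 F196518) (tt N25917 F196519) (tt N25916 F196520) (tt N25795 F196521) (tt N26728 F196522) (tt N27390 (iv F199716)) (tt N25914 F196523) (tt N27108 (iv F197921)) (tt N25794 (iv D42655)) (tt N25913 F196524))
theorem Q26730 : ∀ i, i < 26730 → P i := stepQ 26729 Q26729 (allL N26729 (tt N26239 F196525) (tt N26014 F196526) (tt N25809 F196527) (tt N27390 (iv F199715)) (tt N27194 (iv F198490)) (tt N25795 (iv D42656)) (tt N27383 (iv F199685)) (tt N27109 (iv F197927)) (tt N27415 (iv F199824)) (tt N26056 F196528))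
theorem Q26731 : ∀ i, i < 26731 → P i := stepQ 26730 Q26730 (allL N26730 (tt N26240 F196529) (tt N27162 (iv F198265)) (tt N25796 (iv D42657)) (tt N27411 (iv F199802)) (tt N27231 (iv F198727)) (tt N25884 F196530) (tt N27416 D43343) (tt N27110 (iv F197933)) (tt N25802 F196531) (tt N27417 D43344))
theorem Q26732 : ∀ i, i < 26732 → P i := stepQ 26731 Q26731 (allL N26731 (tt N26241 F196532) (tt N25898 F196533) (tt N27416 (iv F199827)) (tt N25797 F196534) (tt N27232 (iv F198734)) (tt N26198 F196535) (tt N25796 (iv D42658)) (tt N27418 D43345) (tt N25803 F196536) (tt N27419 D43346))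
theorem Q26733 : ∀ i, i < 26733 → P i := stepQ 26732 Q26732 (allL N26732 (tt N26242 F196537) (tt N25899 F196538) (tt N27417 (iv F199832)) (tt N25798 F196539) (tt N27233 (iv F198739)) (tt N25888 F196540) (tt N27419 (iv F199843)) (tt N27112 (iv F197945)) (tt N27420 D43347) (tt N25796 (iv D42659)))
theorem Q26734 : ∀ i, i < 26734 → P i := stepQ 26733 Q26733 (allL N26733 (tt N26243 F196541) (tt N27251 (iv F198862)) (tt N26205 F196542) (tt N27418 (iv F199836)) (tt N25799 F196543) (tt N26200 F196544) (tt N27114 (iv F197955)) (tt N25797 (iv D42660)) (tt N25805 F196545) (tt N27421 D43348))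
theorem Q26735 : ∀ i, i < 26735 → P i := stepQ 26734 Q26734 (allL N26734 (tt N26244 F196546) (tt N27252 (iv F198870)) (tt N26206 F196547) (tt N27419 (iv F199841)) (tt N25800 F196548) (tt N26201 F196549) (tt N25798 F196550) (tt N27421 (iv F199853)) (tt N27422 D43349) (tt N25797 (iv D42661)))
theorem Q26736 : ∀ i, i < 26736 → P i := stepQ 26735 Q26735 (allL N26735 (tt N26245 F196551) (tt N27253 (iv F198878)) (tt N27413 (iv F199813)) (tt N27420 (iv F199846)) (tt N25801 F196552) (tt N27423 D43350) (tt N27422 (iv F199858)) (tt N27116 (iv F197964)) (tt N25798 (iv D42662)) (tt N25807 F196553))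
theorem Q26737 : ∀ i, i < 26737 → P i := stepQ 26736 Q26736 (allL N26736 (tt N26246 F196554) (tt N27254 (iv F198887)) (tt N27257 (iv F198914)) (tt N27237 (iv F198760)) (tt N27421 (iv F199851)) (tt N25843 F196555) (tt N27117 (iv F197971)) (tt N25800 F196556) (tt N27323 (iv F199333)) (tt N25799 (iv D42663)))
theorem Q26738 : ∀ i, i < 26738 → P i := stepQ 26737 Q26737 (allL N26737 (tt N26247 F196557) (tt N27255 (iv F198895)) (tt N27259 (iv F198931)) (tt N27238 (iv F198768)) (tt N27422 (iv F199857)) (tt N27258 (iv F198925)) (tt N25801 F196558) (tt N27323 (iv F199332)) (tt N25800 (iv D42664)) (tt N25808 F196559))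
theorem Q26739 : ∀ i, i < 26739 → P i := stepQ 26738 Q26738 (allL N26738 (tt N26248 F196560) (tt N26297 F196561) (tt N25803 F196562) (tt N26056 F196563) (tt N27239 (iv F198776)) (tt N25913 F196564) (tt N25802 (iv D42665)) (tt N27424 D43351) (tt N27416 (iv F199830)) (tt N27390 (iv F199717)))
theorem Q26740 : ∀ i, i < 26740 → P i := stepQ 26739 Q26739 (allL N26739 (tt N26250 F196565) (tt N25911 F196566) (tt N27424 (iv F199867)) (tt N25805 F196567) (tt N27240 (iv F198781)) (tt N25915 F196568) (tt N27122 (iv F198005)) (tt N25803 (iv D42666)) (tt N27418 (iv F199838)) (tt N27324 (iv F199340)))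
theorem Q26741 : ∀ i, i < 26741 → P i := stepQ 26740 Q26740 (allL N26740 (tt N26251 F196569) (tt N25878 F196570) (tt N27390 (iv F199714)) (tt N25806 F196571) (tt N27175 (iv F198351)) (tt N25916 F196572) (tt N25804 F196573) (tt N27324 (iv F199339)) (tt N27425 D43352) (tt N25803 (iv D42667)))
theorem Q26742 : ∀ i, i < 26742 → P i := stepQ 26741 Q26741 (allL N26741 (tt N26252 F196574) (tt N25870 F196575) (tt N27384 (iv F199688)) (tt N25807 F196576) (tt N27165 (iv F198284)) (tt N26038 F196577) (tt N27425 (iv F199873)) (tt N27123 (iv F198013)) (tt N25804 (iv D42668)) (tt N27420 (iv F199848)))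
theorem Q26743 : ∀ i, i < 26743 → P i := stepQ 26742 Q26742 (allL N26742 (tt N26254 F196578) (tt N25949 F196579) (tt N26038 F196580) (tt N27425 (iv F199872)) (tt N25808 F196581) (tt N27384 (iv F199689)) (tt N25807 F196582) (tt N27322 (iv F199324)) (tt N25806 (iv D42669)) (tt N27422 (iv F199859)))
theorem Q26744 : ∀ i, i < 26744 → P i := stepQ 26743 Q26743 (allL N26743 (tt N26255 F196583) (tt N26025 F196584) (tt N27415 (iv F199823)) (tt N26038 F196585) (tt N27205 (iv F198562)) (tt N25807 (iv D42670)) (tt N27414 (iv F199820)) (tt N27125 (iv F198025)) (tt N25809 F196586) (tt N27423 (iv F199864)))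
theorem Q26745 : ∀ i, i < 26745 → P i := stepQ 26744 Q26744 (allL N26744 (tt N26258 F196587) (tt N26207 F196588) (tt N27248 (iv F198836)) (tt N25994 F196589) (tt N25812 F196590) (tt N27332 (iv F199388)) (tt N27181 (iv F198398)) (tt N25863 F196591) (tt N25836 F196592) (tt N25810 (iv D42671)))
theorem Q26746 : ∀ i, i < 26746 → P i := stepQ 26745 Q26745 (allL N26745 (tt N26074 F196593) (tt N25932 F196594) (tt N26163 F196595) (tt N25815 F196596) (tt N26115 F196597) (tt N25812 F196598) (tt N27349 (iv F199508)) (tt N25864 F196599) (tt N26088 F196600) (tt N25811 (iv D42672)))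
theorem Q26747 : ∀ i, i < 26747 → P i := stepQ 26746 Q26746 (allL N26746 (tt N26259 F196601) (tt N26003 F196602) (tt N25819 F196603) (tt N27302 (iv F199208)) (tt N25814 F196604) (tt N27426 D43353) (tt N25813 (iv D42673)) (tt N25942 F196605) (tt N25816 F196606) (tt N27427 D43354))
theorem Q26748 : ∀ i, i < 26748 → P i := stepQ 26747 Q26747 (allL N26747 (tt N26260 F196607) (tt N26044 F196608) (tt N25820 F196609) (tt N27299 (iv F199184)) (tt N25815 F196610) (tt N25997 F196611) (tt N27427 (iv F199884)) (tt N25867 F196612) (tt N27295 (iv F199164)) (tt N25813 (iv D42674)))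
theorem Q26749 : ∀ i, i < 26749 → P i := stepQ 26748 Q26748 (allL N26748 (tt N26261 F196613) (tt N26006 F196614) (tt N25822 F196615) (tt N27349 (iv F199505)) (tt N27427 (iv F199883)) (tt N27188 (iv F198444)) (tt N25815 F196616) (tt N25944 F196617) (tt N27363 (iv F199590)) (tt N25814 (iv D42675)))
theorem Q26750 : ∀ i, i < 26750 → P i := stepQ 26749 Q26749 (allL N26749 (tt N26090 F196618) (tt N26047 F196619) (tt N25823 F196620) (tt N26088 F196621) (tt N27295 (iv F199161)) (tt N25839 F196622) (tt N27363 (iv F199588)) (tt N25868 F196623) (tt N25815 (iv D42676)) (tt N25817 F196624))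
theorem Q26751 : ∀ i, i < 26751 → P i := stepQ 26750 Q26750 (allL N26750 (tt N26262 F196625) (tt N27232 (iv F198732)) (tt N27316 (iv F199287)) (tt N25819 F196626) (tt N25898 F196627) (tt N27428 D43355) (tt N25818 (iv D42677)) (tt N27429 D43356) (tt N25824 F196628) (tt N27430 D43357))
theorem Q26752 : ∀ i, i < 26752 → P i := stepQ 26751 Q26751 (allL N26751 (tt N26263 F196629) (tt N27233 (iv F198737)) (tt N27306 (iv F199226)) (tt N25820 F196630) (tt N25899 F196631) (tt N25901 F196632) (tt N27430 (iv F199898)) (tt N25872 F196633) (tt N27266 (iv F198985)) (tt N25818 (iv D42678)))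
theorem Q26753 : ∀ i, i < 26753 → P i := stepQ 26752 Q26752 (allL N26752 (tt N26264 F196634) (tt N27234 (iv F198743)) (tt N27426 (iv F199876)) (tt N27428 (iv F199887)) (tt N27198 (iv F198516)) (tt N25819 (iv D42679)) (tt N26002 F196635) (tt N27431 D43358) (tt N26752 F196636) (tt N27432 D43359))
theorem Q26754 : ∀ i, i < 26754 → P i := stepQ 26753 Q26753 (allL N26753 (tt N26265 F196637) (tt N27235 (iv F198748)) (tt N25942 F196638) (tt N27429 (iv F199891)) (tt N25821 F196639) (tt N27431 (iv F199901)) (tt N25873 F196640) (tt N25819 (iv D42680)) (tt N25825 F196641) (tt N27433 D43360))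
theorem Q26755 : ∀ i, i < 26755 → P i := stepQ 26754 Q26754 (allL N26754 (tt N26266 F196642) (tt N27236 (iv F198754)) (tt N27427 (iv F199882)) (tt N27430 (iv F199896)) (tt N25822 F196643) (tt N27432 (iv F199904)) (tt N25820 F196644) (tt N27433 (iv F199910)) (tt N27434 D43361) (tt N25819 (iv D42681)))
theorem Q26756 : ∀ i, i < 26756 → P i := stepQ 26755 Q26755 (allL N26755 (tt N26267 F196645) (tt N27170 (iv F198314)) (tt N27295 (iv F199159)) (tt N27266 (iv F198981)) (tt N25823 F196646) (tt N27091 (iv F197803)) (tt N27434 (iv F199913)) (tt N25875 F196647) (tt N25820 (iv D42682)) (tt N25827 F196648))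
theorem Q26757 : ∀ i, i < 26757 → P i := stepQ 26756 Q26756 (allL N26756 (tt N26268 F196649) (tt N27237 (iv F198758)) (tt N25944 F196650) (tt N27254 (iv F198889)) (tt N27433 (iv F199908)) (tt N27202 (iv F198540)) (tt N25876 F196651) (tt N25822 F196652) (tt N27396 (iv F199749)) (tt N25821 (iv D42683)))
theorem Q26758 : ∀ i, i < 26758 → P i := stepQ 26757 Q26757 (allL N26757 (tt N26269 F196653) (tt N27238 (iv F198766)) (tt N27363 (iv F199585)) (tt N27255 (iv F198897)) (tt N27434 (iv F199912)) (tt N27360 (iv F199572)) (tt N25823 F196654) (tt N27396 (iv F199748)) (tt N25822 (iv D42684)) (tt N25828 F196655))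
theorem Q26759 : ∀ i, i < 26759 → P i := stepQ 26758 Q26758 (allL N26758 (tt N26270 F196656) (tt N27240 (iv F198779)) (tt N27315 (iv F199279)) (tt N25825 F196657) (tt N25911 F196658) (tt N26758 F196659) (tt N25879 F196660) (tt N25824 (iv D42685)) (tt N27429 (iv F199894)) (tt N27314 (iv F199276)))
theorem Q26760 : ∀ i, i < 26760 → P i := stepQ 26759 Q26759 (allL N26759 (tt N26272 F196661) (tt N27169 (iv F198308)) (tt N27294 (iv F199152)) (tt N27265 (iv F198976)) (tt N25828 F196662) (tt N27435 D43362) (tt N25827 F196663) (tt N27395 (iv F199740)) (tt N25826 (iv D42686)) (tt N27434 (iv F199914)))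
theorem Q26761 : ∀ i, i < 26761 → P i := stepQ 26760 Q26760 (allL N26760 (tt N27190 (iv F198456)) (tt N27161 (iv F198257)) (tt N26161 F196664) (tt N25829 (iv D42687)) (tt N27176 (iv F198359)) (tt N25908 F196665) (tt N27177 (iv F198369)) (tt N25883 F196666) (tt N27436 D43363) (tt N26204 F196667))
theorem Q26762 : ∀ i, i < 26762 → P i := stepQ 26761 Q26761 (allL N26761 (tt N27195 (iv F198493)) (tt N27163 (iv F198270)) (tt N25831 F196668) (tt N27436 (iv F199919)) (tt N25830 F196669) (tt N27110 (iv F197932)) (tt N27287 (iv F199102)) (tt N25884 F196670) (tt N25829 (iv D42688)) (tt N27437 D43364))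
theorem Q26763 : ∀ i, i < 26763 → P i := stepQ 26762 Q26762 (allL N26762 (tt N27339 (iv F199430)) (tt N27258 (iv F198922)) (tt N25833 F196671) (tt N27360 (iv F199571)) (tt N27437 (iv F199922)) (tt N27255 (iv F198899)) (tt N27285 (iv F199093)) (tt N25886 F196672) (tt N26203 F196673) (tt N25830 (iv D42689)))
theorem Q26764 : ∀ i, i < 26764 → P i := stepQ 26763 Q26763 (allL N26763 (tt N27197 (iv F198507)) (tt N25836 F196674) (tt N27437 (iv F199921)) (tt N26222 F196675) (tt N25833 F196676) (tt N27112 (iv F197944)) (tt N27404 (iv F199772)) (tt N25888 F196677) (tt N26207 F196678) (tt N25831 (iv D42690)))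
theorem Q26765 : ∀ i, i < 26765 → P i := stepQ 26764 Q26764 (allL N26764 (tt N25929 F196679) (tt N25837 F196680) (tt N27255 (iv F198896)) (tt N25834 F196681) (tt N25950 F196682) (tt N25833 F196683) (tt N26185 F196684) (tt N25891 F196685) (tt N27250 (iv F198860)) (tt N25832 (iv D42691)))
theorem Q26766 : ∀ i, i < 26766 → P i := stepQ 26765 Q26765 (allL N26765 (tt N25849 F196686) (tt N25839 F196687) (tt N27349 (iv F199504)) (tt N27250 (iv F198855)) (tt N25925 F196688) (tt N26047 F196689) (tt N26163 F196690) (tt N25897 F196691) (tt N25834 (iv D42692)) (tt N25835 F196692))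
theorem Q26767 : ∀ i, i < 26767 → P i := stepQ 26766 Q26766 (allL N26766 (tt N26091 F196693) (tt N27250 (iv F198853)) (tt N26186 F196694) (tt N25839 F196695) (tt N26043 F196696) (tt N26088 F196697) (tt N27247 (iv F198832)) (tt N25904 F196698) (tt N25837 (iv D42693)) (tt N25838 F196699))
theorem Q26768 : ∀ i, i < 26768 → P i := stepQ 26767 Q26767 (allL N26767 (tt N26224 F196700) (tt N27284 (iv F199082)) (tt N26022 F196701) (tt N25842 F196702) (tt N27279 (iv F199066)) (tt N26196 F196703) (tt N25841 F196704) (tt N27203 (iv F198549)) (tt N27202 (iv F198543)) (tt N25840 (iv D42694)))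
theorem Q26769 : ∀ i, i < 26769 → P i := stepQ 26768 Q26768 (allL N26768 (tt N26276 F196705) (tt N26203 F196706) (tt N27246 (iv F198820)) (tt N27285 (iv F199092)) (tt N27438 D43365) (tt N25844 (iv D42695)) (tt N27360 (iv F199573)) (tt N26190 F196707) (tt N27258 (iv F198928)) (tt N25845 F196708))
theorem Q26770 : ∀ i, i < 26770 → P i := stepQ 26769 Q26769 (allL N26769 (tt N26277 F196709) (tt N26200 F196710) (tt N27172 (iv F198328)) (tt N27144 (iv F198151)) (tt N25845 (iv D42696)) (tt N27251 (iv F198866)) (tt N27359 (iv F199566)) (tt N26188 F196711) (tt N25846 F196712) (tt N27438 (iv F199928)))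
theorem Q26771 : ∀ i, i < 26771 → P i := stepQ 26770 Q26770 (allL N26770 (tt N25952 F196713) (tt N25850 F196714) (tt N26067 F196715) (tt N25938 F196716) (tt N25848 F196717) (tt N26049 F196718) (tt N26065 F196719) (tt N27088 (iv F197779)) (tt N25847 (iv D42697)) (tt N27439 D43366))
theorem Q26772 : ∀ i, i < 26772 → P i := stepQ 26771 Q26771 (allL N26771 (tt N27250 (iv F198852)) (tt N25851 F196720) (tt N26070 F196721) (tt N25849 F196722) (tt N27439 (iv F199933)) (tt N26059 F196723) (tt N26066 F196724) (tt N27087 (iv F197770)) (tt N25929 F196725) (tt N25848 (iv D42698)))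
theorem Q26773 : ∀ i, i < 26773 → P i := stepQ 26772 Q26772 (allL N26772 (tt N26093 F196726) (tt N27439 (iv F199930)) (tt N25860 F196727) (tt N27090 (iv F197792)) (tt N25851 F196728) (tt N27249 (iv F198848)) (tt N26164 F196729) (tt N27089 (iv F197787)) (tt N25931 F196730) (tt N25850 (iv D42699)))
theorem Q26774 : ∀ i, i < 26774 → P i := stepQ 26773 Q26773 (allL N26773 (tt N26092 F196731) (tt N27171 (iv F198320)) (tt N25856 F196732) (tt N27248 (iv F198837)) (tt N25853 F196733) (tt N26005 F196734) (tt N27358 (iv F199559)) (tt N26046 F196735) (tt N27091 (iv F197806)) (tt N25852 (iv D42700)))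
theorem Q26775 : ∀ i, i < 26775 → P i := stepQ 26774 Q26774 (allL N26774 (tt N26210 F196736) (tt N27342 (iv F199455)) (tt N25994 F196737) (tt N25856 F196738) (tt N25861 F196739) (tt N27288 (iv F199110)) (tt N27351 (iv F199520)) (tt N25931 F196740) (tt N27089 (iv F197788)) (tt N25854 (iv D42701)))
theorem Q26776 : ∀ i, i < 26776 → P i := stepQ 26775 Q26775 (allL N26775 (tt N25947 F196741) (tt N27370 (iv F199621)) (tt N27357 (iv F199549)) (tt N27350 (iv F199513)) (tt N26170 F196742) (tt N25855 (iv D42702)) (tt N27207 (iv F198576)) (tt N27368 (iv F199610)) (tt N26775 F196743) (tt N27440 D43367))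
theorem Q26777 : ∀ i, i < 26777 → P i := stepQ 26776 Q26776 (allL N26776 (tt N25948 F196744) (tt N27371 (iv F199628)) (tt N27358 (iv F199556)) (tt N27351 (iv F199518)) (tt N25857 F196745) (tt N27440 (iv F199939)) (tt N25856 F196746) (tt N27369 (iv F199618)) (tt N27348 (iv F199501)) (tt N25855 (iv D42703)))
theorem Q26778 : ∀ i, i < 26778 → P i := stepQ 26777 Q26777 (allL N26777 (tt N26211 F196747) (tt N27372 (iv F199634)) (tt N27091 (iv F197800)) (tt N27089 (iv F197783)) (tt N25858 F196748) (tt N27295 (iv F199162)) (tt N27348 (iv F199499)) (tt N27090 (iv F197796)) (tt N25856 (iv D42704)) (tt N25859 F196749))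
theorem Q26779 : ∀ i, i < 26779 → P i := stepQ 26778 Q26778 (allL N26778 (tt N26189 F196750) (tt N26206 F196751) (tt N26043 F196752) (tt N26017 F196753) (tt N26186 F196754) (tt N25863 F196755) (tt N27405 (iv F199781)) (tt N27332 (iv F199389)) (tt N26040 F196756) (tt N25862 (iv D42705)))
theorem Q26780 : ∀ i, i < 26780 → P i := stepQ 26779 Q26779 (allL N26779 (tt N26060 F196757) (tt N25933 F196758) (tt N26115 F196759) (tt N25868 F196760) (tt N26163 F196761) (tt N25904 F196762) (tt N25925 F196763) (tt N26088 F196764) (tt N25864 (iv D42706)) (tt N25865 F196765))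
theorem Q26781 : ∀ i, i < 26781 → P i := stepQ 26780 Q26780 (allL N26780 (tt N26187 F196766) (tt N26042 F196767) (tt N27253 (iv F198879)) (tt N25867 F196768) (tt N26185 F196769) (tt N26027 F196770) (tt N25950 F196771) (tt N27299 (iv F199187)) (tt N27249 (iv F198851)) (tt N25866 (iv D42707)))
theorem Q26782 : ∀ i, i < 26782 → P i := stepQ 26781 Q26781 (allL N26781 (tt N26278 F196772) (tt N26045 F196773) (tt N25875 F196774) (tt N27249 (iv F198846)) (tt N25868 F196775) (tt N27090 (iv F197794)) (tt N25951 F196776) (tt N27295 (iv F199163)) (tt N25867 (iv D42708)) (tt N25869 F196777))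
theorem Q26783 : ∀ i, i < 26783 → P i := stepQ 26782 Q26782 (allL N26782 (tt N26279 F196778) (tt N27425 (iv F199871)) (tt N25871 F196779) (tt N25949 F196780) (tt N27265 (iv F198977)) (tt N27381 (iv F199673)) (tt N25870 (iv D42709)) (tt N27441 D43368) (tt N25878 F196781) (tt N27442 D43369))
theorem Q26784 : ∀ i, i < 26784 → P i := stepQ 26783 Q26783 (allL N26783 (tt N26280 F196782) (tt N27420 (iv F199845)) (tt N25872 F196783) (tt N27253 (iv F198880)) (tt N27266 (iv F198982)) (tt N26040 F196784) (tt N27442 (iv F199947)) (tt N27306 (iv F199229)) (tt N25899 F196785) (tt N25870 (iv D42710)))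
theorem Q26785 : ∀ i, i < 26785 → P i := stepQ 26784 Q26784 (allL N26784 (tt N26282 F196786) (tt N27387 (iv F199697)) (tt N27441 (iv F199941)) (tt N25873 F196787) (tt N27304 (iv F199218)) (tt N27224 (iv F198684)) (tt N27429 (iv F199893)) (tt N25871 (iv D42711)) (tt N25879 F196788) (tt N27443 D43370))
theorem Q26786 : ∀ i, i < 26786 → P i := stepQ 26785 Q26785 (allL N26785 (tt N26283 F196789) (tt N27388 (iv F199701)) (tt N27442 (iv F199945)) (tt N25874 F196790) (tt N27305 (iv F199223)) (tt N27382 (iv F199679)) (tt N25872 F196791) (tt N27443 (iv F199951)) (tt N27328 (iv F199366)) (tt N25871 (iv D42712)))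
theorem Q26787 : ∀ i, i < 26787 → P i := stepQ 26786 Q26786 (allL N26786 (tt N26285 F196792) (tt N27389 (iv F199706)) (tt N25943 F196793) (tt N27443 (iv F199950)) (tt N25876 F196794) (tt N27226 (iv F198697)) (tt N27433 (iv F199909)) (tt N25874 F196795) (tt N27444 D43371) (tt N25873 (iv D42713)))
theorem Q26788 : ∀ i, i < 26788 → P i := stepQ 26787 Q26787 (allL N26787 (tt N26286 F196796) (tt N26284 F196797) (tt N25951 F196798) (tt N27328 (iv F199363)) (tt N25877 F196799) (tt N26215 (iv F196802)) (tt N25875 F196800) (tt N27444 (iv F199956)) (tt N25874 (iv D42714)) (tt N25881 F196801))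
theorem Q26789 : ∀ i, i < 26789 → P i := stepQ 26788 Q26788 (allL N26788 (tt N26287 F196803) (tt N26103 F196804) (tt N25945 F196805) (tt N27312 (iv F199256)) (tt N27444 (iv F199955)) (tt N26096 F196806) (tt N27396 (iv F199747)) (tt N25877 F196807) (tt N25876 (iv D42715)) (tt N25882 F196808))
theorem Q26790 : ∀ i, i < 26790 → P i := stepQ 26789 Q26789 (allL N26789 (tt N26288 F196809) (tt N27324 (iv F199335)) (tt N25879 F196810) (tt N25887 F196811) (tt N27314 (iv F199273)) (tt N25909 F196812) (tt N27315 (iv F199283)) (tt N25878 (iv D42716)) (tt N27441 (iv F199943)) (tt N25911 F196813))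
theorem Q26791 : ∀ i, i < 26791 → P i := stepQ 26790 Q26790 (allL N26790 (tt N26289 F196814) (tt N26101 F196815) (tt N25946 F196816) (tt N27327 (iv F199357)) (tt N25882 F196817) (tt N26214 F196818) (tt N27395 (iv F199739)) (tt N25881 F196819) (tt N25880 (iv D42717)) (tt N27444 (iv F199957)))
theorem Q26792 : ∀ i, i < 26792 → P i := stepQ 26791 Q26791 (allL N26791 (tt N27211 (iv F198595)) (tt N27154 (iv F198216)) (tt N26155 F196820) (tt N25884 F196821) (tt N27126 (iv F198032)) (tt N27411 (iv F199803)) (tt N26154 F196822) (tt N27436 (iv F199920)) (tt N25883 (iv D42718)) (tt N27445 D43372))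
theorem Q26793 : ∀ i, i < 26793 → P i := stepQ 26792 Q26792 (allL N26792 (tt N27216 (iv F198626)) (tt N27164 (iv F198276)) (tt N25888 F196823) (tt N27445 (iv F199960)) (tt N25886 F196824) (tt N27417 (iv F199833)) (tt N26202 F196825) (tt N27437 (iv F199923)) (tt N26201 F196826) (tt N25884 (iv D42719)))
theorem Q26794 : ∀ i, i < 26794 → P i := stepQ 26793 Q26793 (allL N26793 (tt N27341 (iv F199446)) (tt N27322 (iv F199321)) (tt N25889 F196827) (tt N27441 (iv F199942)) (tt N25885 (iv D42720)) (tt N27231 (iv F198728)) (tt N27317 (iv F199295)) (tt N25949 F196828) (tt N25887 F196829) (tt N27446 D43373))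
theorem Q26795 : ∀ i, i < 26795 → P i := stepQ 26794 Q26794 (allL N26794 (tt N27340 (iv F199438)) (tt N27323 (iv F199327)) (tt N25891 F196830) (tt N27396 (iv F199745)) (tt N27446 (iv F199964)) (tt N25886 F196831) (tt N27312 (iv F199258)) (tt N27255 (iv F198901)) (tt N27254 (iv F198893)) (tt N25885 (iv D42721)))
theorem Q26796 : ∀ i, i < 26796 → P i := stepQ 26795 Q26795 (allL N26795 (tt N27320 (iv F199305)) (tt N25900 F196832) (tt N27317 (iv F199293)) (tt N25942 F196833) (tt N25890 F196834) (tt N27447 D43374) (tt N25889 (iv D42722)) (tt N27302 (iv F199211)) (tt N25892 F196835) (tt N27448 D43375))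
theorem Q26797 : ∀ i, i < 26797 → P i := stepQ 26796 Q26796 (allL N26796 (tt N27342 (iv F199454)) (tt N25901 F196836) (tt N27446 (iv F199963)) (tt N25943 F196837) (tt N25891 F196838) (tt N27233 (iv F198740)) (tt N27448 (iv F199973)) (tt N25950 F196839) (tt N27449 D43376) (tt N25889 (iv D42723)))
theorem Q26798 : ∀ i, i < 26798 → P i := stepQ 26797 Q26797 (allL N26797 (tt N27313 (iv F199261)) (tt N25903 F196840) (tt N27312 (iv F199255)) (tt N25896 F196841) (tt N27448 (iv F199972)) (tt N26175 F196842) (tt N25891 F196843) (tt N27301 (iv F199203)) (tt N27300 (iv F199196)) (tt N25890 (iv D42724)))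
theorem Q26799 : ∀ i, i < 26799 → P i := stepQ 26798 Q26798 (allL N26798 (tt N27087 (iv F197765)) (tt N25904 F196844) (tt N27254 (iv F198888)) (tt N25897 F196845) (tt N27449 (iv F199976)) (tt N25933 F196846) (tt N27300 (iv F199194)) (tt N27250 (iv F198859)) (tt N25891 (iv D42725)) (tt N25894 F196847))
theorem Q26800 : ∀ i, i < 26800 → P i := stepQ 26799 Q26799 (allL N26799 (tt N27088 (iv F197773)) (tt N25906 F196848) (tt N27251 (iv F198863)) (tt N25946 F196849) (tt N25894 F196850) (tt N27172 (iv F198331)) (tt N27297 (iv F199175)) (tt N25952 F196851) (tt N25893 (iv D42726)) (tt N27449 (iv F199978)))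
theorem Q26801 : ∀ i, i < 26801 → P i := stepQ 26800 Q26800 (allL N26800 (tt N26096 F196852) (tt N25907 F196853) (tt N25925 F196854) (tt N27301 (iv F199200)) (tt N27349 (iv F199506)) (tt N26287 F196855) (tt N26115 F196856) (tt N25896 F196857) (tt N25924 F196858) (tt N25895 (iv D42727)))
theorem Q26802 : ∀ i, i < 26802 → P i := stepQ 26801 Q26801 (allL N26801 (tt N26290 F196859) (tt N27418 (iv F199835)) (tt N27327 (iv F199356)) (tt N27251 (iv F198864)) (tt N27429 (iv F199892)) (tt N27144 (iv F198152)) (tt N27304 (iv F199219)) (tt N25898 (iv D42728)) (tt N25911 F196860) (tt N27450 D43377))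
theorem Q26803 : ∀ i, i < 26803 → P i := stepQ 26802 Q26802 (allL N26802 (tt N26291 F196861) (tt N27419 (iv F199840)) (tt N27328 (iv F199362)) (tt N27252 (iv F198872)) (tt N27430 (iv F199897)) (tt N27145 (iv F198158)) (tt N25899 F196862) (tt N27450 (iv F199980)) (tt N27442 (iv F199948)) (tt N25898 (iv D42729)))
theorem Q26804 : ∀ i, i < 26804 → P i := stepQ 26803 Q26803 (allL N26803 (tt N26292 F196863) (tt N27447 (iv F199966)) (tt N27329 (iv F199369)) (tt N26002 F196864) (tt N27149 (iv F198185)) (tt N25900 (iv D42730)) (tt N27428 (iv F199888)) (tt N27451 D43378) (tt N26803 F196865) (tt N27452 D43379))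
theorem Q26805 : ∀ i, i < 26805 → P i := stepQ 26804 Q26804 (allL N26804 (tt N26293 F196866) (tt N27302 (iv F199206)) (tt N27330 (iv F199374)) (tt N26003 F196867) (tt N25902 F196868) (tt N27451 (iv F199983)) (tt N26041 F196869) (tt N25900 (iv D42731)) (tt N25905 F196870) (tt N27453 D43380))
theorem Q26806 : ∀ i, i < 26806 → P i := stepQ 26805 Q26805 (allL N26805 (tt N26294 F196871) (tt N27448 (iv F199970)) (tt N27331 (iv F199380)) (tt N26004 F196872) (tt N25903 F196873) (tt N27452 (iv F199987)) (tt N25901 F196874) (tt N27453 (iv F199992)) (tt N27392 (iv F199726)) (tt N25900 (iv D42732)))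
theorem Q26807 : ∀ i, i < 26807 → P i := stepQ 26806 Q26806 (allL N26806 (tt N26295 F196875) (tt N27449 (iv F199974)) (tt N27332 (iv F199385)) (tt N26005 F196876) (tt N25904 F196877) (tt N27248 (iv F198839)) (tt N27392 (iv F199725)) (tt N26043 F196878) (tt N25901 (iv D42733)) (tt N25906 F196879))
theorem Q26808 : ∀ i, i < 26808 → P i := stepQ 26807 Q26807 (allL N26807 (tt N26296 F196880) (tt N27301 (iv F199198)) (tt N27333 (iv F199393)) (tt N25907 F196881) (tt N27453 (iv F199990)) (tt N27152 (iv F198203)) (tt N27256 (iv F198909)) (tt N25903 F196882) (tt N27293 (iv F199149)) (tt N25902 (iv D42734)))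
theorem Q26809 : ∀ i, i < 26809 → P i := stepQ 26808 Q26808 (allL N26808 (tt N26299 F196883) (tt N26106 F196884) (tt N25915 F196885) (tt N26053 F196886) (tt N26808 F196887) (tt N27424 (iv F199869)) (tt N26808 F196888) (tt N25913 (iv D42735)) (tt N26052 F196889) (tt N27108 (iv F197922)))
theorem Q26810 : ∀ i, i < 26810 → P i := stepQ 26809 Q26809 (allL N26809 (tt N27106 F197905) (tt N27108 (iv F197916)) (tt N25918 F196890) (tt N25992 F196891) (tt N26809 F196892) (tt N27391 (iv F199720)) (tt N26809 F196893) (tt N25917 (iv D42736)) (tt N26051 F196894) (tt N26106 F196895))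
theorem Q26811 : ∀ i, i < 26811 → P i := stepQ 26810 Q26810 (allL N26810 (tt N27294 (iv F199150)) (tt N25922 F196896) (tt N26272 F196897) (tt N26165 F196898) (tt N25920 F196899) (tt N27373 (iv F199643)) (tt N26089 F196900) (tt N27345 (iv F199481)) (tt N25919 (iv D42737)) (tt N27454 D43381))
theorem Q26812 : ∀ i, i < 26812 → P i := stepQ 26811 Q26811 (allL N26811 (tt N27363 (iv F199583)) (tt N25923 F196901) (tt N26269 F196902) (tt N25921 F196903) (tt N27454 (iv F199996)) (tt N27293 (iv F199146)) (tt N26090 F196904) (tt N27346 (iv F199488)) (tt N26261 F196905) (tt N25920 (iv D42738)))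
theorem Q26813 : ∀ i, i < 26813 → P i := stepQ 26812 Q26812 (allL N26812 (tt N27357 (iv F199548)) (tt N27373 (iv F199640)) (tt N25947 F196906) (tt N27343 (iv F199463)) (tt N27296 (iv F199167)) (tt N25922 (iv D42739)) (tt N27141 (iv F198132)) (tt N27347 (iv F199493)) (tt N26812 F196907) (tt N27455 D43382))
theorem Q26814 : ∀ i, i < 26814 → P i := stepQ 26813 Q26813 (allL N26813 (tt N27358 (iv F199555)) (tt N27454 (iv F199993)) (tt N25948 F196908) (tt N27344 (iv F199470)) (tt N25923 F196909) (tt N27455 (iv F200000)) (tt N26092 F196910) (tt N27348 (iv F199500)) (tt N27369 (iv F199619)) (tt N25922 (iv D42740)))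
theorem Q26815 : ∀ i, i < 26815 → P i := stepQ 26814 Q26814 (allL N26814 (tt N25949 F196911) (tt N26008 F196912) (tt N25928 F196913) (tt N26279 F196914) (tt N25927 F196915) (tt N27352 (iv F199527)) (tt N26073 F196916) (tt N27341 (iv F199451)) (tt N25926 (iv D42741)) (tt N27456 D43383))
theorem Q26816 : ∀ i, i < 26816 → P i := stepQ 26815 Q26815 (allL N26815 (tt N27255 (iv F198894)) (tt N26009 F196917) (tt N25929 F196918) (tt N26269 F196919) (tt N27456 (iv F200005)) (tt N27339 (iv F199434)) (tt N26071 F196920) (tt N27340 (iv F199443)) (tt N26070 F196921) (tt N25927 (iv D42742)))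
theorem Q26817 : ∀ i, i < 26817 → P i := stepQ 26816 Q26816 (allL N26816 (tt N25950 F196922) (tt N25931 F196923) (tt N27456 (iv F200003)) (tt N25936 F196924) (tt N25929 F196925) (tt N27353 (iv F199534)) (tt N26187 F196926) (tt N27342 (iv F199458)) (tt N27439 (iv F199936)) (tt N25928 (iv D42743)))
theorem Q26818 : ∀ i, i < 26818 → P i := stepQ 26817 Q26817 (allL N26817 (tt N26212 F196927) (tt N27155 (iv F198222)) (tt N26016 F196928) (tt N26036 F196929) (tt N27241 (iv F198789)) (tt N26191 F196930) (tt N25930 (iv D42744)) (tt N27457 D43384) (tt N25934 F196931) (tt N27458 D43385))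
theorem Q26819 : ∀ i, i < 26819 → P i := stepQ 26818 Q26818 (allL N26818 (tt N26213 F196932) (tt N27353 (iv F199531)) (tt N26017 F196933) (tt N26030 F196934) (tt N27242 (iv F198795)) (tt N25931 F196935) (tt N27458 (iv F200017)) (tt N27288 (iv F199111)) (tt N26027 F196936) (tt N25930 (iv D42745)))
theorem Q26820 : ∀ i, i < 26820 → P i := stepQ 26819 Q26819 (allL N26819 (tt N26217 F196937) (tt N27174 (iv F198342)) (tt N26058 F196938) (tt N26035 F196939) (tt N27191 (iv F198468)) (tt N25935 F196940) (tt N27184 (iv F198420)) (tt N25934 (iv D42746)) (tt N27457 (iv F200012)) (tt N26034 F196941))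
theorem Q26821 : ∀ i, i < 26821 → P i := stepQ 26820 Q26820 (allL N26820 (tt N25951 F196942) (tt N27090 (iv F197790)) (tt N26286 F196943) (tt N27439 (iv F199932)) (tt N25937 F196944) (tt N26045 F196945) (tt N26278 F196946) (tt N27372 (iv F199638)) (tt N25936 (iv D42747)) (tt N25938 F196947))
theorem Q26822 : ∀ i, i < 26822 → P i := stepQ 26821 Q26821 (allL N26821 (tt N27368 (iv F199604)) (tt N27135 (iv F198090)) (tt N27347 (iv F199491)) (tt N27219 (iv F198650)) (tt N27307 (iv F199233)) (tt N25940 (iv D42748)) (tt N27435 (iv F199916)) (tt N25947 F196948) (tt N26821 F196949) (tt N27459 D43386))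
theorem Q26823 : ∀ i, i < 26823 → P i := stepQ 26822 Q26822 (allL N26822 (tt N27369 (iv F199612)) (tt N27137 (iv F198100)) (tt N27348 (iv F199496)) (tt N27220 (iv F198656)) (tt N25941 F196950) (tt N27459 (iv F200019)) (tt N27091 (iv F197804)) (tt N25948 F196951) (tt N27358 (iv F199561)) (tt N25940 (iv D42749)))
theorem Q26824 : ∀ i, i < 26824 → P i := stepQ 26823 Q26823 (allL N26823 (tt N27370 (iv F199620)) (tt N26002 F196952) (tt N27431 (iv F199900)) (tt N27447 (iv F199967)) (tt N27243 (iv F198801)) (tt N25942 (iv D42750)) (tt N27234 (iv F198745)) (tt N27426 (iv F199878)) (tt N26823 F196953) (tt N27460 D43387))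
theorem Q26825 : ∀ i, i < 26825 → P i := stepQ 26824 Q26824 (allL N26824 (tt N27371 (iv F199627)) (tt N26004 F196954) (tt N27433 (iv F199907)) (tt N27448 (iv F199971)) (tt N25944 F196955) (tt N27460 (iv F200022)) (tt N25943 F196956) (tt N27427 (iv F199885)) (tt N27399 (iv F199758)) (tt N25942 (iv D42751)))
theorem Q26826 : ∀ i, i < 26826 → P i := stepQ 26825 Q26825 (allL N26825 (tt N27372 (iv F199633)) (tt N26005 F196957) (tt N27444 (iv F199954)) (tt N27449 (iv F199975)) (tt N25945 F196958) (tt N27171 (iv F198323)) (tt N27399 (iv F199757)) (tt N25951 F196959) (tt N25943 (iv D42752)) (tt N25946 F196960))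
theorem Q26827 : ∀ i, i < 26827 → P i := stepQ 26826 Q26826 (allL N26826 (tt N27207 (iv F198572)) (tt N26264 F196961) (tt N27141 (iv F198129)) (tt N27376 (iv F199651)) (tt N27178 (iv F198375)) (tt N26146 F196962) (tt N25947 (iv D42753)) (tt N27461 D43388) (tt N26826 F196963) (tt N27462 D43389))
theorem Q26828 : ∀ i, i < 26828 → P i := stepQ 26827 Q26827 (allL N26827 (tt N27440 (iv F199937)) (tt N27136 (iv F198095)) (tt N27455 (iv F199999)) (tt N27377 (iv F199655)) (tt N27308 (iv F199237)) (tt N25948 F196964) (tt N27462 (iv F200029)) (tt N27459 (iv F200020)) (tt N27463 D43390) (tt N25947 (iv D42754)))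
theorem Q26829 : ∀ i, i < 26829 → P i := stepQ 26828 Q26828 (allL N26828 (tt N27456 (iv F200001)) (tt N27422 (iv F199855)) (tt N25950 F196965) (tt N27442 (iv F199946)) (tt N27255 (iv F198898)) (tt N27386 (iv F199696)) (tt N27253 (iv F198883)) (tt N27446 (iv F199965)) (tt N27252 (iv F198876)) (tt N25949 (iv D42755)))
theorem Q26830 : ∀ i, i < 26830 → P i := stepQ 26829 Q26829 (allL N26829 (tt N27439 (iv F199929)) (tt N26043 F196966) (tt N27252 (iv F198871)) (tt N25951 F196967) (tt N27250 (iv F198856)) (tt N27168 (iv F198304)) (tt N27249 (iv F198849)) (tt N27449 (iv F199977)) (tt N25950 (iv D42756)) (tt N25952 F196968))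
theorem Q26831 : ∀ i, i < 26831 → P i := stepQ 26830 Q26830 (allL N26830 (tt N27204 (iv F198552)) (tt N25956 F196969) (tt N27150 (iv F198189)) (tt N26137 F196970) (tt N25954 F196971) (tt N27464 D43391) (tt N25985 F196972) (tt N26134 F196973) (tt N25953 (iv D42757)) (tt N27465 D43392))
theorem Q26832 : ∀ i, i < 26832 → P i := stepQ 26831 Q26831 (allL N26831 (tt N27203 (iv F198544)) (tt N25958 F196974) (tt N27152 (iv F198201)) (tt N25955 F196975) (tt N27465 (iv F200037)) (tt N27333 (iv F199395)) (tt N25986 F196976) (tt N26224 F196977) (tt N26223 F196978) (tt N25954 (iv D42758)))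
theorem Q26833 : ∀ i, i < 26833 → P i := stepQ 26832 Q26832 (allL N26832 (tt N27092 (iv F197807)) (tt N27464 (iv F200031)) (tt N27350 (iv F199512)) (tt N27180 (iv F198390)) (tt N27466 D43393) (tt N25956 (iv D42759)) (tt N27467 D43394) (tt N26225 F196979) (tt N26832 F196980) (tt N27468 D43395))
theorem Q26834 : ∀ i, i < 26834 → P i := stepQ 26833 Q26833 (allL N26833 (tt N27093 (iv F197813)) (tt N27465 (iv F200035)) (tt N27351 (iv F199517)) (tt N27181 (iv F198396)) (tt N25958 F196981) (tt N27468 (iv F200046)) (tt N25994 F196982) (tt N26226 F196983) (tt N27179 (iv F198386)) (tt N25956 (iv D42760)))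
theorem Q26835 : ∀ i, i < 26835 → P i := stepQ 26834 Q26834 (allL N26834 (tt N27094 (iv F197821)) (tt N27330 (iv F199373)) (tt N27124 (iv F198016)) (tt N27469 D43396) (tt N25957 (iv D42761)) (tt N27466 (iv F200041)) (tt N27105 (iv F197897)) (tt N26227 F196984) (tt N25959 F196985) (tt N27470 D43397))
theorem Q26836 : ∀ i, i < 26836 → P i := stepQ 26835 Q26835 (allL N26835 (tt N27095 (iv F197827)) (tt N27333 (iv F199392)) (tt N27118 (iv F197976)) (tt N25962 F196986) (tt N27470 (iv F200051)) (tt N25958 F196987) (tt N27101 (iv F197872)) (tt N26228 F196988) (tt N27100 (iv F197866)) (tt N25957 (iv D42762)))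
theorem Q26837 : ∀ i, i < 26837 → P i := stepQ 26836 Q26836 (allL N26836 (tt N27096 (iv F197835)) (tt N27321 (iv F199313)) (tt N27471 D43398) (tt N25959 (iv D42763)) (tt N25963 F196989) (tt N26836 F196990) (tt N27104 (iv F197891)) (tt N26229 F196991) (tt N27469 (iv F200050)) (tt N27103 F197885))
theorem Q26838 : ∀ i, i < 26838 → P i := stepQ 26837 Q26837 (allL N26837 (tt N27097 (iv F197842)) (tt N27336 (iv F199415)) (tt N27472 D43399) (tt N25960 (iv D42764)) (tt N27469 (iv F200048)) (tt N27185 (iv F198425)) (tt N27473 D43400) (tt N26231 F196992) (tt N25963 F196993) (tt N27474 D43401))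
theorem Q26839 : ∀ i, i < 26839 → P i := stepQ 26838 Q26838 (allL N26838 (tt N27098 (iv F197847)) (tt N27271 (iv F199011)) (tt N25971 F196994) (tt N27473 (iv F200060)) (tt N25961 F196995) (tt N27475 D43402) (tt N25960 (iv D42765)) (tt N27260 (iv F198942)) (tt N25964 F196996) (tt N27476 D43403))
theorem Q26840 : ∀ i, i < 26840 → P i := stepQ 26839 Q26839 (allL N26839 (tt N27099 (iv F197853)) (tt N27338 (iv F199425)) (tt N25972 F196997) (tt N27474 (iv F200062)) (tt N25962 F196998) (tt N27187 (iv F198438)) (tt N27476 (iv F200069)) (tt N26232 F196999) (tt N27477 D43404) (tt N25960 (iv D42766)))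
theorem Q26841 : ∀ i, i < 26841 → P i := stepQ 26840 Q26840 (allL N26840 (tt N27100 (iv F197859)) (tt N27274 (iv F199028)) (tt N25974 F197000) (tt N27101 (iv F197870)) (tt N27476 (iv F200068)) (tt N25999 F197001) (tt N25962 F197002) (tt N27262 (iv F198956)) (tt N27095 (iv F197834)) (tt N25961 (iv D42767)))
theorem Q26842 : ∀ i, i < 26842 → P i := stepQ 26841 Q26841 (allL N26841 (tt N27101 (iv F197867)) (tt N27339 (iv F199431)) (tt N25975 F197003) (tt N27100 (iv F197862)) (tt N27477 (iv F200071)) (tt N26009 F197004) (tt N27095 (iv F197832)) (tt N26233 F197005) (tt N25962 (iv D42768)) (tt N25966 F197006))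
theorem Q26843 : ∀ i, i < 26843 → P i := stepQ 26842 Q26842 (allL N26842 (tt N27102 (iv F197875)) (tt N27478 D43405) (tt N25963 (iv D42769)) (tt N25976 F197007) (tt N27471 (iv F200054)) (tt N25967 F197008) (tt N27479 D43406) (tt N26234 F197009) (tt N27472 (iv F200059)) (tt N27480 D43407))
theorem Q26844 : ∀ i, i < 26844 → P i := stepQ 26843 Q26843 (allL N26843 (tt N27103 (iv F197879)) (tt N27276 (iv F199044)) (tt N27479 (iv F200079)) (tt N25964 F197010) (tt N27104 (iv F197889)) (tt N26843 F197011) (tt N25963 (iv D42770)) (tt N27206 (iv F198570)) (tt N27473 (iv F200061)) (tt N27096 (iv F197841)))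
theorem Q26845 : ∀ i, i < 26845 → P i := stepQ 26844 Q26844 (allL N26844 (tt N27104 (iv F197886)) (tt N27190 F198461) (tt N27480 (iv F200083)) (tt N25965 F197012) (tt N27103 (iv F197882)) (tt N25968 F197013) (tt N27096 (iv F197839)) (tt N26235 F197014) (tt N27481 D43408) (tt N25963 (iv D42771)))
theorem Q26846 : ∀ i, i < 26846 → P i := stepQ 26845 Q26845 (allL N26845 (tt N27105 (iv F197893)) (tt N27195 (iv F198494)) (tt N25980 F197015) (tt N27481 (iv F200087)) (tt N25966 F197016) (tt N27482 D43409) (tt N27094 (iv F197824)) (tt N26236 F197017) (tt N25965 (iv D42772)) (tt N27477 (iv F200073)))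
theorem Q26847 : ∀ i, i < 26847 → P i := stepQ 26846 Q26846 (allL N26846 (tt N27108 (iv F197915)) (tt N25967 (iv D42773)) (tt N26300 F197018) (tt N25969 F197019) (tt N26846 F197020) (tt N27478 (iv F200076)) (tt N26846 F197021) (tt N26237 F197022) (tt N25968 F197023) (tt N26299 (iv F197024)))
theorem Q26848 : ∀ i, i < 26848 → P i := stepQ 26847 Q26847 (allL N26847 (tt N27107 (iv F197907)) (tt N26299 F197025) (tt N25968 F197026) (tt N25981 F197027) (tt N26847 F197028) (tt N27480 (iv F200085)) (tt N26847 F197029) (tt N26238 F197030) (tt N26300 F197031) (tt N25967 (iv D42774)))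
theorem Q26849 : ∀ i, i < 26849 → P i := stepQ 26848 Q26848 (allL N26848 (tt N27109 (iv F197923)) (tt N25976 F197032) (tt N25982 F197033) (tt N27478 (iv F200075)) (tt N26056 F197034) (tt N25969 (iv D42775)) (tt N27410 (iv F199800)) (tt N26239 F197035) (tt N27482 (iv F200093)) (tt N27194 (iv F198492)))
theorem Q26850 : ∀ i, i < 26850 → P i := stepQ 26849 Q26849 (allL N26849 (tt N27110 (iv F197930)) (tt N27482 (iv F200089)) (tt N25970 (iv D42776)) (tt N27472 (iv F200057)) (tt N27352 (iv F199526)) (tt N27195 (iv F198496)) (tt N27483 D43410) (tt N26240 F197036) (tt N25976 F197037) (tt N27484 D43411))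
theorem Q26851 : ∀ i, i < 26851 → P i := stepQ 26850 Q26850 (allL N26850 (tt N27111 (iv F197935)) (tt N27241 (iv F198786)) (tt N27483 (iv F200094)) (tt N25971 F197038) (tt N27155 F198226) (tt N27485 D43412) (tt N25970 (iv D42777)) (tt N27486 D43413) (tt N25977 F197039) (tt N27487 D43414))
theorem Q26852 : ∀ i, i < 26852 → P i := stepQ 26851 Q26851 (allL N26851 (tt N27112 (iv F197940)) (tt N27242 (iv F198792)) (tt N27484 (iv F200096)) (tt N25972 F197040) (tt N27353 (iv F199533)) (tt N27197 (iv F198511)) (tt N27487 (iv F200104)) (tt N26242 F197041) (tt N27488 D43415) (tt N25970 (iv D42778)))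
theorem Q26853 : ∀ i, i < 26853 → P i := stepQ 26852 Q26852 (allL N26852 (tt N27113 (iv F197946)) (tt N27243 (iv F198800)) (tt N27475 (iv F200064)) (tt N27485 (iv F200098)) (tt N26002 F197042) (tt N25971 (iv D42779)) (tt N27198 (iv F198517)) (tt N27489 D43416) (tt N26852 F197043) (tt N27490 D43417))
theorem Q26854 : ∀ i, i < 26854 → P i := stepQ 26853 Q26853 (allL N26853 (tt N27114 (iv F197951)) (tt N27186 (iv F198429)) (tt N27260 (iv F198940)) (tt N27486 (iv F200100)) (tt N25973 F197044) (tt N27489 (iv F200111)) (tt N26243 F197045) (tt N25971 (iv D42780)) (tt N25979 F197046) (tt N27491 D43418))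
theorem Q26855 : ∀ i, i < 26855 → P i := stepQ 26854 Q26854 (allL N26854 (tt N27115 (iv F197957)) (tt N27244 (iv F198805)) (tt N27476 (iv F200067)) (tt N27487 (iv F200103)) (tt N25974 F197047) (tt N27490 (iv F200114)) (tt N25972 F197048) (tt N27491 (iv F200117)) (tt N27379 (iv F199665)) (tt N25971 (iv D42781)))
theorem Q26856 : ∀ i, i < 26856 → P i := stepQ 26855 Q26855 (allL N26855 (tt N27116 (iv F197961)) (tt N26020 F197049) (tt N27477 (iv F200070)) (tt N27488 (iv F200106)) (tt N25975 F197050) (tt N27492 D43419) (tt N27379 (iv F199664)) (tt N26245 F197051) (tt N25972 (iv D42782)) (tt N25980 F197052))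
theorem Q26857 : ∀ i, i < 26857 → P i := stepQ 26856 Q26856 (allL N26856 (tt N27117 (iv F197966)) (tt N27188 (iv F198441)) (tt N27262 (iv F198952)) (tt N27228 (iv F198710)) (tt N27491 (iv F200115)) (tt N26006 F197053) (tt N26246 F197054) (tt N25974 F197055) (tt N27222 (iv F198674)) (tt N25973 (iv D42783)))
theorem Q26858 : ∀ i, i < 26858 → P i := stepQ 26857 Q26857 (allL N26857 (tt N27120 (iv F197988)) (tt N27410 (iv F199797)) (tt N25977 F197056) (tt N27479 (iv F200080)) (tt N27173 F198340) (tt N26857 F197057) (tt N25976 (iv D42784)) (tt N27493 D43420) (tt N27483 (iv F200095)) (tt N27380 (iv F199670)))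
theorem Q26859 : ∀ i, i < 26859 → P i := stepQ 26858 Q26858 (allL N26858 (tt N27121 (iv F197993)) (tt N27194 (iv F198487)) (tt N25978 F197058) (tt N27480 (iv F200084)) (tt N26014 F197059) (tt N25981 F197060) (tt N27380 (iv F199669)) (tt N26249 F197061) (tt N27494 D43421) (tt N25976 (iv D42785)))
theorem Q26860 : ∀ i, i < 26860 → P i := stepQ 26859 Q26859 (allL N26859 (tt N27122 (iv F198000)) (tt N27191 (iv F198465)) (tt N27493 (iv F200122)) (tt N25979 F197062) (tt N27174 (iv F198344)) (tt N26859 F197063) (tt N26250 F197064) (tt N25977 (iv D42786)) (tt N27486 (iv F200102)) (tt N27223 (iv F198681)))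
theorem Q26861 : ∀ i, i < 26861 → P i := stepQ 26860 Q26860 (allL N26860 (tt N27123 (iv F198007)) (tt N26018 F197065) (tt N27494 (iv F200125)) (tt N25980 F197066) (tt N26012 F197067) (tt N27264 (iv F198971)) (tt N27378 (iv F199660)) (tt N26252 F197068) (tt N25978 (iv D42787)) (tt N27488 (iv F200109)))
theorem Q26862 : ∀ i, i < 26862 → P i := stepQ 26861 Q26861 (allL N26861 (tt N27125 (iv F198021)) (tt N26015 F197069) (tt N27482 (iv F200090)) (tt N27264 (iv F198969)) (tt N26010 F197070) (tt N25980 (iv D42788)) (tt N27408 (iv F199792)) (tt N26255 F197071) (tt N25982 F197072) (tt N27492 (iv F200121)))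
theorem Q26863 : ∀ i, i < 26863 → P i := stepQ 26862 Q26862 (allL N26862 (tt N27192 (iv F198472)) (tt N26288 F197073) (tt N26204 F197074) (tt N25983 (iv D42789)) (tt N27134 (iv F198085)) (tt N26052 F197075) (tt N27153 (iv F198213)) (tt N26007 F197076) (tt N27495 D43422) (tt N26161 F197077))
theorem Q26864 : ∀ i, i < 26864 → P i := stepQ 26863 Q26863 (allL N26863 (tt N27193 (iv F198480)) (tt N27341 (iv F199447)) (tt N25985 F197078) (tt N27495 (iv F200131)) (tt N25984 F197079) (tt N27496 D43423) (tt N27150 (iv F198191)) (tt N26008 F197080) (tt N25983 (iv D42790)) (tt N27497 D43424))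
theorem Q26865 : ∀ i, i < 26865 → P i := stepQ 26864 Q26864 (allL N26864 (tt N27189 (iv F198448)) (tt N27340 (iv F199439)) (tt N25986 F197081) (tt N27133 (iv F198076)) (tt N27497 (iv F200139)) (tt N26233 F197082) (tt N27152 (iv F198204)) (tt N26009 F197083) (tt N26160 F197084) (tt N25984 (iv D42791)))
theorem Q26866 : ∀ i, i < 26866 → P i := stepQ 26865 Q26865 (allL N26865 (tt N27205 (iv F198559)) (tt N25993 F197085) (tt N27496 (iv F200134)) (tt N26205 F197086) (tt N26255 F197087) (tt N25985 (iv D42792)) (tt N27498 D43425) (tt N26010 F197088) (tt N26054 F197089) (tt N27499 D43426))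
theorem Q26867 : ∀ i, i < 26867 → P i := stepQ 26866 Q26866 (allL N26866 (tt N27201 (iv F198530)) (tt N25994 F197090) (tt N27497 (iv F200138)) (tt N26207 F197091) (tt N25986 F197092) (tt N27499 (iv F200149)) (tt N27465 (iv F200038)) (tt N26011 F197093) (tt N26222 F197094) (tt N25985 (iv D42793)))
theorem Q26868 : ∀ i, i < 26868 → P i := stepQ 26867 Q26867 (allL N26867 (tt N27165 (iv F198281)) (tt N25995 F197095) (tt N27500 D43427) (tt N25987 (iv D42794)) (tt N26252 F197096) (tt N26041 F197097) (tt N27501 D43428) (tt N26012 F197098) (tt N25990 F197099) (tt N27502 D43429))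
theorem Q26869 : ∀ i, i < 26869 → P i := stepQ 26868 Q26868 (allL N26868 (tt N27169 (iv F198307)) (tt N25996 F197100) (tt N27235 (iv F198749)) (tt N27501 (iv F200156)) (tt N25988 F197101) (tt N27503 D43430) (tt N25987 (iv D42795)) (tt N27225 (iv F198691)) (tt N25991 F197102) (tt N27504 D43431))
theorem Q26870 : ∀ i, i < 26870 → P i := stepQ 26869 Q26869 (allL N26869 (tt N27170 (iv F198313)) (tt N25997 F197103) (tt N27389 (iv F199707)) (tt N27502 (iv F200160)) (tt N25989 F197104) (tt N26044 F197105) (tt N27504 (iv F200170)) (tt N26013 F197106) (tt N26109 F197107) (tt N25987 (iv D42796)))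
theorem Q26871 : ∀ i, i < 26871 → P i := stepQ 26870 Q26870 (allL N26870 (tt N27238 (iv F198765)) (tt N25999 F197108) (tt N27237 (iv F198759)) (tt N26247 F197109) (tt N27504 (iv F200169)) (tt N27274 (iv F199031)) (tt N25989 F197110) (tt N27227 (iv F198705)) (tt N26111 F197111) (tt N25988 (iv D42797)))
theorem Q26872 : ∀ i, i < 26872 → P i := stepQ 26871 Q26871 (allL N26871 (tt N27119 (iv F197982)) (tt N27109 (iv F197924)) (tt N25990 (iv D42798)) (tt N27391 (iv F199719)) (tt N26249 F197112) (tt N25992 F197113) (tt N27505 D43432) (tt N26014 F197114) (tt N27500 (iv F200154)) (tt N26112 F197115))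
theorem Q26873 : ∀ i, i < 26873 → P i := stepQ 26872 Q26872 (allL N26872 (tt N27175 (iv F198348)) (tt N26000 F197116) (tt N27505 (iv F200173)) (tt N25991 F197117) (tt N26251 F197118) (tt N26872 F197119) (tt N25990 (iv D42799)) (tt N27230 (iv F198724)) (tt N27501 (iv F200158)) (tt N26113 F197120))
theorem Q26874 : ∀ i, i < 26874 → P i := stepQ 26873 Q26873 (allL N26873 (tt N27126 (iv F198028)) (tt N27498 (iv F200142)) (tt N27209 F198588) (tt N27335 (iv F199410)) (tt N27211 (iv F198597)) (tt N27467 (iv F200044)) (tt N25993 (iv D42800)) (tt N27506 D43433) (tt N26055 F197121) (tt N27507 D43434))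
theorem Q26875 : ∀ i, i < 26875 → P i := stepQ 26874 Q26874 (allL N26874 (tt N27127 (iv F198034)) (tt N27499 (iv F200146)) (tt N27288 (iv F199107)) (tt N27332 (iv F199386)) (tt N27289 (iv F199117)) (tt N25994 F197122) (tt N27507 (iv F200180)) (tt N26017 F197123) (tt N27311 (iv F199251)) (tt N25993 (iv D42801)))
theorem Q26876 : ∀ i, i < 26876 → P i := stepQ 26875 Q26875 (allL N26875 (tt N27128 (iv F198042)) (tt N27501 (iv F200155)) (tt N27319 (iv F199301)) (tt N25996 F197124) (tt N27214 (iv F198617)) (tt N27508 D43435) (tt N25995 (iv D42802)) (tt N27509 D43436) (tt N26000 F197125) (tt N27510 D43437))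
theorem Q26877 : ∀ i, i < 26877 → P i := stepQ 26876 Q26876 (allL N26876 (tt N27129 (iv F198048)) (tt N27502 (iv F200159)) (tt N27311 (iv F199247)) (tt N25997 F197126) (tt N27290 (iv F199125)) (tt N27299 (iv F199186)) (tt N27510 (iv F200187)) (tt N26027 F197127) (tt N27288 (iv F199112)) (tt N25995 (iv D42803)))
theorem Q26878 : ∀ i, i < 26878 → P i := stepQ 26877 Q26877 (allL N26877 (tt N27130 (iv F198056)) (tt N27503 (iv F200165)) (tt N26002 F197128) (tt N27508 (iv F200181)) (tt N27475 (iv F200065)) (tt N25996 (iv D42804)) (tt N27426 (iv F199877)) (tt N27511 D43438) (tt N26877 F197129) (tt N27512 D43439))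
theorem Q26879 : ∀ i, i < 26879 → P i := stepQ 26878 Q26878 (allL N26878 (tt N27131 (iv F198061)) (tt N27225 (iv F198688)) (tt N26003 F197130) (tt N27509 (iv F200183)) (tt N25998 F197131) (tt N27511 (iv F200189)) (tt N26028 F197132) (tt N25996 (iv D42805)) (tt N26001 F197133) (tt N27513 D43440))
theorem Q26880 : ∀ i, i < 26880 → P i := stepQ 26879 Q26879 (allL N26879 (tt N27132 (iv F198067)) (tt N27504 (iv F200168)) (tt N26004 F197134) (tt N27510 (iv F200186)) (tt N25999 F197135) (tt N27512 (iv F200192)) (tt N25997 F197136) (tt N27513 (iv F200196)) (tt N27210 (iv F198594)) (tt N25996 (iv D42806)))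
theorem Q26881 : ∀ i, i < 26881 → P i := stepQ 26880 Q26880 (allL N26880 (tt N27133 (iv F198073)) (tt N27227 (iv F198700)) (tt N26006 F197137) (tt N27189 (iv F198451)) (tt N27513 (iv F200194)) (tt N27262 (iv F198954)) (tt N26031 F197138) (tt N25999 F197139) (tt N27183 (iv F198414)) (tt N25998 (iv D42807)))
theorem Q26882 : ∀ i, i < 26882 → P i := stepQ 26881 Q26881 (allL N26881 (tt N27134 (iv F198081)) (tt N27230 (iv F198720)) (tt N27321 (iv F199314)) (tt N26001 F197140) (tt N27192 (iv F198476)) (tt N26881 F197141) (tt N26034 F197142) (tt N26000 (iv D42808)) (tt N27509 (iv F200185)) (tt N27184 (iv F198422)))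
theorem Q26883 : ∀ i, i < 26883 → P i := stepQ 26882 Q26882 (allL N26882 (tt N27135 (iv F198089)) (tt N27426 (iv F199875)) (tt N27511 (iv F200188)) (tt N27451 (iv F199982)) (tt N27489 (iv F200110)) (tt N26003 F197143) (tt N27503 (iv F200166)) (tt N26002 (iv D42809)) (tt N26882 F197144) (tt N27514 D43441))
theorem Q26884 : ∀ i, i < 26884 → P i := stepQ 26883 Q26883 (allL N26883 (tt N27136 (iv F198094)) (tt N27460 (iv F200021)) (tt N27512 (iv F200191)) (tt N27452 (iv F199986)) (tt N27490 (iv F200113)) (tt N26004 F197145) (tt N27432 (iv F199905)) (tt N27514 (iv F200198)) (tt N27515 D43442) (tt N26002 (iv D42810)))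
theorem Q26885 : ∀ i, i < 26885 → P i := stepQ 26884 Q26884 (allL N26884 (tt N27137 (iv F198099)) (tt N27427 (iv F199881)) (tt N27513 (iv F200193)) (tt N27453 (iv F199989)) (tt N26006 F197146) (tt N27514 (iv F200197)) (tt N26044 F197147) (tt N26004 F197148) (tt N27367 (iv F199603)) (tt N26003 (iv D42811)))
theorem Q26886 : ∀ i, i < 26886 → P i := stepQ 26885 Q26885 (allL N26885 (tt N27214 (iv F198613)) (tt N26279 F197149) (tt N26198 F197150) (tt N26008 F197151) (tt N27128 (iv F198046)) (tt N27416 (iv F199829)) (tt N26162 F197152) (tt N27495 (iv F200132)) (tt N26007 (iv D42812)) (tt N27516 D43443))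
theorem Q26887 : ∀ i, i < 26887 → P i := stepQ 26886 Q26886 (allL N26886 (tt N27215 (iv F198620)) (tt N27352 (iv F199524)) (tt N26010 F197153) (tt N27416 (iv F199828)) (tt N27482 (iv F200091)) (tt N26008 (iv D42813)) (tt N27411 (iv F199804)) (tt N27496 (iv F200136)) (tt N26056 F197154) (tt N27517 D43444))
theorem Q26888 : ∀ i, i < 26888 → P i := stepQ 26887 Q26887 (allL N26887 (tt N27213 (iv F198607)) (tt N27456 (iv F200002)) (tt N26011 F197155) (tt N27516 (iv F200202)) (tt N26009 F197156) (tt N27517 (iv F200206)) (tt N26159 F197157) (tt N27497 (iv F200140)) (tt N26158 F197158) (tt N26008 (iv D42814)))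
theorem Q26889 : ∀ i, i < 26889 → P i := stepQ 26888 Q26888 (allL N26888 (tt N27218 (iv F198641)) (tt N26017 F197159) (tt N27517 (iv F200205)) (tt N26206 F197160) (tt N27492 (iv F200119)) (tt N26011 F197161) (tt N27412 (iv F199810)) (tt N27499 (iv F200150)) (tt N27423 (iv F199863)) (tt N26010 (iv D42815)))
theorem Q26890 : ∀ i, i < 26890 → P i := stepQ 26889 Q26889 (allL N26889 (tt N27162 (iv F198264)) (tt N27415 (iv F199822)) (tt N26012 (iv D42816)) (tt N27385 (iv F199692)) (tt N27494 (iv F200126)) (tt N26039 F197162) (tt N27381 (iv F199674)) (tt N27500 (iv F200153)) (tt N26014 F197163) (tt N27518 D43445))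
theorem Q26891 : ∀ i, i < 26891 → P i := stepQ 26890 Q26890 (allL N26890 (tt N27166 (iv F198287)) (tt N26027 F197164) (tt N27518 (iv F200207)) (tt N26013 F197165) (tt N27488 (iv F200107)) (tt N26042 F197166) (tt N27382 (iv F199680)) (tt N27502 (iv F200163)) (tt N27353 (iv F199536)) (tt N26012 (iv D42817)))
theorem Q26892 : ∀ i, i < 26892 → P i := stepQ 26891 Q26891 (allL N26891 (tt N27142 (iv F198134)) (tt N27408 (iv F199790)) (tt N27241 (iv F198787)) (tt N27277 (iv F199054)) (tt N26016 F197167) (tt N27519 D43446) (tt N26015 (iv D42818)) (tt N27520 D43447) (tt N26057 F197168) (tt N27521 D43448))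
theorem Q26893 : ∀ i, i < 26893 → P i := stepQ 26892 Q26892 (allL N26892 (tt N27143 (iv F198140)) (tt N27492 (iv F200118)) (tt N27242 (iv F198793)) (tt N27273 (iv F199022)) (tt N26017 F197169) (tt N26020 F197170) (tt N27521 (iv F200216)) (tt N27289 (iv F199119)) (tt N27269 (iv F199006)) (tt N26015 (iv D42819)))
theorem Q26894 : ∀ i, i < 26894 → P i := stepQ 26893 Q26893 (allL N26893 (tt N27144 (iv F198148)) (tt N27097 (iv F197843)) (tt N27457 (iv F200009)) (tt N26277 F197171) (tt N27520 (iv F200213)) (tt N26290 F197172) (tt N27506 (iv F200178)) (tt N26016 (iv D42820)) (tt N26058 F197173) (tt N27522 D43449))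
theorem Q26895 : ∀ i, i < 26895 → P i := stepQ 26894 Q26894 (allL N26894 (tt N27145 (iv F198154)) (tt N27412 (iv F199807)) (tt N27458 (iv F200014)) (tt N27405 (iv F199778)) (tt N27521 (iv F200215)) (tt N26291 F197174) (tt N26017 F197175) (tt N27522 (iv F200219)) (tt N27523 D43450) (tt N26016 (iv D42821)))
theorem Q26896 : ∀ i, i < 26896 → P i := stepQ 26895 Q26895 (allL N26895 (tt N27146 (iv F198160)) (tt N27423 (iv F199861)) (tt N26027 F197176) (tt N26040 F197177) (tt N27269 (iv F199003)) (tt N27253 (iv F198882)) (tt N27523 (iv F200222)) (tt N27311 (iv F199250)) (tt N26017 (iv D42822)) (tt N26025 F197178))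
theorem Q26897 : ∀ i, i < 26897 → P i := stepQ 26896 Q26896 (allL N26896 (tt N27147 (iv F198168)) (tt N27378 (iv F199658)) (tt N27268 (iv F198996)) (tt N26019 F197179) (tt N26026 F197180) (tt N27524 D43451) (tt N26018 (iv D42823)) (tt N27525 D43452) (tt N26023 F197181) (tt N27526 D43453))
theorem Q26898 : ∀ i, i < 26898 → P i := stepQ 26897 Q26897 (allL N26897 (tt N27148 (iv F198174)) (tt N27488 (iv F200105)) (tt N27269 (iv F199001)) (tt N26020 F197182) (tt N26027 F197183) (tt N27273 (iv F199024)) (tt N27526 (iv F200231)) (tt N27290 (iv F199127)) (tt N27242 (iv F198798)) (tt N26018 (iv D42824)))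
theorem Q26899 : ∀ i, i < 26899 → P i := stepQ 26898 Q26898 (allL N26898 (tt N27149 (iv F198182)) (tt N27375 (iv F199647)) (tt N27278 (iv F199059)) (tt N27524 (iv F200224)) (tt N26292 F197184) (tt N26019 (iv D42825)) (tt N27519 (iv F200210)) (tt N27527 D43454) (tt N26898 F197185) (tt N27528 D43455))
theorem Q26900 : ∀ i, i < 26900 → P i := stepQ 26899 Q26899 (allL N26899 (tt N27150 (iv F198187)) (tt N27221 (iv F198662)) (tt N27204 (iv F198554)) (tt N27525 (iv F200226)) (tt N26021 F197186) (tt N27527 (iv F200233)) (tt N27193 (iv F198484)) (tt N26019 (iv D42826)) (tt N26024 F197187) (tt N27529 D43456))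
theorem Q26901 : ∀ i, i < 26901 → P i := stepQ 26900 Q26900 (allL N26900 (tt N27151 (iv F198193)) (tt N27379 (iv F199662)) (tt N27279 (iv F199064)) (tt N27526 (iv F200229)) (tt N26022 F197188) (tt N27528 (iv F200236)) (tt N26020 F197189) (tt N27529 (iv F200238)) (tt N27244 (iv F198808)) (tt N26019 (iv D42827)))
theorem Q26902 : ∀ i, i < 26902 → P i := stepQ 26901 Q26901 (allL N26901 (tt N27152 (iv F198199)) (tt N27222 (iv F198668)) (tt N27203 (iv F198546)) (tt N26031 F197190) (tt N27529 (iv F200237)) (tt N26296 F197191) (tt N27189 (iv F198453)) (tt N26022 F197192) (tt N27188 (iv F198447)) (tt N26021 (iv D42828)))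
theorem Q26903 : ∀ i, i < 26903 → P i := stepQ 26902 Q26902 (allL N26902 (tt N27153 (iv F198207)) (tt N27223 (iv F198676)) (tt N27276 (iv F199045)) (tt N26024 F197193) (tt N26034 F197194) (tt N26902 F197195) (tt N27192 (iv F198478)) (tt N26023 (iv D42829)) (tt N27525 (iv F200228)) (tt N27191 F198471))
theorem Q26904 : ∀ i, i < 26904 → P i := stepQ 26903 Q26903 (allL N26903 (tt N27154 (iv F198215)) (tt N27414 (iv F199818)) (tt N26026 F197196) (tt N26039 F197197) (tt N27268 (iv F198998)) (tt N27385 (iv F199693)) (tt N26025 (iv D42830)) (tt N27530 D43457) (tt N26033 F197198) (tt N27523 (iv F200223)))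
theorem Q26905 : ∀ i, i < 26905 → P i := stepQ 26904 Q26904 (allL N26904 (tt N27156 (iv F198227)) (tt N27224 (iv F198683)) (tt N27530 (iv F200239)) (tt N26028 F197199) (tt N27525 (iv F200227)) (tt N27387 (iv F199699)) (tt N27509 (iv F200184)) (tt N26026 (iv D42831)) (tt N26034 F197200) (tt N27531 D43458))
theorem Q26906 : ∀ i, i < 26906 → P i := stepQ 26905 Q26905 (allL N26905 (tt N27157 (iv F198231)) (tt N27382 (iv F199677)) (tt N27523 (iv F200220)) (tt N26029 F197201) (tt N27526 (iv F200230)) (tt N27388 (iv F199703)) (tt N26027 F197202) (tt N27531 (iv F200243)) (tt N27458 (iv F200018)) (tt N26026 (iv D42832)))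
theorem Q26907 : ∀ i, i < 26907 → P i := stepQ 26906 Q26906 (allL N26906 (tt N27160 (iv F198250)) (tt N27226 (iv F198694)) (tt N26044 F197203) (tt N27531 (iv F200242)) (tt N26031 F197204) (tt N27389 (iv F199709)) (tt N27513 (iv F200195)) (tt N26029 F197205) (tt N27532 D43459) (tt N26028 (iv D42833)))
theorem Q26908 : ∀ i, i < 26908 → P i := stepQ 26907 Q26907 (allL N26907 (tt N26215 F197206) (tt N27159 (iv F198244)) (tt N26045 F197207) (tt N27458 (iv F200015)) (tt N26032 F197208) (tt N26286 F197209) (tt N26030 F197210) (tt N27532 (iv F200248)) (tt N26029 (iv D42834)) (tt N26036 F197211))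
theorem Q26909 : ∀ i, i < 26909 → P i := stepQ 26908 Q26908 (allL N26908 (tt N26216 F197212) (tt N27228 (iv F198708)) (tt N26047 F197213) (tt N27188 (iv F198443)) (tt N27532 (iv F200246)) (tt N27349 (iv F199507)) (tt N27183 (iv F198412)) (tt N26032 F197214) (tt N26031 (iv D42835)) (tt N26037 F197215))
theorem Q26910 : ∀ i, i < 26910 → P i := stepQ 26909 Q26909 (allL N26909 (tt N27161 (iv F198256)) (tt N27104 (iv F197887)) (tt N26034 F197216) (tt N26048 F197217) (tt N27276 (iv F199047)) (tt N26051 F197218) (tt N27321 (iv F199318)) (tt N26033 (iv D42836)) (tt N27530 (iv F200241)) (tt N26058 F197219))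
theorem Q26911 : ∀ i, i < 26911 → P i := stepQ 26910 Q26910 (allL N26910 (tt N26214 F197220) (tt N27158 (iv F198237)) (tt N26050 F197221) (tt N27457 (iv F200010)) (tt N26037 F197222) (tt N26289 F197223) (tt N27182 (iv F198404)) (tt N26036 F197224) (tt N26035 (iv D42837)) (tt N27532 (iv F200249)))
theorem Q26912 : ∀ i, i < 26912 → P i := stepQ 26911 Q26911 (allL N26911 (tt N27326 (iv F199346)) (tt N26040 F197225) (tt N27422 (iv F199856)) (tt N27423 (iv F199862)) (tt N27259 (iv F198933)) (tt N27420 (iv F199847)) (tt N27413 (iv F199815)) (tt N27325 (iv F199344)) (tt N26206 F197226) (tt N26038 (iv D42838)))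
theorem Q26913 : ∀ i, i < 26913 → P i := stepQ 26912 Q26912 (allL N26912 (tt N27163 (iv F198269)) (tt N27105 (iv F197894)) (tt N26041 F197227) (tt N27530 (iv F200240)) (tt N26257 F197228) (tt N27500 (iv F200152)) (tt N27330 (iv F199376)) (tt N26039 (iv D42839)) (tt N26048 F197229) (tt N27533 D43460))
theorem Q26914 : ∀ i, i < 26914 → P i := stepQ 26913 Q26913 (allL N26913 (tt N27164 (iv F198275)) (tt N27413 (iv F199812)) (tt N26042 F197230) (tt N27523 (iv F200221)) (tt N27267 (iv F198990)) (tt N27518 (iv F200208)) (tt N26040 F197231) (tt N27533 (iv F200252)) (tt N27405 (iv F199783)) (tt N26039 (iv D42840)))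
theorem Q26915 : ∀ i, i < 26915 → P i := stepQ 26914 Q26914 (allL N26914 (tt N27167 (iv F198293)) (tt N27299 (iv F199182)) (tt N27533 (iv F200250)) (tt N26044 F197232) (tt N27256 (iv F198907)) (tt N27502 (iv F200162)) (tt N27453 (iv F199991)) (tt N26042 F197233) (tt N27292 (iv F199141)) (tt N26041 (iv D42841)))
theorem Q26916 : ∀ i, i < 26916 → P i := stepQ 26915 Q26915 (allL N26915 (tt N27168 (iv F198299)) (tt N27249 (iv F198844)) (tt N27405 (iv F199777)) (tt N26045 F197234) (tt N27247 (iv F198830)) (tt N27439 (iv F199934)) (tt N26043 F197235) (tt N27292 (iv F199140)) (tt N26042 (iv D42842)) (tt N26049 F197236))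
theorem Q26917 : ∀ i, i < 26917 → P i := stepQ 26916 Q26916 (allL N26916 (tt N27171 (iv F198319)) (tt N27295 (iv F199158)) (tt N27532 (iv F200245)) (tt N27292 (iv F199138)) (tt N26047 F197237) (tt N27372 (iv F199637)) (tt N27367 (iv F199601)) (tt N26045 F197238) (tt N26044 (iv D42843)) (tt N26050 F197239))
theorem Q26918 : ∀ i, i < 26918 → P i := stepQ 26917 Q26917 (allL N26917 (tt N27194 (iv F198486)) (tt N26112 F197240) (tt N26054 F197241) (tt N27424 (iv F199868)) (tt N26239 F197242) (tt N26053 (iv D42844)) (tt N27534 D43461) (tt N26056 F197243) (tt N27496 (iv F200137)) (tt N27109 (iv F197928)))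
theorem Q26919 : ∀ i, i < 26919 → P i := stepQ 26918 Q26918 (allL N26918 (tt N27206 (iv F198565)) (tt N26055 F197244) (tt N27534 (iv F200255)) (tt N26208 F197245) (tt N26235 F197246) (tt N26918 F197247) (tt N26054 (iv D42845)) (tt N27103 (iv F197884)) (tt N27498 (iv F200145)) (tt N26229 F197248))
theorem Q26920 : ∀ i, i < 26920 → P i := stepQ 26919 Q26919 (allL N26919 (tt N27176 (iv F198355)) (tt N27103 (iv F197880)) (tt N27184 (iv F198417)) (tt N26275 F197249) (tt N27190 (iv F198458)) (tt N26919 F197250) (tt N26058 F197251) (tt N26055 (iv D42846)) (tt N27506 (iv F200179)) (tt N27321 (iv F199319)))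
theorem Q26921 : ∀ i, i < 26921 → P i := stepQ 26920 Q26920 (allL N26920 (tt N27177 (iv F198363)) (tt N27096 (iv F197836)) (tt N27191 (iv F198466)) (tt N26144 F197252) (tt N26058 F197253) (tt N26920 F197254) (tt N27190 F198462) (tt N26057 (iv D42847)) (tt N27520 (iv F200214)) (tt N27276 (iv F199050)))
theorem Q26922 : ∀ i, i < 26922 → P i := stepQ 26921 Q26921 (allL N26921 (tt N27248 (iv F198835)) (tt N26166 F197255) (tt N26258 F197256) (tt N26092 F197257) (tt N26064 F197258) (tt N26295 F197259) (tt N27344 (iv F199472)) (tt N26164 F197260) (tt N26121 F197261) (tt N26063 (iv D42848)))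
theorem Q26923 : ∀ i, i < 26923 → P i := stepQ 26922 Q26922 (allL N26922 (tt N27249 (iv F198843)) (tt N26164 F197262) (tt N26068 F197263) (tt N26278 F197264) (tt N26066 F197265) (tt N26093 F197266) (tt N27439 (iv F199935)) (tt N26166 F197267) (tt N26187 F197268) (tt N26065 (iv D42849)))
theorem Q26924 : ∀ i, i < 26924 → P i := stepQ 26923 Q26923 (allL N26923 (tt N27251 (iv F198861)) (tt N26157 F197269) (tt N27088 (iv F197775)) (tt N26290 F197270) (tt N26069 F197271) (tt N26277 F197272) (tt N26171 F197273) (tt N26067 (iv D42850)) (tt N26072 F197274) (tt N27535 D43462))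
theorem Q26925 : ∀ i, i < 26925 → P i := stepQ 26924 Q26924 (allL N26924 (tt N27252 (iv F198869)) (tt N26158 F197275) (tt N27439 (iv F199931)) (tt N26291 F197276) (tt N26070 F197277) (tt N27405 (iv F199780)) (tt N26068 F197278) (tt N27535 (iv F200264)) (tt N27456 (iv F200007)) (tt N26067 (iv D42851)))
theorem Q26926 : ∀ i, i < 26926 → P i := stepQ 26925 Q26925 (allL N26925 (tt N27253 (iv F198877)) (tt N26159 F197279) (tt N26187 F197280) (tt N26280 F197281) (tt N26071 F197282) (tt N27146 (iv F198165)) (tt N27456 (iv F200006)) (tt N26173 F197283) (tt N26068 (iv D42852)) (tt N26073 F197284))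
theorem Q26927 : ∀ i, i < 26927 → P i := stepQ 26926 Q26926 (allL N26926 (tt N27254 (iv F198886)) (tt N26160 F197285) (tt N27087 (iv F197767)) (tt N26268 F197286) (tt N27535 (iv F200261)) (tt N26218 F197287) (tt N26174 F197288) (tt N26070 F197289) (tt N27340 (iv F199444)) (tt N26069 (iv D42853)))
theorem Q26928 : ∀ i, i < 26928 → P i := stepQ 26927 Q26927 (allL N26927 (tt N27091 (iv F197798)) (tt N26260 F197290) (tt N26211 F197291) (tt N26121 F197292) (tt N26076 F197293) (tt N26267 F197294) (tt N27369 (iv F199617)) (tt N26152 F197295) (tt N26092 F197296) (tt N26075 (iv D42854)))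
theorem Q26929 : ∀ i, i < 26929 → P i := stepQ 26928 Q26928 (allL N26928 (tt N27199 (iv F198519)) (tt N26219 F197297) (tt N26082 F197298) (tt N26142 F197299) (tt N26078 F197300) (tt N27536 D43463) (tt N26077 (iv D42855)) (tt N26221 F197301) (tt N26080 F197302) (tt N27537 D43464))
theorem Q26930 : ∀ i, i < 26930 → P i := stepQ 26929 Q26929 (allL N26929 (tt N27217 (iv F198633)) (tt N26258 F197303) (tt N26083 F197304) (tt N26139 F197305) (tt N26079 F197306) (tt N26125 F197307) (tt N27537 (iv F200276)) (tt N26153 F197308) (tt N26135 F197309) (tt N26077 (iv D42856)))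
theorem Q26931 : ∀ i, i < 26931 → P i := stepQ 26930 Q26930 (allL N26930 (tt N27202 (iv F198536)) (tt N26220 F197310) (tt N26085 F197311) (tt N26218 F197312) (tt N27537 (iv F200275)) (tt N26268 F197313) (tt N26079 F197314) (tt N26223 F197315) (tt N26224 F197316) (tt N26078 (iv D42857)))
theorem Q26932 : ∀ i, i < 26932 → P i := stepQ 26931 Q26931 (allL N26931 (tt N27241 (iv F198785)) (tt N26168 F197317) (tt N27142 (iv F198136)) (tt N26082 F197318) (tt N26212 F197319) (tt N27538 D43465) (tt N26081 (iv D42858)) (tt N27539 D43466) (tt N26086 F197320) (tt N27540 D43467))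
theorem Q26933 : ∀ i, i < 26933 → P i := stepQ 26932 Q26932 (allL N26932 (tt N27242 (iv F198791)) (tt N26169 F197321) (tt N27143 (iv F198142)) (tt N26083 F197322) (tt N26213 F197323) (tt N26135 F197324) (tt N27540 (iv F200291)) (tt N26156 F197325) (tt N27148 (iv F198181)) (tt N26081 (iv D42859)))
theorem Q26934 : ∀ i, i < 26934 → P i := stepQ 26933 Q26933 (allL N26933 (tt N27243 (iv F198799)) (tt N26170 F197326) (tt N27536 (iv F200266)) (tt N27538 (iv F200280)) (tt N27370 (iv F199623)) (tt N26082 (iv D42860)) (tt N26136 F197327) (tt N27541 D43468) (tt N26933 F197328) (tt N27542 D43469))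
theorem Q26935 : ∀ i, i < 26935 → P i := stepQ 26934 Q26934 (allL N26934 (tt N27186 (iv F198428)) (tt N26171 F197329) (tt N26221 F197330) (tt N27539 (iv F200284)) (tt N26084 F197331) (tt N27541 (iv F200295)) (tt N26157 F197332) (tt N26082 (iv D42861)) (tt N26087 F197333) (tt N27543 D43470))
theorem Q26936 : ∀ i, i < 26936 → P i := stepQ 26935 Q26935 (allL N26935 (tt N27244 (iv F198804)) (tt N26172 F197334) (tt N27537 (iv F200273)) (tt N27540 (iv F200289)) (tt N26085 F197335) (tt N27542 (iv F200298)) (tt N26083 F197336) (tt N27543 (iv F200304)) (tt N27151 (iv F198198)) (tt N26082 (iv D42862)))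
theorem Q26937 : ∀ i, i < 26937 → P i := stepQ 26936 Q26936 (allL N26936 (tt N27188 (iv F198440)) (tt N26174 F197337) (tt N26223 F197338) (tt N26216 F197339) (tt N27543 (iv F200302)) (tt N26261 F197340) (tt N26160 F197341) (tt N26085 F197342) (tt N27152 (iv F198206)) (tt N26084 (iv D42863)))
theorem Q26938 : ∀ i, i < 26938 → P i := stepQ 26937 Q26937 (allL N26937 (tt N27191 (iv F198464)) (tt N26177 F197343) (tt N27177 (iv F198365)) (tt N26087 F197344) (tt N26217 F197345) (tt N26937 F197346) (tt N26161 F197347) (tt N26086 (iv D42864)) (tt N27539 (iv F200287)) (tt N27153 (iv F198214)))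
theorem Q26939 : ∀ i, i < 26939 → P i := stepQ 26938 Q26938 (allL N26938 (tt N27295 (iv F199157)) (tt N26092 F197348) (tt N26267 F197349) (tt N26166 F197350) (tt N26090 F197351) (tt N26211 F197352) (tt N27454 (iv F199997)) (tt N26278 F197353) (tt N26260 F197354) (tt N26089 (iv D42865)))
theorem Q26940 : ∀ i, i < 26940 → P i := stepQ 26939 Q26939 (allL N26939 (tt N27302 (iv F199205)) (tt N26097 F197355) (tt N26181 F197356) (tt N26259 F197357) (tt N26095 F197358) (tt N27544 D43471) (tt N26116 F197359) (tt N27320 (iv F199310)) (tt N26094 (iv D42866)) (tt N27545 D43472))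
theorem Q26941 : ∀ i, i < 26941 → P i := stepQ 26940 Q26940 (allL N26940 (tt N27301 (iv F199197)) (tt N26099 F197360) (tt N26175 F197361) (tt N26096 F197362) (tt N27545 (iv F200312)) (tt N27312 (iv F199257)) (tt N26117 F197363) (tt N27313 (iv F199266)) (tt N26167 F197364) (tt N26095 (iv D42867)))
theorem Q26942 : ∀ i, i < 26942 → P i := stepQ 26941 Q26941 (allL N26941 (tt N27219 (iv F198647)) (tt N27544 (iv F200305)) (tt N26225 F197365) (tt N27368 (iv F199607)) (tt N27546 D43473) (tt N26097 (iv D42868)) (tt N27547 D43474) (tt N27350 (iv F199514)) (tt N26941 F197366) (tt N27548 D43475))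
theorem Q26943 : ∀ i, i < 26943 → P i := stepQ 26942 Q26942 (allL N26942 (tt N27220 (iv F198653)) (tt N27545 (iv F200309)) (tt N26226 F197367) (tt N27369 (iv F199615)) (tt N26099 F197368) (tt N27548 (iv F200323)) (tt N26121 F197369) (tt N27351 (iv F199521)) (tt N27344 (iv F199474)) (tt N26097 (iv D42869)))
theorem Q26944 : ∀ i, i < 26944 → P i := stepQ 26943 Q26943 (allL N26943 (tt N27221 (iv F198661)) (tt N27317 (iv F199292)) (tt N26227 F197370) (tt N27549 D43476) (tt N26098 (iv D42870)) (tt N27546 (iv F200316)) (tt N27322 (iv F199323)) (tt N27124 (iv F198020)) (tt N26100 F197371) (tt N27550 D43477))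
theorem Q26945 : ∀ i, i < 26945 → P i := stepQ 26944 Q26944 (allL N26944 (tt N27222 (iv F198667)) (tt N27312 (iv F199254)) (tt N26228 F197372) (tt N26103 F197373) (tt N27550 (iv F200328)) (tt N26099 F197374) (tt N27323 (iv F199331)) (tt N27118 (iv F197980)) (tt N27117 (iv F197973)) (tt N26098 (iv D42871)))
theorem Q26946 : ∀ i, i < 26946 → P i := stepQ 26945 Q26945 (allL N26945 (tt N27223 (iv F198675)) (tt N27315 (iv F199278)) (tt N27551 D43478) (tt N26100 (iv D42872)) (tt N26104 F197375) (tt N26945 F197376) (tt N27324 (iv F199338)) (tt N26298 F197377) (tt N27549 (iv F200326)) (tt N27122 (iv F198006)))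
theorem Q26947 : ∀ i, i < 26947 → P i := stepQ 26946 Q26946 (allL N26946 (tt N27224 (iv F198682)) (tt N27327 (iv F199355)) (tt N27552 D43479) (tt N26101 (iv D42873)) (tt N27549 (iv F200324)) (tt N26282 F197378) (tt N27553 D43480) (tt N26281 F197379) (tt N26104 F197380) (tt N27554 D43481))
theorem Q26948 : ∀ i, i < 26948 → P i := stepQ 26947 Q26947 (allL N26947 (tt N27225 (iv F198687)) (tt N27395 (iv F199737)) (tt N26108 F197381) (tt N27553 (iv F200337)) (tt N26102 F197382) (tt N27555 D43482) (tt N26101 (iv D42874)) (tt N27169 (iv F198311)) (tt N26105 F197383) (tt N27556 D43483))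
theorem Q26949 : ∀ i, i < 26949 → P i := stepQ 26948 Q26948 (allL N26948 (tt N27226 (iv F198693)) (tt N27444 (iv F199953)) (tt N26109 F197384) (tt N27554 (iv F200339)) (tt N26103 F197385) (tt N26285 F197386) (tt N27556 (iv F200348)) (tt N26284 F197387) (tt N27389 (iv F199711)) (tt N26101 (iv D42875)))
theorem Q26950 : ∀ i, i < 26950 → P i := stepQ 26949 Q26949 (allL N26949 (tt N27227 (iv F198699)) (tt N27396 (iv F199743)) (tt N26111 F197388) (tt N27323 (iv F199329)) (tt N27556 (iv F200347)) (tt N26127 F197389) (tt N26103 F197390) (tt N27238 (iv F198770)) (tt N27237 (iv F198764)) (tt N26102 (iv D42876)))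
theorem Q26951 : ∀ i, i < 26951 → P i := stepQ 26950 Q26950 (allL N26950 (tt N27229 (iv F198715)) (tt N27424 (iv F199866)) (tt N26104 (iv D42877)) (tt N26112 F197391) (tt N27551 (iv F200330)) (tt N26106 F197392) (tt N27557 D43484) (tt N26297 F197393) (tt N27552 (iv F200336)) (tt N27391 (iv F199721)))
theorem Q26952 : ∀ i, i < 26952 → P i := stepQ 26951 Q26951 (allL N26951 (tt N27230 (iv F198719)) (tt N27314 (iv F199270)) (tt N27557 (iv F200349)) (tt N26105 F197394) (tt N27324 (iv F199336)) (tt N26951 F197395) (tt N26104 (iv D42878)) (tt N27175 (iv F198353)) (tt N27553 (iv F200338)) (tt N27240 (iv F198784)))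
theorem Q26953 : ∀ i, i < 26953 → P i := stepQ 26952 Q26952 (allL N26952 (tt N27231 (iv F198726)) (tt N27496 (iv F200133)) (tt N26107 (iv D42879)) (tt N27552 (iv F200333)) (tt N26240 F197396) (tt N27341 (iv F199449)) (tt N27558 D43485) (tt N27352 (iv F199528)) (tt N26112 F197397) (tt N27559 D43486))
theorem Q26954 : ∀ i, i < 26954 → P i := stepQ 26953 Q26953 (allL N26953 (tt N27232 (iv F198731)) (tt N27209 (iv F198584)) (tt N27558 (iv F200352)) (tt N26108 F197398) (tt N26241 F197399) (tt N27560 D43487) (tt N26107 (iv D42880)) (tt N27561 D43488) (tt N26113 F197400) (tt N27562 D43489))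
theorem Q26955 : ∀ i, i < 26955 → P i := stepQ 26954 Q26954 (allL N26954 (tt N27233 (iv F198736)) (tt N27288 (iv F199106)) (tt N27559 (iv F200355)) (tt N26109 F197401) (tt N26242 F197402) (tt N27342 (iv F199457)) (tt N27562 (iv F200364)) (tt N27353 (iv F199535)) (tt N27502 (iv F200164)) (tt N26107 (iv D42881)))
theorem Q26956 : ∀ i, i < 26956 → P i := stepQ 26955 Q26955 (allL N26955 (tt N27234 (iv F198742)) (tt N27207 (iv F198573)) (tt N27555 (iv F200342)) (tt N27560 (iv F200357)) (tt N26136 F197403) (tt N26108 (iv D42882)) (tt N27370 (iv F199624)) (tt N27563 D43490) (tt N26955 F197404) (tt N27564 D43491))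
theorem Q26957 : ∀ i, i < 26957 → P i := stepQ 26956 Q26956 (allL N26956 (tt N27235 (iv F198747)) (tt N27182 (iv F198402)) (tt N27169 (iv F198309)) (tt N27561 (iv F200359)) (tt N26110 F197405) (tt N27563 (iv F200366)) (tt N27158 (iv F198241)) (tt N26108 (iv D42883)) (tt N26114 F197406) (tt N27565 D43492))
theorem Q26958 : ∀ i, i < 26958 → P i := stepQ 26957 Q26957 (allL N26957 (tt N27236 (iv F198753)) (tt N27210 (iv F198590)) (tt N27556 (iv F200346)) (tt N27562 (iv F200362)) (tt N26111 F197407) (tt N27564 (iv F200369)) (tt N26109 F197408) (tt N27565 (iv F200371)) (tt N27504 (iv F200171)) (tt N26108 (iv D42884)))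
theorem Q26959 : ∀ i, i < 26959 → P i := stepQ 26958 Q26958 (allL N26958 (tt N27237 (iv F198757)) (tt N27183 (iv F198408)) (tt N27238 (iv F198767)) (tt N26246 F197409) (tt N27565 (iv F200370)) (tt N26140 F197410) (tt N27228 (iv F198712)) (tt N26111 F197411) (tt N27227 (iv F198706)) (tt N26110 (iv D42885)))
theorem Q26960 : ∀ i, i < 26960 → P i := stepQ 26959 Q26959 (allL N26959 (tt N27239 (iv F198773)) (tt N27534 (iv F200254)) (tt N26113 F197412) (tt N27557 (iv F200350)) (tt N26248 F197413) (tt N26959 F197414) (tt N26112 (iv D42886)) (tt N27566 D43493) (tt N27558 (iv F200354)) (tt N27505 (iv F200176)))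
theorem Q26961 : ∀ i, i < 26961 → P i := stepQ 26960 Q26960 (allL N26960 (tt N27240 (iv F198778)) (tt N27184 (iv F198416)) (tt N27566 (iv F200372)) (tt N26114 F197415) (tt N26250 F197416) (tt N26960 F197417) (tt N27174 (iv F198346)) (tt N26113 (iv D42887)) (tt N27561 (iv F200361)) (tt N27230 (iv F198725)))
theorem Q26962 : ∀ i, i < 26962 → P i := stepQ 26961 Q26961 (allL N26961 (tt N27299 (iv F199181)) (tt N26121 F197418) (tt N26173 F197419) (tt N26260 F197420) (tt N26117 F197421) (tt N27129 (iv F198053)) (tt N27545 (iv F200313)) (tt N26187 F197422) (tt N26166 F197423) (tt N26116 (iv D42888)))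
theorem Q26963 : ∀ i, i < 26963 → P i := stepQ 26962 Q26962 (allL N26962 (tt N27332 (iv F199383)) (tt N26125 F197424) (tt N26295 F197425) (tt N27127 (iv F198037)) (tt N26119 F197426) (tt N26258 F197427) (tt N27394 (iv F199734)) (tt N26189 F197428) (tt N26194 F197429) (tt N26118 (iv D42889)))
theorem Q26964 : ∀ i, i < 26964 → P i := stepQ 26963 Q26963 (allL N26963 (tt N27265 (iv F198974)) (tt N27128 (iv F198043)) (tt N26168 F197430) (tt N26272 F197431) (tt N26279 F197432) (tt N27547 (iv F200320)) (tt N26120 (iv D42890)) (tt N27567 D43494) (tt N26176 F197433) (tt N27568 D43495))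
theorem Q26965 : ∀ i, i < 26965 → P i := stepQ 26964 Q26964 (allL N26964 (tt N27266 (iv F198979)) (tt N27129 (iv F198049)) (tt N26169 F197434) (tt N26267 F197435) (tt N26280 F197436) (tt N26121 F197437) (tt N27568 (iv F200383)) (tt N26192 F197438) (tt N26263 F197439) (tt N26120 (iv D42891)))
theorem Q26966 : ∀ i, i < 26966 → P i := stepQ 26965 Q26965 (allL N26965 (tt N27268 (iv F198995)) (tt N27126 (iv F198029)) (tt N27147 (iv F198170)) (tt N26124 F197440) (tt N27154 (iv F198219)) (tt N27569 D43496) (tt N26123 (iv D42892)) (tt N27570 D43497) (tt N26129 F197441) (tt N27571 D43498))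
theorem Q26967 : ∀ i, i < 26967 → P i := stepQ 26966 Q26966 (allL N26966 (tt N27269 (iv F199000)) (tt N27127 (iv F198035)) (tt N27148 (iv F198176)) (tt N26125 F197442) (tt N27146 (iv F198164)) (tt N26139 F197443) (tt N27571 (iv F200392)) (tt N26199 F197444) (tt N27143 (iv F198147)) (tt N26123 (iv D42893)))
theorem Q26968 : ∀ i, i < 26968 → P i := stepQ 26967 Q26967 (allL N26967 (tt N27270 (iv F199007)) (tt N27393 (iv F199727)) (tt N26136 F197445) (tt N27569 (iv F200385)) (tt N27555 (iv F200343)) (tt N26124 (iv D42894)) (tt N27536 (iv F200269)) (tt N27572 D43499) (tt N26967 F197446) (tt N27573 D43500))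
theorem Q26969 : ∀ i, i < 26969 → P i := stepQ 26968 Q26968 (allL N26968 (tt N27271 (iv F199010)) (tt N27359 (iv F199563)) (tt N26137 F197447) (tt N27570 (iv F200388)) (tt N26126 F197448) (tt N27572 (iv F200394)) (tt N26200 F197449) (tt N26124 (iv D42895)) (tt N26130 F197450) (tt N27574 D43501))
theorem Q26970 : ∀ i, i < 26970 → P i := stepQ 26969 Q26969 (allL N26969 (tt N27272 (iv F199016)) (tt N27394 (iv F199731)) (tt N26138 F197451) (tt N27571 (iv F200391)) (tt N26127 F197452) (tt N27573 (iv F200397)) (tt N26125 F197453) (tt N27574 (iv F200401)) (tt N27575 D43502) (tt N26124 (iv D42896)))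
theorem Q26971 : ∀ i, i < 26971 → P i := stepQ 26970 Q26970 (allL N26970 (tt N27273 (iv F199020)) (tt N26194 F197454) (tt N26139 F197455) (tt N27143 (iv F198143)) (tt N26128 F197456) (tt N27148 (iv F198179)) (tt N27575 (iv F200405)) (tt N26202 F197457) (tt N26125 (iv D42897)) (tt N26132 F197458))
theorem Q26972 : ∀ i, i < 26972 → P i := stepQ 26971 Q26971 (allL N26971 (tt N27274 (iv F199027)) (tt N27360 (iv F199569)) (tt N26140 F197459) (tt N27258 (iv F198924)) (tt N27574 (iv F200399)) (tt N27238 F198772) (tt N26203 F197460) (tt N26127 F197461) (tt N27285 (iv F199095)) (tt N26126 (iv D42898)))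
theorem Q26973 : ∀ i, i < 26973 → P i := stepQ 26972 Q26972 (allL N26972 (tt N27275 (iv F199035)) (tt N26196 F197462) (tt N26141 F197463) (tt N26190 F197464) (tt N27575 (iv F200404)) (tt N27284 (iv F199085)) (tt N26128 F197465) (tt N27285 (iv F199094)) (tt N26127 (iv D42899)) (tt N26133 F197466))
theorem Q26974 : ∀ i, i < 26974 → P i := stepQ 26973 Q26973 (allL N26973 (tt N27276 (iv F199043)) (tt N27176 (iv F198356)) (tt N27153 (iv F198209)) (tt N26130 F197467) (tt N27161 (iv F198260)) (tt N26973 F197468) (tt N26204 F197469) (tt N26129 (iv D42900)) (tt N27570 (iv F200390)) (tt N27177 (iv F198370)))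
theorem Q26975 : ∀ i, i < 26975 → P i := stepQ 26974 Q26974 (allL N26974 (tt N27277 (iv F199051)) (tt N26193 F197470) (tt N26142 F197471) (tt N27142 (iv F198137)) (tt N26133 F197472) (tt N27576 D43503) (tt N26132 F197473) (tt N27287 (iv F199103)) (tt N26131 (iv D42901)) (tt N27575 (iv F200406)))
theorem Q26976 : ∀ i, i < 26976 → P i := stepQ 26975 Q26975 (allL N26975 (tt N27278 (iv F199058)) (tt N26225 F197474) (tt N27149 (iv F198184)) (tt N26136 F197475) (tt N27329 (iv F199370)) (tt N26134 (iv D42902)) (tt N27538 (iv F200281)) (tt N27464 (iv F200033)) (tt N26975 F197476) (tt N27577 D43504))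
theorem Q26977 : ∀ i, i < 26977 → P i := stepQ 26976 Q26976 (allL N26976 (tt N27279 (iv F199063)) (tt N26226 F197477) (tt N27151 (iv F198195)) (tt N26138 F197478) (tt N26224 F197479) (tt N27577 (iv F200412)) (tt N26135 F197480) (tt N27465 (iv F200039)) (tt N27537 (iv F200278)) (tt N26134 (iv D42903)))
theorem Q26978 : ∀ i, i < 26978 → P i := stepQ 26977 Q26977 (allL N26977 (tt N27280 (iv F199068)) (tt N27180 (iv F198388)) (tt N27572 (iv F200393)) (tt N27464 (iv F200032)) (tt N27563 (iv F200365)) (tt N26137 F197481) (tt N27578 D43505) (tt N26136 (iv D42904)) (tt N26977 F197482) (tt N27579 D43506))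
theorem Q26979 : ∀ i, i < 26979 → P i := stepQ 26978 Q26978 (allL N26978 (tt N27281 (iv F199071)) (tt N27208 (iv F198578)) (tt N27573 (iv F200396)) (tt N27577 (iv F200411)) (tt N27564 (iv F200368)) (tt N26138 F197483) (tt N27542 (iv F200299)) (tt N27579 (iv F200416)) (tt N27580 D43507) (tt N26136 (iv D42905)))
theorem Q26980 : ∀ i, i < 26980 → P i := stepQ 26979 Q26979 (allL N26979 (tt N27282 (iv F199073)) (tt N27181 (iv F198394)) (tt N27574 (iv F200398)) (tt N27465 (iv F200036)) (tt N26140 F197484) (tt N27579 (iv F200415)) (tt N26207 F197485) (tt N26138 F197486) (tt N27404 (iv F199774)) (tt N26137 (iv D42906)))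
theorem Q26981 : ∀ i, i < 26981 → P i := stepQ 26980 Q26980 (allL N26980 (tt N27283 (iv F199077)) (tt N27093 (iv F197814)) (tt N27575 (iv F200403)) (tt N27537 (iv F200274)) (tt N26141 F197487) (tt N27581 D43508) (tt N26139 F197488) (tt N27404 (iv F199773)) (tt N26138 (iv D42907)) (tt N26142 F197489))
theorem Q26982 : ∀ i, i < 26982 → P i := stepQ 26981 Q26981 (allL N26981 (tt N27285 (iv F199089)) (tt N27095 (iv F197828)) (tt N27284 (iv F199083)) (tt N26276 F197490) (tt N27582 D43509) (tt N26141 (iv D42908)) (tt N27339 (iv F199435)) (tt N27275 (iv F199041)) (tt N27274 (iv F199034)) (tt N26143 F197491))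
theorem Q26983 : ∀ i, i < 26983 → P i := stepQ 26982 Q26982 (allL N26982 (tt N27286 (iv F199097)) (tt N27092 (iv F197808)) (tt N27576 (iv F200408)) (tt N27536 (iv F200267)) (tt N27583 D43510) (tt N26142 (iv D42909)) (tt N27569 (iv F200386)) (tt N27403 (iv F199767)) (tt N26982 F197492) (tt N27581 (iv F200418)))
theorem Q26984 : ∀ i, i < 26984 → P i := stepQ 26983 Q26983 (allL N26983 (tt N27287 (iv F199099)) (tt N27094 (iv F197822)) (tt N27196 (iv F198502)) (tt N27520 (iv F200212)) (tt N26143 (iv D42910)) (tt N27583 (iv F200420)) (tt N27195 F198499) (tt N27277 (iv F199057)) (tt N26144 F197493) (tt N27582 (iv F200419)))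
theorem Q26985 : ∀ i, i < 26985 → P i := stepQ 26984 Q26984 (allL N26984 (tt N27209 (iv F198583)) (tt N26262 F197494) (tt N27126 (iv F198030)) (tt N26146 F197495) (tt N26155 F197496) (tt N27376 (iv F199652)) (tt N26145 (iv D42911)) (tt N27584 D43511) (tt N26150 F197497) (tt N27585 D43512))
theorem Q26986 : ∀ i, i < 26986 → P i := stepQ 26985 Q26985 (allL N26985 (tt N27288 (iv F199105)) (tt N26263 F197498) (tt N27127 (iv F198036)) (tt N26147 F197499) (tt N26156 F197500) (tt N26210 F197501) (tt N27585 (iv F200430)) (tt N26213 F197502) (tt N27129 (iv F198055)) (tt N26145 (iv D42912)))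
theorem Q26987 : ∀ i, i < 26987 → P i := stepQ 26986 Q26986 (allL N26986 (tt N27182 (iv F198401)) (tt N26265 F197503) (tt N27140 (iv F198122)) (tt N27584 (iv F200423)) (tt N26148 F197504) (tt N27461 (iv F200025)) (tt N26214 F197505) (tt N26146 (iv D42913)) (tt N26151 F197506) (tt N27586 D43513))
theorem Q26988 : ∀ i, i < 26988 → P i := stepQ 26987 Q26987 (allL N26987 (tt N27210 (iv F198589)) (tt N26266 F197507) (tt N27138 (iv F198107)) (tt N27585 (iv F200428)) (tt N26149 F197508) (tt N27462 (iv F200028)) (tt N26147 F197509) (tt N27586 (iv F200434)) (tt N27132 (iv F198072)) (tt N26146 (iv D42914)))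
theorem Q26989 : ∀ i, i < 26989 → P i := stepQ 26988 Q26988 (allL N26988 (tt N27183 (iv F198407)) (tt N26268 F197510) (tt N27139 (iv F198114)) (tt N26160 F197511) (tt N27586 (iv F200432)) (tt N26220 F197512) (tt N26216 F197513) (tt N26149 F197514) (tt N27133 (iv F198080)) (tt N26148 (iv D42915)))
theorem Q26990 : ∀ i, i < 26990 → P i := stepQ 26989 Q26989 (allL N26989 (tt N27184 (iv F198415)) (tt N26270 F197515) (tt N27176 (iv F198357)) (tt N26151 F197516) (tt N26161 F197517) (tt N26989 F197518) (tt N26217 F197519) (tt N26150 (iv D42916)) (tt N27584 (iv F200426)) (tt N27134 (iv F198088)))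
theorem Q26991 : ∀ i, i < 26991 → P i := stepQ 26990 Q26990 (allL N26990 (tt N27289 (iv F199113)) (tt N27146 (iv F198161)) (tt N26156 F197520) (tt N26202 F197521) (tt N27127 (iv F198038)) (tt N26159 F197522) (tt N27445 (iv F199961)) (tt N27143 (iv F198146)) (tt N26199 F197523) (tt N26154 (iv D42917)))
theorem Q26992 : ∀ i, i < 26992 → P i := stepQ 26991 Q26991 (allL N26991 (tt N27185 (iv F198423)) (tt N26290 F197524) (tt N27436 (iv F199918)) (tt N26157 F197525) (tt N27584 (iv F200424)) (tt N27097 (iv F197844)) (tt N27539 (iv F200286)) (tt N26155 (iv D42918)) (tt N26161 F197526) (tt N27587 D43514))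
theorem Q26993 : ∀ i, i < 26993 → P i := stepQ 26992 Q26992 (allL N26992 (tt N27212 (iv F198602)) (tt N26291 F197527) (tt N27445 (iv F199959)) (tt N26158 F197528) (tt N27585 (iv F200429)) (tt N27412 (iv F199809)) (tt N26156 F197529) (tt N27587 (iv F200437)) (tt N27516 (iv F200204)) (tt N26155 (iv D42919)))
theorem Q26994 : ∀ i, i < 26994 → P i := stepQ 26993 Q26993 (allL N26993 (tt N27290 (iv F199121)) (tt N26280 F197530) (tt N26199 F197531) (tt N26159 F197532) (tt N27129 (iv F198052)) (tt N26202 F197533) (tt N27516 (iv F200203)) (tt N27148 (iv F198180)) (tt N26156 (iv D42920)) (tt N26162 F197534))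
theorem Q26995 : ∀ i, i < 26995 → P i := stepQ 26994 Q26994 (allL N26994 (tt N27187 (iv F198434)) (tt N27535 (iv F200259)) (tt N26222 F197535) (tt N27587 (iv F200436)) (tt N26160 F197536) (tt N27099 (iv F197857)) (tt N27543 (iv F200303)) (tt N26158 F197537) (tt N27497 (iv F200141)) (tt N26157 (iv D42921)))
theorem Q26996 : ∀ i, i < 26996 → P i := stepQ 26995 Q26995 (allL N26995 (tt N27298 (iv F199177)) (tt N27344 (iv F199468)) (tt N26172 F197538) (tt N27454 (iv F199995)) (tt N26167 F197539) (tt N27401 (iv F199762)) (tt N26166 F197540) (tt N27355 (iv F199545)) (tt N27545 (iv F200314)) (tt N26165 (iv D42922)))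
theorem Q26997 : ∀ i, i < 26997 → P i := stepQ 26996 Q26996 (allL N26996 (tt N27303 (iv F199212)) (tt N27538 (iv F200279)) (tt N27547 (iv F200318)) (tt N26170 F197541) (tt N27588 D43515) (tt N26168 (iv D42923)) (tt N26225 F197542) (tt N27589 D43516) (tt N26996 F197543) (tt N27590 D43517))
theorem Q26998 : ∀ i, i < 26998 → P i := stepQ 26997 Q26997 (allL N26997 (tt N27304 (iv F199216)) (tt N27539 (iv F200283)) (tt N27567 (iv F200375)) (tt N26171 F197544) (tt N26282 F197545) (tt N27589 (iv F200442)) (tt N26290 F197546) (tt N26168 (iv D42924)) (tt N26177 F197547) (tt N27591 D43518))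
theorem Q26999 : ∀ i, i < 26999 → P i := stepQ 26998 Q26998 (allL N26998 (tt N27305 (iv F199221)) (tt N27540 (iv F200288)) (tt N27568 (iv F200380)) (tt N26172 F197548) (tt N26283 F197549) (tt N27590 (iv F200445)) (tt N26169 F197550) (tt N27591 (iv F200450)) (tt N27592 D43519) (tt N26168 (iv D42925)))
theorem Q27000 : ∀ i, i < 27000 → P i := stepQ 26999 Q26999 (allL N26999 (tt N27306 (iv F199225)) (tt N27148 (iv F198175)) (tt N26263 F197551) (tt N26173 F197552) (tt N26192 F197553) (tt N26194 F197554) (tt N27592 (iv F200454)) (tt N26280 F197555) (tt N26169 (iv D42926)) (tt N26179 F197556))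
theorem Q27001 : ∀ i, i < 27001 → P i := stepQ 27000 Q27000 (allL N27000 (tt N27307 (iv F199232)) (tt N27541 (iv F200292)) (tt N27354 (iv F199538)) (tt N27589 (iv F200441)) (tt N27368 (iv F199608)) (tt N26171 F197557) (tt N27593 D43520) (tt N26170 (iv D42927)) (tt N27000 F197558) (tt N27594 D43521))
theorem Q27002 : ∀ i, i < 27002 → P i := stepQ 27001 Q27001 (allL N27001 (tt N27308 (iv F199236)) (tt N27542 (iv F200297)) (tt N27401 (iv F199761)) (tt N27590 (iv F200444)) (tt N27440 (iv F199938)) (tt N26172 F197559) (tt N27208 (iv F198582)) (tt N27594 (iv F200460)) (tt N27595 D43522) (tt N26170 (iv D42928)))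
theorem Q27003 : ∀ i, i < 27003 → P i := stepQ 27002 Q27002 (allL N27002 (tt N27309 (iv F199239)) (tt N27543 (iv F200300)) (tt N27355 (iv F199543)) (tt N27591 (iv F200447)) (tt N26174 F197560) (tt N27594 (iv F200459)) (tt N27535 (iv F200263)) (tt N26172 F197561) (tt N27596 D43523) (tt N26171 (iv D42929)))
theorem Q27004 : ∀ i, i < 27004 → P i := stepQ 27003 Q27003 (allL N27003 (tt N27310 (iv F199242)) (tt N27151 (iv F198194)) (tt N27545 (iv F200310)) (tt N27592 (iv F200452)) (tt N26175 F197562) (tt N27597 D43524) (tt N26173 F197563) (tt N27596 (iv F200463)) (tt N26172 (iv D42930)) (tt N26181 F197564))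
theorem Q27005 : ∀ i, i < 27005 → P i := stepQ 27004 Q27004 (allL N27004 (tt N27311 (iv F199246)) (tt N27143 (iv F198141)) (tt N27129 (iv F198050)) (tt N26194 F197565) (tt N26199 F197566) (tt N26173 (iv D42931)) (tt N27598 D43525) (tt N27146 (iv F198166)) (tt N27127 (iv F198041)) (tt N26182 F197567))
theorem Q27006 : ∀ i, i < 27006 → P i := stepQ 27005 Q27005 (allL N27005 (tt N27312 (iv F199253)) (tt N27152 (iv F198200)) (tt N27313 (iv F199263)) (tt N26287 F197568) (tt N27596 (iv F200462)) (tt N27301 (iv F199201)) (tt N27340 (iv F199442)) (tt N26175 F197569) (tt N26174 (iv D42932)) (tt N26183 F197570))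
theorem Q27007 : ∀ i, i < 27007 → P i := stepQ 27006 Q27006 (allL N27006 (tt N27314 (iv F199269)) (tt N27134 (iv F198082)) (tt N26177 F197571) (tt N26271 F197572) (tt N26288 F197573) (tt N27006 F197574) (tt N26209 F197575) (tt N26176 (iv D42933)) (tt N27567 (iv F200379)) (tt N26270 F197576))
theorem Q27008 : ∀ i, i < 27008 → P i := stepQ 27007 Q27007 (allL N27007 (tt N27315 (iv F199277)) (tt N27153 (iv F198208)) (tt N26270 F197577) (tt N26180 F197578) (tt N26209 F197579) (tt N27007 F197580) (tt N26288 F197581) (tt N26178 F197582) (tt N27599 D43526) (tt N26177 (iv D42934)))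
theorem Q27009 : ∀ i, i < 27009 → P i := stepQ 27008 Q27008 (allL N27008 (tt N27316 (iv F199285)) (tt N27147 (iv F198169)) (tt N26262 F197583) (tt N26181 F197584) (tt N26191 F197585) (tt N27600 D43527) (tt N26179 F197586) (tt N27599 (iv F200473)) (tt N26178 (iv D42935)) (tt N27592 (iv F200455)))
theorem Q27010 : ∀ i, i < 27010 → P i := stepQ 27009 Q27009 (allL N27009 (tt N27317 (iv F199291)) (tt N27150 (iv F198188)) (tt N27320 (iv F199307)) (tt N27599 (iv F200470)) (tt N26183 F197587) (tt N27601 D43528) (tt N27341 (iv F199450)) (tt N26181 F197588) (tt N26180 (iv D42936)) (tt N27596 (iv F200464)))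
theorem Q27011 : ∀ i, i < 27011 → P i := stepQ 27010 Q27010 (allL N27010 (tt N27318 (iv F199297)) (tt N27149 (iv F198183)) (tt N27544 (iv F200306)) (tt N27600 (iv F200475)) (tt N27447 (iv F199968)) (tt N26181 (iv D42937)) (tt N27602 D43529) (tt N27601 (iv F200478)) (tt N27010 F197589) (tt N27597 (iv F200465)))
theorem Q27012 : ∀ i, i < 27012 → P i := stepQ 27011 Q27011 (allL N27011 (tt N27319 (iv F199299)) (tt N27142 (iv F198135)) (tt N27128 (iv F198044)) (tt N26193 F197590) (tt N26198 F197591) (tt N27602 (iv F200481)) (tt N26182 (iv D42938)) (tt N27603 D43530) (tt N26184 F197592) (tt N27598 (iv F200468)))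
theorem Q27013 : ∀ i, i < 27013 → P i := stepQ 27012 Q27012 (allL N27012 (tt N27321 (iv F199312)) (tt N27177 (iv F198364)) (tt N27134 (iv F198083)) (tt N26197 F197593) (tt N26204 F197594) (tt N27012 F197595) (tt N27161 (iv F198262)) (tt N26184 (iv D42939)) (tt N27603 (iv F200485)) (tt N27176 (iv F198362)))
theorem Q27014 : ∀ i, i < 27014 → P i := stepQ 27013 Q27013 (allL N27013 (tt N27405 (iv F199775)) (tt N26201 F197596) (tt N27168 (iv F198301)) (tt N27145 (iv F198157)) (tt N26190 F197597) (tt N27252 (iv F198874)) (tt N26189 F197598) (tt N27438 (iv F199927)) (tt N27164 (iv F198280)) (tt N26188 (iv D42940)))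
theorem Q27015 : ∀ i, i < 27015 → P i := stepQ 27014 Q27014 (allL N27014 (tt N27327 (iv F199354)) (tt N27156 (iv F198228)) (tt N26290 F197599) (tt N26289 F197600) (tt N27599 (iv F200471)) (tt N27457 (iv F200011)) (tt N27567 (iv F200378)) (tt N26191 (iv D42941)) (tt N26209 F197601) (tt N27604 D43531))
theorem Q27016 : ∀ i, i < 27016 → P i := stepQ 27015 Q27015 (allL N27015 (tt N27328 (iv F199360)) (tt N27157 (iv F198232)) (tt N26291 F197602) (tt N26286 F197603) (tt N27592 (iv F200453)) (tt N27458 (iv F200016)) (tt N26192 F197604) (tt N27604 (iv F200488)) (tt N26283 F197605) (tt N26191 (iv D42942)))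
theorem Q27017 : ∀ i, i < 27017 → P i := stepQ 27016 Q27016 (allL N27016 (tt N27329 (iv F199367)) (tt N27576 (iv F200407)) (tt N26292 F197606) (tt N27602 (iv F200480)) (tt N27278 (iv F199061)) (tt N26193 (iv D42943)) (tt N27600 (iv F200476)) (tt N27605 D43532) (tt N27016 F197607) (tt N27606 D43533))
theorem Q27018 : ∀ i, i < 27018 → P i := stepQ 27017 Q27017 (allL N27017 (tt N27330 (iv F199372)) (tt N27287 (iv F199100)) (tt N26293 F197608) (tt N27603 (iv F200483)) (tt N26195 F197609) (tt N27605 (iv F200491)) (tt N27163 (iv F198273)) (tt N26193 (iv D42944)) (tt N26197 F197610) (tt N27607 D43534))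
theorem Q27019 : ∀ i, i < 27019 → P i := stepQ 27018 Q27018 (allL N27018 (tt N27331 (iv F199378)) (tt N27575 (iv F200402)) (tt N26294 F197611) (tt N27598 (iv F200466)) (tt N26196 F197612) (tt N27606 (iv F200494)) (tt N26194 F197613) (tt N27607 (iv F200497)) (tt N27394 (iv F199735)) (tt N26193 (iv D42945)))
theorem Q27020 : ∀ i, i < 27020 → P i := stepQ 27019 Q27019 (allL N27019 (tt N27333 (iv F199391)) (tt N27285 (iv F199090)) (tt N26296 F197614) (tt N26203 F197615) (tt N27607 (iv F200496)) (tt N27203 F198551) (tt N27258 (iv F198926)) (tt N26196 F197616) (tt N27360 (iv F199575)) (tt N26195 (iv D42946)))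
theorem Q27021 : ∀ i, i < 27021 → P i := stepQ 27020 Q27020 (allL N27020 (tt N27336 (iv F199414)) (tt N27144 (iv F198149)) (tt N27495 (iv F200130)) (tt N26200 F197617) (tt N27603 (iv F200484)) (tt N27418 (iv F199837)) (tt N27570 (iv F200389)) (tt N26198 (iv D42947)) (tt N26204 F197618) (tt N27608 D43535))
theorem Q27022 : ∀ i, i < 27022 → P i := stepQ 27021 Q27021 (allL N27021 (tt N27337 (iv F199419)) (tt N27145 (iv F198155)) (tt N27516 (iv F200201)) (tt N26201 F197619) (tt N27598 (iv F200467)) (tt N27419 (iv F199842)) (tt N26199 F197620) (tt N27608 (iv F200499)) (tt N27445 (iv F199962)) (tt N26198 (iv D42948)))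
theorem Q27023 : ∀ i, i < 27023 → P i := stepQ 27022 Q27022 (allL N27022 (tt N27338 (iv F199424)) (tt N27438 (iv F199926)) (tt N26207 F197621) (tt N27608 (iv F200498)) (tt N26203 F197622) (tt N27421 (iv F199852)) (tt N27574 (iv F200400)) (tt N26201 F197623) (tt N27437 (iv F199924)) (tt N26200 (iv D42949)))
theorem Q27024 : ∀ i, i < 27024 → P i := stepQ 27023 Q27023 (allL N27023 (tt N27260 (iv F198938)) (tt N27335 (iv F199408)) (tt N27114 (iv F197953)) (tt N27498 (iv F200143)) (tt N26230 F197624) (tt N27578 (iv F200413)) (tt N26205 (iv D42950)) (tt N27098 (iv F197851)) (tt N26208 F197625) (tt N27609 D43536))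
theorem Q27025 : ∀ i, i < 27025 → P i := stepQ 27024 Q27024 (allL N27024 (tt N27261 (iv F198944)) (tt N27332 (iv F199384)) (tt N27421 (iv F199850)) (tt N27499 (iv F200147)) (tt N27257 (iv F198916)) (tt N26207 F197626) (tt N27609 (iv F200501)) (tt N26206 F197627) (tt N27325 (iv F199345)) (tt N26205 (iv D42951)))
theorem Q27026 : ∀ i, i < 27026 → P i := stepQ 27025 Q27025 (allL N27025 (tt N27457 (iv F200008)) (tt N26282 F197628) (tt N27144 (iv F198150)) (tt N26214 F197629) (tt N27539 (iv F200285)) (tt N27327 (iv F199358)) (tt N27584 (iv F200425)) (tt N26212 (iv D42952)) (tt N26217 F197630) (tt N27610 D43537))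
theorem Q27027 : ∀ i, i < 27027 → P i := stepQ 27026 Q27026 (allL N27026 (tt N27458 (iv F200013)) (tt N26283 F197631) (tt N27145 (iv F198156)) (tt N26215 F197632) (tt N27540 (iv F200290)) (tt N27328 (iv F199364)) (tt N26213 F197633) (tt N27610 (iv F200505)) (tt N27157 (iv F198235)) (tt N26212 (iv D42953)))
theorem Q27028 : ∀ i, i < 27028 → P i := stepQ 27027 Q27027 (allL N27027 (tt N27532 (iv F200244)) (tt N26285 F197634) (tt N27171 (iv F198321)) (tt N27610 (iv F200504)) (tt N26216 F197635) (tt N27444 F199958) (tt N27586 (iv F200433)) (tt N26215 F197636) (tt N27160 (iv F198255)) (tt N26214 (iv D42954)))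
theorem Q27029 : ∀ i, i < 27029 → P i := stepQ 27028 Q27028 (allL N27028 (tt N27180 (iv F198387)) (tt N27536 (iv F200265)) (tt N27343 (iv F199462)) (tt N27092 (iv F197810)) (tt N27461 (iv F200024)) (tt N26219 (iv D42955)) (tt N27393 (iv F199729)) (tt N27178 (iv F198377)) (tt N27028 F197637) (tt N27611 D43538))
theorem Q27030 : ∀ i, i < 27030 → P i := stepQ 27029 Q27029 (allL N27029 (tt N27181 (iv F198393)) (tt N27537 (iv F200272)) (tt N27344 (iv F199469)) (tt N27093 (iv F197816)) (tt N26220 F197638) (tt N27611 (iv F200506)) (tt N26258 F197639) (tt N27179 (iv F198385)) (tt N26226 F197640) (tt N26219 (iv D42956)))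
theorem Q27031 : ∀ i, i < 27031 → P i := stepQ 27030 Q27030 (allL N27030 (tt N27198 (iv F198514)) (tt N27178 (iv F198372)) (tt N27541 (iv F200293)) (tt N27403 (iv F199766)) (tt N26264 F197641) (tt N26221 (iv D42957)) (tt N27113 (iv F197949)) (tt N27536 (iv F200270)) (tt N27030 F197642) (tt N27612 D43539))
theorem Q27032 : ∀ i, i < 27032 → P i := stepQ 27031 Q27031 (allL N27031 (tt N27200 (iv F198526)) (tt N27179 (iv F198380)) (tt N27543 (iv F200301)) (tt N27404 (iv F199770)) (tt N26223 F197643) (tt N27612 (iv F200508)) (tt N26222 F197644) (tt N27537 (iv F200277)) (tt N27465 (iv F200040)) (tt N26221 (iv D42958)))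
theorem Q27033 : ∀ i, i < 27033 → P i := stepQ 27032 Q27032 (allL N27032 (tt N27406 (iv F199784)) (tt N27329 (iv F199368)) (tt N27546 (iv F200315)) (tt N27613 D43540) (tt N26225 (iv D42959)) (tt N26227 F197645) (tt N27588 (iv F200439)) (tt N27466 (iv F200042)) (tt N27032 F197646) (tt N27614 D43541))
theorem Q27034 : ∀ i, i < 27034 → P i := stepQ 27033 Q27033 (allL N27033 (tt N27407 (iv F199787)) (tt N27577 (iv F200410)) (tt N27548 (iv F200322)) (tt N27208 (iv F198580)) (tt N27614 (iv F200511)) (tt N26226 F197647) (tt N27590 (iv F200446)) (tt N27468 (iv F200047)) (tt N27615 D43542) (tt N26225 (iv D42960)))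
theorem Q27035 : ∀ i, i < 27035 → P i := stepQ 27034 Q27034 (allL N27034 (tt N27408 (iv F199789)) (tt N27319 (iv F199300)) (tt N27616 D43543) (tt N26227 (iv D42961)) (tt N26231 F197648) (tt N27613 (iv F200509)) (tt N27125 F198027) (tt N27469 (iv F200049)) (tt N26229 F197649) (tt N27617 D43544))
theorem Q27036 : ∀ i, i < 27036 → P i := stepQ 27035 Q27035 (allL N27035 (tt N27409 (iv F199794)) (tt N27331 (iv F199379)) (tt N27550 (iv F200327)) (tt N27617 (iv F200516)) (tt N26228 F197650) (tt N27614 (iv F200512)) (tt N27325 (iv F199343)) (tt N27470 (iv F200052)) (tt N27609 (iv F200502)) (tt N26227 (iv D42962)))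
theorem Q27037 : ∀ i, i < 27037 → P i := stepQ 27036 Q27036 (allL N27036 (tt N27262 (iv F198950)) (tt N27334 (iv F199400)) (tt N27117 (iv F197968)) (tt N26233 F197651) (tt N27609 (iv F200500)) (tt N27133 (iv F198077)) (tt N27257 (iv F198918)) (tt N27100 (iv F197865)) (tt N26228 (iv D42963)) (tt N26230 F197652))
theorem Q27038 : ∀ i, i < 27038 → P i := stepQ 27037 Q27037 (allL N27037 (tt N27410 (iv F199796)) (tt N27505 (iv F200172)) (tt N26229 (iv D42964)) (tt N27551 (iv F200329)) (tt N26234 F197653) (tt N27037 F197654) (tt N27109 F197929) (tt N27471 (iv F200056)) (tt N27616 (iv F200515)) (tt N27534 (iv F200258)))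
theorem Q27039 : ∀ i, i < 27039 → P i := stepQ 27038 Q27038 (allL N27038 (tt N27411 (iv F199801)) (tt N27618 D43545) (tt N26231 (iv D42965)) (tt N26240 F197655) (tt N27616 (iv F200514)) (tt N27211 (iv F198598)) (tt N27215 (iv F198624)) (tt N27472 (iv F200058)) (tt N26234 F197656) (tt N27619 D43546))
theorem Q27040 : ∀ i, i < 27040 → P i := stepQ 27039 Q27039 (allL N27039 (tt N27412 (iv F199806)) (tt N27337 (iv F199420)) (tt N27619 (iv F200523)) (tt N26232 F197657) (tt N27617 (iv F200517)) (tt N27212 (iv F198605)) (tt N27218 (iv F198644)) (tt N27474 (iv F200063)) (tt N27620 D43547) (tt N26231 (iv D42966)))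
theorem Q27041 : ∀ i, i < 27041 → P i := stepQ 27040 Q27040 (allL N27040 (tt N27413 (iv F199811)) (tt N27216 (iv F198627)) (tt N26245 F197658) (tt N27620 (iv F200525)) (tt N26233 F197659) (tt N27621 D43548) (tt N27326 (iv F199352)) (tt N27477 (iv F200072)) (tt N26232 (iv D42967)) (tt N26236 F197660))
theorem Q27042 : ∀ i, i < 27042 → P i := stepQ 27041 Q27041 (allL N27041 (tt N27390 (iv F199712)) (tt N26234 (iv D42968)) (tt N26251 F197661) (tt N26239 F197662) (tt N27505 (iv F200174)) (tt N26237 F197663) (tt N26249 F197664) (tt N27478 (iv F200077)) (tt N27618 (iv F200522)) (tt N26248 (iv F197665)))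
theorem Q27043 : ∀ i, i < 27043 → P i := stepQ 27042 Q27042 (allL N27042 (tt N27383 (iv F199681)) (tt N26248 F197666) (tt N26235 F197667) (tt N26249 F197668) (tt N27534 (iv F200256)) (tt N26238 F197669) (tt N26239 F197670) (tt N27480 (iv F200086)) (tt N27622 D43549) (tt N26234 (iv D42969)))
theorem Q27044 : ∀ i, i < 27044 → P i := stepQ 27043 Q27043 (allL N27043 (tt N27414 (iv F199817)) (tt N27211 F198601) (tt N27622 (iv F200532)) (tt N26236 F197671) (tt N27498 (iv F200144)) (tt N27618 (iv F200520)) (tt N26255 F197672) (tt N27481 (iv F200088)) (tt N26235 (iv D42970)) (tt N27620 (iv F200527)))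
theorem Q27045 : ∀ i, i < 27045 → P i := stepQ 27044 Q27044 (allL N27044 (tt N27415 (iv F199821)) (tt N26240 F197673) (tt N26255 F197674) (tt N27618 (iv F200519)) (tt N27496 (iv F200135)) (tt N26236 (iv D42971)) (tt N27622 (iv F200535)) (tt N27482 (iv F200092)) (tt N26239 F197675) (tt N27621 (iv F200530)))
theorem Q27046 : ∀ i, i < 27046 → P i := stepQ 27045 Q27045 (allL N27045 (tt N27416 (iv F199825)) (tt N27622 (iv F200531)) (tt N26241 F197676) (tt N27215 (iv F198623)) (tt N27558 (iv F200353)) (tt N27214 (iv F198618)) (tt N26240 (iv D42972)) (tt N27623 D43550) (tt N26248 F197677) (tt N27624 D43551))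
theorem Q27047 : ∀ i, i < 27047 → P i := stepQ 27046 Q27046 (allL N27046 (tt N27417 (iv F199831)) (tt N27621 (iv F200528)) (tt N26242 F197678) (tt N27619 (iv F200524)) (tt N27559 (iv F200356)) (tt N27216 (iv F198630)) (tt N27624 (iv F200539)) (tt N27484 (iv F200097)) (tt N27625 D43552) (tt N26240 (iv D42973)))
theorem Q27048 : ∀ i, i < 27048 → P i := stepQ 27047 Q27047 (allL N27047 (tt N27418 (iv F199834)) (tt N27185 (iv F198424)) (tt N27623 (iv F200536)) (tt N26243 F197679) (tt N27561 (iv F200360)) (tt N27336 (iv F199417)) (tt N27486 (iv F200101)) (tt N26241 (iv D42974)) (tt N26250 F197680) (tt N27626 D43553))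
theorem Q27049 : ∀ i, i < 27049 → P i := stepQ 27048 Q27048 (allL N27048 (tt N27419 (iv F199839)) (tt N27212 (iv F198603)) (tt N27624 (iv F200538)) (tt N26244 F197681) (tt N27562 (iv F200363)) (tt N27337 (iv F199422)) (tt N26242 F197682) (tt N27626 (iv F200544)) (tt N27627 D43554) (tt N26241 (iv D42975)))
theorem Q27050 : ∀ i, i < 27050 → P i := stepQ 27049 Q27049 (allL N27049 (tt N27420 (iv F199844)) (tt N27290 (iv F199122)) (tt N27625 (iv F200540)) (tt N26245 F197683) (tt N27502 (iv F200161)) (tt N27326 (iv F199351)) (tt N27627 (iv F200546)) (tt N27488 (iv F200108)) (tt N26242 (iv D42976)) (tt N26252 F197684))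
theorem Q27051 : ∀ i, i < 27051 → P i := stepQ 27050 Q27050 (allL N27050 (tt N27421 (iv F199849)) (tt N27187 (iv F198435)) (tt N27261 (iv F198946)) (tt N27626 (iv F200543)) (tt N26246 F197685) (tt N27338 (iv F199428)) (tt N27491 (iv F200116)) (tt N26244 F197686) (tt N27628 D43555) (tt N26243 (iv D42977)))
theorem Q27052 : ∀ i, i < 27052 → P i := stepQ 27051 Q27051 (allL N27051 (tt N27422 (iv F199854)) (tt N27213 (iv F198608)) (tt N27326 (iv F199348)) (tt N27627 (iv F200545)) (tt N26247 F197687) (tt N27625 (iv F200541)) (tt N26245 F197688) (tt N27628 (iv F200549)) (tt N26244 (iv D42978)) (tt N26254 F197689))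
theorem Q27053 : ∀ i, i < 27053 → P i := stepQ 27052 Q27052 (allL N27052 (tt N27423 (iv F199860)) (tt N27289 (iv F199114)) (tt N27621 (iv F200529)) (tt N27326 (iv F199349)) (tt N27499 (iv F200148)) (tt N26245 (iv D42979)) (tt N27620 (iv F200526)) (tt N27492 (iv F200120)) (tt N27218 (iv F198645)) (tt N26255 F197690))
theorem Q27054 : ∀ i, i < 27054 → P i := stepQ 27053 Q27053 (allL N27053 (tt N27323 (iv F199326)) (tt N27189 (iv F198449)) (tt N27263 (iv F198960)) (tt N27227 (iv F198702)) (tt N27628 (iv F200548)) (tt N27267 (iv F198991)) (tt N27222 (iv F198672)) (tt N26247 F197691) (tt N26246 (iv D42980)) (tt N26256 F197692))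
theorem Q27055 : ∀ i, i < 27055 → P i := stepQ 27054 Q27054 (allL N27054 (tt N27258 (iv F198921)) (tt N27101 (iv F197868)) (tt N27256 (iv F198905)) (tt N27274 (iv F199030)) (tt N27533 (iv F200251)) (tt N26247 (iv D42981)) (tt N27333 (iv F199396)) (tt N27267 (iv F198993)) (tt N26276 F197693) (tt N26257 F197694))
theorem Q27056 : ∀ i, i < 27056 → P i := stepQ 27055 Q27055 (allL N27055 (tt N27424 (iv F199865)) (tt N27480 (iv F200082)) (tt N26250 F197695) (tt N27194 (iv F198489)) (tt N27566 (iv F200373)) (tt N26299 F197696) (tt N27493 (iv F200124)) (tt N26248 (iv D42982)) (tt N27623 (iv F200537)) (tt N27478 F200078))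
theorem Q27057 : ∀ i, i < 27057 → P i := stepQ 27056 Q27056 (allL N27056 (tt N27384 (iv F199687)) (tt N27215 (iv F198621)) (tt N26252 F197697) (tt N27622 (iv F200533)) (tt N27500 (iv F200151)) (tt N26254 F197698) (tt N27618 (iv F200521)) (tt N27494 (iv F200128)) (tt N26249 (iv D42983)) (tt N27625 (iv F200542)))
theorem Q27058 : ∀ i, i < 27058 → P i := stepQ 27057 Q27057 (allL N27057 (tt N27324 (iv F199334)) (tt N27192 (iv F198473)) (tt N27478 (iv F200074)) (tt N26253 F197699) (tt N27230 (iv F198722)) (tt N26300 F197700) (tt N27223 (iv F198679)) (tt N26251 F197701) (tt N27629 D43556) (tt N26250 (iv D42984)))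
theorem Q27059 : ∀ i, i < 27059 → P i := stepQ 27058 Q27058 (allL N27058 (tt N27425 (iv F199870)) (tt N27214 (iv F198614)) (tt N27618 (iv F200518)) (tt N26254 F197702) (tt N27501 (iv F200157)) (tt N27622 (iv F200534)) (tt N26252 F197703) (tt N27629 (iv F200552)) (tt N26251 (iv D42985)) (tt N27627 (iv F200547)))
theorem Q27060 : ∀ i, i < 27060 → P i := stepQ 27059 Q27059 (allL N27059 (tt N27322 (iv F199320)) (tt N27193 (iv F198481)) (tt N27264 (iv F198968)) (tt N27629 (iv F200551)) (tt N26256 F197704) (tt N27494 (iv F200127)) (tt N27221 (iv F198664)) (tt N26254 F197705) (tt N26253 (iv D42986)) (tt N27628 (iv F200550)))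
theorem Q27061 : ∀ i, i < 27061 → P i := stepQ 27060 Q27060 (allL N27060 (tt N27426 (iv F199874)) (tt N27368 (iv F199605)) (tt N26264 F197706) (tt N27544 (iv F200307)) (tt N27541 (iv F200294)) (tt N26259 (iv D42987)) (tt N27130 (iv F198059)) (tt N27370 (iv F199625)) (tt N27060 F197707) (tt N27630 D43557))
theorem Q27062 : ∀ i, i < 27062 → P i := stepQ 27061 Q27061 (allL N27061 (tt N27427 (iv F199880)) (tt N27369 (iv F199613)) (tt N26266 F197708) (tt N27545 (iv F200311)) (tt N26261 F197709) (tt N27630 (iv F200554)) (tt N26260 F197710) (tt N27371 (iv F199632)) (tt N27454 (iv F199998)) (tt N26259 (iv D42988)))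
theorem Q27063 : ∀ i, i < 27063 → P i := stepQ 27062 Q27062 (allL N27062 (tt N27428 (iv F199886)) (tt N27376 (iv F199650)) (tt N27600 (iv F200474)) (tt N26264 F197711) (tt N27519 (iv F200209)) (tt N26262 (iv D42989)) (tt N26292 F197712) (tt N27631 D43558) (tt N27062 F197713) (tt N27632 D43559))
theorem Q27064 : ∀ i, i < 27064 → P i := stepQ 27063 Q27063 (allL N27063 (tt N27429 (iv F199890)) (tt N27584 (iv F200422)) (tt N27599 (iv F200469)) (tt N26265 F197714) (tt N26290 F197715) (tt N27631 (iv F200556)) (tt N26282 F197716) (tt N26262 (iv D42990)) (tt N26270 F197717) (tt N27633 D43560))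
theorem Q27065 : ∀ i, i < 27065 → P i := stepQ 27064 Q27064 (allL N27064 (tt N27430 (iv F199895)) (tt N27585 (iv F200427)) (tt N27592 (iv F200451)) (tt N26266 F197718) (tt N26291 F197719) (tt N27632 (iv F200559)) (tt N26263 F197720) (tt N27633 (iv F200564)) (tt N27568 (iv F200384)) (tt N26262 (iv D42991)))
theorem Q27066 : ∀ i, i < 27066 → P i := stepQ 27065 Q27065 (allL N27065 (tt N27431 (iv F199899)) (tt N27461 (iv F200023)) (tt N27370 (iv F199622)) (tt N27631 (iv F200555)) (tt N27536 (iv F200268)) (tt N26265 F197721) (tt N27555 (iv F200344)) (tt N26264 (iv D42992)) (tt N27065 F197722) (tt N27634 D43561))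
theorem Q27067 : ∀ i, i < 27067 → P i := stepQ 27066 Q27066 (allL N27066 (tt N27432 (iv F199903)) (tt N27462 (iv F200027)) (tt N27630 (iv F200553)) (tt N27632 (iv F200558)) (tt N27612 (iv F200507)) (tt N26266 F197723) (tt N27136 (iv F198098)) (tt N27634 (iv F200566)) (tt N27635 D43562) (tt N26264 (iv D42993)))
theorem Q27068 : ∀ i, i < 27068 → P i := stepQ 27067 Q27067 (allL N27067 (tt N27433 (iv F199906)) (tt N27586 (iv F200431)) (tt N27371 (iv F199629)) (tt N27633 (iv F200561)) (tt N26268 F197724) (tt N27634 (iv F200565)) (tt N26285 F197725) (tt N26266 F197726) (tt N27636 D43563) (tt N26265 (iv D42994)))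
theorem Q27069 : ∀ i, i < 27069 → P i := stepQ 27068 Q27068 (allL N27068 (tt N27434 (iv F199911)) (tt N27132 (iv F198068)) (tt N27454 (iv F199994)) (tt N27568 (iv F200381)) (tt N26269 F197727) (tt N27637 D43564) (tt N26267 F197728) (tt N27636 (iv F200570)) (tt N26266 (iv D42995)) (tt N26272 F197729))
theorem Q27070 : ∀ i, i < 27070 → P i := stepQ 27069 Q27069 (allL N27069 (tt N27396 (iv F199742)) (tt N27133 (iv F198074)) (tt N27346 (iv F199484)) (tt N27340 (iv F199441)) (tt N27636 (iv F200568)) (tt N27334 (iv F199403)) (tt N26287 F197730) (tt N26269 F197731) (tt N26268 (iv D42996)) (tt N26273 F197732))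
theorem Q27071 : ∀ i, i < 27071 → P i := stepQ 27070 Q27070 (allL N27070 (tt N27360 (iv F199568)) (tt N27100 (iv F197860)) (tt N27293 (iv F199144)) (tt N27339 (iv F199433)) (tt N27638 D43565) (tt N26269 (iv D42997)) (tt N26276 F197733) (tt N27334 (iv F199405)) (tt N27333 (iv F199398)) (tt N26274 F197734))
theorem Q27072 : ∀ i, i < 27072 → P i := stepQ 27071 Q27071 (allL N27071 (tt N27395 (iv F199736)) (tt N27131 (iv F198062)) (tt N27345 (iv F199477)) (tt N27567 (iv F200376)) (tt N26273 F197735) (tt N27639 D43566) (tt N26289 F197736) (tt N26272 F197737) (tt N26271 (iv D42998)) (tt N27636 (iv F200571)))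
theorem Q27073 : ∀ i, i < 27073 → P i := stepQ 27072 Q27072 (allL N27072 (tt N27435 (iv F199915)) (tt N27130 (iv F198057)) (tt N27373 (iv F199641)) (tt N27547 (iv F200319)) (tt N27593 (iv F200456)) (tt N26272 (iv D42999)) (tt N27368 (iv F199609)) (tt N27639 (iv F200575)) (tt N27072 F197738) (tt N27637 (iv F200572)))
theorem Q27074 : ∀ i, i < 27074 → P i := stepQ 27073 Q27073 (allL N27073 (tt N27359 (iv F199562)) (tt N27098 (iv F197848)) (tt N27291 (iv F199131)) (tt N27506 (iv F200177)) (tt N26274 (iv D43000)) (tt N27593 (iv F200457)) (tt N26277 F197739) (tt N27335 (iv F199413)) (tt N26275 F197740) (tt N27638 (iv F200574)))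
theorem Q27075 : ∀ i, i < 27075 → P i := stepQ 27074 Q27074 (allL N27074 (tt N27438 (iv F199925)) (tt N27099 (iv F197854)) (tt N27292 (iv F199137)) (tt N27522 (iv F200217)) (tt N26276 (iv D43001)) (tt N27535 (iv F200262)) (tt N27638 (iv F200573)) (tt N27405 (iv F199782)) (tt N27533 (iv F200253)) (tt N26277 F197741))
theorem Q27076 : ∀ i, i < 27076 → P i := stepQ 27075 Q27075 (allL N27075 (tt N27381 (iv F199671)) (tt N27416 (iv F199826)) (tt N26281 F197742) (tt N27352 (iv F199525)) (tt N27640 D43567) (tt N26279 (iv D43002)) (tt N27162 (iv F198267)) (tt N27552 (iv F200335)) (tt N26297 F197743) (tt N27641 D43568))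
theorem Q27077 : ∀ i, i < 27077 → P i := stepQ 27076 Q27076 (allL N27076 (tt N27441 (iv F199940)) (tt N27495 (iv F200129)) (tt N26282 F197744) (tt N27341 F199453) (tt N27567 (iv F200377)) (tt N27552 (iv F200334)) (tt N27599 (iv F200472)) (tt N26279 (iv D43003)) (tt N26288 F197745) (tt N27642 D43569))
theorem Q27078 : ∀ i, i < 27078 → P i := stepQ 27077 Q27077 (allL N27077 (tt N27442 (iv F199944)) (tt N27516 (iv F200200)) (tt N26283 F197746) (tt N27456 (iv F200004)) (tt N27568 (iv F200382)) (tt N27641 (iv F200580)) (tt N26280 F197747) (tt N27642 (iv F200582)) (tt N26291 F197748) (tt N26279 (iv D43004)))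
theorem Q27079 : ∀ i, i < 27079 → P i := stepQ 27078 Q27078 (allL N27078 (tt N27378 (iv F199657)) (tt N27316 (iv F199286)) (tt N27640 (iv F200577)) (tt N27124 (iv F198017)) (tt N26281 (iv D43005)) (tt N27588 (iv F200438)) (tt N27123 (iv F198012)) (tt N27549 (iv F200325)) (tt N26298 F197749) (tt N27643 D43570))
theorem Q27080 : ∀ i, i < 27080 → P i := stepQ 27079 Q27079 (allL N27079 (tt N27382 (iv F199676)) (tt N27328 (iv F199361)) (tt N27641 (iv F200579)) (tt N26284 F197750) (tt N27643 (iv F200584)) (tt N26283 F197751) (tt N27166 (iv F198291)) (tt N27554 (iv F200341)) (tt N27388 (iv F199705)) (tt N26281 (iv D43006)))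
theorem Q27081 : ∀ i, i < 27081 → P i := stepQ 27080 Q27080 (allL N27080 (tt N27443 (iv F199949)) (tt N27610 (iv F200503)) (tt N27642 (iv F200581)) (tt N26285 F197752) (tt N27591 (iv F200448)) (tt N27554 (iv F200340)) (tt N27633 (iv F200563)) (tt N26283 F197753) (tt N27604 (iv F200489)) (tt N26282 (iv D43007)))
theorem Q27082 : ∀ i, i < 27082 → P i := stepQ 27081 Q27081 (allL N27081 (tt N27444 (iv F199952)) (tt N27160 (iv F198251)) (tt N27372 (iv F199635)) (tt N27604 (iv F200487)) (tt N26287 F197754) (tt N27532 (iv F200247)) (tt N27636 (iv F200569)) (tt N26286 F197755) (tt N26285 (iv D43008)) (tt N26289 F197756))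
theorem Q27083 : ∀ i, i < 27083 → P i := stepQ 27082 Q27082 (allL N27082 (tt N27450 (iv F199979)) (tt N27587 (iv F200435)) (tt N27604 (iv F200486)) (tt N27535 (iv F200260)) (tt N27633 (iv F200562)) (tt N27522 (iv F200218)) (tt N27591 (iv F200449)) (tt N26291 F197757) (tt N27642 (iv F200583)) (tt N26290 (iv D43009)))
theorem Q27084 : ∀ i, i < 27084 → P i := stepQ 27083 Q27083 (allL N27083 (tt N27451 (iv F199981)) (tt N27219 (iv F198648)) (tt N27605 (iv F200490)) (tt N27135 (iv F198091)) (tt N27527 (iv F200232)) (tt N26293 F197758) (tt N27644 D43571) (tt N26292 (iv D43010)) (tt N27083 F197759) (tt N27645 D43572))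
theorem Q27085 : ∀ i, i < 27085 → P i := stepQ 27084 Q27084 (allL N27084 (tt N27452 (iv F199985)) (tt N27377 (iv F199654)) (tt N27606 (iv F200493)) (tt N27136 (iv F198096)) (tt N27528 (iv F200235)) (tt N26294 F197760) (tt N27632 (iv F200560)) (tt N27645 (iv F200587)) (tt N27646 D43573) (tt N26292 (iv D43011)))
theorem Q27086 : ∀ i, i < 27086 → P i := stepQ 27085 Q27085 (allL N27085 (tt N27453 (iv F199988)) (tt N27220 (iv F198654)) (tt N27607 (iv F200495)) (tt N27137 (iv F198101)) (tt N26296 F197761) (tt N27645 (iv F200586)) (tt N27167 (iv F198297)) (tt N26294 F197762) (tt N27362 (iv F199582)) (tt N26293 (iv D43012)))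
theorem Q27087 : ∀ i, i < 27087 → P i := stepQ 27086 Q27086 (allL N27086 (tt N27380 (iv F199666)) (tt N27239 (iv F198774)) (tt N26298 F197763) (tt N27471 (iv F200053)) (tt N26297 (iv D43013)) (tt N27086 F197764) (tt N27121 (iv F197998)) (tt N27551 (iv F200332)) (tt N27640 (iv F200578)) (tt N27120 F197992))
theorem Q27088 : ∀ i, i < 27088 → P i := stepQ 27087 Q27087 (allL N27087 (tt N26798 F197765) (tt N26308 F197766) (tt N26926 F197767) (tt N26306 F197768) (tt N27647 D43574) (tt N26303 (iv D43014)) (tt N26650 F197769) (tt N26771 F197770) (tt N26624 F197771) (tt N26304 F197772))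
theorem Q27089 : ∀ i, i < 27089 → P i := stepQ 27088 Q27088 (allL N27088 (tt N26799 F197773) (tt N26307 F197774) (tt N26923 F197775) (tt N26678 F197776) (tt N26304 (iv D43015)) (tt N26554 F197777) (tt N26649 F197778) (tt N26770 F197779) (tt N26305 F197780) (tt N27647 (iv F200597)))
theorem Q27090 : ∀ i, i < 27090 → P i := stepQ 27089 Q27089 (allL N27089 (tt N26313 F197781) (tt N27647 (iv F200590)) (tt N26547 F197782) (tt N26777 F197783) (tt N26308 F197784) (tt N26562 F197785) (tt N26652 F197786) (tt N26772 F197787) (tt N26774 F197788) (tt N26307 (iv D43016)))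
theorem Q27091 : ∀ i, i < 27091 → P i := stepQ 27090 Q27090 (allL N27090 (tt N26317 F197789) (tt N26820 F197790) (tt N26316 F197791) (tt N26772 F197792) (tt N26311 F197793) (tt N26781 F197794) (tt N26314 F197795) (tt N26777 F197796) (tt N26310 (iv D43017)) (tt N26312 F197797))
theorem Q27092 : ∀ i, i < 27092 → P i := stepQ 27091 Q27091 (allL N27091 (tt N26927 F197798) (tt N26394 F197799) (tt N26777 F197800) (tt N26518 F197801) (tt N26318 F197802) (tt N26755 F197803) (tt N26822 F197804) (tt N26316 F197805) (tt N26773 F197806) (tt N26315 (iv D43018)))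
theorem Q27093 : ∀ i, i < 27093 → P i := stepQ 27092 Q27092 (allL N27092 (tt N26832 F197807) (tt N26982 F197808) (tt N26681 F197809) (tt N27028 F197810) (tt N27648 D43575) (tt N26319 (iv D43019)) (tt N27649 D43576) (tt N26717 F197811) (tt N27092 F197812) (tt N27650 D43577))
theorem Q27094 : ∀ i, i < 27094 → P i := stepQ 27093 Q27093 (allL N27093 (tt N26833 F197813) (tt N26980 F197814) (tt N26682 F197815) (tt N27029 F197816) (tt N26321 F197817) (tt N27650 (iv F200614)) (tt N26350 F197818) (tt N26718 F197819) (tt N26444 F197820) (tt N26319 (iv D43020)))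
theorem Q27095 : ∀ i, i < 27095 → P i := stepQ 27094 Q27094 (allL N27094 (tt N26834 F197821) (tt N26983 F197822) (tt N26683 F197823) (tt N27651 D43578) (tt N26320 (iv D43021)) (tt N27648 (iv F200601)) (tt N26845 F197824) (tt N26719 F197825) (tt N26322 F197826) (tt N27652 D43579))
theorem Q27096 : ∀ i, i < 27096 → P i := stepQ 27095 Q27095 (allL N27095 (tt N26835 F197827) (tt N26981 F197828) (tt N26684 F197829) (tt N26325 F197830) (tt N27652 (iv F200625)) (tt N26321 F197831) (tt N26841 F197832) (tt N26720 F197833) (tt N26840 F197834) (tt N26320 (iv D43022)))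
theorem Q27097 : ∀ i, i < 27097 → P i := stepQ 27096 Q27096 (allL N27096 (tt N26836 F197835) (tt N26920 F197836) (tt N27653 D43580) (tt N26322 (iv D43023)) (tt N26326 F197837) (tt N27096 F197838) (tt N26844 F197839) (tt N26721 F197840) (tt N27651 (iv F200621)) (tt N26843 F197841))
theorem Q27098 : ∀ i, i < 27098 → P i := stepQ 27097 Q27097 (allL N27097 (tt N26837 F197842) (tt N26893 F197843) (tt N27654 D43581) (tt N26323 (iv D43024)) (tt N27651 (iv F200618)) (tt N26991 F197844) (tt N27655 D43582) (tt N26722 F197845) (tt N26326 F197846) (tt N27656 D43583))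
theorem Q27099 : ∀ i, i < 27099 → P i := stepQ 27098 Q27098 (allL N27098 (tt N26838 F197847) (tt N27073 F197848) (tt N26334 F197849) (tt N27655 (iv F200644)) (tt N26324 F197850) (tt N27657 D43584) (tt N26323 (iv D43025)) (tt N27023 F197851) (tt N26327 F197852) (tt N27658 D43585))
theorem Q27100 : ∀ i, i < 27100 → P i := stepQ 27099 Q27099 (allL N27099 (tt N26839 F197853) (tt N27074 F197854) (tt N26335 F197855) (tt N27656 (iv F200650)) (tt N26325 F197856) (tt N26994 F197857) (tt N27658 (iv F200664)) (tt N26723 F197858) (tt N27659 D43586) (tt N26323 (iv D43026)))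
theorem Q27101 : ∀ i, i < 27101 → P i := stepQ 27100 Q27100 (allL N27100 (tt N26840 F197859) (tt N27070 F197860) (tt N26337 F197861) (tt N26841 F197862) (tt N27658 (iv F200663)) (tt N26355 F197863) (tt N26325 F197864) (tt N27036 F197865) (tt N26835 F197866) (tt N26324 (iv D43027)))
theorem Q27102 : ∀ i, i < 27102 → P i := stepQ 27101 Q27101 (allL N27101 (tt N26841 F197867) (tt N27054 F197868) (tt N26338 F197869) (tt N26840 F197870) (tt N27659 (iv F200670)) (tt N26450 F197871) (tt N26835 F197872) (tt N26724 F197873) (tt N26325 (iv D43028)) (tt N26329 F197874))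
theorem Q27103 : ∀ i, i < 27103 → P i := stepQ 27102 Q27102 (allL N27102 (tt N26842 F197875) (tt N27660 D43587) (tt N26326 (iv D43029)) (tt N26339 F197876) (tt N27653 (iv F200632)) (tt N26330 F197877) (tt N27661 D43588) (tt N26725 F197878) (tt N27654 (iv F200641)) (tt N27662 D43589))
theorem Q27104 : ∀ i, i < 27104 → P i := stepQ 27103 Q27103 (allL N27103 (tt N26843 F197879) (tt N26919 F197880) (tt N27661 (iv F200684)) (tt N26327 F197881) (tt N26844 F197882) (tt N27103 F197883) (tt N26326 (iv D43030)) (tt N26918 F197884) (tt N27655 (iv F200647)) (tt N26836 (iv F197885)))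
theorem Q27105 : ∀ i, i < 27105 → P i := stepQ 27104 Q27104 (allL N27104 (tt N26844 F197886) (tt N26909 F197887) (tt N27662 (iv F200692)) (tt N26328 F197888) (tt N26843 F197889) (tt N26331 F197890) (tt N26836 F197891) (tt N26726 F197892) (tt N27663 D43590) (tt N26326 (iv D43031)))
theorem Q27106 : ∀ i, i < 27106 → P i := stepQ 27105 Q27105 (allL N27105 (tt N26845 F197893) (tt N26912 F197894) (tt N26344 F197895) (tt N27663 (iv F200700)) (tt N26329 F197896) (tt N27664 D43591) (tt N26834 F197897) (tt N26727 F197898) (tt N26328 (iv D43032)) (tt N27659 (iv F200673)))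
theorem Q27107 : ∀ i, i < 27107 → P i := stepQ 27106 Q27106 (allL N27106 (tt N26809 (iv F197905)) (tt N26330 (iv D43033)) (tt N26403 F197899) (tt N26346 F197900) (tt N27106 F197901) (tt N27660 (iv F200677)) (tt N27106 F197902) (tt N26401 F197903) (tt N26405 F197904) (tt N26472 (iv F197906)))
theorem Q27108 : ∀ i, i < 27108 → P i := stepQ 27107 Q27107 (allL N27107 (tt N26847 F197907) (tt N26472 F197908) (tt N26331 F197909) (tt N26347 F197910) (tt N27107 F197911) (tt N27662 (iv F200695)) (tt N27107 F197912) (tt N26689 F197913) (tt N26626 F197914) (tt N26330 (iv D43034)))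
theorem Q27109 : ∀ i, i < 27109 → P i := stepQ 27108 Q27108 (allL N27108 (tt N26846 F197915) (tt N26809 F197916) (tt N26626 F197917) (tt N26332 F197918) (tt N27108 F197919) (tt N27665 D43592) (tt N27108 F197920) (tt N26728 F197921) (tt N26331 (iv D43035)) (tt N26808 F197922))
theorem Q27110 : ∀ i, i < 27110 → P i := stepQ 27109 Q27109 (allL N27109 (tt N26848 F197923) (tt N26871 F197924) (tt N26348 F197925) (tt N27665 (iv F200714)) (tt N26454 F197926) (tt N26332 (iv D43036)) (tt N27037 (iv F197929)) (tt N26729 F197927) (tt N27664 (iv F200709)) (tt N26917 F197928))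
theorem Q27111 : ∀ i, i < 27111 → P i := stepQ 27110 Q27110 (allL N27110 (tt N26849 F197930) (tt N27666 D43593) (tt N26333 (iv D43037)) (tt N27654 (iv F200638)) (tt N26690 F197931) (tt N26761 F197932) (tt N27667 D43594) (tt N26730 F197933) (tt N26339 F197934) (tt N27668 D43595))
theorem Q27112 : ∀ i, i < 27112 → P i := stepQ 27111 Q27111 (allL N27111 (tt N26850 F197935) (tt N26571 F197936) (tt N27667 (iv F200726)) (tt N26334 F197937) (tt N26691 F197938) (tt N27669 D43596) (tt N26333 (iv D43038)) (tt N27670 D43597) (tt N26340 F197939) (tt N27671 D43598))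
theorem Q27113 : ∀ i, i < 27113 → P i := stepQ 27112 Q27112 (allL N27112 (tt N26851 F197940) (tt N26572 F197941) (tt N27668 (iv F200730)) (tt N26335 F197942) (tt N26692 F197943) (tt N26763 F197944) (tt N27671 (iv F200750)) (tt N26732 F197945) (tt N27672 D43599) (tt N26333 (iv D43039)))
theorem Q27114 : ∀ i, i < 27114 → P i := stepQ 27113 Q27113 (allL N27113 (tt N26852 F197946) (tt N26573 F197947) (tt N27657 (iv F200655)) (tt N27669 (iv F200736)) (tt N26358 F197948) (tt N26334 (iv D43040)) (tt N27030 F197949) (tt N27673 D43600) (tt N27113 F197950) (tt N27674 D43601))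
theorem Q27115 : ∀ i, i < 27115 → P i := stepQ 27114 Q27114 (allL N27114 (tt N26853 F197951) (tt N26574 F197952) (tt N27023 F197953) (tt N27670 (iv F200742)) (tt N26336 F197954) (tt N27673 (iv F200764)) (tt N26733 F197955) (tt N26334 (iv D43041)) (tt N26342 F197956) (tt N27675 D43602))
theorem Q27116 : ∀ i, i < 27116 → P i := stepQ 27115 Q27115 (allL N27115 (tt N26854 F197957) (tt N26575 F197958) (tt N27658 (iv F200662)) (tt N27671 (iv F200748)) (tt N26337 F197959) (tt N27674 (iv F200770)) (tt N26335 F197960) (tt N27675 (iv F200777)) (tt N27676 D43603) (tt N26334 (iv D43042)))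
theorem Q27117 : ∀ i, i < 27117 → P i := stepQ 27116 Q27116 (allL N27116 (tt N26855 F197961) (tt N26576 F197962) (tt N27659 (iv F200669)) (tt N27672 (iv F200754)) (tt N26338 F197963) (tt N27677 D43604) (tt N27676 (iv F200784)) (tt N26735 F197964) (tt N26335 (iv D43043)) (tt N26344 F197965))
theorem Q27118 : ∀ i, i < 27118 → P i := stepQ 27117 Q27117 (allL N27117 (tt N26856 F197966) (tt N26577 F197967) (tt N27036 F197968) (tt N26695 F197969) (tt N27675 (iv F200775)) (tt N26362 F197970) (tt N26736 F197971) (tt N26337 F197972) (tt N26944 F197973) (tt N26336 (iv D43044)))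
theorem Q27119 : ∀ i, i < 27119 → P i := stepQ 27118 Q27118 (allL N27118 (tt N26684 F197974) (tt N26578 F197975) (tt N26835 F197976) (tt N26644 F197977) (tt N27676 (iv F200783)) (tt N26643 F197978) (tt N26338 F197979) (tt N26944 F197980) (tt N26337 (iv D43045)) (tt N26345 F197981))
theorem Q27120 : ∀ i, i < 27120 → P i := stepQ 27119 Q27119 (allL N27119 (tt N26871 F197982) (tt N26339 (iv D43046)) (tt N26407 F197983) (tt N27660 (iv F200675)) (tt N26696 F197984) (tt N26346 F197985) (tt N27678 D43605) (tt N26406 F197986) (tt N27666 (iv F200724)) (tt N26479 (iv F197987)))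
theorem Q27121 : ∀ i, i < 27121 → P i := stepQ 27120 Q27120 (allL N27120 (tt N26857 F197988) (tt N27678 (iv F200796)) (tt N26340 F197989) (tt N27661 (iv F200685)) (tt N26697 F197990) (tt N27120 F197991) (tt N26339 (iv D43047)) (tt N27679 D43606) (tt N27667 (iv F200728)) (tt N27086 (iv F197992)))
theorem Q27122 : ∀ i, i < 27122 → P i := stepQ 27121 Q27121 (allL N27121 (tt N26858 F197993) (tt N26479 F197994) (tt N26341 F197995) (tt N27662 (iv F200693)) (tt N26406 F197996) (tt N26347 F197997) (tt N27086 F197998) (tt N26696 F197999) (tt N27680 D43607) (tt N26339 (iv D43048)))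
theorem Q27123 : ∀ i, i < 27123 → P i := stepQ 27122 Q27122 (allL N27122 (tt N26859 F198000) (tt N26580 F198001) (tt N27679 (iv F200805)) (tt N26342 F198002) (tt N26698 F198003) (tt N27122 F198004) (tt N26739 F198005) (tt N26340 (iv D43049)) (tt N27670 (iv F200745)) (tt N26945 F198006))
theorem Q27124 : ∀ i, i < 27124 → P i := stepQ 27123 Q27123 (allL N27123 (tt N26860 F198007) (tt N26582 F198008) (tt N27680 (iv F200813)) (tt N26344 F198009) (tt N26388 F198010) (tt N26595 F198011) (tt N27078 F198012) (tt N26741 F198013) (tt N26341 (iv D43050)) (tt N27672 (iv F200759)))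
theorem Q27125 : ∀ i, i < 27125 → P i := stepQ 27124 Q27124 (allL N27124 (tt N26683 F198014) (tt N26584 F198015) (tt N26834 F198016) (tt N27078 F198017) (tt N26345 F198018) (tt N27681 D43608) (tt N26344 F198019) (tt N26943 F198020) (tt N26343 (iv D43051)) (tt N27676 (iv F200786)))
theorem Q27126 : ∀ i, i < 27126 → P i := stepQ 27125 Q27125 (allL N27125 (tt N26861 F198021) (tt N26585 F198022) (tt N27664 (iv F200706)) (tt N26595 F198023) (tt N26461 F198024) (tt N26344 (iv D43052)) (tt N27034 (iv F198027)) (tt N26743 F198025) (tt N26348 F198026) (tt N27677 (iv F200793)))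
theorem Q27127 : ∀ i, i < 27127 → P i := stepQ 27126 Q27126 (allL N27126 (tt N26873 F198028) (tt N26965 F198029) (tt N26984 F198030) (tt N26701 F198031) (tt N26791 F198032) (tt N27649 (iv F200608)) (tt N26349 (iv D43053)) (tt N27682 D43609) (tt N26409 F198033) (tt N27683 D43610))
theorem Q27128 : ∀ i, i < 27128 → P i := stepQ 27127 Q27127 (allL N27127 (tt N26874 F198034) (tt N26966 F198035) (tt N26985 F198036) (tt N26962 F198037) (tt N26990 F198038) (tt N26350 F198039) (tt N27683 (iv F200838)) (tt N26369 F198040) (tt N27004 F198041) (tt N26349 (iv D43054)))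
theorem Q27129 : ∀ i, i < 27129 → P i := stepQ 27128 Q27128 (allL N27128 (tt N26875 F198042) (tt N26963 F198043) (tt N27011 F198044) (tt N26352 F198045) (tt N26885 F198046) (tt N27684 D43611) (tt N26351 (iv D43055)) (tt N27685 D43612) (tt N26356 F198047) (tt N27686 D43613))
theorem Q27130 : ∀ i, i < 27130 → P i := stepQ 27129 Q27129 (allL N27129 (tt N26876 F198048) (tt N26964 F198049) (tt N27004 F198050) (tt N26353 F198051) (tt N26993 F198052) (tt N26961 F198053) (tt N27686 (iv F200858)) (tt N26379 F198054) (tt N26985 F198055) (tt N26351 (iv D43056)))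
theorem Q27131 : ∀ i, i < 27131 → P i := stepQ 27130 Q27130 (allL N27130 (tt N26877 F198056) (tt N27072 F198057) (tt N26358 F198058) (tt N27684 (iv F200843)) (tt N27657 (iv F200656)) (tt N26352 (iv D43057)) (tt N27060 F198059) (tt N27687 D43614) (tt N27130 F198060) (tt N27688 D43615))
theorem Q27132 : ∀ i, i < 27132 → P i := stepQ 27131 Q27131 (allL N27131 (tt N26878 F198061) (tt N27071 F198062) (tt N26359 F198063) (tt N27685 (iv F200849)) (tt N26354 F198064) (tt N27687 (iv F200864)) (tt N26381 F198065) (tt N26352 (iv D43058)) (tt N26357 F198066) (tt N27689 D43616))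
theorem Q27133 : ∀ i, i < 27133 → P i := stepQ 27132 Q27132 (allL N27132 (tt N26879 F198067) (tt N27068 F198068) (tt N26360 F198069) (tt N27686 (iv F200856)) (tt N26355 F198070) (tt N27688 (iv F200870)) (tt N26353 F198071) (tt N27689 (iv F200877)) (tt N26987 F198072) (tt N26352 (iv D43059)))
theorem Q27134 : ∀ i, i < 27134 → P i := stepQ 27133 Q27133 (allL N27133 (tt N26880 F198073) (tt N27069 F198074) (tt N26362 F198075) (tt N26864 F198076) (tt N27689 (iv F200875)) (tt N27036 F198077) (tt N26383 F198078) (tt N26355 F198079) (tt N26988 F198080) (tt N26354 (iv D43060)))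
theorem Q27135 : ∀ i, i < 27135 → P i := stepQ 27134 Q27134 (allL N27134 (tt N26881 F198081) (tt N27006 F198082) (tt N27012 F198083) (tt N26357 F198084) (tt N26862 F198085) (tt N27134 F198086) (tt N26385 F198087) (tt N26356 (iv D43061)) (tt N27685 (iv F200852)) (tt N26989 F198088))
theorem Q27136 : ∀ i, i < 27136 → P i := stepQ 27135 Q27135 (allL N27135 (tt N26882 F198089) (tt N26821 F198090) (tt N27687 (iv F200862)) (tt N27083 F198091) (tt N27673 (iv F200763)) (tt N26359 F198092) (tt N27690 D43617) (tt N26358 (iv D43062)) (tt N27135 F198093) (tt N27691 D43618))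
theorem Q27137 : ∀ i, i < 27137 → P i := stepQ 27136 Q27136 (allL N27136 (tt N26883 F198094) (tt N26827 F198095) (tt N27688 (iv F200869)) (tt N27084 F198096) (tt N27674 (iv F200769)) (tt N26360 F198097) (tt N27066 F198098) (tt N27691 (iv F200891)) (tt N27692 D43619) (tt N26358 (iv D43063)))
theorem Q27138 : ∀ i, i < 27138 → P i := stepQ 27137 Q27137 (allL N27137 (tt N26884 F198099) (tt N26822 F198100) (tt N27689 (iv F200874)) (tt N27085 F198101) (tt N26362 F198102) (tt N27691 (iv F200890)) (tt N26394 F198103) (tt N26360 F198104) (tt N27693 D43620) (tt N26359 (iv D43064)))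
theorem Q27139 : ∀ i, i < 27139 → P i := stepQ 27138 Q27138 (allL N27138 (tt N26712 F198105) (tt N26680 F198106) (tt N26987 F198107) (tt N26706 F198108) (tt N26363 F198109) (tt N27694 D43621) (tt N26361 F198110) (tt N27693 (iv F200903)) (tt N26360 (iv D43065)) (tt N26365 F198111))
theorem Q27140 : ∀ i, i < 27140 → P i := stepQ 27139 Q27139 (allL N27139 (tt N26665 F198112) (tt N26654 F198113) (tt N26988 F198114) (tt N26631 F198115) (tt N27693 (iv F200901)) (tt N26630 F198116) (tt N26396 F198117) (tt N26363 F198118) (tt N26362 (iv D43066)) (tt N26366 F198119))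
theorem Q27141 : ∀ i, i < 27141 → P i := stepQ 27140 Q27140 (allL N27140 (tt N26664 F198120) (tt N26653 F198121) (tt N26986 F198122) (tt N26658 F198123) (tt N26366 F198124) (tt N27695 D43622) (tt N26400 F198125) (tt N26365 F198126) (tt N26364 (iv D43067)) (tt N27693 (iv F200904)))
theorem Q27142 : ∀ i, i < 27142 → P i := stepQ 27141 Q27141 (allL N27141 (tt N26709 F198127) (tt N26679 F198128) (tt N26826 F198129) (tt N26705 F198130) (tt N26651 F198131) (tt N26365 (iv D43068)) (tt N26812 F198132) (tt N27695 (iv F200918)) (tt N27141 F198133) (tt N27694 (iv F200911)))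
theorem Q27143 : ∀ i, i < 27143 → P i := stepQ 27142 Q27142 (allL N27142 (tt N26891 F198134) (tt N27011 F198135) (tt N26931 F198136) (tt N26974 F198137) (tt N26368 F198138) (tt N27696 D43623) (tt N26367 (iv D43069)) (tt N27697 D43624) (tt N26410 F198139) (tt N27698 D43625))
theorem Q27144 : ∀ i, i < 27144 → P i := stepQ 27143 Q27143 (allL N27143 (tt N26892 F198140) (tt N27004 F198141) (tt N26932 F198142) (tt N26970 F198143) (tt N26369 F198144) (tt N26372 F198145) (tt N27698 (iv F200939)) (tt N26990 F198146) (tt N26966 F198147) (tt N26367 (iv D43070)))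
theorem Q27145 : ∀ i, i < 27145 → P i := stepQ 27144 Q27144 (allL N27144 (tt N26893 F198148) (tt N27020 F198149) (tt N27025 F198150) (tt N26769 F198151) (tt N27697 (iv F200931)) (tt N26801 F198152) (tt N27682 (iv F200831)) (tt N26368 (iv D43071)) (tt N26411 F198153) (tt N27699 D43626))
theorem Q27146 : ∀ i, i < 27146 → P i := stepQ 27145 Q27145 (allL N27145 (tt N26894 F198154) (tt N27021 F198155) (tt N27026 F198156) (tt N27013 F198157) (tt N27698 (iv F200938)) (tt N26802 F198158) (tt N26369 F198159) (tt N27699 (iv F200946)) (tt N27700 D43627) (tt N26368 (iv D43072)))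
theorem Q27147 : ∀ i, i < 27147 → P i := stepQ 27146 Q27146 (allL N27146 (tt N26895 F198160) (tt N26990 F198161) (tt N26379 F198162) (tt N26387 F198163) (tt N26966 F198164) (tt N26925 F198165) (tt N27700 (iv F200952)) (tt N27004 F198166) (tt N26369 (iv D43073)) (tt N26377 F198167))
theorem Q27148 : ∀ i, i < 27148 → P i := stepQ 27147 Q27147 (allL N27147 (tt N26896 F198168) (tt N27008 F198169) (tt N26965 F198170) (tt N26371 F198171) (tt N26378 F198172) (tt N27701 D43628) (tt N26370 (iv D43074)) (tt N27702 D43629) (tt N26375 F198173) (tt N27703 D43630))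
theorem Q27149 : ∀ i, i < 27149 → P i := stepQ 27148 Q27148 (allL N27148 (tt N26897 F198174) (tt N26999 F198175) (tt N26966 F198176) (tt N26372 F198177) (tt N26379 F198178) (tt N26970 F198179) (tt N27703 (iv F200973)) (tt N26993 F198180) (tt N26932 F198181) (tt N26370 (iv D43075)))
theorem Q27150 : ∀ i, i < 27150 → P i := stepQ 27149 Q27149 (allL N27149 (tt N26898 F198182) (tt N27010 F198183) (tt N26975 F198184) (tt N27701 (iv F200957)) (tt N26803 F198185) (tt N26371 (iv D43076)) (tt N27696 (iv F200925)) (tt N27704 D43631) (tt N27149 F198186) (tt N27705 D43632))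
theorem Q27151 : ∀ i, i < 27151 → P i := stepQ 27150 Q27150 (allL N27150 (tt N26899 F198187) (tt N27009 F198188) (tt N26830 F198189) (tt N27702 (iv F200964)) (tt N26373 F198190) (tt N27704 (iv F200979)) (tt N26863 F198191) (tt N26371 (iv D43077)) (tt N26376 F198192) (tt N27706 D43633))
theorem Q27152 : ∀ i, i < 27152 → P i := stepQ 27151 Q27151 (allL N27151 (tt N26900 F198193) (tt N27003 F198194) (tt N26976 F198195) (tt N27703 (iv F200971)) (tt N26374 F198196) (tt N27705 (iv F200985)) (tt N26372 F198197) (tt N27706 (iv F200991)) (tt N26935 F198198) (tt N26371 (iv D43078)))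
theorem Q27153 : ∀ i, i < 27153 → P i := stepQ 27152 Q27152 (allL N27152 (tt N26901 F198199) (tt N27005 F198200) (tt N26831 F198201) (tt N26383 F198202) (tt N27706 (iv F200989)) (tt N26807 F198203) (tt N26864 F198204) (tt N26374 F198205) (tt N26936 F198206) (tt N26373 (iv D43079)))
theorem Q27154 : ∀ i, i < 27154 → P i := stepQ 27153 Q27153 (allL N27153 (tt N26902 F198207) (tt N27007 F198208) (tt N26973 F198209) (tt N26376 F198210) (tt N26385 F198211) (tt N27153 F198212) (tt N26862 F198213) (tt N26375 (iv D43080)) (tt N27702 (iv F200967)) (tt N26937 F198214))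
theorem Q27155 : ∀ i, i < 27155 → P i := stepQ 27154 Q27154 (allL N27154 (tt N26903 F198215) (tt N26791 F198216) (tt N26378 F198217) (tt N26386 F198218) (tt N26965 F198219) (tt N27707 D43634) (tt N26377 (iv D43081)) (tt N27708 D43635) (tt N26384 F198220) (tt N27700 (iv F200953)))
theorem Q27156 : ∀ i, i < 27156 → P i := stepQ 27155 Q27155 (allL N27155 (tt N26691 F198221) (tt N26817 F198222) (tt N27707 (iv F200995)) (tt N26380 F198223) (tt N26850 (iv F198226)) (tt N26378 (iv D43082)) (tt N26645 F198224) (tt N27709 D43636) (tt N26402 F198225) (tt N27710 D43637))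
theorem Q27157 : ∀ i, i < 27157 → P i := stepQ 27156 Q27156 (allL N27156 (tt N26904 F198227) (tt N27014 F198228) (tt N27708 (iv F201002)) (tt N26381 F198229) (tt N27702 (iv F200965)) (tt N27709 (iv F201011)) (tt N27685 (iv F200851)) (tt N26378 (iv D43083)) (tt N26385 F198230) (tt N27711 D43638))
theorem Q27158 : ∀ i, i < 27158 → P i := stepQ 27157 Q27157 (allL N27157 (tt N26905 F198231) (tt N27015 F198232) (tt N27700 (iv F200949)) (tt N26382 F198233) (tt N27703 (iv F200972)) (tt N27710 (iv F201018)) (tt N26379 F198234) (tt N27711 (iv F201024)) (tt N27026 F198235) (tt N26378 (iv D43084)))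
theorem Q27159 : ∀ i, i < 27159 → P i := stepQ 27158 Q27158 (allL N27158 (tt N26693 F198236) (tt N26910 F198237) (tt N26392 F198238) (tt N27709 (iv F201009)) (tt N26471 F198239) (tt N26381 F198240) (tt N26956 F198241) (tt N26380 (iv D43085)) (tt N26404 F198242) (tt N27712 D43639))
theorem Q27160 : ∀ i, i < 27160 → P i := stepQ 27159 Q27159 (allL N27159 (tt N26694 F198243) (tt N26907 F198244) (tt N26393 F198245) (tt N27710 (iv F201016)) (tt N26647 F198246) (tt N26382 F198247) (tt N26646 F198248) (tt N27712 (iv F201032)) (tt N26687 F198249) (tt N26380 (iv D43086)))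
theorem Q27161 : ∀ i, i < 27161 → P i := stepQ 27160 Q27160 (allL N27160 (tt N26906 F198250) (tt N27081 F198251) (tt N26394 F198252) (tt N27711 (iv F201023)) (tt N26383 F198253) (tt N27712 (iv F201030)) (tt N27689 (iv F200876)) (tt N26382 F198254) (tt N27027 F198255) (tt N26381 (iv D43087)))
theorem Q27162 : ∀ i, i < 27162 → P i := stepQ 27161 Q27161 (allL N27161 (tt N26909 F198256) (tt N26760 F198257) (tt N26385 F198258) (tt N26397 F198259) (tt N26973 F198260) (tt N26405 F198261) (tt N27012 F198262) (tt N26384 (iv D43088)) (tt N27708 (iv F201006)) (tt N26411 F198263))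
theorem Q27163 : ∀ i, i < 27163 → P i := stepQ 27162 Q27162 (allL N27162 (tt N26889 F198264) (tt N26730 F198265) (tt N26388 F198266) (tt N27707 (iv F200996)) (tt N27680 (iv F200814)) (tt N26386 (iv D43089)) (tt N27075 F198267) (tt N27666 (iv F200723)) (tt N26406 F198268) (tt N27713 D43640))
theorem Q27164 : ∀ i, i < 27164 → P i := stepQ 27163 Q27163 (allL N27163 (tt N26912 F198269) (tt N26761 F198270) (tt N26389 F198271) (tt N27708 (iv F201003)) (tt N26508 F198272) (tt N27666 (iv F200722)) (tt N27017 F198273) (tt N26386 (iv D43090)) (tt N26397 F198274) (tt N27714 D43641))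
theorem Q27165 : ∀ i, i < 27165 → P i := stepQ 27164 Q27164 (allL N27164 (tt N26913 F198275) (tt N26792 F198276) (tt N26390 F198277) (tt N27700 (iv F200950)) (tt N26593 F198278) (tt N27713 (iv F201037)) (tt N26387 F198279) (tt N27714 (iv F201045)) (tt N27013 F198280) (tt N26386 (iv D43091)))
theorem Q27166 : ∀ i, i < 27166 → P i := stepQ 27165 Q27165 (allL N27165 (tt N26867 F198281) (tt N26517 F198282) (tt N27666 (iv F200720)) (tt N26392 F198283) (tt N26741 F198284) (tt N26389 F198285) (tt N27715 D43642) (tt N26388 (iv D43092)) (tt N26407 F198286) (tt N27716 D43643))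
theorem Q27167 : ∀ i, i < 27167 → P i := stepQ 27166 Q27166 (allL N27166 (tt N26890 F198287) (tt N26601 F198288) (tt N27713 (iv F201036)) (tt N26393 F198289) (tt N27672 (iv F200755)) (tt N26390 F198290) (tt N27079 F198291) (tt N27716 (iv F201059)) (tt N26692 F198292) (tt N26388 (iv D43093)))
theorem Q27168 : ∀ i, i < 27168 → P i := stepQ 27167 Q27167 (allL N27167 (tt N26914 F198293) (tt N26518 F198294) (tt N27714 (iv F201042)) (tt N26394 F198295) (tt N26510 F198296) (tt N27716 (iv F201058)) (tt N27085 F198297) (tt N26390 F198298) (tt N27717 D43644) (tt N26389 (iv D43094)))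
theorem Q27169 : ∀ i, i < 27169 → P i := stepQ 27168 Q27168 (allL N27168 (tt N26915 F198299) (tt N26558 F198300) (tt N27013 F198301) (tt N26395 F198302) (tt N26553 F198303) (tt N26829 F198304) (tt N26391 F198305) (tt N27717 (iv F201068)) (tt N26390 (iv D43095)) (tt N26399 F198306))
theorem Q27170 : ∀ i, i < 27170 → P i := stepQ 27169 Q27169 (allL N27169 (tt N26868 F198307) (tt N26759 F198308) (tt N26956 F198309) (tt N27715 (iv F201049)) (tt N26482 F198310) (tt N27690 (iv F200884)) (tt N26392 (iv D43096)) (tt N26947 F198311) (tt N26408 F198312) (tt N27718 D43645))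
theorem Q27171 : ∀ i, i < 27171 → P i := stepQ 27170 Q27170 (allL N27170 (tt N26869 F198313) (tt N26755 F198314) (tt N27712 (iv F201028)) (tt N27716 (iv F201056)) (tt N26478 F198315) (tt N26394 F198316) (tt N27718 (iv F201074)) (tt N26393 F198317) (tt N26475 F198318) (tt N26392 (iv D43097)))
theorem Q27172 : ∀ i, i < 27172 → P i := stepQ 27171 Q27171 (allL N27171 (tt N26916 F198319) (tt N26773 F198320) (tt N27027 F198321) (tt N27717 (iv F201064)) (tt N26396 F198322) (tt N26825 F198323) (tt N27693 (iv F200902)) (tt N26395 F198324) (tt N26394 (iv D43098)) (tt N26400 F198325))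
theorem Q27173 : ∀ i, i < 27173 → P i := stepQ 27172 Q27172 (allL N27172 (tt N26554 F198326) (tt N26492 F198327) (tt N26769 F198328) (tt N26400 F198329) (tt N26489 F198330) (tt N26799 F198331) (tt N26658 F198332) (tt N26399 F198333) (tt N26398 (iv D43099)) (tt N27717 (iv F201069)))
theorem Q27174 : ∀ i, i < 27174 → P i := stepQ 27173 Q27173 (allL N27173 (tt N26697 F198334) (tt N26725 F198335) (tt N26402 F198336) (tt N26406 F198337) (tt N26857 (iv F198340)) (tt N26401 (iv D43100)) (tt N26648 F198338) (tt N27660 (iv F200678)) (tt N27707 (iv F200998)) (tt N26688 F198339))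
theorem Q27175 : ∀ i, i < 27175 → P i := stepQ 27174 Q27174 (allL N27174 (tt N26698 F198341) (tt N26819 F198342) (tt N27660 (iv F200674)) (tt N26404 F198343) (tt N26859 F198344) (tt N26403 F198345) (tt N26960 F198346) (tt N26402 (iv D43101)) (tt N27709 (iv F201013)) (tt N26469 F198347))
theorem Q27176 : ∀ i, i < 27176 → P i := stepQ 27175 Q27175 (allL N27175 (tt N26872 F198348) (tt N26579 F198349) (tt N27678 (iv F200797)) (tt N26408 F198350) (tt N26740 F198351) (tt N27175 F198352) (tt N26407 (iv D43102)) (tt N26951 F198353) (tt N27715 (iv F201053)) (tt N26480 F198354))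
theorem Q27177 : ∀ i, i < 27177 → P i := stepQ 27176 Q27176 (allL N27176 (tt N26919 F198355) (tt N26973 F198356) (tt N26989 F198357) (tt N26656 F198358) (tt N26760 F198359) (tt N27176 F198360) (tt N26411 F198361) (tt N26409 (iv D43103)) (tt N27682 (iv F200832)) (tt N27012 F198362))
theorem Q27178 : ∀ i, i < 27178 → P i := stepQ 27177 Q27177 (allL N27177 (tt N26920 F198363) (tt N27012 F198364) (tt N26937 F198365) (tt N26543 F198366) (tt N26411 F198367) (tt N27177 F198368) (tt N26760 F198369) (tt N26410 (iv D43104)) (tt N27697 (iv F200933)) (tt N26973 F198370))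
theorem Q27179 : ∀ i, i < 27179 → P i := stepQ 27178 Q27178 (allL N27178 (tt N26443 F198371) (tt N27030 F198372) (tt N26651 F198373) (tt N26717 F198374) (tt N26826 F198375) (tt N26413 (iv D43105)) (tt N26573 F198376) (tt N27028 F198377) (tt N27178 F198378) (tt N27719 D43646))
theorem Q27180 : ∀ i, i < 27180 → P i := stepQ 27179 Q27179 (allL N27179 (tt N26444 F198379) (tt N27031 F198380) (tt N26652 F198381) (tt N26718 F198382) (tt N26414 F198383) (tt N27719 (iv F201082)) (tt N26547 F198384) (tt N27029 F198385) (tt N26833 F198386) (tt N26413 (iv D43106)))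
theorem Q27181 : ∀ i, i < 27181 → P i := stepQ 27180 Q27180 (allL N27180 (tt N27028 F198387) (tt N26977 F198388) (tt N26662 F198389) (tt N26832 F198390) (tt N27720 D43647) (tt N26416 (iv D43107)) (tt N27721 D43648) (tt N26443 F198391) (tt N27180 F198392) (tt N27722 D43649))
theorem Q27182 : ∀ i, i < 27182 → P i := stepQ 27181 Q27181 (allL N27181 (tt N27029 F198393) (tt N26979 F198394) (tt N26663 F198395) (tt N26833 F198396) (tt N26418 F198397) (tt N27722 (iv F201104)) (tt N26744 F198398) (tt N26444 F198399) (tt N26718 F198400) (tt N26416 (iv D43108)))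
theorem Q27183 : ∀ i, i < 27183 → P i := stepQ 27182 Q27182 (allL N27182 (tt N26986 F198401) (tt N26956 F198402) (tt N26664 F198403) (tt N27723 D43650) (tt N26417 (iv D43109)) (tt N27720 (iv F201088)) (tt N26910 F198404) (tt N26445 F198405) (tt N26419 F198406) (tt N27724 D43651))
theorem Q27184 : ∀ i, i < 27184 → P i := stepQ 27183 Q27183 (allL N27183 (tt N26988 F198407) (tt N26958 F198408) (tt N26665 F198409) (tt N26422 F198410) (tt N27724 (iv F201116)) (tt N26418 F198411) (tt N26908 F198412) (tt N26446 F198413) (tt N26880 F198414) (tt N26417 (iv D43110)))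
theorem Q27185 : ∀ i, i < 27185 → P i := stepQ 27184 Q27184 (allL N27184 (tt N26989 F198415) (tt N26960 F198416) (tt N26919 F198417) (tt N26419 (iv D43111)) (tt N26423 F198418) (tt N27184 F198419) (tt N26819 F198420) (tt N26447 F198421) (tt N27723 (iv F201112)) (tt N26881 F198422))
theorem Q27186 : ∀ i, i < 27186 → P i := stepQ 27185 Q27185 (allL N27185 (tt N26991 F198423) (tt N27047 F198424) (tt N27725 D43652) (tt N26420 (iv D43112)) (tt N27723 (iv F201109)) (tt N26837 F198425) (tt N27726 D43653) (tt N26448 F198426) (tt N26423 F198427) (tt N27727 D43654))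
theorem Q27187 : ∀ i, i < 27187 → P i := stepQ 27186 Q27186 (allL N27186 (tt N26934 F198428) (tt N26853 F198429) (tt N26431 F198430) (tt N27726 (iv F201131)) (tt N26421 F198431) (tt N27728 D43655) (tt N26420 (iv D43113)) (tt N26484 F198432) (tt N26424 F198433) (tt N27729 D43656))
theorem Q27188 : ∀ i, i < 27188 → P i := stepQ 27187 Q27187 (allL N27187 (tt N26994 F198434) (tt N27050 F198435) (tt N26432 F198436) (tt N27727 (iv F201137)) (tt N26422 F198437) (tt N26839 F198438) (tt N27729 (iv F201151)) (tt N26449 F198439) (tt N27730 D43657) (tt N26420 (iv D43114)))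
theorem Q27189 : ∀ i, i < 27189 → P i := stepQ 27188 Q27188 (allL N27188 (tt N26936 F198440) (tt N26856 F198441) (tt N26434 F198442) (tt N26908 F198443) (tt N27729 (iv F201150)) (tt N26748 F198444) (tt N26422 F198445) (tt N26486 F198446) (tt N26901 F198447) (tt N26421 (iv D43115)))
theorem Q27190 : ∀ i, i < 27190 → P i := stepQ 27189 Q27189 (allL N27189 (tt N26864 F198448) (tt N27053 F198449) (tt N26435 F198450) (tt N26880 F198451) (tt N27730 (iv F201157)) (tt N26724 F198452) (tt N26901 F198453) (tt N26450 F198454) (tt N26422 (iv D43116)) (tt N26426 F198455))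
theorem Q27191 : ∀ i, i < 27191 → P i := stepQ 27190 Q27190 (allL N27190 (tt N26760 F198456) (tt N26844 (iv F198461)) (tt N26423 (iv D43117)) (tt N26436 F198457) (tt N26919 F198458) (tt N26427 F198459) (tt N26920 (iv F198462)) (tt N26451 F198460) (tt N27725 (iv F201125)) (tt N26618 (iv F198463)))
theorem Q27192 : ∀ i, i < 27192 → P i := stepQ 27191 Q27191 (allL N27191 (tt N26937 F198464) (tt N26859 F198465) (tt N26920 F198466) (tt N26424 F198467) (tt N26819 F198468) (tt N27191 F198469) (tt N26423 (iv D43118)) (tt N26487 F198470) (tt N27726 (iv F201134)) (tt N26902 (iv F198471)))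
theorem Q27193 : ∀ i, i < 27193 → P i := stepQ 27192 Q27192 (allL N27192 (tt N26862 F198472) (tt N27057 F198473) (tt N26618 F198474) (tt N26425 F198475) (tt N26881 F198476) (tt N26428 F198477) (tt N26902 F198478) (tt N26452 F198479) (tt N27731 D43658) (tt N26423 (iv D43119)))
theorem Q27194 : ∀ i, i < 27194 → P i := stepQ 27193 Q27193 (allL N27193 (tt N26863 F198480) (tt N27059 F198481) (tt N26440 F198482) (tt N27731 (iv F201164)) (tt N26426 F198483) (tt N27732 D43659) (tt N26899 F198484) (tt N26453 F198485) (tt N26425 (iv D43120)) (tt N27730 (iv F201160)))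
theorem Q27195 : ∀ i, i < 27195 → P i := stepQ 27194 Q27194 (allL N27194 (tt N26917 F198486) (tt N26858 F198487) (tt N26442 F198488) (tt N27055 F198489) (tt N26729 F198490) (tt N26429 (iv D43121)) (tt N27733 D43660) (tt N26454 F198491) (tt N27732 (iv F201175)) (tt N26848 F198492))
theorem Q27196 : ∀ i, i < 27196 → P i := stepQ 27195 Q27195 (allL N27195 (tt N26761 F198493) (tt N26845 F198494) (tt N26430 (iv D43122)) (tt N27725 (iv F201121)) (tt N26619 F198495) (tt N26849 F198496) (tt N26983 (iv F198499)) (tt N26455 F198497) (tt N26436 F198498) (tt N27734 D43661))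
theorem Q27197 : ∀ i, i < 27197 → P i := stepQ 27196 Q27196 (allL N27196 (tt N26713 F198500) (tt N26532 F198501) (tt N26983 F198502) (tt N26431 F198503) (tt N26541 F198504) (tt N27735 D43662) (tt N26430 (iv D43123)) (tt N26540 F198505) (tt N26437 F198506) (tt N27736 D43663))
theorem Q27198 : ∀ i, i < 27198 → P i := stepQ 27197 Q27197 (allL N27197 (tt N26763 F198507) (tt N26533 F198508) (tt N27734 (iv F201186)) (tt N26432 F198509) (tt N26623 F198510) (tt N26851 F198511) (tt N27736 (iv F201205)) (tt N26456 F198512) (tt N26622 F198513) (tt N26430 (iv D43124)))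
theorem Q27199 : ∀ i, i < 27199 → P i := stepQ 27198 Q27198 (allL N27198 (tt N27030 F198514) (tt N26534 F198515) (tt N27728 (iv F201142)) (tt N27735 (iv F201195)) (tt N26752 F198516) (tt N26431 (iv D43125)) (tt N26852 F198517) (tt N27737 D43664) (tt N27198 F198518) (tt N27738 D43665))
theorem Q27200 : ∀ i, i < 27200 → P i := stepQ 27199 Q27199 (allL N27199 (tt N26928 F198519) (tt N26535 F198520) (tt N26484 F198521) (tt N26540 F198522) (tt N26433 F198523) (tt N27737 (iv F201213)) (tt N26457 F198524) (tt N26431 (iv D43126)) (tt N26438 F198525) (tt N27739 D43666))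
theorem Q27201 : ∀ i, i < 27201 → P i := stepQ 27200 Q27200 (allL N27200 (tt N27031 F198526) (tt N26536 F198527) (tt N27729 (iv F201149)) (tt N27736 (iv F201203)) (tt N26434 F198528) (tt N27738 (iv F201219)) (tt N26432 F198529) (tt N27739 (iv F201227)) (tt N27740 D43667) (tt N26431 (iv D43127)))
theorem Q27202 : ∀ i, i < 27202 → P i := stepQ 27201 Q27201 (allL N27201 (tt N26866 F198530) (tt N26537 F198531) (tt N27730 (iv F201156)) (tt N26622 F198532) (tt N26435 F198533) (tt N27741 D43668) (tt N27740 (iv F201234)) (tt N26459 F198534) (tt N26432 (iv D43128)) (tt N26440 F198535))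
theorem Q27203 : ∀ i, i < 27203 → P i := stepQ 27202 Q27202 (allL N27202 (tt N26930 F198536) (tt N26538 F198537) (tt N26486 F198538) (tt N26669 F198539) (tt N27739 (iv F201225)) (tt N26756 F198540) (tt N26460 F198541) (tt N26434 F198542) (tt N26767 F198543) (tt N26433 (iv D43129)))
theorem Q27204 : ∀ i, i < 27204 → P i := stepQ 27203 Q27203 (allL N27203 (tt N26831 F198544) (tt N26539 F198545) (tt N26901 F198546) (tt N26670 F198547) (tt N27740 (iv F201233)) (tt N27019 (iv F198551)) (tt N26435 F198548) (tt N26767 F198549) (tt N26434 (iv D43130)) (tt N26441 F198550))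
theorem Q27205 : ∀ i, i < 27205 → P i := stepQ 27204 Q27204 (allL N27204 (tt N26830 F198552) (tt N26540 F198553) (tt N26899 F198554) (tt N26535 F198555) (tt N26441 F198556) (tt N27742 D43669) (tt N26440 F198557) (tt N26532 F198558) (tt N26439 (iv D43131)) (tt N27740 (iv F201236)))
theorem Q27206 : ∀ i, i < 27206 → P i := stepQ 27205 Q27205 (allL N27205 (tt N26865 F198559) (tt N26521 F198560) (tt N27732 (iv F201171)) (tt N26511 F198561) (tt N26743 F198562) (tt N26440 (iv D43132)) (tt N27743 D43670) (tt N26461 F198563) (tt N26442 F198564) (tt N27741 (iv F201243)))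
theorem Q27207 : ∀ i, i < 27207 → P i := stepQ 27206 Q27206 (allL N27206 (tt N26918 F198565) (tt N26527 F198566) (tt N27733 (iv F201178)) (tt N26514 F198567) (tt N26726 F198568) (tt N27206 F198569) (tt N26442 (iv D43133)) (tt N26843 F198570) (tt N27743 (iv F201256)) (tt N26721 F198571))
theorem Q27208 : ∀ i, i < 27208 → P i := stepQ 27207 Q27207 (allL N27207 (tt N26826 F198572) (tt N26955 F198573) (tt N26709 F198574) (tt N27744 D43671) (tt N26443 (iv D43134)) (tt N26445 F198575) (tt N26775 F198576) (tt N27720 (iv F201089)) (tt N27207 F198577) (tt N27745 D43672))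
theorem Q27209 : ∀ i, i < 27209 → P i := stepQ 27208 Q27208 (allL N27208 (tt N27719 (iv F201077)) (tt N26978 F198578) (tt N26711 F198579) (tt N27033 F198580) (tt N27745 (iv F201267)) (tt N26444 F198581) (tt N27001 F198582) (tt N27722 (iv F201105)) (tt N27746 D43673) (tt N26443 (iv D43135)))
theorem Q27210 : ∀ i, i < 27210 → P i := stepQ 27209 Q27209 (allL N27209 (tt N26984 F198583) (tt N26953 F198584) (tt N26873 (iv F198588)) (tt N26445 (iv D43136)) (tt N26448 F198585) (tt N27744 (iv F201261)) (tt N26545 F198586) (tt N27723 (iv F201111)) (tt N26447 F198587) (tt N27747 D43674))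
theorem Q27211 : ∀ i, i < 27211 → P i := stepQ 27210 Q27210 (allL N27210 (tt N26987 F198589) (tt N26957 F198590) (tt N26712 F198591) (tt N27747 (iv F201278)) (tt N26446 F198592) (tt N27745 (iv F201268)) (tt N26546 F198593) (tt N27724 (iv F201118)) (tt N26879 F198594) (tt N26445 (iv D43137)))
theorem Q27212 : ∀ i, i < 27212 → P i := stepQ 27211 Q27211 (allL N27211 (tt N26791 F198595) (tt N27043 (iv F198601)) (tt N26448 (iv D43138)) (tt N26455 F198596) (tt N26873 F198597) (tt N27038 F198598) (tt N26548 F198599) (tt N27725 (iv F201124)) (tt N26451 F198600) (tt N27748 D43675))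
theorem Q27213 : ∀ i, i < 27213 → P i := stepQ 27212 Q27212 (allL N27212 (tt N26992 F198602) (tt N27048 F198603) (tt N27748 (iv F201284)) (tt N26449 F198604) (tt N27747 (iv F201279)) (tt N27039 F198605) (tt N26549 F198606) (tt N27727 (iv F201139)) (tt N27749 D43676) (tt N26448 (iv D43139)))
theorem Q27214 : ∀ i, i < 27214 → P i := stepQ 27213 Q27213 (allL N27213 (tt N26887 F198607) (tt N27051 F198608) (tt N26459 F198609) (tt N27749 (iv F201293)) (tt N26450 F198610) (tt N27750 D43677) (tt N26550 F198611) (tt N27730 (iv F201159)) (tt N26449 (iv D43140)) (tt N26453 F198612))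
theorem Q27215 : ∀ i, i < 27215 → P i := stepQ 27214 Q27214 (allL N27214 (tt N26885 F198613) (tt N27058 F198614) (tt N26611 F198615) (tt N26453 F198616) (tt N26875 F198617) (tt N27045 F198618) (tt N26551 F198619) (tt N27731 (iv F201168)) (tt N26452 (iv D43141)) (tt N27749 (iv F201296)))
theorem Q27216 : ∀ i, i < 27216 → P i := stepQ 27215 Q27215 (allL N27215 (tt N26886 F198620) (tt N27056 F198621) (tt N26461 F198622) (tt N27045 F198623) (tt N27664 (iv F200707)) (tt N26453 (iv D43142)) (tt N27038 F198624) (tt N27732 (iv F201174)) (tt N26454 F198625) (tt N27750 (iv F201304)))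
theorem Q27217 : ∀ i, i < 27217 → P i := stepQ 27216 Q27216 (allL N27216 (tt N26792 F198626) (tt N27040 F198627) (tt N26456 F198628) (tt N27748 (iv F201285)) (tt N26617 F198629) (tt N27046 F198630) (tt N26615 F198631) (tt N27734 (iv F201190)) (tt N26614 F198632) (tt N26455 (iv D43143)))
theorem Q27218 : ∀ i, i < 27218 → P i := stepQ 27217 Q27217 (allL N27217 (tt N26929 F198633) (tt N26622 F198634) (tt N26485 F198635) (tt N26537 F198636) (tt N26460 F198637) (tt N26523 F198638) (tt N27739 (iv F201226)) (tt N26458 F198639) (tt N26533 F198640) (tt N26457 (iv D43144)))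
theorem Q27219 : ∀ i, i < 27219 → P i := stepQ 27218 Q27218 (allL N27218 (tt N26888 F198641) (tt N26612 F198642) (tt N27750 (iv F201300)) (tt N26597 F198643) (tt N27677 (iv F200790)) (tt N26459 (iv D43145)) (tt N27039 F198644) (tt N27741 (iv F201241)) (tt N27052 F198645) (tt N26461 F198646))
theorem Q27220 : ∀ i, i < 27220 → P i := stepQ 27219 Q27219 (allL N27219 (tt N26941 F198647) (tt N27083 F198648) (tt N26717 F198649) (tt N26821 F198650) (tt N27751 D43678) (tt N26462 (iv D43146)) (tt N27752 D43679) (tt N26681 F198651) (tt N27219 F198652) (tt N27753 D43680))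
theorem Q27221 : ∀ i, i < 27221 → P i := stepQ 27220 Q27220 (allL N27220 (tt N26942 F198653) (tt N27085 F198654) (tt N26718 F198655) (tt N26822 F198656) (tt N26464 F198657) (tt N27753 (iv F201321)) (tt N26518 F198658) (tt N26682 F198659) (tt N26663 F198660) (tt N26462 (iv D43147)))
theorem Q27222 : ∀ i, i < 27222 → P i := stepQ 27221 Q27221 (allL N27221 (tt N26943 F198661) (tt N26899 F198662) (tt N26719 F198663) (tt N27754 D43681) (tt N26463 (iv D43148)) (tt N27751 (iv F201308)) (tt N27059 F198664) (tt N26683 F198665) (tt N26465 F198666) (tt N27755 D43682))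
theorem Q27223 : ∀ i, i < 27223 → P i := stepQ 27222 Q27222 (allL N27222 (tt N26944 F198667) (tt N26901 F198668) (tt N26720 F198669) (tt N26468 F198670) (tt N27755 (iv F201332)) (tt N26464 F198671) (tt N27053 F198672) (tt N26684 F198673) (tt N26856 F198674) (tt N26463 (iv D43149)))
theorem Q27224 : ∀ i, i < 27224 → P i := stepQ 27223 Q27223 (allL N27223 (tt N26945 F198675) (tt N26902 F198676) (tt N27756 D43683) (tt N26465 (iv D43150)) (tt N26469 F198677) (tt N27223 F198678) (tt N27057 F198679) (tt N26685 F198680) (tt N27754 (iv F201328)) (tt N26859 F198681))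
theorem Q27225 : ∀ i, i < 27225 → P i := stepQ 27224 Q27224 (allL N27224 (tt N26946 F198682) (tt N26904 F198683) (tt N27757 D43684) (tt N26466 (iv D43151)) (tt N27754 (iv F201325)) (tt N26784 F198684) (tt N27758 D43685) (tt N26686 F198685) (tt N26469 F198686) (tt N27759 D43686))
theorem Q27226 : ∀ i, i < 27226 → P i := stepQ 27225 Q27225 (allL N27225 (tt N26947 F198687) (tt N26878 F198688) (tt N26474 F198689) (tt N27758 (iv F201351)) (tt N26467 F198690) (tt N27760 D43687) (tt N26466 (iv D43152)) (tt N26868 F198691) (tt N26470 F198692) (tt N27761 D43688))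
theorem Q27227 : ∀ i, i < 27227 → P i := stepQ 27226 Q27226 (allL N27226 (tt N26948 F198693) (tt N26906 F198694) (tt N26475 F198695) (tt N27759 (iv F201357)) (tt N26468 F198696) (tt N26786 F198697) (tt N27761 (iv F201371)) (tt N26687 F198698) (tt N27712 (iv F201033)) (tt N26466 (iv D43153)))
theorem Q27228 : ∀ i, i < 27228 → P i := stepQ 27227 Q27227 (allL N27227 (tt N26949 F198699) (tt N26880 F198700) (tt N26477 F198701) (tt N27053 F198702) (tt N27761 (iv F201370)) (tt N26525 F198703) (tt N26468 F198704) (tt N26870 F198705) (tt N26958 F198706) (tt N26467 (iv D43154)))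
theorem Q27229 : ∀ i, i < 27229 → P i := stepQ 27228 Q27228 (allL N27228 (tt N26695 F198707) (tt N26908 F198708) (tt N26478 F198709) (tt N26856 F198710) (tt N27712 (iv F201029)) (tt N26667 F198711) (tt N26958 F198712) (tt N26647 F198713) (tt N26468 (iv D43155)) (tt N26471 F198714))
theorem Q27230 : ∀ i, i < 27230 → P i := stepQ 27229 Q27229 (allL N27229 (tt N26950 F198715) (tt N27662 (iv F200691)) (tt N26469 (iv D43156)) (tt N26479 F198716) (tt N27756 (iv F201339)) (tt N26472 F198717) (tt N27762 D43689) (tt N26688 F198718) (tt N27757 (iv F201348)) (tt N27660 F200681))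
theorem Q27231 : ∀ i, i < 27231 → P i := stepQ 27230 Q27230 (allL N27230 (tt N26951 F198719) (tt N26881 F198720) (tt N27762 (iv F201376)) (tt N26470 F198721) (tt N27057 F198722) (tt N27230 F198723) (tt N26469 (iv D43157)) (tt N26872 F198724) (tt N27758 (iv F201354)) (tt N26960 F198725))
theorem Q27232 : ∀ i, i < 27232 → P i := stepQ 27231 Q27231 (allL N27231 (tt N26952 F198726) (tt N27680 (iv F200812)) (tt N26473 (iv D43158)) (tt N27757 (iv F201345)) (tt N26730 F198727) (tt N26793 F198728) (tt N27763 D43690) (tt N26690 F198729) (tt N26479 F198730) (tt N27764 D43691))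
theorem Q27233 : ∀ i, i < 27233 → P i := stepQ 27232 Q27232 (allL N27232 (tt N26953 F198731) (tt N26750 F198732) (tt N27763 (iv F201384)) (tt N26474 F198733) (tt N26731 F198734) (tt N27765 D43692) (tt N26473 (iv D43159)) (tt N27766 D43693) (tt N26480 F198735) (tt N27767 D43694))
theorem Q27234 : ∀ i, i < 27234 → P i := stepQ 27233 Q27233 (allL N27233 (tt N26954 F198736) (tt N26751 F198737) (tt N27764 (iv F201388)) (tt N26475 F198738) (tt N26732 F198739) (tt N26796 F198740) (tt N27767 (iv F201408)) (tt N26692 F198741) (tt N27716 (iv F201060)) (tt N26473 (iv D43160)))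
theorem Q27235 : ∀ i, i < 27235 → P i := stepQ 27234 Q27234 (allL N27234 (tt N26955 F198742) (tt N26752 F198743) (tt N27760 (iv F201362)) (tt N27765 (iv F201394)) (tt N26534 F198744) (tt N26474 (iv D43161)) (tt N26823 F198745) (tt N27768 D43695) (tt N27234 F198746) (tt N27769 D43696))
theorem Q27236 : ∀ i, i < 27236 → P i := stepQ 27235 Q27235 (allL N27235 (tt N26956 F198747) (tt N26753 F198748) (tt N26868 F198749) (tt N27766 (iv F201400)) (tt N26476 F198750) (tt N27768 (iv F201413)) (tt N26693 F198751) (tt N26474 (iv D43162)) (tt N26481 F198752) (tt N27770 D43697))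
theorem Q27237 : ∀ i, i < 27237 → P i := stepQ 27236 Q27236 (allL N27236 (tt N26957 F198753) (tt N26754 F198754) (tt N27761 (iv F201369)) (tt N27767 (iv F201406)) (tt N26477 F198755) (tt N27769 (iv F201419)) (tt N26475 F198756) (tt N27770 (iv F201426)) (tt N27718 (iv F201076)) (tt N26474 (iv D43163)))
theorem Q27238 : ∀ i, i < 27238 → P i := stepQ 27237 Q27237 (allL N27237 (tt N26958 F198757) (tt N26756 F198758) (tt N26870 F198759) (tt N26736 F198760) (tt N27770 (iv F201424)) (tt N26538 F198761) (tt N26695 F198762) (tt N26477 F198763) (tt N26949 F198764) (tt N26476 (iv D43164)))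
theorem Q27239 : ∀ i, i < 27239 → P i := stepQ 27238 Q27238 (allL N27238 (tt N26870 F198765) (tt N26757 F198766) (tt N26958 F198767) (tt N26737 F198768) (tt N27718 (iv F201073)) (tt N26971 (iv F198772)) (tt N26478 F198769) (tt N26949 F198770) (tt N26477 (iv D43165)) (tt N26482 F198771))
theorem Q27240 : ∀ i, i < 27240 → P i := stepQ 27239 Q27239 (allL N27239 (tt N26959 F198773) (tt N27086 F198774) (tt N26480 F198775) (tt N27762 (iv F201377)) (tt N26738 F198776) (tt N27239 F198777) (tt N26479 (iv D43166)) (tt N27771 D43698) (tt N27763 (iv F201386)) (tt N27678 (iv F200802)))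
theorem Q27241 : ∀ i, i < 27241 → P i := stepQ 27240 Q27240 (allL N27240 (tt N26960 F198778) (tt N26758 F198779) (tt N27771 (iv F201430)) (tt N26481 F198780) (tt N26739 F198781) (tt N27240 F198782) (tt N26698 F198783) (tt N26480 (iv D43167)) (tt N27766 (iv F201403)) (tt N26951 F198784))
theorem Q27242 : ∀ i, i < 27242 → P i := stepQ 27241 Q27241 (allL N27241 (tt N26931 F198785) (tt N26850 F198786) (tt N26891 F198787) (tt N26484 F198788) (tt N26817 F198789) (tt N27772 D43699) (tt N26483 (iv D43168)) (tt N27726 (iv F201133)) (tt N26487 F198790) (tt N27773 D43700))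
theorem Q27243 : ∀ i, i < 27243 → P i := stepQ 27242 Q27242 (allL N27242 (tt N26932 F198791) (tt N26851 F198792) (tt N26892 F198793) (tt N26485 F198794) (tt N26818 F198795) (tt N26533 F198796) (tt N27773 (iv F201448)) (tt N26549 F198797) (tt N26897 F198798) (tt N26483 (iv D43169)))
theorem Q27244 : ∀ i, i < 27244 → P i := stepQ 27243 Q27243 (allL N27243 (tt N26933 F198799) (tt N26852 F198800) (tt N27737 (iv F201210)) (tt N27772 (iv F201439)) (tt N26823 F198801) (tt N26484 (iv D43170)) (tt N26534 F198802) (tt N27728 (iv F201145)) (tt N27243 F198803) (tt N27774 D43701))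
theorem Q27245 : ∀ i, i < 27245 → P i := stepQ 27244 Q27244 (allL N27244 (tt N26935 F198804) (tt N26854 F198805) (tt N27739 (iv F201223)) (tt N27773 (iv F201446)) (tt N26486 F198806) (tt N27774 (iv F201453)) (tt N26485 F198807) (tt N27729 (iv F201152)) (tt N26900 F198808) (tt N26484 (iv D43171)))
theorem Q27246 : ∀ i, i < 27246 → P i := stepQ 27245 Q27245 (allL N27245 (tt N26491 F198809) (tt N26559 F198810) (tt N26668 F198811) (tt N26556 F198812) (tt N26666 F198813) (tt N26553 F198814) (tt N26655 F198815) (tt N26552 F198816) (tt N26507 F198817) (tt N26488 (iv D43172)))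
theorem Q27247 : ∀ i, i < 27247 → P i := stepQ 27246 Q27246 (allL N27246 (tt N26556 F198818) (tt N26493 F198819) (tt N26768 F198820) (tt N26491 F198821) (tt N27717 (iv F201065)) (tt N26552 F198822) (tt N26660 F198823) (tt N26553 F198824) (tt N26510 F198825) (tt N26489 (iv D43173)))
theorem Q27248 : ∀ i, i < 27248 → P i := stepQ 27247 Q27247 (allL N27247 (tt N26553 F198826) (tt N26496 F198827) (tt N26716 F198828) (tt N26552 F198829) (tt N26915 F198830) (tt N26491 F198831) (tt N26766 F198832) (tt N26556 F198833) (tt N26590 F198834) (tt N26490 (iv D43174)))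
theorem Q27249 : ∀ i, i < 27249 → P i := stepQ 27248 Q27248 (allL N27248 (tt N26921 F198835) (tt N27717 (iv F201062)) (tt N26744 F198836) (tt N26773 F198837) (tt N26493 F198838) (tt N26806 F198839) (tt N26663 F198840) (tt N26558 F198841) (tt N26518 F198842) (tt N26492 (iv D43175)))
theorem Q27250 : ∀ i, i < 27250 → P i := stepQ 27249 Q27249 (allL N27249 (tt N26922 F198843) (tt N26915 F198844) (tt N26498 F198845) (tt N26781 F198846) (tt N26496 F198847) (tt N26772 F198848) (tt N26829 F198849) (tt N26562 F198850) (tt N26780 F198851) (tt N26494 (iv D43176)))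
theorem Q27251 : ∀ i, i < 27251 → P i := stepQ 27250 Q27250 (allL N27250 (tt N26771 F198852) (tt N26766 F198853) (tt N26500 F198854) (tt N26765 F198855) (tt N26829 F198856) (tt N26666 F198857) (tt N26496 F198858) (tt N26798 F198859) (tt N26764 F198860) (tt N26495 (iv D43177)))
theorem Q27252 : ∀ i, i < 27252 → P i := stepQ 27251 Q27251 (allL N27251 (tt N26923 F198861) (tt N26733 F198862) (tt N26799 F198863) (tt N26801 F198864) (tt N26499 F198865) (tt N26769 F198866) (tt N26574 F198867) (tt N26497 (iv D43178)) (tt N26502 F198868) (tt N27775 D43702))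
theorem Q27253 : ∀ i, i < 27253 → P i := stepQ 27252 Q27252 (allL N27252 (tt N26924 F198869) (tt N26734 F198870) (tt N26829 F198871) (tt N26802 F198872) (tt N26500 F198873) (tt N27013 F198874) (tt N26498 F198875) (tt N27775 (iv F201462)) (tt N26828 F198876) (tt N26497 (iv D43179)))
theorem Q27254 : ∀ i, i < 27254 → P i := stepQ 27253 Q27253 (allL N27253 (tt N26925 F198877) (tt N26735 F198878) (tt N26780 F198879) (tt N26783 F198880) (tt N26501 F198881) (tt N26895 F198882) (tt N26828 F198883) (tt N26576 F198884) (tt N26498 (iv D43180)) (tt N26503 F198885))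
theorem Q27255 : ∀ i, i < 27255 → P i := stepQ 27254 Q27254 (allL N27254 (tt N26926 F198886) (tt N26736 F198887) (tt N26798 F198888) (tt N26756 F198889) (tt N27775 (iv F201459)) (tt N26669 F198890) (tt N26577 F198891) (tt N26500 F198892) (tt N26794 F198893) (tt N26499 (iv D43181)))
theorem Q27256 : ∀ i, i < 27256 → P i := stepQ 27255 Q27255 (allL N27255 (tt N26815 F198894) (tt N26737 F198895) (tt N26764 F198896) (tt N26757 F198897) (tt N26828 F198898) (tt N26762 F198899) (tt N26501 F198900) (tt N26794 F198901) (tt N26500 (iv D43182)) (tt N26504 F198902))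
theorem Q27257 : ∀ i, i < 27257 → P i := stepQ 27256 Q27256 (allL N27256 (tt N26510 F198903) (tt N26565 F198904) (tt N27054 F198905) (tt N26507 F198906) (tt N26914 F198907) (tt N26598 F198908) (tt N26807 F198909) (tt N26590 F198910) (tt N26556 F198911) (tt N26505 (iv D43183)))
theorem Q27258 : ∀ i, i < 27258 → P i := stepQ 27257 Q27257 (allL N27257 (tt N26513 F198912) (tt N26606 F198913) (tt N26736 F198914) (tt N26598 F198915) (tt N27024 F198916) (tt N26507 F198917) (tt N27036 F198918) (tt N26591 F198919) (tt N26596 F198920) (tt N26506 (iv D43184)))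
theorem Q27259 : ∀ i, i < 27259 → P i := stepQ 27258 Q27258 (allL N27258 (tt N27054 F198921) (tt N26762 F198922) (tt N26510 F198923) (tt N26971 F198924) (tt N27714 (iv F201043)) (tt N26737 F198925) (tt N27019 F198926) (tt N26593 F198927) (tt N26768 F198928) (tt N26508 (iv D43185)))
theorem Q27260 : ∀ i, i < 27260 → P i := stepQ 27259 Q27259 (allL N27259 (tt N26598 F198929) (tt N26520 F198930) (tt N26737 F198931) (tt N26513 F198932) (tt N26911 F198933) (tt N26510 F198934) (tt N26724 F198935) (tt N26596 F198936) (tt N26591 F198937) (tt N26509 (iv D43186)))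
theorem Q27261 : ∀ i, i < 27261 → P i := stepQ 27260 Q27260 (allL N27260 (tt N27023 F198938) (tt N26522 F198939) (tt N26853 F198940) (tt N27743 (iv F201253)) (tt N26512 F198941) (tt N27776 D43703) (tt N26511 (iv D43187)) (tt N26838 F198942) (tt N26514 F198943) (tt N27777 D43704))
theorem Q27262 : ∀ i, i < 27262 → P i := stepQ 27261 Q27261 (allL N27261 (tt N27024 F198944) (tt N26523 F198945) (tt N27050 F198946) (tt N27741 (iv F201239)) (tt N26513 F198947) (tt N26622 F198948) (tt N27777 (iv F201475)) (tt N26597 F198949) (tt N27778 D43705) (tt N26511 (iv D43188)))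
theorem Q27263 : ∀ i, i < 27263 → P i := stepQ 27262 Q27262 (allL N27262 (tt N27036 F198950) (tt N26525 F198951) (tt N26856 F198952) (tt N26724 F198953) (tt N27777 (iv F201474)) (tt N26880 F198954) (tt N26513 F198955) (tt N26840 F198956) (tt N26720 F198957) (tt N26512 (iv D43189)))
theorem Q27264 : ∀ i, i < 27264 → P i := stepQ 27263 Q27263 (allL N27263 (tt N26596 F198958) (tt N26526 F198959) (tt N27053 F198960) (tt N26591 F198961) (tt N27778 (iv F201482)) (tt N26590 F198962) (tt N26720 F198963) (tt N26598 F198964) (tt N26513 (iv D43190)) (tt N26516 F198965))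
theorem Q27265 : ∀ i, i < 27265 → P i := stepQ 27264 Q27264 (allL N27264 (tt N26595 F198966) (tt N26530 F198967) (tt N27059 F198968) (tt N26861 F198969) (tt N26516 F198970) (tt N26860 F198971) (tt N26719 F198972) (tt N26599 F198973) (tt N26515 (iv D43191)) (tt N27778 (iv F201486)))
theorem Q27266 : ∀ i, i < 27266 → P i := stepQ 27265 Q27265 (allL N27265 (tt N26963 F198974) (tt N27715 (iv F201048)) (tt N26571 F198975) (tt N26759 F198976) (tt N26782 F198977) (tt N27752 (iv F201315)) (tt N26517 (iv D43192)) (tt N27779 D43706) (tt N26579 F198978) (tt N27780 D43707))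
theorem Q27267 : ∀ i, i < 27267 → P i := stepQ 27266 Q27266 (allL N27266 (tt N26964 F198979) (tt N27716 (iv F201055)) (tt N26572 F198980) (tt N26755 F198981) (tt N26783 F198982) (tt N26518 F198983) (tt N27780 (iv F201498)) (tt N26601 F198984) (tt N26751 F198985) (tt N26517 (iv D43193)))
theorem Q27268 : ∀ i, i < 27268 → P i := stepQ 27267 Q27267 (allL N27267 (tt N26593 F198986) (tt N26724 F198987) (tt N26590 F198988) (tt N26525 F198989) (tt N26913 F198990) (tt N27053 F198991) (tt N26520 F198992) (tt N27054 F198993) (tt N26716 F198994) (tt N26519 (iv D43194)))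
theorem Q27269 : ∀ i, i < 27269 → P i := stepQ 27268 Q27268 (allL N27268 (tt N26965 F198995) (tt N27743 (iv F201252)) (tt N26896 F198996) (tt N26522 F198997) (tt N26903 F198998) (tt N27781 D43708) (tt N26521 (iv D43195)) (tt N27782 D43709) (tt N26527 F198999) (tt N27783 D43710))
theorem Q27270 : ∀ i, i < 27270 → P i := stepQ 27269 Q27269 (allL N27269 (tt N26966 F199000) (tt N27741 (iv F201238)) (tt N26897 F199001) (tt N26523 F199002) (tt N26895 F199003) (tt N26537 F199004) (tt N27783 (iv F201516)) (tt N26612 F199005) (tt N26892 F199006) (tt N26521 (iv D43196)))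
theorem Q27271 : ∀ i, i < 27271 → P i := stepQ 27270 Q27270 (allL N27270 (tt N26967 F199007) (tt N27776 (iv F201465)) (tt N26534 F199008) (tt N27781 (iv F201502)) (tt N27760 (iv F201363)) (tt N26522 (iv D43197)) (tt N27737 F201215) (tt N27784 D43711) (tt N27270 F199009) (tt N27785 D43712))
theorem Q27272 : ∀ i, i < 27272 → P i := stepQ 27271 Q27271 (allL N27271 (tt N26968 F199010) (tt N26838 F199011) (tt N26535 F199012) (tt N27782 (iv F201508)) (tt N26524 F199013) (tt N27784 (iv F201522)) (tt N26613 F199014) (tt N26522 (iv D43198)) (tt N26528 F199015) (tt N27786 D43713))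
theorem Q27273 : ∀ i, i < 27273 → P i := stepQ 27272 Q27272 (allL N27272 (tt N26969 F199016) (tt N27777 (iv F201472)) (tt N26536 F199017) (tt N27783 (iv F201514)) (tt N26525 F199018) (tt N27785 (iv F201527)) (tt N26523 F199019) (tt N27786 (iv F201533)) (tt N27787 D43714) (tt N26522 (iv D43199)))
theorem Q27274 : ∀ i, i < 27274 → P i := stepQ 27273 Q27273 (allL N27273 (tt N26970 F199020) (tt N27778 (iv F201479)) (tt N26537 F199021) (tt N26892 F199022) (tt N26526 F199023) (tt N26897 F199024) (tt N27787 (iv F201540)) (tt N26615 F199025) (tt N26523 (iv D43200)) (tt N26530 F199026))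
theorem Q27275 : ∀ i, i < 27275 → P i := stepQ 27274 Q27274 (allL N27274 (tt N26971 F199027) (tt N26840 F199028) (tt N26538 F199029) (tt N27054 F199030) (tt N27786 (iv F201531)) (tt N26870 F199031) (tt N26616 F199032) (tt N26525 F199033) (tt N26981 F199034) (tt N26524 (iv D43201)))
theorem Q27276 : ∀ i, i < 27276 → P i := stepQ 27275 Q27275 (allL N27275 (tt N26972 F199035) (tt N26720 F199036) (tt N26539 F199037) (tt N26716 F199038) (tt N27787 (iv F201539)) (tt N26714 F199039) (tt N26526 F199040) (tt N26981 F199041) (tt N26525 (iv D43202)) (tt N26531 F199042))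
theorem Q27277 : ∀ i, i < 27277 → P i := stepQ 27276 Q27276 (allL N27276 (tt N26973 F199043) (tt N26843 F199044) (tt N26902 F199045) (tt N26528 F199046) (tt N26909 F199047) (tt N27276 F199048) (tt N26618 F199049) (tt N26527 (iv D43203)) (tt N27782 (iv F201511)) (tt N26920 F199050))
theorem Q27278 : ∀ i, i < 27278 → P i := stepQ 27277 Q27277 (allL N27277 (tt N26974 F199051) (tt N26719 F199052) (tt N26540 F199053) (tt N26891 F199054) (tt N26531 F199055) (tt N27788 D43715) (tt N26530 F199056) (tt N26983 F199057) (tt N26529 (iv D43204)) (tt N27787 (iv F201542)))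
theorem Q27279 : ∀ i, i < 27279 → P i := stepQ 27278 Q27278 (allL N27278 (tt N26975 F199058) (tt N27735 (iv F201193)) (tt N26898 F199059) (tt N26534 F199060) (tt N27016 F199061) (tt N26532 (iv D43205)) (tt N27772 (iv F201441)) (tt N27742 (iv F201249)) (tt N27278 F199062) (tt N27789 D43716))
theorem Q27280 : ∀ i, i < 27280 → P i := stepQ 27279 Q27279 (allL N27279 (tt N26976 F199063) (tt N27736 (iv F201201)) (tt N26900 F199064) (tt N26536 F199065) (tt N26767 F199066) (tt N27789 (iv F201555)) (tt N26533 F199067) (tt N27740 (iv F201235)) (tt N27739 (iv F201228)) (tt N26532 (iv D43206)))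
theorem Q27281 : ∀ i, i < 27281 → P i := stepQ 27280 Q27280 (allL N27280 (tt N26977 F199068) (tt N27737 (iv F201209)) (tt N27784 (iv F201520)) (tt N27742 (iv F201247)) (tt N27768 (iv F201412)) (tt N26535 F199069) (tt N27776 (iv F201468)) (tt N26534 (iv D43207)) (tt N27280 F199070) (tt N27790 D43717))
theorem Q27282 : ∀ i, i < 27282 → P i := stepQ 27281 Q27281 (allL N27281 (tt N26978 F199071) (tt N27738 (iv F201217)) (tt N27785 (iv F201526)) (tt N27789 (iv F201553)) (tt N27769 (iv F201418)) (tt N26536 F199072) (tt N27774 (iv F201454)) (tt N27790 (iv F201558)) (tt N27791 D43718) (tt N26534 (iv D43208)))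
theorem Q27283 : ∀ i, i < 27283 → P i := stepQ 27282 Q27282 (allL N27282 (tt N26979 F199073) (tt N27739 (iv F201222)) (tt N27786 (iv F201530)) (tt N27740 (iv F201232)) (tt N26538 F199074) (tt N27790 (iv F201557)) (tt N26622 F199075) (tt N26536 F199076) (tt N27736 (iv F201207)) (tt N26535 (iv D43209)))
theorem Q27284 : ∀ i, i < 27284 → P i := stepQ 27283 Q27283 (allL N27283 (tt N26980 F199077) (tt N27740 (iv F201230)) (tt N27787 (iv F201537)) (tt N27739 (iv F201224)) (tt N26539 F199078) (tt N27792 D43719) (tt N26537 F199079) (tt N27736 (iv F201206)) (tt N26536 (iv D43210)) (tt N26540 F199080))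
theorem Q27285 : ∀ i, i < 27285 → P i := stepQ 27284 Q27284 (allL N27284 (tt N26714 F199081) (tt N26767 F199082) (tt N26981 F199083) (tt N26668 F199084) (tt N27736 (iv F201204)) (tt N26972 F199085) (tt N26623 F199086) (tt N26539 F199087) (tt N26538 (iv D43211)) (tt N26541 F199088))
theorem Q27286 : ∀ i, i < 27286 → P i := stepQ 27285 Q27285 (allL N27285 (tt N26981 F199089) (tt N27019 F199090) (tt N26714 F199091) (tt N26768 F199092) (tt N27793 D43720) (tt N26539 (iv D43212)) (tt N26762 F199093) (tt N26972 F199094) (tt N26971 F199095) (tt N26542 F199096))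
theorem Q27287 : ∀ i, i < 27287 → P i := stepQ 27286 Q27286 (allL N27286 (tt N26982 F199097) (tt N27742 (iv F201245)) (tt N27788 (iv F201545)) (tt N27737 (iv F201211)) (tt N27794 D43721) (tt N26540 (iv D43213)) (tt N27781 (iv F201503)) (tt N27735 (iv F201198)) (tt N27286 F199098) (tt N27792 (iv F201562)))
theorem Q27288 : ∀ i, i < 27288 → P i := stepQ 27287 Q27287 (allL N27287 (tt N26983 F199099) (tt N27017 F199100) (tt N26713 F199101) (tt N27697 (iv F200930)) (tt N26542 (iv D43214)) (tt N27794 (iv F201573)) (tt N26761 F199102) (tt N26974 F199103) (tt N26543 F199104) (tt N27793 (iv F201569)))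
theorem Q27289 : ∀ i, i < 27289 → P i := stepQ 27288 Q27288 (allL N27288 (tt N26985 F199105) (tt N26954 F199106) (tt N26874 F199107) (tt N26546 F199108) (tt N26549 F199109) (tt N26774 F199110) (tt N27747 (iv F201280)) (tt N26818 F199111) (tt N26876 F199112) (tt N26545 (iv D43215)))
theorem Q27290 : ∀ i, i < 27290 → P i := stepQ 27289 Q27289 (allL N27289 (tt N26990 F199113) (tt N27052 F199114) (tt N26549 F199115) (tt N26615 F199116) (tt N26874 F199117) (tt N26550 F199118) (tt N27748 (iv F201288)) (tt N26892 F199119) (tt N26612 F199120) (tt N26548 (iv D43216)))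
theorem Q27291 : ∀ i, i < 27291 → P i := stepQ 27290 Q27290 (allL N27290 (tt N26993 F199121) (tt N27049 F199122) (tt N26612 F199123) (tt N26550 F199124) (tt N26876 F199125) (tt N26615 F199126) (tt N27749 (iv F201295)) (tt N26897 F199127) (tt N26549 (iv D43217)) (tt N26551 F199128))
theorem Q27292 : ∀ i, i < 27292 → P i := stepQ 27291 Q27291 (allL N27291 (tt N26658 F199129) (tt N26561 F199130) (tt N27073 F199131) (tt N26664 F199132) (tt N26555 F199133) (tt N27795 D43722) (tt N26554 (iv D43218)) (tt N26699 F199134) (tt N26557 F199135) (tt N27796 D43723))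
theorem Q27293 : ∀ i, i < 27293 → P i := stepQ 27292 Q27292 (allL N27292 (tt N27717 (iv F201061)) (tt N26562 F199136) (tt N27074 F199137) (tt N26916 F199138) (tt N26556 F199139) (tt N27647 (iv F200593)) (tt N27796 (iv F201589)) (tt N26915 F199140) (tt N26914 F199141) (tt N26554 (iv D43219)))
theorem Q27294 : ∀ i, i < 27294 → P i := stepQ 27293 Q27293 (allL N27293 (tt N26660 F199142) (tt N26564 F199143) (tt N27070 F199144) (tt N26655 F199145) (tt N27796 (iv F201588)) (tt N26811 F199146) (tt N26556 F199147) (tt N26700 F199148) (tt N26807 F199149) (tt N26555 (iv D43220)))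
theorem Q27295 : ∀ i, i < 27295 → P i := stepQ 27294 Q27294 (allL N27294 (tt N26810 F199150) (tt N26664 F199151) (tt N26759 F199152) (tt N26561 F199153) (tt N26659 F199154) (tt N27797 D43724) (tt N26560 (iv D43221)) (tt N26707 F199155) (tt N26566 F199156) (tt N27798 D43725))
theorem Q27296 : ∀ i, i < 27296 → P i := stepQ 27295 Q27295 (allL N27295 (tt N26938 F199157) (tt N26916 F199158) (tt N26755 F199159) (tt N26562 F199160) (tt N26749 F199161) (tt N26777 F199162) (tt N27798 (iv F201605)) (tt N26781 F199163) (tt N26747 F199164) (tt N26560 (iv D43222)))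
theorem Q27297 : ∀ i, i < 27297 → P i := stepQ 27296 Q27296 (allL N27296 (tt N26710 F199165) (tt N27795 (iv F201577)) (tt N26573 F199166) (tt N27797 (iv F201595)) (tt N26812 F199167) (tt N26561 (iv D43223)) (tt N26651 F199168) (tt N27799 D43726) (tt N27296 F199169) (tt N27800 D43727))
theorem Q27298 : ∀ i, i < 27298 → P i := stepQ 27297 Q27297 (allL N27297 (tt N26649 F199170) (tt N26699 F199171) (tt N26574 F199172) (tt N26707 F199173) (tt N26563 F199174) (tt N27799 (iv F201613)) (tt N26799 F199175) (tt N26561 (iv D43224)) (tt N26567 F199176) (tt N27801 D43728))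
theorem Q27299 : ∀ i, i < 27299 → P i := stepQ 27298 Q27298 (allL N27298 (tt N26995 F199177) (tt N27796 (iv F201585)) (tt N26575 F199178) (tt N27798 (iv F201603)) (tt N26564 F199179) (tt N27800 (iv F201619)) (tt N26562 F199180) (tt N27801 (iv F201627)) (tt N27802 D43729) (tt N26561 (iv D43225)))
theorem Q27300 : ∀ i, i < 27300 → P i := stepQ 27299 Q27299 (allL N27299 (tt N26961 F199181) (tt N26914 F199182) (tt N26576 F199183) (tt N26747 F199184) (tt N26565 F199185) (tt N26876 F199186) (tt N27802 (iv F201634)) (tt N26780 F199187) (tt N26562 (iv D43226)) (tt N26569 F199188))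
theorem Q27301 : ∀ i, i < 27301 → P i := stepQ 27300 Q27300 (allL N27300 (tt N26650 F199189) (tt N26700 F199190) (tt N26577 F199191) (tt N26637 F199192) (tt N27801 (iv F201625)) (tt N26636 F199193) (tt N26798 F199194) (tt N26564 F199195) (tt N26797 F199196) (tt N26563 (iv D43227)))
theorem Q27302 : ∀ i, i < 27302 → P i := stepQ 27301 Q27301 (allL N27301 (tt N26940 F199197) (tt N26807 F199198) (tt N26578 F199199) (tt N26800 F199200) (tt N27802 (iv F201633)) (tt N27005 F199201) (tt N26565 F199202) (tt N26797 F199203) (tt N26564 (iv D43228)) (tt N26570 F199204))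
theorem Q27303 : ∀ i, i < 27303 → P i := stepQ 27302 Q27302 (allL N27302 (tt N26939 F199205) (tt N26804 F199206) (tt N26584 F199207) (tt N26746 F199208) (tt N26570 F199209) (tt N27803 D43730) (tt N26569 F199210) (tt N26795 F199211) (tt N26568 (iv D43229)) (tt N27802 (iv F201636)))
theorem Q27304 : ∀ i, i < 27304 → P i := stepQ 27303 Q27303 (allL N27303 (tt N26996 F199212) (tt N27669 (iv F200735)) (tt N27752 (iv F201313)) (tt N26573 F199213) (tt N27804 D43731) (tt N26571 (iv D43230)) (tt N26717 F199214) (tt N27805 D43732) (tt N27303 F199215) (tt N27806 D43733))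
theorem Q27305 : ∀ i, i < 27305 → P i := stepQ 27304 Q27304 (allL N27304 (tt N26997 F199216) (tt N27670 (iv F200741)) (tt N27779 (iv F201489)) (tt N26574 F199217) (tt N26784 F199218) (tt N27805 (iv F201653)) (tt N26801 F199219) (tt N26571 (iv D43231)) (tt N26580 F199220) (tt N27807 D43734))
theorem Q27306 : ∀ i, i < 27306 → P i := stepQ 27305 Q27305 (allL N27305 (tt N26998 F199221) (tt N27671 (iv F200747)) (tt N27780 (iv F201495)) (tt N26575 F199222) (tt N26785 F199223) (tt N27806 (iv F201657)) (tt N26572 F199224) (tt N27807 (iv F201663)) (tt N27808 D43735) (tt N26571 (iv D43232)))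
theorem Q27307 : ∀ i, i < 27307 → P i := stepQ 27306 Q27306 (allL N27306 (tt N26999 F199225) (tt N27672 (iv F200753)) (tt N26751 F199226) (tt N26576 F199227) (tt N26601 F199228) (tt N26603 (iv F199231)) (tt N27808 (iv F201669)) (tt N26783 F199229) (tt N26572 (iv D43233)) (tt N26582 F199230))
theorem Q27308 : ∀ i, i < 27308 → P i := stepQ 27307 Q27307 (allL N27307 (tt N27000 F199232) (tt N27673 (iv F200761)) (tt N27799 (iv F201610)) (tt N27805 (iv F201652)) (tt N26821 F199233) (tt N26574 F199234) (tt N27809 D43736) (tt N26573 (iv D43234)) (tt N27307 F199235) (tt N27810 D43737))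
theorem Q27309 : ∀ i, i < 27309 → P i := stepQ 27308 Q27308 (allL N27308 (tt N27001 F199236) (tt N27674 (iv F200768)) (tt N27800 (iv F201617)) (tt N27806 (iv F201656)) (tt N26827 F199237) (tt N26575 F199238) (tt N27719 (iv F201083)) (tt N27810 (iv F201681)) (tt N27811 D43738) (tt N26573 (iv D43235)))
theorem Q27310 : ∀ i, i < 27310 → P i := stepQ 27309 Q27309 (allL N27309 (tt N27002 F199239) (tt N27675 (iv F200773)) (tt N27801 (iv F201623)) (tt N27807 (iv F201660)) (tt N26577 F199240) (tt N27810 (iv F201680)) (tt N27775 (iv F201461)) (tt N26575 F199241) (tt N27812 D43739) (tt N26574 (iv D43236)))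
theorem Q27311 : ∀ i, i < 27311 → P i := stepQ 27310 Q27310 (allL N27310 (tt N27003 F199242) (tt N27676 (iv F200780)) (tt N27802 (iv F201631)) (tt N27808 (iv F201667)) (tt N26578 F199243) (tt N27813 D43740) (tt N26576 F199244) (tt N27812 (iv F201690)) (tt N26575 (iv D43237)) (tt N26584 F199245))
theorem Q27312 : ∀ i, i < 27312 → P i := stepQ 27311 Q27311 (allL N27311 (tt N27004 F199246) (tt N27677 (iv F200788)) (tt N26876 F199247) (tt N26603 F199248) (tt N26612 F199249) (tt N26576 (iv D43238)) (tt N27814 D43741) (tt N26895 F199250) (tt N26874 F199251) (tt N26585 F199252))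
theorem Q27313 : ∀ i, i < 27313 → P i := stepQ 27312 Q27312 (allL N27312 (tt N27005 F199253) (tt N26944 F199254) (tt N26797 F199255) (tt N26788 F199256) (tt N27812 (iv F201688)) (tt N26940 F199257) (tt N26794 F199258) (tt N26578 F199259) (tt N26577 (iv D43239)) (tt N26586 F199260))
theorem Q27314 : ∀ i, i < 27314 → P i := stepQ 27313 Q27313 (allL N27313 (tt N26797 F199261) (tt N26643 F199262) (tt N27005 F199263) (tt N26641 F199264) (tt N27815 D43742) (tt N26578 (iv D43240)) (tt N26624 F199265) (tt N26940 F199266) (tt N26650 F199267) (tt N26587 F199268))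
theorem Q27315 : ∀ i, i < 27315 → P i := stepQ 27314 Q27314 (allL N27314 (tt N27006 F199269) (tt N26951 F199270) (tt N26580 F199271) (tt N26704 F199272) (tt N26789 F199273) (tt N27314 F199274) (tt N26627 F199275) (tt N26579 (iv D43241)) (tt N27779 (iv F201493)) (tt N26758 F199276))
theorem Q27316 : ∀ i, i < 27316 → P i := stepQ 27315 Q27315 (allL N27315 (tt N27007 F199277) (tt N26945 F199278) (tt N26758 F199279) (tt N26583 F199280) (tt N26627 F199281) (tt N27315 F199282) (tt N26789 F199283) (tt N26581 F199284) (tt N27816 D43743) (tt N26580 (iv D43242)))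
theorem Q27317 : ∀ i, i < 27317 → P i := stepQ 27316 Q27316 (allL N27316 (tt N27008 F199285) (tt N27078 F199286) (tt N26750 F199287) (tt N26584 F199288) (tt N26600 F199289) (tt N27817 D43744) (tt N26582 F199290) (tt N27816 (iv F201715)) (tt N26581 (iv D43243)) (tt N27808 (iv F201670)))
theorem Q27318 : ∀ i, i < 27318 → P i := stepQ 27317 Q27317 (allL N27317 (tt N27009 F199291) (tt N26943 F199292) (tt N26795 F199293) (tt N27816 (iv F201712)) (tt N26586 F199294) (tt N27818 D43745) (tt N26793 F199295) (tt N26584 F199296) (tt N26583 (iv D43244)) (tt N27812 (iv F201691)))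
theorem Q27319 : ∀ i, i < 27319 → P i := stepQ 27318 Q27318 (allL N27318 (tt N27010 F199297) (tt N27681 (iv F200819)) (tt N27803 (iv F201639)) (tt N27817 (iv F201719)) (tt N27819 D43746) (tt N26584 (iv D43245)) (tt N27820 D43747) (tt N27818 (iv F201727)) (tt N27318 F199298) (tt N27813 (iv F201693)))
theorem Q27320 : ∀ i, i < 27320 → P i := stepQ 27319 Q27319 (allL N27319 (tt N27011 F199299) (tt N27034 F199300) (tt N26875 F199301) (tt N26602 F199302) (tt N26611 F199303) (tt N27820 (iv F201742)) (tt N26585 (iv D43246)) (tt N27821 D43748) (tt N26589 F199304) (tt N27814 (iv F201700)))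
theorem Q27321 : ∀ i, i < 27321 → P i := stepQ 27320 Q27320 (allL N27320 (tt N26795 F199305) (tt N26642 F199306) (tt N27009 F199307) (tt N26674 F199308) (tt N26587 (iv D43247)) (tt N27819 (iv F201733)) (tt N26625 F199309) (tt N26939 F199310) (tt N26588 F199311) (tt N27815 (iv F201708)))
theorem Q27322 : ∀ i, i < 27322 → P i := stepQ 27321 Q27321 (allL N27321 (tt N27012 F199312) (tt N26836 F199313) (tt N26881 F199314) (tt N26607 F199315) (tt N26618 F199316) (tt N27321 F199317) (tt N26909 F199318) (tt N26589 (iv D43248)) (tt N27821 (iv F201750)) (tt N26919 F199319))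
theorem Q27323 : ∀ i, i < 27323 → P i := stepQ 27322 Q27322 (allL N27322 (tt N27059 F199320) (tt N26793 F199321) (tt N26595 F199322) (tt N27822 D43749) (tt N26592 (iv D43249)) (tt N27680 (iv F200815)) (tt N26943 F199323) (tt N26742 F199324) (tt N26594 F199325) (tt N27823 D43750))
theorem Q27324 : ∀ i, i < 27324 → P i := stepQ 27323 Q27323 (allL N27323 (tt N27053 F199326) (tt N26794 F199327) (tt N26596 F199328) (tt N26949 F199329) (tt N27823 (iv F201760)) (tt N26593 F199330) (tt N26944 F199331) (tt N26737 F199332) (tt N26736 F199333) (tt N26592 (iv D43250)))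
theorem Q27325 : ∀ i, i < 27325 → P i := stepQ 27324 Q27324 (allL N27324 (tt N27057 F199334) (tt N26789 F199335) (tt N27665 (iv F200713)) (tt N26594 (iv D43251)) (tt N26951 F199336) (tt N26626 F199337) (tt N26945 F199338) (tt N26740 F199339) (tt N27822 (iv F201756)) (tt N26739 F199340))
theorem Q27326 : ∀ i, i < 27326 → P i := stepQ 27325 Q27325 (allL N27325 (tt N27778 (iv F201478)) (tt N26603 F199341) (tt N27823 (iv F201759)) (tt N27677 (iv F200789)) (tt N26596 F199342) (tt N27672 (iv F200756)) (tt N27035 F199343) (tt N26911 F199344) (tt N27024 F199345) (tt N26595 (iv D43252)))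
theorem Q27327 : ∀ i, i < 27327 → P i := stepQ 27326 Q27326 (allL N27326 (tt N26911 F199346) (tt N26615 F199347) (tt N27051 F199348) (tt N27052 F199349) (tt N26598 F199350) (tt N27049 F199351) (tt N27040 F199352) (tt N27778 (iv F201485)) (tt N26597 (iv D43253)) (tt N26599 F199353))
theorem Q27328 : ∀ i, i < 27328 → P i := stepQ 27327 Q27327 (allL N27327 (tt N27014 F199354) (tt N26946 F199355) (tt N26801 F199356) (tt N26790 F199357) (tt N27816 (iv F201713)) (tt N27025 F199358) (tt N27779 (iv F201492)) (tt N26600 (iv D43254)) (tt N26627 F199359) (tt N27824 D43751))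
theorem Q27329 : ∀ i, i < 27329 → P i := stepQ 27328 Q27328 (allL N27328 (tt N27015 F199360) (tt N27079 F199361) (tt N26802 F199362) (tt N26787 F199363) (tt N27808 (iv F201668)) (tt N27026 F199364) (tt N26601 F199365) (tt N27824 (iv F201769)) (tt N26785 F199366) (tt N26600 (iv D43255)))
theorem Q27330 : ∀ i, i < 27330 → P i := stepQ 27329 Q27329 (allL N27329 (tt N27016 F199367) (tt N27032 F199368) (tt N26803 F199369) (tt N27820 (iv F201740)) (tt N26975 F199370) (tt N26602 (iv D43256)) (tt N27817 (iv F201721)) (tt N27825 D43752) (tt N27329 F199371) (tt N27826 D43753))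
theorem Q27331 : ∀ i, i < 27331 → P i := stepQ 27330 Q27330 (allL N27330 (tt N27017 F199372) (tt N26834 F199373) (tt N26804 F199374) (tt N27821 (iv F201747)) (tt N26604 F199375) (tt N27825 (iv F201775)) (tt N26912 F199376) (tt N26602 (iv D43257)) (tt N26607 F199377) (tt N27827 D43754))
theorem Q27332 : ∀ i, i < 27332 → P i := stepQ 27331 Q27331 (allL N27331 (tt N27018 F199378) (tt N27035 F199379) (tt N26805 F199380) (tt N27814 (iv F201697)) (tt N26605 F199381) (tt N27826 (iv F201781)) (tt N26603 F199382) (tt N27827 (iv F201787)) (tt N27828 D43755) (tt N26602 (iv D43258)))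
theorem Q27333 : ∀ i, i < 27333 → P i := stepQ 27332 Q27332 (allL N27332 (tt N26962 F199383) (tt N27024 F199384) (tt N26806 F199385) (tt N26874 F199386) (tt N26606 F199387) (tt N26744 F199388) (tt N27828 (iv F201794)) (tt N26778 F199389) (tt N26603 (iv D43259)) (tt N26609 F199390))
theorem Q27334 : ∀ i, i < 27334 → P i := stepQ 27333 Q27333 (allL N27333 (tt N27019 F199391) (tt N26835 F199392) (tt N26807 F199393) (tt N26616 F199394) (tt N27827 (iv F201785)) (tt N26831 F199395) (tt N27054 F199396) (tt N26605 F199397) (tt N27070 F199398) (tt N26604 (iv D43260)))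
theorem Q27335 : ∀ i, i < 27335 → P i := stepQ 27334 Q27334 (allL N27334 (tt N26703 F199399) (tt N27036 F199400) (tt N26700 F199401) (tt N26617 F199402) (tt N27828 (iv F201793)) (tt N27069 F199403) (tt N26606 F199404) (tt N27070 F199405) (tt N26605 (iv D43261)) (tt N26610 F199406))
theorem Q27336 : ∀ i, i < 27336 → P i := stepQ 27335 Q27335 (allL N27335 (tt N26701 F199407) (tt N27023 F199408) (tt N26699 F199409) (tt N26873 F199410) (tt N26610 F199411) (tt N27721 (iv F201097)) (tt N26609 F199412) (tt N27073 F199413) (tt N26608 (iv D43262)) (tt N27828 (iv F201796)))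
theorem Q27337 : ∀ i, i < 27337 → P i := stepQ 27336 Q27336 (allL N27336 (tt N27020 F199414) (tt N26837 F199415) (tt N27731 (iv F201163)) (tt N26613 F199416) (tt N27821 (iv F201748)) (tt N27047 F199417) (tt N27782 (iv F201510)) (tt N26611 (iv D43263)) (tt N26618 F199418) (tt N27829 D43756))
theorem Q27338 : ∀ i, i < 27338 → P i := stepQ 27337 Q27337 (allL N27337 (tt N27021 F199419) (tt N27039 F199420) (tt N27749 (iv F201292)) (tt N26614 F199421) (tt N27814 (iv F201698)) (tt N27048 F199422) (tt N26612 F199423) (tt N27829 (iv F201801)) (tt N27748 (iv F201289)) (tt N26611 (iv D43264)))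
theorem Q27339 : ∀ i, i < 27339 → P i := stepQ 27338 Q27338 (allL N27338 (tt N27022 F199424) (tt N26839 F199425) (tt N26622 F199426) (tt N27829 (iv F201799)) (tt N26616 F199427) (tt N27050 F199428) (tt N27786 (iv F201532)) (tt N26614 F199429) (tt N27734 (iv F201191)) (tt N26613 (iv D43265)))
theorem Q27340 : ∀ i, i < 27340 → P i := stepQ 27339 Q27339 (allL N27339 (tt N26762 F199430) (tt N26841 F199431) (tt N26623 F199432) (tt N27070 F199433) (tt N27734 (iv F201187)) (tt N26815 F199434) (tt N26981 F199435) (tt N26617 F199436) (tt N26616 (iv D43266)) (tt N26619 F199437))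
theorem Q27341 : ∀ i, i < 27341 → P i := stepQ 27340 Q27340 (allL N27340 (tt N26794 F199438) (tt N26864 F199439) (tt N26624 F199440) (tt N27069 F199441) (tt N27830 D43757) (tt N26617 (iv D43267)) (tt N27005 F199442) (tt N26815 F199443) (tt N26926 F199444) (tt N26620 F199445))
theorem Q27342 : ∀ i, i < 27342 → P i := stepQ 27341 Q27341 (allL N27341 (tt N26793 F199446) (tt N26863 F199447) (tt N26625 F199448) (tt N27076 (iv F199453)) (tt N26620 (iv D43268)) (tt N26952 F199449) (tt N27009 F199450) (tt N26814 F199451) (tt N26621 F199452) (tt N27830 (iv F201809)))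
theorem Q27343 : ∀ i, i < 27343 → P i := stepQ 27342 Q27342 (allL N27342 (tt N26796 F199454) (tt N26774 F199455) (tt N27830 (iv F201804)) (tt N26675 F199456) (tt N26624 (iv D43269)) (tt N26954 F199457) (tt N27815 (iv F201705)) (tt N26816 F199458) (tt N27647 (iv F200596)) (tt N26625 F199459))
theorem Q27344 : ∀ i, i < 27344 → P i := stepQ 27343 Q27343 (allL N27343 (tt N26662 F199460) (tt N26710 F199461) (tt N27028 F199462) (tt N26812 F199463) (tt N27695 (iv F200916)) (tt N26629 (iv D43270)) (tt N26705 F199464) (tt N26651 F199465) (tt N27343 F199466) (tt N27831 D43758))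
theorem Q27345 : ∀ i, i < 27345 → P i := stepQ 27344 Q27344 (allL N27344 (tt N26663 F199467) (tt N26995 F199468) (tt N27029 F199469) (tt N26813 F199470) (tt N26630 F199471) (tt N27831 (iv F201815)) (tt N26921 F199472) (tt N26652 F199473) (tt N26942 F199474) (tt N26629 (iv D43271)))
theorem Q27346 : ∀ i, i < 27346 → P i := stepQ 27345 Q27345 (allL N27345 (tt N26707 F199475) (tt N26635 F199476) (tt N27071 F199477) (tt N26649 F199478) (tt N26633 F199479) (tt N27832 D43759) (tt N26678 F199480) (tt N26810 F199481) (tt N26632 (iv D43272)) (tt N27833 D43760))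
theorem Q27347 : ∀ i, i < 27347 → P i := stepQ 27346 Q27346 (allL N27346 (tt N26708 F199482) (tt N26636 F199483) (tt N27069 F199484) (tt N26634 F199485) (tt N27833 (iv F201830)) (tt N26700 F199486) (tt N26677 F199487) (tt N26811 F199488) (tt N26676 F199489) (tt N26633 (iv D43273)))
theorem Q27348 : ∀ i, i < 27348 → P i := stepQ 27347 Q27347 (allL N27347 (tt N26679 F199490) (tt N27832 (iv F201819)) (tt N26821 F199491) (tt N26651 F199492) (tt N27799 (iv F201612)) (tt N26635 (iv D43274)) (tt N27797 (iv F201597)) (tt N26812 F199493) (tt N27347 F199494) (tt N27834 D43761))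
theorem Q27349 : ∀ i, i < 27349 → P i := stepQ 27348 Q27348 (allL N27348 (tt N26680 F199495) (tt N27833 (iv F201827)) (tt N26822 F199496) (tt N26652 F199497) (tt N26636 F199498) (tt N27834 (iv F201837)) (tt N26777 F199499) (tt N26813 F199500) (tt N26776 F199501) (tt N26635 (iv D43275)))
theorem Q27350 : ∀ i, i < 27350 → P i := stepQ 27349 Q27349 (allL N27349 (tt N26671 F199502) (tt N26667 F199503) (tt N26765 F199504) (tt N26748 F199505) (tt N26800 F199506) (tt N26908 F199507) (tt N26745 F199508) (tt N26639 F199509) (tt N26661 F199510) (tt N26638 (iv D43276)))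
theorem Q27351 : ∀ i, i < 27351 → P i := stepQ 27350 Q27350 (allL N27350 (tt N26681 F199511) (tt N27819 (iv F201730)) (tt N26832 F199512) (tt N26775 F199513) (tt N27681 (iv F200822)) (tt N26642 (iv D43277)) (tt N27744 (iv F201262)) (tt N26941 F199514) (tt N27350 F199515) (tt N27835 D43762))
theorem Q27352 : ∀ i, i < 27352 → P i := stepQ 27351 Q27351 (allL N27351 (tt N26682 F199516) (tt N27815 (iv F201702)) (tt N26833 F199517) (tt N26776 F199518) (tt N26643 F199519) (tt N27835 (iv F201842)) (tt N26774 F199520) (tt N26942 F199521) (tt N26652 F199522) (tt N26642 (iv D43278)))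
theorem Q27353 : ∀ i, i < 27353 → P i := stepQ 27352 Q27352 (allL N27352 (tt N26690 F199523) (tt N26886 F199524) (tt N26645 (iv D43279)) (tt N27075 F199525) (tt N26849 F199526) (tt N26814 F199527) (tt N27707 (iv F200997)) (tt N26952 F199528) (tt N26648 F199529) (tt N27836 D43763))
theorem Q27354 : ∀ i, i < 27354 → P i := stepQ 27353 Q27353 (allL N27353 (tt N26692 F199530) (tt N26818 F199531) (tt N27836 (iv F201846)) (tt N26646 F199532) (tt N26851 F199533) (tt N26816 F199534) (tt N27710 (iv F201019)) (tt N26954 F199535) (tt N26890 F199536) (tt N26645 (iv D43280)))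
theorem Q27355 : ∀ i, i < 27355 → P i := stepQ 27354 Q27354 (allL N27354 (tt N27799 (iv F201608)) (tt N26651 F199537) (tt N27000 F199538) (tt N27832 (iv F201821)) (tt N26679 F199539) (tt N26649 (iv D43281)) (tt N27795 (iv F201581)) (tt N26710 F199540) (tt N27354 F199541) (tt N27837 D43764))
theorem Q27356 : ∀ i, i < 27356 → P i := stepQ 27355 Q27355 (allL N27355 (tt N27801 (iv F201621)) (tt N26652 F199542) (tt N27002 F199543) (tt N27833 (iv F201829)) (tt N26650 F199544) (tt N27837 (iv F201855)) (tt N27647 (iv F200594)) (tt N26995 F199545) (tt N27815 (iv F201707)) (tt N26649 (iv D43282)))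
theorem Q27357 : ∀ i, i < 27357 → P i := stepQ 27356 Q27356 (allL N27356 (tt N26711 F199546) (tt N27837 (iv F201852)) (tt N27719 (iv F201079)) (tt N27834 (iv F201836)) (tt N27694 (iv F200909)) (tt N26652 F199547) (tt N27800 (iv F201620)) (tt N27831 (iv F201817)) (tt N27838 D43765) (tt N26651 (iv D43283)))
theorem Q27358 : ∀ i, i < 27358 → P i := stepQ 27357 Q27357 (allL N27357 (tt N26812 F199548) (tt N27695 (iv F200913)) (tt N26775 F199549) (tt N26662 F199550) (tt N26710 F199551) (tt N26653 (iv D43284)) (tt N26709 F199552) (tt N26679 F199553) (tt N27357 F199554) (tt N27839 D43766))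
theorem Q27359 : ∀ i, i < 27359 → P i := stepQ 27358 Q27358 (allL N27358 (tt N26813 F199555) (tt N27693 (iv F200898)) (tt N26776 F199556) (tt N26663 F199557) (tt N26654 F199558) (tt N27839 (iv F201863)) (tt N26773 F199559) (tt N26680 F199560) (tt N26822 F199561) (tt N26653 (iv D43285)))
theorem Q27360 : ∀ i, i < 27360 → P i := stepQ 27359 Q27359 (allL N27359 (tt N27073 F199562) (tt N26968 F199563) (tt N26658 F199564) (tt N27682 (iv F200829)) (tt N26657 F199565) (tt N27809 (iv F201675)) (tt N26769 F199566) (tt N26701 F199567) (tt N26656 (iv D43286)) (tt N27840 D43767))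
theorem Q27361 : ∀ i, i < 27361 → P i := stepQ 27360 Q27360 (allL N27360 (tt N27070 F199568) (tt N26971 F199569) (tt N26660 F199570) (tt N26762 F199571) (tt N27840 (iv F201869)) (tt N26757 F199572) (tt N26768 F199573) (tt N26703 F199574) (tt N27019 F199575) (tt N26657 (iv D43287)))
theorem Q27362 : ∀ i, i < 27362 → P i := stepQ 27361 Q27361 (allL N27361 (tt N27795 (iv F201576)) (tt N26662 F199576) (tt N27809 (iv F201673)) (tt N27695 (iv F200915)) (tt N27797 (iv F201596)) (tt N26658 (iv D43288)) (tt N27799 (iv F201614)) (tt N26705 F199577) (tt N27361 F199578) (tt N27841 D43768))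
theorem Q27363 : ∀ i, i < 27363 → P i := stepQ 27362 Q27362 (allL N27362 (tt N27796 (iv F201584)) (tt N26663 F199579) (tt N27840 (iv F201868)) (tt N27693 (iv F200900)) (tt N26660 F199580) (tt N27841 (iv F201874)) (tt N27717 (iv F201067)) (tt N26706 F199581) (tt N27085 F199582) (tt N26658 (iv D43289)))
theorem Q27364 : ∀ i, i < 27364 → P i := stepQ 27363 Q27363 (allL N27363 (tt N26811 F199583) (tt N26665 F199584) (tt N26757 F199585) (tt N26661 F199586) (tt N27798 (iv F201604)) (tt N26660 F199587) (tt N26749 F199588) (tt N26708 F199589) (tt N26748 F199590) (tt N26659 (iv D43290)))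
theorem Q27365 : ∀ i, i < 27365 → P i := stepQ 27364 Q27364 (allL N27364 (tt N27695 (iv F200912)) (tt N27797 (iv F201593)) (tt N27720 (iv F201087)) (tt N27795 (iv F201579)) (tt N26662 (iv D43291)) (tt N26664 F199591) (tt N27832 (iv F201823)) (tt N26709 F199592) (tt N27364 F199593) (tt N27842 D43769))
theorem Q27366 : ∀ i, i < 27366 → P i := stepQ 27365 Q27365 (allL N27365 (tt N26705 F199594) (tt N27799 (iv F201609)) (tt N27721 (iv F201094)) (tt N26709 F199595) (tt N27832 (iv F201822)) (tt N26699 F199596) (tt N26662 (iv D43292)) (tt N27795 (iv F201582)) (tt N27365 F199597) (tt N27843 D43770))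
theorem Q27367 : ∀ i, i < 27367 → P i := stepQ 27366 Q27366 (allL N27366 (tt N27831 (iv F201811)) (tt N27841 (iv F201873)) (tt N27722 (iv F201102)) (tt N27839 (iv F201861)) (tt N27842 (iv F201876)) (tt N26663 F199598) (tt N27843 (iv F201882)) (tt N26711 F199599) (tt N27844 D43771) (tt N26662 (iv D43293)))
theorem Q27368 : ∀ i, i < 27368 → P i := stepQ 27367 Q27367 (allL N27367 (tt N27693 (iv F200897)) (tt N27798 (iv F201601)) (tt N27724 (iv F201115)) (tt N27796 (iv F201587)) (tt N26665 F199600) (tt N27842 (iv F201877)) (tt N26916 F199601) (tt N26712 F199602) (tt N26884 F199603) (tt N26664 (iv D43294)))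
theorem Q27369 : ∀ i, i < 27369 → P i := stepQ 27368 Q27368 (allL N27368 (tt N26821 F199604) (tt N27060 F199605) (tt N26679 F199606) (tt N26941 F199607) (tt N27000 F199608) (tt N26672 (iv D43295)) (tt N27072 F199609) (tt N26775 F199610) (tt N27368 F199611) (tt N27845 D43772))
theorem Q27370 : ∀ i, i < 27370 → P i := stepQ 27369 Q27369 (allL N27369 (tt N26822 F199612) (tt N27061 F199613) (tt N26680 F199614) (tt N26942 F199615) (tt N26673 F199616) (tt N27845 (iv F201890)) (tt N26927 F199617) (tt N26776 F199618) (tt N26813 F199619) (tt N26672 (iv D43296)))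
theorem Q27371 : ∀ i, i < 27371 → P i := stepQ 27370 Q27370 (allL N27370 (tt N26823 F199620) (tt N26775 F199621) (tt N27065 F199622) (tt N27819 (iv F201732)) (tt N26933 F199623) (tt N26674 (iv D43297)) (tt N26955 F199624) (tt N27060 F199625) (tt N27370 F199626) (tt N27846 D43773))
theorem Q27372 : ∀ i, i < 27372 → P i := stepQ 27371 Q27371 (allL N27371 (tt N26824 F199627) (tt N26776 F199628) (tt N27067 F199629) (tt N27815 (iv F201704)) (tt N26676 F199630) (tt N27846 (iv F201897)) (tt N26675 F199631) (tt N27061 F199632) (tt N27833 (iv F201833)) (tt N26674 (iv D43298)))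
theorem Q27373 : ∀ i, i < 27373 → P i := stepQ 27372 Q27372 (allL N27372 (tt N26825 F199633) (tt N26777 F199634) (tt N27081 F199635) (tt N27647 (iv F200592)) (tt N26677 F199636) (tt N26916 F199637) (tt N27833 (iv F201831)) (tt N26820 F199638) (tt N26675 (iv D43299)) (tt N26678 F199639))
theorem Q27374 : ∀ i, i < 27374 → P i := stepQ 27373 Q27373 (allL N27373 (tt N27797 (iv F201592)) (tt N26812 F199640) (tt N27072 F199641) (tt N26710 F199642) (tt N27795 (iv F201580)) (tt N26810 F199643) (tt N26679 (iv D43300)) (tt N27832 (iv F201824)) (tt N27373 F199644) (tt N27847 D43774))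
theorem Q27375 : ∀ i, i < 27375 → P i := stepQ 27374 Q27374 (allL N27374 (tt N27834 (iv F201834)) (tt N27694 (iv F200906)) (tt N27845 (iv F201887)) (tt N26711 F199645) (tt N27837 (iv F201854)) (tt N26680 F199646) (tt N27847 (iv F201904)) (tt N27839 (iv F201865)) (tt N27848 D43775) (tt N26679 (iv D43301)))
theorem Q27376 : ∀ i, i < 27376 → P i := stepQ 27375 Q27375 (allL N27375 (tt N27681 (iv F200818)) (tt N26898 F199647) (tt N27648 (iv F200600)) (tt N27804 (iv F201647)) (tt N26681 (iv D43302)) (tt N26683 F199648) (tt N27849 D43776) (tt N27751 (iv F201309)) (tt N27375 F199649) (tt N27850 D43777))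
theorem Q27377 : ∀ i, i < 27377 → P i := stepQ 27376 Q27376 (allL N27376 (tt N27744 (iv F201257)) (tt N27062 F199650) (tt N27649 (iv F200606)) (tt N26826 F199651) (tt N27849 (iv F201911)) (tt N26984 F199652) (tt N26681 (iv D43303)) (tt N27851 D43778) (tt N27376 F199653) (tt N27852 D43779))
theorem Q27378 : ∀ i, i < 27378 → P i := stepQ 27377 Q27377 (allL N27377 (tt N27835 (iv F201839)) (tt N27084 F199654) (tt N27650 (iv F200612)) (tt N26827 F199655) (tt N27850 (iv F201915)) (tt N26682 F199656) (tt N27852 (iv F201924)) (tt N27753 (iv F201322)) (tt N27853 D43780) (tt N26681 (iv D43304)))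
theorem Q27379 : ∀ i, i < 27379 → P i := stepQ 27378 Q27378 (allL N27378 (tt N27078 F199657) (tt N26896 F199658) (tt N27854 D43781) (tt N26683 (iv D43305)) (tt N26686 F199659) (tt N27804 (iv F201648)) (tt N26860 F199660) (tt N27754 (iv F201327)) (tt N26685 F199661) (tt N27855 D43782))
theorem Q27380 : ∀ i, i < 27380 → P i := stepQ 27379 Q27379 (allL N27379 (tt N27676 (iv F200779)) (tt N26900 F199662) (tt N27652 (iv F200624)) (tt N27855 (iv F201935)) (tt N26684 F199663) (tt N27850 (iv F201916)) (tt N26855 F199664) (tt N27755 (iv F201334)) (tt N26854 F199665) (tt N26683 (iv D43306)))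
theorem Q27381 : ∀ i, i < 27381 → P i := stepQ 27380 Q27380 (allL N27380 (tt N27086 F199666) (tt N27733 (iv F201177)) (tt N26685 (iv D43307)) (tt N27653 (iv F200631)) (tt N26688 F199667) (tt N27380 F199668) (tt N26858 F199669) (tt N27756 (iv F201342)) (tt N27854 (iv F201932)) (tt N26857 F199670))
theorem Q27382 : ∀ i, i < 27382 → P i := stepQ 27381 Q27381 (allL N27381 (tt N27075 F199671) (tt N27856 D43783) (tt N26686 (iv D43308)) (tt N26690 F199672) (tt N27854 (iv F201930)) (tt N26782 F199673) (tt N26889 F199674) (tt N27757 (iv F201347)) (tt N26688 F199675) (tt N27857 D43784))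
theorem Q27383 : ∀ i, i < 27383 → P i := stepQ 27382 Q27382 (allL N27382 (tt N27079 F199676) (tt N26905 F199677) (tt N27857 (iv F201946)) (tt N26687 F199678) (tt N27855 (iv F201936)) (tt N26785 F199679) (tt N26890 F199680) (tt N27759 (iv F201359)) (tt N27710 (iv F201020)) (tt N26686 (iv D43309)))
theorem Q27384 : ∀ i, i < 27384 → P i := stepQ 27383 Q27383 (allL N27383 (tt N27042 F199681) (tt N26688 (iv D43310)) (tt N26726 F199682) (tt N26696 F199683) (tt N27733 (iv F201180)) (tt N26689 F199684) (tt N26729 F199685) (tt N27662 (iv F200697)) (tt N27856 (iv F201944)) (tt N26725 F199686))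
theorem Q27385 : ∀ i, i < 27385 → P i := stepQ 27384 Q27384 (allL N27384 (tt N27056 F199687) (tt N26690 (iv D43311)) (tt N26741 F199688) (tt N27856 (iv F201941)) (tt N27666 (iv F200721)) (tt N26742 F199689) (tt N27858 D43785) (tt N27680 (iv F200817)) (tt N26696 F199690) (tt N27859 D43786))
theorem Q27386 : ∀ i, i < 27386 → P i := stepQ 27385 Q27385 (allL N27385 (tt N27707 (iv F200993)) (tt N27858 (iv F201951)) (tt N26691 F199691) (tt N26889 F199692) (tt N27667 (iv F200727)) (tt N26903 F199693) (tt N26690 (iv D43312)) (tt N27860 D43787) (tt N26697 F199694) (tt N27861 D43788))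
theorem Q27387 : ∀ i, i < 27387 → P i := stepQ 27386 Q27386 (allL N27386 (tt N27836 (iv F201844)) (tt N27859 (iv F201957)) (tt N26692 F199695) (tt N27857 (iv F201947)) (tt N27668 (iv F200731)) (tt N26828 F199696) (tt N27861 (iv F201968)) (tt N27764 (iv F201391)) (tt N27713 (iv F201039)) (tt N26690 (iv D43313)))
theorem Q27388 : ∀ i, i < 27388 → P i := stepQ 27387 Q27387 (allL N27387 (tt N27709 (iv F201007)) (tt N26784 F199697) (tt N27860 (iv F201961)) (tt N26693 F199698) (tt N27670 (iv F200743)) (tt N26904 F199699) (tt N27766 (iv F201402)) (tt N26691 (iv D43314)) (tt N26698 F199700) (tt N27862 D43789))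
theorem Q27389 : ∀ i, i < 27389 → P i := stepQ 27388 Q27388 (allL N27388 (tt N27710 (iv F201014)) (tt N26785 F199701) (tt N27861 (iv F201965)) (tt N26694 F199702) (tt N27671 (iv F200749)) (tt N26905 F199703) (tt N26692 F199704) (tt N27862 (iv F201973)) (tt N27079 F199705) (tt N26691 (iv D43315)))
theorem Q27390 : ∀ i, i < 27390 → P i := stepQ 27389 Q27389 (allL N27389 (tt N27712 (iv F201026)) (tt N26786 F199706) (tt N26869 F199707) (tt N27862 (iv F201971)) (tt N26695 F199708) (tt N26906 F199709) (tt N27770 (iv F201425)) (tt N26694 F199710) (tt N26948 F199711) (tt N26693 (iv D43316)))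
theorem Q27391 : ∀ i, i < 27391 → P i := stepQ 27390 Q27390 (allL N27390 (tt N27041 F199712) (tt N26697 F199713) (tt N26740 F199714) (tt N26729 F199715) (tt N27678 (iv F200799)) (tt N26728 F199716) (tt N26696 (iv D43317)) (tt N27665 (iv F200715)) (tt N27858 (iv F201955)) (tt N26738 F199717))
theorem Q27392 : ∀ i, i < 27392 → P i := stepQ 27391 Q27391 (allL N27391 (tt N27660 F200679) (tt N27665 (iv F200712)) (tt N26698 F199718) (tt N26871 F199719) (tt N27679 (iv F200807)) (tt N26809 F199720) (tt N27771 (iv F201434)) (tt N26697 (iv D43318)) (tt N27860 (iv F201964)) (tt N26950 F199721))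
theorem Q27393 : ∀ i, i < 27393 → P i := stepQ 27392 Q27392 (allL N27392 (tt N26706 F199722) (tt N27801 (iv F201622)) (tt N27828 (iv F201791)) (tt N26712 F199723) (tt N26700 F199724) (tt N27843 (iv F201881)) (tt N26806 F199725) (tt N27796 (iv F201590)) (tt N26805 F199726) (tt N26699 (iv D43319)))
theorem Q27394 : ∀ i, i < 27394 → P i := stepQ 27393 Q27393 (allL N27393 (tt N27721 (iv F201092)) (tt N26967 F199727) (tt N26705 F199728) (tt N27649 (iv F200607)) (tt N27863 D43790) (tt N26701 (iv D43320)) (tt N27028 F199729) (tt N27809 (iv F201676)) (tt N27393 F199730) (tt N27864 D43791))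
theorem Q27395 : ∀ i, i < 27395 → P i := stepQ 27394 Q27394 (allL N27394 (tt N27828 (iv F201789)) (tt N26969 F199731) (tt N26706 F199732) (tt N27683 (iv F200836)) (tt N26703 F199733) (tt N27864 (iv F201984)) (tt N26962 F199734) (tt N27840 (iv F201871)) (tt N27018 F199735) (tt N26701 (iv D43321)))
theorem Q27396 : ∀ i, i < 27396 → P i := stepQ 27395 Q27395 (allL N27395 (tt N27071 F199736) (tt N26947 F199737) (tt N26707 F199738) (tt N27779 (iv F201490)) (tt N26702 (iv D43322)) (tt N27863 (iv F201978)) (tt N26790 F199739) (tt N26759 F199740) (tt N26704 F199741) (tt N27865 D43792))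
theorem Q27397 : ∀ i, i < 27397 → P i := stepQ 27396 Q27396 (allL N27396 (tt N27069 F199742) (tt N26949 F199743) (tt N26708 F199744) (tt N26794 F199745) (tt N27865 (iv F201989)) (tt N26703 F199746) (tt N26788 F199747) (tt N26757 F199748) (tt N26756 F199749) (tt N26702 (iv D43323)))
theorem Q27398 : ∀ i, i < 27398 → P i := stepQ 27397 Q27397 (allL N27397 (tt N27832 (iv F201818)) (tt N26709 F199750) (tt N27863 (iv F201977)) (tt N27799 (iv F201611)) (tt N26705 (iv D43324)) (tt N26707 F199751) (tt N27695 (iv F200917)) (tt N27797 (iv F201598)) (tt N27397 F199752) (tt N27866 D43793))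
theorem Q27399 : ∀ i, i < 27399 → P i := stepQ 27398 Q27398 (allL N27398 (tt N27843 (iv F201879)) (tt N26711 F199753) (tt N27864 (iv F201983)) (tt N27694 (iv F200908)) (tt N27866 (iv F201994)) (tt N26706 F199754) (tt N27831 (iv F201816)) (tt N27841 (iv F201875)) (tt N27867 D43794) (tt N26705 (iv D43325)))
theorem Q27400 : ∀ i, i < 27400 → P i := stepQ 27399 Q27399 (allL N27399 (tt N27833 (iv F201826)) (tt N26712 F199755) (tt N27865 (iv F201988)) (tt N27801 (iv F201624)) (tt N26708 F199756) (tt N27866 (iv F201995)) (tt N26825 F199757) (tt N27798 (iv F201606)) (tt N26824 F199758) (tt N26707 (iv D43326)))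
theorem Q27401 : ∀ i, i < 27401 → P i := stepQ 27400 Q27400 (allL N27400 (tt N27694 (iv F200905)) (tt N27866 (iv F201993)) (tt N27745 (iv F201266)) (tt N27843 (iv F201880)) (tt N26711 F199759) (tt N26712 F199760) (tt N27839 (iv F201864)) (tt N27842 (iv F201878)) (tt N27868 D43795) (tt N26709 (iv D43327)))
theorem Q27402 : ∀ i, i < 27402 → P i := stepQ 27401 Q27401 (allL N27401 (tt N27800 (iv F201616)) (tt N27831 (iv F201812)) (tt N27001 F199761) (tt N27847 (iv F201902)) (tt N27839 (iv F201862)) (tt N26995 F199762) (tt N26711 F199763) (tt N27837 (iv F201856)) (tt N27869 D43796) (tt N26710 (iv D43328)))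
theorem Q27403 : ∀ i, i < 27403 → P i := stepQ 27402 Q27402 (allL N27402 (tt N27838 (iv F201857)) (tt N27867 (iv F201996)) (tt N27746 (iv F201271)) (tt N27848 (iv F201905)) (tt N27868 (iv F201999)) (tt N27853 (iv F201927)) (tt N27869 (iv F202003)) (tt N27844 (iv F201883)) (tt N26711 (iv D43329)) (tt N27402 F199764))
theorem Q27404 : ∀ i, i < 27404 → P i := stepQ 27403 Q27403 (allL N27403 (tt N27735 (iv F201192)) (tt N26717 F199765) (tt N27794 (iv F201572)) (tt N27030 F199766) (tt N27788 (iv F201547)) (tt N26713 (iv D43330)) (tt N27669 (iv F200738)) (tt N26982 F199767) (tt N27403 F199768) (tt N27870 D43797))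
theorem Q27405 : ∀ i, i < 27405 → P i := stepQ 27404 Q27404 (allL N27404 (tt N27736 (iv F201200)) (tt N26718 F199769) (tt N27793 (iv F201565)) (tt N27031 F199770) (tt N26714 F199771) (tt N27870 (iv F202007)) (tt N26763 F199772) (tt N26980 F199773) (tt N26979 F199774) (tt N26713 (iv D43331)))
theorem Q27406 : ∀ i, i < 27406 → P i := stepQ 27405 Q27405 (allL N27405 (tt N27013 F199775) (tt N26723 F199776) (tt N26915 F199777) (tt N26894 F199778) (tt N26716 F199779) (tt N26924 F199780) (tt N26778 F199781) (tt N27074 F199782) (tt N26913 F199783) (tt N26715 (iv D43332)))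
theorem Q27407 : ∀ i, i < 27407 → P i := stepQ 27406 Q27406 (allL N27406 (tt N27032 F199784) (tt N27788 (iv F201544)) (tt N27751 (iv F201307)) (tt N27849 (iv F201910)) (tt N26717 (iv D43333)) (tt N26719 F199785) (tt N27804 (iv F201649)) (tt N27648 (iv F200602)) (tt N27406 F199786) (tt N27871 D43798))
theorem Q27408 : ∀ i, i < 27408 → P i := stepQ 27407 Q27407 (allL N27407 (tt N27033 F199787) (tt N27870 (iv F202005)) (tt N27753 (iv F201319)) (tt N27719 (iv F201080)) (tt N27871 (iv F202010)) (tt N26718 F199788) (tt N27806 (iv F201658)) (tt N27650 (iv F200615)) (tt N27872 D43799) (tt N26717 (iv D43334)))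
theorem Q27409 : ∀ i, i < 27409 → P i := stepQ 27408 Q27408 (allL N27408 (tt N27034 F199789) (tt N26891 F199790) (tt N27873 D43800) (tt N26719 (iv D43335)) (tt N26722 F199791) (tt N27849 (iv F201912)) (tt N26861 F199792) (tt N27651 (iv F200620)) (tt N26721 F199793) (tt N27874 D43801))
theorem Q27410 : ∀ i, i < 27410 → P i := stepQ 27409 Q27409 (allL N27409 (tt N27035 F199794) (tt N27787 (iv F201536)) (tt N27755 (iv F201331)) (tt N27874 (iv F202021)) (tt N26720 F199795) (tt N27871 (iv F202011)) (tt N27778 (iv F201484)) (tt N27652 (iv F200627)) (tt N27777 (iv F201477)) (tt N26719 (iv D43336)))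
theorem Q27411 : ∀ i, i < 27411 → P i := stepQ 27410 Q27410 (allL N27410 (tt N27037 F199796) (tt N26857 F199797) (tt N26721 (iv D43337)) (tt N27756 (iv F201338)) (tt N26725 F199798) (tt N27410 F199799) (tt N26848 F199800) (tt N27653 (iv F200635)) (tt N27873 (iv F202018)) (tt N27733 (iv F201183)))
theorem Q27412 : ∀ i, i < 27412 → P i := stepQ 27411 Q27411 (allL N27411 (tt N27038 F199801) (tt N27707 (iv F200994)) (tt N26722 (iv D43338)) (tt N26730 F199802) (tt N27873 (iv F202016)) (tt N26791 F199803) (tt N26886 F199804) (tt N27654 (iv F200640)) (tt N26725 F199805) (tt N27875 D43802))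
theorem Q27413 : ∀ i, i < 27413 → P i := stepQ 27412 Q27412 (allL N27412 (tt N27039 F199806) (tt N26894 F199807) (tt N27875 (iv F202025)) (tt N26723 F199808) (tt N27874 (iv F202022)) (tt N26992 F199809) (tt N26888 F199810) (tt N27656 (iv F200652)) (tt N27876 D43803) (tt N26722 (iv D43339)))
theorem Q27414 : ∀ i, i < 27414 → P i := stepQ 27413 Q27413 (allL N27413 (tt N27040 F199811) (tt N26913 F199812) (tt N26735 F199813) (tt N27876 (iv F202031)) (tt N26724 F199814) (tt N27877 D43804) (tt N26911 F199815) (tt N27659 (iv F200672)) (tt N26723 (iv D43340)) (tt N26727 F199816))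
theorem Q27415 : ∀ i, i < 27415 → P i := stepQ 27414 Q27414 (allL N27414 (tt N27043 F199817) (tt N26903 F199818) (tt N27856 (iv F201940)) (tt N26727 F199819) (tt N27743 (iv F201254)) (tt N27858 (iv F201954)) (tt N26743 F199820) (tt N27663 (iv F200703)) (tt N26726 (iv D43341)) (tt N27876 (iv F202033)))
theorem Q27416 : ∀ i, i < 27416 → P i := stepQ 27415 Q27415 (allL N27415 (tt N27044 F199821) (tt N26889 F199822) (tt N26743 F199823) (tt N27858 (iv F201953)) (tt N27732 (iv F201173)) (tt N26727 (iv D43342)) (tt N27856 (iv F201943)) (tt N27664 (iv F200708)) (tt N26729 F199824) (tt N27877 (iv F202038)))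
theorem Q27417 : ∀ i, i < 27417 → P i := stepQ 27416 Q27416 (allL N27416 (tt N27045 F199825) (tt N27075 F199826) (tt N26731 F199827) (tt N26886 F199828) (tt N27763 (iv F201385)) (tt N26885 F199829) (tt N26730 (iv D43343)) (tt N27878 D43805) (tt N26738 F199830) (tt N27879 D43806))
theorem Q27418 : ∀ i, i < 27418 → P i := stepQ 27417 Q27417 (allL N27417 (tt N27046 F199831) (tt N27713 (iv F201035)) (tt N26732 F199832) (tt N27875 (iv F202026)) (tt N27764 (iv F201389)) (tt N26792 F199833) (tt N27879 (iv F202050)) (tt N27668 (iv F200733)) (tt N27859 (iv F201960)) (tt N26730 (iv D43344)))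
theorem Q27419 : ∀ i, i < 27419 → P i := stepQ 27418 Q27418 (allL N27418 (tt N27047 F199834) (tt N26801 F199835) (tt N27878 (iv F202041)) (tt N26733 F199836) (tt N27766 (iv F201401)) (tt N27020 F199837) (tt N27670 (iv F200744)) (tt N26731 (iv D43345)) (tt N26739 F199838) (tt N27880 D43807))
theorem Q27420 : ∀ i, i < 27420 → P i := stepQ 27419 Q27419 (allL N27419 (tt N27048 F199839) (tt N26802 F199840) (tt N27879 (iv F202047)) (tt N26734 F199841) (tt N27767 (iv F201407)) (tt N27021 F199842) (tt N26732 F199843) (tt N27880 (iv F202055)) (tt N27881 D43808) (tt N26731 (iv D43346)))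
theorem Q27421 : ∀ i, i < 27421 → P i := stepQ 27420 Q27420 (allL N27420 (tt N27049 F199844) (tt N26783 F199845) (tt N27859 (iv F201958)) (tt N26735 F199846) (tt N27716 (iv F201057)) (tt N26911 F199847) (tt N27881 (iv F202059)) (tt N27672 (iv F200758)) (tt N26732 (iv D43347)) (tt N26741 F199848))
theorem Q27422 : ∀ i, i < 27422 → P i := stepQ 27421 Q27421 (allL N27421 (tt N27050 F199849) (tt N27775 (iv F201456)) (tt N27024 F199850) (tt N27880 (iv F202053)) (tt N26736 F199851) (tt N27022 F199852) (tt N27675 (iv F200776)) (tt N26734 F199853) (tt N27823 (iv F201763)) (tt N26733 (iv D43348)))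
theorem Q27423 : ∀ i, i < 27423 → P i := stepQ 27422 Q27422 (allL N27422 (tt N27051 F199854) (tt N26828 F199855) (tt N26911 F199856) (tt N27881 (iv F202058)) (tt N26737 F199857) (tt N27859 (iv F201959)) (tt N26735 F199858) (tt N27823 (iv F201762)) (tt N26734 (iv D43349)) (tt N26742 F199859))
theorem Q27424 : ∀ i, i < 27424 → P i := stepQ 27423 Q27423 (allL N27423 (tt N27052 F199860) (tt N26895 F199861) (tt N27877 (iv F202036)) (tt N26911 F199862) (tt N27741 (iv F201240)) (tt N26735 (iv D43350)) (tt N27876 (iv F202032)) (tt N27677 (iv F200791)) (tt N26888 F199863) (tt N26743 F199864))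
theorem Q27425 : ∀ i, i < 27425 → P i := stepQ 27424 Q27424 (allL N27424 (tt N27055 F199865) (tt N26950 F199866) (tt N26739 F199867) (tt N26917 F199868) (tt N27771 (iv F201432)) (tt N26808 F199869) (tt N27679 (iv F200809)) (tt N26738 (iv D43351)) (tt N27878 (iv F202044)) (tt N27665 (iv F200716)))
theorem Q27426 : ∀ i, i < 27426 → P i := stepQ 27425 Q27425 (allL N27425 (tt N27058 F199870) (tt N26782 F199871) (tt N27858 (iv F201952)) (tt N26742 F199872) (tt N27715 (iv F201050)) (tt N27856 (iv F201942)) (tt N26741 F199873) (tt N27822 (iv F201755)) (tt N26740 (iv D43352)) (tt N27881 (iv F202060)))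
theorem Q27427 : ∀ i, i < 27427 → P i := stepQ 27426 Q27426 (allL N27426 (tt N27060 F199874) (tt N26882 F199875) (tt N26752 F199876) (tt N27803 (iv F201640)) (tt N27728 (iv F201143)) (tt N26746 (iv D43353)) (tt N26877 F199877) (tt N26823 F199878) (tt N27426 F199879) (tt N27882 D43809))
theorem Q27428 : ∀ i, i < 27428 → P i := stepQ 27427 Q27427 (allL N27427 (tt N27061 F199880) (tt N26884 F199881) (tt N26754 F199882) (tt N27802 (iv F201632)) (tt N26748 F199883) (tt N27882 (iv F202064)) (tt N26747 F199884) (tt N26824 F199885) (tt N27798 (iv F201607)) (tt N26746 (iv D43354)))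
theorem Q27429 : ∀ i, i < 27429 → P i := stepQ 27428 Q27428 (allL N27428 (tt N27062 F199886) (tt N27765 (iv F201393)) (tt N27817 (iv F201718)) (tt N26752 F199887) (tt N27696 (iv F200924)) (tt N26750 (iv D43355)) (tt N26803 F199888) (tt N27883 D43810) (tt N27428 F199889) (tt N27884 D43811))
theorem Q27430 : ∀ i, i < 27430 → P i := stepQ 27429 Q27429 (allL N27429 (tt N27063 F199890) (tt N27766 (iv F201399)) (tt N27816 (iv F201711)) (tt N26753 F199891) (tt N26801 F199892) (tt N27883 (iv F202069)) (tt N26784 F199893) (tt N26750 (iv D43356)) (tt N26758 F199894) (tt N27885 D43812))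
theorem Q27431 : ∀ i, i < 27431 → P i := stepQ 27430 Q27430 (allL N27430 (tt N27064 F199895) (tt N27767 (iv F201405)) (tt N27808 (iv F201666)) (tt N26754 F199896) (tt N26802 F199897) (tt N27884 (iv F202073)) (tt N26751 F199898) (tt N27885 (iv F202079)) (tt N27780 (iv F201499)) (tt N26750 (iv D43357)))
theorem Q27432 : ∀ i, i < 27432 → P i := stepQ 27431 Q27431 (allL N27431 (tt N27065 F199899) (tt N27768 (iv F201410)) (tt N26823 F199900) (tt N27883 (iv F202068)) (tt N27737 (iv F201212)) (tt N26753 F199901) (tt N27760 (iv F201364)) (tt N26752 (iv D43358)) (tt N27431 F199902) (tt N27886 D43813))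
theorem Q27433 : ∀ i, i < 27433 → P i := stepQ 27432 Q27432 (allL N27432 (tt N27066 F199903) (tt N27769 (iv F201417)) (tt N27882 (iv F202063)) (tt N27884 (iv F202072)) (tt N27738 (iv F201218)) (tt N26754 F199904) (tt N26883 F199905) (tt N27886 (iv F202083)) (tt N27887 D43814) (tt N26752 (iv D43359)))
theorem Q27434 : ∀ i, i < 27434 → P i := stepQ 27433 Q27433 (allL N27433 (tt N27067 F199906) (tt N27770 (iv F201422)) (tt N26824 F199907) (tt N27885 (iv F202076)) (tt N26756 F199908) (tt N27886 (iv F202082)) (tt N26786 F199909) (tt N26754 F199910) (tt N27865 (iv F201992)) (tt N26753 (iv D43360)))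
theorem Q27435 : ∀ i, i < 27435 → P i := stepQ 27434 Q27434 (allL N27434 (tt N27068 F199911) (tt N27718 (iv F201071)) (tt N27798 (iv F201602)) (tt N27780 (iv F201496)) (tt N26757 F199912) (tt N27888 D43815) (tt N26755 F199913) (tt N27865 (iv F201991)) (tt N26754 (iv D43361)) (tt N26759 F199914))
theorem Q27436 : ∀ i, i < 27436 → P i := stepQ 27435 Q27435 (allL N27435 (tt N27072 F199915) (tt N27690 (iv F200880)) (tt N27797 (iv F201594)) (tt N27752 (iv F201314)) (tt N27809 (iv F201674)) (tt N26759 (iv D43362)) (tt N26821 F199916) (tt N27863 (iv F201980)) (tt N27435 F199917) (tt N27888 (iv F202089)))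
theorem Q27437 : ∀ i, i < 27437 → P i := stepQ 27436 Q27436 (allL N27436 (tt N27725 (iv F201120)) (tt N27708 (iv F201001)) (tt N26991 F199918) (tt N26761 F199919) (tt N27682 (iv F200830)) (tt N27654 (iv F200639)) (tt N27697 (iv F200932)) (tt N26791 F199920) (tt N26760 (iv D43363)) (tt N27889 D43816))
theorem Q27438 : ∀ i, i < 27438 → P i := stepQ 27437 Q27437 (allL N27437 (tt N27734 (iv F201184)) (tt N27714 (iv F201041)) (tt N26763 F199921) (tt N27889 (iv F202091)) (tt N26762 F199922) (tt N27668 (iv F200732)) (tt N27793 (iv F201566)) (tt N26792 F199923) (tt N27022 F199924) (tt N26761 (iv D43364)))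
theorem Q27439 : ∀ i, i < 27439 → P i := stepQ 27438 Q27438 (allL N27438 (tt N27074 F199925) (tt N27022 F199926) (tt N27717 (iv F201063)) (tt N27699 (iv F200944)) (tt N26768 (iv D43365)) (tt N27775 (iv F201460)) (tt N27840 (iv F201870)) (tt N27013 F199927) (tt N27714 (iv F201046)) (tt N26769 F199928))
theorem Q27440 : ∀ i, i < 27440 → P i := stepQ 27439 Q27439 (allL N27439 (tt N26829 F199929) (tt N26772 F199930) (tt N26924 F199931) (tt N26820 F199932) (tt N26771 F199933) (tt N26915 F199934) (tt N26922 F199935) (tt N27647 (iv F200595)) (tt N26816 F199936) (tt N26770 (iv D43366)))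
theorem Q27441 : ∀ i, i < 27441 → P i := stepQ 27440 Q27440 (allL N27440 (tt N26827 F199937) (tt N27846 (iv F201894)) (tt N27839 (iv F201860)) (tt N27835 (iv F201841)) (tt N27001 F199938) (tt N26776 F199939) (tt N27745 (iv F201269)) (tt N27845 (iv F201892)) (tt N27890 D43817) (tt N26775 (iv D43367)))
theorem Q27442 : ∀ i, i < 27442 → P i := stepQ 27441 Q27441 (allL N27441 (tt N27076 F199940) (tt N27822 (iv F201752)) (tt N26784 F199941) (tt N26793 F199942) (tt N27779 (iv F201491)) (tt N27757 (iv F201346)) (tt N27816 (iv F201714)) (tt N26782 (iv D43368)) (tt N26789 F199943) (tt N27891 D43818))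
theorem Q27443 : ∀ i, i < 27443 → P i := stepQ 27442 Q27442 (allL N27442 (tt N27077 F199944) (tt N27881 (iv F202057)) (tt N26785 F199945) (tt N26828 F199946) (tt N27780 (iv F201497)) (tt N27857 (iv F201948)) (tt N26783 F199947) (tt N27891 (iv F202100)) (tt N26802 F199948) (tt N26782 (iv D43369)))
theorem Q27444 : ∀ i, i < 27444 → P i := stepQ 27443 Q27443 (allL N27443 (tt N27080 F199949) (tt N27862 (iv F201970)) (tt N27891 (iv F202098)) (tt N26786 F199950) (tt N27807 (iv F201661)) (tt N27759 (iv F201358)) (tt N27885 (iv F202078)) (tt N26785 F199951) (tt N27824 (iv F201770)) (tt N26784 (iv D43370)))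
theorem Q27445 : ∀ i, i < 27445 → P i := stepQ 27444 Q27444 (allL N27444 (tt N27081 F199952) (tt N26948 F199953) (tt N26825 F199954) (tt N27824 (iv F201767)) (tt N26788 F199955) (tt N27027 (iv F199958)) (tt N27865 (iv F201990)) (tt N26787 F199956) (tt N26786 (iv D43371)) (tt N26790 F199957))
theorem Q27446 : ∀ i, i < 27446 → P i := stepQ 27445 Q27445 (allL N27445 (tt N27748 (iv F201282)) (tt N27700 (iv F200948)) (tt N26992 F199959) (tt N26792 F199960) (tt N27683 (iv F200837)) (tt N27875 (iv F202027)) (tt N26990 F199961) (tt N27889 (iv F202092)) (tt N27021 F199962) (tt N26791 (iv D43372)))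
theorem Q27447 : ∀ i, i < 27447 → P i := stepQ 27446 Q27446 (allL N27446 (tt N27830 (iv F201802)) (tt N27823 (iv F201758)) (tt N26796 F199963) (tt N27891 (iv F202099)) (tt N26794 F199964) (tt N27764 (iv F201390)) (tt N27812 (iv F201689)) (tt N26828 F199965) (tt N27775 (iv F201463)) (tt N26793 (iv D43373)))
theorem Q27448 : ∀ i, i < 27448 → P i := stepQ 27447 Q27447 (allL N27447 (tt N27819 (iv F201729)) (tt N26803 F199966) (tt N27818 (iv F201725)) (tt N26823 F199967) (tt N27010 F199968) (tt N26795 (iv D43374)) (tt N27765 (iv F201396)) (tt N27803 (iv F201643)) (tt N27447 F199969) (tt N27892 D43819))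
theorem Q27449 : ∀ i, i < 27449 → P i := stepQ 27448 Q27448 (allL N27448 (tt N27815 (iv F201701)) (tt N26805 F199970) (tt N27812 (iv F201687)) (tt N26824 F199971) (tt N26797 F199972) (tt N27892 (iv F202105)) (tt N26796 F199973) (tt N27802 (iv F201635)) (tt N27801 (iv F201628)) (tt N26795 (iv D43375)))
theorem Q27450 : ∀ i, i < 27450 → P i := stepQ 27449 Q27449 (allL N27449 (tt N27647 (iv F200589)) (tt N26806 F199974) (tt N27775 (iv F201457)) (tt N26825 F199975) (tt N26798 F199976) (tt N27717 (iv F201066)) (tt N27801 (iv F201626)) (tt N26829 F199977) (tt N26796 (iv D43376)) (tt N26799 F199978))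
theorem Q27451 : ∀ i, i < 27451 → P i := stepQ 27450 Q27450 (allL N27450 (tt N27082 F199979) (tt N27880 (iv F202052)) (tt N27824 (iv F201766)) (tt N27775 (iv F201458)) (tt N27885 (iv F202077)) (tt N27699 (iv F200945)) (tt N27807 (iv F201662)) (tt N26802 F199980) (tt N27891 (iv F202101)) (tt N26801 (iv D43377)))
theorem Q27452 : ∀ i, i < 27452 → P i := stepQ 27451 Q27451 (allL N27451 (tt N27083 F199981) (tt N27803 (iv F201638)) (tt N27825 (iv F201773)) (tt N26882 F199982) (tt N27704 (iv F200978)) (tt N26804 F199983) (tt N27893 D43820) (tt N26803 (iv D43378)) (tt N27451 F199984) (tt N27894 D43821))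
theorem Q27453 : ∀ i, i < 27453 → P i := stepQ 27452 Q27452 (allL N27452 (tt N27084 F199985) (tt N27892 (iv F202102)) (tt N27826 (iv F201779)) (tt N26883 F199986) (tt N27705 (iv F200984)) (tt N26805 F199987) (tt N27884 (iv F202074)) (tt N27894 (iv F202114)) (tt N27895 D43822) (tt N26803 (iv D43379)))
theorem Q27454 : ∀ i, i < 27454 → P i := stepQ 27453 Q27453 (allL N27453 (tt N27085 F199988) (tt N27802 (iv F201630)) (tt N27827 (iv F201784)) (tt N26884 F199989) (tt N26807 F199990) (tt N27894 (iv F202113)) (tt N26914 F199991) (tt N26805 F199992) (tt N27796 (iv F201591)) (tt N26804 (iv D43380)))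
theorem Q27455 : ∀ i, i < 27455 → P i := stepQ 27454 Q27454 (allL N27454 (tt N27798 (iv F201600)) (tt N26813 F199993) (tt N27068 F199994) (tt N26995 F199995) (tt N26811 F199996) (tt N27847 (iv F201903)) (tt N26938 F199997) (tt N27833 (iv F201832)) (tt N27061 F199998) (tt N26810 (iv D43381)))
theorem Q27456 : ∀ i, i < 27456 → P i := stepQ 27455 Q27455 (allL N27455 (tt N27839 (iv F201859)) (tt N27847 (iv F201900)) (tt N26827 F199999) (tt N27831 (iv F201814)) (tt N27800 (iv F201618)) (tt N26813 F200000) (tt N27694 (iv F200910)) (tt N27834 (iv F201838)) (tt N27896 D43823) (tt N26812 (iv D43382)))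
theorem Q27457 : ∀ i, i < 27457 → P i := stepQ 27456 Q27456 (allL N27456 (tt N26828 F200001) (tt N26887 F200002) (tt N26816 F200003) (tt N27077 F200004) (tt N26815 F200005) (tt N27836 (iv F201849)) (tt N26925 F200006) (tt N27830 (iv F201807)) (tt N26924 F200007) (tt N26814 (iv D43383)))
theorem Q27458 : ∀ i, i < 27458 → P i := stepQ 27457 Q27457 (allL N27457 (tt N27025 F200008) (tt N27709 (iv F201008)) (tt N26893 F200009) (tt N26910 F200010) (tt N27726 (iv F201132)) (tt N27014 F200011) (tt N27723 (iv F201110)) (tt N26817 (iv D43384)) (tt N26819 F200012) (tt N27897 D43824))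
theorem Q27459 : ∀ i, i < 27459 → P i := stepQ 27458 Q27458 (allL N27458 (tt N27026 F200013) (tt N27710 (iv F201015)) (tt N26894 F200014) (tt N26907 F200015) (tt N27773 (iv F201447)) (tt N27015 F200016) (tt N26818 F200017) (tt N27897 (iv F202124)) (tt N26905 F200018) (tt N26817 (iv D43385)))
theorem Q27460 : ∀ i, i < 27460 → P i := stepQ 27459 Q27459 (allL N27459 (tt N27845 (iv F201885)) (tt N27691 (iv F200888)) (tt N27834 (iv F201835)) (tt N27753 (iv F201320)) (tt N27810 (iv F201679)) (tt N26822 F200019) (tt N27888 (iv F202088)) (tt N26827 F200020) (tt N27898 D43825) (tt N26821 (iv D43386)))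
theorem Q27461 : ∀ i, i < 27461 → P i := stepQ 27460 Q27460 (allL N27460 (tt N27846 (iv F201893)) (tt N26883 F200021) (tt N27886 (iv F202081)) (tt N27892 (iv F202103)) (tt N27774 (iv F201452)) (tt N26824 F200022) (tt N27769 (iv F201420)) (tt N27882 (iv F202066)) (tt N27899 D43826) (tt N26823 (iv D43387)))
theorem Q27462 : ∀ i, i < 27462 → P i := stepQ 27461 Q27461 (allL N27461 (tt N27720 (iv F201085)) (tt N27065 F200023) (tt N27695 (iv F200914)) (tt N27851 (iv F201918)) (tt N27028 F200024) (tt N26986 F200025) (tt N27863 (iv F201979)) (tt N26826 (iv D43388)) (tt N27461 F200026) (tt N27900 D43827))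
theorem Q27463 : ∀ i, i < 27463 → P i := stepQ 27462 Q27462 (allL N27462 (tt N27745 (iv F201264)) (tt N27066 F200027) (tt N27694 (iv F200907)) (tt N27852 (iv F201922)) (tt N27719 (iv F201081)) (tt N26987 F200028) (tt N26827 F200029) (tt N27900 (iv F202133)) (tt N27901 D43828) (tt N26826 (iv D43389)))
theorem Q27464 : ∀ i, i < 27464 → P i := stepQ 27463 Q27463 (allL N27463 (tt N27890 (iv F202094)) (tt N27692 (iv F200893)) (tt N27896 (iv F202118)) (tt N27853 (iv F201926)) (tt N27811 (iv F201683)) (tt N27848 (iv F201906)) (tt N27901 (iv F202135)) (tt N27898 (iv F202126)) (tt N26827 (iv D43390)) (tt N27463 F200030))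
theorem Q27465 : ∀ i, i < 27465 → P i := stepQ 27464 Q27464 (allL N27464 (tt N27742 (iv F201244)) (tt N26832 F200031) (tt N27704 (iv F200977)) (tt N26977 F200032) (tt N27825 (iv F201774)) (tt N26830 (iv D43391)) (tt N27902 D43829) (tt N26975 F200033) (tt N27464 F200034) (tt N27903 D43830))
theorem Q27466 : ∀ i, i < 27466 → P i := stepQ 27465 Q27465 (allL N27465 (tt N27740 (iv F201229)) (tt N26833 F200035) (tt N27706 (iv F200988)) (tt N26979 F200036) (tt N26831 F200037) (tt N27903 (iv F202143)) (tt N26866 F200038) (tt N26976 F200039) (tt N27031 F200040) (tt N26830 (iv D43392)))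
theorem Q27467 : ∀ i, i < 27467 → P i := stepQ 27466 Q27466 (allL N27466 (tt N27648 (iv F200598)) (tt N27825 (iv F201772)) (tt N27681 (iv F200820)) (tt N27904 D43831) (tt N26832 (iv D43393)) (tt N26834 F200041) (tt N27905 D43832) (tt N27032 F200042) (tt N27466 F200043) (tt N27906 D43833))
theorem Q27468 : ∀ i, i < 27468 → P i := stepQ 27467 Q27467 (allL N27467 (tt N27649 (iv F200604)) (tt N27902 (iv F202137)) (tt N27744 (iv F201259)) (tt N27721 (iv F201095)) (tt N27905 (iv F202149)) (tt N26873 F200044) (tt N26832 (iv D43394)) (tt N27907 D43834) (tt N27467 F200045) (tt N27908 D43835))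
theorem Q27469 : ∀ i, i < 27469 → P i := stepQ 27468 Q27468 (allL N27468 (tt N27650 (iv F200610)) (tt N27903 (iv F202141)) (tt N27835 (iv F201840)) (tt N27722 (iv F201103)) (tt N27906 (iv F202152)) (tt N26833 F200046) (tt N27908 (iv F202160)) (tt N27033 F200047) (tt N27909 D43836) (tt N26832 (iv D43395)))
theorem Q27470 : ∀ i, i < 27470 → P i := stepQ 27469 Q27469 (allL N27469 (tt N27651 (iv F200616)) (tt N27821 (iv F201745)) (tt N27910 D43837) (tt N26834 (iv D43396)) (tt N26837 F200048) (tt N27904 (iv F202145)) (tt N27663 (iv F200702)) (tt N27034 F200049) (tt N26836 F200050) (tt N27911 D43838))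
theorem Q27471 : ∀ i, i < 27471 → P i := stepQ 27470 Q27470 (allL N27470 (tt N27652 (iv F200622)) (tt N27827 (iv F201783)) (tt N27676 (iv F200781)) (tt N27911 (iv F202167)) (tt N26835 F200051) (tt N27906 (iv F202153)) (tt N27659 (iv F200671)) (tt N27035 F200052) (tt N27658 (iv F200666)) (tt N26834 (iv D43397)))
theorem Q27472 : ∀ i, i < 27472 → P i := stepQ 27471 Q27471 (allL N27471 (tt N27653 (iv F200629)) (tt N27762 (iv F201375)) (tt N26836 (iv D43398)) (tt N27086 F200053) (tt N26842 F200054) (tt N27471 F200055) (tt N27662 (iv F200696)) (tt N27037 F200056) (tt N27910 (iv F202166)) (tt N27661 F200689))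
theorem Q27473 : ∀ i, i < 27473 → P i := stepQ 27472 Q27472 (allL N27472 (tt N27654 (iv F200637)) (tt N27912 D43839) (tt N26837 (iv D43399)) (tt N26849 F200057) (tt N27910 (iv F202164)) (tt N27725 (iv F201123)) (tt N27913 D43840) (tt N27038 F200058) (tt N26842 F200059) (tt N27914 D43841))
theorem Q27474 : ∀ i, i < 27474 → P i := stepQ 27473 Q27473 (allL N27473 (tt N27655 (iv F200642)) (tt N27782 (iv F201506)) (tt N27913 (iv F202175)) (tt N26838 F200060) (tt N27663 (iv F200701)) (tt N27915 D43842) (tt N26837 (iv D43400)) (tt N27743 (iv F201255)) (tt N26843 F200061) (tt N27916 D43843))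
theorem Q27475 : ∀ i, i < 27475 → P i := stepQ 27474 Q27474 (allL N27474 (tt N27656 (iv F200648)) (tt N27829 (iv F201798)) (tt N27914 (iv F202178)) (tt N26839 F200062) (tt N27911 (iv F202168)) (tt N27727 (iv F201138)) (tt N27916 (iv F202184)) (tt N27039 F200063) (tt N27917 D43844) (tt N26837 (iv D43401)))
theorem Q27476 : ∀ i, i < 27476 → P i := stepQ 27475 Q27475 (allL N27475 (tt N27657 (iv F200653)) (tt N27784 (iv F201519)) (tt N26852 F200064) (tt N27915 (iv F202181)) (tt N26877 F200065) (tt N26838 (iv D43402)) (tt N27728 (iv F201144)) (tt N27776 (iv F201469)) (tt N27475 F200066) (tt N27918 D43845))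
theorem Q27477 : ∀ i, i < 27477 → P i := stepQ 27476 Q27476 (allL N27476 (tt N27658 (iv F200660)) (tt N27786 (iv F201529)) (tt N26854 F200067) (tt N27916 (iv F202183)) (tt N26840 F200068) (tt N27918 (iv F202190)) (tt N26839 F200069) (tt N27777 (iv F201476)) (tt N27652 (iv F200628)) (tt N26838 (iv D43403)))
theorem Q27478 : ∀ i, i < 27478 → P i := stepQ 27477 Q27477 (allL N27477 (tt N27659 (iv F200667)) (tt N27734 (iv F201185)) (tt N26855 F200070) (tt N27917 (iv F202185)) (tt N26841 F200071) (tt N27919 D43846) (tt N27652 (iv F200626)) (tt N27040 F200072) (tt N26839 (iv D43404)) (tt N26845 F200073))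
theorem Q27479 : ∀ i, i < 27479 → P i := stepQ 27478 Q27478 (allL N27478 (tt N27665 (iv F200711)) (tt N26842 (iv D43405)) (tt N27057 F200074) (tt N26848 F200075) (tt N27762 (iv F201378)) (tt N26846 F200076) (tt N27756 (iv F201341)) (tt N27041 F200077) (tt N27912 (iv F202174)) (tt N27055 (iv F200078)))
theorem Q27480 : ∀ i, i < 27480 → P i := stepQ 27479 Q27479 (allL N27479 (tt N27661 (iv F200682)) (tt N27756 (iv F201337)) (tt N26843 F200079) (tt N26857 F200080) (tt N27662 (iv F200694)) (tt N27479 F200081) (tt N26842 (iv D43406)) (tt N27733 (iv F201182)) (tt N27913 (iv F202177)) (tt N27653 (iv F200636)))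
theorem Q27481 : ∀ i, i < 27481 → P i := stepQ 27480 Q27480 (allL N27480 (tt N27662 (iv F200690)) (tt N27055 F200082) (tt N26844 F200083) (tt N26858 F200084) (tt N27661 (iv F200686)) (tt N26847 F200085) (tt N27653 (iv F200634)) (tt N27042 F200086) (tt N27920 D43847) (tt N26842 (iv D43407)))
theorem Q27482 : ∀ i, i < 27482 → P i := stepQ 27481 Q27481 (allL N27481 (tt N27663 (iv F200698)) (tt N27725 F201126) (tt N27920 (iv F202197)) (tt N26845 F200087) (tt N27655 (iv F200645)) (tt N27912 (iv F202172)) (tt N27651 (iv F200619)) (tt N27043 F200088) (tt N26844 (iv D43408)) (tt N27917 (iv F202187)))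
theorem Q27483 : ∀ i, i < 27483 → P i := stepQ 27482 Q27482 (allL N27482 (tt N27664 (iv F200704)) (tt N26849 F200089) (tt N26861 F200090) (tt N27912 (iv F202171)) (tt N26886 F200091) (tt N26845 (iv D43409)) (tt N27873 (iv F202017)) (tt N27044 F200092) (tt N26848 F200093) (tt N27919 (iv F202195)))
theorem Q27484 : ∀ i, i < 27484 → P i := stepQ 27483 Q27483 (allL N27483 (tt N27667 (iv F200725)) (tt N27873 (iv F202015)) (tt N26850 F200094) (tt N27913 (iv F202176)) (tt N27707 F200999) (tt N27921 D43848) (tt N26849 (iv D43410)) (tt N27922 D43849) (tt N26857 F200095) (tt N27923 D43850))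
theorem Q27485 : ∀ i, i < 27485 → P i := stepQ 27484 Q27484 (allL N27484 (tt N27668 (iv F200729)) (tt N27919 (iv F202191)) (tt N26851 F200096) (tt N27914 (iv F202179)) (tt N27836 (iv F201848)) (tt N27734 (iv F201188)) (tt N27923 (iv F202209)) (tt N27046 F200097) (tt N27924 D43851) (tt N26849 (iv D43411)))
theorem Q27486 : ∀ i, i < 27486 → P i := stepQ 27485 Q27485 (allL N27485 (tt N27669 (iv F200734)) (tt N27772 (iv F201437)) (tt N27921 (iv F202201)) (tt N26852 F200098) (tt N27701 (iv F200958)) (tt N26850 (iv D43412)) (tt N27735 (iv F201197)) (tt N27925 D43852) (tt N27485 F200099) (tt N27926 D43853))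
theorem Q27487 : ∀ i, i < 27487 → P i := stepQ 27486 Q27486 (allL N27486 (tt N27670 (iv F200740)) (tt N27726 (iv F201129)) (tt N27922 (iv F202205)) (tt N26853 F200100) (tt N27709 (iv F201010)) (tt N27925 (iv F202216)) (tt N27047 F200101) (tt N26850 (iv D43413)) (tt N26859 F200102) (tt N27927 D43854))
theorem Q27488 : ∀ i, i < 27488 → P i := stepQ 27487 Q27487 (allL N27487 (tt N27671 (iv F200746)) (tt N27773 (iv F201444)) (tt N27923 (iv F202208)) (tt N26854 F200103) (tt N27710 (iv F201017)) (tt N27926 (iv F202219)) (tt N26851 F200104) (tt N27927 (iv F202222)) (tt N27855 (iv F201938)) (tt N26850 (iv D43414)))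
theorem Q27489 : ∀ i, i < 27489 → P i := stepQ 27488 Q27488 (allL N27488 (tt N27672 (iv F200752)) (tt N26897 F200105) (tt N27924 (iv F202210)) (tt N26855 F200106) (tt N26890 F200107) (tt N27778 (iv F201483)) (tt N27855 (iv F201937)) (tt N27049 F200108) (tt N26851 (iv D43415)) (tt N26860 F200109))
theorem Q27490 : ∀ i, i < 27490 → P i := stepQ 27489 Q27489 (allL N27489 (tt N27673 (iv F200760)) (tt N27728 (iv F201141)) (tt N27776 (iv F201466)) (tt N27925 (iv F202215)) (tt N26882 F200110) (tt N26853 F200111) (tt N27784 (iv F201523)) (tt N26852 (iv D43416)) (tt N27489 F200112) (tt N27928 D43855))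
theorem Q27491 : ∀ i, i < 27491 → P i := stepQ 27490 Q27490 (allL N27490 (tt N27674 (iv F200767)) (tt N27774 (iv F201451)) (tt N27918 (iv F202188)) (tt N27926 (iv F202218)) (tt N26883 F200113) (tt N26854 F200114) (tt N27738 (iv F201220)) (tt N27928 (iv F202225)) (tt N27929 D43856) (tt N26852 (iv D43417)))
theorem Q27492 : ∀ i, i < 27492 → P i := stepQ 27491 Q27491 (allL N27491 (tt N27675 (iv F200772)) (tt N27729 (iv F201148)) (tt N27777 (iv F201473)) (tt N27927 (iv F202220)) (tt N26856 F200115) (tt N27928 (iv F202224)) (tt N27050 F200116) (tt N26854 F200117) (tt N27755 (iv F201335)) (tt N26853 (iv D43418)))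
theorem Q27493 : ∀ i, i < 27493 → P i := stepQ 27492 Q27492 (allL N27492 (tt N27677 (iv F200787)) (tt N26892 F200118) (tt N27919 (iv F202192)) (tt N27778 (iv F201481)) (tt N26888 F200119) (tt N26855 (iv D43419)) (tt N27874 (iv F202023)) (tt N27052 F200120) (tt N27741 (iv F201242)) (tt N26861 F200121))
theorem Q27494 : ∀ i, i < 27494 → P i := stepQ 27493 Q27493 (allL N27493 (tt N27679 (iv F200803)) (tt N27653 (iv F200630)) (tt N26859 F200122) (tt N27733 (iv F201179)) (tt N27660 (iv F200676)) (tt N27493 F200123) (tt N27055 F200124) (tt N26857 (iv D43420)) (tt N27922 (iv F202207)) (tt N27756 (iv F201343)))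
theorem Q27495 : ∀ i, i < 27495 → P i := stepQ 27494 Q27494 (allL N27494 (tt N27680 (iv F200811)) (tt N27732 (iv F201170)) (tt N26860 F200125) (tt N27920 (iv F202198)) (tt N26889 F200126) (tt N27059 F200127) (tt N27854 (iv F201931)) (tt N27056 F200128) (tt N26858 (iv D43421)) (tt N27924 (iv F202214)))
theorem Q27496 : ∀ i, i < 27496 → P i := stepQ 27495 Q27495 (allL N27495 (tt N27731 (iv F201161)) (tt N27076 F200129) (tt N27020 F200130) (tt N26863 F200131) (tt N27685 (iv F200850)) (tt N27878 (iv F202043)) (tt N27702 (iv F200966)) (tt N26885 F200132) (tt N26862 (iv D43422)) (tt N27930 D43857))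
theorem Q27497 : ∀ i, i < 27497 → P i := stepQ 27496 Q27496 (allL N27496 (tt N27732 (iv F201169)) (tt N26952 F200133) (tt N26865 F200134) (tt N27878 (iv F202042)) (tt N27044 F200135) (tt N26863 (iv D43423)) (tt N27931 D43858) (tt N26886 F200136) (tt N26917 F200137) (tt N27932 D43859))
theorem Q27498 : ∀ i, i < 27498 → P i := stepQ 27497 Q27497 (allL N27497 (tt N27730 (iv F201154)) (tt N27830 (iv F201803)) (tt N26866 F200138) (tt N27930 (iv F202230)) (tt N26864 F200139) (tt N27932 (iv F202240)) (tt N27706 (iv F200990)) (tt N26887 F200140) (tt N26994 F200141) (tt N26863 (iv D43424)))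
theorem Q27499 : ∀ i, i < 27499 → P i := stepQ 27498 Q27498 (allL N27498 (tt N27743 (iv F201251)) (tt N26873 F200142) (tt N27931 (iv F202234)) (tt N27023 F200143) (tt N27043 F200144) (tt N27902 (iv F202139)) (tt N26865 (iv D43425)) (tt N27655 (iv F200646)) (tt N26918 F200145) (tt N27933 D43860))
theorem Q27500 : ∀ i, i < 27500 → P i := stepQ 27499 Q27499 (allL N27499 (tt N27741 (iv F201237)) (tt N26874 F200146) (tt N27932 (iv F202238)) (tt N27024 F200147) (tt N27052 F200148) (tt N26866 F200149) (tt N27933 (iv F202245)) (tt N26888 F200150) (tt N27677 (iv F200792)) (tt N26865 (iv D43426)))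
theorem Q27501 : ∀ i, i < 27501 → P i := stepQ 27500 Q27500 (allL N27500 (tt N27666 (iv F200719)) (tt N27664 (iv F200705)) (tt N26867 (iv D43427)) (tt N27860 (iv F201962)) (tt N27056 F200151) (tt N26912 F200152) (tt N27934 D43861) (tt N26889 F200153) (tt N26871 F200154) (tt N27935 D43862))
theorem Q27502 : ∀ i, i < 27502 → P i := stepQ 27501 Q27501 (allL N27501 (tt N27715 (iv F201047)) (tt N26875 F200155) (tt N27934 (iv F202248)) (tt N26868 F200156) (tt N27058 F200157) (tt N27893 (iv F202109)) (tt N26867 (iv D43428)) (tt N27758 (iv F201353)) (tt N26872 F200158) (tt N27936 D43863))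
theorem Q27503 : ∀ i, i < 27503 → P i := stepQ 27502 Q27502 (allL N27502 (tt N27716 (iv F201054)) (tt N26876 F200159) (tt N27935 (iv F202251)) (tt N26869 F200160) (tt N27049 F200161) (tt N26914 F200162) (tt N27936 (iv F202259)) (tt N26890 F200163) (tt N26954 F200164) (tt N26867 (iv D43429)))
theorem Q27504 : ∀ i, i < 27504 → P i := stepQ 27503 Q27503 (allL N27503 (tt N27690 (iv F200879)) (tt N26877 F200165) (tt N27768 (iv F201411)) (tt N27893 (iv F202108)) (tt N27784 (iv F201521)) (tt N26868 (iv D43430)) (tt N26882 F200166) (tt N27760 (iv F201365)) (tt N27503 F200167) (tt N27937 D43864))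
theorem Q27505 : ∀ i, i < 27505 → P i := stepQ 27504 Q27504 (allL N27504 (tt N27718 (iv F201070)) (tt N26879 F200168) (tt N27770 (iv F201423)) (tt N27936 (iv F202257)) (tt N26870 F200169) (tt N27937 (iv F202262)) (tt N26869 F200170) (tt N27761 (iv F201372)) (tt N26957 F200171) (tt N26868 (iv D43431)))
theorem Q27506 : ∀ i, i < 27506 → P i := stepQ 27505 Q27505 (allL N27505 (tt N27678 (iv F200795)) (tt N27037 F200172) (tt N26872 F200173) (tt N27771 (iv F201431)) (tt N27041 F200174) (tt N27505 F200175) (tt N26871 (iv D43432)) (tt N27762 (iv F201380)) (tt N27934 (iv F202250)) (tt N26959 F200176))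
theorem Q27507 : ∀ i, i < 27507 → P i := stepQ 27506 Q27506 (allL N27506 (tt N27682 (iv F200826)) (tt N27655 (iv F200643)) (tt N27723 (iv F201108)) (tt N27073 F200177) (tt N27725 (iv F201122)) (tt N27907 (iv F202156)) (tt N26893 F200178) (tt N26873 (iv D43433)) (tt N26919 F200179) (tt N27938 D43865))
theorem Q27508 : ∀ i, i < 27508 → P i := stepQ 27507 Q27507 (allL N27507 (tt N27683 (iv F200833)) (tt N27933 (iv F202242)) (tt N27747 (iv F201277)) (tt N27828 (iv F201792)) (tt N27748 (iv F201286)) (tt N27908 (iv F202159)) (tt N26874 F200180) (tt N27938 (iv F202266)) (tt N27814 (iv F201699)) (tt N26873 (iv D43434)))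
theorem Q27509 : ∀ i, i < 27509 → P i := stepQ 27508 Q27508 (allL N27508 (tt N27684 (iv F200840)) (tt N27893 (iv F202107)) (tt N27820 (iv F201739)) (tt N26877 F200181) (tt N27939 D43866) (tt N26875 (iv D43435)) (tt N27803 (iv F201642)) (tt N27940 D43867) (tt N27508 F200182) (tt N27941 D43868))
theorem Q27510 : ∀ i, i < 27510 → P i := stepQ 27509 Q27509 (allL N27509 (tt N27685 (iv F200846)) (tt N27758 (iv F201350)) (tt N27821 (iv F201746)) (tt N26878 F200183) (tt N27731 (iv F201165)) (tt N27940 (iv F202272)) (tt N26904 F200184) (tt N26875 (iv D43436)) (tt N26881 F200185) (tt N27942 D43869))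
theorem Q27511 : ∀ i, i < 27511 → P i := stepQ 27510 Q27510 (allL N27510 (tt N27686 (iv F200853)) (tt N27936 (iv F202256)) (tt N27814 (iv F201696)) (tt N26879 F200186) (tt N27749 (iv F201294)) (tt N27941 (iv F202275)) (tt N26876 F200187) (tt N27942 (iv F202278)) (tt N27747 (iv F201281)) (tt N26875 (iv D43437)))
theorem Q27512 : ∀ i, i < 27512 → P i := stepQ 27511 Q27511 (allL N27511 (tt N27687 (iv F200860)) (tt N27760 (iv F201361)) (tt N26882 F200188) (tt N27940 (iv F202271)) (tt N27776 (iv F201467)) (tt N26878 F200189) (tt N27768 (iv F201414)) (tt N26877 (iv D43438)) (tt N27511 F200190) (tt N27943 D43870))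
theorem Q27513 : ∀ i, i < 27513 → P i := stepQ 27512 Q27512 (allL N27512 (tt N27688 (iv F200867)) (tt N27937 (iv F202261)) (tt N26883 F200191) (tt N27941 (iv F202274)) (tt N27918 (iv F202189)) (tt N26879 F200192) (tt N27882 (iv F202065)) (tt N27943 (iv F202281)) (tt N27944 D43871) (tt N26877 (iv D43439)))
theorem Q27514 : ∀ i, i < 27514 → P i := stepQ 27513 Q27513 (allL N27513 (tt N27689 (iv F200872)) (tt N27761 (iv F201368)) (tt N26884 F200193) (tt N27942 (iv F202276)) (tt N26880 F200194) (tt N27943 (iv F202280)) (tt N26906 F200195) (tt N26879 F200196) (tt N27724 (iv F201119)) (tt N26878 (iv D43440)))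
theorem Q27515 : ∀ i, i < 27515 → P i := stepQ 27514 Q27514 (allL N27514 (tt N27691 (iv F200887)) (tt N27882 (iv F202062)) (tt N27943 (iv F202279)) (tt N27894 (iv F202112)) (tt N27928 (iv F202223)) (tt N26884 F200197) (tt N27937 (iv F202263)) (tt N26883 F200198) (tt N27945 D43872) (tt N26882 (iv D43441)))
theorem Q27516 : ∀ i, i < 27516 → P i := stepQ 27515 Q27515 (allL N27515 (tt N27692 (iv F200892)) (tt N27899 (iv F202128)) (tt N27944 (iv F202282)) (tt N27895 (iv F202116)) (tt N27929 (iv F202226)) (tt N27868 (iv F202000)) (tt N27887 (iv F202085)) (tt N27945 (iv F202284)) (tt N26883 (iv D43442)) (tt N27515 F200199))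
theorem Q27517 : ∀ i, i < 27517 → P i := stepQ 27516 Q27516 (allL N27516 (tt N27749 (iv F201290)) (tt N27077 F200200) (tt N27021 F200201) (tt N26887 F200202) (tt N27686 (iv F200857)) (tt N27879 (iv F202049)) (tt N26993 F200203) (tt N27930 (iv F202231)) (tt N26992 F200204) (tt N26885 (iv D43443)))
theorem Q27518 : ∀ i, i < 27518 → P i := stepQ 27517 Q27517 (allL N27517 (tt N27750 (iv F201298)) (tt N27836 (iv F201845)) (tt N26888 F200205) (tt N27879 (iv F202048)) (tt N27919 (iv F202193)) (tt N26887 F200206) (tt N27875 (iv F202028)) (tt N27932 (iv F202241)) (tt N27877 (iv F202037)) (tt N26886 (iv D43444)))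
theorem Q27519 : ∀ i, i < 27519 → P i := stepQ 27518 Q27518 (allL N27518 (tt N27713 (iv F201034)) (tt N27877 (iv F202035)) (tt N26890 F200207) (tt N27861 (iv F201966)) (tt N27924 (iv F202211)) (tt N26913 F200208) (tt N27857 (iv F201949)) (tt N27935 (iv F202254)) (tt N27836 (iv F201851)) (tt N26889 (iv D43445)))
theorem Q27520 : ∀ i, i < 27520 → P i := stepQ 27519 Q27519 (allL N27519 (tt N27696 (iv F200920)) (tt N27849 (iv F201909)) (tt N27772 (iv F201438)) (tt N27788 (iv F201546)) (tt N27062 F200209) (tt N26891 (iv D43446)) (tt N26898 F200210) (tt N27946 D43873) (tt N27519 F200211) (tt N27947 D43874))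
theorem Q27521 : ∀ i, i < 27521 → P i := stepQ 27520 Q27520 (allL N27520 (tt N27697 (iv F200927)) (tt N27651 (iv F200617)) (tt N27726 (iv F201130)) (tt N26983 F200212) (tt N26893 F200213) (tt N27946 (iv F202288)) (tt N27725 F201127) (tt N26891 (iv D43447)) (tt N26920 F200214) (tt N27948 D43875))
theorem Q27522 : ∀ i, i < 27522 → P i := stepQ 27521 Q27521 (allL N27521 (tt N27698 (iv F200934)) (tt N27874 (iv F202020)) (tt N27773 (iv F201445)) (tt N27787 (iv F201538)) (tt N26894 F200215) (tt N27947 (iv F202291)) (tt N26892 F200216) (tt N27948 (iv F202295)) (tt N27783 (iv F201517)) (tt N26891 (iv D43448)))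
theorem Q27523 : ∀ i, i < 27523 → P i := stepQ 27522 Q27522 (allL N27522 (tt N27699 (iv F200941)) (tt N27656 (iv F200649)) (tt N27897 (iv F202121)) (tt N27074 F200217) (tt N27948 (iv F202294)) (tt N27082 F200218) (tt N27938 (iv F202265)) (tt N26894 F200219) (tt N27949 D43876) (tt N26893 (iv D43449)))
theorem Q27524 : ∀ i, i < 27524 → P i := stepQ 27523 Q27523 (allL N27523 (tt N27700 (iv F200947)) (tt N27876 (iv F202030)) (tt N26905 F200220) (tt N26913 F200221) (tt N27783 (iv F201515)) (tt N27861 (iv F201967)) (tt N26895 F200222) (tt N27949 (iv F202298)) (tt N26894 (iv D43450)) (tt N26903 F200223))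
theorem Q27525 : ∀ i, i < 27525 → P i := stepQ 27524 Q27524 (allL N27524 (tt N27701 (iv F200954)) (tt N27804 (iv F201646)) (tt N27781 (iv F201501)) (tt N26898 F200224) (tt N27669 (iv F200737)) (tt N26896 (iv D43451)) (tt N27788 (iv F201548)) (tt N27950 D43877) (tt N27524 F200225) (tt N27951 D43878))
theorem Q27526 : ∀ i, i < 27526 → P i := stepQ 27525 Q27525 (allL N27525 (tt N27702 (iv F200961)) (tt N27754 (iv F201324)) (tt N27782 (iv F201507)) (tt N26899 F200226) (tt N26904 F200227) (tt N27950 (iv F202301)) (tt N27731 (iv F201167)) (tt N26896 (iv D43452)) (tt N26902 F200228) (tt N27952 D43879))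
theorem Q27527 : ∀ i, i < 27527 → P i := stepQ 27526 Q27526 (allL N27526 (tt N27703 (iv F200968)) (tt N27855 (iv F201934)) (tt N27783 (iv F201513)) (tt N26900 F200229) (tt N26905 F200230) (tt N27951 (iv F202304)) (tt N26897 F200231) (tt N27952 (iv F202307)) (tt N27773 (iv F201449)) (tt N26896 (iv D43453)))
theorem Q27528 : ∀ i, i < 27528 → P i := stepQ 27527 Q27527 (allL N27527 (tt N27704 (iv F200975)) (tt N27751 (iv F201306)) (tt N27742 (iv F201246)) (tt N27950 (iv F202300)) (tt N27083 F200232) (tt N26899 F200233) (tt N27953 D43880) (tt N26898 (iv D43454)) (tt N27527 F200234) (tt N27954 D43881))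
theorem Q27529 : ∀ i, i < 27529 → P i := stepQ 27528 Q27528 (allL N27528 (tt N27705 (iv F200981)) (tt N27850 (iv F201914)) (tt N27789 (iv F201552)) (tt N27951 (iv F202303)) (tt N27084 F200235) (tt N26900 F200236) (tt N27947 (iv F202292)) (tt N27954 (iv F202312)) (tt N27955 D43882) (tt N26898 (iv D43455)))
theorem Q27530 : ∀ i, i < 27530 → P i := stepQ 27529 Q27529 (allL N27529 (tt N27706 (iv F200986)) (tt N27755 (iv F201330)) (tt N27740 (iv F201231)) (tt N27952 (iv F202305)) (tt N26901 F200237) (tt N27954 (iv F202311)) (tt N27730 (iv F201158)) (tt N26900 F200238) (tt N27729 (iv F201153)) (tt N26899 (iv D43456)))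
theorem Q27531 : ∀ i, i < 27531 → P i := stepQ 27530 Q27530 (allL N27530 (tt N27708 (iv F201000)) (tt N27663 (iv F200699)) (tt N26904 F200239) (tt N26912 F200240) (tt N27782 (iv F201509)) (tt N27860 (iv F201963)) (tt N27821 (iv F201749)) (tt N26903 (iv D43457)) (tt N26909 F200241) (tt N27949 (iv F202299)))
theorem Q27532 : ∀ i, i < 27532 → P i := stepQ 27531 Q27531 (allL N27531 (tt N27711 (iv F201021)) (tt N27759 (iv F201356)) (tt N27949 (iv F202296)) (tt N26906 F200242) (tt N27952 (iv F202306)) (tt N27862 (iv F201972)) (tt N27942 (iv F202277)) (tt N26905 F200243) (tt N27897 (iv F202125)) (tt N26904 (iv D43458)))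
theorem Q27533 : ∀ i, i < 27533 → P i := stepQ 27532 Q27532 (allL N27532 (tt N27027 F200244) (tt N27712 (iv F201027)) (tt N26916 F200245) (tt N27897 (iv F202122)) (tt N26908 F200246) (tt N27081 F200247) (tt N27724 (iv F201117)) (tt N26907 F200248) (tt N26906 (iv D43459)) (tt N26910 F200249))
theorem Q27534 : ∀ i, i < 27534 → P i := stepQ 27533 Q27533 (allL N27533 (tt N27714 (iv F201040)) (tt N27659 (iv F200668)) (tt N26914 F200250) (tt N27949 (iv F202297)) (tt N27054 F200251) (tt N27935 (iv F202253)) (tt N27827 (iv F201786)) (tt N26913 F200252) (tt N27074 F200253) (tt N26912 (iv D43460)))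
theorem Q27535 : ∀ i, i < 27535 → P i := stepQ 27534 Q27534 (allL N27534 (tt N27733 (iv F201176)) (tt N26959 F200254) (tt N26918 F200255) (tt N27679 (iv F200806)) (tt N27042 F200256) (tt N27534 F200257) (tt N26917 (iv D43461)) (tt N27661 (iv F200688)) (tt N27931 (iv F202236)) (tt N27037 F200258))
theorem Q27536 : ∀ i, i < 27536 → P i := stepQ 27535 Q27535 (allL N27535 (tt N27775 (iv F201455)) (tt N26994 F200259) (tt N27647 (iv F200591)) (tt N27082 F200260) (tt N26926 F200261) (tt N27074 F200262) (tt N27002 F200263) (tt N26924 F200264) (tt N27830 (iv F201808)) (tt N26923 (iv D43462)))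
theorem Q27537 : ∀ i, i < 27537 → P i := stepQ 27536 Q27536 (allL N27536 (tt N27737 (iv F201208)) (tt N27028 F200265) (tt N26933 F200266) (tt N26982 F200267) (tt N27065 F200268) (tt N26928 (iv D43463)) (tt N26967 F200269) (tt N27030 F200270) (tt N27536 F200271) (tt N27956 D43883))
theorem Q27538 : ∀ i, i < 27538 → P i := stepQ 27537 Q27537 (allL N27537 (tt N27739 (iv F201221)) (tt N27029 F200272) (tt N26935 F200273) (tt N26980 F200274) (tt N26930 F200275) (tt N27956 (iv F202319)) (tt N26929 F200276) (tt N27031 F200277) (tt N26976 F200278) (tt N26928 (iv D43464)))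
theorem Q27539 : ∀ i, i < 27539 → P i := stepQ 27538 Q27538 (allL N27538 (tt N27772 (iv F201436)) (tt N26996 F200279) (tt N27696 (iv F200922)) (tt N26933 F200280) (tt N27817 (iv F201720)) (tt N26931 (iv D43465)) (tt N26975 F200281) (tt N27957 D43884) (tt N27538 F200282) (tt N27958 D43885))
theorem Q27540 : ∀ i, i < 27540 → P i := stepQ 27539 Q27539 (allL N27539 (tt N27726 (iv F201128)) (tt N26997 F200283) (tt N27697 (iv F200929)) (tt N26934 F200284) (tt N27025 F200285) (tt N27957 (iv F202324)) (tt N26991 F200286) (tt N26931 (iv D43466)) (tt N26937 F200287) (tt N27959 D43886))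
theorem Q27541 : ∀ i, i < 27541 → P i := stepQ 27540 Q27540 (allL N27540 (tt N27773 (iv F201443)) (tt N26998 F200288) (tt N27698 (iv F200936)) (tt N26935 F200289) (tt N27026 F200290) (tt N27958 (iv F202328)) (tt N26932 F200291) (tt N27959 (iv F202334)) (tt N27703 (iv F200974)) (tt N26931 (iv D43467)))
theorem Q27542 : ∀ i, i < 27542 → P i := stepQ 27541 Q27541 (allL N27541 (tt N27728 (iv F201140)) (tt N27000 F200292) (tt N27030 F200293) (tt N27957 (iv F202323)) (tt N27060 F200294) (tt N26934 F200295) (tt N27657 (iv F200657)) (tt N26933 (iv D43468)) (tt N27541 F200296) (tt N27960 D43887))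
theorem Q27543 : ∀ i, i < 27543 → P i := stepQ 27542 Q27542 (allL N27542 (tt N27774 (iv F201450)) (tt N27001 F200297) (tt N27956 (iv F202316)) (tt N27958 (iv F202327)) (tt N27846 (iv F201896)) (tt N26935 F200298) (tt N26978 F200299) (tt N27960 (iv F202339)) (tt N27961 D43888) (tt N26933 (iv D43469)))
theorem Q27544 : ∀ i, i < 27544 → P i := stepQ 27543 Q27543 (allL N27543 (tt N27729 (iv F201147)) (tt N27002 F200300) (tt N27031 F200301) (tt N27959 (iv F202331)) (tt N26936 F200302) (tt N27960 (iv F202338)) (tt N26994 F200303) (tt N26935 F200304) (tt N27706 (iv F200992)) (tt N26934 (iv D43470)))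
theorem Q27545 : ∀ i, i < 27545 → P i := stepQ 27544 Q27544 (allL N27544 (tt N27803 (iv F201637)) (tt N26941 F200305) (tt N27010 F200306) (tt N27060 F200307) (tt N27818 (iv F201726)) (tt N26939 (iv D43471)) (tt N27684 (iv F200844)) (tt N27819 (iv F201734)) (tt N27544 F200308) (tt N27962 D43889))
theorem Q27546 : ∀ i, i < 27546 → P i := stepQ 27545 Q27545 (allL N27545 (tt N27802 (iv F201629)) (tt N26942 F200309) (tt N27003 F200310) (tt N27061 F200311) (tt N26940 F200312) (tt N27962 (iv F202346)) (tt N26961 F200313) (tt N27815 (iv F201706)) (tt N26995 F200314) (tt N26939 (iv D43472)))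
theorem Q27547 : ∀ i, i < 27547 → P i := stepQ 27546 Q27546 (allL N27546 (tt N27751 (iv F201305)) (tt N27818 (iv F201724)) (tt N27032 F200315) (tt N27963 D43890) (tt N26941 (iv D43473)) (tt N26943 F200316) (tt N27964 D43891) (tt N27681 (iv F200824)) (tt N27546 F200317) (tt N27965 D43892))
theorem Q27548 : ∀ i, i < 27548 → P i := stepQ 27547 Q27547 (allL N27547 (tt N27752 (iv F201311)) (tt N27684 (iv F200841)) (tt N26996 F200318) (tt N27072 F200319) (tt N27964 (iv F202352)) (tt N26963 F200320) (tt N26941 (iv D43474)) (tt N27966 D43893) (tt N27547 F200321) (tt N27967 D43894))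
theorem Q27549 : ∀ i, i < 27549 → P i := stepQ 27548 Q27548 (allL N27548 (tt N27753 (iv F201317)) (tt N27962 (iv F202343)) (tt N27033 F200322) (tt N27845 (iv F201888)) (tt N27965 (iv F202356)) (tt N26942 F200323) (tt N27967 (iv F202365)) (tt N27835 (iv F201843)) (tt N27968 D43895) (tt N26941 (iv D43475)))
theorem Q27550 : ∀ i, i < 27550 → P i := stepQ 27549 Q27549 (allL N27549 (tt N27754 (iv F201323)) (tt N27816 (iv F201710)) (tt N27969 D43896) (tt N26943 (iv D43476)) (tt N26946 F200324) (tt N27963 (iv F202348)) (tt N27822 (iv F201754)) (tt N27078 F200325) (tt N26945 F200326) (tt N27970 D43897))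
theorem Q27551 : ∀ i, i < 27551 → P i := stepQ 27550 Q27550 (allL N27550 (tt N27755 (iv F201329)) (tt N27812 (iv F201686)) (tt N27035 F200327) (tt N27970 (iv F202372)) (tt N26944 F200328) (tt N27965 (iv F202357)) (tt N27823 (iv F201761)) (tt N27676 (iv F200785)) (tt N27675 (iv F200778)) (tt N26943 (iv D43477)))
theorem Q27552 : ∀ i, i < 27552 → P i := stepQ 27551 Q27551 (allL N27551 (tt N27756 (iv F201336)) (tt N27771 (iv F201429)) (tt N26945 (iv D43478)) (tt N27037 F200329) (tt N26950 F200330) (tt N27551 F200331) (tt N27665 (iv F200717)) (tt N27086 F200332) (tt N27969 (iv F202371)) (tt N27679 (iv F200810)))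
theorem Q27553 : ∀ i, i < 27553 → P i := stepQ 27552 Q27552 (allL N27552 (tt N27757 (iv F201344)) (tt N27878 (iv F202040)) (tt N26946 (iv D43479)) (tt N26952 F200333) (tt N27969 (iv F202369)) (tt N27076 F200334) (tt N27971 D43898) (tt N27075 F200335) (tt N26950 F200336) (tt N27972 D43899))
theorem Q27554 : ∀ i, i < 27554 → P i := stepQ 27553 Q27553 (allL N27553 (tt N27758 (iv F201349)) (tt N27779 (iv F201488)) (tt N27971 (iv F202375)) (tt N26947 F200337) (tt N27822 (iv F201753)) (tt N27973 D43900) (tt N26946 (iv D43480)) (tt N27715 (iv F201052)) (tt N26951 F200338) (tt N27974 D43901))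
theorem Q27555 : ∀ i, i < 27555 → P i := stepQ 27554 Q27554 (allL N27554 (tt N27759 (iv F201355)) (tt N27824 (iv F201765)) (tt N27972 (iv F202378)) (tt N26948 F200339) (tt N27970 (iv F202373)) (tt N27080 F200340) (tt N27974 (iv F202387)) (tt N27079 F200341) (tt N27862 (iv F201974)) (tt N26946 (iv D43481)))
theorem Q27556 : ∀ i, i < 27556 → P i := stepQ 27555 Q27555 (allL N27555 (tt N27760 (iv F201360)) (tt N27863 (iv F201976)) (tt N26955 F200342) (tt N27973 (iv F202382)) (tt N26967 F200343) (tt N26947 (iv D43482)) (tt N27065 F200344) (tt N27690 (iv F200885)) (tt N27555 F200345) (tt N27975 D43902))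
theorem Q27557 : ∀ i, i < 27557 → P i := stepQ 27556 Q27556 (allL N27556 (tt N27761 (iv F201367)) (tt N27865 (iv F201987)) (tt N26957 F200346) (tt N27974 (iv F202386)) (tt N26949 F200347) (tt N27975 (iv F202390)) (tt N26948 F200348) (tt N27718 (iv F201075)) (tt N27770 (iv F201427)) (tt N26947 (iv D43483)))
theorem Q27558 : ∀ i, i < 27558 → P i := stepQ 27557 Q27557 (allL N27557 (tt N27762 (iv F201374)) (tt N27679 (iv F200804)) (tt N26951 F200349) (tt N26959 F200350) (tt N27665 F200718) (tt N27557 F200351) (tt N26950 (iv D43484)) (tt N27678 (iv F200801)) (tt N27971 (iv F202377)) (tt N27771 (iv F201435)))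
theorem Q27559 : ∀ i, i < 27559 → P i := stepQ 27558 Q27558 (allL N27558 (tt N27763 (iv F201382)) (tt N27931 (iv F202233)) (tt N26953 F200352) (tt N27971 (iv F202376)) (tt N27045 F200353) (tt N27939 (iv F202268)) (tt N26952 (iv D43485)) (tt N27976 D43903) (tt N26959 F200354) (tt N27977 D43904))
theorem Q27560 : ∀ i, i < 27560 → P i := stepQ 27559 Q27559 (allL N27559 (tt N27764 (iv F201387)) (tt N27932 (iv F202237)) (tt N26954 F200355) (tt N27972 (iv F202379)) (tt N27046 F200356) (tt N27830 (iv F201805)) (tt N27977 (iv F202397)) (tt N27836 (iv F201850)) (tt N27935 (iv F202255)) (tt N26952 (iv D43486)))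
theorem Q27561 : ∀ i, i < 27561 → P i := stepQ 27560 Q27560 (allL N27560 (tt N27765 (iv F201392)) (tt N27744 (iv F201258)) (tt N27939 (iv F202267)) (tt N26955 F200357) (tt N27820 (iv F201741)) (tt N26953 (iv D43487)) (tt N27819 F201736) (tt N27978 D43905) (tt N27560 F200358) (tt N27979 D43906))
theorem Q27562 : ∀ i, i < 27562 → P i := stepQ 27561 Q27561 (allL N27561 (tt N27766 (iv F201398)) (tt N27723 (iv F201107)) (tt N27976 (iv F202392)) (tt N26956 F200359) (tt N27047 F200360) (tt N27978 (iv F202399)) (tt N27709 (iv F201012)) (tt N26953 (iv D43488)) (tt N26960 F200361) (tt N27980 D43907))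
theorem Q27563 : ∀ i, i < 27563 → P i := stepQ 27562 Q27562 (allL N27562 (tt N27767 (iv F201404)) (tt N27747 (iv F201276)) (tt N27977 (iv F202395)) (tt N26957 F200362) (tt N27048 F200363) (tt N27979 (iv F202402)) (tt N26954 F200364) (tt N27980 (iv F202405)) (tt N27936 (iv F202260)) (tt N26953 (iv D43489)))
theorem Q27564 : ∀ i, i < 27564 → P i := stepQ 27563 Q27563 (allL N27563 (tt N27768 (iv F201409)) (tt N27720 (iv F201086)) (tt N27690 (iv F200881)) (tt N27978 (iv F202398)) (tt N26977 F200365) (tt N26956 F200366) (tt N27687 (iv F200865)) (tt N26955 (iv D43490)) (tt N27563 F200367) (tt N27981 D43908))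
theorem Q27565 : ∀ i, i < 27565 → P i := stepQ 27564 Q27564 (allL N27564 (tt N27769 (iv F201416)) (tt N27745 (iv F201265)) (tt N27975 (iv F202388)) (tt N27979 (iv F202401)) (tt N26978 F200368) (tt N26957 F200369) (tt N27846 (iv F201898)) (tt N27981 (iv F202408)) (tt N27982 D43909) (tt N26955 (iv D43491)))
theorem Q27566 : ∀ i, i < 27566 → P i := stepQ 27565 Q27565 (allL N27565 (tt N27770 (iv F201421)) (tt N27724 (iv F201114)) (tt N27718 (iv F201072)) (tt N27980 (iv F202403)) (tt N26958 F200370) (tt N27981 (iv F202407)) (tt N27712 (iv F201031)) (tt N26957 F200371) (tt N27761 (iv F201373)) (tt N26956 (iv D43492)))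
theorem Q27567 : ∀ i, i < 27567 → P i := stepQ 27566 Q27566 (allL N27566 (tt N27771 (iv F201428)) (tt N27661 (iv F200683)) (tt N26960 F200372) (tt N27678 (iv F200798)) (tt N27055 F200373) (tt N27566 F200374) (tt N27660 F200680) (tt N26959 (iv D43493)) (tt N27976 (iv F202394)) (tt N27762 (iv F201381)))
theorem Q27568 : ∀ i, i < 27568 → P i := stepQ 27567 Q27567 (allL N27567 (tt N27779 (iv F201487)) (tt N27685 (iv F200847)) (tt N26997 F200375) (tt N27071 F200376) (tt N27076 F200377) (tt N27966 (iv F202360)) (tt N27014 F200378) (tt N26963 (iv D43494)) (tt N27006 F200379) (tt N27983 D43910))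
theorem Q27569 : ∀ i, i < 27569 → P i := stepQ 27568 Q27568 (allL N27568 (tt N27780 (iv F201494)) (tt N27686 (iv F200854)) (tt N26998 F200380) (tt N27068 F200381) (tt N27077 F200382) (tt N27967 (iv F202364)) (tt N26964 F200383) (tt N27983 (iv F202415)) (tt N27064 F200384) (tt N26963 (iv D43495)))
theorem Q27570 : ∀ i, i < 27570 → P i := stepQ 27569 Q27569 (allL N27569 (tt N27781 (iv F201500)) (tt N27649 (iv F200605)) (tt N27701 (iv F200956)) (tt N26967 F200385) (tt N27921 (iv F202202)) (tt N26965 (iv D43496)) (tt N26982 F200386) (tt N27984 D43911) (tt N27569 F200387) (tt N27985 D43912))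
theorem Q27571 : ∀ i, i < 27571 → P i := stepQ 27570 Q27570 (allL N27570 (tt N27782 (iv F201505)) (tt N27682 (iv F200827)) (tt N27702 (iv F200963)) (tt N26968 F200388) (tt N27708 (iv F201004)) (tt N27984 (iv F202418)) (tt N27020 F200389) (tt N26965 (iv D43497)) (tt N26973 F200390) (tt N27986 D43913))
theorem Q27572 : ∀ i, i < 27572 → P i := stepQ 27571 Q27571 (allL N27571 (tt N27783 (iv F201512)) (tt N27683 (iv F200834)) (tt N27703 (iv F200970)) (tt N26969 F200391) (tt N27700 (iv F200951)) (tt N27985 (iv F202421)) (tt N26966 F200392) (tt N27986 (iv F202425)) (tt N27698 (iv F200940)) (tt N26965 (iv D43498)))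
theorem Q27573 : ∀ i, i < 27573 → P i := stepQ 27572 Q27572 (allL N27572 (tt N27784 (iv F201518)) (tt N27809 (iv F201672)) (tt N26977 F200393) (tt N27984 (iv F202417)) (tt N27690 (iv F200883)) (tt N26968 F200394) (tt N27673 (iv F200765)) (tt N26967 (iv D43499)) (tt N27572 F200395) (tt N27987 D43914))
theorem Q27574 : ∀ i, i < 27574 → P i := stepQ 27573 Q27573 (allL N27573 (tt N27785 (iv F201525)) (tt N27864 (iv F201982)) (tt N26978 F200396) (tt N27985 (iv F202420)) (tt N27975 (iv F202389)) (tt N26969 F200397) (tt N27956 (iv F202320)) (tt N27987 (iv F202428)) (tt N27988 D43915) (tt N26967 (iv D43500)))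
theorem Q27575 : ∀ i, i < 27575 → P i := stepQ 27574 Q27574 (allL N27574 (tt N27786 (iv F201528)) (tt N27840 (iv F201867)) (tt N26979 F200398) (tt N27986 (iv F202423)) (tt N26971 F200399) (tt N27987 (iv F202427)) (tt N27022 F200400) (tt N26969 F200401) (tt N27793 (iv F201568)) (tt N26968 (iv D43501)))
theorem Q27576 : ∀ i, i < 27576 → P i := stepQ 27575 Q27575 (allL N27575 (tt N27787 (iv F201535)) (tt N27018 F200402) (tt N26980 F200403) (tt N27698 (iv F200937)) (tt N26972 F200404) (tt N27989 D43916) (tt N26970 F200405) (tt N27793 (iv F201567)) (tt N26969 (iv D43502)) (tt N26974 F200406))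
theorem Q27577 : ∀ i, i < 27577 → P i := stepQ 27576 Q27576 (allL N27576 (tt N27788 (iv F201543)) (tt N27016 F200407) (tt N26982 F200408) (tt N27696 (iv F200923)) (tt N27735 (iv F201196)) (tt N26974 (iv D43503)) (tt N27701 (iv F200959)) (tt N27794 (iv F201574)) (tt N27576 F200409) (tt N27989 (iv F202433)))
theorem Q27578 : ∀ i, i < 27578 → P i := stepQ 27577 Q27577 (allL N27577 (tt N27789 (iv F201551)) (tt N27033 F200410) (tt N27705 (iv F200983)) (tt N26978 F200411) (tt N27826 (iv F201780)) (tt N26976 F200412) (tt N27958 (iv F202329)) (tt N27903 (iv F202144)) (tt N27990 D43917) (tt N26975 (iv D43504)))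
theorem Q27579 : ∀ i, i < 27579 → P i := stepQ 27578 Q27578 (allL N27578 (tt N27776 (iv F201464)) (tt N27721 (iv F201093)) (tt N27673 (iv F200762)) (tt N27902 (iv F202138)) (tt N27687 (iv F200863)) (tt N27023 F200413) (tt N26977 (iv D43505)) (tt N27657 (iv F200658)) (tt N27578 F200414) (tt N27991 D43918))
theorem Q27580 : ∀ i, i < 27580 → P i := stepQ 27579 Q27579 (allL N27579 (tt N27790 (iv F201556)) (tt N27722 (iv F201101)) (tt N27987 (iv F202426)) (tt N27903 (iv F202142)) (tt N27981 (iv F202406)) (tt N26979 F200415) (tt N27991 (iv F202438)) (tt N26978 F200416) (tt N27992 D43919) (tt N26977 (iv D43506)))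
theorem Q27581 : ∀ i, i < 27581 → P i := stepQ 27580 Q27580 (allL N27580 (tt N27791 (iv F201559)) (tt N27746 (iv F201270)) (tt N27988 (iv F202429)) (tt N27990 (iv F202435)) (tt N27982 (iv F202409)) (tt N27993 D43920) (tt N27961 (iv F202341)) (tt N27992 (iv F202439)) (tt N26978 (iv D43507)) (tt N27580 F200417))
theorem Q27582 : ∀ i, i < 27582 → P i := stepQ 27581 Q27581 (allL N27581 (tt N27792 (iv F201561)) (tt N27650 (iv F200611)) (tt N27989 (iv F202432)) (tt N27956 (iv F202317)) (tt N27994 D43921) (tt N26980 (iv D43508)) (tt N27985 (iv F202422)) (tt N27870 (iv F202008)) (tt N27993 (iv F202441)) (tt N26982 F200418))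
theorem Q27583 : ∀ i, i < 27583 → P i := stepQ 27582 Q27582 (allL N27582 (tt N27793 (iv F201563)) (tt N27652 (iv F200623)) (tt N27736 (iv F201202)) (tt N27948 (iv F202293)) (tt N26981 (iv D43509)) (tt N27994 (iv F202443)) (tt N27734 (iv F201189)) (tt N27787 (iv F201541)) (tt N27786 (iv F201534)) (tt N26983 F200419))
theorem Q27584 : ∀ i, i < 27584 → P i := stepQ 27583 Q27583 (allL N27583 (tt N27794 (iv F201570)) (tt N27648 (iv F200599)) (tt N27735 (iv F201194)) (tt N27946 (iv F202286)) (tt N26982 (iv D43510)) (tt N26983 F200420) (tt N27921 (iv F202203)) (tt N27788 (iv F201549)) (tt N27583 F200421) (tt N27994 (iv F202444)))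
theorem Q27585 : ∀ i, i < 27585 → P i := stepQ 27584 Q27584 (allL N27584 (tt N27723 (iv F201106)) (tt N27063 F200422) (tt N27682 (iv F200828)) (tt N26986 F200423) (tt N26991 F200424) (tt N27851 (iv F201919)) (tt N27025 F200425) (tt N26984 (iv D43511)) (tt N26989 F200426) (tt N27995 D43922))
theorem Q27586 : ∀ i, i < 27586 → P i := stepQ 27585 Q27585 (allL N27585 (tt N27747 (iv F201275)) (tt N27064 F200427) (tt N27683 (iv F200835)) (tt N26987 F200428) (tt N26992 F200429) (tt N27852 (iv F201923)) (tt N26985 F200430) (tt N27995 (iv F202449)) (tt N27686 (iv F200859)) (tt N26984 (iv D43512)))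
theorem Q27587 : ∀ i, i < 27587 → P i := stepQ 27586 Q27586 (allL N27586 (tt N27724 (iv F201113)) (tt N27067 F200431) (tt N27693 (iv F200899)) (tt N27995 (iv F202446)) (tt N26988 F200432) (tt N27900 (iv F202132)) (tt N27027 F200433) (tt N26987 F200434) (tt N27689 (iv F200878)) (tt N26986 (iv D43513)))
theorem Q27588 : ∀ i, i < 27588 → P i := stepQ 27587 Q27587 (allL N27587 (tt N27727 (iv F201135)) (tt N27082 F200435) (tt N27889 (iv F202090)) (tt N26994 F200436) (tt N27995 (iv F202447)) (tt N27656 (iv F200651)) (tt N27959 (iv F202333)) (tt N26992 F200437) (tt N27930 (iv F202232)) (tt N26991 (iv D43514)))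
theorem Q27589 : ∀ i, i < 27589 → P i := stepQ 27588 Q27588 (allL N27588 (tt N27804 (iv F201645)) (tt N27817 (iv F201717)) (tt N27964 (iv F202351)) (tt N27681 (iv F200821)) (tt N26996 (iv D43515)) (tt N27078 F200438) (tt N27032 F200439) (tt N27963 (iv F202349)) (tt N27588 F200440) (tt N27996 D43923))
theorem Q27590 : ∀ i, i < 27590 → P i := stepQ 27589 Q27589 (allL N27589 (tt N27805 (iv F201651)) (tt N27957 (iv F202322)) (tt N27966 (iv F202358)) (tt N27000 F200441) (tt N27963 (iv F202347)) (tt N26997 F200442) (tt N27907 (iv F202157)) (tt N26996 (iv D43516)) (tt N27589 F200443) (tt N27997 D43924))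
theorem Q27591 : ∀ i, i < 27591 → P i := stepQ 27590 Q27590 (allL N27590 (tt N27806 (iv F201655)) (tt N27958 (iv F202326)) (tt N27967 (iv F202362)) (tt N27001 F200444) (tt N27996 (iv F202450)) (tt N26998 F200445) (tt N27033 F200446) (tt N27997 (iv F202455)) (tt N27998 D43925) (tt N26996 (iv D43517)))
theorem Q27592 : ∀ i, i < 27592 → P i := stepQ 27591 Q27591 (allL N27591 (tt N27807 (iv F201659)) (tt N27959 (iv F202330)) (tt N27983 (iv F202411)) (tt N27002 F200447) (tt N27080 F200448) (tt N27997 (iv F202454)) (tt N27082 F200449) (tt N26998 F200450) (tt N27999 D43926) (tt N26997 (iv D43518)))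
theorem Q27593 : ∀ i, i < 27593 → P i := stepQ 27592 Q27592 (allL N27592 (tt N27808 (iv F201664)) (tt N27703 (iv F200969)) (tt N27064 F200451) (tt N27003 F200452) (tt N27015 F200453) (tt N28000 D43927) (tt N26999 F200454) (tt N27999 (iv F202463)) (tt N26998 (iv D43519)) (tt N27008 F200455))
theorem Q27594 : ∀ i, i < 27594 → P i := stepQ 27593 Q27593 (allL N27593 (tt N27809 (iv F201671)) (tt N27657 (iv F200654)) (tt N27795 (iv F201578)) (tt N27907 (iv F202155)) (tt N27072 F200456) (tt N27073 F200457) (tt N27000 (iv D43520)) (tt N27721 (iv F201098)) (tt N27593 F200458) (tt N28001 D43928))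
theorem Q27595 : ∀ i, i < 27595 → P i := stepQ 27594 Q27594 (allL N27594 (tt N27810 (iv F201678)) (tt N27960 (iv F202335)) (tt N27837 (iv F201853)) (tt N27997 (iv F202453)) (tt N27845 (iv F201889)) (tt N27002 F200459) (tt N28001 (iv F202471)) (tt N27001 F200460) (tt N28002 D43929) (tt N27000 (iv D43521)))
theorem Q27596 : ∀ i, i < 27596 → P i := stepQ 27595 Q27595 (allL N27595 (tt N27811 (iv F201682)) (tt N27961 (iv F202340)) (tt N27869 (iv F202002)) (tt N27998 (iv F202456)) (tt N27890 (iv F202095)) (tt N28003 D43930) (tt N27746 (iv F201273)) (tt N28002 (iv F202472)) (tt N27001 (iv D43522)) (tt N27595 F200461))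
theorem Q27597 : ∀ i, i < 27597 → P i := stepQ 27596 Q27596 (allL N27596 (tt N27812 (iv F201685)) (tt N27706 (iv F200987)) (tt N27815 (iv F201703)) (tt N27999 (iv F202460)) (tt N27005 F200462) (tt N28004 D43931) (tt N27830 (iv F201806)) (tt N27003 F200463) (tt N27002 (iv D43523)) (tt N27009 F200464))
theorem Q27598 : ∀ i, i < 27598 → P i := stepQ 27597 Q27597 (allL N27597 (tt N27813 (iv F201692)) (tt N27705 (iv F200982)) (tt N27962 (iv F202344)) (tt N28000 (iv F202466)) (tt N27892 (iv F202104)) (tt N27003 (iv D43524)) (tt N28005 D43932) (tt N28004 (iv F202476)) (tt N28003 (iv F202474)) (tt N27010 F200465))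
theorem Q27599 : ∀ i, i < 27599 → P i := stepQ 27598 Q27598 (allL N27598 (tt N27814 (iv F201694)) (tt N27698 (iv F200935)) (tt N27686 (iv F200855)) (tt N27018 F200466) (tt N27021 F200467) (tt N28005 (iv F202479)) (tt N27004 (iv D43525)) (tt N28006 D43933) (tt N27683 (iv F200839)) (tt N27011 F200468))
theorem Q27600 : ∀ i, i < 27600 → P i := stepQ 27599 Q27599 (allL N27599 (tt N27816 (iv F201709)) (tt N27702 (iv F200962)) (tt N27063 F200469) (tt N27009 F200470) (tt N27014 F200471) (tt N28007 D43934) (tt N27076 F200472) (tt N27008 F200473) (tt N27007 (iv D43526)) (tt N27999 (iv F202464)))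
theorem Q27601 : ∀ i, i < 27601 → P i := stepQ 27600 Q27600 (allL N27600 (tt N27817 (iv F201716)) (tt N27701 (iv F200955)) (tt N27062 F200474) (tt N27010 F200475) (tt N27772 (iv F201440)) (tt N27008 (iv D43527)) (tt N27016 F200476) (tt N28007 (iv F202486)) (tt N27600 F200477) (tt N28000 (iv F202468)))
theorem Q27602 : ∀ i, i < 27602 → P i := stepQ 27601 Q27601 (allL N27601 (tt N27818 (iv F201723)) (tt N27704 (iv F200976)) (tt N27819 (iv F201731)) (tt N28007 (iv F202485)) (tt N27803 (iv F201641)) (tt N27009 (iv D43528)) (tt N27939 (iv F202269)) (tt N27010 F200478) (tt N27601 F200479) (tt N28004 (iv F202477)))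
theorem Q27603 : ∀ i, i < 27603 → P i := stepQ 27602 Q27602 (allL N27602 (tt N27820 (iv F201737)) (tt N27696 (iv F200921)) (tt N27684 (iv F200842)) (tt N27016 F200480) (tt N27765 (iv F201395)) (tt N27011 F200481) (tt N27010 (iv D43529)) (tt N28008 D43935) (tt N27602 F200482) (tt N28005 (iv F202480)))
theorem Q27604 : ∀ i, i < 27604 → P i := stepQ 27603 Q27603 (allL N27603 (tt N27821 (iv F201744)) (tt N27697 (iv F200928)) (tt N27685 (iv F200848)) (tt N27017 F200483) (tt N27020 F200484) (tt N28008 (iv F202489)) (tt N27708 (iv F201005)) (tt N27011 (iv D43530)) (tt N27012 F200485) (tt N28006 (iv F202483)))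
theorem Q27605 : ∀ i, i < 27605 → P i := stepQ 27604 Q27604 (allL N27604 (tt N27824 (iv F201764)) (tt N27711 (iv F201022)) (tt N27082 F200486) (tt N27081 F200487) (tt N27999 (iv F202461)) (tt N27897 (iv F202123)) (tt N27983 (iv F202414)) (tt N27015 F200488) (tt N27080 F200489) (tt N27014 (iv D43531)))
theorem Q27606 : ∀ i, i < 27606 → P i := stepQ 27605 Q27605 (allL N27605 (tt N27825 (iv F201771)) (tt N27794 (iv F201571)) (tt N27083 F200490) (tt N28008 (iv F202488)) (tt N27742 (iv F201248)) (tt N27017 F200491) (tt N28009 D43936) (tt N27016 (iv D43532)) (tt N27605 F200492) (tt N28010 D43937))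
theorem Q27607 : ∀ i, i < 27607 → P i := stepQ 27606 Q27606 (allL N27606 (tt N27826 (iv F201777)) (tt N27989 (iv F202431)) (tt N27084 F200493) (tt N28005 (iv F202478)) (tt N27789 (iv F201554)) (tt N27018 F200494) (tt N28000 (iv F202467)) (tt N28010 (iv F202495)) (tt N28011 D43938) (tt N27016 (iv D43533)))
theorem Q27608 : ∀ i, i < 27608 → P i := stepQ 27607 Q27607 (allL N27607 (tt N27827 (iv F201782)) (tt N27793 (iv F201564)) (tt N27085 F200495) (tt N28006 (iv F202481)) (tt N27019 F200496) (tt N28010 (iv F202494)) (tt N27714 (iv F201044)) (tt N27018 F200497) (tt N27840 (iv F201872)) (tt N27017 (iv D43534)))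
theorem Q27609 : ∀ i, i < 27609 → P i := stepQ 27608 Q27608 (allL N27608 (tt N27829 (iv F201797)) (tt N27699 (iv F200942)) (tt N27930 (iv F202229)) (tt N27022 F200498) (tt N28006 (iv F202482)) (tt N27880 (iv F202054)) (tt N27986 (iv F202424)) (tt N27021 F200499) (tt N27889 (iv F202093)) (tt N27020 (iv D43535)))
theorem Q27610 : ∀ i, i < 27610 → P i := stepQ 27609 Q27609 (allL N27609 (tt N27777 (iv F201471)) (tt N27828 (iv F201790)) (tt N27675 (iv F200774)) (tt N27933 (iv F202243)) (tt N27036 F200500) (tt N27991 (iv F202437)) (tt N27024 F200501) (tt N27658 (iv F200665)) (tt N27035 F200502) (tt N27023 (iv D43536)))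
theorem Q27611 : ∀ i, i < 27611 → P i := stepQ 27610 Q27610 (allL N27610 (tt N27897 (iv F202120)) (tt N27080 F200503) (tt N27699 (iv F200943)) (tt N27027 F200504) (tt N27959 (iv F202332)) (tt N27824 (iv F201768)) (tt N27995 (iv F202448)) (tt N27026 F200505) (tt N27711 (iv F201025)) (tt N27025 (iv D43537)))
theorem Q27612 : ∀ i, i < 27612 → P i := stepQ 27611 Q27611 (allL N27611 (tt N27722 (iv F201100)) (tt N27956 (iv F202315)) (tt N27831 (iv F201813)) (tt N27650 (iv F200613)) (tt N27900 (iv F202131)) (tt N27029 F200506) (tt N27864 (iv F201985)) (tt N27719 (iv F201084)) (tt N28012 D43939) (tt N27028 (iv D43538)))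
theorem Q27613 : ∀ i, i < 27613 → P i := stepQ 27612 Q27612 (allL N27612 (tt N27738 (iv F201216)) (tt N27719 (iv F201078)) (tt N27960 (iv F202336)) (tt N27870 (iv F202006)) (tt N27066 F200507) (tt N27031 F200508) (tt N27674 (iv F200771)) (tt N27956 (iv F202321)) (tt N28013 D43940) (tt N27030 (iv D43539)))
theorem Q27614 : ∀ i, i < 27614 → P i := stepQ 27613 Q27613 (allL N27613 (tt N27849 (iv F201908)) (tt N27820 (iv F201738)) (tt N27905 (iv F202148)) (tt N27032 (iv D43540)) (tt N27744 (iv F201260)) (tt N27034 F200509) (tt N27681 (iv F200823)) (tt N27904 (iv F202146)) (tt N27613 F200510) (tt N28014 D43941))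
theorem Q27615 : ∀ i, i < 27615 → P i := stepQ 27614 Q27614 (allL N27614 (tt N27871 (iv F202009)) (tt N27826 (iv F201778)) (tt N27965 (iv F202355)) (tt N28014 (iv F202502)) (tt N27033 F200511) (tt N27035 F200512) (tt N27996 (iv F202452)) (tt N27906 (iv F202154)) (tt N28015 D43942) (tt N27032 (iv D43541)))
theorem Q27616 : ∀ i, i < 27616 → P i := stepQ 27615 Q27615 (allL N27615 (tt N27872 (iv F202012)) (tt N27990 (iv F202434)) (tt N27968 (iv F202366)) (tt N27746 (iv F201272)) (tt N28015 (iv F202504)) (tt N28012 (iv F202498)) (tt N27998 (iv F202457)) (tt N27909 (iv F202161)) (tt N27033 (iv D43542)) (tt N27615 F200513))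
theorem Q27617 : ∀ i, i < 27617 → P i := stepQ 27616 Q27616 (allL N27616 (tt N27873 (iv F202014)) (tt N27934 (iv F202247)) (tt N27034 (iv D43543)) (tt N27969 (iv F202368)) (tt N27038 F200514) (tt N27905 (iv F202150)) (tt N27664 F200710) (tt N27910 (iv F202165)) (tt N27037 F200515) (tt N28016 D43943))
theorem Q27618 : ∀ i, i < 27618 → P i := stepQ 27617 Q27617 (allL N27617 (tt N27874 (iv F202019)) (tt N27814 (iv F201695)) (tt N28016 (iv F202506)) (tt N27035 F200516) (tt N27039 F200517) (tt N28014 (iv F202503)) (tt N27677 F200794) (tt N27911 (iv F202169)) (tt N27933 (iv F202246)) (tt N27034 (iv D43544)))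
theorem Q27619 : ∀ i, i < 27619 → P i := stepQ 27618 Q27618 (allL N27618 (tt N27858 (iv F201950)) (tt N27038 (iv D43545)) (tt N27058 F200518) (tt N27044 F200519) (tt N27934 (iv F202249)) (tt N27043 F200520) (tt N27056 F200521) (tt N27912 (iv F202173)) (tt N27041 F200522) (tt N28017 D43944))
theorem Q27620 : ∀ i, i < 27620 → P i := stepQ 27619 Q27619 (allL N27619 (tt N27875 (iv F202024)) (tt N28017 (iv F202508)) (tt N27039 F200523) (tt N27046 F200524) (tt N28016 (iv F202507)) (tt N27748 (iv F201287)) (tt N27750 (iv F201302)) (tt N27914 (iv F202180)) (tt N28018 D43945) (tt N27038 (iv D43546)))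
theorem Q27621 : ∀ i, i < 27621 → P i := stepQ 27620 Q27620 (allL N27620 (tt N27876 (iv F202029)) (tt N27748 (iv F201283)) (tt N28018 (iv F202515)) (tt N27040 F200525) (tt N27933 (iv F202244)) (tt N28017 (iv F202511)) (tt N27052 F200526) (tt N27917 (iv F202186)) (tt N27039 (iv D43547)) (tt N27043 F200527))
theorem Q27622 : ∀ i, i < 27622 → P i := stepQ 27621 Q27621 (allL N27621 (tt N27877 (iv F202034)) (tt N27046 F200528) (tt N27052 F200529) (tt N28017 (iv F202510)) (tt N27932 (iv F202239)) (tt N27040 (iv D43548)) (tt N28018 (iv F202518)) (tt N27919 (iv F202194)) (tt N27750 (iv F201303)) (tt N27044 F200530))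
theorem Q27623 : ∀ i, i < 27623 → P i := stepQ 27622 Q27622 (allL N27622 (tt N27856 (iv F201939)) (tt N27045 F200531) (tt N27043 F200532) (tt N27056 F200533) (tt N27931 (iv F202235)) (tt N27058 F200534) (tt N27044 F200535) (tt N27920 (iv F202200)) (tt N27042 (iv D43549)) (tt N28018 (iv F202519)))
theorem Q27624 : ∀ i, i < 27624 → P i := stepQ 27623 Q27623 (allL N27623 (tt N27878 (iv F202039)) (tt N27920 (iv F202196)) (tt N27047 F200536) (tt N27732 (iv F201172)) (tt N27976 (iv F202393)) (tt N27731 (iv F201166)) (tt N27922 (iv F202206)) (tt N27045 (iv D43550)) (tt N27055 F200537) (tt N28019 D43946))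
theorem Q27625 : ∀ i, i < 27625 → P i := stepQ 27624 Q27624 (allL N27624 (tt N27879 (iv F202045)) (tt N28018 (iv F202514)) (tt N27048 F200538) (tt N27750 (iv F201301)) (tt N27977 (iv F202396)) (tt N27749 F201297) (tt N27046 F200539) (tt N28019 (iv F202521)) (tt N28017 (iv F202513)) (tt N27045 (iv D43551)))
theorem Q27626 : ∀ i, i < 27626 → P i := stepQ 27625 Q27625 (allL N27625 (tt N27859 (iv F201956)) (tt N27750 (iv F201299)) (tt N27049 F200540) (tt N28018 (iv F202516)) (tt N27935 (iv F202252)) (tt N27051 F200541) (tt N28017 (iv F202512)) (tt N27924 (iv F202213)) (tt N27046 (iv D43552)) (tt N27056 F200542))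
theorem Q27627 : ∀ i, i < 27627 → P i := stepQ 27626 Q27626 (allL N27626 (tt N27880 (iv F202051)) (tt N27727 (iv F201136)) (tt N28019 (iv F202520)) (tt N27050 F200543) (tt N27980 (iv F202404)) (tt N27829 (iv F201800)) (tt N27927 (iv F202221)) (tt N27048 F200544) (tt N28020 D43947) (tt N27047 (iv D43553)))
theorem Q27628 : ∀ i, i < 27628 → P i := stepQ 27627 Q27627 (allL N27627 (tt N27881 (iv F202056)) (tt N27749 (iv F201291)) (tt N28017 (iv F202509)) (tt N27051 F200545) (tt N27936 (iv F202258)) (tt N28018 (iv F202517)) (tt N27049 F200546) (tt N28020 (iv F202523)) (tt N27048 (iv D43554)) (tt N27058 F200547))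
theorem Q27629 : ∀ i, i < 27629 → P i := stepQ 27628 Q27628 (allL N27628 (tt N27823 (iv F201757)) (tt N27730 (iv F201155)) (tt N27778 (iv F201480)) (tt N28020 (iv F202522)) (tt N27053 F200548) (tt N27924 (iv F202212)) (tt N27755 (iv F201333)) (tt N27051 F200549) (tt N27050 (iv D43555)) (tt N27059 F200550))
theorem Q27630 : ∀ i, i < 27630 → P i := stepQ 27629 Q27629 (allL N27629 (tt N27822 (iv F201751)) (tt N27731 (iv F201162)) (tt N27912 (iv F202170)) (tt N27059 F200551) (tt N27758 (iv F201352)) (tt N27920 (iv F202199)) (tt N27754 (iv F201326)) (tt N27058 F200552) (tt N27057 (iv D43556)) (tt N28020 (iv F202524)))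
theorem Q27631 : ∀ i, i < 27631 → P i := stepQ 27630 Q27630 (allL N27630 (tt N27882 (iv F202061)) (tt N27845 (iv F201886)) (tt N27066 F200553) (tt N27962 (iv F202345)) (tt N27960 (iv F202337)) (tt N27061 F200554) (tt N27688 (iv F200871)) (tt N27846 (iv F201899)) (tt N28021 D43948) (tt N27060 (iv D43557)))
theorem Q27632 : ∀ i, i < 27632 → P i := stepQ 27631 Q27631 (allL N27631 (tt N27883 (iv F202067)) (tt N27851 (iv F201917)) (tt N28007 (iv F202484)) (tt N27065 F200555) (tt N27946 (iv F202287)) (tt N27063 F200556) (tt N27973 (iv F202383)) (tt N27062 (iv D43558)) (tt N27631 F200557) (tt N28022 D43949))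
theorem Q27633 : ∀ i, i < 27633 → P i := stepQ 27632 Q27632 (allL N27632 (tt N27884 (iv F202071)) (tt N27852 (iv F201921)) (tt N28000 (iv F202465)) (tt N27066 F200558) (tt N27947 (iv F202290)) (tt N27064 F200559) (tt N27084 F200560) (tt N28022 (iv F202529)) (tt N28023 D43950) (tt N27062 (iv D43559)))
theorem Q27634 : ∀ i, i < 27634 → P i := stepQ 27633 Q27633 (allL N27633 (tt N27885 (iv F202075)) (tt N27995 (iv F202445)) (tt N27999 (iv F202459)) (tt N27067 F200561) (tt N27082 F200562) (tt N28022 (iv F202528)) (tt N27080 F200563) (tt N27064 F200564) (tt N27983 (iv F202416)) (tt N27063 (iv D43560)))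
theorem Q27635 : ∀ i, i < 27635 → P i := stepQ 27634 Q27634 (allL N27634 (tt N27886 (iv F202080)) (tt N27900 (iv F202130)) (tt N27846 (iv F201895)) (tt N28022 (iv F202527)) (tt N27956 (iv F202318)) (tt N27067 F200565) (tt N27975 (iv F202391)) (tt N27066 F200566) (tt N28024 D43951) (tt N27065 (iv D43561)))
theorem Q27636 : ∀ i, i < 27636 → P i := stepQ 27635 Q27635 (allL N27635 (tt N27887 (iv F202084)) (tt N27901 (iv F202134)) (tt N28021 (iv F202525)) (tt N28023 (iv F202530)) (tt N28013 (iv F202500)) (tt N28025 D43952) (tt N27692 (iv F200895)) (tt N28024 (iv F202533)) (tt N27066 (iv D43562)) (tt N27635 F200567))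
theorem Q27637 : ∀ i, i < 27637 → P i := stepQ 27636 Q27636 (allL N27636 (tt N27865 (iv F201986)) (tt N27689 (iv F200873)) (tt N27833 (iv F201828)) (tt N27983 (iv F202412)) (tt N27069 F200568) (tt N28026 D43953) (tt N27081 F200569) (tt N27068 F200570) (tt N27067 (iv D43563)) (tt N27071 F200571))
theorem Q27638 : ∀ i, i < 27638 → P i := stepQ 27637 Q27637 (allL N27637 (tt N27888 (iv F202087)) (tt N27688 (iv F200868)) (tt N27847 (iv F201901)) (tt N27967 (iv F202363)) (tt N28001 (iv F202469)) (tt N27068 (iv D43564)) (tt N27845 (iv F201891)) (tt N28026 (iv F202537)) (tt N28025 (iv F202535)) (tt N27072 F200572))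
theorem Q27639 : ∀ i, i < 27639 → P i := stepQ 27638 Q27638 (allL N27638 (tt N27840 (iv F201866)) (tt N27658 (iv F200661)) (tt N27796 (iv F201586)) (tt N27938 (iv F202264)) (tt N27070 (iv D43565)) (tt N28001 (iv F202470)) (tt N27074 F200573) (tt N27828 (iv F201795)) (tt N27827 (iv F201788)) (tt N27073 F200574))
theorem Q27640 : ∀ i, i < 27640 → P i := stepQ 27639 Q27639 (allL N27639 (tt N27863 (iv F201975)) (tt N27687 (iv F200861)) (tt N27832 (iv F201820)) (tt N27966 (iv F202359)) (tt N27721 (iv F201096)) (tt N27071 (iv D43566)) (tt N27720 F201091) (tt N27072 F200575) (tt N27639 F200576) (tt N28026 (iv F202538)))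
theorem Q27641 : ∀ i, i < 27641 → P i := stepQ 27640 Q27640 (allL N27640 (tt N27854 (iv F201929)) (tt N27763 (iv F201383)) (tt N27078 F200577) (tt N27910 (iv F202163)) (tt N27075 (iv D43567)) (tt N27964 (iv F202353)) (tt N27680 (iv F200816)) (tt N27969 (iv F202370)) (tt N27086 F200578) (tt N28027 D43954))
theorem Q27642 : ∀ i, i < 27642 → P i := stepQ 27641 Q27641 (allL N27641 (tt N27857 (iv F201945)) (tt N27879 (iv F202046)) (tt N27079 F200579) (tt N27836 (iv F201847)) (tt N28027 (iv F202540)) (tt N27077 F200580) (tt N27713 (iv F201038)) (tt N27972 (iv F202381)) (tt N27861 (iv F201969)) (tt N27075 (iv D43568)))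
theorem Q27643 : ∀ i, i < 27643 → P i := stepQ 27642 Q27642 (allL N27642 (tt N27891 (iv F202097)) (tt N27930 (iv F202228)) (tt N27080 F200581) (tt N27830 F201810) (tt N27983 (iv F202413)) (tt N27972 (iv F202380)) (tt N27999 (iv F202462)) (tt N27077 F200582) (tt N27082 F200583) (tt N27076 (iv D43569)))
theorem Q27644 : ∀ i, i < 27644 → P i := stepQ 27643 Q27643 (allL N27643 (tt N27855 (iv F201933)) (tt N27808 (iv F201665)) (tt N28027 (iv F202539)) (tt N27676 (iv F200782)) (tt N27079 F200584) (tt N27996 (iv F202451)) (tt N27672 (iv F200757)) (tt N27970 (iv F202374)) (tt N27671 (iv F200751)) (tt N27078 (iv D43570)))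
theorem Q27645 : ∀ i, i < 27645 → P i := stepQ 27644 Q27644 (allL N27644 (tt N27893 (iv F202106)) (tt N27752 (iv F201312)) (tt N28009 (iv F202491)) (tt N27690 (iv F200882)) (tt N27953 (iv F202308)) (tt N27715 (iv F201051)) (tt N27083 (iv D43571)) (tt N27973 (iv F202384)) (tt N27644 F200585) (tt N28028 D43955))
theorem Q27646 : ∀ i, i < 27646 → P i := stepQ 27645 Q27645 (allL N27645 (tt N27894 (iv F202111)) (tt N27753 (iv F201318)) (tt N28010 (iv F202493)) (tt N27691 (iv F200889)) (tt N27954 (iv F202310)) (tt N27085 F200586) (tt N28028 (iv F202541)) (tt N27084 F200587) (tt N28029 D43956) (tt N27083 (iv D43572)))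
theorem Q27647 : ∀ i, i < 27647 → P i := stepQ 27646 Q27646 (allL N27646 (tt N27895 (iv F202115)) (tt N27853 (iv F201925)) (tt N28011 (iv F202496)) (tt N27692 (iv F200894)) (tt N27955 (iv F202313)) (tt N27867 (iv F201997)) (tt N28023 (iv F202531)) (tt N28029 (iv F202542)) (tt N27084 (iv D43573)) (tt N27646 F200588))
theorem Q27648 : ∀ i, i < 27648 → P i := stepQ 27647 Q27647 (allL N27647 (tt N27449 F200589) (tt N27089 F200590) (tt N27535 F200591) (tt N27372 F200592) (tt N27087 (iv D43574)) (tt N27292 F200593) (tt N27355 F200594) (tt N27439 F200595) (tt N27342 F200596) (tt N27088 F200597))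
theorem Q27649 : ∀ i, i < 27649 → P i := stepQ 27648 Q27648 (allL N27648 (tt N27466 F200598) (tt N27583 F200599) (tt N27375 F200600) (tt N28030 D43957) (tt N27092 (iv D43575)) (tt N27094 F200601) (tt N28031 D43958) (tt N27406 F200602) (tt N27648 F200603) (tt N28032 D43959))
theorem Q27650 : ∀ i, i < 27650 → P i := stepQ 27649 Q27649 (allL N27649 (tt N27467 F200604) (tt N27569 F200605) (tt N27376 F200606) (tt N27393 F200607) (tt N28031 (iv F202553)) (tt N27126 F200608) (tt N27092 (iv D43576)) (tt N28033 D43960) (tt N27649 F200609) (tt N28034 D43961))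
theorem Q27651 : ∀ i, i < 27651 → P i := stepQ 27650 Q27650 (allL N27650 (tt N27468 F200610) (tt N27581 F200611) (tt N27377 F200612) (tt N27611 F200613) (tt N28032 (iv F202559)) (tt N27093 F200614) (tt N28034 (iv F202574)) (tt N27407 F200615) (tt N28035 D43962) (tt N27092 (iv D43577)))
theorem Q27652 : ∀ i, i < 27652 → P i := stepQ 27651 Q27651 (allL N27651 (tt N27469 F200616) (tt N27520 F200617) (tt N28036 D43963) (tt N27094 (iv D43578)) (tt N27097 F200618) (tt N28030 (iv F202547)) (tt N27481 F200619) (tt N27408 F200620) (tt N27096 F200621) (tt N28037 D43964))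
theorem Q27653 : ∀ i, i < 27653 → P i := stepQ 27652 Q27652 (allL N27652 (tt N27470 F200622) (tt N27582 F200623) (tt N27379 F200624) (tt N28037 (iv F202591)) (tt N27095 F200625) (tt N28032 (iv F202560)) (tt N27477 F200626) (tt N27409 F200627) (tt N27476 F200628) (tt N27094 (iv D43579)))
theorem Q27654 : ∀ i, i < 27654 → P i := stepQ 27653 Q27653 (allL N27653 (tt N27471 F200629) (tt N27493 F200630) (tt N27096 (iv D43580)) (tt N27380 F200631) (tt N27102 F200632) (tt N27653 F200633) (tt N27480 F200634) (tt N27410 F200635) (tt N28036 (iv F202588)) (tt N27479 F200636))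
theorem Q27655 : ∀ i, i < 27655 → P i := stepQ 27654 Q27654 (allL N27654 (tt N27472 F200637) (tt N28038 D43965) (tt N27097 (iv D43581)) (tt N27110 F200638) (tt N28036 (iv F202585)) (tt N27436 F200639) (tt N28039 D43966) (tt N27411 F200640) (tt N27102 F200641) (tt N28040 D43967))
theorem Q27656 : ∀ i, i < 27656 → P i := stepQ 27655 Q27655 (allL N27655 (tt N27473 F200642) (tt N27506 F200643) (tt N28039 (iv F202606)) (tt N27098 F200644) (tt N27481 F200645) (tt N28041 D43968) (tt N27097 (iv D43582)) (tt N27498 F200646) (tt N27103 F200647) (tt N28042 D43969))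
theorem Q27657 : ∀ i, i < 27657 → P i := stepQ 27656 Q27656 (allL N27656 (tt N27474 F200648) (tt N27522 F200649) (tt N28040 (iv F202612)) (tt N27099 F200650) (tt N28037 (iv F202592)) (tt N27587 F200651) (tt N28042 (iv F202626)) (tt N27412 F200652) (tt N28043 D43970) (tt N27097 (iv D43583)))
theorem Q27658 : ∀ i, i < 27658 → P i := stepQ 27657 Q27657 (allL N27657 (tt N27475 F200653) (tt N27593 F200654) (tt N27113 F200655) (tt N28041 (iv F202618)) (tt N27130 F200656) (tt N27098 (iv D43584)) (tt N27541 F200657) (tt N27578 F200658) (tt N27657 F200659) (tt N28044 D43971))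
theorem Q27659 : ∀ i, i < 27659 → P i := stepQ 27658 Q27658 (allL N27658 (tt N27476 F200660) (tt N27638 F200661) (tt N27115 F200662) (tt N28042 (iv F202624)) (tt N27100 F200663) (tt N28044 (iv F202640)) (tt N27099 F200664) (tt N27609 F200665) (tt N27470 F200666) (tt N27098 (iv D43585)))
theorem Q27660 : ∀ i, i < 27660 → P i := stepQ 27659 Q27659 (allL N27659 (tt N27477 F200667) (tt N27533 F200668) (tt N27116 F200669) (tt N28043 (iv F202631)) (tt N27101 F200670) (tt N28045 D43972) (tt N27470 F200671) (tt N27413 F200672) (tt N27099 (iv D43586)) (tt N27105 F200673))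
theorem Q27661 : ∀ i, i < 27661 → P i := stepQ 27660 Q27660 (allL N27660 (tt N27391 (iv F200679)) (tt N27102 (iv D43587)) (tt N27174 F200674) (tt N27119 F200675) (tt N27493 F200676) (tt N27106 F200677) (tt N27566 (iv F200680)) (tt N27173 F200678) (tt N28038 (iv F202601)) (tt N27229 (iv F200681)))
theorem Q27662 : ∀ i, i < 27662 → P i := stepQ 27661 Q27661 (allL N27661 (tt N27479 F200682) (tt N27566 F200683) (tt N27103 F200684) (tt N27120 F200685) (tt N27480 F200686) (tt N27661 F200687) (tt N27102 (iv D43588)) (tt N27534 F200688) (tt N28039 (iv F202610)) (tt N27471 (iv F200689)))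
theorem Q27663 : ∀ i, i < 27663 → P i := stepQ 27662 Q27662 (allL N27662 (tt N27480 F200690) (tt N27229 F200691) (tt N27104 F200692) (tt N27121 F200693) (tt N27479 F200694) (tt N27107 F200695) (tt N27471 F200696) (tt N27383 F200697) (tt N28046 D43973) (tt N27102 (iv D43589)))
theorem Q27664 : ∀ i, i < 27664 → P i := stepQ 27663 Q27663 (allL N27663 (tt N27481 F200698) (tt N27530 F200699) (tt N28046 (iv F202653)) (tt N27105 F200700) (tt N27473 F200701) (tt N28047 D43974) (tt N27469 F200702) (tt N27414 F200703) (tt N27104 (iv D43590)) (tt N28043 (iv F202635)))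
theorem Q27665 : ∀ i, i < 27665 → P i := stepQ 27664 Q27664 (allL N27664 (tt N27482 F200704) (tt N27500 F200705) (tt N27125 F200706) (tt N28047 (iv F202662)) (tt N27215 F200707) (tt N27105 (iv D43591)) (tt N27616 (iv F200710)) (tt N27415 F200708) (tt N27109 F200709) (tt N28045 (iv F202649)))
theorem Q27666 : ∀ i, i < 27666 → P i := stepQ 27665 Q27665 (allL N27665 (tt N27478 F200711) (tt N27391 F200712) (tt N27324 F200713) (tt N27109 F200714) (tt N27557 (iv F200718)) (tt N27108 (iv D43592)) (tt N27551 F200717) (tt N27390 F200715) (tt N28047 (iv F202664)) (tt N27424 F200716))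
theorem Q27667 : ∀ i, i < 27667 → P i := stepQ 27666 Q27666 (allL N27666 (tt N27500 F200719) (tt N27110 (iv D43593)) (tt N27165 F200720) (tt N28038 (iv F202597)) (tt N27384 F200721) (tt N27163 F200722) (tt N28048 D43975) (tt N27162 F200723) (tt N27119 F200724) (tt N28049 D43976))
theorem Q27668 : ∀ i, i < 27668 → P i := stepQ 27667 Q27667 (allL N27667 (tt N27483 F200725) (tt N28048 (iv F202668)) (tt N27111 F200726) (tt N28039 (iv F202607)) (tt N27385 F200727) (tt N28050 D43977) (tt N27110 (iv D43594)) (tt N28051 D43978) (tt N27120 F200728) (tt N28052 D43979))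
theorem Q27669 : ∀ i, i < 27669 → P i := stepQ 27668 Q27668 (allL N27668 (tt N27484 F200729) (tt N28049 (iv F202676)) (tt N27112 F200730) (tt N28040 (iv F202613)) (tt N27386 F200731) (tt N27437 F200732) (tt N28052 (iv F202698)) (tt N27417 F200733) (tt N28053 D43980) (tt N27110 (iv D43595)))
theorem Q27670 : ∀ i, i < 27670 → P i := stepQ 27669 Q27669 (allL N27669 (tt N27485 F200734) (tt N27303 F200735) (tt N28050 (iv F202684)) (tt N27113 F200736) (tt N27524 F200737) (tt N27111 (iv D43596)) (tt N27403 F200738) (tt N28054 D43981) (tt N27669 F200739) (tt N28055 D43982))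
theorem Q27671 : ∀ i, i < 27671 → P i := stepQ 27670 Q27670 (allL N27670 (tt N27486 F200740) (tt N27304 F200741) (tt N28051 (iv F202690)) (tt N27114 F200742) (tt N27387 F200743) (tt N28054 (iv F202712)) (tt N27418 F200744) (tt N27111 (iv D43597)) (tt N27122 F200745) (tt N28056 D43983))
theorem Q27672 : ∀ i, i < 27672 → P i := stepQ 27671 Q27671 (allL N27671 (tt N27487 F200746) (tt N27305 F200747) (tt N28052 (iv F202696)) (tt N27115 F200748) (tt N27388 F200749) (tt N28055 (iv F202719)) (tt N27112 F200750) (tt N28056 (iv F202726)) (tt N27643 F200751) (tt N27111 (iv D43598)))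
theorem Q27673 : ∀ i, i < 27673 → P i := stepQ 27672 Q27672 (allL N27672 (tt N27488 F200752) (tt N27306 F200753) (tt N28053 (iv F202702)) (tt N27116 F200754) (tt N27166 F200755) (tt N27325 F200756) (tt N27643 F200757) (tt N27420 F200758) (tt N27112 (iv D43599)) (tt N27123 F200759))
theorem Q27674 : ∀ i, i < 27674 → P i := stepQ 27673 Q27673 (allL N27673 (tt N27489 F200760) (tt N27307 F200761) (tt N27578 F200762) (tt N28054 (iv F202710)) (tt N27135 F200763) (tt N27114 F200764) (tt N27572 F200765) (tt N27113 (iv D43600)) (tt N27673 F200766) (tt N28057 D43984))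
theorem Q27675 : ∀ i, i < 27675 → P i := stepQ 27674 Q27674 (allL N27674 (tt N27490 F200767) (tt N27308 F200768) (tt N28044 (iv F202638)) (tt N28055 (iv F202717)) (tt N27136 F200769) (tt N27115 F200770) (tt N27612 F200771) (tt N28057 (iv F202734)) (tt N28058 D43985) (tt N27113 (iv D43601)))
theorem Q27676 : ∀ i, i < 27676 → P i := stepQ 27675 Q27675 (allL N27675 (tt N27491 F200772) (tt N27309 F200773) (tt N27609 F200774) (tt N28056 (iv F202723)) (tt N27117 F200775) (tt N28057 (iv F202732)) (tt N27421 F200776) (tt N27115 F200777) (tt N27550 F200778) (tt N27114 (iv D43602)))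
theorem Q27677 : ∀ i, i < 27677 → P i := stepQ 27676 Q27676 (allL N27676 (tt N27379 F200779) (tt N27310 F200780) (tt N27470 F200781) (tt N27643 F200782) (tt N27118 F200783) (tt N28059 D43986) (tt N27116 F200784) (tt N27550 F200785) (tt N27115 (iv D43603)) (tt N27124 F200786))
theorem Q27678 : ∀ i, i < 27678 → P i := stepQ 27677 Q27677 (allL N27677 (tt N27492 F200787) (tt N27311 F200788) (tt N28045 (iv F202645)) (tt N27325 F200789) (tt N27218 F200790) (tt N27116 (iv D43604)) (tt N27617 (iv F200794)) (tt N27423 F200791) (tt N27499 F200792) (tt N27125 F200793))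
theorem Q27679 : ∀ i, i < 27679 → P i := stepQ 27678 Q27678 (allL N27678 (tt N27505 F200795) (tt N27120 F200796) (tt N27175 F200797) (tt N27566 F200798) (tt N27390 F200799) (tt N27678 F200800) (tt N27119 (iv D43605)) (tt N27557 F200801) (tt N28048 (iv F202674)) (tt N27239 F200802))
theorem Q27680 : ∀ i, i < 27680 → P i := stepQ 27679 Q27679 (allL N27679 (tt N27493 F200803) (tt N27557 F200804) (tt N27122 F200805) (tt N27534 F200806) (tt N27391 F200807) (tt N27679 F200808) (tt N27424 F200809) (tt N27120 (iv D43606)) (tt N28051 (iv F202694)) (tt N27551 F200810))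
theorem Q27681 : ∀ i, i < 27681 → P i := stepQ 27680 Q27680 (allL N27680 (tt N27494 F200811) (tt N27231 F200812) (tt N27123 F200813) (tt N28046 (iv F202654)) (tt N27162 F200814) (tt N27322 F200815) (tt N27640 F200816) (tt N27384 F200817) (tt N27121 (iv D43607)) (tt N28053 (iv F202707)))
theorem Q27682 : ∀ i, i < 27682 → P i := stepQ 27681 Q27681 (allL N27681 (tt N27375 F200818) (tt N27318 F200819) (tt N27466 F200820) (tt N27588 F200821) (tt N27350 F200822) (tt N27124 (iv D43608)) (tt N27613 F200823) (tt N27546 F200824) (tt N27681 F200825) (tt N28059 (iv F202747)))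
theorem Q27683 : ∀ i, i < 27683 → P i := stepQ 27682 Q27682 (allL N27682 (tt N27506 F200826) (tt N27570 F200827) (tt N27584 F200828) (tt N27359 F200829) (tt N27436 F200830) (tt N28033 (iv F202566)) (tt N27144 F200831) (tt N27126 (iv D43609)) (tt N27176 F200832) (tt N28060 D43987))
theorem Q27684 : ∀ i, i < 27684 → P i := stepQ 27683 Q27683 (allL N27683 (tt N27507 F200833) (tt N27571 F200834) (tt N27585 F200835) (tt N27394 F200836) (tt N27445 F200837) (tt N28034 (iv F202573)) (tt N27127 F200838) (tt N28060 (iv F202754)) (tt N27598 F200839) (tt N27126 (iv D43610)))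
theorem Q27685 : ∀ i, i < 27685 → P i := stepQ 27684 Q27684 (allL N27684 (tt N27508 F200840) (tt N27547 F200841) (tt N27602 F200842) (tt N27130 F200843) (tt N28061 D43988) (tt N27128 (iv D43611)) (tt N27544 F200844) (tt N28062 D43989) (tt N27684 F200845) (tt N28063 D43990))
theorem Q27686 : ∀ i, i < 27686 → P i := stepQ 27685 Q27685 (allL N27685 (tt N27509 F200846) (tt N27567 F200847) (tt N27603 F200848) (tt N27131 F200849) (tt N27495 F200850) (tt N28062 (iv F202766)) (tt N27156 F200851) (tt N27128 (iv D43612)) (tt N27134 F200852) (tt N28064 D43991))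
theorem Q27687 : ∀ i, i < 27687 → P i := stepQ 27686 Q27686 (allL N27686 (tt N27510 F200853) (tt N27568 F200854) (tt N27598 F200855) (tt N27132 F200856) (tt N27516 F200857) (tt N28063 (iv F202773)) (tt N27129 F200858) (tt N28064 (iv F202781)) (tt N27585 F200859) (tt N27128 (iv D43613)))
theorem Q27688 : ∀ i, i < 27688 → P i := stepQ 27687 Q27687 (allL N27687 (tt N27511 F200860) (tt N27639 F200861) (tt N27135 F200862) (tt N28062 (iv F202765)) (tt N27578 F200863) (tt N27131 F200864) (tt N27563 F200865) (tt N27130 (iv D43614)) (tt N27687 F200866) (tt N28065 D43992))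
theorem Q27689 : ∀ i, i < 27689 → P i := stepQ 27688 Q27688 (allL N27688 (tt N27512 F200867) (tt N27637 F200868) (tt N27136 F200869) (tt N28063 (iv F202772)) (tt N28044 (iv F202639)) (tt N27132 F200870) (tt N27630 F200871) (tt N28065 (iv F202789)) (tt N28066 D43993) (tt N27130 (iv D43615)))
theorem Q27690 : ∀ i, i < 27690 → P i := stepQ 27689 Q27689 (allL N27689 (tt N27513 F200872) (tt N27636 F200873) (tt N27137 F200874) (tt N28064 (iv F202778)) (tt N27133 F200875) (tt N28065 (iv F202787)) (tt N27160 F200876) (tt N27132 F200877) (tt N27586 F200878) (tt N27131 (iv D43616)))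
theorem Q27691 : ∀ i, i < 27691 → P i := stepQ 27690 Q27690 (allL N27690 (tt N27503 F200879) (tt N27435 F200880) (tt N27563 F200881) (tt N27644 F200882) (tt N27572 F200883) (tt N27169 F200884) (tt N27135 (iv D43617)) (tt N27555 F200885) (tt N27690 F200886) (tt N28067 D43994))
theorem Q27692 : ∀ i, i < 27692 → P i := stepQ 27691 Q27691 (allL N27691 (tt N27514 F200887) (tt N27459 F200888) (tt N28065 (iv F202785)) (tt N27645 F200889) (tt N28057 (iv F202731)) (tt N27137 F200890) (tt N28067 (iv F202802)) (tt N27136 F200891) (tt N28068 D43995) (tt N27135 (iv D43618)))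
theorem Q27693 : ∀ i, i < 27693 → P i := stepQ 27692 Q27692 (allL N27692 (tt N27515 F200892) (tt N27463 F200893) (tt N28066 (iv F202792)) (tt N27646 F200894) (tt N28058 (iv F202737)) (tt N28069 D43996) (tt N27635 F200895) (tt N28068 (iv F202807)) (tt N27136 (iv D43619)) (tt N27692 F200896))
theorem Q27694 : ∀ i, i < 27694 → P i := stepQ 27693 Q27693 (allL N27693 (tt N27367 F200897) (tt N27358 F200898) (tt N27586 F200899) (tt N27362 F200900) (tt N27139 F200901) (tt N28070 D43997) (tt N27171 F200902) (tt N27138 F200903) (tt N27137 (iv D43620)) (tt N27140 F200904))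
theorem Q27695 : ∀ i, i < 27695 → P i := stepQ 27694 Q27694 (allL N27694 (tt N27400 F200905) (tt N27374 F200906) (tt N27462 F200907) (tt N27398 F200908) (tt N27356 F200909) (tt N27138 (iv D43621)) (tt N27455 F200910) (tt N28070 (iv F202823)) (tt N28069 (iv F202813)) (tt N27141 F200911))
theorem Q27696 : ∀ i, i < 27696 → P i := stepQ 27695 Q27695 (allL N27695 (tt N27364 F200912) (tt N27357 F200913) (tt N27461 F200914) (tt N27361 F200915) (tt N27343 F200916) (tt N27140 (iv D43622)) (tt N27397 F200917) (tt N27141 F200918) (tt N27695 F200919) (tt N28070 (iv F202824)))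
theorem Q27697 : ∀ i, i < 27697 → P i := stepQ 27696 Q27696 (allL N27696 (tt N27519 F200920) (tt N27602 F200921) (tt N27538 F200922) (tt N27576 F200923) (tt N27428 F200924) (tt N27142 (iv D43623)) (tt N27149 F200925) (tt N28071 D43998) (tt N27696 F200926) (tt N28072 D43999))
theorem Q27698 : ∀ i, i < 27698 → P i := stepQ 27697 Q27697 (allL N27697 (tt N27520 F200927) (tt N27603 F200928) (tt N27539 F200929) (tt N27287 F200930) (tt N27144 F200931) (tt N28071 (iv F202830)) (tt N27436 F200932) (tt N27142 (iv D43624)) (tt N27177 F200933) (tt N28073 D44000))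
theorem Q27699 : ∀ i, i < 27699 → P i := stepQ 27698 Q27698 (allL N27698 (tt N27521 F200934) (tt N27598 F200935) (tt N27540 F200936) (tt N27575 F200937) (tt N27145 F200938) (tt N28072 (iv F202837)) (tt N27143 F200939) (tt N28073 (iv F202845)) (tt N27571 F200940) (tt N27142 (iv D43625)))
theorem Q27700 : ∀ i, i < 27700 → P i := stepQ 27699 Q27699 (allL N27699 (tt N27522 F200941) (tt N27608 F200942) (tt N27610 F200943) (tt N27438 F200944) (tt N28073 (iv F202843)) (tt N27450 F200945) (tt N28060 (iv F202753)) (tt N27145 F200946) (tt N28074 D44001) (tt N27144 (iv D43626)))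
theorem Q27701 : ∀ i, i < 27701 → P i := stepQ 27700 Q27700 (allL N27700 (tt N27523 F200947) (tt N27445 F200948) (tt N27157 F200949) (tt N27164 F200950) (tt N27571 F200951) (tt N28075 D44002) (tt N27146 F200952) (tt N28074 (iv F202853)) (tt N27145 (iv D43627)) (tt N27154 F200953))
theorem Q27702 : ∀ i, i < 27702 → P i := stepQ 27701 Q27701 (allL N27701 (tt N27524 F200954) (tt N27600 F200955) (tt N27569 F200956) (tt N27149 F200957) (tt N27485 F200958) (tt N27147 (iv D43628)) (tt N27576 F200959) (tt N28076 D44003) (tt N27701 F200960) (tt N28077 D44004))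
theorem Q27703 : ∀ i, i < 27703 → P i := stepQ 27702 Q27702 (allL N27702 (tt N27525 F200961) (tt N27599 F200962) (tt N27570 F200963) (tt N27150 F200964) (tt N27156 F200965) (tt N28076 (iv F202868)) (tt N27495 F200966) (tt N27147 (iv D43629)) (tt N27153 F200967) (tt N28078 D44005))
theorem Q27704 : ∀ i, i < 27704 → P i := stepQ 27703 Q27703 (allL N27703 (tt N27526 F200968) (tt N27592 F200969) (tt N27571 F200970) (tt N27151 F200971) (tt N27157 F200972) (tt N28077 (iv F202875)) (tt N27148 F200973) (tt N28078 (iv F202883)) (tt N27540 F200974) (tt N27147 (iv D43630)))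
theorem Q27705 : ∀ i, i < 27705 → P i := stepQ 27704 Q27704 (allL N27704 (tt N27527 F200975) (tt N27601 F200976) (tt N27464 F200977) (tt N28076 (iv F202866)) (tt N27451 F200978) (tt N27150 F200979) (tt N28079 D44006) (tt N27149 (iv D43631)) (tt N27704 F200980) (tt N28080 D44007))
theorem Q27706 : ∀ i, i < 27706 → P i := stepQ 27705 Q27705 (allL N27705 (tt N27528 F200981) (tt N27597 F200982) (tt N27577 F200983) (tt N28077 (iv F202873)) (tt N27452 F200984) (tt N27151 F200985) (tt N28072 (iv F202838)) (tt N28080 (iv F202896)) (tt N28081 D44008) (tt N27149 (iv D43632)))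
theorem Q27707 : ∀ i, i < 27707 → P i := stepQ 27706 Q27706 (allL N27706 (tt N27529 F200986) (tt N27596 F200987) (tt N27465 F200988) (tt N28078 (iv F202880)) (tt N27152 F200989) (tt N28080 (iv F202895)) (tt N27497 F200990) (tt N27151 F200991) (tt N27543 F200992) (tt N27150 (iv D43633)))
theorem Q27708 : ∀ i, i < 27708 → P i := stepQ 27707 Q27707 (allL N27707 (tt N27385 F200993) (tt N27411 F200994) (tt N27155 F200995) (tt N27162 F200996) (tt N27483 (iv F200999)) (tt N27154 (iv D43634)) (tt N27352 F200997) (tt N28038 (iv F202600)) (tt N27173 F200998) (tt N28075 (iv F202861)))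
theorem Q27709 : ∀ i, i < 27709 → P i := stepQ 27708 Q27708 (allL N27708 (tt N27530 F201000) (tt N27436 F201001) (tt N27156 F201002) (tt N27163 F201003) (tt N27570 F201004) (tt N28038 (iv F202599)) (tt N27603 F201005) (tt N27154 (iv D43635)) (tt N27161 F201006) (tt N28074 (iv F202854)))
theorem Q27710 : ∀ i, i < 27710 → P i := stepQ 27709 Q27709 (allL N27709 (tt N27387 F201007) (tt N27457 F201008) (tt N28038 (iv F202596)) (tt N27158 F201009) (tt N27486 F201010) (tt N27156 F201011) (tt N27561 F201012) (tt N27155 (iv D43636)) (tt N27174 F201013) (tt N28082 D44009))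
theorem Q27711 : ∀ i, i < 27711 → P i := stepQ 27710 Q27710 (allL N27710 (tt N27388 F201014) (tt N27458 F201015) (tt N28075 (iv F202857)) (tt N27159 F201016) (tt N27487 F201017) (tt N27157 F201018) (tt N27353 F201019) (tt N28082 (iv F202909)) (tt N27382 F201020) (tt N27155 (iv D43637)))
theorem Q27712 : ∀ i, i < 27712 → P i := stepQ 27711 Q27711 (allL N27711 (tt N27531 F201021) (tt N27604 F201022) (tt N28074 (iv F202849)) (tt N27160 F201023) (tt N28078 (iv F202881)) (tt N28082 (iv F202907)) (tt N28064 (iv F202780)) (tt N27157 F201024) (tt N27610 F201025) (tt N27156 (iv D43638)))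
theorem Q27713 : ∀ i, i < 27713 → P i := stepQ 27712 Q27712 (allL N27712 (tt N27389 F201026) (tt N27532 F201027) (tt N27170 F201028) (tt N28082 (iv F202905)) (tt N27228 F201029) (tt N27160 F201030) (tt N27565 F201031) (tt N27159 F201032) (tt N27226 F201033) (tt N27158 (iv D43639)))
theorem Q27714 : ∀ i, i < 27714 → P i := stepQ 27713 Q27713 (allL N27713 (tt N27518 F201034) (tt N27417 F201035) (tt N27166 F201036) (tt N28075 (iv F202858)) (tt N28053 (iv F202703)) (tt N27164 F201037) (tt N27641 F201038) (tt N28049 (iv F202680)) (tt N27386 F201039) (tt N27162 (iv D43640)))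
theorem Q27715 : ∀ i, i < 27715 → P i := stepQ 27714 Q27714 (allL N27714 (tt N27533 F201040) (tt N27437 F201041) (tt N27167 F201042) (tt N28074 (iv F202850)) (tt N27258 F201043) (tt N28049 (iv F202679)) (tt N27607 F201044) (tt N27164 F201045) (tt N27438 F201046) (tt N27163 (iv D43641)))
theorem Q27716 : ∀ i, i < 27716 → P i := stepQ 27715 Q27715 (allL N27715 (tt N27501 F201047) (tt N27265 F201048) (tt N28048 (iv F202669)) (tt N27169 F201049) (tt N27425 F201050) (tt N27644 F201051) (tt N27165 (iv D43642)) (tt N27553 F201052) (tt N27175 F201053) (tt N28083 D44010))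
theorem Q27717 : ∀ i, i < 27717 → P i := stepQ 27716 Q27716 (allL N27716 (tt N27502 F201054) (tt N27266 F201055) (tt N28049 (iv F202677)) (tt N27170 F201056) (tt N27420 F201057) (tt N27167 F201058) (tt N28083 (iv F202916)) (tt N27166 F201059) (tt N27233 F201060) (tt N27165 (iv D43643)))
theorem Q27718 : ∀ i, i < 27718 → P i := stepQ 27717 Q27717 (allL N27717 (tt N27292 F201061) (tt N27248 F201062) (tt N27438 F201063) (tt N27171 F201064) (tt N27246 F201065) (tt N27449 F201066) (tt N27362 F201067) (tt N27168 F201068) (tt N27167 (iv D43644)) (tt N27172 F201069))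
theorem Q27719 : ∀ i, i < 27719 → P i := stepQ 27718 Q27718 (allL N27718 (tt N27504 F201070) (tt N27434 F201071) (tt N27565 F201072) (tt N28083 (iv F202913)) (tt N27238 F201073) (tt N28067 (iv F202801)) (tt N27170 F201074) (tt N27556 F201075) (tt N27236 F201076) (tt N27169 (iv D43645)))
theorem Q27720 : ∀ i, i < 27720 → P i := stepQ 27719 Q27719 (allL N27719 (tt N27208 F201077) (tt N27612 F201078) (tt N27356 F201079) (tt N27407 F201080) (tt N27462 F201081) (tt N27179 F201082) (tt N27308 F201083) (tt N27611 F201084) (tt N28084 D44011) (tt N27178 (iv D43646)))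
theorem Q27721 : ∀ i, i < 27721 → P i := stepQ 27720 Q27720 (allL N27720 (tt N27461 F201085) (tt N27563 F201086) (tt N27364 F201087) (tt N28085 D44012) (tt N27180 (iv D43647)) (tt N27182 F201088) (tt N27639 (iv F201091)) (tt N27207 F201089) (tt N27720 F201090) (tt N28086 D44013))
theorem Q27722 : ∀ i, i < 27722 → P i := stepQ 27721 Q27721 (allL N27721 (tt N27393 F201092) (tt N27578 F201093) (tt N27365 F201094) (tt N27467 F201095) (tt N27639 F201096) (tt N27335 F201097) (tt N27180 (iv D43648)) (tt N27593 F201098) (tt N27721 F201099) (tt N28087 D44014))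
theorem Q27723 : ∀ i, i < 27723 → P i := stepQ 27722 Q27722 (allL N27722 (tt N27611 F201100) (tt N27579 F201101) (tt N27366 F201102) (tt N27468 F201103) (tt N28086 (iv F202939)) (tt N27181 F201104) (tt N28087 (iv F202949)) (tt N27208 F201105) (tt N28088 D44015) (tt N27180 (iv D43649)))
theorem Q27724 : ∀ i, i < 27724 → P i := stepQ 27723 Q27723 (allL N27723 (tt N27584 F201106) (tt N27561 F201107) (tt N27506 F201108) (tt N27182 (iv D43650)) (tt N27185 F201109) (tt N28085 (iv F202932)) (tt N27457 F201110) (tt N27209 F201111) (tt N27184 F201112) (tt N28089 D44016))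
theorem Q27725 : ∀ i, i < 27725 → P i := stepQ 27724 Q27724 (allL N27724 (tt N27586 F201113) (tt N27565 F201114) (tt N27367 F201115) (tt N28089 (iv F202961)) (tt N27183 F201116) (tt N28086 (iv F202940)) (tt N27532 F201117) (tt N27210 F201118) (tt N27513 F201119) (tt N27182 (iv D43651)))
theorem Q27726 : ∀ i, i < 27726 → P i := stepQ 27725 Q27725 (allL N27725 (tt N27436 F201120) (tt N27481 (iv F201126)) (tt N27185 (iv D43652)) (tt N27195 F201121) (tt N27506 F201122) (tt N27472 F201123) (tt N27520 (iv F201127)) (tt N27211 F201124) (tt N27190 F201125) (tt N28090 D44017))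
theorem Q27727 : ∀ i, i < 27727 → P i := stepQ 27726 Q27726 (allL N27726 (tt N27539 F201128) (tt N27486 F201129) (tt N27520 F201130) (tt N27186 F201131) (tt N27457 F201132) (tt N28091 D44018) (tt N27185 (iv D43653)) (tt N27241 F201133) (tt N27191 F201134) (tt N28092 D44019))
theorem Q27728 : ∀ i, i < 27728 → P i := stepQ 27727 Q27727 (allL N27727 (tt N27587 F201135) (tt N27626 F201136) (tt N28090 (iv F202968)) (tt N27187 F201137) (tt N28089 (iv F202962)) (tt N27474 F201138) (tt N28092 (iv F202988)) (tt N27212 F201139) (tt N28093 D44020) (tt N27185 (iv D43654)))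
theorem Q27729 : ∀ i, i < 27729 → P i := stepQ 27728 Q27728 (allL N27728 (tt N27541 F201140) (tt N27489 F201141) (tt N27198 F201142) (tt N28091 (iv F202978)) (tt N27426 F201143) (tt N27186 (iv D43655)) (tt N27475 F201144) (tt N27243 F201145) (tt N27728 F201146) (tt N28094 D44021))
theorem Q27730 : ∀ i, i < 27730 → P i := stepQ 27729 Q27729 (allL N27729 (tt N27543 F201147) (tt N27491 F201148) (tt N27200 F201149) (tt N28092 (iv F202986)) (tt N27188 F201150) (tt N28094 (iv F203004)) (tt N27187 F201151) (tt N27244 F201152) (tt N27529 F201153) (tt N27186 (iv D43656)))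
theorem Q27731 : ∀ i, i < 27731 → P i := stepQ 27730 Q27730 (allL N27730 (tt N27497 F201154) (tt N27628 F201155) (tt N27201 F201156) (tt N28093 (iv F202994)) (tt N27189 F201157) (tt N28095 D44022) (tt N27529 F201158) (tt N27213 F201159) (tt N27187 (iv D43657)) (tt N27193 F201160))
theorem Q27732 : ∀ i, i < 27732 → P i := stepQ 27731 Q27731 (allL N27731 (tt N27495 F201161) (tt N27629 F201162) (tt N27336 F201163) (tt N27193 F201164) (tt N27509 F201165) (tt N27623 F201166) (tt N27525 F201167) (tt N27214 F201168) (tt N27192 (iv D43658)) (tt N28093 (iv F202998)))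
theorem Q27733 : ∀ i, i < 27733 → P i := stepQ 27732 Q27732 (allL N27732 (tt N27496 F201169) (tt N27494 F201170) (tt N27205 F201171) (tt N27623 F201172) (tt N27415 F201173) (tt N27193 (iv D43659)) (tt N28096 D44023) (tt N27215 F201174) (tt N27194 F201175) (tt N28095 (iv F203014)))
theorem Q27734 : ∀ i, i < 27734 → P i := stepQ 27733 Q27733 (allL N27733 (tt N27534 F201176) (tt N27380 F201177) (tt N27206 F201178) (tt N27493 F201179) (tt N27383 F201180) (tt N27733 F201181) (tt N27194 (iv D43660)) (tt N27479 F201182) (tt N28096 (iv F203022)) (tt N27410 F201183))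
theorem Q27735 : ∀ i, i < 27735 → P i := stepQ 27734 Q27734 (allL N27734 (tt N27437 F201184) (tt N27477 F201185) (tt N27197 F201186) (tt N28090 (iv F202969)) (tt N27339 F201187) (tt N27484 F201188) (tt N27582 F201189) (tt N27216 F201190) (tt N27338 F201191) (tt N27195 (iv D43661)))
theorem Q27736 : ∀ i, i < 27736 → P i := stepQ 27735 Q27735 (allL N27735 (tt N27403 F201192) (tt N27278 F201193) (tt N27583 F201194) (tt N27198 F201195) (tt N27576 F201196) (tt N27196 (iv D43662)) (tt N27485 F201197) (tt N27286 F201198) (tt N27735 F201199) (tt N28097 D44024))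
theorem Q27737 : ∀ i, i < 27737 → P i := stepQ 27736 Q27736 (allL N27736 (tt N27404 F201200) (tt N27279 F201201) (tt N27582 F201202) (tt N27200 F201203) (tt N27284 F201204) (tt N28097 (iv F203028)) (tt N27197 F201205) (tt N27283 F201206) (tt N27282 F201207) (tt N27196 (iv D43663)))
theorem Q27738 : ∀ i, i < 27738 → P i := stepQ 27737 Q27737 (allL N27737 (tt N27536 F201208) (tt N27280 F201209) (tt N27243 F201210) (tt N27286 F201211) (tt N27431 F201212) (tt N27199 F201213) (tt N27270 (iv F201215)) (tt N27198 (iv D43664)) (tt N27737 F201214) (tt N28098 D44025))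
theorem Q27739 : ∀ i, i < 27739 → P i := stepQ 27738 Q27738 (allL N27738 (tt N27612 F201216) (tt N27281 F201217) (tt N28094 (iv F203002)) (tt N28097 (iv F203026)) (tt N27432 F201218) (tt N27200 F201219) (tt N27490 F201220) (tt N28098 (iv F203038)) (tt N28099 D44026) (tt N27198 (iv D43665)))
theorem Q27740 : ∀ i, i < 27740 → P i := stepQ 27739 Q27739 (allL N27739 (tt N27537 F201221) (tt N27282 F201222) (tt N27244 F201223) (tt N27283 F201224) (tt N27202 F201225) (tt N28098 (iv F203036)) (tt N27217 F201226) (tt N27200 F201227) (tt N27279 F201228) (tt N27199 (iv D43666)))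
theorem Q27741 : ∀ i, i < 27741 → P i := stepQ 27740 Q27740 (allL N27740 (tt N27465 F201229) (tt N27283 F201230) (tt N27529 F201231) (tt N27282 F201232) (tt N27203 F201233) (tt N28100 D44027) (tt N27201 F201234) (tt N27279 F201235) (tt N27200 (iv D43667)) (tt N27204 F201236))
theorem Q27742 : ∀ i, i < 27742 → P i := stepQ 27741 Q27741 (allL N27741 (tt N27499 F201237) (tt N27269 F201238) (tt N28095 (iv F203009)) (tt N27261 F201239) (tt N27423 F201240) (tt N27201 (iv D43668)) (tt N28101 D44028) (tt N27218 F201241) (tt N27492 F201242) (tt N27205 F201243))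
theorem Q27743 : ∀ i, i < 27743 → P i := stepQ 27742 Q27742 (allL N27742 (tt N27464 F201244) (tt N27286 F201245) (tt N27527 F201246) (tt N27280 F201247) (tt N27605 F201248) (tt N27204 (iv D43669)) (tt N28102 D44029) (tt N27278 F201249) (tt N27742 F201250) (tt N28100 (iv F203050)))
theorem Q27744 : ∀ i, i < 27744 → P i := stepQ 27743 Q27743 (allL N27743 (tt N27498 F201251) (tt N27268 F201252) (tt N28096 (iv F203017)) (tt N27260 F201253) (tt N27414 F201254) (tt N28102 (iv F203063)) (tt N27205 (iv D43670)) (tt N27473 F201255) (tt N27206 F201256) (tt N28101 (iv F203057)))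
theorem Q27745 : ∀ i, i < 27745 → P i := stepQ 27744 Q27744 (allL N27744 (tt N27376 F201257) (tt N27560 F201258) (tt N27467 F201259) (tt N27207 (iv D43671)) (tt N27613 F201260) (tt N27209 F201261) (tt N27350 F201262) (tt N28085 (iv F202934)) (tt N27744 F201263) (tt N28103 D44030))
theorem Q27746 : ∀ i, i < 27746 → P i := stepQ 27745 Q27745 (allL N27745 (tt N27462 F201264) (tt N27564 F201265) (tt N27400 F201266) (tt N28103 (iv F203069)) (tt N27208 F201267) (tt N27210 F201268) (tt N27440 F201269) (tt N28086 (iv F202942)) (tt N28104 D44031) (tt N27207 (iv D43672)))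
theorem Q27747 : ∀ i, i < 27747 → P i := stepQ 27746 Q27746 (allL N27746 (tt N28084 (iv F202919)) (tt N27580 F201270) (tt N27402 F201271) (tt N27615 F201272) (tt N28104 (iv F203076)) (tt N28035 (iv F202579)) (tt N27595 F201273) (tt N28088 (iv F202956)) (tt N27208 (iv D43673)) (tt N27746 F201274))
theorem Q27748 : ∀ i, i < 27748 → P i := stepQ 27747 Q27747 (allL N27747 (tt N27585 F201275) (tt N27562 F201276) (tt N27507 F201277) (tt N27210 F201278) (tt N27212 F201279) (tt N28103 (iv F203071)) (tt N27288 F201280) (tt N28089 (iv F202964)) (tt N27510 F201281) (tt N27209 (iv D43674)))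
theorem Q27749 : ∀ i, i < 27749 → P i := stepQ 27748 Q27748 (allL N27748 (tt N27445 F201282) (tt N27620 F201283) (tt N27212 F201284) (tt N27216 F201285) (tt N27507 F201286) (tt N27619 F201287) (tt N27289 F201288) (tt N28090 (iv F202973)) (tt N27337 F201289) (tt N27211 (iv D43675)))
theorem Q27750 : ∀ i, i < 27750 → P i := stepQ 27749 Q27749 (allL N27749 (tt N27516 F201290) (tt N27627 F201291) (tt N27337 F201292) (tt N27213 F201293) (tt N27510 F201294) (tt N27624 (iv F201297)) (tt N27290 F201295) (tt N28093 (iv F202997)) (tt N27212 (iv D43676)) (tt N27214 F201296))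
theorem Q27751 : ∀ i, i < 27751 → P i := stepQ 27750 Q27750 (allL N27750 (tt N27517 F201298) (tt N27625 F201299) (tt N27218 F201300) (tt N27624 F201301) (tt N28045 (iv F202646)) (tt N27213 (iv D43677)) (tt N27619 F201302) (tt N28095 (iv F203012)) (tt N27621 F201303) (tt N27215 F201304))
theorem Q27752 : ∀ i, i < 27752 → P i := stepQ 27751 Q27751 (allL N27751 (tt N27546 F201305) (tt N27527 F201306) (tt N27406 F201307) (tt N28105 D44032) (tt N27219 (iv D43678)) (tt N27221 F201308) (tt N28106 D44033) (tt N27375 F201309) (tt N27751 F201310) (tt N28107 D44034))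
theorem Q27753 : ∀ i, i < 27753 → P i := stepQ 27752 Q27752 (allL N27752 (tt N27547 F201311) (tt N27644 F201312) (tt N27303 F201313) (tt N27435 F201314) (tt N28106 (iv F203089)) (tt N27265 F201315) (tt N27219 (iv D43679)) (tt N28108 D44035) (tt N27752 F201316) (tt N28109 D44036))
theorem Q27754 : ∀ i, i < 27754 → P i := stepQ 27753 Q27753 (allL N27753 (tt N27548 F201317) (tt N27645 F201318) (tt N27407 F201319) (tt N27459 F201320) (tt N28107 (iv F203095)) (tt N27220 F201321) (tt N28109 (iv F203110)) (tt N27377 F201322) (tt N28110 D44037) (tt N27219 (iv D43680)))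
theorem Q27755 : ∀ i, i < 27755 → P i := stepQ 27754 Q27754 (allL N27754 (tt N27549 F201323) (tt N27525 F201324) (tt N28111 D44038) (tt N27221 (iv D43681)) (tt N27224 F201325) (tt N28105 (iv F203083)) (tt N27629 F201326) (tt N27378 F201327) (tt N27223 F201328) (tt N28112 D44039))
theorem Q27756 : ∀ i, i < 27756 → P i := stepQ 27755 Q27755 (allL N27755 (tt N27550 F201329) (tt N27529 F201330) (tt N27409 F201331) (tt N28112 (iv F203127)) (tt N27222 F201332) (tt N28107 (iv F203096)) (tt N27628 F201333) (tt N27379 F201334) (tt N27491 F201335) (tt N27221 (iv D43682)))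
theorem Q27757 : ∀ i, i < 27757 → P i := stepQ 27756 Q27756 (allL N27756 (tt N27551 F201336) (tt N27479 F201337) (tt N27223 (iv D43683)) (tt N27410 F201338) (tt N27229 F201339) (tt N27756 F201340) (tt N27478 F201341) (tt N27380 F201342) (tt N28111 (iv F203124)) (tt N27493 F201343))
theorem Q27758 : ∀ i, i < 27758 → P i := stepQ 27757 Q27757 (allL N27757 (tt N27552 F201344) (tt N28046 (iv F202652)) (tt N27224 (iv D43684)) (tt N27231 F201345) (tt N28111 (iv F203121)) (tt N27441 F201346) (tt N28113 D44040) (tt N27381 F201347) (tt N27229 F201348) (tt N28114 D44041))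
theorem Q27759 : ∀ i, i < 27759 → P i := stepQ 27758 Q27758 (allL N27758 (tt N27553 F201349) (tt N27509 F201350) (tt N28113 (iv F203134)) (tt N27225 F201351) (tt N27629 F201352) (tt N28115 D44042) (tt N27224 (iv D43685)) (tt N27501 F201353) (tt N27230 F201354) (tt N28116 D44043))
theorem Q27760 : ∀ i, i < 27760 → P i := stepQ 27759 Q27759 (allL N27759 (tt N27554 F201355) (tt N27531 F201356) (tt N28114 (iv F203140)) (tt N27226 F201357) (tt N28112 (iv F203128)) (tt N27443 F201358) (tt N28116 (iv F203154)) (tt N27382 F201359) (tt N28082 (iv F202910)) (tt N27224 (iv D43686)))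
theorem Q27761 : ∀ i, i < 27761 → P i := stepQ 27760 Q27760 (allL N27760 (tt N27555 F201360) (tt N27511 F201361) (tt N27234 F201362) (tt N28115 (iv F203146)) (tt N27270 F201363) (tt N27225 (iv D43687)) (tt N27431 F201364) (tt N27503 F201365) (tt N27760 F201366) (tt N28117 D44044))
theorem Q27762 : ∀ i, i < 27762 → P i := stepQ 27761 Q27761 (allL N27761 (tt N27556 F201367) (tt N27513 F201368) (tt N27236 F201369) (tt N28116 (iv F203152)) (tt N27227 F201370) (tt N28117 (iv F203161)) (tt N27226 F201371) (tt N27504 F201372) (tt N27565 F201373) (tt N27225 (iv D43688)))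
theorem Q27763 : ∀ i, i < 27763 → P i := stepQ 27762 Q27762 (allL N27762 (tt N27557 F201374) (tt N27471 F201375) (tt N27230 F201376) (tt N27239 F201377) (tt N27478 F201378) (tt N27762 F201379) (tt N27229 (iv D43689)) (tt N27505 F201380) (tt N28113 (iv F203138)) (tt N27566 F201381))
theorem Q27764 : ∀ i, i < 27764 → P i := stepQ 27763 Q27763 (allL N27763 (tt N27558 F201382) (tt N27640 F201383) (tt N27232 F201384) (tt N28113 (iv F203135)) (tt N27416 F201385) (tt N28061 (iv F202759)) (tt N27231 (iv D43690)) (tt N28118 D44045) (tt N27239 F201386) (tt N28119 D44046))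
theorem Q27765 : ∀ i, i < 27765 → P i := stepQ 27764 Q27764 (allL N27764 (tt N27559 F201387) (tt N28053 (iv F202701)) (tt N27233 F201388) (tt N28114 (iv F203141)) (tt N27417 F201389) (tt N27446 F201390) (tt N28119 (iv F203175)) (tt N27386 F201391) (tt N28049 (iv F202681)) (tt N27231 (iv D43691)))
theorem Q27766 : ∀ i, i < 27766 → P i := stepQ 27765 Q27765 (allL N27765 (tt N27560 F201392) (tt N27428 F201393) (tt N28061 (iv F202758)) (tt N27234 F201394) (tt N27602 F201395) (tt N27232 (iv D43692)) (tt N27447 F201396) (tt N28120 D44047) (tt N27765 F201397) (tt N28121 D44048))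
theorem Q27767 : ∀ i, i < 27767 → P i := stepQ 27766 Q27766 (allL N27766 (tt N27561 F201398) (tt N27429 F201399) (tt N28118 (iv F203166)) (tt N27235 F201400) (tt N27418 F201401) (tt N28120 (iv F203180)) (tt N27387 F201402) (tt N27232 (iv D43693)) (tt N27240 F201403) (tt N28122 D44049))
theorem Q27768 : ∀ i, i < 27768 → P i := stepQ 27767 Q27767 (allL N27767 (tt N27562 F201404) (tt N27430 F201405) (tt N28119 (iv F203173)) (tt N27236 F201406) (tt N27419 F201407) (tt N28121 (iv F203187)) (tt N27233 F201408) (tt N28122 (iv F203194)) (tt N28083 (iv F202918)) (tt N27232 (iv D43694)))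
theorem Q27769 : ∀ i, i < 27769 → P i := stepQ 27768 Q27768 (allL N27768 (tt N27563 F201409) (tt N27431 F201410) (tt N27503 F201411) (tt N28120 (iv F203178)) (tt N27280 F201412) (tt N27235 F201413) (tt N27511 F201414) (tt N27234 (iv D43695)) (tt N27768 F201415) (tt N28123 D44050))
theorem Q27770 : ∀ i, i < 27770 → P i := stepQ 27769 Q27769 (allL N27769 (tt N27564 F201416) (tt N27432 F201417) (tt N28117 (iv F203159)) (tt N28121 (iv F203185)) (tt N27281 F201418) (tt N27236 F201419) (tt N27460 F201420) (tt N28123 (iv F203202)) (tt N28124 D44051) (tt N27234 (iv D43696)))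
theorem Q27771 : ∀ i, i < 27771 → P i := stepQ 27770 Q27770 (allL N27770 (tt N27565 F201421) (tt N27433 F201422) (tt N27504 F201423) (tt N28122 (iv F203191)) (tt N27237 F201424) (tt N28123 (iv F203200)) (tt N27389 F201425) (tt N27236 F201426) (tt N27556 F201427) (tt N27235 (iv D43697)))
theorem Q27772 : ∀ i, i < 27772 → P i := stepQ 27771 Q27771 (allL N27771 (tt N27566 F201428) (tt N27551 F201429) (tt N27240 F201430) (tt N27505 F201431) (tt N27424 F201432) (tt N27771 F201433) (tt N27391 F201434) (tt N27239 (iv D43698)) (tt N28118 (iv F203170)) (tt N27557 F201435))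
theorem Q27773 : ∀ i, i < 27773 → P i := stepQ 27772 Q27772 (allL N27772 (tt N27538 F201436) (tt N27485 F201437) (tt N27519 F201438) (tt N27243 F201439) (tt N27600 F201440) (tt N27241 (iv D43699)) (tt N27278 F201441) (tt N28091 (iv F202981)) (tt N27772 F201442) (tt N28125 D44052))
theorem Q27774 : ∀ i, i < 27774 → P i := stepQ 27773 Q27773 (allL N27773 (tt N27540 F201443) (tt N27487 F201444) (tt N27521 F201445) (tt N27244 F201446) (tt N27458 F201447) (tt N28125 (iv F203213)) (tt N27242 F201448) (tt N28092 (iv F202989)) (tt N27526 F201449) (tt N27241 (iv D43700)))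
theorem Q27775 : ∀ i, i < 27775 → P i := stepQ 27774 Q27774 (allL N27774 (tt N27542 F201450) (tt N27490 F201451) (tt N28098 (iv F203033)) (tt N28125 (iv F203211)) (tt N27460 F201452) (tt N27244 F201453) (tt N27281 F201454) (tt N28094 (iv F203006)) (tt N28126 D44053) (tt N27243 (iv D43701)))
theorem Q27776 : ∀ i, i < 27776 → P i := stepQ 27775 Q27775 (allL N27775 (tt N27535 F201455) (tt N27421 F201456) (tt N27449 F201457) (tt N27450 F201458) (tt N27254 F201459) (tt N27438 F201460) (tt N27309 F201461) (tt N27252 F201462) (tt N27446 F201463) (tt N27251 (iv D43702)))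
theorem Q27777 : ∀ i, i < 27777 → P i := stepQ 27776 Q27776 (allL N27776 (tt N27578 F201464) (tt N27270 F201465) (tt N27489 F201466) (tt N28102 (iv F203061)) (tt N27511 F201467) (tt N27260 (iv D43703)) (tt N27280 F201468) (tt N27475 F201469) (tt N27776 F201470) (tt N28127 D44054))
theorem Q27778 : ∀ i, i < 27778 → P i := stepQ 27777 Q27777 (allL N27777 (tt N27609 F201471) (tt N27272 F201472) (tt N27491 F201473) (tt N28101 (iv F203053)) (tt N27262 F201474) (tt N28127 (iv F203225)) (tt N27261 F201475) (tt N27476 F201476) (tt N27409 F201477) (tt N27260 (iv D43704)))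
theorem Q27779 : ∀ i, i < 27779 → P i := stepQ 27778 Q27778 (allL N27778 (tt N27325 F201478) (tt N27273 F201479) (tt N27628 F201480) (tt N27492 F201481) (tt N27263 F201482) (tt N27488 F201483) (tt N27409 F201484) (tt N27326 F201485) (tt N27261 (iv D43705)) (tt N27264 F201486))
theorem Q27780 : ∀ i, i < 27780 → P i := stepQ 27779 Q27779 (allL N27779 (tt N27567 F201487) (tt N27553 F201488) (tt N27304 F201489) (tt N27395 F201490) (tt N27441 F201491) (tt N28108 (iv F203102)) (tt N27327 F201492) (tt N27265 (iv D43706)) (tt N27314 F201493) (tt N28128 D44055))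
theorem Q27781 : ∀ i, i < 27781 → P i := stepQ 27780 Q27780 (allL N27780 (tt N27568 F201494) (tt N28083 (iv F202912)) (tt N27305 F201495) (tt N27434 F201496) (tt N27442 F201497) (tt N28109 (iv F203109)) (tt N27266 F201498) (tt N28128 (iv F203234)) (tt N27430 F201499) (tt N27265 (iv D43707)))
theorem Q27782 : ∀ i, i < 27782 → P i := stepQ 27781 Q27781 (allL N27781 (tt N27569 F201500) (tt N28102 (iv F203059)) (tt N27524 F201501) (tt N27270 F201502) (tt N28050 (iv F202685)) (tt N27268 (iv D43708)) (tt N27286 F201503) (tt N28129 D44056) (tt N27781 F201504) (tt N28130 D44057))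
theorem Q27783 : ∀ i, i < 27783 → P i := stepQ 27782 Q27782 (allL N27782 (tt N27570 F201505) (tt N27473 F201506) (tt N27525 F201507) (tt N27271 F201508) (tt N27530 F201509) (tt N28129 (iv F203240)) (tt N27336 F201510) (tt N27268 (iv D43709)) (tt N27276 F201511) (tt N28131 D44058))
theorem Q27784 : ∀ i, i < 27784 → P i := stepQ 27783 Q27783 (allL N27783 (tt N27571 F201512) (tt N28101 (iv F203052)) (tt N27526 F201513) (tt N27272 F201514) (tt N27523 F201515) (tt N28130 (iv F203246)) (tt N27269 F201516) (tt N28131 (iv F203254)) (tt N27521 F201517) (tt N27268 (iv D43710)))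
theorem Q27785 : ∀ i, i < 27785 → P i := stepQ 27784 Q27784 (allL N27784 (tt N27572 F201518) (tt N27475 F201519) (tt N27280 F201520) (tt N28129 (iv F203239)) (tt N27503 F201521) (tt N27271 F201522) (tt N27489 F201523) (tt N27270 (iv D43711)) (tt N27784 F201524) (tt N28132 D44059))
theorem Q27786 : ∀ i, i < 27786 → P i := stepQ 27785 Q27785 (allL N27785 (tt N27573 F201525) (tt N28127 (iv F203222)) (tt N27281 F201526) (tt N28130 (iv F203245)) (tt N28117 (iv F203160)) (tt N27272 F201527) (tt N28098 (iv F203037)) (tt N28132 (iv F203262)) (tt N28133 D44060) (tt N27270 (iv D43712)))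
theorem Q27787 : ∀ i, i < 27787 → P i := stepQ 27786 Q27786 (allL N27786 (tt N27574 F201528) (tt N27476 F201529) (tt N27282 F201530) (tt N28131 (iv F203251)) (tt N27274 F201531) (tt N28132 (iv F203260)) (tt N27338 F201532) (tt N27272 F201533) (tt N27582 F201534) (tt N27271 (iv D43713)))
theorem Q27788 : ∀ i, i < 27788 → P i := stepQ 27787 Q27787 (allL N27787 (tt N27575 F201535) (tt N27409 F201536) (tt N27283 F201537) (tt N27521 F201538) (tt N27275 F201539) (tt N28134 D44061) (tt N27273 F201540) (tt N27582 F201541) (tt N27272 (iv D43714)) (tt N27277 F201542))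
theorem Q27789 : ∀ i, i < 27789 → P i := stepQ 27788 Q27788 (allL N27788 (tt N27576 F201543) (tt N27406 F201544) (tt N27286 F201545) (tt N27519 F201546) (tt N27403 F201547) (tt N27277 (iv D43715)) (tt N27524 F201548) (tt N27583 F201549) (tt N27788 F201550) (tt N28134 (iv F203273)))
theorem Q27790 : ∀ i, i < 27790 → P i := stepQ 27789 Q27789 (allL N27789 (tt N27577 F201551) (tt N28097 (iv F203024)) (tt N27528 F201552) (tt N27281 F201553) (tt N27606 F201554) (tt N27279 F201555) (tt N28125 (iv F203214)) (tt N28100 (iv F203049)) (tt N28135 D44062) (tt N27278 (iv D43716)))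
theorem Q27791 : ∀ i, i < 27791 → P i := stepQ 27790 Q27790 (allL N27790 (tt N27579 F201556) (tt N28098 (iv F203032)) (tt N28132 (iv F203258)) (tt N28100 (iv F203047)) (tt N28123 (iv F203199)) (tt N27282 F201557) (tt N28127 (iv F203226)) (tt N27281 F201558) (tt N28136 D44063) (tt N27280 (iv D43717)))
theorem Q27792 : ∀ i, i < 27792 → P i := stepQ 27791 Q27791 (allL N27791 (tt N27580 F201559) (tt N28099 (iv F203040)) (tt N28133 (iv F203264)) (tt N28135 (iv F203276)) (tt N28124 (iv F203205)) (tt N28137 D44064) (tt N28126 (iv F203219)) (tt N28136 (iv F203280)) (tt N27281 (iv D43718)) (tt N27791 F201560))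
theorem Q27793 : ∀ i, i < 27793 → P i := stepQ 27792 Q27792 (allL N27792 (tt N27581 F201561) (tt N28100 (iv F203045)) (tt N28134 (iv F203268)) (tt N28098 (iv F203034)) (tt N28138 D44065) (tt N27283 (iv D43719)) (tt N28130 (iv F203247)) (tt N28097 (iv F203030)) (tt N28137 (iv F203283)) (tt N27286 F201562))
theorem Q27794 : ∀ i, i < 27794 → P i := stepQ 27793 Q27793 (allL N27793 (tt N27582 F201563) (tt N27607 F201564) (tt N27404 F201565) (tt N28073 (iv F202842)) (tt N27285 (iv D43720)) (tt N28138 (iv F203288)) (tt N27437 F201566) (tt N27575 F201567) (tt N27574 F201568) (tt N27287 F201569))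
theorem Q27795 : ∀ i, i < 27795 → P i := stepQ 27794 Q27794 (allL N27794 (tt N27583 F201570) (tt N27605 F201571) (tt N27403 F201572) (tt N28071 (iv F202828)) (tt N27286 (iv D43721)) (tt N27287 F201573) (tt N28050 (iv F202686)) (tt N27576 F201574) (tt N27794 F201575) (tt N28138 (iv F203290)))
theorem Q27796 : ∀ i, i < 27796 → P i := stepQ 27795 Q27795 (allL N27795 (tt N27361 F201576) (tt N27296 F201577) (tt N27593 F201578) (tt N27364 F201579) (tt N27373 F201580) (tt N27291 (iv D43722)) (tt N27354 F201581) (tt N27365 F201582) (tt N27795 F201583) (tt N28139 D44066))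
theorem Q27797 : ∀ i, i < 27797 → P i := stepQ 27796 Q27796 (allL N27796 (tt N27362 F201584) (tt N27298 F201585) (tt N27638 F201586) (tt N27367 F201587) (tt N27293 F201588) (tt N28139 (iv F203296)) (tt N27292 F201589) (tt N27392 F201590) (tt N27453 F201591) (tt N27291 (iv D43723)))
theorem Q27798 : ∀ i, i < 27798 → P i := stepQ 27797 Q27797 (allL N27797 (tt N27373 F201592) (tt N27364 F201593) (tt N27435 F201594) (tt N27296 F201595) (tt N27361 F201596) (tt N27294 (iv D43724)) (tt N27347 F201597) (tt N27397 F201598) (tt N27797 F201599) (tt N28140 D44067))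
theorem Q27799 : ∀ i, i < 27799 → P i := stepQ 27798 Q27798 (allL N27798 (tt N27454 F201600) (tt N27367 F201601) (tt N27434 F201602) (tt N27298 F201603) (tt N27363 F201604) (tt N28140 (iv F203304)) (tt N27295 F201605) (tt N27399 F201606) (tt N27427 F201607) (tt N27294 (iv D43725)))
theorem Q27800 : ∀ i, i < 27800 → P i := stepQ 27799 Q27799 (allL N27799 (tt N27354 F201608) (tt N27365 F201609) (tt N27307 F201610) (tt N27397 F201611) (tt N27347 F201612) (tt N27297 F201613) (tt N27361 F201614) (tt N27296 (iv D43726)) (tt N27799 F201615) (tt N28141 D44068))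
theorem Q27801 : ∀ i, i < 27801 → P i := stepQ 27800 Q27800 (allL N27800 (tt N27401 F201616) (tt N28139 (iv F203292)) (tt N27308 F201617) (tt N28140 (iv F203302)) (tt N27455 F201618) (tt N27298 F201619) (tt N27356 F201620) (tt N28141 (iv F203314)) (tt N28142 D44069) (tt N27296 (iv D43727)))
theorem Q27802 : ∀ i, i < 27802 → P i := stepQ 27801 Q27801 (allL N27801 (tt N27355 F201621) (tt N27392 F201622) (tt N27309 F201623) (tt N27399 F201624) (tt N27300 F201625) (tt N28141 (iv F203312)) (tt N27449 F201626) (tt N27298 F201627) (tt N27448 F201628) (tt N27297 (iv D43728)))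
theorem Q27803 : ∀ i, i < 27803 → P i := stepQ 27802 Q27802 (allL N27802 (tt N27545 F201629) (tt N27453 F201630) (tt N27310 F201631) (tt N27427 F201632) (tt N27301 F201633) (tt N28143 D44070) (tt N27299 F201634) (tt N27448 F201635) (tt N27298 (iv D43729)) (tt N27302 F201636))
theorem Q27804 : ∀ i, i < 27804 → P i := stepQ 27803 Q27803 (allL N27803 (tt N27544 F201637) (tt N27451 F201638) (tt N27318 F201639) (tt N27426 F201640) (tt N27601 F201641) (tt N27302 (iv D43730)) (tt N27508 F201642) (tt N27447 F201643) (tt N27803 F201644) (tt N28143 (iv F203327)))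
theorem Q27805 : ∀ i, i < 27805 → P i := stepQ 27804 Q27804 (allL N27804 (tt N27588 F201645) (tt N27524 F201646) (tt N28106 (iv F203088)) (tt N27375 F201647) (tt N27303 (iv D43731)) (tt N27378 F201648) (tt N27406 F201649) (tt N28105 (iv F203084)) (tt N27804 F201650) (tt N28144 D44071))
theorem Q27806 : ∀ i, i < 27806 → P i := stepQ 27805 Q27805 (allL N27805 (tt N27589 F201651) (tt N28054 (iv F202709)) (tt N28108 (iv F203100)) (tt N27307 F201652) (tt N28105 (iv F203082)) (tt N27304 F201653) (tt N28033 (iv F202567)) (tt N27303 (iv D43732)) (tt N27805 F201654) (tt N28145 D44072))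
theorem Q27807 : ∀ i, i < 27807 → P i := stepQ 27806 Q27806 (allL N27806 (tt N27590 F201655) (tt N28055 (iv F202716)) (tt N28109 (iv F203107)) (tt N27308 F201656) (tt N28144 (iv F203331)) (tt N27305 F201657) (tt N27407 F201658) (tt N28145 (iv F203337)) (tt N28146 D44073) (tt N27303 (iv D43733)))
theorem Q27808 : ∀ i, i < 27808 → P i := stepQ 27807 Q27807 (allL N27807 (tt N27591 F201659) (tt N28056 (iv F202722)) (tt N28128 (iv F203230)) (tt N27309 F201660) (tt N27443 F201661) (tt N28145 (iv F203336)) (tt N27450 F201662) (tt N27305 F201663) (tt N28147 D44074) (tt N27304 (iv D43734)))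
theorem Q27809 : ∀ i, i < 27809 → P i := stepQ 27808 Q27808 (allL N27808 (tt N27592 F201664) (tt N27643 F201665) (tt N27430 F201666) (tt N27310 F201667) (tt N27328 F201668) (tt N28148 D44075) (tt N27306 F201669) (tt N28147 (iv F203348)) (tt N27305 (iv D43735)) (tt N27316 F201670))
theorem Q27810 : ∀ i, i < 27810 → P i := stepQ 27809 Q27809 (allL N27809 (tt N27593 F201671) (tt N27572 F201672) (tt N27361 F201673) (tt N28033 (iv F202565)) (tt N27435 F201674) (tt N27359 F201675) (tt N27307 (iv D43736)) (tt N27393 F201676) (tt N27809 F201677) (tt N28149 D44076))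
theorem Q27811 : ∀ i, i < 27811 → P i := stepQ 27810 Q27810 (allL N27810 (tt N27594 F201678) (tt N28057 (iv F202729)) (tt N28141 (iv F203309)) (tt N28145 (iv F203335)) (tt N27459 F201679) (tt N27309 F201680) (tt N28149 (iv F203362)) (tt N27308 F201681) (tt N28150 D44077) (tt N27307 (iv D43737)))
theorem Q27812 : ∀ i, i < 27812 → P i := stepQ 27811 Q27811 (allL N27811 (tt N27595 F201682) (tt N28058 (iv F202736)) (tt N28142 (iv F203316)) (tt N28146 (iv F203339)) (tt N27463 F201683) (tt N28151 D44078) (tt N28084 (iv F202925)) (tt N28150 (iv F203366)) (tt N27308 (iv D43738)) (tt N27811 F201684))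
theorem Q27813 : ∀ i, i < 27813 → P i := stepQ 27812 Q27812 (allL N27812 (tt N27596 F201685) (tt N27550 F201686) (tt N27448 F201687) (tt N28147 (iv F203345)) (tt N27312 F201688) (tt N28152 D44079) (tt N27446 F201689) (tt N27310 F201690) (tt N27309 (iv D43739)) (tt N27317 F201691))
theorem Q27814 : ∀ i, i < 27814 → P i := stepQ 27813 Q27813 (allL N27813 (tt N27597 F201692) (tt N28059 (iv F202741)) (tt N28143 (iv F203322)) (tt N28148 (iv F203353)) (tt N28153 D44080) (tt N27310 (iv D43740)) (tt N28154 D44081) (tt N28152 (iv F203375)) (tt N28151 (iv F203369)) (tt N27318 F201693))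
theorem Q27815 : ∀ i, i < 27815 → P i := stepQ 27814 Q27814 (allL N27814 (tt N27598 F201694) (tt N27617 F201695) (tt N27510 F201696) (tt N27331 F201697) (tt N27337 F201698) (tt N28154 (iv F203390)) (tt N27311 (iv D43741)) (tt N28155 D44082) (tt N27507 F201699) (tt N27319 F201700))
theorem Q27816 : ∀ i, i < 27816 → P i := stepQ 27815 Q27815 (allL N27815 (tt N27448 F201701) (tt N27351 F201702) (tt N27596 F201703) (tt N27371 F201704) (tt N27313 (iv D43742)) (tt N28153 (iv F203381)) (tt N27342 F201705) (tt N27545 F201706) (tt N27355 F201707) (tt N27320 F201708))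
theorem Q27817 : ∀ i, i < 27817 → P i := stepQ 27816 Q27816 (allL N27816 (tt N27599 F201709) (tt N27549 F201710) (tt N27429 F201711) (tt N27317 F201712) (tt N27327 F201713) (tt N28156 D44083) (tt N27441 F201714) (tt N27316 F201715) (tt N27315 (iv D43743)) (tt N28147 (iv F203349)))
theorem Q27818 : ∀ i, i < 27818 → P i := stepQ 27817 Q27817 (allL N27817 (tt N27600 F201716) (tt N27588 F201717) (tt N27428 F201718) (tt N27318 F201719) (tt N27538 F201720) (tt N27316 (iv D43744)) (tt N27329 F201721) (tt N28156 (iv F203405)) (tt N27817 F201722) (tt N28148 (iv F203356)))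
theorem Q27819 : ∀ i, i < 27819 → P i := stepQ 27818 Q27818 (allL N27818 (tt N27601 F201723) (tt N27546 F201724) (tt N27447 F201725) (tt N28156 (iv F203403)) (tt N27544 F201726) (tt N27317 (iv D43745)) (tt N28061 (iv F202760)) (tt N27318 F201727) (tt N27818 F201728) (tt N28152 (iv F203376)))
theorem Q27820 : ∀ i, i < 27820 → P i := stepQ 27819 Q27819 (allL N27819 (tt N27447 F201729) (tt N27350 F201730) (tt N27601 F201731) (tt N27370 F201732) (tt N27318 (iv D43746)) (tt N27320 F201733) (tt N27560 (iv F201736)) (tt N27544 F201734) (tt N27819 F201735) (tt N28153 (iv F203383)))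
theorem Q27821 : ∀ i, i < 27821 → P i := stepQ 27820 Q27820 (allL N27820 (tt N27602 F201737) (tt N27613 F201738) (tt N27508 F201739) (tt N27329 F201740) (tt N27560 F201741) (tt N27319 F201742) (tt N27318 (iv D43747)) (tt N28157 D44084) (tt N27820 F201743) (tt N28154 (iv F203391)))
theorem Q27822 : ∀ i, i < 27822 → P i := stepQ 27821 Q27821 (allL N27821 (tt N27603 F201744) (tt N27469 F201745) (tt N27509 F201746) (tt N27330 F201747) (tt N27336 F201748) (tt N28157 (iv F203412)) (tt N27530 F201749) (tt N27319 (iv D43748)) (tt N27321 F201750) (tt N28155 (iv F203399)))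
theorem Q27823 : ∀ i, i < 27823 → P i := stepQ 27822 Q27822 (allL N27822 (tt N27629 F201751) (tt N27441 F201752) (tt N28047 (iv F202661)) (tt N27322 (iv D43749)) (tt N27553 F201753) (tt N28046 (iv F202656)) (tt N27549 F201754) (tt N27425 F201755) (tt N27324 F201756) (tt N28158 D44085))
theorem Q27824 : ∀ i, i < 27824 → P i := stepQ 27823 Q27823 (allL N27823 (tt N27628 F201757) (tt N27446 F201758) (tt N27325 F201759) (tt N28158 (iv F203416)) (tt N27323 F201760) (tt N28053 (iv F202704)) (tt N27550 F201761) (tt N27422 F201762) (tt N27421 F201763) (tt N27322 (iv D43750)))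
theorem Q27825 : ∀ i, i < 27825 → P i := stepQ 27824 Q27824 (allL N27824 (tt N27604 F201764) (tt N27554 F201765) (tt N27450 F201766) (tt N27444 F201767) (tt N28147 (iv F203346)) (tt N27610 F201768) (tt N28128 (iv F203233)) (tt N27328 F201769) (tt N27443 F201770) (tt N27327 (iv D43751)))
theorem Q27826 : ∀ i, i < 27826 → P i := stepQ 27825 Q27825 (allL N27825 (tt N27605 F201771) (tt N27466 F201772) (tt N27451 F201773) (tt N28157 (iv F203410)) (tt N27464 F201774) (tt N27330 F201775) (tt N28159 D44086) (tt N27329 (iv D43752)) (tt N27825 F201776) (tt N28160 D44087))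
theorem Q27827 : ∀ i, i < 27827 → P i := stepQ 27826 Q27826 (allL N27826 (tt N27606 F201777) (tt N27614 F201778) (tt N27452 F201779) (tt N28154 (iv F203388)) (tt N27577 F201780) (tt N27331 F201781) (tt N28148 (iv F203355)) (tt N28160 (iv F203432)) (tt N28161 D44088) (tt N27329 (iv D43753)))
theorem Q27828 : ∀ i, i < 27828 → P i := stepQ 27827 Q27827 (allL N27827 (tt N27607 F201782) (tt N27470 F201783) (tt N27453 F201784) (tt N28155 (iv F203395)) (tt N27333 F201785) (tt N28160 (iv F203431)) (tt N27533 F201786) (tt N27331 F201787) (tt N27638 F201788) (tt N27330 (iv D43754)))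
theorem Q27829 : ∀ i, i < 27829 → P i := stepQ 27828 Q27828 (allL N27828 (tt N27394 F201789) (tt N27609 F201790) (tt N27392 F201791) (tt N27507 F201792) (tt N27334 F201793) (tt N28087 (iv F202948)) (tt N27332 F201794) (tt N27638 F201795) (tt N27331 (iv D43755)) (tt N27335 F201796))
theorem Q27830 : ∀ i, i < 27830 → P i := stepQ 27829 Q27829 (allL N27829 (tt N27608 F201797) (tt N27474 F201798) (tt N28093 (iv F202993)) (tt N27338 F201799) (tt N28155 (iv F203396)) (tt N27626 F201800) (tt N28131 (iv F203253)) (tt N27337 F201801) (tt N28090 (iv F202974)) (tt N27336 (iv D43756)))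
theorem Q27831 : ∀ i, i < 27831 → P i := stepQ 27830 Q27830 (allL N27830 (tt N27446 F201802) (tt N27497 F201803) (tt N27342 F201804) (tt N27642 (iv F201810)) (tt N27340 (iv D43757)) (tt N27559 F201805) (tt N27596 F201806) (tt N27456 F201807) (tt N27535 F201808) (tt N27341 F201809))
theorem Q27832 : ∀ i, i < 27832 → P i := stepQ 27831 Q27831 (allL N27831 (tt N27366 F201811) (tt N27401 F201812) (tt N27611 F201813) (tt N27455 F201814) (tt N28070 (iv F202821)) (tt N27344 F201815) (tt N27398 F201816) (tt N27356 F201817) (tt N28162 D44089) (tt N27343 (iv D43758)))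
theorem Q27833 : ∀ i, i < 27833 → P i := stepQ 27832 Q27832 (allL N27832 (tt N27397 F201818) (tt N27347 F201819) (tt N27639 F201820) (tt N27354 F201821) (tt N27365 F201822) (tt N27345 (iv D43759)) (tt N27364 F201823) (tt N27373 F201824) (tt N27832 F201825) (tt N28163 D44090))
theorem Q27834 : ∀ i, i < 27834 → P i := stepQ 27833 Q27833 (allL N27833 (tt N27399 F201826) (tt N27348 F201827) (tt N27636 F201828) (tt N27355 F201829) (tt N27346 F201830) (tt N28163 (iv F203451)) (tt N27372 F201831) (tt N27454 F201832) (tt N27371 F201833) (tt N27345 (iv D43760)))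
theorem Q27835 : ∀ i, i < 27835 → P i := stepQ 27834 Q27834 (allL N27834 (tt N27374 F201834) (tt N28163 (iv F203447)) (tt N27459 F201835) (tt N27356 F201836) (tt N28141 (iv F203311)) (tt N27348 F201837) (tt N28140 (iv F203305)) (tt N27455 F201838) (tt N28164 D44091) (tt N27347 (iv D43761)))
theorem Q27836 : ∀ i, i < 27836 → P i := stepQ 27835 Q27835 (allL N27835 (tt N27377 F201839) (tt N28153 (iv F203378)) (tt N27468 F201840) (tt N27440 F201841) (tt N28059 (iv F202744)) (tt N27351 F201842) (tt N28103 (iv F203072)) (tt N27548 F201843) (tt N28165 D44092) (tt N27350 (iv D43762)))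
theorem Q27837 : ∀ i, i < 27837 → P i := stepQ 27836 Q27836 (allL N27836 (tt N27386 F201844) (tt N27517 F201845) (tt N27353 F201846) (tt N27641 F201847) (tt N27484 F201848) (tt N27456 F201849) (tt N28075 (iv F202859)) (tt N27559 F201850) (tt N27518 F201851) (tt N27352 (iv D43763)))
theorem Q27838 : ∀ i, i < 27838 → P i := stepQ 27837 Q27837 (allL N27837 (tt N28141 (iv F203307)) (tt N27356 F201852) (tt N27594 F201853) (tt N28163 (iv F203449)) (tt N27374 F201854) (tt N27355 F201855) (tt N28139 (iv F203297)) (tt N27401 F201856) (tt N28166 D44093) (tt N27354 (iv D43764)))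
theorem Q27839 : ∀ i, i < 27839 → P i := stepQ 27838 Q27838 (allL N27838 (tt N27402 F201857) (tt N28166 (iv F203466)) (tt N28084 (iv F202921)) (tt N28164 (iv F203456)) (tt N28069 F202815) (tt N28165 (iv F203463)) (tt N28142 (iv F203318)) (tt N28162 (iv F203444)) (tt N27356 (iv D43765)) (tt N27838 F201858))
theorem Q27840 : ∀ i, i < 27840 → P i := stepQ 27839 Q27839 (allL N27839 (tt N27455 F201859) (tt N28070 (iv F202818)) (tt N27440 F201860) (tt N27366 F201861) (tt N27401 F201862) (tt N27358 F201863) (tt N27400 F201864) (tt N27374 F201865) (tt N28167 D44094) (tt N27357 (iv D43766)))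
theorem Q27841 : ∀ i, i < 27841 → P i := stepQ 27840 Q27840 (allL N27840 (tt N27638 F201866) (tt N27574 F201867) (tt N27362 F201868) (tt N28060 (iv F202751)) (tt N27360 F201869) (tt N28149 (iv F203361)) (tt N27438 F201870) (tt N27394 F201871) (tt N27607 F201872) (tt N27359 (iv D43767)))
theorem Q27842 : ∀ i, i < 27842 → P i := stepQ 27841 Q27841 (allL N27841 (tt N28139 (iv F203291)) (tt N27366 F201873) (tt N28149 (iv F203359)) (tt N28070 (iv F202820)) (tt N28140 (iv F203303)) (tt N27362 F201874) (tt N28141 (iv F203313)) (tt N27398 F201875) (tt N28168 D44095) (tt N27361 (iv D43768)))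
theorem Q27843 : ∀ i, i < 27843 → P i := stepQ 27842 Q27842 (allL N27842 (tt N28070 (iv F202817)) (tt N28140 (iv F203300)) (tt N28086 (iv F202938)) (tt N28139 (iv F203294)) (tt N27366 F201876) (tt N27367 F201877) (tt N28163 (iv F203452)) (tt N27400 F201878) (tt N28169 D44096) (tt N27364 (iv D43769)))
theorem Q27844 : ∀ i, i < 27844 → P i := stepQ 27843 Q27843 (allL N27843 (tt N27398 F201879) (tt N28141 (iv F203308)) (tt N28087 (iv F202945)) (tt N27400 F201880) (tt N28163 (iv F203450)) (tt N27392 F201881) (tt N27366 F201882) (tt N28139 (iv F203298)) (tt N28170 D44097) (tt N27365 (iv D43770)))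
theorem Q27845 : ∀ i, i < 27845 → P i := stepQ 27844 Q27844 (allL N27844 (tt N28162 (iv F203438)) (tt N28168 (iv F203479)) (tt N28088 (iv F202953)) (tt N28167 (iv F203473)) (tt N28169 (iv F203483)) (tt N28110 (iv F203115)) (tt N28170 (iv F203490)) (tt N27402 F201883) (tt N27366 (iv D43771)) (tt N27844 F201884))
theorem Q27846 : ∀ i, i < 27846 → P i := stepQ 27845 Q27845 (allL N27845 (tt N27459 F201885) (tt N27630 F201886) (tt N27374 F201887) (tt N27548 F201888) (tt N27594 F201889) (tt N27369 F201890) (tt N27637 F201891) (tt N27440 F201892) (tt N28171 D44098) (tt N27368 (iv D43772)))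
theorem Q27847 : ∀ i, i < 27847 → P i := stepQ 27846 Q27846 (allL N27846 (tt N27460 F201893) (tt N27440 F201894) (tt N27634 F201895) (tt N28153 (iv F203380)) (tt N27542 F201896) (tt N27371 F201897) (tt N27564 F201898) (tt N27630 F201899) (tt N28172 D44099) (tt N27370 (iv D43773)))
theorem Q27848 : ∀ i, i < 27848 → P i := stepQ 27847 Q27847 (allL N27847 (tt N28140 (iv F203299)) (tt N27455 F201900) (tt N27637 F201901) (tt N27401 F201902) (tt N28139 (iv F203295)) (tt N27454 F201903) (tt N27374 F201904) (tt N28163 (iv F203453)) (tt N28173 D44100) (tt N27373 (iv D43774)))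
theorem Q27849 : ∀ i, i < 27849 → P i := stepQ 27848 Q27848 (allL N27848 (tt N28164 (iv F203454)) (tt N28069 (iv F202810)) (tt N28171 (iv F203494)) (tt N27402 F201905) (tt N28166 (iv F203468)) (tt N27463 F201906) (tt N28173 (iv F203512)) (tt N28167 (iv F203477)) (tt N27374 (iv D43775)) (tt N27848 F201907))
theorem Q27850 : ∀ i, i < 27850 → P i := stepQ 27849 Q27849 (allL N27849 (tt N27613 F201908) (tt N27519 F201909) (tt N28031 (iv F202552)) (tt N27406 F201910) (tt N27376 F201911) (tt N27408 F201912) (tt N27375 (iv D43776)) (tt N28030 (iv F202548)) (tt N27849 F201913) (tt N28174 D44101))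
theorem Q27851 : ∀ i, i < 27851 → P i := stepQ 27850 Q27850 (allL N27850 (tt N28059 (iv F202740)) (tt N27528 F201914) (tt N28032 (iv F202558)) (tt N28144 (iv F203330)) (tt N27377 F201915) (tt N27379 F201916) (tt N28174 (iv F203519)) (tt N28107 (iv F203097)) (tt N28175 D44102) (tt N27375 (iv D43777)))
theorem Q27852 : ∀ i, i < 27852 → P i := stepQ 27851 Q27851 (allL N27851 (tt N28085 (iv F202928)) (tt N27631 F201917) (tt N28033 (iv F202564)) (tt N27461 F201918) (tt N28030 (iv F202546)) (tt N27584 F201919) (tt N28108 (iv F203103)) (tt N27376 (iv D43778)) (tt N27851 F201920) (tt N28176 D44103))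
theorem Q27853 : ∀ i, i < 27853 → P i := stepQ 27852 Q27852 (allL N27852 (tt N28103 (iv F203066)) (tt N27632 F201921) (tt N28034 (iv F202571)) (tt N27462 F201922) (tt N28174 (iv F203517)) (tt N27585 F201923) (tt N27377 F201924) (tt N28176 (iv F203527)) (tt N28177 D44104) (tt N27376 (iv D43779)))
theorem Q27854 : ∀ i, i < 27854 → P i := stepQ 27853 Q27853 (allL N27853 (tt N28165 (iv F203460)) (tt N27646 F201925) (tt N28035 (iv F202577)) (tt N27463 F201926) (tt N28175 (iv F203521)) (tt N27402 F201927) (tt N28177 (iv F203530)) (tt N28110 (iv F203116)) (tt N27377 (iv D43780)) (tt N27853 F201928))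
theorem Q27855 : ∀ i, i < 27855 → P i := stepQ 27854 Q27854 (allL N27854 (tt N27640 F201929) (tt N28096 (iv F203016)) (tt N27378 (iv D43781)) (tt N28036 (iv F202584)) (tt N27381 F201930) (tt N28106 (iv F203090)) (tt N27494 F201931) (tt N28111 (iv F203123)) (tt N27380 F201932) (tt N28178 D44105))
theorem Q27856 : ∀ i, i < 27856 → P i := stepQ 27855 Q27855 (allL N27855 (tt N27643 F201933) (tt N27526 F201934) (tt N28178 (iv F203533)) (tt N27379 F201935) (tt N27382 F201936) (tt N28144 (iv F203332)) (tt N27488 F201937) (tt N28112 (iv F203130)) (tt N27487 F201938) (tt N27378 (iv D43782)))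
theorem Q27857 : ∀ i, i < 27857 → P i := stepQ 27856 Q27856 (allL N27856 (tt N27622 F201939) (tt N27381 (iv D43783)) (tt N27414 F201940) (tt N27384 F201941) (tt N28096 (iv F203019)) (tt N27425 F201942) (tt N27415 F201943) (tt N28046 (iv F202658)) (tt N27383 F201944) (tt N28179 D44106))
theorem Q27858 : ∀ i, i < 27858 → P i := stepQ 27857 Q27857 (allL N27857 (tt N27641 F201945) (tt N28179 (iv F203538)) (tt N27382 F201946) (tt N27386 F201947) (tt N28178 (iv F203534)) (tt N27442 F201948) (tt N27518 F201949) (tt N28114 (iv F203143)) (tt N28075 (iv F202860)) (tt N27381 (iv D43784)))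
theorem Q27859 : ∀ i, i < 27859 → P i := stepQ 27858 Q27858 (allL N27858 (tt N27618 F201950) (tt N27385 F201951) (tt N27425 F201952) (tt N27415 F201953) (tt N28048 (iv F202671)) (tt N27414 F201954) (tt N27384 (iv D43785)) (tt N28047 (iv F202663)) (tt N27390 F201955) (tt N28180 D44107))
theorem Q27860 : ∀ i, i < 27860 → P i := stepQ 27859 Q27859 (allL N27859 (tt N27625 F201956) (tt N27386 F201957) (tt N27420 F201958) (tt N28179 (iv F203540)) (tt N28049 (iv F202678)) (tt N27422 F201959) (tt N28180 (iv F203549)) (tt N28053 (iv F202706)) (tt N27417 F201960) (tt N27384 (iv D43786)))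
theorem Q27861 : ∀ i, i < 27861 → P i := stepQ 27860 Q27860 (allL N27860 (tt N28038 F202602) (tt N28047 (iv F202660)) (tt N27387 F201961) (tt N27500 F201962) (tt N28051 (iv F202692)) (tt N27530 F201963) (tt N28118 (iv F203169)) (tt N27385 (iv D43787)) (tt N27391 F201964) (tt N28181 D44108))
theorem Q27862 : ∀ i, i < 27862 → P i := stepQ 27861 Q27861 (allL N27861 (tt N28075 (iv F202855)) (tt N28180 (iv F203545)) (tt N27388 F201965) (tt N27518 F201966) (tt N28052 (iv F202697)) (tt N27523 F201967) (tt N27386 F201968) (tt N28181 (iv F203554)) (tt N27641 F201969) (tt N27385 (iv D43788)))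
theorem Q27863 : ∀ i, i < 27863 → P i := stepQ 27862 Q27862 (allL N27862 (tt N28082 (iv F202903)) (tt N27443 F201970) (tt N28181 (iv F203551)) (tt N27389 F201971) (tt N28056 (iv F202724)) (tt N27531 F201972) (tt N28122 (iv F203193)) (tt N27388 F201973) (tt N27554 F201974) (tt N27387 (iv D43789)))
theorem Q27864 : ∀ i, i < 27864 → P i := stepQ 27863 Q27863 (allL N27863 (tt N27639 F201975) (tt N27555 F201976) (tt N27397 F201977) (tt N28108 (iv F203101)) (tt N27393 (iv D43790)) (tt N27395 F201978) (tt N27461 F201979) (tt N27435 F201980) (tt N27863 F201981) (tt N28182 D44109))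
theorem Q27865 : ∀ i, i < 27865 → P i := stepQ 27864 Q27864 (allL N27864 (tt N28087 (iv F202943)) (tt N27573 F201982) (tt N27398 F201983) (tt N28034 (iv F202572)) (tt N28182 (iv F203559)) (tt N27394 F201984) (tt N27611 F201985) (tt N28149 (iv F203363)) (tt N28183 D44110) (tt N27393 (iv D43791)))
theorem Q27866 : ∀ i, i < 27866 → P i := stepQ 27865 Q27865 (allL N27865 (tt N27636 F201986) (tt N27556 F201987) (tt N27399 F201988) (tt N28128 (iv F203231)) (tt N27396 F201989) (tt N28182 (iv F203560)) (tt N27444 F201990) (tt N27434 F201991) (tt N27433 F201992) (tt N27395 (iv D43792)))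
theorem Q27867 : ∀ i, i < 27867 → P i := stepQ 27866 Q27866 (allL N27866 (tt N28163 (iv F203446)) (tt N27400 F201993) (tt N28182 (iv F203558)) (tt N28141 (iv F203310)) (tt N27398 F201994) (tt N27399 F201995) (tt N28070 (iv F202822)) (tt N28140 (iv F203306)) (tt N28184 D44111) (tt N27397 (iv D43793)))
theorem Q27868 : ∀ i, i < 27868 → P i := stepQ 27867 Q27867 (allL N27867 (tt N28170 (iv F203487)) (tt N27402 F201996) (tt N28183 (iv F203564)) (tt N28069 (iv F202812)) (tt N28184 (iv F203569)) (tt N27646 F201997) (tt N28162 (iv F203443)) (tt N28168 (iv F203481)) (tt N27398 (iv D43794)) (tt N27867 F201998))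
theorem Q27869 : ∀ i, i < 27869 → P i := stepQ 27868 Q27868 (allL N27868 (tt N28069 (iv F202809)) (tt N28184 (iv F203568)) (tt N28104 (iv F203075)) (tt N28170 (iv F203488)) (tt N27402 F201999) (tt N27515 F202000) (tt N28167 (iv F203476)) (tt N28169 (iv F203485)) (tt N27400 (iv D43795)) (tt N27868 F202001))
theorem Q27870 : ∀ i, i < 27870 → P i := stepQ 27869 Q27869 (allL N27869 (tt N28142 (iv F203315)) (tt N28162 (iv F203439)) (tt N27595 F202002) (tt N28173 (iv F203510)) (tt N28167 (iv F203474)) (tt N28185 D44112) (tt N27402 F202003) (tt N28166 (iv F203469)) (tt N27401 (iv D43796)) (tt N27869 F202004))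
theorem Q27871 : ∀ i, i < 27871 → P i := stepQ 27870 Q27870 (allL N27870 (tt N28097 (iv F203023)) (tt N27407 F202005) (tt N28138 (iv F203287)) (tt N27612 F202006) (tt N28134 (iv F203270)) (tt N27404 F202007) (tt N28055 (iv F202720)) (tt N27581 F202008) (tt N28186 D44113) (tt N27403 (iv D43797)))
theorem Q27872 : ∀ i, i < 27872 → P i := stepQ 27871 Q27871 (allL N27871 (tt N27614 F202009) (tt N28134 (iv F203267)) (tt N28107 (iv F203094)) (tt N28174 (iv F203516)) (tt N27407 F202010) (tt N27409 F202011) (tt N28144 (iv F203333)) (tt N28032 (iv F202561)) (tt N28187 D44114) (tt N27406 (iv D43798)))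
theorem Q27873 : ∀ i, i < 27873 → P i := stepQ 27872 Q27872 (allL N27872 (tt N27615 F202012) (tt N28186 (iv F203577)) (tt N28110 (iv F203113)) (tt N28084 (iv F202922)) (tt N28187 (iv F203583)) (tt N28088 (iv F202955)) (tt N28146 (iv F203340)) (tt N28035 (iv F202580)) (tt N27407 (iv D43799)) (tt N27872 F202013))
theorem Q27874 : ∀ i, i < 27874 → P i := stepQ 27873 Q27873 (allL N27873 (tt N27616 F202014) (tt N27483 F202015) (tt N27408 (iv D43800)) (tt N28111 (iv F203120)) (tt N27411 F202016) (tt N28031 (iv F202554)) (tt N27482 F202017) (tt N28036 (iv F202587)) (tt N27410 F202018) (tt N28188 D44115))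
theorem Q27875 : ∀ i, i < 27875 → P i := stepQ 27874 Q27874 (allL N27874 (tt N27617 F202019) (tt N27521 F202020) (tt N28188 (iv F203587)) (tt N27409 F202021) (tt N27412 F202022) (tt N28174 (iv F203518)) (tt N27492 F202023) (tt N28037 (iv F202594)) (tt N28101 (iv F203056)) (tt N27408 (iv D43801)))
theorem Q27876 : ∀ i, i < 27876 → P i := stepQ 27875 Q27875 (allL N27875 (tt N27619 F202024) (tt N28075 (iv F202856)) (tt N27412 F202025) (tt N27417 F202026) (tt N28188 (iv F203588)) (tt N27445 F202027) (tt N27517 F202028) (tt N28040 (iv F202615)) (tt N28179 (iv F203543)) (tt N27411 (iv D43802)))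
theorem Q27877 : ∀ i, i < 27877 → P i := stepQ 27876 Q27876 (allL N27876 (tt N27620 F202029) (tt N27523 F202030) (tt N28179 (iv F203539)) (tt N27413 F202031) (tt N28101 (iv F203054)) (tt N28180 (iv F203548)) (tt N27423 F202032) (tt N28043 (iv F202634)) (tt N27412 (iv D43803)) (tt N27414 F202033))
theorem Q27878 : ∀ i, i < 27878 → P i := stepQ 27877 Q27877 (allL N27877 (tt N27621 F202034) (tt N27518 F202035) (tt N27423 F202036) (tt N28180 (iv F203547)) (tt N28095 (iv F203011)) (tt N27413 (iv D43804)) (tt N28179 (iv F203542)) (tt N28045 (iv F202647)) (tt N27517 F202037) (tt N27415 F202038))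
theorem Q27879 : ∀ i, i < 27879 → P i := stepQ 27878 Q27878 (allL N27878 (tt N27623 F202039) (tt N27552 F202040) (tt N27418 F202041) (tt N27496 F202042) (tt N28118 (iv F203168)) (tt N27495 F202043) (tt N28051 (iv F202693)) (tt N27416 (iv D43805)) (tt N27424 F202044) (tt N28189 D44116))
theorem Q27880 : ∀ i, i < 27880 → P i := stepQ 27879 Q27879 (allL N27879 (tt N27624 F202045) (tt N27641 F202046) (tt N27419 F202047) (tt N27517 F202048) (tt N28119 (iv F203174)) (tt N27516 F202049) (tt N27417 F202050) (tt N28189 (iv F203595)) (tt N28180 (iv F203550)) (tt N27416 (iv D43806)))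
theorem Q27881 : ∀ i, i < 27881 → P i := stepQ 27880 Q27880 (allL N27880 (tt N27626 F202051) (tt N27450 F202052) (tt N28189 (iv F203592)) (tt N27421 F202053) (tt N28122 (iv F203192)) (tt N27608 F202054) (tt N28056 (iv F202725)) (tt N27419 F202055) (tt N28158 (iv F203420)) (tt N27418 (iv D43807)))
theorem Q27882 : ∀ i, i < 27882 → P i := stepQ 27881 Q27881 (allL N27881 (tt N27627 F202056) (tt N27442 F202057) (tt N28180 (iv F203546)) (tt N27422 F202058) (tt N28083 (iv F202914)) (tt N28179 (iv F203541)) (tt N27420 F202059) (tt N28158 (iv F203419)) (tt N27419 (iv D43808)) (tt N27425 F202060))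
theorem Q27883 : ∀ i, i < 27883 → P i := stepQ 27882 Q27882 (allL N27882 (tt N27630 F202061) (tt N27514 F202062) (tt N27432 F202063) (tt N28143 (iv F203323)) (tt N28094 (iv F203003)) (tt N27427 F202064) (tt N27512 F202065) (tt N27460 F202066) (tt N28190 D44117) (tt N27426 (iv D43809)))
theorem Q27884 : ∀ i, i < 27884 → P i := stepQ 27883 Q27883 (allL N27883 (tt N27631 F202067) (tt N28120 (iv F203177)) (tt N28156 (iv F203402)) (tt N27431 F202068) (tt N28071 (iv F202829)) (tt N27429 F202069) (tt N28115 (iv F203147)) (tt N27428 (iv D43810)) (tt N27883 F202070) (tt N28191 D44118))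
theorem Q27885 : ∀ i, i < 27885 → P i := stepQ 27884 Q27884 (allL N27884 (tt N27632 F202071) (tt N28121 (iv F203184)) (tt N28148 (iv F203352)) (tt N27432 F202072) (tt N28072 (iv F202836)) (tt N27430 F202073) (tt N27452 F202074) (tt N28191 (iv F203605)) (tt N28192 D44119) (tt N27428 (iv D43811)))
theorem Q27886 : ∀ i, i < 27886 → P i := stepQ 27885 Q27885 (allL N27885 (tt N27633 F202075) (tt N28122 (iv F203190)) (tt N28147 (iv F203344)) (tt N27433 F202076) (tt N27450 F202077) (tt N28191 (iv F203604)) (tt N27443 F202078) (tt N27430 F202079) (tt N28128 (iv F203235)) (tt N27429 (iv D43812)))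
theorem Q27887 : ∀ i, i < 27887 → P i := stepQ 27886 Q27886 (allL N27886 (tt N27634 F202080) (tt N28123 (iv F203197)) (tt N27460 F202081) (tt N28191 (iv F203603)) (tt N28098 (iv F203035)) (tt N27433 F202082) (tt N28117 (iv F203162)) (tt N27432 F202083) (tt N28193 D44120) (tt N27431 (iv D43813)))
theorem Q27888 : ∀ i, i < 27888 → P i := stepQ 27887 Q27887 (allL N27887 (tt N27635 F202084) (tt N28124 (iv F203204)) (tt N28190 (iv F203598)) (tt N28192 (iv F203607)) (tt N28099 (iv F203041)) (tt N28194 D44121) (tt N27515 F202085) (tt N28193 (iv F203612)) (tt N27432 (iv D43814)) (tt N27887 F202086))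
theorem Q27889 : ∀ i, i < 27889 → P i := stepQ 27888 Q27888 (allL N27888 (tt N27637 F202087) (tt N28067 (iv F202797)) (tt N28140 (iv F203301)) (tt N28109 (iv F203108)) (tt N28149 (iv F203360)) (tt N27434 (iv D43815)) (tt N27459 F202088) (tt N28182 (iv F203562)) (tt N28194 (iv F203616)) (tt N27435 F202089))
theorem Q27890 : ∀ i, i < 27890 → P i := stepQ 27889 Q27889 (allL N27889 (tt N28090 (iv F202966)) (tt N28074 (iv F202848)) (tt N27587 F202090) (tt N27437 F202091) (tt N28060 (iv F202752)) (tt N28040 (iv F202614)) (tt N28073 (iv F202844)) (tt N27445 F202092) (tt N27608 F202093) (tt N27436 (iv D43816)))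
theorem Q27891 : ∀ i, i < 27891 → P i := stepQ 27890 Q27890 (allL N27890 (tt N27463 F202094) (tt N28172 (iv F203502)) (tt N28167 (iv F203472)) (tt N28165 (iv F203462)) (tt N27595 F202095) (tt N28164 (iv F203457)) (tt N28104 (iv F203078)) (tt N28171 (iv F203499)) (tt N27440 (iv D43817)) (tt N27890 F202096))
theorem Q27892 : ∀ i, i < 27892 → P i := stepQ 27891 Q27891 (allL N27891 (tt N27642 F202097) (tt N28158 (iv F203415)) (tt N27443 F202098) (tt N27446 F202099) (tt N28128 (iv F203232)) (tt N28114 (iv F203142)) (tt N28147 (iv F203347)) (tt N27442 F202100) (tt N27450 F202101) (tt N27441 (iv D43818)))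
theorem Q27893 : ∀ i, i < 27893 → P i := stepQ 27892 Q27892 (allL N27892 (tt N28153 (iv F203377)) (tt N27452 F202102) (tt N28152 (iv F203373)) (tt N27460 F202103) (tt N27597 F202104) (tt N27448 F202105) (tt N28121 (iv F203188)) (tt N28143 (iv F203326)) (tt N28195 D44122) (tt N27447 (iv D43819)))
theorem Q27894 : ∀ i, i < 27894 → P i := stepQ 27893 Q27893 (allL N27893 (tt N27644 F202106) (tt N27508 F202107) (tt N28159 (iv F203423)) (tt N27503 F202108) (tt N28079 (iv F202888)) (tt N27501 F202109) (tt N27451 (iv D43820)) (tt N28115 (iv F203148)) (tt N27893 F202110) (tt N28196 D44123))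
theorem Q27895 : ∀ i, i < 27895 → P i := stepQ 27894 Q27894 (allL N27894 (tt N27645 F202111) (tt N28143 (iv F203321)) (tt N28160 (iv F203429)) (tt N27514 F202112) (tt N28080 (iv F202894)) (tt N27453 F202113) (tt N28196 (iv F203626)) (tt N27452 F202114) (tt N28197 D44124) (tt N27451 (iv D43821)))
theorem Q27896 : ∀ i, i < 27896 → P i := stepQ 27895 Q27895 (allL N27895 (tt N27646 F202115) (tt N28195 (iv F203618)) (tt N28161 (iv F203435)) (tt N27515 F202116) (tt N28081 (iv F202900)) (tt N28170 (iv F203489)) (tt N28192 (iv F203608)) (tt N28197 (iv F203629)) (tt N27452 (iv D43822)) (tt N27895 F202117))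
theorem Q27897 : ∀ i, i < 27897 → P i := stepQ 27896 Q27896 (allL N27896 (tt N28167 (iv F203471)) (tt N28173 (iv F203508)) (tt N27463 F202118) (tt N28162 (iv F203441)) (tt N28142 (iv F203317)) (tt N28171 (iv F203497)) (tt N28069 F202816) (tt N28164 (iv F203458)) (tt N27455 (iv D43823)) (tt N27896 F202119))
theorem Q27898 : ∀ i, i < 27898 → P i := stepQ 27897 Q27897 (allL N27897 (tt N27610 F202120) (tt N28082 (iv F202904)) (tt N27522 F202121) (tt N27532 F202122) (tt N28092 (iv F202987)) (tt N27604 F202123) (tt N28089 (iv F202963)) (tt N27458 F202124) (tt N27531 F202125) (tt N27457 (iv D43824)))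
theorem Q27899 : ∀ i, i < 27899 → P i := stepQ 27898 Q27898 (allL N27898 (tt N28171 (iv F203492)) (tt N28068 (iv F202805)) (tt N28164 (iv F203455)) (tt N28110 (iv F203114)) (tt N28150 (iv F203365)) (tt N28167 (iv F203475)) (tt N28194 (iv F203615)) (tt N27463 F202126) (tt N27459 (iv D43825)) (tt N27898 F202127))
theorem Q27900 : ∀ i, i < 27900 → P i := stepQ 27899 Q27899 (allL N27899 (tt N28172 (iv F203501)) (tt N27515 F202128) (tt N28193 (iv F203611)) (tt N28195 (iv F203619)) (tt N28126 (iv F203217)) (tt N28184 (iv F203570)) (tt N28124 (iv F203206)) (tt N28190 (iv F203600)) (tt N27460 (iv D43826)) (tt N27899 F202129))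
theorem Q27901 : ∀ i, i < 27901 → P i := stepQ 27900 Q27900 (allL N27900 (tt N28086 (iv F202936)) (tt N27634 F202130) (tt N28070 (iv F202819)) (tt N28176 (iv F203525)) (tt N27611 F202131) (tt N27586 F202132) (tt N28182 (iv F203561)) (tt N27462 F202133) (tt N28198 D44125) (tt N27461 (iv D43827)))
theorem Q27902 : ∀ i, i < 27902 → P i := stepQ 27901 Q27901 (allL N27901 (tt N28104 (iv F203073)) (tt N27635 F202134) (tt N28069 (iv F202811)) (tt N28177 (iv F203529)) (tt N28084 (iv F202923)) (tt N28066 (iv F202793)) (tt N27463 F202135) (tt N28198 (iv F203633)) (tt N27462 (iv D43828)) (tt N27901 F202136))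
theorem Q27903 : ∀ i, i < 27903 → P i := stepQ 27902 Q27902 (allL N27902 (tt N28102 (iv F203058)) (tt N27467 F202137) (tt N28079 (iv F202887)) (tt N27578 F202138) (tt N28159 (iv F203424)) (tt N27498 F202139) (tt N27464 (iv D43829)) (tt N28041 (iv F202620)) (tt N27902 F202140) (tt N28199 D44126))
theorem Q27904 : ∀ i, i < 27904 → P i := stepQ 27903 Q27903 (allL N27903 (tt N28100 (iv F203044)) (tt N27468 F202141) (tt N28080 (iv F202893)) (tt N27579 F202142) (tt N28160 (iv F203430)) (tt N27465 F202143) (tt N28199 (iv F203638)) (tt N27577 F202144) (tt N28200 D44127) (tt N27464 (iv D43830)))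
theorem Q27905 : ∀ i, i < 27905 → P i := stepQ 27904 Q27904 (allL N27904 (tt N28030 (iv F202544)) (tt N28157 (iv F203408)) (tt N28201 D44128) (tt N27466 (iv D43831)) (tt N28085 (iv F202931)) (tt N27469 F202145) (tt N28202 D44129) (tt N27613 F202146) (tt N27904 F202147) (tt N28203 D44130))
theorem Q27906 : ∀ i, i < 27906 → P i := stepQ 27905 Q27905 (allL N27905 (tt N28031 (iv F202550)) (tt N28159 (iv F203422)) (tt N27613 F202148) (tt N28202 (iv F203651)) (tt N27467 F202149) (tt N27616 F202150) (tt N27466 (iv D43832)) (tt N28201 (iv F203647)) (tt N27905 F202151) (tt N28204 D44131))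
theorem Q27907 : ∀ i, i < 27907 → P i := stepQ 27906 Q27906 (allL N27906 (tt N28032 (iv F202556)) (tt N28160 (iv F203428)) (tt N28059 (iv F202742)) (tt N28203 (iv F203656)) (tt N27468 F202152) (tt N27470 F202153) (tt N28204 (iv F203662)) (tt N27614 F202154) (tt N28205 D44132) (tt N27466 (iv D43833)))
theorem Q27908 : ∀ i, i < 27908 → P i := stepQ 27907 Q27907 (allL N27907 (tt N28033 (iv F202562)) (tt N28041 (iv F202617)) (tt N28085 (iv F202930)) (tt N27593 F202155) (tt N28201 (iv F203645)) (tt N27506 F202156) (tt N27589 F202157) (tt N27467 (iv D43834)) (tt N27907 F202158) (tt N28206 D44133))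
theorem Q27909 : ∀ i, i < 27909 → P i := stepQ 27908 Q27908 (allL N27908 (tt N28034 (iv F202569)) (tt N28199 (iv F203635)) (tt N28103 (iv F203068)) (tt N28087 (iv F202946)) (tt N28204 (iv F203660)) (tt N27507 F202159) (tt N27468 F202160) (tt N28206 (iv F203669)) (tt N28207 D44134) (tt N27467 (iv D43835)))
theorem Q27910 : ∀ i, i < 27910 → P i := stepQ 27909 Q27909 (allL N27909 (tt N28035 (iv F202575)) (tt N28200 (iv F203639)) (tt N28165 (iv F203461)) (tt N28088 (iv F202954)) (tt N28205 (iv F203663)) (tt N28084 (iv F202924)) (tt N28207 (iv F203670)) (tt N27615 F202161) (tt N27468 (iv D43836)) (tt N27909 F202162))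
theorem Q27911 : ∀ i, i < 27911 → P i := stepQ 27910 Q27910 (allL N27910 (tt N28036 (iv F202582)) (tt N28113 (iv F203133)) (tt N27469 (iv D43837)) (tt N27640 F202163) (tt N27472 F202164) (tt N28201 (iv F203646)) (tt N28046 (iv F202657)) (tt N27616 F202165) (tt N27471 F202166) (tt N28208 D44135))
theorem Q27912 : ∀ i, i < 27912 → P i := stepQ 27911 Q27911 (allL N27911 (tt N28037 (iv F202589)) (tt N28155 (iv F203393)) (tt N28208 (iv F203672)) (tt N27470 F202167) (tt N27474 F202168) (tt N28203 (iv F203657)) (tt N28043 (iv F202633)) (tt N27617 F202169) (tt N28042 (iv F202628)) (tt N27469 (iv D43838)))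
theorem Q27913 : ∀ i, i < 27913 → P i := stepQ 27912 Q27912 (allL N27912 (tt N28047 (iv F202659)) (tt N27472 (iv D43839)) (tt N27629 F202170) (tt N27482 F202171) (tt N28113 (iv F203136)) (tt N27481 F202172) (tt N28111 (iv F203122)) (tt N27618 F202173) (tt N27478 F202174) (tt N28209 D44136))
theorem Q27914 : ∀ i, i < 27914 → P i := stepQ 27913 Q27913 (allL N27913 (tt N28039 (iv F202604)) (tt N28111 (iv F203119)) (tt N27473 F202175) (tt N27483 F202176) (tt N28046 (iv F202655)) (tt N28210 D44137) (tt N27472 (iv D43840)) (tt N28096 (iv F203021)) (tt N27479 F202177) (tt N28211 D44138))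
theorem Q27915 : ∀ i, i < 27915 → P i := stepQ 27914 Q27914 (allL N27914 (tt N28040 (iv F202611)) (tt N28209 (iv F203676)) (tt N27474 F202178) (tt N27484 F202179) (tt N28208 (iv F203674)) (tt N28090 (iv F202971)) (tt N28211 (iv F203690)) (tt N27619 F202180) (tt N28212 D44139) (tt N27472 (iv D43841)))
theorem Q27916 : ∀ i, i < 27916 → P i := stepQ 27915 Q27915 (allL N27915 (tt N28041 (iv F202616)) (tt N28129 (iv F203237)) (tt N28210 (iv F203682)) (tt N27475 F202181) (tt N28213 D44140) (tt N27473 (iv D43842)) (tt N28091 (iv F202980)) (tt N28102 (iv F203064)) (tt N27915 F202182) (tt N28214 D44141))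
theorem Q27917 : ∀ i, i < 27917 → P i := stepQ 27916 Q27916 (allL N27916 (tt N28042 (iv F202622)) (tt N28131 (iv F203249)) (tt N28211 (iv F203688)) (tt N27476 F202183) (tt N28043 (iv F202632)) (tt N28214 (iv F203704)) (tt N27474 F202184) (tt N28101 (iv F203055)) (tt N28037 (iv F202595)) (tt N27473 (iv D43843)))
theorem Q27918 : ∀ i, i < 27918 → P i := stepQ 27917 Q27917 (allL N27917 (tt N28043 (iv F202629)) (tt N28090 (iv F202967)) (tt N28212 (iv F203692)) (tt N27477 F202185) (tt N28042 (iv F202625)) (tt N28209 (iv F203679)) (tt N28037 (iv F202593)) (tt N27620 F202186) (tt N27474 (iv D43844)) (tt N27481 F202187))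
theorem Q27919 : ∀ i, i < 27919 → P i := stepQ 27918 Q27918 (allL N27918 (tt N28044 (iv F202636)) (tt N28132 (iv F203257)) (tt N27490 F202188) (tt N28214 (iv F203703)) (tt N27512 F202189) (tt N27476 F202190) (tt N28094 (iv F203005)) (tt N28127 (iv F203227)) (tt N28215 D44142) (tt N27475 (iv D43845)))
theorem Q27920 : ∀ i, i < 27920 → P i := stepQ 27919 Q27919 (allL N27919 (tt N28045 (iv F202643)) (tt N27484 F202191) (tt N27492 F202192) (tt N28209 (iv F203678)) (tt N27517 F202193) (tt N27477 (iv D43846)) (tt N28188 (iv F203589)) (tt N27621 F202194) (tt N28095 (iv F203013)) (tt N27482 F202195))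
theorem Q27921 : ∀ i, i < 27921 → P i := stepQ 27920 Q27920 (allL N27920 (tt N28046 (iv F202651)) (tt N27623 F202196) (tt N27481 F202197) (tt N27494 F202198) (tt N28039 (iv F202608)) (tt N27629 F202199) (tt N28036 (iv F202586)) (tt N27622 F202200) (tt N27480 (iv D43847)) (tt N28212 (iv F203696)))
theorem Q27922 : ∀ i, i < 27922 → P i := stepQ 27921 Q27921 (allL N27921 (tt N28050 (iv F202682)) (tt N28031 (iv F202551)) (tt N27485 F202201) (tt N28210 (iv F203683)) (tt N27569 F202202) (tt N27483 (iv D43848)) (tt N27583 F202203) (tt N28216 D44143) (tt N27921 F202204) (tt N28217 D44144))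
theorem Q27923 : ∀ i, i < 27923 → P i := stepQ 27922 Q27922 (allL N27922 (tt N28051 (iv F202688)) (tt N28036 (iv F202583)) (tt N27486 F202205) (tt N28096 (iv F203018)) (tt N28038 (iv F202598)) (tt N28216 (iv F203711)) (tt N27623 F202206) (tt N27483 (iv D43849)) (tt N27493 F202207) (tt N28218 D44145))
theorem Q27924 : ∀ i, i < 27924 → P i := stepQ 27923 Q27923 (allL N27923 (tt N28052 (iv F202695)) (tt N28188 (iv F203586)) (tt N27487 F202208) (tt N28211 (iv F203689)) (tt N28075 F202862) (tt N28217 (iv F203716)) (tt N27484 F202209) (tt N28218 (iv F203720)) (tt N28178 (iv F203536)) (tt N27483 (iv D43850)))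
theorem Q27925 : ∀ i, i < 27925 → P i := stepQ 27924 Q27924 (allL N27924 (tt N28053 (iv F202700)) (tt N28095 (iv F203008)) (tt N27488 F202210) (tt N28212 (iv F203693)) (tt N27518 F202211) (tt N27628 F202212) (tt N28178 (iv F203535)) (tt N27625 F202213) (tt N27484 (iv D43851)) (tt N27494 F202214))
theorem Q27926 : ∀ i, i < 27926 → P i := stepQ 27925 Q27925 (allL N27925 (tt N28054 (iv F202708)) (tt N28091 (iv F202976)) (tt N28216 (iv F203708)) (tt N27489 F202215) (tt N28076 (iv F202867)) (tt N27486 F202216) (tt N28129 (iv F203241)) (tt N27485 (iv D43852)) (tt N27925 F202217) (tt N28219 D44146))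
theorem Q27927 : ∀ i, i < 27927 → P i := stepQ 27926 Q27926 (allL N27926 (tt N28055 (iv F202715)) (tt N28125 (iv F203209)) (tt N28217 (iv F203714)) (tt N27490 F202218) (tt N28077 (iv F202874)) (tt N27487 F202219) (tt N28097 (iv F203029)) (tt N28219 (iv F203723)) (tt N28220 D44147) (tt N27485 (iv D43853)))
theorem Q27928 : ∀ i, i < 27928 → P i := stepQ 27927 Q27927 (allL N27927 (tt N28056 (iv F202721)) (tt N28092 (iv F202984)) (tt N28218 (iv F203718)) (tt N27491 F202220) (tt N28082 (iv F202906)) (tt N28219 (iv F203722)) (tt N27626 F202221) (tt N27487 F202222) (tt N28112 (iv F203131)) (tt N27486 (iv D43854)))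
theorem Q27929 : ∀ i, i < 27929 → P i := stepQ 27928 Q27928 (allL N27928 (tt N28057 (iv F202728)) (tt N28094 (iv F203001)) (tt N28127 (iv F203223)) (tt N28219 (iv F203721)) (tt N27514 F202223) (tt N27491 F202224) (tt N28132 (iv F203261)) (tt N27490 F202225) (tt N28221 D44148) (tt N27489 (iv D43855)))
theorem Q27930 : ∀ i, i < 27930 → P i := stepQ 27929 Q27929 (allL N27929 (tt N28058 (iv F202735)) (tt N28126 (iv F203216)) (tt N28215 (iv F203705)) (tt N28220 (iv F203724)) (tt N27515 F202226) (tt N28175 (iv F203522)) (tt N28099 (iv F203042)) (tt N28221 (iv F203727)) (tt N27490 (iv D43856)) (tt N27929 F202227))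
theorem Q27931 : ∀ i, i < 27931 → P i := stepQ 27930 Q27930 (allL N27930 (tt N28093 (iv F202991)) (tt N27642 F202228) (tt N27608 F202229) (tt N27497 F202230) (tt N28064 (iv F202779)) (tt N28189 (iv F203594)) (tt N28078 (iv F202882)) (tt N27516 F202231) (tt N27587 F202232) (tt N27495 (iv D43857)))
theorem Q27932 : ∀ i, i < 27932 → P i := stepQ 27931 Q27931 (allL N27931 (tt N28096 (iv F203015)) (tt N27558 F202233) (tt N27498 F202234) (tt N28051 (iv F202691)) (tt N27622 F202235) (tt N28079 (iv F202889)) (tt N27496 (iv D43858)) (tt N28039 (iv F202609)) (tt N27534 F202236) (tt N28222 D44149))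
theorem Q27933 : ∀ i, i < 27933 → P i := stepQ 27932 Q27932 (allL N27932 (tt N28095 (iv F203007)) (tt N27559 F202237) (tt N27499 F202238) (tt N28189 (iv F203593)) (tt N27621 F202239) (tt N27497 F202240) (tt N28222 (iv F203732)) (tt N27517 F202241) (tt N28045 (iv F202648)) (tt N27496 (iv D43859)))
theorem Q27934 : ∀ i, i < 27934 → P i := stepQ 27933 Q27933 (allL N27933 (tt N28101 (iv F203051)) (tt N27507 F202242) (tt N28222 (iv F203730)) (tt N27609 F202243) (tt N27620 F202244) (tt N28199 (iv F203637)) (tt N27499 F202245) (tt N28042 (iv F202627)) (tt N27617 F202246) (tt N27498 (iv D43860)))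
theorem Q27935 : ∀ i, i < 27935 → P i := stepQ 27934 Q27934 (allL N27934 (tt N28048 (iv F202667)) (tt N27616 F202247) (tt N27501 F202248) (tt N28118 (iv F203167)) (tt N27618 F202249) (tt N28159 (iv F203425)) (tt N27500 (iv D43861)) (tt N28113 (iv F203137)) (tt N27505 F202250) (tt N28223 D44150))
theorem Q27936 : ∀ i, i < 27936 → P i := stepQ 27935 Q27935 (allL N27935 (tt N28049 (iv F202675)) (tt N28045 (iv F202644)) (tt N27502 F202251) (tt N28181 (iv F203552)) (tt N27625 F202252) (tt N27533 F202253) (tt N28223 (iv F203737)) (tt N27518 F202254) (tt N27559 F202255) (tt N27500 (iv D43862)))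
theorem Q27937 : ∀ i, i < 27937 → P i := stepQ 27936 Q27936 (allL N27936 (tt N28083 (iv F202911)) (tt N27510 F202256) (tt N28223 (iv F203735)) (tt N27504 F202257) (tt N27627 F202258) (tt N28196 (iv F203625)) (tt N27502 F202259) (tt N28116 (iv F203155)) (tt N27562 F202260) (tt N27501 (iv D43863)))
theorem Q27938 : ∀ i, i < 27938 → P i := stepQ 27937 Q27937 (allL N27937 (tt N28067 (iv F202796)) (tt N27512 F202261) (tt N28123 (iv F203198)) (tt N28196 (iv F203624)) (tt N28132 (iv F203259)) (tt N27504 F202262) (tt N27514 F202263) (tt N28117 (iv F203163)) (tt N28224 D44151) (tt N27503 (iv D43864)))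
theorem Q27939 : ∀ i, i < 27939 → P i := stepQ 27938 Q27938 (allL N27938 (tt N28060 (iv F202748)) (tt N28042 (iv F202623)) (tt N28089 (iv F202960)) (tt N27638 F202264) (tt N28090 (iv F202970)) (tt N28206 (iv F203667)) (tt N27522 F202265) (tt N27507 F202266) (tt N28155 (iv F203398)) (tt N27506 (iv D43865)))
theorem Q27940 : ∀ i, i < 27940 → P i := stepQ 27939 Q27939 (allL N27939 (tt N28061 (iv F202756)) (tt N28079 (iv F202886)) (tt N27560 F202267) (tt N28213 (iv F203698)) (tt N27508 (iv D43866)) (tt N27558 F202268) (tt N27601 F202269) (tt N28225 D44152) (tt N27939 F202270) (tt N28226 D44153))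
theorem Q27941 : ∀ i, i < 27941 → P i := stepQ 27940 Q27940 (allL N27940 (tt N28062 (iv F202762)) (tt N28115 (iv F203145)) (tt N28157 (iv F203409)) (tt N27511 F202271) (tt N28225 (iv F203745)) (tt N27509 F202272) (tt N28120 (iv F203181)) (tt N27508 (iv D43867)) (tt N27940 F202273) (tt N28227 D44154))
theorem Q27942 : ∀ i, i < 27942 → P i := stepQ 27941 Q27941 (allL N27941 (tt N28063 (iv F202769)) (tt N28196 (iv F203623)) (tt N28154 (iv F203387)) (tt N27512 F202274) (tt N28226 (iv F203750)) (tt N27510 F202275) (tt N28143 (iv F203325)) (tt N28227 (iv F203755)) (tt N28228 D44155) (tt N27508 (iv D43868)))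
theorem Q27943 : ∀ i, i < 27943 → P i := stepQ 27942 Q27942 (allL N27942 (tt N28064 (iv F202775)) (tt N28116 (iv F203151)) (tt N28155 (iv F203394)) (tt N27513 F202276) (tt N28093 (iv F202995)) (tt N28227 (iv F203754)) (tt N27531 F202277) (tt N27510 F202278) (tt N28089 (iv F202965)) (tt N27509 (iv D43869)))
theorem Q27944 : ∀ i, i < 27944 → P i := stepQ 27943 Q27943 (allL N27943 (tt N28065 (iv F202783)) (tt N28117 (iv F203158)) (tt N27514 F202279) (tt N28227 (iv F203753)) (tt N28127 (iv F203224)) (tt N27513 F202280) (tt N28123 (iv F203201)) (tt N27512 F202281) (tt N28229 D44156) (tt N27511 (iv D43870)))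
theorem Q27945 : ∀ i, i < 27945 → P i := stepQ 27944 Q27944 (allL N27944 (tt N28066 (iv F202790)) (tt N28224 (iv F203739)) (tt N27515 F202282) (tt N28228 (iv F203756)) (tt N28215 (iv F203706)) (tt N28104 (iv F203077)) (tt N28190 (iv F203599)) (tt N28229 (iv F203759)) (tt N27512 (iv D43871)) (tt N27944 F202283))
theorem Q27946 : ∀ i, i < 27946 → P i := stepQ 27945 Q27945 (allL N27945 (tt N28068 (iv F202804)) (tt N28190 (iv F203597)) (tt N28229 (iv F203758)) (tt N28197 (iv F203628)) (tt N28221 (iv F203726)) (tt N28169 (iv F203484)) (tt N28224 (iv F203741)) (tt N27515 F202284) (tt N27514 (iv D43872)) (tt N27945 F202285))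
theorem Q27947 : ∀ i, i < 27947 → P i := stepQ 27946 Q27946 (allL N27946 (tt N28071 (iv F202825)) (tt N28030 (iv F202545)) (tt N28091 (iv F202977)) (tt N27583 F202286) (tt N27631 F202287) (tt N27520 F202288) (tt N28210 (iv F203685)) (tt N27519 (iv D43873)) (tt N27946 F202289) (tt N28230 D44157))
theorem Q27948 : ∀ i, i < 27948 → P i := stepQ 27947 Q27947 (allL N27947 (tt N28072 (iv F202832)) (tt N28174 (iv F203515)) (tt N28125 (iv F203210)) (tt N28134 (iv F203269)) (tt N27632 F202290) (tt N27521 F202291) (tt N27528 F202292) (tt N28230 (iv F203764)) (tt N28231 D44158) (tt N27519 (iv D43874)))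
theorem Q27949 : ∀ i, i < 27949 → P i := stepQ 27948 Q27948 (allL N27948 (tt N28073 (iv F202839)) (tt N28037 (iv F202590)) (tt N28092 (iv F202985)) (tt N27582 F202293) (tt N27522 F202294) (tt N28230 (iv F203763)) (tt N28090 (iv F202972)) (tt N27521 F202295) (tt N28131 (iv F203255)) (tt N27520 (iv D43875)))
theorem Q27950 : ∀ i, i < 27950 → P i := stepQ 27949 Q27949 (allL N27949 (tt N28074 (iv F202847)) (tt N28043 (iv F202630)) (tt N27531 F202296) (tt N27533 F202297) (tt N28131 (iv F203252)) (tt N28181 (iv F203553)) (tt N28155 (iv F203397)) (tt N27523 F202298) (tt N27522 (iv D43876)) (tt N27530 F202299))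
theorem Q27951 : ∀ i, i < 27951 → P i := stepQ 27950 Q27950 (allL N27950 (tt N28076 (iv F202863)) (tt N28105 (iv F203081)) (tt N28129 (iv F203238)) (tt N27527 F202300) (tt N28054 (iv F202711)) (tt N27525 F202301) (tt N28216 (iv F203712)) (tt N27524 (iv D43877)) (tt N27950 F202302) (tt N28232 D44159))
theorem Q27952 : ∀ i, i < 27952 → P i := stepQ 27951 Q27951 (allL N27951 (tt N28077 (iv F202870)) (tt N28144 (iv F203329)) (tt N28130 (iv F203244)) (tt N27528 F202303) (tt N28055 (iv F202718)) (tt N27526 F202304) (tt N28134 (iv F203271)) (tt N28232 (iv F203770)) (tt N28233 D44160) (tt N27524 (iv D43878)))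
theorem Q27953 : ∀ i, i < 27953 → P i := stepQ 27952 Q27952 (allL N27952 (tt N28078 (iv F202877)) (tt N28112 (iv F203126)) (tt N28131 (iv F203250)) (tt N27529 F202305) (tt N27531 F202306) (tt N28232 (iv F203769)) (tt N28093 (iv F202996)) (tt N27526 F202307) (tt N28092 (iv F202990)) (tt N27525 (iv D43879)))
theorem Q27954 : ∀ i, i < 27954 → P i := stepQ 27953 Q27953 (allL N27953 (tt N28079 (iv F202885)) (tt N28106 (iv F203087)) (tt N28102 (iv F203060)) (tt N28216 (iv F203709)) (tt N27644 F202308) (tt N28096 (iv F203020)) (tt N27527 (iv D43880)) (tt N28210 (iv F203686)) (tt N27953 F202309) (tt N28234 D44161))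
theorem Q27955 : ∀ i, i < 27955 → P i := stepQ 27954 Q27954 (allL N27954 (tt N28080 (iv F202891)) (tt N28107 (iv F203093)) (tt N28100 (iv F203046)) (tt N28232 (iv F203768)) (tt N27645 F202310) (tt N27529 F202311) (tt N28234 (iv F203774)) (tt N27528 F202312) (tt N28235 D44162) (tt N27527 (iv D43881)))
theorem Q27956 : ∀ i, i < 27956 → P i := stepQ 27955 Q27955 (allL N27955 (tt N28081 (iv F202897)) (tt N28175 (iv F203520)) (tt N28135 (iv F203275)) (tt N28233 (iv F203771)) (tt N27646 F202313) (tt N28126 (iv F203218)) (tt N28231 (iv F203766)) (tt N28235 (iv F203776)) (tt N27528 (iv D43882)) (tt N27955 F202314))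
theorem Q27957 : ∀ i, i < 27957 → P i := stepQ 27956 Q27956 (allL N27956 (tt N28098 (iv F203031)) (tt N27611 F202315) (tt N27542 F202316) (tt N27581 F202317) (tt N27634 F202318) (tt N27537 F202319) (tt N27573 F202320) (tt N27612 F202321) (tt N28236 D44163) (tt N27536 (iv D43883)))
theorem Q27958 : ∀ i, i < 27958 → P i := stepQ 27957 Q27957 (allL N27957 (tt N28091 (iv F202975)) (tt N27589 F202322) (tt N28071 (iv F202827)) (tt N27541 F202323) (tt N28156 (iv F203404)) (tt N27539 F202324) (tt N28041 (iv F202619)) (tt N27538 (iv D43884)) (tt N27957 F202325) (tt N28237 D44164))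
theorem Q27959 : ∀ i, i < 27959 → P i := stepQ 27958 Q27958 (allL N27958 (tt N28125 (iv F203208)) (tt N27590 F202326) (tt N28072 (iv F202834)) (tt N27542 F202327) (tt N28148 (iv F203354)) (tt N27540 F202328) (tt N27577 F202329) (tt N28237 (iv F203789)) (tt N28238 D44165) (tt N27538 (iv D43885)))
theorem Q27960 : ∀ i, i < 27960 → P i := stepQ 27959 Q27959 (allL N27959 (tt N28092 (iv F202983)) (tt N27591 F202330) (tt N28073 (iv F202841)) (tt N27543 F202331) (tt N27610 F202332) (tt N28237 (iv F203788)) (tt N27587 F202333) (tt N27540 F202334) (tt N28078 (iv F202884)) (tt N27539 (iv D43886)))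
theorem Q27961 : ∀ i, i < 27961 → P i := stepQ 27960 Q27960 (allL N27960 (tt N28094 (iv F203000)) (tt N27594 F202335) (tt N27612 F202336) (tt N28237 (iv F203787)) (tt N27630 F202337) (tt N27543 F202338) (tt N28044 (iv F202641)) (tt N27542 F202339) (tt N28239 D44166) (tt N27541 (iv D43887)))
theorem Q27962 : ∀ i, i < 27962 → P i := stepQ 27961 Q27961 (allL N27961 (tt N28126 (iv F203215)) (tt N27595 F202340) (tt N28236 (iv F203779)) (tt N28238 (iv F203791)) (tt N28172 (iv F203504)) (tt N28081 (iv F202901)) (tt N27580 F202341) (tt N28239 (iv F203797)) (tt N27542 (iv D43888)) (tt N27961 F202342))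
theorem Q27963 : ∀ i, i < 27963 → P i := stepQ 27962 Q27962 (allL N27962 (tt N28143 (iv F203320)) (tt N27548 F202343) (tt N27597 F202344) (tt N27630 F202345) (tt N28152 (iv F203374)) (tt N27545 F202346) (tt N28063 (iv F202774)) (tt N28153 (iv F203382)) (tt N28185 (iv F203575)) (tt N27544 (iv D43889)))
theorem Q27964 : ∀ i, i < 27964 → P i := stepQ 27963 Q27963 (allL N27963 (tt N28105 (iv F203080)) (tt N28156 (iv F203401)) (tt N28202 (iv F203650)) (tt N27546 (iv D43890)) (tt N27589 F202347) (tt N27549 F202348) (tt N28201 F203649) (tt N27588 F202349) (tt N27963 F202350) (tt N28240 D44167))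
theorem Q27965 : ∀ i, i < 27965 → P i := stepQ 27964 Q27964 (allL N27964 (tt N28106 (iv F203086)) (tt N28061 (iv F202757)) (tt N27588 F202351) (tt N28201 (iv F203644)) (tt N27547 F202352) (tt N27640 F202353) (tt N27546 (iv D43891)) (tt N28202 (iv F203654)) (tt N27964 F202354) (tt N28241 D44168))
theorem Q27966 : ∀ i, i < 27966 → P i := stepQ 27965 Q27965 (allL N27965 (tt N28107 (iv F203092)) (tt N28152 (iv F203372)) (tt N27614 F202355) (tt N28240 (iv F203799)) (tt N27548 F202356) (tt N27550 F202357) (tt N28241 (iv F203806)) (tt N28059 (iv F202746)) (tt N28242 D44169) (tt N27546 (iv D43892)))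
theorem Q27967 : ∀ i, i < 27967 → P i := stepQ 27966 Q27966 (allL N27966 (tt N28108 (iv F203098)) (tt N28062 (iv F202763)) (tt N27589 F202358) (tt N27639 F202359) (tt N28202 (iv F203652)) (tt N27567 F202360) (tt N28085 (iv F202933)) (tt N27547 (iv D43893)) (tt N27966 F202361) (tt N28243 D44170))
theorem Q27968 : ∀ i, i < 27968 → P i := stepQ 27967 Q27967 (allL N27967 (tt N28109 (iv F203105)) (tt N28063 (iv F202770)) (tt N27590 F202362) (tt N27637 F202363) (tt N28241 (iv F203804)) (tt N27568 F202364) (tt N27548 F202365) (tt N28243 (iv F203813)) (tt N28244 D44171) (tt N27547 (iv D43894)))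
theorem Q27969 : ∀ i, i < 27969 → P i := stepQ 27968 Q27968 (allL N27968 (tt N28110 (iv F203111)) (tt N28185 (iv F203572)) (tt N27615 F202366) (tt N28171 (iv F203495)) (tt N28242 (iv F203808)) (tt N28162 (iv F203442)) (tt N28244 (iv F203817)) (tt N28165 (iv F203464)) (tt N27548 (iv D43895)) (tt N27968 F202367))
theorem Q27970 : ∀ i, i < 27970 → P i := stepQ 27969 Q27969 (allL N27969 (tt N28111 (iv F203118)) (tt N28118 (iv F203165)) (tt N27549 (iv D43896)) (tt N27616 F202368) (tt N27552 F202369) (tt N28202 (iv F203653)) (tt N28047 (iv F202665)) (tt N27640 F202370) (tt N27551 F202371) (tt N28245 D44172))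
theorem Q27971 : ∀ i, i < 27971 → P i := stepQ 27970 Q27970 (allL N27970 (tt N28112 (iv F203125)) (tt N28147 (iv F203343)) (tt N28245 (iv F203819)) (tt N27550 F202372) (tt N27554 F202373) (tt N28240 (iv F203801)) (tt N28158 (iv F203418)) (tt N27643 F202374) (tt N28056 (iv F202727)) (tt N27549 (iv D43897)))
theorem Q27972 : ∀ i, i < 27972 → P i := stepQ 27971 Q27971 (allL N27971 (tt N28113 (iv F203132)) (tt N28051 (iv F202689)) (tt N27553 F202375) (tt N27558 F202376) (tt N28047 F202666) (tt N28213 (iv F203699)) (tt N27552 (iv D43898)) (tt N28048 (iv F202673)) (tt N27557 F202377) (tt N28246 D44173))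
theorem Q27973 : ∀ i, i < 27973 → P i := stepQ 27972 Q27972 (allL N27972 (tt N28114 (iv F203139)) (tt N28189 (iv F203591)) (tt N27554 F202378) (tt N27559 F202379) (tt N28245 (iv F203821)) (tt N27642 F202380) (tt N28246 (iv F203825)) (tt N27641 F202381) (tt N28181 (iv F203555)) (tt N27552 (iv D43899)))
theorem Q27974 : ∀ i, i < 27974 → P i := stepQ 27973 Q27973 (allL N27973 (tt N28115 (iv F203144)) (tt N28108 (iv F203099)) (tt N28213 (iv F203697)) (tt N27555 F202382) (tt N28210 (iv F203684)) (tt N27553 (iv D43900)) (tt N27631 F202383) (tt N27644 F202384) (tt N27973 F202385) (tt N28247 D44174))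
theorem Q27975 : ∀ i, i < 27975 → P i := stepQ 27974 Q27974 (allL N27974 (tt N28116 (iv F203150)) (tt N28128 (iv F203229)) (tt N28246 (iv F203823)) (tt N27556 F202386) (tt N28158 (iv F203417)) (tt N28247 (iv F203827)) (tt N27554 F202387) (tt N28083 (iv F202917)) (tt N28122 (iv F203195)) (tt N27553 (iv D43901)))
theorem Q27976 : ∀ i, i < 27976 → P i := stepQ 27975 Q27975 (allL N27975 (tt N28117 (iv F203157)) (tt N28182 (iv F203557)) (tt N27564 F202388) (tt N28247 (iv F203826)) (tt N27573 F202389) (tt N27556 F202390) (tt N27634 F202391) (tt N28067 (iv F202803)) (tt N28248 D44175) (tt N27555 (iv D43902)))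
theorem Q27977 : ∀ i, i < 27977 → P i := stepQ 27976 Q27976 (allL N27976 (tt N28118 (iv F203164)) (tt N28039 (iv F202605)) (tt N27561 F202392) (tt N28048 (iv F202670)) (tt N27623 F202393) (tt N28225 (iv F203746)) (tt N28038 F202603) (tt N27558 (iv D43903)) (tt N27566 F202394) (tt N28249 D44176))
theorem Q27978 : ∀ i, i < 27978 → P i := stepQ 27977 Q27977 (allL N27977 (tt N28119 (iv F203171)) (tt N28222 (iv F203729)) (tt N27562 F202395) (tt N28246 (iv F203824)) (tt N27624 F202396) (tt N28226 (iv F203751)) (tt N27559 F202397) (tt N28249 (iv F203836)) (tt N28223 (iv F203738)) (tt N27558 (iv D43904)))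
theorem Q27979 : ∀ i, i < 27979 → P i := stepQ 27978 Q27978 (allL N27978 (tt N28120 (iv F203176)) (tt N28085 (iv F202929)) (tt N28225 (iv F203743)) (tt N27563 F202398) (tt N28157 (iv F203411)) (tt N27561 F202399) (tt N28062 (iv F202767)) (tt N27560 (iv D43905)) (tt N27978 F202400) (tt N28250 D44177))
theorem Q27980 : ∀ i, i < 27980 → P i := stepQ 27979 Q27979 (allL N27979 (tt N28121 (iv F203183)) (tt N28103 (iv F203067)) (tt N28226 (iv F203749)) (tt N27564 F202401) (tt N28154 (iv F203389)) (tt N27562 F202402) (tt N28153 F203384) (tt N28250 (iv F203839)) (tt N28251 D44178) (tt N27560 (iv D43906)))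
theorem Q27981 : ∀ i, i < 27981 → P i := stepQ 27980 Q27980 (allL N27980 (tt N28122 (iv F203189)) (tt N28089 (iv F202959)) (tt N28249 (iv F203834)) (tt N27565 F202403) (tt N27626 F202404) (tt N28250 (iv F203838)) (tt N28082 (iv F202908)) (tt N27562 F202405) (tt N28116 (iv F203156)) (tt N27561 (iv D43907)))
theorem Q27982 : ∀ i, i < 27982 → P i := stepQ 27981 Q27981 (allL N27981 (tt N28123 (iv F203196)) (tt N28086 (iv F202937)) (tt N28067 (iv F202798)) (tt N28250 (iv F203837)) (tt N27579 F202406) (tt N27565 F202407) (tt N28065 (iv F202788)) (tt N27564 F202408) (tt N28252 D44179) (tt N27563 (iv D43908)))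
theorem Q27983 : ∀ i, i < 27983 → P i := stepQ 27982 Q27982 (allL N27982 (tt N28124 (iv F203203)) (tt N28104 (iv F203074)) (tt N28248 (iv F203830)) (tt N28251 (iv F203840)) (tt N27580 F202409) (tt N28224 (iv F203740)) (tt N28172 (iv F203505)) (tt N28252 (iv F203843)) (tt N27564 (iv D43909)) (tt N27982 F202410))
theorem Q27984 : ∀ i, i < 27984 → P i := stepQ 27983 Q27983 (allL N27983 (tt N28128 (iv F203228)) (tt N28064 (iv F202776)) (tt N27591 F202411) (tt N27636 F202412) (tt N27642 F202413) (tt N28243 (iv F203812)) (tt N27604 F202414) (tt N27568 F202415) (tt N27633 F202416) (tt N27567 (iv D43910)))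
theorem Q27985 : ∀ i, i < 27985 → P i := stepQ 27984 Q27984 (allL N27984 (tt N28129 (iv F203236)) (tt N28033 (iv F202563)) (tt N28076 (iv F202865)) (tt N27572 F202417) (tt N28216 (iv F203710)) (tt N27570 F202418) (tt N28054 (iv F202713)) (tt N27569 (iv D43911)) (tt N27984 F202419) (tt N28253 D44180))
theorem Q27986 : ∀ i, i < 27986 → P i := stepQ 27985 Q27985 (allL N27985 (tt N28130 (iv F203243)) (tt N28034 (iv F202570)) (tt N28077 (iv F202872)) (tt N27573 F202420) (tt N28217 (iv F203715)) (tt N27571 F202421) (tt N27581 F202422) (tt N28253 (iv F203847)) (tt N28254 D44181) (tt N27569 (iv D43912)))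
theorem Q27987 : ∀ i, i < 27987 → P i := stepQ 27986 Q27986 (allL N27986 (tt N28131 (iv F203248)) (tt N28060 (iv F202749)) (tt N28078 (iv F202879)) (tt N27574 F202423) (tt N28074 (iv F202851)) (tt N28253 (iv F203846)) (tt N27608 F202424) (tt N27571 F202425) (tt N28073 (iv F202846)) (tt N27570 (iv D43913)))
theorem Q27988 : ∀ i, i < 27988 → P i := stepQ 27987 Q27987 (allL N27987 (tt N28132 (iv F203256)) (tt N28149 (iv F203358)) (tt N27579 F202426) (tt N28253 (iv F203845)) (tt N28067 (iv F202800)) (tt N27574 F202427) (tt N28057 (iv F202733)) (tt N27573 F202428) (tt N28255 D44182) (tt N27572 (iv D43914)))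
theorem Q27989 : ∀ i, i < 27989 → P i := stepQ 27988 Q27988 (allL N27988 (tt N28133 (iv F203263)) (tt N28183 (iv F203563)) (tt N27580 F202429) (tt N28254 (iv F203848)) (tt N28248 (iv F203831)) (tt N28256 D44183) (tt N28236 (iv F203783)) (tt N28255 (iv F203852)) (tt N27573 (iv D43915)) (tt N27988 F202430))
theorem Q27990 : ∀ i, i < 27990 → P i := stepQ 27989 Q27989 (allL N27989 (tt N28134 (iv F203266)) (tt N27606 F202431) (tt N27581 F202432) (tt N28072 (iv F202835)) (tt N28097 (iv F203027)) (tt N27575 (iv D43916)) (tt N28077 (iv F202876)) (tt N28138 (iv F203289)) (tt N28256 (iv F203856)) (tt N27576 F202433))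
theorem Q27991 : ∀ i, i < 27991 → P i := stepQ 27990 Q27990 (allL N27990 (tt N28135 (iv F203274)) (tt N27615 F202434) (tt N28081 (iv F202899)) (tt N27580 F202435) (tt N28161 (iv F203436)) (tt N28236 (iv F203782)) (tt N28238 (iv F203792)) (tt N28200 (iv F203642)) (tt N27577 (iv D43917)) (tt N27990 F202436))
theorem Q27992 : ∀ i, i < 27992 → P i := stepQ 27991 Q27991 (allL N27991 (tt N28127 (iv F203221)) (tt N28087 (iv F202944)) (tt N28057 (iv F202730)) (tt N28199 (iv F203636)) (tt N28065 (iv F202786)) (tt N27609 F202437) (tt N27579 F202438) (tt N28044 (iv F202642)) (tt N28257 D44184) (tt N27578 (iv D43918)))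
theorem Q27993 : ∀ i, i < 27993 → P i := stepQ 27992 Q27992 (allL N27992 (tt N28136 (iv F203279)) (tt N28088 (iv F202952)) (tt N28255 (iv F203851)) (tt N28200 (iv F203640)) (tt N28252 (iv F203842)) (tt N28186 (iv F203579)) (tt N28257 (iv F203859)) (tt N27580 F202439) (tt N27579 (iv D43919)) (tt N27992 F202440))
theorem Q27994 : ∀ i, i < 27994 → P i := stepQ 27993 Q27993 (allL N27993 (tt N28137 (iv F203282)) (tt N28035 (iv F202576)) (tt N28256 (iv F203855)) (tt N28236 (iv F203780)) (tt N28258 D44185) (tt N27580 (iv D43920)) (tt N28254 (iv F203849)) (tt N28186 (iv F203580)) (tt N27581 F202441) (tt N27993 F202442))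
theorem Q27995 : ∀ i, i < 27995 → P i := stepQ 27994 Q27994 (allL N27994 (tt N28138 (iv F203285)) (tt N28032 (iv F202557)) (tt N28097 (iv F203025)) (tt N28230 (iv F203761)) (tt N27581 (iv D43921)) (tt N27582 F202443) (tt N28217 (iv F203717)) (tt N28134 (iv F203272)) (tt N28258 (iv F203861)) (tt N27583 F202444))
theorem Q27996 : ∀ i, i < 27996 → P i := stepQ 27995 Q27995 (allL N27995 (tt N28089 (iv F202958)) (tt N27633 F202445) (tt N28060 (iv F202750)) (tt N27586 F202446) (tt N27587 F202447) (tt N28176 (iv F203526)) (tt N27610 F202448) (tt N27585 F202449) (tt N28064 (iv F202782)) (tt N27584 (iv D43922)))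
theorem Q27997 : ∀ i, i < 27997 → P i := stepQ 27996 Q27996 (allL N27996 (tt N28144 (iv F203328)) (tt N28148 (iv F203351)) (tt N28241 (iv F203803)) (tt N28059 (iv F202743)) (tt N27590 F202450) (tt N27643 F202451) (tt N27614 F202452) (tt N28240 (iv F203802)) (tt N28259 D44186) (tt N27588 (iv D43923)))
theorem Q27998 : ∀ i, i < 27998 → P i := stepQ 27997 Q27997 (allL N27997 (tt N28145 (iv F203334)) (tt N28237 (iv F203786)) (tt N28243 (iv F203810)) (tt N27594 F202453) (tt N28240 (iv F203800)) (tt N27591 F202454) (tt N28206 (iv F203668)) (tt N27590 F202455) (tt N28260 D44187) (tt N27589 (iv D43924)))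
theorem Q27999 : ∀ i, i < 27999 → P i := stepQ 27998 Q27998 (allL N27998 (tt N28146 (iv F203338)) (tt N28238 (iv F203790)) (tt N28244 (iv F203814)) (tt N27595 F202456) (tt N28259 (iv F203863)) (tt N28261 D44188) (tt N27615 F202457) (tt N28260 (iv F203867)) (tt N27590 (iv D43925)) (tt N27998 F202458))
theorem Q28000 : ∀ i, i < 28000 → P i := stepQ 27999 Q27999 (allL N27999 (tt N28147 (iv F203342)) (tt N28078 (iv F202878)) (tt N27633 F202459) (tt N27596 F202460) (tt N27604 F202461) (tt N28262 D44189) (tt N27642 F202462) (tt N27592 F202463) (tt N27591 (iv D43926)) (tt N27599 F202464))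
theorem Q28001 : ∀ i, i < 28001 → P i := stepQ 28000 Q28000 (allL N28000 (tt N28148 (iv F203350)) (tt N28077 (iv F202871)) (tt N27632 F202465) (tt N27597 F202466) (tt N28125 (iv F203212)) (tt N27592 (iv D43927)) (tt N27606 F202467) (tt N28262 (iv F203876)) (tt N28261 (iv F203872)) (tt N27600 F202468))
theorem Q28002 : ∀ i, i < 28002 → P i := stepQ 28001 Q28001 (allL N28001 (tt N28149 (iv F203357)) (tt N28044 (iv F202637)) (tt N28139 (iv F203293)) (tt N28206 (iv F203666)) (tt N27637 F202469) (tt N27638 F202470) (tt N27594 F202471) (tt N28087 (iv F202950)) (tt N28263 D44190) (tt N27593 (iv D43928)))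
theorem Q28003 : ∀ i, i < 28003 → P i := stepQ 28002 Q28002 (allL N28002 (tt N28150 (iv F203364)) (tt N28239 (iv F203794)) (tt N28166 (iv F203467)) (tt N28260 (iv F203866)) (tt N28171 (iv F203496)) (tt N28264 D44191) (tt N28263 (iv F203879)) (tt N27595 F202472) (tt N27594 (iv D43929)) (tt N28002 F202473))
theorem Q28004 : ∀ i, i < 28004 → P i := stepQ 28003 Q28003 (allL N28003 (tt N28151 (iv F203368)) (tt N28081 (iv F202898)) (tt N28185 (iv F203573)) (tt N28261 (iv F203870)) (tt N28195 (iv F203620)) (tt N27595 (iv D43930)) (tt N28265 D44192) (tt N28264 (iv F203881)) (tt N27597 F202474) (tt N28003 F202475))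
theorem Q28005 : ∀ i, i < 28005 → P i := stepQ 28004 Q28004 (allL N28004 (tt N28152 (iv F203371)) (tt N28080 (iv F202892)) (tt N28153 (iv F203379)) (tt N28262 (iv F203875)) (tt N28143 (iv F203324)) (tt N27596 (iv D43931)) (tt N28226 (iv F203752)) (tt N27597 F202476) (tt N28264 (iv F203882)) (tt N27601 F202477))
theorem Q28006 : ∀ i, i < 28006 → P i := stepQ 28005 Q28005 (allL N28005 (tt N28154 (iv F203385)) (tt N28072 (iv F202833)) (tt N28063 (iv F202771)) (tt N27606 F202478) (tt N28121 (iv F203186)) (tt N27598 F202479) (tt N27597 (iv D43932)) (tt N28266 D44193) (tt N28265 (iv F203885)) (tt N27602 F202480))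
theorem Q28007 : ∀ i, i < 28007 → P i := stepQ 28006 Q28006 (allL N28006 (tt N28155 (iv F203392)) (tt N28073 (iv F202840)) (tt N28064 (iv F202777)) (tt N27607 F202481) (tt N27608 F202482) (tt N28266 (iv F203888)) (tt N28074 (iv F202852)) (tt N27598 (iv D43933)) (tt N28060 (iv F202755)) (tt N27603 F202483))
theorem Q28008 : ∀ i, i < 28008 → P i := stepQ 28007 Q28007 (allL N28007 (tt N28156 (iv F203400)) (tt N28076 (iv F202864)) (tt N27631 F202484) (tt N27601 F202485) (tt N28091 (iv F202979)) (tt N27599 (iv D43934)) (tt N28213 (iv F203700)) (tt N27600 F202486) (tt N28007 F202487) (tt N28262 (iv F203877)))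
theorem Q28009 : ∀ i, i < 28009 → P i := stepQ 28008 Q28008 (allL N28008 (tt N28157 (iv F203407)) (tt N28071 (iv F202826)) (tt N28062 (iv F202764)) (tt N27605 F202488) (tt N28120 (iv F203179)) (tt N27603 F202489) (tt N28225 (iv F203747)) (tt N27602 (iv D43935)) (tt N28008 F202490) (tt N28266 (iv F203889)))
theorem Q28010 : ∀ i, i < 28010 → P i := stepQ 28009 Q28009 (allL N28009 (tt N28159 (iv F203421)) (tt N28050 (iv F202683)) (tt N27644 F202491) (tt N28225 (iv F203744)) (tt N28102 (iv F203062)) (tt N28048 (iv F202672)) (tt N27605 (iv D43936)) (tt N28213 (iv F203701)) (tt N28009 F202492) (tt N28267 D44194))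
theorem Q28011 : ∀ i, i < 28011 → P i := stepQ 28010 Q28010 (allL N28010 (tt N28160 (iv F203427)) (tt N28138 (iv F203286)) (tt N27645 F202493) (tt N28266 (iv F203887)) (tt N28100 (iv F203048)) (tt N27607 F202494) (tt N28267 (iv F203891)) (tt N27606 F202495) (tt N28268 D44195) (tt N27605 (iv D43937)))
theorem Q28012 : ∀ i, i < 28012 → P i := stepQ 28011 Q28011 (allL N28011 (tt N28161 (iv F203433)) (tt N28256 (iv F203854)) (tt N27646 F202496) (tt N28265 (iv F203884)) (tt N28135 (iv F203277)) (tt N28183 (iv F203565)) (tt N28261 (iv F203871)) (tt N28268 (iv F203893)) (tt N27606 (iv D43938)) (tt N28011 F202497))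
theorem Q28013 : ∀ i, i < 28013 → P i := stepQ 28012 Q28012 (allL N28012 (tt N28088 (iv F202951)) (tt N28236 (iv F203778)) (tt N28162 (iv F203440)) (tt N28035 (iv F202578)) (tt N28198 (iv F203632)) (tt N27615 F202498) (tt N28183 (iv F203566)) (tt N28084 (iv F202926)) (tt N27611 (iv D43939)) (tt N28012 F202499))
theorem Q28014 : ∀ i, i < 28014 → P i := stepQ 28013 Q28013 (allL N28013 (tt N28099 (iv F203039)) (tt N28084 (iv F202920)) (tt N28239 (iv F203795)) (tt N28186 (iv F203578)) (tt N27635 F202500) (tt N28200 (iv F203641)) (tt N28058 (iv F202738)) (tt N28236 (iv F203784)) (tt N27612 (iv D43940)) (tt N28013 F202501))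
theorem Q28015 : ∀ i, i < 28015 → P i := stepQ 28014 Q28014 (allL N28014 (tt N28174 (iv F203514)) (tt N28154 (iv F203386)) (tt N28204 (iv F203659)) (tt N27614 F202502) (tt N28103 (iv F203070)) (tt N27617 F202503) (tt N28059 (iv F202745)) (tt N28203 (iv F203658)) (tt N28269 D44196) (tt N27613 (iv D43941)))
theorem Q28016 : ∀ i, i < 28016 → P i := stepQ 28015 Q28015 (allL N28015 (tt N28187 (iv F203582)) (tt N28161 (iv F203434)) (tt N28242 (iv F203807)) (tt N28269 (iv F203895)) (tt N27615 F202504) (tt N28257 (iv F203858)) (tt N28259 (iv F203864)) (tt N28205 (iv F203664)) (tt N27614 (iv D43942)) (tt N28015 F202505))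
theorem Q28017 : ∀ i, i < 28017 → P i := stepQ 28016 Q28016 (allL N28016 (tt N28188 (iv F203585)) (tt N28223 (iv F203734)) (tt N27617 F202506) (tt N28245 (iv F203820)) (tt N27619 F202507) (tt N28204 (iv F203661)) (tt N28045 F202650) (tt N28208 (iv F203675)) (tt N28222 (iv F203733)) (tt N27616 (iv D43943)))
theorem Q28018 : ∀ i, i < 28018 → P i := stepQ 28017 Q28017 (allL N28017 (tt N28180 (iv F203544)) (tt N27619 F202508) (tt N27627 F202509) (tt N27621 F202510) (tt N28223 (iv F203736)) (tt N27620 F202511) (tt N27625 F202512) (tt N28209 (iv F203680)) (tt N27624 F202513) (tt N27618 (iv D43944)))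
theorem Q28019 : ∀ i, i < 28019 → P i := stepQ 28018 Q28018 (allL N28018 (tt N28179 (iv F203537)) (tt N27624 F202514) (tt N27620 F202515) (tt N27625 F202516) (tt N28222 (iv F203731)) (tt N27627 F202517) (tt N27621 F202518) (tt N28212 (iv F203695)) (tt N27619 (iv D43945)) (tt N27622 F202519))
theorem Q28020 : ∀ i, i < 28020 → P i := stepQ 28019 Q28019 (allL N28019 (tt N28189 (iv F203590)) (tt N28212 (iv F203691)) (tt N27626 F202520) (tt N28095 (iv F203010)) (tt N28249 (iv F203835)) (tt N28093 F202999) (tt N28218 (iv F203719)) (tt N27624 F202521) (tt N28209 (iv F203681)) (tt N27623 (iv D43946)))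
theorem Q28021 : ∀ i, i < 28021 → P i := stepQ 28020 Q28020 (allL N28020 (tt N28158 (iv F203414)) (tt N28093 (iv F202992)) (tt N28209 (iv F203677)) (tt N27628 F202522) (tt N28116 (iv F203153)) (tt N28212 (iv F203694)) (tt N28112 (iv F203129)) (tt N27627 F202523) (tt N27626 (iv D43947)) (tt N27629 F202524))
theorem Q28022 : ∀ i, i < 28022 → P i := stepQ 28021 Q28021 (allL N28021 (tt N28190 (iv F203596)) (tt N28171 (iv F203493)) (tt N27635 F202525) (tt N28185 (iv F203574)) (tt N28239 (iv F203796)) (tt N28173 (iv F203511)) (tt N28066 (iv F202794)) (tt N28172 (iv F203506)) (tt N27630 (iv D43948)) (tt N28021 F202526))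
theorem Q28023 : ∀ i, i < 28023 → P i := stepQ 28022 Q28022 (allL N28022 (tt N28191 (iv F203602)) (tt N28176 (iv F203524)) (tt N28262 (iv F203874)) (tt N27634 F202527) (tt N28230 (iv F203762)) (tt N27633 F202528) (tt N28247 (iv F203828)) (tt N27632 F202529) (tt N28270 D44197) (tt N27631 (iv D43949)))
theorem Q28024 : ∀ i, i < 28024 → P i := stepQ 28023 Q28023 (allL N28023 (tt N28192 (iv F203606)) (tt N28177 (iv F203528)) (tt N28261 (iv F203869)) (tt N27635 F202530) (tt N28231 (iv F203765)) (tt N28244 (iv F203816)) (tt N27646 F202531) (tt N28270 (iv F203898)) (tt N27632 (iv D43950)) (tt N28023 F202532))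
theorem Q28025 : ∀ i, i < 28025 → P i := stepQ 28024 Q28024 (allL N28024 (tt N28193 (iv F203610)) (tt N28198 (iv F203631)) (tt N28172 (iv F203503)) (tt N28270 (iv F203897)) (tt N28236 (iv F203781)) (tt N28271 D44198) (tt N28248 (iv F203832)) (tt N27635 F202533) (tt N27634 (iv D43951)) (tt N28024 F202534))
theorem Q28026 : ∀ i, i < 28026 → P i := stepQ 28025 Q28025 (allL N28025 (tt N28194 (iv F203614)) (tt N28066 (iv F202791)) (tt N28173 (iv F203509)) (tt N28244 (iv F203815)) (tt N28263 (iv F203878)) (tt N27635 (iv D43952)) (tt N28171 (iv F203498)) (tt N28271 (iv F203900)) (tt N27637 F202535) (tt N28025 F202536))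
theorem Q28027 : ∀ i, i < 28027 → P i := stepQ 28026 Q28026 (allL N28026 (tt N28182 (iv F203556)) (tt N28065 (iv F202784)) (tt N28163 (iv F203448)) (tt N28243 (iv F203811)) (tt N28087 (iv F202947)) (tt N27636 (iv D43953)) (tt N28086 (iv F202941)) (tt N27637 F202537) (tt N28271 (iv F203901)) (tt N27639 F202538))
theorem Q28028 : ∀ i, i < 28028 → P i := stepQ 28027 Q28027 (allL N28027 (tt N28178 (iv F203532)) (tt N28119 (iv F203172)) (tt N27643 F202539) (tt N28208 (iv F203673)) (tt N27641 F202540) (tt N28241 (iv F203805)) (tt N28053 (iv F202705)) (tt N28245 (iv F203822)) (tt N28052 (iv F202699)) (tt N27640 (iv D43954)))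
theorem Q28029 : ∀ i, i < 28029 → P i := stepQ 28028 Q28028 (allL N28028 (tt N28196 (iv F203622)) (tt N28109 (iv F203106)) (tt N28267 (iv F203890)) (tt N28067 (iv F202799)) (tt N28234 (iv F203773)) (tt N28083 (iv F202915)) (tt N27645 F202541) (tt N28247 (iv F203829)) (tt N28272 D44199) (tt N27644 (iv D43955)))
theorem Q28030 : ∀ i, i < 28030 → P i := stepQ 28029 Q28029 (allL N28029 (tt N28197 (iv F203627)) (tt N28110 (iv F203112)) (tt N28268 (iv F203892)) (tt N28068 (iv F202806)) (tt N28235 (iv F203775)) (tt N28168 (iv F203480)) (tt N28272 (iv F203903)) (tt N27646 F202542) (tt N27645 (iv D43956)) (tt N28029 F202543))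
theorem Q28031 : ∀ i, i < 28031 → P i := stepQ 28030 Q28030 (allL N28030 (tt N27904 F202544) (tt N27946 F202545) (tt N28273 D44200) (tt N27648 (iv D43957)) (tt N27851 F202546) (tt N27651 F202547) (tt N28274 D44201) (tt N27849 F202548) (tt N28030 F202549) (tt N28275 D44202))
theorem Q28032 : ∀ i, i < 28032 → P i := stepQ 28031 Q28031 (allL N28031 (tt N27905 F202550) (tt N27921 F202551) (tt N27849 F202552) (tt N28274 (iv F203916)) (tt N27649 F202553) (tt N27873 F202554) (tt N27648 (iv D43958)) (tt N28273 (iv F203910)) (tt N28031 F202555) (tt N28276 D44203))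
theorem Q28033 : ∀ i, i < 28033 → P i := stepQ 28032 Q28032 (allL N28032 (tt N27906 F202556) (tt N27994 F202557) (tt N27850 F202558) (tt N28275 (iv F203923)) (tt N27650 F202559) (tt N27652 F202560) (tt N28276 (iv F203932)) (tt N27871 F202561) (tt N28277 D44204) (tt N27648 (iv D43959)))
theorem Q28034 : ∀ i, i < 28034 → P i := stepQ 28033 Q28033 (allL N28033 (tt N27907 F202562) (tt N27984 F202563) (tt N27851 F202564) (tt N27809 F202565) (tt N28273 (iv F203908)) (tt N27682 F202566) (tt N27805 F202567) (tt N27649 (iv D43960)) (tt N28033 F202568) (tt N28278 D44205))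
theorem Q28035 : ∀ i, i < 28035 → P i := stepQ 28034 Q28034 (allL N28034 (tt N27908 F202569) (tt N27985 F202570) (tt N27852 F202571) (tt N27864 F202572) (tt N28276 (iv F203930)) (tt N27683 F202573) (tt N27650 F202574) (tt N28278 (iv F203946)) (tt N28279 D44206) (tt N27649 (iv D43961)))
theorem Q28036 : ∀ i, i < 28036 → P i := stepQ 28035 Q28035 (allL N28035 (tt N27909 F202575) (tt N27993 F202576) (tt N27853 F202577) (tt N28012 F202578) (tt N28277 (iv F203936)) (tt N27746 F202579) (tt N28279 (iv F203952)) (tt N27872 F202580) (tt N27650 (iv D43962)) (tt N28035 F202581))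
theorem Q28037 : ∀ i, i < 28037 → P i := stepQ 28036 Q28036 (allL N28036 (tt N27910 F202582) (tt N27922 F202583) (tt N27651 (iv D43963)) (tt N27854 F202584) (tt N27654 F202585) (tt N28273 (iv F203909)) (tt N27920 F202586) (tt N27873 F202587) (tt N27653 F202588) (tt N28280 D44207))
theorem Q28038 : ∀ i, i < 28038 → P i := stepQ 28037 Q28037 (allL N28037 (tt N27911 F202589) (tt N27948 F202590) (tt N28280 (iv F203956)) (tt N27652 F202591) (tt N27656 F202592) (tt N28275 (iv F203925)) (tt N27917 F202593) (tt N27874 F202594) (tt N27916 F202595) (tt N27651 (iv D43964)))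
theorem Q28039 : ∀ i, i < 28039 → P i := stepQ 28038 Q28038 (allL N28038 (tt N27860 (iv F202602)) (tt N27654 (iv D43965)) (tt N27709 F202596) (tt N27666 F202597) (tt N27922 F202598) (tt N27708 F202599) (tt N27976 (iv F202603)) (tt N27707 F202600) (tt N27660 F202601) (tt N28281 D44208))
theorem Q28040 : ∀ i, i < 28040 → P i := stepQ 28039 Q28039 (allL N28039 (tt N27913 F202604) (tt N27976 F202605) (tt N27655 F202606) (tt N27667 F202607) (tt N27920 F202608) (tt N28282 D44209) (tt N27654 (iv D43966)) (tt N27931 F202609) (tt N27661 F202610) (tt N28283 D44210))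
theorem Q28041 : ∀ i, i < 28041 → P i := stepQ 28040 Q28040 (allL N28040 (tt N27914 F202611) (tt N28281 (iv F203963)) (tt N27656 F202612) (tt N27668 F202613) (tt N28280 (iv F203958)) (tt N27889 F202614) (tt N28283 (iv F203984)) (tt N27875 F202615) (tt N28284 D44211) (tt N27654 (iv D43967)))
theorem Q28042 : ∀ i, i < 28042 → P i := stepQ 28041 Q28041 (allL N28041 (tt N27915 F202616) (tt N27907 F202617) (tt N28282 (iv F203973)) (tt N27657 F202618) (tt N28285 D44212) (tt N27655 (iv D43968)) (tt N27957 F202619) (tt N27902 F202620) (tt N28041 F202621) (tt N28286 D44213))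
theorem Q28043 : ∀ i, i < 28043 → P i := stepQ 28042 Q28042 (allL N28042 (tt N27916 F202622) (tt N27938 F202623) (tt N28283 (iv F203981)) (tt N27658 F202624) (tt N27917 F202625) (tt N28286 (iv F204007)) (tt N27656 F202626) (tt N27933 F202627) (tt N27911 F202628) (tt N27655 (iv D43969)))
theorem Q28044 : ∀ i, i < 28044 → P i := stepQ 28043 Q28043 (allL N28043 (tt N27917 F202629) (tt N27949 F202630) (tt N28284 (iv F203989)) (tt N27659 F202631) (tt N27916 F202632) (tt N28287 D44214) (tt N27911 F202633) (tt N27876 F202634) (tt N27656 (iv D43970)) (tt N27663 F202635))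
theorem Q28045 : ∀ i, i < 28045 → P i := stepQ 28044 Q28044 (allL N28044 (tt N27918 F202636) (tt N28001 F202637) (tt N27674 F202638) (tt N28286 (iv F204006)) (tt N27688 F202639) (tt N27658 F202640) (tt N27960 F202641) (tt N27991 F202642) (tt N28288 D44215) (tt N27657 (iv D43971)))
theorem Q28046 : ∀ i, i < 28046 → P i := stepQ 28045 Q28045 (allL N28045 (tt N27919 F202643) (tt N27935 F202644) (tt N27677 F202645) (tt N28287 (iv F204013)) (tt N27750 F202646) (tt N27659 (iv D43972)) (tt N28016 (iv F202650)) (tt N27877 F202647) (tt N27932 F202648) (tt N27664 F202649))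
theorem Q28047 : ∀ i, i < 28047 → P i := stepQ 28046 Q28046 (allL N28046 (tt N27920 F202651) (tt N27757 F202652) (tt N27663 F202653) (tt N27680 F202654) (tt N27913 F202655) (tt N27822 F202656) (tt N27910 F202657) (tt N27856 F202658) (tt N27662 (iv D43973)) (tt N28284 (iv F203995)))
theorem Q28048 : ∀ i, i < 28048 → P i := stepQ 28047 Q28047 (allL N28047 (tt N27912 F202659) (tt N27860 F202660) (tt N27822 F202661) (tt N27664 F202662) (tt N27971 (iv F202666)) (tt N27663 (iv D43974)) (tt N27969 F202665) (tt N27858 F202663) (tt N27665 F202664) (tt N28287 (iv F204016)))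
theorem Q28049 : ∀ i, i < 28049 → P i := stepQ 28048 Q28048 (allL N28048 (tt N27934 F202667) (tt N27667 F202668) (tt N27715 F202669) (tt N27976 F202670) (tt N27858 F202671) (tt N28009 F202672) (tt N27666 (iv D43975)) (tt N27971 F202673) (tt N27678 F202674) (tt N28289 D44216))
theorem Q28050 : ∀ i, i < 28050 → P i := stepQ 28049 Q28049 (allL N28049 (tt N27935 F202675) (tt N27668 F202676) (tt N27716 F202677) (tt N28281 (iv F203965)) (tt N27859 F202678) (tt N27714 F202679) (tt N28289 (iv F204033)) (tt N27713 F202680) (tt N27764 F202681) (tt N27666 (iv D43976)))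
theorem Q28051 : ∀ i, i < 28051 → P i := stepQ 28050 Q28050 (allL N28050 (tt N27921 F202682) (tt N28009 F202683) (tt N27669 F202684) (tt N28282 (iv F203974)) (tt N27781 F202685) (tt N27667 (iv D43977)) (tt N27794 F202686) (tt N28290 D44217) (tt N28050 F202687) (tt N28291 D44218))
theorem Q28052 : ∀ i, i < 28052 → P i := stepQ 28051 Q28051 (allL N28051 (tt N27922 F202688) (tt N27971 F202689) (tt N27670 F202690) (tt N27931 F202691) (tt N27860 F202692) (tt N28290 (iv F204041)) (tt N27878 F202693) (tt N27667 (iv D43978)) (tt N27679 F202694) (tt N28292 D44219))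
theorem Q28053 : ∀ i, i < 28053 → P i := stepQ 28052 Q28052 (allL N28052 (tt N27923 F202695) (tt N28289 (iv F204028)) (tt N27671 F202696) (tt N28283 (iv F203982)) (tt N27861 F202697) (tt N28291 (iv F204048)) (tt N27668 F202698) (tt N28292 (iv F204056)) (tt N28027 F202699) (tt N27667 (iv D43979)))
theorem Q28054 : ∀ i, i < 28054 → P i := stepQ 28053 Q28053 (allL N28053 (tt N27924 F202700) (tt N27764 F202701) (tt N27672 F202702) (tt N28284 (iv F203990)) (tt N27713 F202703) (tt N27823 F202704) (tt N28027 F202705) (tt N27859 F202706) (tt N27668 (iv D43980)) (tt N27680 F202707))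
theorem Q28055 : ∀ i, i < 28055 → P i := stepQ 28054 Q28054 (allL N28054 (tt N27925 F202708) (tt N27805 F202709) (tt N28290 (iv F204038)) (tt N27673 F202710) (tt N27950 F202711) (tt N27670 F202712) (tt N27984 F202713) (tt N27669 (iv D43981)) (tt N28054 F202714) (tt N28293 D44220))
theorem Q28056 : ∀ i, i < 28056 → P i := stepQ 28055 Q28055 (allL N28055 (tt N27926 F202715) (tt N27806 F202716) (tt N28291 (iv F204046)) (tt N27674 F202717) (tt N27951 F202718) (tt N27671 F202719) (tt N27870 F202720) (tt N28293 (iv F204064)) (tt N28294 D44221) (tt N27669 (iv D43982)))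
theorem Q28057 : ∀ i, i < 28057 → P i := stepQ 28056 Q28056 (allL N28056 (tt N27927 F202721) (tt N27807 F202722) (tt N28292 (iv F204052)) (tt N27675 F202723) (tt N27862 F202724) (tt N28293 (iv F204062)) (tt N27880 F202725) (tt N27671 F202726) (tt N27970 F202727) (tt N27670 (iv D43983)))
theorem Q28058 : ∀ i, i < 28058 → P i := stepQ 28057 Q28057 (allL N28057 (tt N27928 F202728) (tt N27810 F202729) (tt N27991 F202730) (tt N28293 (iv F204060)) (tt N27691 F202731) (tt N27675 F202732) (tt N27987 F202733) (tt N27674 F202734) (tt N28295 D44222) (tt N27673 (iv D43984)))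
theorem Q28059 : ∀ i, i < 28059 → P i := stepQ 28058 Q28058 (allL N28058 (tt N27929 F202735) (tt N27811 F202736) (tt N28288 (iv F204021)) (tt N28294 (iv F204067)) (tt N27692 F202737) (tt N28296 D44223) (tt N28013 F202738) (tt N28295 (iv F204078)) (tt N27674 (iv D43985)) (tt N28058 F202739))
theorem Q28060 : ∀ i, i < 28060 → P i := stepQ 28059 Q28059 (allL N28059 (tt N27850 F202740) (tt N27813 F202741) (tt N27906 F202742) (tt N27996 F202743) (tt N27835 F202744) (tt N27676 (iv D43986)) (tt N28014 F202745) (tt N27965 F202746) (tt N28296 (iv F204086)) (tt N27681 F202747))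
theorem Q28061 : ∀ i, i < 28061 → P i := stepQ 28060 Q28060 (allL N28060 (tt N27938 F202748) (tt N27986 F202749) (tt N27995 F202750) (tt N27840 F202751) (tt N27889 F202752) (tt N28278 (iv F203944)) (tt N27699 F202753) (tt N27683 F202754) (tt N28006 F202755) (tt N27682 (iv D43987)))
theorem Q28062 : ∀ i, i < 28062 → P i := stepQ 28061 Q28061 (allL N28061 (tt N27939 F202756) (tt N27964 F202757) (tt N27765 F202758) (tt N28285 (iv F203999)) (tt N27684 (iv D43988)) (tt N27763 F202759) (tt N27818 F202760) (tt N28297 D44224) (tt N28061 F202761) (tt N28298 D44225))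
theorem Q28063 : ∀ i, i < 28063 → P i := stepQ 28062 Q28062 (allL N28062 (tt N27940 F202762) (tt N27966 F202763) (tt N28008 F202764) (tt N27687 F202765) (tt N28297 (iv F204093)) (tt N27685 F202766) (tt N27978 F202767) (tt N27684 (iv D43989)) (tt N28062 F202768) (tt N28299 D44226))
theorem Q28064 : ∀ i, i < 28064 → P i := stepQ 28063 Q28063 (allL N28063 (tt N27941 F202769) (tt N27967 F202770) (tt N28005 F202771) (tt N27688 F202772) (tt N28298 (iv F204100)) (tt N27686 F202773) (tt N27962 F202774) (tt N28299 (iv F204109)) (tt N28300 D44227) (tt N27684 (iv D43990)))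
theorem Q28065 : ∀ i, i < 28065 → P i := stepQ 28064 Q28064 (allL N28064 (tt N27942 F202775) (tt N27983 F202776) (tt N28006 F202777) (tt N27689 F202778) (tt N27930 F202779) (tt N28299 (iv F204107)) (tt N27711 F202780) (tt N27686 F202781) (tt N27995 F202782) (tt N27685 (iv D43991)))
theorem Q28066 : ∀ i, i < 28066 → P i := stepQ 28065 Q28065 (allL N28065 (tt N27943 F202783) (tt N28026 F202784) (tt N27691 F202785) (tt N28299 (iv F204106)) (tt N27991 F202786) (tt N27689 F202787) (tt N27981 F202788) (tt N27688 F202789) (tt N28301 D44228) (tt N27687 (iv D43992)))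
theorem Q28067 : ∀ i, i < 28067 → P i := stepQ 28066 Q28066 (allL N28066 (tt N27944 F202790) (tt N28025 F202791) (tt N27692 F202792) (tt N28300 (iv F204113)) (tt N28288 (iv F204022)) (tt N27901 F202793) (tt N28021 F202794) (tt N28301 (iv F204123)) (tt N27688 (iv D43993)) (tt N28066 F202795))
theorem Q28068 : ∀ i, i < 28068 → P i := stepQ 28067 Q28067 (allL N28067 (tt N27937 F202796) (tt N27888 F202797) (tt N27981 F202798) (tt N28028 F202799) (tt N27987 F202800) (tt N27718 F202801) (tt N27691 F202802) (tt N27975 F202803) (tt N28302 D44229) (tt N27690 (iv D43994)))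
theorem Q28069 : ∀ i, i < 28069 → P i := stepQ 28068 Q28068 (allL N28068 (tt N27945 F202804) (tt N27898 F202805) (tt N28301 (iv F204119)) (tt N28029 F202806) (tt N28295 (iv F204075)) (tt N28303 D44230) (tt N28302 (iv F204131)) (tt N27692 F202807) (tt N27691 (iv D43995)) (tt N28068 F202808))
theorem Q28070 : ∀ i, i < 28070 → P i := stepQ 28069 Q28069 (allL N28069 (tt N27868 F202809) (tt N27848 F202810) (tt N27901 F202811) (tt N27867 F202812) (tt N27838 (iv F202815)) (tt N27692 (iv D43996)) (tt N27896 (iv F202816)) (tt N28303 (iv F204140)) (tt N27694 F202813) (tt N28069 F202814))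
theorem Q28071 : ∀ i, i < 28071 → P i := stepQ 28070 Q28070 (allL N28070 (tt N27842 F202817) (tt N27839 F202818) (tt N27900 F202819) (tt N27841 F202820) (tt N27831 F202821) (tt N27693 (iv D43997)) (tt N27866 F202822) (tt N27694 F202823) (tt N28303 (iv F204141)) (tt N27695 F202824))
theorem Q28072 : ∀ i, i < 28072 → P i := stepQ 28071 Q28071 (allL N28071 (tt N27946 F202825) (tt N28008 F202826) (tt N27957 F202827) (tt N27794 F202828) (tt N27883 F202829) (tt N27697 F202830) (tt N28282 (iv F203976)) (tt N27696 (iv D43998)) (tt N28071 F202831) (tt N28304 D44231))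
theorem Q28073 : ∀ i, i < 28073 → P i := stepQ 28072 Q28072 (allL N28072 (tt N27947 F202832) (tt N28005 F202833) (tt N27958 F202834) (tt N27989 F202835) (tt N27884 F202836) (tt N27698 F202837) (tt N27705 F202838) (tt N28304 (iv F204149)) (tt N28305 D44232) (tt N27696 (iv D43999)))
theorem Q28074 : ∀ i, i < 28074 → P i := stepQ 28073 Q28073 (allL N28073 (tt N27948 F202839) (tt N28006 F202840) (tt N27959 F202841) (tt N27793 F202842) (tt N27699 F202843) (tt N28304 (iv F204148)) (tt N27889 F202844) (tt N27698 F202845) (tt N27986 F202846) (tt N27697 (iv D44000)))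
theorem Q28075 : ∀ i, i < 28075 → P i := stepQ 28074 Q28074 (allL N28074 (tt N27949 F202847) (tt N27889 F202848) (tt N27711 F202849) (tt N27714 F202850) (tt N27986 F202851) (tt N28281 (iv F203967)) (tt N28006 F202852) (tt N27700 F202853) (tt N27699 (iv D44001)) (tt N27708 F202854))
theorem Q28076 : ∀ i, i < 28076 → P i := stepQ 28075 Q28075 (allL N28075 (tt N27861 F202855) (tt N27875 F202856) (tt N27710 F202857) (tt N27713 F202858) (tt N27923 (iv F202862)) (tt N27700 (iv D44002)) (tt N27836 F202859) (tt N28281 (iv F203969)) (tt N27857 F202860) (tt N27707 F202861))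
theorem Q28077 : ∀ i, i < 28077 → P i := stepQ 28076 Q28076 (allL N28076 (tt N27950 F202863) (tt N28007 F202864) (tt N27984 F202865) (tt N27704 F202866) (tt N27925 F202867) (tt N27702 F202868) (tt N28290 (iv F204042)) (tt N27701 (iv D44003)) (tt N28076 F202869) (tt N28306 D44233))
theorem Q28078 : ∀ i, i < 28078 → P i := stepQ 28077 Q28077 (allL N28077 (tt N27951 F202870) (tt N28000 F202871) (tt N27985 F202872) (tt N27705 F202873) (tt N27926 F202874) (tt N27703 F202875) (tt N27989 F202876) (tt N28306 (iv F204164)) (tt N28307 D44234) (tt N27701 (iv D44004)))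
theorem Q28079 : ∀ i, i < 28079 → P i := stepQ 28078 Q28078 (allL N28078 (tt N27952 F202877) (tt N27999 F202878) (tt N27986 F202879) (tt N27706 F202880) (tt N27711 F202881) (tt N28306 (iv F204163)) (tt N27930 F202882) (tt N27703 F202883) (tt N27959 F202884) (tt N27702 (iv D44005)))
theorem Q28080 : ∀ i, i < 28080 → P i := stepQ 28079 Q28079 (allL N28079 (tt N27953 F202885) (tt N27939 F202886) (tt N27902 F202887) (tt N28290 (iv F204039)) (tt N27893 F202888) (tt N27931 F202889) (tt N27704 (iv D44006)) (tt N28282 (iv F203977)) (tt N28079 F202890) (tt N28308 D44235))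
theorem Q28081 : ∀ i, i < 28081 → P i := stepQ 28080 Q28080 (allL N28080 (tt N27954 F202891) (tt N28004 F202892) (tt N27903 F202893) (tt N28306 (iv F204161)) (tt N27894 F202894) (tt N27706 F202895) (tt N28308 (iv F204178)) (tt N27705 F202896) (tt N28309 D44236) (tt N27704 (iv D44007)))
theorem Q28082 : ∀ i, i < 28082 → P i := stepQ 28081 Q28081 (allL N28081 (tt N27955 F202897) (tt N28003 F202898) (tt N27990 F202899) (tt N28307 (iv F204168)) (tt N27895 F202900) (tt N27961 F202901) (tt N28305 (iv F204156)) (tt N28309 (iv F204184)) (tt N27705 (iv D44008)) (tt N28081 F202902))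
theorem Q28083 : ∀ i, i < 28083 → P i := stepQ 28082 Q28082 (allL N28082 (tt N27862 F202903) (tt N27897 F202904) (tt N28281 (iv F203964)) (tt N27712 F202905) (tt N27927 F202906) (tt N27711 F202907) (tt N27980 F202908) (tt N27710 F202909) (tt N27759 F202910) (tt N27709 (iv D44009)))
theorem Q28084 : ∀ i, i < 28084 → P i := stepQ 28083 Q28083 (allL N28083 (tt N27936 F202911) (tt N27780 F202912) (tt N28289 (iv F204029)) (tt N27718 F202913) (tt N27881 F202914) (tt N28028 F202915) (tt N27716 F202916) (tt N27974 F202917) (tt N27767 F202918) (tt N27715 (iv D44010)))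
theorem Q28085 : ∀ i, i < 28085 → P i := stepQ 28084 Q28084 (allL N28084 (tt N27746 F202919) (tt N28013 F202920) (tt N27838 F202921) (tt N27872 F202922) (tt N27901 F202923) (tt N27909 F202924) (tt N27811 F202925) (tt N28012 F202926) (tt N27719 (iv D44011)) (tt N28084 F202927))
theorem Q28086 : ∀ i, i < 28086 → P i := stepQ 28085 Q28085 (allL N28085 (tt N27851 F202928) (tt N27978 F202929) (tt N27907 F202930) (tt N27720 (iv D44012)) (tt N27904 F202931) (tt N27723 F202932) (tt N27966 F202933) (tt N27744 F202934) (tt N28085 F202935) (tt N28310 D44237))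
theorem Q28087 : ∀ i, i < 28087 → P i := stepQ 28086 Q28086 (allL N28086 (tt N27900 F202936) (tt N27981 F202937) (tt N27842 F202938) (tt N28310 (iv F204189)) (tt N27722 F202939) (tt N27724 F202940) (tt N28026 F202941) (tt N27745 F202942) (tt N28311 D44238) (tt N27720 (iv D44013)))
theorem Q28088 : ∀ i, i < 28088 → P i := stepQ 28087 Q28087 (allL N28087 (tt N27864 F202943) (tt N27991 F202944) (tt N27843 F202945) (tt N27908 F202946) (tt N28026 F202947) (tt N27828 F202948) (tt N27722 F202949) (tt N28001 F202950) (tt N28312 D44239) (tt N27721 (iv D44014)))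
theorem Q28089 : ∀ i, i < 28089 → P i := stepQ 28088 Q28088 (allL N28088 (tt N28012 F202951) (tt N27992 F202952) (tt N27844 F202953) (tt N27909 F202954) (tt N28311 (iv F204197)) (tt N27872 F202955) (tt N28312 (iv F204208)) (tt N27746 F202956) (tt N27722 (iv D44015)) (tt N28088 F202957))
theorem Q28090 : ∀ i, i < 28090 → P i := stepQ 28089 Q28089 (allL N28089 (tt N27995 F202958) (tt N27980 F202959) (tt N27938 F202960) (tt N27724 F202961) (tt N27727 F202962) (tt N28310 (iv F204191)) (tt N27897 F202963) (tt N27747 F202964) (tt N27942 F202965) (tt N27723 (iv D44016)))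
theorem Q28091 : ∀ i, i < 28091 → P i := stepQ 28090 Q28090 (allL N28090 (tt N27889 F202966) (tt N27917 F202967) (tt N27727 F202968) (tt N27734 F202969) (tt N27938 F202970) (tt N27914 F202971) (tt N27948 F202972) (tt N27748 F202973) (tt N27829 F202974) (tt N27725 (iv D44017)))
theorem Q28092 : ∀ i, i < 28092 → P i := stepQ 28091 Q28091 (allL N28091 (tt N27957 F202975) (tt N27925 F202976) (tt N27946 F202977) (tt N27728 F202978) (tt N28007 F202979) (tt N27726 (iv D44018)) (tt N27915 F202980) (tt N27772 F202981) (tt N28091 F202982) (tt N28313 D44240))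
theorem Q28093 : ∀ i, i < 28093 → P i := stepQ 28092 Q28092 (allL N28092 (tt N27959 F202983) (tt N27927 F202984) (tt N27948 F202985) (tt N27729 F202986) (tt N27897 F202987) (tt N28313 (iv F204216)) (tt N27727 F202988) (tt N27773 F202989) (tt N27952 F202990) (tt N27726 (iv D44019)))
theorem Q28094 : ∀ i, i < 28094 → P i := stepQ 28093 Q28093 (allL N28093 (tt N27930 F202991) (tt N28020 F202992) (tt N27829 F202993) (tt N27730 F202994) (tt N27942 F202995) (tt N28019 (iv F202999)) (tt N27952 F202996) (tt N27749 F202997) (tt N27727 (iv D44020)) (tt N27731 F202998))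
theorem Q28095 : ∀ i, i < 28095 → P i := stepQ 28094 Q28094 (allL N28094 (tt N27960 F203000) (tt N27928 F203001) (tt N27738 F203002) (tt N28313 (iv F204214)) (tt N27882 F203003) (tt N27729 F203004) (tt N27918 F203005) (tt N27774 F203006) (tt N28314 D44241) (tt N27728 (iv D44021)))
theorem Q28096 : ∀ i, i < 28096 → P i := stepQ 28095 Q28095 (allL N28095 (tt N27932 F203007) (tt N27924 F203008) (tt N27741 F203009) (tt N28019 F203010) (tt N27877 F203011) (tt N27730 (iv D44022)) (tt N28315 D44242) (tt N27750 F203012) (tt N27919 F203013) (tt N27732 F203014))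
theorem Q28097 : ∀ i, i < 28097 → P i := stepQ 28096 Q28096 (allL N28096 (tt N27931 F203015) (tt N27854 F203016) (tt N27743 F203017) (tt N27922 F203018) (tt N27856 F203019) (tt N27953 F203020) (tt N27732 (iv D44023)) (tt N27913 F203021) (tt N27733 F203022) (tt N28315 (iv F204235)))
theorem Q28098 : ∀ i, i < 28098 → P i := stepQ 28097 Q28097 (allL N28097 (tt N27870 F203023) (tt N27789 F203024) (tt N27994 F203025) (tt N27738 F203026) (tt N27989 F203027) (tt N27736 F203028) (tt N27926 F203029) (tt N27792 F203030) (tt N28316 D44243) (tt N27735 (iv D44024)))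
theorem Q28099 : ∀ i, i < 28099 → P i := stepQ 28098 Q28098 (allL N28098 (tt N27956 F203031) (tt N27790 F203032) (tt N27774 F203033) (tt N27792 F203034) (tt N27886 F203035) (tt N27739 F203036) (tt N27785 F203037) (tt N27738 F203038) (tt N28317 D44244) (tt N27737 (iv D44025)))
theorem Q28100 : ∀ i, i < 28100 → P i := stepQ 28099 Q28099 (allL N28099 (tt N28013 F203039) (tt N27791 F203040) (tt N28314 (iv F204221)) (tt N28316 (iv F204239)) (tt N27887 F203041) (tt N28318 D44245) (tt N27929 F203042) (tt N28317 (iv F204252)) (tt N27738 (iv D44026)) (tt N28099 F203043))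
theorem Q28101 : ∀ i, i < 28101 → P i := stepQ 28100 Q28100 (allL N28100 (tt N27903 F203044) (tt N27792 F203045) (tt N27954 F203046) (tt N27790 F203047) (tt N28010 F203048) (tt N27740 (iv D44027)) (tt N28319 D44246) (tt N27789 F203049) (tt N28318 (iv F204259)) (tt N27742 F203050))
theorem Q28102 : ∀ i, i < 28102 → P i := stepQ 28101 Q28101 (allL N28101 (tt N27933 F203051) (tt N27783 F203052) (tt N28315 (iv F204229)) (tt N27777 F203053) (tt N27876 F203054) (tt N28319 (iv F204267)) (tt N27741 (iv D44028)) (tt N27916 F203055) (tt N27874 F203056) (tt N27743 F203057))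
theorem Q28103 : ∀ i, i < 28103 → P i := stepQ 28102 Q28102 (allL N28102 (tt N27902 F203058) (tt N27781 F203059) (tt N27953 F203060) (tt N27776 F203061) (tt N28009 F203062) (tt N27743 F203063) (tt N27742 (iv D44029)) (tt N27915 F203064) (tt N28102 F203065) (tt N28319 (iv F204269)))
theorem Q28104 : ∀ i, i < 28104 → P i := stepQ 28103 Q28103 (allL N28103 (tt N27852 F203066) (tt N27979 F203067) (tt N27908 F203068) (tt N27745 F203069) (tt N28014 F203070) (tt N27747 F203071) (tt N27835 F203072) (tt N28310 (iv F204193)) (tt N28320 D44247) (tt N27744 (iv D44030)))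
theorem Q28105 : ∀ i, i < 28105 → P i := stepQ 28104 Q28104 (allL N28104 (tt N27901 F203073) (tt N27982 F203074) (tt N27868 F203075) (tt N28320 (iv F204273)) (tt N27746 F203076) (tt N27944 F203077) (tt N27890 F203078) (tt N28311 (iv F204200)) (tt N27745 (iv D44031)) (tt N28104 F203079))
theorem Q28106 : ∀ i, i < 28106 → P i := stepQ 28105 Q28105 (allL N28105 (tt N27963 F203080) (tt N27950 F203081) (tt N28274 (iv F203915)) (tt N27751 (iv D44032)) (tt N27805 F203082) (tt N27754 F203083) (tt N28273 F203912) (tt N27804 F203084) (tt N28105 F203085) (tt N28321 D44248))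
theorem Q28107 : ∀ i, i < 28107 → P i := stepQ 28106 Q28106 (allL N28106 (tt N27964 F203086) (tt N27953 F203087) (tt N27804 F203088) (tt N28273 (iv F203907)) (tt N27752 F203089) (tt N27854 F203090) (tt N27751 (iv D44033)) (tt N28274 (iv F203919)) (tt N28106 F203091) (tt N28322 D44249))
theorem Q28108 : ∀ i, i < 28108 → P i := stepQ 28107 Q28107 (allL N28107 (tt N27965 F203092) (tt N27954 F203093) (tt N27871 F203094) (tt N28321 (iv F204280)) (tt N27753 F203095) (tt N27755 F203096) (tt N28322 (iv F204289)) (tt N27850 F203097) (tt N28323 D44250) (tt N27751 (iv D44034)))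
theorem Q28109 : ∀ i, i < 28109 → P i := stepQ 28108 Q28108 (allL N28108 (tt N27966 F203098) (tt N27973 F203099) (tt N27805 F203100) (tt N27863 F203101) (tt N28274 (iv F203917)) (tt N27779 F203102) (tt N27851 F203103) (tt N27752 (iv D44035)) (tt N28108 F203104) (tt N28324 D44251))
theorem Q28110 : ∀ i, i < 28110 → P i := stepQ 28109 Q28109 (allL N28109 (tt N27967 F203105) (tt N28028 F203106) (tt N27806 F203107) (tt N27888 F203108) (tt N28322 (iv F204287)) (tt N27780 F203109) (tt N27753 F203110) (tt N28324 (iv F204303)) (tt N28325 D44252) (tt N27752 (iv D44036)))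
theorem Q28111 : ∀ i, i < 28111 → P i := stepQ 28110 Q28110 (allL N28110 (tt N27968 F203111) (tt N28029 F203112) (tt N27872 F203113) (tt N27898 F203114) (tt N28323 (iv F204293)) (tt N27844 F203115) (tt N28325 (iv F204309)) (tt N27853 F203116) (tt N27753 (iv D44037)) (tt N28110 F203117))
theorem Q28112 : ∀ i, i < 28112 → P i := stepQ 28111 Q28111 (allL N28111 (tt N27969 F203118) (tt N27913 F203119) (tt N27754 (iv D44038)) (tt N27873 F203120) (tt N27757 F203121) (tt N28274 (iv F203918)) (tt N27912 F203122) (tt N27854 F203123) (tt N27756 F203124) (tt N28326 D44253))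
theorem Q28113 : ∀ i, i < 28113 → P i := stepQ 28112 Q28112 (allL N28112 (tt N27970 F203125) (tt N27952 F203126) (tt N28326 (iv F204313)) (tt N27755 F203127) (tt N27759 F203128) (tt N28321 (iv F204282)) (tt N28020 F203129) (tt N27855 F203130) (tt N27927 F203131) (tt N27754 (iv D44039)))
theorem Q28114 : ∀ i, i < 28114 → P i := stepQ 28113 Q28113 (allL N28113 (tt N27971 F203132) (tt N27910 F203133) (tt N27758 F203134) (tt N27763 F203135) (tt N27912 F203136) (tt N28285 (iv F204000)) (tt N27757 (iv D44040)) (tt N27934 F203137) (tt N27762 F203138) (tt N28327 D44254))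
theorem Q28115 : ∀ i, i < 28115 → P i := stepQ 28114 Q28114 (allL N28114 (tt N27972 F203139) (tt N28284 (iv F203988)) (tt N27759 F203140) (tt N27764 F203141) (tt N28326 (iv F204315)) (tt N27891 F203142) (tt N28327 (iv F204324)) (tt N27857 F203143) (tt N28281 (iv F203970)) (tt N27757 (iv D44041)))
theorem Q28116 : ∀ i, i < 28116 → P i := stepQ 28115 Q28115 (allL N28115 (tt N27973 F203144) (tt N27940 F203145) (tt N28285 (iv F203998)) (tt N27760 F203146) (tt N28282 (iv F203975)) (tt N27758 (iv D44042)) (tt N27883 F203147) (tt N27893 F203148) (tt N28115 F203149) (tt N28328 D44255))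
theorem Q28117 : ∀ i, i < 28117 → P i := stepQ 28116 Q28116 (allL N28116 (tt N27974 F203150) (tt N27942 F203151) (tt N28327 (iv F204321)) (tt N27761 F203152) (tt N28020 F203153) (tt N28328 (iv F204330)) (tt N27759 F203154) (tt N27936 F203155) (tt N27980 F203156) (tt N27758 (iv D44043)))
theorem Q28118 : ∀ i, i < 28118 → P i := stepQ 28117 Q28117 (allL N28117 (tt N27975 F203157) (tt N27943 F203158) (tt N27769 F203159) (tt N28328 (iv F204329)) (tt N27785 F203160) (tt N27761 F203161) (tt N27886 F203162) (tt N27937 F203163) (tt N28329 D44256) (tt N27760 (iv D44044)))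
theorem Q28119 : ∀ i, i < 28119 → P i := stepQ 28118 Q28118 (allL N28118 (tt N27976 F203164) (tt N27969 F203165) (tt N27766 F203166) (tt N27934 F203167) (tt N27878 F203168) (tt N28297 (iv F204094)) (tt N27860 F203169) (tt N27763 (iv D44045)) (tt N27771 F203170) (tt N28330 D44257))
theorem Q28120 : ∀ i, i < 28120 → P i := stepQ 28119 Q28119 (allL N28119 (tt N27977 F203171) (tt N28027 F203172) (tt N27767 F203173) (tt N28327 (iv F204322)) (tt N27879 F203174) (tt N28298 (iv F204101)) (tt N27764 F203175) (tt N28330 (iv F204347)) (tt N28289 (iv F204035)) (tt N27763 (iv D44046)))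
theorem Q28121 : ∀ i, i < 28121 → P i := stepQ 28120 Q28120 (allL N28120 (tt N27978 F203176) (tt N27883 F203177) (tt N28297 (iv F204091)) (tt N27768 F203178) (tt N28008 F203179) (tt N27766 F203180) (tt N27940 F203181) (tt N27765 (iv D44047)) (tt N28120 F203182) (tt N28331 D44258))
theorem Q28122 : ∀ i, i < 28122 → P i := stepQ 28121 Q28121 (allL N28121 (tt N27979 F203183) (tt N27884 F203184) (tt N28298 (iv F204099)) (tt N27769 F203185) (tt N28005 F203186) (tt N27767 F203187) (tt N27892 F203188) (tt N28331 (iv F204355)) (tt N28332 D44259) (tt N27765 (iv D44048)))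
theorem Q28123 : ∀ i, i < 28123 → P i := stepQ 28122 Q28122 (allL N28122 (tt N27980 F203189) (tt N27885 F203190) (tt N28330 (iv F204343)) (tt N27770 F203191) (tt N27880 F203192) (tt N28331 (iv F204353)) (tt N27862 F203193) (tt N27767 F203194) (tt N27974 F203195) (tt N27766 (iv D44049)))
theorem Q28124 : ∀ i, i < 28124 → P i := stepQ 28123 Q28123 (allL N28123 (tt N27981 F203196) (tt N27886 F203197) (tt N27937 F203198) (tt N28331 (iv F204351)) (tt N27790 F203199) (tt N27770 F203200) (tt N27943 F203201) (tt N27769 F203202) (tt N28333 D44260) (tt N27768 (iv D44050)))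
theorem Q28125 : ∀ i, i < 28125 → P i := stepQ 28124 Q28124 (allL N28124 (tt N27982 F203203) (tt N27887 F203204) (tt N28329 (iv F204335)) (tt N28332 (iv F204358)) (tt N27791 F203205) (tt N28302 (iv F204130)) (tt N27899 F203206) (tt N28333 (iv F204369)) (tt N27769 (iv D44051)) (tt N28124 F203207))
theorem Q28126 : ∀ i, i < 28126 → P i := stepQ 28125 Q28125 (allL N28125 (tt N27958 F203208) (tt N27926 F203209) (tt N27947 F203210) (tt N27774 F203211) (tt N28000 F203212) (tt N27773 F203213) (tt N27789 F203214) (tt N28313 (iv F204218)) (tt N28334 D44261) (tt N27772 (iv D44052)))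
theorem Q28127 : ∀ i, i < 28127 → P i := stepQ 28126 Q28126 (allL N28126 (tt N27961 F203215) (tt N27929 F203216) (tt N28317 (iv F204247)) (tt N28334 (iv F204374)) (tt N27899 F203217) (tt N27955 F203218) (tt N27791 F203219) (tt N28314 (iv F204225)) (tt N27774 (iv D44053)) (tt N28126 F203220))
theorem Q28128 : ∀ i, i < 28128 → P i := stepQ 28127 Q28127 (allL N28127 (tt N27991 F203221) (tt N27785 F203222) (tt N27928 F203223) (tt N28319 (iv F204265)) (tt N27943 F203224) (tt N27777 F203225) (tt N27790 F203226) (tt N27918 F203227) (tt N28335 D44262) (tt N27776 (iv D44054)))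
theorem Q28129 : ∀ i, i < 28129 → P i := stepQ 28128 Q28128 (allL N28128 (tt N27983 F203228) (tt N27974 F203229) (tt N27807 F203230) (tt N27865 F203231) (tt N27891 F203232) (tt N28324 (iv F204301)) (tt N27824 F203233) (tt N27780 F203234) (tt N27885 F203235) (tt N27779 (iv D44055)))
theorem Q28130 : ∀ i, i < 28130 → P i := stepQ 28129 Q28129 (allL N28129 (tt N27984 F203236) (tt N27915 F203237) (tt N27950 F203238) (tt N27784 F203239) (tt N28290 (iv F204040)) (tt N27782 F203240) (tt N27925 F203241) (tt N27781 (iv D44056)) (tt N28129 F203242) (tt N28336 D44263))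
theorem Q28131 : ∀ i, i < 28131 → P i := stepQ 28130 Q28130 (allL N28130 (tt N27985 F203243) (tt N28319 (iv F204263)) (tt N27951 F203244) (tt N27785 F203245) (tt N28291 (iv F204047)) (tt N27783 F203246) (tt N27792 F203247) (tt N28336 (iv F204393)) (tt N28337 D44264) (tt N27781 (iv D44057)))
theorem Q28132 : ∀ i, i < 28132 → P i := stepQ 28131 Q28131 (allL N28131 (tt N27986 F203248) (tt N27916 F203249) (tt N27952 F203250) (tt N27786 F203251) (tt N27949 F203252) (tt N28336 (iv F204391)) (tt N27829 F203253) (tt N27783 F203254) (tt N27948 F203255) (tt N27782 (iv D44058)))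
theorem Q28133 : ∀ i, i < 28133 → P i := stepQ 28132 Q28132 (allL N28132 (tt N27987 F203256) (tt N27918 F203257) (tt N27790 F203258) (tt N28336 (iv F204390)) (tt N27937 F203259) (tt N27786 F203260) (tt N27928 F203261) (tt N27785 F203262) (tt N28338 D44265) (tt N27784 (iv D44059)))
theorem Q28134 : ∀ i, i < 28134 → P i := stepQ 28133 Q28133 (allL N28133 (tt N27988 F203263) (tt N28335 (iv F204380)) (tt N27791 F203264) (tt N28337 (iv F204396)) (tt N28329 (iv F204336)) (tt N28339 D44266) (tt N28317 (iv F204251)) (tt N28338 (iv F204406)) (tt N27785 (iv D44060)) (tt N28133 F203265))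
theorem Q28135 : ∀ i, i < 28135 → P i := stepQ 28134 Q28134 (allL N28134 (tt N27989 F203266) (tt N27871 F203267) (tt N27792 F203268) (tt N27947 F203269) (tt N27870 F203270) (tt N27787 (iv D44061)) (tt N27951 F203271) (tt N27994 F203272) (tt N28339 (iv F204415)) (tt N27788 F203273))
theorem Q28136 : ∀ i, i < 28136 → P i := stepQ 28135 Q28135 (allL N28135 (tt N27990 F203274) (tt N28316 (iv F204237)) (tt N27955 F203275) (tt N27791 F203276) (tt N28011 F203277) (tt N28317 (iv F204250)) (tt N28334 (iv F204377)) (tt N28318 (iv F204258)) (tt N27789 (iv D44062)) (tt N28135 F203278))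
theorem Q28137 : ∀ i, i < 28137 → P i := stepQ 28136 Q28136 (allL N28136 (tt N27992 F203279) (tt N28317 (iv F204246)) (tt N28338 (iv F204402)) (tt N28318 (iv F204257)) (tt N28333 (iv F204366)) (tt N28316 (iv F204241)) (tt N28335 (iv F204384)) (tt N27791 F203280) (tt N27790 (iv D44063)) (tt N28136 F203281))
theorem Q28138 : ∀ i, i < 28138 → P i := stepQ 28137 Q28137 (allL N28137 (tt N27993 F203282) (tt N28318 (iv F204255)) (tt N28339 (iv F204410)) (tt N28317 (iv F204248)) (tt N28340 D44267) (tt N27791 (iv D44064)) (tt N28337 (iv F204398)) (tt N28316 (iv F204243)) (tt N27792 F203283) (tt N28137 F203284))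
theorem Q28139 : ∀ i, i < 28139 → P i := stepQ 28138 Q28138 (allL N28138 (tt N27994 F203285) (tt N28010 F203286) (tt N27870 F203287) (tt N28304 (iv F204146)) (tt N27792 (iv D44065)) (tt N27793 F203288) (tt N28291 (iv F204049)) (tt N27989 F203289) (tt N28340 (iv F204422)) (tt N27794 F203290))
theorem Q28140 : ∀ i, i < 28140 → P i := stepQ 28139 Q28139 (allL N28139 (tt N27841 F203291) (tt N27800 F203292) (tt N28001 F203293) (tt N27842 F203294) (tt N27847 F203295) (tt N27796 F203296) (tt N27837 F203297) (tt N27843 F203298) (tt N28341 D44268) (tt N27795 (iv D44066)))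
theorem Q28141 : ∀ i, i < 28141 → P i := stepQ 28140 Q28140 (allL N28140 (tt N27847 F203299) (tt N27842 F203300) (tt N27888 F203301) (tt N27800 F203302) (tt N27841 F203303) (tt N27798 F203304) (tt N27834 F203305) (tt N27866 F203306) (tt N28342 D44269) (tt N27797 (iv D44067)))
theorem Q28142 : ∀ i, i < 28142 → P i := stepQ 28141 Q28141 (allL N28141 (tt N27837 F203307) (tt N27843 F203308) (tt N27810 F203309) (tt N27866 F203310) (tt N27834 F203311) (tt N27801 F203312) (tt N27841 F203313) (tt N27800 F203314) (tt N28343 D44270) (tt N27799 (iv D44068)))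
theorem Q28143 : ∀ i, i < 28143 → P i := stepQ 28142 Q28142 (allL N28142 (tt N27869 F203315) (tt N28341 (iv F204425)) (tt N27811 F203316) (tt N28342 (iv F204436)) (tt N27896 F203317) (tt N28344 D44271) (tt N27838 F203318) (tt N28343 (iv F204449)) (tt N27800 (iv D44069)) (tt N28142 F203319))
theorem Q28144 : ∀ i, i < 28144 → P i := stepQ 28143 Q28143 (allL N28143 (tt N27962 F203320) (tt N27894 F203321) (tt N27813 F203322) (tt N27882 F203323) (tt N28004 F203324) (tt N27802 (iv D44070)) (tt N27941 F203325) (tt N27892 F203326) (tt N28344 (iv F204458)) (tt N27803 F203327))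
theorem Q28145 : ∀ i, i < 28145 → P i := stepQ 28144 Q28144 (allL N28144 (tt N27996 F203328) (tt N27951 F203329) (tt N28322 (iv F204286)) (tt N27850 F203330) (tt N27806 F203331) (tt N27855 F203332) (tt N27871 F203333) (tt N28321 (iv F204283)) (tt N28345 D44272) (tt N27804 (iv D44071)))
theorem Q28146 : ∀ i, i < 28146 → P i := stepQ 28145 Q28145 (allL N28145 (tt N27997 F203334) (tt N28293 (iv F204059)) (tt N28324 (iv F204299)) (tt N27810 F203335) (tt N28321 (iv F204281)) (tt N27807 F203336) (tt N28278 (iv F203945)) (tt N27806 F203337) (tt N28346 D44273) (tt N27805 (iv D44072)))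
theorem Q28147 : ∀ i, i < 28147 → P i := stepQ 28146 Q28146 (allL N28146 (tt N27998 F203338) (tt N28294 (iv F204066)) (tt N28325 (iv F204306)) (tt N27811 F203339) (tt N28345 (iv F204463)) (tt N28347 D44274) (tt N27872 F203340) (tt N28346 (iv F204469)) (tt N27806 (iv D44073)) (tt N28146 F203341))
theorem Q28148 : ∀ i, i < 28148 → P i := stepQ 28147 Q28147 (allL N28147 (tt N27999 F203342) (tt N27970 F203343) (tt N27885 F203344) (tt N27812 F203345) (tt N27824 F203346) (tt N28348 D44275) (tt N27891 F203347) (tt N27808 F203348) (tt N27807 (iv D44074)) (tt N27816 F203349))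
theorem Q28149 : ∀ i, i < 28149 → P i := stepQ 28148 Q28148 (allL N28148 (tt N28000 F203350) (tt N27996 F203351) (tt N27884 F203352) (tt N27813 F203353) (tt N27958 F203354) (tt N27808 (iv D44075)) (tt N27826 F203355) (tt N28348 (iv F204484)) (tt N28347 (iv F204477)) (tt N27817 F203356))
theorem Q28150 : ∀ i, i < 28150 → P i := stepQ 28149 Q28149 (allL N28149 (tt N28001 F203357) (tt N27987 F203358) (tt N27841 F203359) (tt N28278 (iv F203943)) (tt N27888 F203360) (tt N27840 F203361) (tt N27810 F203362) (tt N27864 F203363) (tt N28349 D44276) (tt N27809 (iv D44076)))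
theorem Q28151 : ∀ i, i < 28151 → P i := stepQ 28150 Q28150 (allL N28150 (tt N28002 F203364) (tt N28295 (iv F204073)) (tt N28343 (iv F204444)) (tt N28346 (iv F204468)) (tt N27898 F203365) (tt N28350 D44277) (tt N28349 (iv F204491)) (tt N27811 F203366) (tt N27810 (iv D44077)) (tt N28150 F203367))
theorem Q28152 : ∀ i, i < 28152 → P i := stepQ 28151 Q28151 (allL N28151 (tt N28003 F203368) (tt N28296 (iv F204081)) (tt N28344 (iv F204453)) (tt N28347 (iv F204474)) (tt N28351 D44278) (tt N27811 (iv D44078)) (tt N28352 D44279) (tt N28350 (iv F204498)) (tt N27813 F203369) (tt N28151 F203370))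
theorem Q28153 : ∀ i, i < 28153 → P i := stepQ 28152 Q28152 (allL N28152 (tt N28004 F203371) (tt N27965 F203372) (tt N27892 F203373) (tt N28348 (iv F204482)) (tt N27962 F203374) (tt N27812 (iv D44079)) (tt N28298 (iv F204102)) (tt N27813 F203375) (tt N28350 (iv F204499)) (tt N27818 F203376))
theorem Q28154 : ∀ i, i < 28154 → P i := stepQ 28153 Q28153 (allL N28153 (tt N27892 F203377) (tt N27835 F203378) (tt N28004 F203379) (tt N27846 F203380) (tt N27813 (iv D44080)) (tt N27815 F203381) (tt N27979 (iv F203384)) (tt N27962 F203382) (tt N28351 (iv F204507)) (tt N27819 F203383))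
theorem Q28155 : ∀ i, i < 28155 → P i := stepQ 28154 Q28154 (allL N28154 (tt N28005 F203385) (tt N28014 F203386) (tt N27941 F203387) (tt N27826 F203388) (tt N27979 F203389) (tt N27814 F203390) (tt N27813 (iv D44081)) (tt N28353 D44280) (tt N28352 (iv F204516)) (tt N27820 F203391))
theorem Q28156 : ∀ i, i < 28156 → P i := stepQ 28155 Q28155 (allL N28155 (tt N28006 F203392) (tt N27911 F203393) (tt N27942 F203394) (tt N27827 F203395) (tt N27829 F203396) (tt N28353 (iv F204523)) (tt N27949 F203397) (tt N27814 (iv D44082)) (tt N27938 F203398) (tt N27821 F203399))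
theorem Q28157 : ∀ i, i < 28157 → P i := stepQ 28156 Q28156 (allL N28156 (tt N28007 F203400) (tt N27963 F203401) (tt N27883 F203402) (tt N27818 F203403) (tt N27957 F203404) (tt N27816 (iv D44083)) (tt N28285 (iv F204001)) (tt N27817 F203405) (tt N28156 F203406) (tt N28348 (iv F204485)))
theorem Q28158 : ∀ i, i < 28158 → P i := stepQ 28157 Q28157 (allL N28157 (tt N28008 F203407) (tt N27904 F203408) (tt N27940 F203409) (tt N27825 F203410) (tt N27978 F203411) (tt N27821 F203412) (tt N28297 (iv F204095)) (tt N27820 (iv D44084)) (tt N28157 F203413) (tt N28353 (iv F204524)))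
theorem Q28159 : ∀ i, i < 28159 → P i := stepQ 28158 Q28158 (allL N28158 (tt N28020 F203414) (tt N27891 F203415) (tt N28287 (iv F204012)) (tt N27823 F203416) (tt N27974 F203417) (tt N28284 (iv F203992)) (tt N27970 F203418) (tt N27881 F203419) (tt N27880 F203420) (tt N27822 (iv D44085)))
theorem Q28160 : ∀ i, i < 28160 → P i := stepQ 28159 Q28159 (allL N28159 (tt N28009 F203421) (tt N27905 F203422) (tt N27893 F203423) (tt N28297 (iv F204092)) (tt N27902 F203424) (tt N27934 F203425) (tt N27825 (iv D44086)) (tt N28285 (iv F204002)) (tt N28159 F203426) (tt N28354 D44281))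
theorem Q28161 : ∀ i, i < 28161 → P i := stepQ 28160 Q28160 (allL N28160 (tt N28010 F203427) (tt N27906 F203428) (tt N27894 F203429) (tt N28353 (iv F204521)) (tt N27903 F203430) (tt N27827 F203431) (tt N28354 (iv F204530)) (tt N27826 F203432) (tt N28355 D44282) (tt N27825 (iv D44087)))
theorem Q28162 : ∀ i, i < 28162 → P i := stepQ 28161 Q28161 (allL N28161 (tt N28011 F203433) (tt N28015 F203434) (tt N27895 F203435) (tt N28352 (iv F204513)) (tt N27990 F203436) (tt N28312 (iv F204207)) (tt N28347 (iv F204476)) (tt N28355 (iv F204536)) (tt N27826 (iv D44088)) (tt N28161 F203437))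
theorem Q28163 : ∀ i, i < 28163 → P i := stepQ 28162 Q28162 (allL N28162 (tt N27844 F203438) (tt N27869 F203439) (tt N28012 F203440) (tt N27896 F203441) (tt N28303 (iv F204138)) (tt N27968 F203442) (tt N27867 F203443) (tt N27838 F203444) (tt N27831 (iv D44089)) (tt N28162 F203445))
theorem Q28164 : ∀ i, i < 28164 → P i := stepQ 28163 Q28163 (allL N28163 (tt N27866 F203446) (tt N27834 F203447) (tt N28026 F203448) (tt N27837 F203449) (tt N27843 F203450) (tt N27833 F203451) (tt N27842 F203452) (tt N27847 F203453) (tt N28356 D44283) (tt N27832 (iv D44090)))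
theorem Q28165 : ∀ i, i < 28165 → P i := stepQ 28164 Q28164 (allL N28164 (tt N27848 F203454) (tt N28356 (iv F204539)) (tt N27898 F203455) (tt N27838 F203456) (tt N28343 (iv F204446)) (tt N27890 F203457) (tt N28342 (iv F204439)) (tt N27896 F203458) (tt N27834 (iv D44091)) (tt N28164 F203459))
theorem Q28166 : ∀ i, i < 28166 → P i := stepQ 28165 Q28165 (allL N28165 (tt N27853 F203460) (tt N28351 (iv F204502)) (tt N27909 F203461) (tt N27890 F203462) (tt N28296 (iv F204084)) (tt N27838 F203463) (tt N28320 (iv F204276)) (tt N27968 F203464) (tt N27835 (iv D44092)) (tt N28165 F203465))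
theorem Q28167 : ∀ i, i < 28167 → P i := stepQ 28166 Q28166 (allL N28166 (tt N28343 (iv F204442)) (tt N27838 F203466) (tt N28002 F203467) (tt N28356 (iv F204541)) (tt N27848 F203468) (tt N28351 (iv F204505)) (tt N28341 (iv F204430)) (tt N27869 F203469) (tt N27837 (iv D44093)) (tt N28166 F203470))
theorem Q28168 : ∀ i, i < 28168 → P i := stepQ 28167 Q28167 (allL N28167 (tt N27896 F203471) (tt N28303 (iv F204135)) (tt N27890 F203472) (tt N27844 F203473) (tt N27869 F203474) (tt N27898 F203475) (tt N27868 F203476) (tt N27848 F203477) (tt N27839 (iv D44094)) (tt N28167 F203478))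
theorem Q28169 : ∀ i, i < 28169 → P i := stepQ 28168 Q28168 (allL N28168 (tt N28341 (iv F204424)) (tt N27844 F203479) (tt N28349 (iv F204488)) (tt N28303 (iv F204137)) (tt N28342 (iv F204437)) (tt N28029 F203480) (tt N28343 (iv F204448)) (tt N27867 F203481) (tt N27841 (iv D44095)) (tt N28168 F203482))
theorem Q28170 : ∀ i, i < 28170 → P i := stepQ 28169 Q28169 (allL N28169 (tt N28303 (iv F204134)) (tt N28342 (iv F204434)) (tt N28311 (iv F204196)) (tt N28341 (iv F204427)) (tt N27844 F203483) (tt N27945 F203484) (tt N28356 (iv F204544)) (tt N27868 F203485) (tt N27842 (iv D44096)) (tt N28169 F203486))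
theorem Q28171 : ∀ i, i < 28171 → P i := stepQ 28170 Q28170 (allL N28170 (tt N27867 F203487) (tt N28343 (iv F204443)) (tt N28312 (iv F204204)) (tt N27868 F203488) (tt N28356 (iv F204542)) (tt N27895 F203489) (tt N27844 F203490) (tt N28341 (iv F204431)) (tt N27843 (iv D44097)) (tt N28170 F203491))
theorem Q28172 : ∀ i, i < 28172 → P i := stepQ 28171 Q28171 (allL N28171 (tt N27898 F203492) (tt N28021 F203493) (tt N27848 F203494) (tt N27968 F203495) (tt N28002 F203496) (tt N27896 F203497) (tt N28025 F203498) (tt N27890 F203499) (tt N27845 (iv D44098)) (tt N28171 F203500))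
theorem Q28173 : ∀ i, i < 28173 → P i := stepQ 28172 Q28172 (allL N28172 (tt N27899 F203501) (tt N27890 F203502) (tt N28024 F203503) (tt N28351 (iv F204504)) (tt N27961 F203504) (tt N28356 (iv F204543)) (tt N27982 F203505) (tt N28021 F203506) (tt N27846 (iv D44099)) (tt N28172 F203507))
theorem Q28174 : ∀ i, i < 28174 → P i := stepQ 28173 Q28173 (allL N28173 (tt N28342 (iv F204433)) (tt N27896 F203508) (tt N28025 F203509) (tt N27869 F203510) (tt N28341 (iv F204428)) (tt N28021 F203511) (tt N27848 F203512) (tt N28356 (iv F204545)) (tt N27847 (iv D44100)) (tt N28173 F203513))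
theorem Q28175 : ∀ i, i < 28175 → P i := stepQ 28174 Q28174 (allL N28174 (tt N28014 F203514) (tt N27947 F203515) (tt N28276 (iv F203929)) (tt N27871 F203516) (tt N27852 F203517) (tt N27874 F203518) (tt N27850 F203519) (tt N28275 (iv F203926)) (tt N28357 D44284) (tt N27849 (iv D44101)))
theorem Q28176 : ∀ i, i < 28176 → P i := stepQ 28175 Q28175 (allL N28175 (tt N28296 (iv F204080)) (tt N27955 F203520) (tt N28277 (iv F203935)) (tt N28345 (iv F204462)) (tt N27853 F203521) (tt N27929 F203522) (tt N28357 (iv F204551)) (tt N28323 (iv F204295)) (tt N27850 (iv D44102)) (tt N28175 F203523))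
theorem Q28177 : ∀ i, i < 28177 → P i := stepQ 28176 Q28176 (allL N28176 (tt N28310 (iv F204186)) (tt N28022 F203524) (tt N28278 (iv F203942)) (tt N27900 F203525) (tt N28275 (iv F203924)) (tt N27995 F203526) (tt N28324 (iv F204302)) (tt N27852 F203527) (tt N28358 D44285) (tt N27851 (iv D44103)))
theorem Q28178 : ∀ i, i < 28178 → P i := stepQ 28177 Q28177 (allL N28177 (tt N28320 (iv F204270)) (tt N28023 F203528) (tt N28279 (iv F203949)) (tt N27901 F203529) (tt N28357 (iv F204550)) (tt N28300 (iv F204114)) (tt N27853 F203530) (tt N28358 (iv F204555)) (tt N27852 (iv D44104)) (tt N28177 F203531))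
theorem Q28179 : ∀ i, i < 28179 → P i := stepQ 28178 Q28178 (allL N28178 (tt N28027 F203532) (tt N28315 (iv F204228)) (tt N27855 F203533) (tt N28280 (iv F203957)) (tt N27857 F203534) (tt N28322 (iv F204288)) (tt N27924 F203535) (tt N28326 (iv F204317)) (tt N27923 F203536) (tt N27854 (iv D44105)))
theorem Q28180 : ∀ i, i < 28180 → P i := stepQ 28179 Q28179 (allL N28179 (tt N28018 F203537) (tt N27857 F203538) (tt N27876 F203539) (tt N27859 F203540) (tt N28315 (iv F204231)) (tt N27881 F203541) (tt N27877 F203542) (tt N28284 (iv F203994)) (tt N27875 F203543) (tt N27856 (iv D44106)))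
theorem Q28181 : ∀ i, i < 28181 → P i := stepQ 28180 Q28180 (allL N28180 (tt N28017 F203544) (tt N27861 F203545) (tt N27881 F203546) (tt N27877 F203547) (tt N28289 (iv F204031)) (tt N27876 F203548) (tt N27859 F203549) (tt N28287 (iv F204014)) (tt N27879 F203550) (tt N27858 (iv D44107)))
theorem Q28182 : ∀ i, i < 28182 → P i := stepQ 28181 Q28181 (allL N28181 (tt N28281 (iv F203962)) (tt N28287 (iv F204011)) (tt N27862 F203551) (tt N27935 F203552) (tt N28292 (iv F204054)) (tt N27949 F203553) (tt N28330 (iv F204346)) (tt N27861 F203554) (tt N27972 F203555) (tt N27860 (iv D44108)))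
theorem Q28183 : ∀ i, i < 28183 → P i := stepQ 28182 Q28182 (allL N28182 (tt N28026 F203556) (tt N27975 F203557) (tt N27866 F203558) (tt N28324 (iv F204300)) (tt N27864 F203559) (tt N27865 F203560) (tt N27900 F203561) (tt N27888 F203562) (tt N28359 D44286) (tt N27863 (iv D44109)))
theorem Q28184 : ∀ i, i < 28184 → P i := stepQ 28183 Q28183 (allL N28183 (tt N28312 (iv F204202)) (tt N27988 F203563) (tt N27867 F203564) (tt N28279 (iv F203950)) (tt N28359 (iv F204560)) (tt N28011 F203565) (tt N28012 F203566) (tt N28349 (iv F204492)) (tt N27864 (iv D44110)) (tt N28183 F203567))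
theorem Q28185 : ∀ i, i < 28185 → P i := stepQ 28184 Q28184 (allL N28184 (tt N28356 (iv F204538)) (tt N27868 F203568) (tt N28359 (iv F204559)) (tt N28343 (iv F204445)) (tt N27867 F203569) (tt N27899 F203570) (tt N28303 (iv F204139)) (tt N28342 (iv F204440)) (tt N27866 (iv D44111)) (tt N28184 F203571))
theorem Q28186 : ∀ i, i < 28186 → P i := stepQ 28185 Q28185 (allL N28185 (tt N28344 (iv F204451)) (tt N27968 F203572) (tt N28003 F203573) (tt N28021 F203574) (tt N28350 (iv F204497)) (tt N27869 (iv D44112)) (tt N28300 (iv F204115)) (tt N28351 (iv F204506)) (tt N27962 F203575) (tt N28185 F203576))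
theorem Q28187 : ∀ i, i < 28187 → P i := stepQ 28186 Q28186 (allL N28186 (tt N28316 (iv F204236)) (tt N27872 F203577) (tt N28340 (iv F204419)) (tt N28013 F203578) (tt N28339 (iv F204412)) (tt N27992 F203579) (tt N28294 (iv F204070)) (tt N27993 F203580) (tt N27870 (iv D44113)) (tt N28186 F203581))
theorem Q28188 : ∀ i, i < 28188 → P i := stepQ 28187 Q28187 (allL N28187 (tt N28015 F203582) (tt N28339 (iv F204409)) (tt N28323 (iv F204292)) (tt N28357 (iv F204549)) (tt N27872 F203583) (tt N28335 (iv F204383)) (tt N28345 (iv F204465)) (tt N28277 (iv F203938)) (tt N27871 (iv D44114)) (tt N28187 F203584))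
theorem Q28189 : ∀ i, i < 28189 → P i := stepQ 28188 Q28188 (allL N28188 (tt N28016 F203585) (tt N27923 F203586) (tt N27874 F203587) (tt N28326 (iv F204314)) (tt N27875 F203588) (tt N28276 (iv F203931)) (tt N27919 F203589) (tt N28280 (iv F203960)) (tt N28315 (iv F204234)) (tt N27873 (iv D44115)))
theorem Q28190 : ∀ i, i < 28190 → P i := stepQ 28189 Q28189 (allL N28189 (tt N28019 F203590) (tt N27972 F203591) (tt N27880 F203592) (tt N27932 F203593) (tt N28330 (iv F204345)) (tt N27930 F203594) (tt N28292 (iv F204055)) (tt N27879 F203595) (tt N28287 (iv F204015)) (tt N27878 (iv D44116)))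
theorem Q28191 : ∀ i, i < 28191 → P i := stepQ 28190 Q28190 (allL N28190 (tt N28021 F203596) (tt N27945 F203597) (tt N27887 F203598) (tt N28344 (iv F204454)) (tt N28314 (iv F204222)) (tt N28342 (iv F204438)) (tt N27944 F203599) (tt N27899 F203600) (tt N27882 (iv D44117)) (tt N28190 F203601))
theorem Q28192 : ∀ i, i < 28192 → P i := stepQ 28191 Q28191 (allL N28191 (tt N28022 F203602) (tt N28331 (iv F204350)) (tt N28348 (iv F204481)) (tt N27886 F203603) (tt N28304 (iv F204147)) (tt N27885 F203604) (tt N28328 (iv F204331)) (tt N27884 F203605) (tt N28360 D44287) (tt N27883 (iv D44118)))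
theorem Q28193 : ∀ i, i < 28193 → P i := stepQ 28192 Q28192 (allL N28192 (tt N28023 F203606) (tt N28332 (iv F204357)) (tt N28347 (iv F204473)) (tt N27887 F203607) (tt N28305 (iv F204154)) (tt N28325 (iv F204308)) (tt N27895 F203608) (tt N28360 (iv F204567)) (tt N27884 (iv D44119)) (tt N28192 F203609))
theorem Q28194 : ∀ i, i < 28194 → P i := stepQ 28193 Q28193 (allL N28193 (tt N28024 F203610) (tt N28333 (iv F204364)) (tt N27899 F203611) (tt N28360 (iv F204566)) (tt N28317 (iv F204249)) (tt N28359 (iv F204561)) (tt N28329 (iv F204338)) (tt N27887 F203612) (tt N27886 (iv D44120)) (tt N28193 F203613))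
theorem Q28195 : ∀ i, i < 28195 → P i := stepQ 28194 Q28194 (allL N28194 (tt N28025 F203614) (tt N28302 (iv F204126)) (tt N28342 (iv F204435)) (tt N28325 (iv F204307)) (tt N28349 (iv F204489)) (tt N27887 (iv D44121)) (tt N27898 F203615) (tt N28359 (iv F204563)) (tt N27888 F203616) (tt N28194 F203617))
theorem Q28196 : ∀ i, i < 28196 → P i := stepQ 28195 Q28195 (allL N28195 (tt N28351 (iv F204501)) (tt N27895 F203618) (tt N28350 (iv F204496)) (tt N27899 F203619) (tt N28003 F203620) (tt N28343 (iv F204447)) (tt N28332 (iv F204361)) (tt N28344 (iv F204457)) (tt N27892 (iv D44122)) (tt N28195 F203621))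
theorem Q28197 : ∀ i, i < 28197 → P i := stepQ 28196 Q28196 (allL N28196 (tt N28028 F203622) (tt N27941 F203623) (tt N28354 (iv F204527)) (tt N27937 F203624) (tt N28308 (iv F204176)) (tt N27936 F203625) (tt N27894 F203626) (tt N28328 (iv F204332)) (tt N28361 D44288) (tt N27893 (iv D44123)))
theorem Q28198 : ∀ i, i < 28198 → P i := stepQ 28197 Q28197 (allL N28197 (tt N28029 F203627) (tt N28344 (iv F204452)) (tt N28355 (iv F204533)) (tt N27945 F203628) (tt N28309 (iv F204182)) (tt N28341 (iv F204429)) (tt N28361 (iv F204573)) (tt N27895 F203629) (tt N27894 (iv D44124)) (tt N28197 F203630))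
theorem Q28199 : ∀ i, i < 28199 → P i := stepQ 28198 Q28198 (allL N28198 (tt N28311 (iv F204194)) (tt N28024 F203631) (tt N28303 (iv F204136)) (tt N28358 (iv F204554)) (tt N28012 F203632) (tt N28301 (iv F204121)) (tt N28359 (iv F204562)) (tt N27901 F203633) (tt N27900 (iv D44125)) (tt N28198 F203634))
theorem Q28200 : ∀ i, i < 28200 → P i := stepQ 28199 Q28199 (allL N28199 (tt N28319 (iv F204262)) (tt N27908 F203635) (tt N28308 (iv F204175)) (tt N27991 F203636) (tt N28354 (iv F204528)) (tt N27933 F203637) (tt N27903 F203638) (tt N28286 (iv F204009)) (tt N28362 D44289) (tt N27902 (iv D44126)))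
theorem Q28201 : ∀ i, i < 28201 → P i := stepQ 28200 Q28200 (allL N28200 (tt N28318 (iv F204254)) (tt N27909 F203639) (tt N28309 (iv F204181)) (tt N27992 F203640) (tt N28355 (iv F204534)) (tt N28013 F203641) (tt N28362 (iv F204578)) (tt N27990 F203642) (tt N27903 (iv D44127)) (tt N28200 F203643))
theorem Q28202 : ∀ i, i < 28202 → P i := stepQ 28201 Q28201 (allL N28201 (tt N28273 (iv F203905)) (tt N28285 (iv F203997)) (tt N27904 (iv D44128)) (tt N27964 F203644) (tt N27907 F203645) (tt N27910 F203646) (tt N27963 (iv F203649)) (tt N27905 F203647) (tt N28201 F203648) (tt N28363 D44290))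
theorem Q28203 : ∀ i, i < 28203 → P i := stepQ 28202 Q28202 (allL N28202 (tt N28274 (iv F203913)) (tt N28297 (iv F204090)) (tt N27963 F203650) (tt N27905 F203651) (tt N27966 F203652) (tt N27969 F203653) (tt N27904 (iv D44129)) (tt N27964 F203654) (tt N28202 F203655) (tt N28364 D44291))
theorem Q28204 : ∀ i, i < 28204 → P i := stepQ 28203 Q28203 (allL N28203 (tt N28275 (iv F203921)) (tt N28353 (iv F204519)) (tt N28363 (iv F204580)) (tt N27906 F203656) (tt N28310 (iv F204190)) (tt N27911 F203657) (tt N28364 (iv F204590)) (tt N28014 F203658) (tt N28365 D44292) (tt N27904 (iv D44130)))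
theorem Q28205 : ∀ i, i < 28205 → P i := stepQ 28204 Q28204 (allL N28204 (tt N28276 (iv F203927)) (tt N28354 (iv F204526)) (tt N28014 F203659) (tt N28364 (iv F204587)) (tt N27908 F203660) (tt N28016 F203661) (tt N27906 F203662) (tt N28363 (iv F204585)) (tt N28366 D44293) (tt N27905 (iv D44131)))
theorem Q28206 : ∀ i, i < 28206 → P i := stepQ 28205 Q28205 (allL N28205 (tt N28277 (iv F203933)) (tt N28355 (iv F204532)) (tt N28296 (iv F204082)) (tt N28365 (iv F204592)) (tt N27909 F203663) (tt N28288 (iv F204023)) (tt N28366 (iv F204597)) (tt N28015 F203664) (tt N27906 (iv D44132)) (tt N28205 F203665))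
theorem Q28207 : ∀ i, i < 28207 → P i := stepQ 28206 Q28206 (allL N28206 (tt N28278 (iv F203940)) (tt N28286 (iv F204005)) (tt N28310 (iv F204188)) (tt N28001 F203666) (tt N28363 (iv F204582)) (tt N27938 F203667) (tt N27997 F203668) (tt N27908 F203669) (tt N28367 D44294) (tt N27907 (iv D44133)))
theorem Q28208 : ∀ i, i < 28208 → P i := stepQ 28207 Q28207 (allL N28207 (tt N28279 (iv F203947)) (tt N28362 (iv F204575)) (tt N28320 (iv F204272)) (tt N28312 (iv F204205)) (tt N28366 (iv F204596)) (tt N28352 (iv F204515)) (tt N27909 F203670) (tt N28367 (iv F204601)) (tt N27908 (iv D44134)) (tt N28207 F203671))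
theorem Q28209 : ∀ i, i < 28209 → P i := stepQ 28208 Q28208 (allL N28208 (tt N28280 (iv F203954)) (tt N28327 (iv F204320)) (tt N27911 F203672) (tt N28027 F203673) (tt N27914 F203674) (tt N28363 (iv F204583)) (tt N28284 (iv F203993)) (tt N28016 F203675) (tt N28283 (iv F203986)) (tt N27910 (iv D44135)))
theorem Q28210 : ∀ i, i < 28210 → P i := stepQ 28209 Q28209 (allL N28209 (tt N28287 (iv F204010)) (tt N27914 F203676) (tt N28020 F203677) (tt N27919 F203678) (tt N28327 (iv F204323)) (tt N27917 F203679) (tt N28326 (iv F204316)) (tt N28017 F203680) (tt N28019 F203681) (tt N27912 (iv D44136)))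
theorem Q28211 : ∀ i, i < 28211 → P i := stepQ 28210 Q28210 (allL N28210 (tt N28282 (iv F203971)) (tt N28274 (iv F203914)) (tt N27915 F203682) (tt N27921 F203683) (tt N27973 F203684) (tt N27913 (iv D44137)) (tt N27946 F203685) (tt N27953 F203686) (tt N28210 F203687) (tt N28368 D44295))
theorem Q28212 : ∀ i, i < 28212 → P i := stepQ 28211 Q28211 (allL N28211 (tt N28283 (iv F203979)) (tt N28326 (iv F204312)) (tt N27916 F203688) (tt N27923 F203689) (tt N28284 (iv F203991)) (tt N28368 (iv F204606)) (tt N27914 F203690) (tt N28315 (iv F204233)) (tt N28280 (iv F203961)) (tt N27913 (iv D44138)))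
theorem Q28213 : ∀ i, i < 28213 → P i := stepQ 28212 Q28212 (allL N28212 (tt N28284 (iv F203987)) (tt N28019 F203691) (tt N27917 F203692) (tt N27924 F203693) (tt N28283 (iv F203983)) (tt N28020 F203694) (tt N28280 (iv F203959)) (tt N28018 F203695) (tt N27914 (iv D44139)) (tt N27920 F203696))
theorem Q28214 : ∀ i, i < 28214 → P i := stepQ 28213 Q28213 (allL N28213 (tt N28285 (iv F203996)) (tt N28290 (iv F204037)) (tt N27973 F203697) (tt N27939 F203698) (tt N27915 (iv D44140)) (tt N27971 F203699) (tt N28007 F203700) (tt N28009 F203701) (tt N28213 F203702) (tt N28369 D44296))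
theorem Q28215 : ∀ i, i < 28215 → P i := stepQ 28214 Q28214 (allL N28214 (tt N28286 (iv F204004)) (tt N28336 (iv F204388)) (tt N28368 (iv F204603)) (tt N27918 F203703) (tt N28369 (iv F204611)) (tt N27916 F203704) (tt N28313 (iv F204217)) (tt N28319 (iv F204268)) (tt N28370 D44297) (tt N27915 (iv D44141)))
theorem Q28216 : ∀ i, i < 28216 → P i := stepQ 28215 Q28215 (allL N28215 (tt N28288 (iv F204019)) (tt N28338 (iv F204401)) (tt N27929 F203705) (tt N28370 (iv F204615)) (tt N27944 F203706) (tt N28277 (iv F203937)) (tt N28314 (iv F204224)) (tt N28335 (iv F204385)) (tt N27918 (iv D44142)) (tt N28215 F203707))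
theorem Q28217 : ∀ i, i < 28217 → P i := stepQ 28216 Q28216 (allL N28216 (tt N28290 (iv F204036)) (tt N28273 (iv F203906)) (tt N27925 F203708) (tt N27953 F203709) (tt N27984 F203710) (tt N27922 F203711) (tt N27950 F203712) (tt N27921 (iv D44143)) (tt N28216 F203713) (tt N28371 D44298))
theorem Q28218 : ∀ i, i < 28218 → P i := stepQ 28217 Q28217 (allL N28217 (tt N28291 (iv F204044)) (tt N28276 (iv F203928)) (tt N27926 F203714) (tt N28368 (iv F204604)) (tt N27985 F203715) (tt N27923 F203716) (tt N27994 F203717) (tt N28371 (iv F204622)) (tt N28372 D44299) (tt N27921 (iv D44144)))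
theorem Q28219 : ∀ i, i < 28219 → P i := stepQ 28218 Q28218 (allL N28218 (tt N28292 (iv F204050)) (tt N28280 (iv F203955)) (tt N27927 F203718) (tt N28315 (iv F204230)) (tt N28281 (iv F203966)) (tt N28371 (iv F204620)) (tt N28019 F203719) (tt N27923 F203720) (tt N28326 (iv F204318)) (tt N27922 (iv D44145)))
theorem Q28220 : ∀ i, i < 28220 → P i := stepQ 28219 Q28219 (allL N28219 (tt N28293 (iv F204058)) (tt N28313 (iv F204212)) (tt N28371 (iv F204617)) (tt N27928 F203721) (tt N28306 (iv F204162)) (tt N27927 F203722) (tt N28336 (iv F204392)) (tt N27926 F203723) (tt N28373 D44300) (tt N27925 (iv D44146)))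
theorem Q28221 : ∀ i, i < 28221 → P i := stepQ 28220 Q28220 (allL N28220 (tt N28294 (iv F204065)) (tt N28334 (iv F204372)) (tt N28372 (iv F204623)) (tt N27929 F203724) (tt N28307 (iv F204169)) (tt N28345 (iv F204464)) (tt N28316 (iv F204242)) (tt N28373 (iv F204628)) (tt N27926 (iv D44147)) (tt N28220 F203725))
theorem Q28222 : ∀ i, i < 28222 → P i := stepQ 28221 Q28221 (allL N28221 (tt N28295 (iv F204072)) (tt N28314 (iv F204220)) (tt N28335 (iv F204381)) (tt N28373 (iv F204627)) (tt N27945 F203726) (tt N28323 (iv F204294)) (tt N28338 (iv F204405)) (tt N27929 F203727) (tt N27928 (iv D44148)) (tt N28221 F203728))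
theorem Q28223 : ∀ i, i < 28223 → P i := stepQ 28222 Q28222 (allL N28222 (tt N28315 (iv F204227)) (tt N27977 F203729) (tt N27933 F203730) (tt N28292 (iv F204053)) (tt N28018 F203731) (tt N28308 (iv F204177)) (tt N27932 F203732) (tt N28283 (iv F203985)) (tt N28016 F203733) (tt N27931 (iv D44149)))
theorem Q28224 : ∀ i, i < 28224 → P i := stepQ 28223 Q28223 (allL N28223 (tt N28289 (iv F204027)) (tt N28016 F203734) (tt N27936 F203735) (tt N28330 (iv F204344)) (tt N28017 F203736) (tt N28354 (iv F204529)) (tt N27935 F203737) (tt N28327 (iv F204325)) (tt N27977 F203738) (tt N27934 (iv D44150)))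
theorem Q28225 : ∀ i, i < 28225 → P i := stepQ 28224 Q28224 (allL N28224 (tt N28302 (iv F204125)) (tt N27944 F203739) (tt N28333 (iv F204365)) (tt N28361 (iv F204571)) (tt N28338 (iv F204403)) (tt N27982 F203740) (tt N27945 F203741) (tt N28329 (iv F204339)) (tt N27937 (iv D44151)) (tt N28224 F203742))
theorem Q28226 : ∀ i, i < 28226 → P i := stepQ 28225 Q28225 (allL N28225 (tt N28297 (iv F204089)) (tt N28282 (iv F203972)) (tt N27978 F203743) (tt N28009 F203744) (tt N27940 F203745) (tt N27976 F203746) (tt N28008 F203747) (tt N27939 (iv D44152)) (tt N28225 F203748) (tt N28374 D44301))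
theorem Q28227 : ∀ i, i < 28227 → P i := stepQ 28226 Q28226 (allL N28226 (tt N28298 (iv F204097)) (tt N28308 (iv F204174)) (tt N27979 F203749) (tt N28369 (iv F204610)) (tt N27941 F203750) (tt N27977 F203751) (tt N28004 F203752) (tt N28374 (iv F204635)) (tt N28375 D44302) (tt N27939 (iv D44153)))
theorem Q28228 : ∀ i, i < 28228 → P i := stepQ 28227 Q28227 (allL N28227 (tt N28299 (iv F204103)) (tt N28328 (iv F204328)) (tt N28353 (iv F204520)) (tt N27943 F203753) (tt N28374 (iv F204632)) (tt N27942 F203754) (tt N28331 (iv F204354)) (tt N27941 F203755) (tt N28376 D44303) (tt N27940 (iv D44154)))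
theorem Q28229 : ∀ i, i < 28229 → P i := stepQ 28228 Q28228 (allL N28228 (tt N28300 (iv F204110)) (tt N28361 (iv F204570)) (tt N28352 (iv F204512)) (tt N27944 F203756) (tt N28375 (iv F204637)) (tt N28320 (iv F204275)) (tt N28344 (iv F204456)) (tt N28376 (iv F204641)) (tt N27941 (iv D44155)) (tt N28228 F203757))
theorem Q28230 : ∀ i, i < 28230 → P i := stepQ 28229 Q28229 (allL N28229 (tt N28301 (iv F204117)) (tt N28329 (iv F204334)) (tt N27945 F203758) (tt N28376 (iv F204640)) (tt N28335 (iv F204382)) (tt N28311 (iv F204198)) (tt N28333 (iv F204368)) (tt N27944 F203759) (tt N27943 (iv D44156)) (tt N28229 F203760))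
theorem Q28231 : ∀ i, i < 28231 → P i := stepQ 28230 Q28230 (allL N28230 (tt N28304 (iv F204143)) (tt N28275 (iv F203922)) (tt N28313 (iv F204213)) (tt N27994 F203761) (tt N28022 F203762) (tt N27948 F203763) (tt N28368 (iv F204607)) (tt N27947 F203764) (tt N28377 D44304) (tt N27946 (iv D44157)))
theorem Q28232 : ∀ i, i < 28232 → P i := stepQ 28231 Q28231 (allL N28231 (tt N28305 (iv F204150)) (tt N28357 (iv F204548)) (tt N28334 (iv F204373)) (tt N28339 (iv F204411)) (tt N28023 F203765) (tt N28337 (iv F204397)) (tt N27955 F203766) (tt N28377 (iv F204645)) (tt N27947 (iv D44158)) (tt N28231 F203767))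
theorem Q28233 : ∀ i, i < 28233 → P i := stepQ 28232 Q28232 (allL N28232 (tt N28306 (iv F204158)) (tt N28321 (iv F204279)) (tt N28336 (iv F204389)) (tt N27954 F203768) (tt N28293 (iv F204061)) (tt N27952 F203769) (tt N28371 (iv F204621)) (tt N27951 F203770) (tt N28378 D44305) (tt N27950 (iv D44159)))
theorem Q28234 : ∀ i, i < 28234 → P i := stepQ 28233 Q28233 (allL N28233 (tt N28307 (iv F204165)) (tt N28345 (iv F204461)) (tt N28337 (iv F204395)) (tt N27955 F203771) (tt N28294 (iv F204068)) (tt N28334 (iv F204376)) (tt N28339 (iv F204413)) (tt N28378 (iv F204648)) (tt N27951 (iv D44160)) (tt N28233 F203772))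
theorem Q28235 : ∀ i, i < 28235 → P i := stepQ 28234 Q28234 (allL N28234 (tt N28308 (iv F204173)) (tt N28322 (iv F204285)) (tt N28319 (iv F204264)) (tt N28371 (iv F204618)) (tt N28028 F203773) (tt N28315 (iv F204232)) (tt N27954 F203774) (tt N28368 (iv F204608)) (tt N28379 D44306) (tt N27953 (iv D44161)))
theorem Q28236 : ∀ i, i < 28236 → P i := stepQ 28235 Q28235 (allL N28235 (tt N28309 (iv F204179)) (tt N28323 (iv F204291)) (tt N28318 (iv F204256)) (tt N28378 (iv F204647)) (tt N28029 F203775) (tt N28314 (iv F204223)) (tt N28379 (iv F204651)) (tt N27955 F203776) (tt N27954 (iv D44162)) (tt N28235 F203777))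
theorem Q28237 : ∀ i, i < 28237 → P i := stepQ 28236 Q28236 (allL N28236 (tt N28317 (iv F204245)) (tt N28012 F203778) (tt N27961 F203779) (tt N27993 F203780) (tt N28024 F203781) (tt N27990 F203782) (tt N27988 F203783) (tt N28013 F203784) (tt N27956 (iv D44163)) (tt N28236 F203785))
theorem Q28238 : ∀ i, i < 28238 → P i := stepQ 28237 Q28237 (allL N28237 (tt N28313 (iv F204211)) (tt N27997 F203786) (tt N28304 (iv F204145)) (tt N27960 F203787) (tt N28348 (iv F204483)) (tt N27959 F203788) (tt N28286 (iv F204008)) (tt N27958 F203789) (tt N28380 D44307) (tt N27957 (iv D44164)))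
theorem Q28239 : ∀ i, i < 28239 → P i := stepQ 28238 Q28238 (allL N28238 (tt N28334 (iv F204371)) (tt N27998 F203790) (tt N28305 (iv F204152)) (tt N27961 F203791) (tt N28347 (iv F204475)) (tt N28307 (iv F204170)) (tt N27990 F203792) (tt N28380 (iv F204655)) (tt N27958 (iv D44165)) (tt N28238 F203793))
theorem Q28240 : ∀ i, i < 28240 → P i := stepQ 28239 Q28239 (allL N28239 (tt N28314 (iv F204219)) (tt N28002 F203794) (tt N28013 F203795) (tt N28380 (iv F204654)) (tt N28021 F203796) (tt N28309 (iv F204183)) (tt N28288 (iv F204024)) (tt N27961 F203797) (tt N27960 (iv D44166)) (tt N28239 F203798))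
theorem Q28241 : ∀ i, i < 28241 → P i := stepQ 28240 Q28240 (allL N28240 (tt N28321 (iv F204278)) (tt N28348 (iv F204480)) (tt N28364 (iv F204586)) (tt N27965 F203799) (tt N27997 F203800) (tt N27970 F203801) (tt N28363 (iv F204584)) (tt N27996 F203802) (tt N28381 D44308) (tt N27963 (iv D44167)))
theorem Q28242 : ∀ i, i < 28242 → P i := stepQ 28241 Q28241 (allL N28241 (tt N28322 (iv F204284)) (tt N28298 (iv F204098)) (tt N27996 F203803) (tt N28363 (iv F204581)) (tt N27967 F203804) (tt N28027 F203805) (tt N27965 F203806) (tt N28364 (iv F204591)) (tt N28382 D44309) (tt N27964 (iv D44168)))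
theorem Q28243 : ∀ i, i < 28243 → P i := stepQ 28242 Q28242 (allL N28242 (tt N28323 (iv F204290)) (tt N28350 (iv F204495)) (tt N28015 F203807) (tt N28381 (iv F204657)) (tt N27968 F203808) (tt N28295 (iv F204076)) (tt N28382 (iv F204663)) (tt N28296 (iv F204085)) (tt N27965 (iv D44169)) (tt N28242 F203809))
theorem Q28244 : ∀ i, i < 28244 → P i := stepQ 28243 Q28243 (allL N28243 (tt N28324 (iv F204297)) (tt N28299 (iv F204104)) (tt N27997 F203810) (tt N28026 F203811) (tt N28364 (iv F204588)) (tt N27983 F203812) (tt N28310 (iv F204192)) (tt N27967 F203813) (tt N28383 D44310) (tt N27966 (iv D44170)))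
theorem Q28245 : ∀ i, i < 28245 → P i := stepQ 28244 Q28244 (allL N28244 (tt N28325 (iv F204304)) (tt N28300 (iv F204111)) (tt N27998 F203814) (tt N28025 F203815) (tt N28382 (iv F204662)) (tt N28023 F203816) (tt N27968 F203817) (tt N28383 (iv F204668)) (tt N27967 (iv D44171)) (tt N28244 F203818))
theorem Q28246 : ∀ i, i < 28246 → P i := stepQ 28245 Q28245 (allL N28245 (tt N28326 (iv F204311)) (tt N28330 (iv F204342)) (tt N27970 F203819) (tt N28016 F203820) (tt N27972 F203821) (tt N28364 (iv F204589)) (tt N28287 F204018) (tt N28027 F203822) (tt N28292 (iv F204057)) (tt N27969 (iv D44172)))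
theorem Q28247 : ∀ i, i < 28247 → P i := stepQ 28246 Q28246 (allL N28246 (tt N28327 (iv F204319)) (tt N28292 (iv F204051)) (tt N27974 F203823) (tt N27977 F203824) (tt N28287 F204017) (tt N28369 (iv F204612)) (tt N27972 F203825) (tt N28289 (iv F204034)) (tt N28330 (iv F204348)) (tt N27971 (iv D44173)))
theorem Q28248 : ∀ i, i < 28248 → P i := stepQ 28247 Q28247 (allL N28247 (tt N28328 (iv F204327)) (tt N28324 (iv F204298)) (tt N28369 (iv F204609)) (tt N27975 F203826) (tt N28368 (iv F204605)) (tt N27974 F203827) (tt N28022 F203828) (tt N28028 F203829) (tt N28384 D44311) (tt N27973 (iv D44174)))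
theorem Q28249 : ∀ i, i < 28249 → P i := stepQ 28248 Q28248 (allL N28248 (tt N28329 (iv F204333)) (tt N28359 (iv F204558)) (tt N27982 F203830) (tt N28384 (iv F204670)) (tt N27988 F203831) (tt N28333 (iv F204367)) (tt N28024 F203832) (tt N28302 (iv F204132)) (tt N27975 (iv D44175)) (tt N28248 F203833))
theorem Q28250 : ∀ i, i < 28250 → P i := stepQ 28249 Q28249 (allL N28249 (tt N28330 (iv F204341)) (tt N28283 (iv F203980)) (tt N27980 F203834) (tt N28289 (iv F204030)) (tt N28019 F203835) (tt N28374 (iv F204633)) (tt N28281 (iv F203968)) (tt N27977 F203836) (tt N28327 (iv F204326)) (tt N27976 (iv D44176)))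
theorem Q28251 : ∀ i, i < 28251 → P i := stepQ 28250 Q28250 (allL N28250 (tt N28331 (iv F204349)) (tt N28310 (iv F204187)) (tt N28374 (iv F204630)) (tt N27981 F203837) (tt N28353 (iv F204522)) (tt N27980 F203838) (tt N28299 (iv F204108)) (tt N27979 F203839) (tt N28385 D44312) (tt N27978 (iv D44177)))
theorem Q28252 : ∀ i, i < 28252 → P i := stepQ 28251 Q28251 (allL N28251 (tt N28332 (iv F204356)) (tt N28320 (iv F204271)) (tt N28375 (iv F204636)) (tt N27982 F203840) (tt N28352 (iv F204514)) (tt N28361 (iv F204572)) (tt N28351 F204509) (tt N28385 (iv F204675)) (tt N27979 (iv D44178)) (tt N28251 F203841))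
theorem Q28253 : ∀ i, i < 28253 → P i := stepQ 28252 Q28252 (allL N28252 (tt N28333 (iv F204363)) (tt N28311 (iv F204195)) (tt N28302 (iv F204127)) (tt N28385 (iv F204674)) (tt N27992 F203842) (tt N28329 (iv F204337)) (tt N28301 (iv F204122)) (tt N27982 F203843) (tt N27981 (iv D44179)) (tt N28252 F203844))
theorem Q28254 : ∀ i, i < 28254 → P i := stepQ 28253 Q28253 (allL N28253 (tt N28336 (iv F204387)) (tt N28278 (iv F203941)) (tt N28306 (iv F204160)) (tt N27987 F203845) (tt N28371 (iv F204619)) (tt N27986 F203846) (tt N28293 (iv F204063)) (tt N27985 F203847) (tt N28386 D44313) (tt N27984 (iv D44180)))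
theorem Q28255 : ∀ i, i < 28255 → P i := stepQ 28254 Q28254 (allL N28254 (tt N28337 (iv F204394)) (tt N28279 (iv F203948)) (tt N28307 (iv F204167)) (tt N27988 F203848) (tt N28372 (iv F204624)) (tt N28305 (iv F204155)) (tt N27993 F203849) (tt N28386 (iv F204678)) (tt N27985 (iv D44181)) (tt N28254 F203850))
theorem Q28256 : ∀ i, i < 28256 → P i := stepQ 28255 Q28255 (allL N28255 (tt N28338 (iv F204400)) (tt N28349 (iv F204487)) (tt N27992 F203851) (tt N28386 (iv F204677)) (tt N28302 (iv F204129)) (tt N28340 (iv F204420)) (tt N28295 (iv F204077)) (tt N27988 F203852) (tt N27987 (iv D44182)) (tt N28255 F203853))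
theorem Q28257 : ∀ i, i < 28257 → P i := stepQ 28256 Q28256 (allL N28256 (tt N28339 (iv F204408)) (tt N28011 F203854) (tt N27993 F203855) (tt N28305 (iv F204153)) (tt N28316 (iv F204240)) (tt N27988 (iv D44183)) (tt N28307 (iv F204171)) (tt N28340 (iv F204421)) (tt N27989 F203856) (tt N28256 F203857))
theorem Q28258 : ∀ i, i < 28258 → P i := stepQ 28257 Q28257 (allL N28257 (tt N28335 (iv F204379)) (tt N28312 (iv F204203)) (tt N28295 (iv F204074)) (tt N28362 (iv F204576)) (tt N28301 (iv F204120)) (tt N28015 F203858) (tt N27992 F203859) (tt N28288 (iv F204025)) (tt N27991 (iv D44184)) (tt N28257 F203860))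
theorem Q28259 : ∀ i, i < 28259 → P i := stepQ 28258 Q28258 (allL N28258 (tt N28340 (iv F204417)) (tt N28277 (iv F203934)) (tt N28316 (iv F204238)) (tt N28377 (iv F204643)) (tt N27993 (iv D44185)) (tt N28338 (iv F204404)) (tt N28372 (iv F204625)) (tt N28339 (iv F204414)) (tt N27994 F203861) (tt N28258 F203862))
theorem Q28260 : ∀ i, i < 28260 → P i := stepQ 28259 Q28259 (allL N28259 (tt N28345 (iv F204460)) (tt N28347 (iv F204472)) (tt N28382 (iv F204661)) (tt N28296 (iv F204083)) (tt N27998 F203863) (tt N28294 (iv F204069)) (tt N28015 F203864) (tt N28381 (iv F204659)) (tt N27996 (iv D44186)) (tt N28259 F203865))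
theorem Q28261 : ∀ i, i < 28261 → P i := stepQ 28260 Q28260 (allL N28260 (tt N28346 (iv F204467)) (tt N28380 (iv F204653)) (tt N28383 (iv F204665)) (tt N28002 F203866) (tt N28381 (iv F204658)) (tt N28387 D44314) (tt N28367 (iv F204600)) (tt N27998 F203867) (tt N27997 (iv D44187)) (tt N28260 F203868))
theorem Q28262 : ∀ i, i < 28262 → P i := stepQ 28261 Q28261 (allL N28261 (tt N28347 (iv F204471)) (tt N28307 (iv F204166)) (tt N28023 F203869) (tt N28003 F203870) (tt N28334 (iv F204375)) (tt N27998 (iv D44188)) (tt N28011 F203871) (tt N28387 (iv F204682)) (tt N28000 F203872) (tt N28261 F203873))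
theorem Q28263 : ∀ i, i < 28263 → P i := stepQ 28262 Q28262 (allL N28262 (tt N28348 (iv F204479)) (tt N28306 (iv F204159)) (tt N28022 F203874) (tt N28004 F203875) (tt N28313 (iv F204215)) (tt N27999 (iv D44189)) (tt N28369 (iv F204613)) (tt N28000 F203876) (tt N28387 (iv F204683)) (tt N28007 F203877))
theorem Q28264 : ∀ i, i < 28264 → P i := stepQ 28263 Q28263 (allL N28263 (tt N28349 (iv F204486)) (tt N28288 (iv F204020)) (tt N28341 (iv F204426)) (tt N28367 (iv F204599)) (tt N28025 F203878) (tt N28355 (iv F204535)) (tt N28002 F203879) (tt N28312 (iv F204209)) (tt N28001 (iv D44190)) (tt N28263 F203880))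
theorem Q28265 : ∀ i, i < 28265 → P i := stepQ 28264 Q28264 (allL N28264 (tt N28350 (iv F204494)) (tt N28309 (iv F204180)) (tt N28351 (iv F204503)) (tt N28387 (iv F204681)) (tt N28344 (iv F204455)) (tt N28002 (iv D44191)) (tt N28375 (iv F204638)) (tt N28003 F203881) (tt N28004 F203882) (tt N28264 F203883))
theorem Q28266 : ∀ i, i < 28266 → P i := stepQ 28265 Q28265 (allL N28265 (tt N28352 (iv F204510)) (tt N28305 (iv F204151)) (tt N28300 (iv F204112)) (tt N28011 F203884) (tt N28332 (iv F204359)) (tt N28279 (iv F203951)) (tt N28003 (iv D44192)) (tt N28388 D44315) (tt N28005 F203885) (tt N28265 F203886))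
theorem Q28267 : ∀ i, i < 28267 → P i := stepQ 28266 Q28266 (allL N28266 (tt N28353 (iv F204518)) (tt N28304 (iv F204144)) (tt N28299 (iv F204105)) (tt N28010 F203887) (tt N28331 (iv F204352)) (tt N28006 F203888) (tt N28374 (iv F204634)) (tt N28005 (iv D44193)) (tt N28388 (iv F204686)) (tt N28008 F203889))
theorem Q28268 : ∀ i, i < 28268 → P i := stepQ 28267 Q28267 (allL N28267 (tt N28354 (iv F204525)) (tt N28291 (iv F204045)) (tt N28028 F203890) (tt N28374 (iv F204631)) (tt N28319 (iv F204266)) (tt N28289 (iv F204032)) (tt N28010 F203891) (tt N28369 (iv F204614)) (tt N28389 D44316) (tt N28009 (iv D44194)))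
theorem Q28269 : ∀ i, i < 28269 → P i := stepQ 28268 Q28268 (allL N28268 (tt N28355 (iv F204531)) (tt N28340 (iv F204418)) (tt N28029 F203892) (tt N28388 (iv F204685)) (tt N28318 F204261) (tt N28349 (iv F204490)) (tt N28389 (iv F204689)) (tt N28011 F203893) (tt N28010 (iv D44195)) (tt N28268 F203894))
theorem Q28270 : ∀ i, i < 28270 → P i := stepQ 28269 Q28269 (allL N28269 (tt N28357 (iv F204547)) (tt N28352 (iv F204511)) (tt N28366 (iv F204595)) (tt N28015 F203895) (tt N28320 (iv F204274)) (tt N28362 (iv F204577)) (tt N28296 F204088) (tt N28365 (iv F204593)) (tt N28014 (iv D44196)) (tt N28269 F203896))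
theorem Q28271 : ∀ i, i < 28271 → P i := stepQ 28270 Q28270 (allL N28270 (tt N28360 (iv F204565)) (tt N28358 (iv F204553)) (tt N28387 (iv F204680)) (tt N28024 F203897) (tt N28377 (iv F204644)) (tt N28383 (iv F204667)) (tt N28384 (iv F204671)) (tt N28023 F203898) (tt N28022 (iv D44197)) (tt N28270 F203899))
theorem Q28272 : ∀ i, i < 28272 → P i := stepQ 28271 Q28271 (allL N28271 (tt N28359 (iv F204557)) (tt N28301 (iv F204118)) (tt N28356 (iv F204540)) (tt N28383 (iv F204666)) (tt N28312 (iv F204206)) (tt N28024 (iv D44198)) (tt N28311 (iv F204199)) (tt N28025 F203900) (tt N28026 F203901) (tt N28271 F203902))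
theorem Q28273 : ∀ i, i < 28273 → P i := stepQ 28272 Q28272 (allL N28272 (tt N28361 (iv F204569)) (tt N28325 (iv F204305)) (tt N28389 (iv F204688)) (tt N28302 (iv F204128)) (tt N28379 (iv F204650)) (tt N28332 (iv F204360)) (tt N28029 F203903) (tt N28384 (iv F204672)) (tt N28028 (iv D44199)) (tt N28272 F203904))
theorem Q28274 : ∀ i, i < 28274 → P i := stepQ 28273 Q28273 (allL N28273 (tt N28201 F203905) (tt N28216 F203906) (tt N28030 (iv D44200)) (tt N28106 F203907) (tt N28033 F203908) (tt N28036 F203909) (tt N28105 (iv F203912)) (tt N28031 F203910) (tt N28273 F203911) (tt N28390 D44317))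
theorem Q28275 : ∀ i, i < 28275 → P i := stepQ 28274 Q28274 (allL N28274 (tt N28202 F203913) (tt N28210 F203914) (tt N28105 F203915) (tt N28031 F203916) (tt N28108 F203917) (tt N28111 F203918) (tt N28030 (iv D44201)) (tt N28106 F203919) (tt N28274 F203920) (tt N28391 D44318))
theorem Q28276 : ∀ i, i < 28276 → P i := stepQ 28275 Q28275 (allL N28275 (tt N28203 F203921) (tt N28230 F203922) (tt N28390 (iv F204693)) (tt N28032 F203923) (tt N28176 F203924) (tt N28037 F203925) (tt N28391 (iv F204705)) (tt N28174 F203926) (tt N28392 D44319) (tt N28030 (iv D44202)))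
theorem Q28277 : ∀ i, i < 28277 → P i := stepQ 28276 Q28276 (allL N28276 (tt N28204 F203927) (tt N28217 F203928) (tt N28174 F203929) (tt N28391 (iv F204702)) (tt N28034 F203930) (tt N28188 F203931) (tt N28032 F203932) (tt N28390 (iv F204698)) (tt N28393 D44320) (tt N28031 (iv D44203)))
theorem Q28278 : ∀ i, i < 28278 → P i := stepQ 28277 Q28277 (allL N28277 (tt N28205 F203933) (tt N28258 F203934) (tt N28175 F203935) (tt N28392 (iv F204709)) (tt N28035 F203936) (tt N28215 F203937) (tt N28393 (iv F204719)) (tt N28187 F203938) (tt N28032 (iv D44204)) (tt N28277 F203939))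
theorem Q28279 : ∀ i, i < 28279 → P i := stepQ 28278 Q28278 (allL N28278 (tt N28206 F203940) (tt N28253 F203941) (tt N28176 F203942) (tt N28149 F203943) (tt N28390 (iv F204695)) (tt N28060 F203944) (tt N28145 F203945) (tt N28034 F203946) (tt N28394 D44321) (tt N28033 (iv D44205)))
theorem Q28280 : ∀ i, i < 28280 → P i := stepQ 28279 Q28279 (allL N28279 (tt N28207 F203947) (tt N28254 F203948) (tt N28177 F203949) (tt N28183 F203950) (tt N28393 (iv F204717)) (tt N28265 F203951) (tt N28035 F203952) (tt N28394 (iv F204727)) (tt N28034 (iv D44206)) (tt N28279 F203953))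
theorem Q28281 : ∀ i, i < 28281 → P i := stepQ 28280 Q28280 (allL N28280 (tt N28208 F203954) (tt N28218 F203955) (tt N28037 F203956) (tt N28178 F203957) (tt N28040 F203958) (tt N28390 (iv F204696)) (tt N28212 F203959) (tt N28188 F203960) (tt N28211 F203961) (tt N28036 (iv D44207)))
theorem Q28282 : ∀ i, i < 28282 → P i := stepQ 28281 Q28281 (allL N28281 (tt N28181 F203962) (tt N28040 F203963) (tt N28082 F203964) (tt N28049 F203965) (tt N28218 F203966) (tt N28074 F203967) (tt N28249 F203968) (tt N28075 F203969) (tt N28114 F203970) (tt N28038 (iv D44208)))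
theorem Q28283 : ∀ i, i < 28283 → P i := stepQ 28282 Q28282 (allL N28282 (tt N28210 F203971) (tt N28225 F203972) (tt N28041 F203973) (tt N28050 F203974) (tt N28115 F203975) (tt N28039 (iv D44209)) (tt N28071 F203976) (tt N28079 F203977) (tt N28282 F203978) (tt N28395 D44322))
theorem Q28284 : ∀ i, i < 28284 → P i := stepQ 28283 Q28283 (allL N28283 (tt N28211 F203979) (tt N28249 F203980) (tt N28042 F203981) (tt N28052 F203982) (tt N28212 F203983) (tt N28395 (iv F204734)) (tt N28040 F203984) (tt N28222 F203985) (tt N28208 F203986) (tt N28039 (iv D44210)))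
theorem Q28285 : ∀ i, i < 28285 → P i := stepQ 28284 Q28284 (allL N28284 (tt N28212 F203987) (tt N28114 F203988) (tt N28043 F203989) (tt N28053 F203990) (tt N28211 F203991) (tt N28158 F203992) (tt N28208 F203993) (tt N28179 F203994) (tt N28040 (iv D44211)) (tt N28046 F203995))
theorem Q28286 : ∀ i, i < 28286 → P i := stepQ 28285 Q28285 (allL N28285 (tt N28213 F203996) (tt N28201 F203997) (tt N28115 F203998) (tt N28061 F203999) (tt N28041 (iv D44212)) (tt N28113 F204000) (tt N28156 F204001) (tt N28159 F204002) (tt N28285 F204003) (tt N28396 D44323))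
theorem Q28287 : ∀ i, i < 28287 → P i := stepQ 28286 Q28286 (allL N28286 (tt N28214 F204004) (tt N28206 F204005) (tt N28395 (iv F204731)) (tt N28044 F204006) (tt N28396 (iv F204741)) (tt N28042 F204007) (tt N28237 F204008) (tt N28199 F204009) (tt N28397 D44324) (tt N28041 (iv D44213)))
theorem Q28288 : ∀ i, i < 28288 → P i := stepQ 28287 Q28287 (allL N28287 (tt N28209 F204010) (tt N28181 F204011) (tt N28158 F204012) (tt N28045 F204013) (tt N28246 (iv F204017)) (tt N28043 (iv D44214)) (tt N28245 (iv F204018)) (tt N28180 F204014) (tt N28189 F204015) (tt N28047 F204016))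
theorem Q28289 : ∀ i, i < 28289 → P i := stepQ 28288 Q28288 (allL N28288 (tt N28215 F204019) (tt N28263 F204020) (tt N28058 F204021) (tt N28397 (iv F204747)) (tt N28066 F204022) (tt N28205 F204023) (tt N28239 F204024) (tt N28257 F204025) (tt N28044 (iv D44215)) (tt N28288 F204026))
theorem Q28290 : ∀ i, i < 28290 → P i := stepQ 28289 Q28289 (allL N28289 (tt N28223 F204027) (tt N28052 F204028) (tt N28083 F204029) (tt N28249 F204030) (tt N28180 F204031) (tt N28267 F204032) (tt N28049 F204033) (tt N28246 F204034) (tt N28119 F204035) (tt N28048 (iv D44216)))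
theorem Q28291 : ∀ i, i < 28291 → P i := stepQ 28290 Q28290 (allL N28290 (tt N28216 F204036) (tt N28213 F204037) (tt N28054 F204038) (tt N28079 F204039) (tt N28129 F204040) (tt N28051 F204041) (tt N28076 F204042) (tt N28050 (iv D44217)) (tt N28290 F204043) (tt N28398 D44325))
theorem Q28292 : ∀ i, i < 28292 → P i := stepQ 28291 Q28291 (allL N28291 (tt N28217 F204044) (tt N28267 F204045) (tt N28055 F204046) (tt N28395 (iv F204732)) (tt N28130 F204047) (tt N28052 F204048) (tt N28138 F204049) (tt N28398 (iv F204759)) (tt N28399 D44326) (tt N28050 (iv D44218)))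
theorem Q28293 : ∀ i, i < 28293 → P i := stepQ 28292 Q28292 (allL N28292 (tt N28218 F204050) (tt N28246 F204051) (tt N28056 F204052) (tt N28222 F204053) (tt N28181 F204054) (tt N28398 (iv F204757)) (tt N28189 F204055) (tt N28052 F204056) (tt N28245 F204057) (tt N28051 (iv D44219)))
theorem Q28294 : ∀ i, i < 28294 → P i := stepQ 28293 Q28293 (allL N28293 (tt N28219 F204058) (tt N28145 F204059) (tt N28398 (iv F204754)) (tt N28057 F204060) (tt N28232 F204061) (tt N28056 F204062) (tt N28253 F204063) (tt N28055 F204064) (tt N28400 D44327) (tt N28054 (iv D44220)))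
theorem Q28295 : ∀ i, i < 28295 → P i := stepQ 28294 Q28294 (allL N28294 (tt N28220 F204065) (tt N28146 F204066) (tt N28399 (iv F204762)) (tt N28058 F204067) (tt N28233 F204068) (tt N28259 F204069) (tt N28186 F204070) (tt N28400 (iv F204773)) (tt N28055 (iv D44221)) (tt N28294 F204071))
theorem Q28296 : ∀ i, i < 28296 → P i := stepQ 28295 Q28295 (allL N28295 (tt N28221 F204072) (tt N28150 F204073) (tt N28257 F204074) (tt N28400 (iv F204769)) (tt N28068 F204075) (tt N28242 F204076) (tt N28255 F204077) (tt N28058 F204078) (tt N28057 (iv D44222)) (tt N28295 F204079))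
theorem Q28297 : ∀ i, i < 28297 → P i := stepQ 28296 Q28296 (allL N28296 (tt N28175 F204080) (tt N28151 F204081) (tt N28205 F204082) (tt N28259 F204083) (tt N28165 F204084) (tt N28058 (iv D44223)) (tt N28269 (iv F204088)) (tt N28242 F204085) (tt N28059 F204086) (tt N28296 F204087))
theorem Q28298 : ∀ i, i < 28298 → P i := stepQ 28297 Q28297 (allL N28297 (tt N28225 F204089) (tt N28202 F204090) (tt N28120 F204091) (tt N28159 F204092) (tt N28062 F204093) (tt N28118 F204094) (tt N28157 F204095) (tt N28061 (iv D44224)) (tt N28297 F204096) (tt N28401 D44328))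
theorem Q28299 : ∀ i, i < 28299 → P i := stepQ 28298 Q28298 (allL N28298 (tt N28226 F204097) (tt N28241 F204098) (tt N28121 F204099) (tt N28396 (iv F204740)) (tt N28063 F204100) (tt N28119 F204101) (tt N28152 F204102) (tt N28401 (iv F204782)) (tt N28402 D44329) (tt N28061 (iv D44225)))
theorem Q28300 : ∀ i, i < 28300 → P i := stepQ 28299 Q28299 (allL N28299 (tt N28227 F204103) (tt N28243 F204104) (tt N28266 F204105) (tt N28065 F204106) (tt N28401 (iv F204779)) (tt N28064 F204107) (tt N28250 F204108) (tt N28063 F204109) (tt N28403 D44330) (tt N28062 (iv D44226)))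
theorem Q28301 : ∀ i, i < 28301 → P i := stepQ 28300 Q28300 (allL N28300 (tt N28228 F204110) (tt N28244 F204111) (tt N28265 F204112) (tt N28066 F204113) (tt N28402 (iv F204786)) (tt N28177 F204114) (tt N28185 F204115) (tt N28403 (iv F204796)) (tt N28063 (iv D44227)) (tt N28300 F204116))
theorem Q28302 : ∀ i, i < 28302 → P i := stepQ 28301 Q28301 (allL N28301 (tt N28229 F204117) (tt N28271 F204118) (tt N28068 F204119) (tt N28403 (iv F204793)) (tt N28257 F204120) (tt N28198 F204121) (tt N28252 F204122) (tt N28066 F204123) (tt N28065 (iv D44228)) (tt N28301 F204124))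
theorem Q28303 : ∀ i, i < 28303 → P i := stepQ 28302 Q28302 (allL N28302 (tt N28224 F204125) (tt N28194 F204126) (tt N28252 F204127) (tt N28272 F204128) (tt N28255 F204129) (tt N28124 F204130) (tt N28068 F204131) (tt N28248 F204132) (tt N28067 (iv D44229)) (tt N28302 F204133))
theorem Q28304 : ∀ i, i < 28304 → P i := stepQ 28303 Q28303 (allL N28303 (tt N28169 F204134) (tt N28167 F204135) (tt N28198 F204136) (tt N28168 F204137) (tt N28162 F204138) (tt N28068 (iv D44230)) (tt N28184 F204139) (tt N28069 F204140) (tt N28070 F204141) (tt N28303 F204142))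
theorem Q28305 : ∀ i, i < 28305 → P i := stepQ 28304 Q28304 (allL N28304 (tt N28230 F204143) (tt N28266 F204144) (tt N28237 F204145) (tt N28138 F204146) (tt N28191 F204147) (tt N28073 F204148) (tt N28395 (iv F204735)) (tt N28072 F204149) (tt N28404 D44331) (tt N28071 (iv D44231)))
theorem Q28306 : ∀ i, i < 28306 → P i := stepQ 28305 Q28305 (allL N28305 (tt N28231 F204150) (tt N28265 F204151) (tt N28238 F204152) (tt N28256 F204153) (tt N28192 F204154) (tt N28254 F204155) (tt N28081 F204156) (tt N28404 (iv F204804)) (tt N28072 (iv D44232)) (tt N28305 F204157))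
theorem Q28307 : ∀ i, i < 28307 → P i := stepQ 28306 Q28306 (allL N28306 (tt N28232 F204158) (tt N28262 F204159) (tt N28253 F204160) (tt N28080 F204161) (tt N28219 F204162) (tt N28078 F204163) (tt N28398 (iv F204758)) (tt N28077 F204164) (tt N28405 D44332) (tt N28076 (iv D44233)))
theorem Q28308 : ∀ i, i < 28308 → P i := stepQ 28307 Q28307 (allL N28307 (tt N28233 F204165) (tt N28261 F204166) (tt N28254 F204167) (tt N28081 F204168) (tt N28220 F204169) (tt N28238 F204170) (tt N28256 F204171) (tt N28405 (iv F204812)) (tt N28077 (iv D44234)) (tt N28307 F204172))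
theorem Q28309 : ∀ i, i < 28309 → P i := stepQ 28308 Q28308 (allL N28308 (tt N28234 F204173) (tt N28226 F204174) (tt N28199 F204175) (tt N28398 (iv F204755)) (tt N28196 F204176) (tt N28222 F204177) (tt N28080 F204178) (tt N28395 (iv F204736)) (tt N28406 D44333) (tt N28079 (iv D44235)))
theorem Q28310 : ∀ i, i < 28310 → P i := stepQ 28309 Q28309 (allL N28309 (tt N28235 F204179) (tt N28264 F204180) (tt N28200 F204181) (tt N28405 (iv F204809)) (tt N28197 F204182) (tt N28239 F204183) (tt N28406 (iv F204819)) (tt N28081 F204184) (tt N28080 (iv D44236)) (tt N28309 F204185))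
theorem Q28311 : ∀ i, i < 28311 → P i := stepQ 28310 Q28310 (allL N28310 (tt N28176 F204186) (tt N28250 F204187) (tt N28206 F204188) (tt N28086 F204189) (tt N28203 F204190) (tt N28089 F204191) (tt N28243 F204192) (tt N28103 F204193) (tt N28407 D44334) (tt N28085 (iv D44237)))
theorem Q28312 : ∀ i, i < 28312 → P i := stepQ 28311 Q28311 (allL N28311 (tt N28198 F204194) (tt N28252 F204195) (tt N28169 F204196) (tt N28407 (iv F204824)) (tt N28088 F204197) (tt N28229 F204198) (tt N28271 F204199) (tt N28104 F204200) (tt N28086 (iv D44238)) (tt N28311 F204201))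
theorem Q28313 : ∀ i, i < 28313 → P i := stepQ 28312 Q28312 (allL N28312 (tt N28183 F204202) (tt N28257 F204203) (tt N28170 F204204) (tt N28207 F204205) (tt N28271 F204206) (tt N28161 F204207) (tt N28088 F204208) (tt N28263 F204209) (tt N28087 (iv D44239)) (tt N28312 F204210))
theorem Q28314 : ∀ i, i < 28314 → P i := stepQ 28313 Q28313 (allL N28313 (tt N28237 F204211) (tt N28219 F204212) (tt N28230 F204213) (tt N28094 F204214) (tt N28262 F204215) (tt N28092 F204216) (tt N28214 F204217) (tt N28125 F204218) (tt N28408 D44335) (tt N28091 (iv D44240)))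
theorem Q28315 : ∀ i, i < 28315 → P i := stepQ 28314 Q28314 (allL N28314 (tt N28239 F204219) (tt N28221 F204220) (tt N28099 F204221) (tt N28408 (iv F204833)) (tt N28190 F204222) (tt N28235 F204223) (tt N28215 F204224) (tt N28126 F204225) (tt N28094 (iv D44241)) (tt N28314 F204226))
theorem Q28316 : ∀ i, i < 28316 → P i := stepQ 28315 Q28315 (allL N28315 (tt N28222 F204227) (tt N28178 F204228) (tt N28101 F204229) (tt N28218 F204230) (tt N28179 F204231) (tt N28234 F204232) (tt N28095 (iv D44242)) (tt N28211 F204233) (tt N28188 F204234) (tt N28096 F204235))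
theorem Q28317 : ∀ i, i < 28317 → P i := stepQ 28316 Q28316 (allL N28316 (tt N28186 F204236) (tt N28135 F204237) (tt N28258 F204238) (tt N28099 F204239) (tt N28256 F204240) (tt N28136 F204241) (tt N28220 F204242) (tt N28137 F204243) (tt N28097 (iv D44243)) (tt N28316 F204244))
theorem Q28318 : ∀ i, i < 28318 → P i := stepQ 28317 Q28317 (allL N28317 (tt N28236 F204245) (tt N28136 F204246) (tt N28126 F204247) (tt N28137 F204248) (tt N28193 F204249) (tt N28135 F204250) (tt N28133 F204251) (tt N28099 F204252) (tt N28098 (iv D44244)) (tt N28317 F204253))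
theorem Q28319 : ∀ i, i < 28319 → P i := stepQ 28318 Q28318 (allL N28318 (tt N28200 F204254) (tt N28137 F204255) (tt N28235 F204256) (tt N28136 F204257) (tt N28268 (iv F204261)) (tt N28099 (iv D44245)) (tt N28409 D44336) (tt N28135 F204258) (tt N28100 F204259) (tt N28318 F204260))
theorem Q28320 : ∀ i, i < 28320 → P i := stepQ 28319 Q28319 (allL N28319 (tt N28199 F204262) (tt N28130 F204263) (tt N28234 F204264) (tt N28127 F204265) (tt N28267 F204266) (tt N28101 F204267) (tt N28100 (iv D44246)) (tt N28214 F204268) (tt N28409 (iv F204846)) (tt N28102 F204269))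
theorem Q28321 : ∀ i, i < 28321 → P i := stepQ 28320 Q28320 (allL N28320 (tt N28177 F204270) (tt N28251 F204271) (tt N28207 F204272) (tt N28104 F204273) (tt N28269 F204274) (tt N28228 F204275) (tt N28165 F204276) (tt N28407 (iv F204828)) (tt N28103 (iv D44247)) (tt N28320 F204277))
theorem Q28322 : ∀ i, i < 28322 → P i := stepQ 28321 Q28321 (allL N28321 (tt N28240 F204278) (tt N28232 F204279) (tt N28391 (iv F204701)) (tt N28107 F204280) (tt N28145 F204281) (tt N28112 F204282) (tt N28390 (iv F204697)) (tt N28144 F204283) (tt N28410 D44337) (tt N28105 (iv D44248)))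
theorem Q28323 : ∀ i, i < 28323 → P i := stepQ 28322 Q28322 (allL N28322 (tt N28241 F204284) (tt N28234 F204285) (tt N28144 F204286) (tt N28390 (iv F204694)) (tt N28109 F204287) (tt N28178 F204288) (tt N28107 F204289) (tt N28391 (iv F204706)) (tt N28411 D44338) (tt N28106 (iv D44249)))
theorem Q28324 : ∀ i, i < 28324 → P i := stepQ 28323 Q28323 (allL N28323 (tt N28242 F204290) (tt N28235 F204291) (tt N28187 F204292) (tt N28410 (iv F204850)) (tt N28110 F204293) (tt N28221 F204294) (tt N28411 (iv F204860)) (tt N28175 F204295) (tt N28107 (iv D44250)) (tt N28323 F204296))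
theorem Q28325 : ∀ i, i < 28325 → P i := stepQ 28324 Q28324 (allL N28324 (tt N28243 F204297) (tt N28247 F204298) (tt N28145 F204299) (tt N28182 F204300) (tt N28391 (iv F204703)) (tt N28128 F204301) (tt N28176 F204302) (tt N28109 F204303) (tt N28412 D44339) (tt N28108 (iv D44251)))
theorem Q28326 : ∀ i, i < 28326 → P i := stepQ 28325 Q28325 (allL N28325 (tt N28244 F204304) (tt N28272 F204305) (tt N28146 F204306) (tt N28194 F204307) (tt N28411 (iv F204858)) (tt N28192 F204308) (tt N28110 F204309) (tt N28412 (iv F204868)) (tt N28109 (iv D44252)) (tt N28325 F204310))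
theorem Q28327 : ∀ i, i < 28327 → P i := stepQ 28326 Q28326 (allL N28326 (tt N28245 F204311) (tt N28211 F204312) (tt N28112 F204313) (tt N28188 F204314) (tt N28114 F204315) (tt N28391 (iv F204704)) (tt N28209 F204316) (tt N28178 F204317) (tt N28218 F204318) (tt N28111 (iv D44253)))
theorem Q28328 : ∀ i, i < 28328 → P i := stepQ 28327 Q28327 (allL N28327 (tt N28246 F204319) (tt N28208 F204320) (tt N28116 F204321) (tt N28119 F204322) (tt N28209 F204323) (tt N28396 (iv F204742)) (tt N28114 F204324) (tt N28223 F204325) (tt N28249 F204326) (tt N28113 (iv D44254)))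
theorem Q28329 : ∀ i, i < 28329 → P i := stepQ 28328 Q28328 (allL N28328 (tt N28247 F204327) (tt N28227 F204328) (tt N28396 (iv F204739)) (tt N28117 F204329) (tt N28395 (iv F204733)) (tt N28116 F204330) (tt N28191 F204331) (tt N28196 F204332) (tt N28413 D44340) (tt N28115 (iv D44255)))
theorem Q28330 : ∀ i, i < 28330 → P i := stepQ 28329 Q28329 (allL N28329 (tt N28248 F204333) (tt N28229 F204334) (tt N28124 F204335) (tt N28413 (iv F204872)) (tt N28133 F204336) (tt N28252 F204337) (tt N28193 F204338) (tt N28224 F204339) (tt N28117 (iv D44256)) (tt N28329 F204340))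
theorem Q28331 : ∀ i, i < 28331 → P i := stepQ 28330 Q28330 (allL N28330 (tt N28249 F204341) (tt N28245 F204342) (tt N28122 F204343) (tt N28223 F204344) (tt N28189 F204345) (tt N28401 (iv F204780)) (tt N28181 F204346) (tt N28119 F204347) (tt N28246 F204348) (tt N28118 (iv D44257)))
theorem Q28332 : ∀ i, i < 28332 → P i := stepQ 28331 Q28331 (allL N28331 (tt N28250 F204349) (tt N28191 F204350) (tt N28401 (iv F204777)) (tt N28123 F204351) (tt N28266 F204352) (tt N28122 F204353) (tt N28227 F204354) (tt N28121 F204355) (tt N28414 D44341) (tt N28120 (iv D44258)))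
theorem Q28333 : ∀ i, i < 28333 → P i := stepQ 28332 Q28332 (allL N28332 (tt N28251 F204356) (tt N28192 F204357) (tt N28402 (iv F204785)) (tt N28124 F204358) (tt N28265 F204359) (tt N28272 F204360) (tt N28195 F204361) (tt N28414 (iv F204883)) (tt N28121 (iv D44259)) (tt N28332 F204362))
theorem Q28334 : ∀ i, i < 28334 → P i := stepQ 28333 Q28333 (allL N28333 (tt N28252 F204363) (tt N28193 F204364) (tt N28224 F204365) (tt N28414 (iv F204879)) (tt N28136 F204366) (tt N28248 F204367) (tt N28229 F204368) (tt N28124 F204369) (tt N28123 (iv D44260)) (tt N28333 F204370))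
theorem Q28335 : ∀ i, i < 28335 → P i := stepQ 28334 Q28334 (allL N28334 (tt N28238 F204371) (tt N28220 F204372) (tt N28231 F204373) (tt N28126 F204374) (tt N28261 F204375) (tt N28233 F204376) (tt N28135 F204377) (tt N28408 (iv F204837)) (tt N28125 (iv D44261)) (tt N28334 F204378))
theorem Q28336 : ∀ i, i < 28336 → P i := stepQ 28335 Q28335 (allL N28335 (tt N28257 F204379) (tt N28133 F204380) (tt N28221 F204381) (tt N28409 (iv F204842)) (tt N28229 F204382) (tt N28187 F204383) (tt N28136 F204384) (tt N28215 F204385) (tt N28127 (iv D44262)) (tt N28335 F204386))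
theorem Q28337 : ∀ i, i < 28337 → P i := stepQ 28336 Q28336 (allL N28336 (tt N28253 F204387) (tt N28214 F204388) (tt N28232 F204389) (tt N28132 F204390) (tt N28398 (iv F204756)) (tt N28131 F204391) (tt N28219 F204392) (tt N28130 F204393) (tt N28415 D44342) (tt N28129 (iv D44263)))
theorem Q28338 : ∀ i, i < 28338 → P i := stepQ 28337 Q28337 (allL N28337 (tt N28254 F204394) (tt N28409 (iv F204840)) (tt N28233 F204395) (tt N28133 F204396) (tt N28399 (iv F204763)) (tt N28231 F204397) (tt N28137 F204398) (tt N28415 (iv F204891)) (tt N28130 (iv D44264)) (tt N28337 F204399))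
theorem Q28339 : ∀ i, i < 28339 → P i := stepQ 28338 Q28338 (allL N28338 (tt N28255 F204400) (tt N28215 F204401) (tt N28136 F204402) (tt N28415 (iv F204888)) (tt N28224 F204403) (tt N28258 F204404) (tt N28221 F204405) (tt N28133 F204406) (tt N28132 (iv D44265)) (tt N28338 F204407))
theorem Q28340 : ∀ i, i < 28340 → P i := stepQ 28339 Q28339 (allL N28339 (tt N28256 F204408) (tt N28187 F204409) (tt N28137 F204410) (tt N28231 F204411) (tt N28186 F204412) (tt N28133 (iv D44266)) (tt N28233 F204413) (tt N28258 F204414) (tt N28134 F204415) (tt N28339 F204416))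
theorem Q28341 : ∀ i, i < 28341 → P i := stepQ 28340 Q28340 (allL N28340 (tt N28258 F204417) (tt N28268 F204418) (tt N28186 F204419) (tt N28404 (iv F204801)) (tt N28137 (iv D44267)) (tt N28255 F204420) (tt N28399 (iv F204765)) (tt N28256 F204421) (tt N28138 F204422) (tt N28340 F204423))
theorem Q28342 : ∀ i, i < 28342 → P i := stepQ 28341 Q28341 (allL N28341 (tt N28168 F204424) (tt N28142 F204425) (tt N28263 F204426) (tt N28169 F204427) (tt N28173 F204428) (tt N28197 F204429) (tt N28166 F204430) (tt N28170 F204431) (tt N28139 (iv D44268)) (tt N28341 F204432))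
theorem Q28343 : ∀ i, i < 28343 → P i := stepQ 28342 Q28342 (allL N28342 (tt N28173 F204433) (tt N28169 F204434) (tt N28194 F204435) (tt N28142 F204436) (tt N28168 F204437) (tt N28190 F204438) (tt N28164 F204439) (tt N28184 F204440) (tt N28140 (iv D44269)) (tt N28342 F204441))
theorem Q28344 : ∀ i, i < 28344 → P i := stepQ 28343 Q28343 (allL N28343 (tt N28166 F204442) (tt N28170 F204443) (tt N28150 F204444) (tt N28184 F204445) (tt N28164 F204446) (tt N28195 F204447) (tt N28168 F204448) (tt N28142 F204449) (tt N28141 (iv D44270)) (tt N28343 F204450))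
theorem Q28345 : ∀ i, i < 28345 → P i := stepQ 28344 Q28344 (allL N28344 (tt N28185 F204451) (tt N28197 F204452) (tt N28151 F204453) (tt N28190 F204454) (tt N28264 F204455) (tt N28142 (iv D44271)) (tt N28228 F204456) (tt N28195 F204457) (tt N28143 F204458) (tt N28344 F204459))
theorem Q28346 : ∀ i, i < 28346 → P i := stepQ 28345 Q28345 (allL N28345 (tt N28259 F204460) (tt N28233 F204461) (tt N28411 (iv F204857)) (tt N28175 F204462) (tt N28146 F204463) (tt N28220 F204464) (tt N28187 F204465) (tt N28410 (iv F204853)) (tt N28144 (iv D44272)) (tt N28345 F204466))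
theorem Q28347 : ∀ i, i < 28347 → P i := stepQ 28346 Q28346 (allL N28346 (tt N28260 F204467) (tt N28400 (iv F204768)) (tt N28412 (iv F204864)) (tt N28150 F204468) (tt N28410 (iv F204851)) (tt N28416 D44343) (tt N28394 (iv F204726)) (tt N28146 F204469) (tt N28145 (iv D44273)) (tt N28346 F204470))
theorem Q28348 : ∀ i, i < 28348 → P i := stepQ 28347 Q28347 (allL N28347 (tt N28261 F204471) (tt N28259 F204472) (tt N28192 F204473) (tt N28151 F204474) (tt N28238 F204475) (tt N28146 (iv D44274)) (tt N28161 F204476) (tt N28416 (iv F204898)) (tt N28148 F204477) (tt N28347 F204478))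
theorem Q28349 : ∀ i, i < 28349 → P i := stepQ 28348 Q28348 (allL N28348 (tt N28262 F204479) (tt N28240 F204480) (tt N28191 F204481) (tt N28152 F204482) (tt N28237 F204483) (tt N28147 (iv D44275)) (tt N28396 (iv F204743)) (tt N28148 F204484) (tt N28416 (iv F204899)) (tt N28156 F204485))
theorem Q28350 : ∀ i, i < 28350 → P i := stepQ 28349 Q28349 (allL N28349 (tt N28263 F204486) (tt N28255 F204487) (tt N28168 F204488) (tt N28394 (iv F204724)) (tt N28194 F204489) (tt N28268 F204490) (tt N28150 F204491) (tt N28183 F204492) (tt N28149 (iv D44276)) (tt N28349 F204493))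
theorem Q28351 : ∀ i, i < 28351 → P i := stepQ 28350 Q28350 (allL N28350 (tt N28264 F204494) (tt N28242 F204495) (tt N28195 F204496) (tt N28416 (iv F204896)) (tt N28185 F204497) (tt N28150 (iv D44277)) (tt N28402 (iv F204788)) (tt N28151 F204498) (tt N28152 F204499) (tt N28350 F204500))
theorem Q28352 : ∀ i, i < 28352 → P i := stepQ 28351 Q28351 (allL N28351 (tt N28195 F204501) (tt N28165 F204502) (tt N28264 F204503) (tt N28172 F204504) (tt N28151 (iv D44278)) (tt N28166 F204505) (tt N28251 (iv F204509)) (tt N28185 F204506) (tt N28153 F204507) (tt N28351 F204508))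
theorem Q28353 : ∀ i, i < 28353 → P i := stepQ 28352 Q28352 (allL N28352 (tt N28265 F204510) (tt N28269 F204511) (tt N28228 F204512) (tt N28161 F204513) (tt N28251 F204514) (tt N28207 F204515) (tt N28151 (iv D44279)) (tt N28417 D44344) (tt N28154 F204516) (tt N28352 F204517))
theorem Q28354 : ∀ i, i < 28354 → P i := stepQ 28353 Q28353 (allL N28353 (tt N28266 F204518) (tt N28203 F204519) (tt N28227 F204520) (tt N28160 F204521) (tt N28250 F204522) (tt N28155 F204523) (tt N28401 (iv F204781)) (tt N28154 (iv D44280)) (tt N28417 (iv F204907)) (tt N28157 F204524))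
theorem Q28355 : ∀ i, i < 28355 → P i := stepQ 28354 Q28354 (allL N28354 (tt N28267 F204525) (tt N28204 F204526) (tt N28196 F204527) (tt N28401 (iv F204778)) (tt N28199 F204528) (tt N28223 F204529) (tt N28160 F204530) (tt N28396 (iv F204744)) (tt N28418 D44345) (tt N28159 (iv D44281)))
theorem Q28356 : ∀ i, i < 28356 → P i := stepQ 28355 Q28355 (allL N28355 (tt N28268 F204531) (tt N28205 F204532) (tt N28197 F204533) (tt N28417 (iv F204904)) (tt N28200 F204534) (tt N28263 F204535) (tt N28418 (iv F204914)) (tt N28161 F204536) (tt N28160 (iv D44282)) (tt N28355 F204537))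
theorem Q28357 : ∀ i, i < 28357 → P i := stepQ 28356 Q28356 (allL N28356 (tt N28184 F204538) (tt N28164 F204539) (tt N28271 F204540) (tt N28166 F204541) (tt N28170 F204542) (tt N28172 F204543) (tt N28169 F204544) (tt N28173 F204545) (tt N28163 (iv D44283)) (tt N28356 F204546))
theorem Q28358 : ∀ i, i < 28358 → P i := stepQ 28357 Q28357 (allL N28357 (tt N28269 F204547) (tt N28231 F204548) (tt N28393 (iv F204716)) (tt N28187 F204549) (tt N28177 F204550) (tt N28409 (iv F204844)) (tt N28175 F204551) (tt N28392 (iv F204712)) (tt N28174 (iv D44284)) (tt N28357 F204552))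
theorem Q28359 : ∀ i, i < 28359 → P i := stepQ 28358 Q28358 (allL N28358 (tt N28407 (iv F204821)) (tt N28270 F204553) (tt N28394 (iv F204723)) (tt N28198 F204554) (tt N28392 (iv F204710)) (tt N28403 (iv F204794)) (tt N28412 (iv F204867)) (tt N28177 F204555) (tt N28176 (iv D44285)) (tt N28358 F204556))
theorem Q28360 : ∀ i, i < 28360 → P i := stepQ 28359 Q28359 (allL N28359 (tt N28271 F204557) (tt N28248 F204558) (tt N28184 F204559) (tt N28412 (iv F204865)) (tt N28183 F204560) (tt N28193 F204561) (tt N28198 F204562) (tt N28194 F204563) (tt N28182 (iv D44286)) (tt N28359 F204564))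
theorem Q28361 : ∀ i, i < 28361 → P i := stepQ 28360 Q28360 (allL N28360 (tt N28270 F204565) (tt N28414 (iv F204878)) (tt N28416 (iv F204895)) (tt N28193 F204566) (tt N28404 (iv F204802)) (tt N28412 (iv F204866)) (tt N28413 (iv F204874)) (tt N28192 F204567) (tt N28191 (iv D44287)) (tt N28360 F204568))
theorem Q28362 : ∀ i, i < 28362 → P i := stepQ 28361 Q28361 (allL N28361 (tt N28272 F204569) (tt N28228 F204570) (tt N28418 (iv F204911)) (tt N28224 F204571) (tt N28406 (iv F204817)) (tt N28251 F204572) (tt N28197 F204573) (tt N28413 (iv F204875)) (tt N28196 (iv D44288)) (tt N28361 F204574))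
theorem Q28363 : ∀ i, i < 28363 → P i := stepQ 28362 Q28362 (allL N28362 (tt N28409 (iv F204839)) (tt N28207 F204575) (tt N28406 (iv F204816)) (tt N28257 F204576) (tt N28418 (iv F204912)) (tt N28269 F204577) (tt N28200 F204578) (tt N28397 (iv F204750)) (tt N28199 (iv D44289)) (tt N28362 F204579))
theorem Q28364 : ∀ i, i < 28364 → P i := stepQ 28363 Q28363 (allL N28363 (tt N28390 (iv F204691)) (tt N28396 (iv F204738)) (tt N28203 F204580) (tt N28241 F204581) (tt N28206 F204582) (tt N28208 F204583) (tt N28240 F204584) (tt N28204 F204585) (tt N28419 D44346) (tt N28201 (iv D44290)))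
theorem Q28365 : ∀ i, i < 28365 → P i := stepQ 28364 Q28364 (allL N28364 (tt N28391 (iv F204699)) (tt N28401 (iv F204776)) (tt N28240 F204586) (tt N28204 F204587) (tt N28243 F204588) (tt N28245 F204589) (tt N28203 F204590) (tt N28241 F204591) (tt N28420 D44347) (tt N28202 (iv D44291)))
theorem Q28366 : ∀ i, i < 28366 → P i := stepQ 28365 Q28365 (allL N28365 (tt N28392 (iv F204707)) (tt N28417 (iv F204902)) (tt N28419 (iv F204916)) (tt N28205 F204592) (tt N28407 (iv F204825)) (tt N28397 (iv F204748)) (tt N28420 (iv F204925)) (tt N28269 F204593) (tt N28203 (iv D44292)) (tt N28365 F204594))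
theorem Q28367 : ∀ i, i < 28367 → P i := stepQ 28366 Q28366 (allL N28366 (tt N28393 (iv F204714)) (tt N28418 (iv F204910)) (tt N28269 F204595) (tt N28420 (iv F204923)) (tt N28207 F204596) (tt N28406 (iv F204818)) (tt N28205 F204597) (tt N28419 (iv F204920)) (tt N28204 (iv D44293)) (tt N28366 F204598))
theorem Q28368 : ∀ i, i < 28368 → P i := stepQ 28367 Q28367 (allL N28367 (tt N28394 (iv F204721)) (tt N28397 (iv F204746)) (tt N28407 (iv F204823)) (tt N28263 F204599) (tt N28419 (iv F204918)) (tt N28417 (iv F204906)) (tt N28260 F204600) (tt N28207 F204601) (tt N28206 (iv D44294)) (tt N28367 F204602))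
theorem Q28369 : ∀ i, i < 28369 → P i := stepQ 28368 Q28368 (allL N28368 (tt N28395 (iv F204729)) (tt N28391 (iv F204700)) (tt N28214 F204603) (tt N28217 F204604) (tt N28247 F204605) (tt N28211 F204606) (tt N28230 F204607) (tt N28234 F204608) (tt N28421 D44348) (tt N28210 (iv D44295)))
theorem Q28370 : ∀ i, i < 28370 → P i := stepQ 28369 Q28369 (allL N28369 (tt N28396 (iv F204737)) (tt N28398 (iv F204753)) (tt N28247 F204609) (tt N28226 F204610) (tt N28214 F204611) (tt N28246 F204612) (tt N28262 F204613) (tt N28267 F204614) (tt N28422 D44349) (tt N28213 (iv D44296)))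
theorem Q28371 : ∀ i, i < 28371 → P i := stepQ 28370 Q28370 (allL N28370 (tt N28397 (iv F204745)) (tt N28415 (iv F204886)) (tt N28421 (iv F204928)) (tt N28215 F204615) (tt N28422 (iv F204936)) (tt N28392 (iv F204711)) (tt N28408 (iv F204836)) (tt N28409 (iv F204845)) (tt N28214 (iv D44297)) (tt N28370 F204616))
theorem Q28372 : ∀ i, i < 28372 → P i := stepQ 28371 Q28371 (allL N28371 (tt N28398 (iv F204752)) (tt N28390 (iv F204692)) (tt N28219 F204617) (tt N28234 F204618) (tt N28253 F204619) (tt N28218 F204620) (tt N28232 F204621) (tt N28217 F204622) (tt N28423 D44350) (tt N28216 (iv D44298)))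
theorem Q28373 : ∀ i, i < 28373 → P i := stepQ 28372 Q28372 (allL N28372 (tt N28399 (iv F204760)) (tt N28393 (iv F204715)) (tt N28220 F204623) (tt N28421 (iv F204929)) (tt N28254 F204624) (tt N28411 (iv F204859)) (tt N28258 F204625) (tt N28423 (iv F204944)) (tt N28217 (iv D44299)) (tt N28372 F204626))
theorem Q28374 : ∀ i, i < 28374 → P i := stepQ 28373 Q28373 (allL N28373 (tt N28400 (iv F204767)) (tt N28408 (iv F204831)) (tt N28423 (iv F204940)) (tt N28221 F204627) (tt N28405 (iv F204810)) (tt N28410 (iv F204852)) (tt N28415 (iv F204890)) (tt N28220 F204628) (tt N28219 (iv D44300)) (tt N28373 F204629))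
theorem Q28375 : ∀ i, i < 28375 → P i := stepQ 28374 Q28374 (allL N28374 (tt N28401 (iv F204775)) (tt N28395 (iv F204730)) (tt N28250 F204630) (tt N28267 F204631) (tt N28227 F204632) (tt N28249 F204633) (tt N28266 F204634) (tt N28226 F204635) (tt N28424 D44351) (tt N28225 (iv D44301)))
theorem Q28376 : ∀ i, i < 28376 → P i := stepQ 28375 Q28375 (allL N28375 (tt N28402 (iv F204783)) (tt N28406 (iv F204815)) (tt N28251 F204636) (tt N28422 (iv F204935)) (tt N28228 F204637) (tt N28418 (iv F204913)) (tt N28264 F204638) (tt N28424 (iv F204950)) (tt N28226 (iv D44302)) (tt N28375 F204639))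
theorem Q28377 : ∀ i, i < 28377 → P i := stepQ 28376 Q28376 (allL N28376 (tt N28403 (iv F204790)) (tt N28413 (iv F204871)) (tt N28417 (iv F204903)) (tt N28229 F204640) (tt N28424 (iv F204948)) (tt N28407 (iv F204826)) (tt N28414 (iv F204882)) (tt N28228 F204641) (tt N28227 (iv D44303)) (tt N28376 F204642))
theorem Q28378 : ∀ i, i < 28378 → P i := stepQ 28377 Q28377 (allL N28377 (tt N28404 (iv F204798)) (tt N28392 (iv F204708)) (tt N28408 (iv F204832)) (tt N28258 F204643) (tt N28270 F204644) (tt N28415 (iv F204889)) (tt N28421 (iv F204931)) (tt N28231 F204645) (tt N28230 (iv D44304)) (tt N28377 F204646))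
theorem Q28379 : ∀ i, i < 28379 → P i := stepQ 28378 Q28378 (allL N28378 (tt N28405 (iv F204806)) (tt N28410 (iv F204849)) (tt N28415 (iv F204887)) (tt N28235 F204647) (tt N28400 (iv F204770)) (tt N28408 (iv F204835)) (tt N28423 (iv F204943)) (tt N28233 F204648) (tt N28232 (iv D44305)) (tt N28378 F204649))
theorem Q28380 : ∀ i, i < 28380 → P i := stepQ 28379 Q28379 (allL N28379 (tt N28406 (iv F204814)) (tt N28411 (iv F204856)) (tt N28409 (iv F204841)) (tt N28423 (iv F204941)) (tt N28272 F204650) (tt N28393 (iv F204718)) (tt N28235 F204651) (tt N28421 (iv F204932)) (tt N28234 (iv D44306)) (tt N28379 F204652))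
theorem Q28381 : ∀ i, i < 28381 → P i := stepQ 28380 Q28380 (allL N28380 (tt N28408 (iv F204830)) (tt N28260 F204653) (tt N28404 (iv F204800)) (tt N28239 F204654) (tt N28416 (iv F204897)) (tt N28405 (iv F204811)) (tt N28397 (iv F204749)) (tt N28238 F204655) (tt N28237 (iv D44307)) (tt N28380 F204656))
theorem Q28382 : ∀ i, i < 28382 → P i := stepQ 28381 Q28381 (allL N28381 (tt N28410 (iv F204848)) (tt N28416 (iv F204894)) (tt N28420 (iv F204922)) (tt N28242 F204657) (tt N28260 F204658) (tt N28400 (iv F204771)) (tt N28419 (iv F204919)) (tt N28259 F204659) (tt N28240 (iv D44308)) (tt N28381 F204660))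
theorem Q28383 : ∀ i, i < 28383 → P i := stepQ 28382 Q28382 (allL N28382 (tt N28411 (iv F204855)) (tt N28402 (iv F204784)) (tt N28259 F204661) (tt N28419 (iv F204917)) (tt N28244 F204662) (tt N28399 (iv F204764)) (tt N28242 F204663) (tt N28420 (iv F204926)) (tt N28241 (iv D44309)) (tt N28382 F204664))
theorem Q28384 : ∀ i, i < 28384 → P i := stepQ 28383 Q28383 (allL N28383 (tt N28412 (iv F204862)) (tt N28403 (iv F204791)) (tt N28260 F204665) (tt N28271 F204666) (tt N28420 (iv F204924)) (tt N28270 F204667) (tt N28407 (iv F204827)) (tt N28244 F204668) (tt N28243 (iv D44310)) (tt N28383 F204669))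
theorem Q28385 : ∀ i, i < 28385 → P i := stepQ 28384 Q28384 (allL N28384 (tt N28413 (iv F204870)) (tt N28412 (iv F204863)) (tt N28422 (iv F204934)) (tt N28248 F204670) (tt N28421 (iv F204930)) (tt N28414 (iv F204881)) (tt N28270 F204671) (tt N28272 F204672) (tt N28247 (iv D44311)) (tt N28384 F204673))
theorem Q28386 : ∀ i, i < 28386 → P i := stepQ 28385 Q28385 (allL N28385 (tt N28414 (iv F204877)) (tt N28407 (iv F204822)) (tt N28424 (iv F204946)) (tt N28252 F204674) (tt N28417 (iv F204905)) (tt N28413 (iv F204873)) (tt N28403 (iv F204795)) (tt N28251 F204675) (tt N28250 (iv D44312)) (tt N28385 F204676))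
theorem Q28387 : ∀ i, i < 28387 → P i := stepQ 28386 Q28386 (allL N28386 (tt N28415 (iv F204885)) (tt N28394 (iv F204722)) (tt N28405 (iv F204808)) (tt N28255 F204677) (tt N28423 (iv F204942)) (tt N28404 (iv F204803)) (tt N28400 (iv F204772)) (tt N28254 F204678) (tt N28253 (iv D44313)) (tt N28386 F204679))
theorem Q28388 : ∀ i, i < 28388 → P i := stepQ 28387 Q28387 (allL N28387 (tt N28416 (iv F204893)) (tt N28405 (iv F204807)) (tt N28270 F204680) (tt N28264 F204681) (tt N28408 (iv F204834)) (tt N28260 (iv D44314)) (tt N28422 (iv F204937)) (tt N28261 F204682) (tt N28262 F204683) (tt N28387 F204684))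
theorem Q28389 : ∀ i, i < 28389 → P i := stepQ 28388 Q28388 (allL N28388 (tt N28417 (iv F204901)) (tt N28404 (iv F204799)) (tt N28403 (iv F204792)) (tt N28268 F204685) (tt N28414 (iv F204880)) (tt N28394 (iv F204725)) (tt N28424 (iv F204949)) (tt N28265 (iv D44315)) (tt N28266 F204686) (tt N28388 F204687))
theorem Q28390 : ∀ i, i < 28390 → P i := stepQ 28389 Q28389 (allL N28389 (tt N28418 (iv F204909)) (tt N28399 (iv F204761)) (tt N28272 F204688) (tt N28424 (iv F204947)) (tt N28409 (iv F204843)) (tt N28402 (iv F204787)) (tt N28268 F204689) (tt N28422 (iv F204938)) (tt N28267 (iv D44316)) (tt N28389 F204690))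
theorem Q28391 : ∀ i, i < 28391 → P i := stepQ 28390 Q28390 (allL N28390 (tt N28363 F204691) (tt N28371 F204692) (tt N28275 F204693) (tt N28322 F204694) (tt N28278 F204695) (tt N28280 F204696) (tt N28321 F204697) (tt N28276 F204698) (tt N28425 D44352) (tt N28273 (iv D44317)))
theorem Q28392 : ∀ i, i < 28392 → P i := stepQ 28391 Q28391 (allL N28391 (tt N28364 F204699) (tt N28368 F204700) (tt N28321 F204701) (tt N28276 F204702) (tt N28324 F204703) (tt N28326 F204704) (tt N28275 F204705) (tt N28322 F204706) (tt N28426 D44353) (tt N28274 (iv D44318)))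
theorem Q28393 : ∀ i, i < 28393 → P i := stepQ 28392 Q28392 (allL N28392 (tt N28365 F204707) (tt N28377 F204708) (tt N28425 (iv F204954)) (tt N28277 F204709) (tt N28358 F204710) (tt N28370 F204711) (tt N28426 (iv F204967)) (tt N28357 F204712) (tt N28275 (iv D44319)) (tt N28392 F204713))
theorem Q28394 : ∀ i, i < 28394 → P i := stepQ 28393 Q28393 (allL N28393 (tt N28366 F204714) (tt N28372 F204715) (tt N28357 F204716) (tt N28426 (iv F204964)) (tt N28279 F204717) (tt N28379 F204718) (tt N28277 F204719) (tt N28425 (iv F204959)) (tt N28276 (iv D44320)) (tt N28393 F204720))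
theorem Q28395 : ∀ i, i < 28395 → P i := stepQ 28394 Q28394 (allL N28394 (tt N28367 F204721) (tt N28386 F204722) (tt N28358 F204723) (tt N28349 F204724) (tt N28425 (iv F204956)) (tt N28388 F204725) (tt N28346 F204726) (tt N28279 F204727) (tt N28278 (iv D44321)) (tt N28394 F204728))
theorem Q28396 : ∀ i, i < 28396 → P i := stepQ 28395 Q28395 (allL N28395 (tt N28368 F204729) (tt N28374 F204730) (tt N28286 F204731) (tt N28291 F204732) (tt N28328 F204733) (tt N28283 F204734) (tt N28304 F204735) (tt N28308 F204736) (tt N28427 D44354) (tt N28282 (iv D44322)))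
theorem Q28397 : ∀ i, i < 28397 → P i := stepQ 28396 Q28396 (allL N28396 (tt N28369 F204737) (tt N28363 F204738) (tt N28328 F204739) (tt N28298 F204740) (tt N28286 F204741) (tt N28327 F204742) (tt N28348 F204743) (tt N28354 F204744) (tt N28428 D44355) (tt N28285 (iv D44323)))
theorem Q28398 : ∀ i, i < 28398 → P i := stepQ 28397 Q28397 (allL N28397 (tt N28370 F204745) (tt N28367 F204746) (tt N28427 (iv F204972)) (tt N28288 F204747) (tt N28428 (iv F204983)) (tt N28365 F204748) (tt N28380 F204749) (tt N28362 F204750) (tt N28286 (iv D44324)) (tt N28397 F204751))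
theorem Q28399 : ∀ i, i < 28399 → P i := stepQ 28398 Q28398 (allL N28398 (tt N28371 F204752) (tt N28369 F204753) (tt N28293 F204754) (tt N28308 F204755) (tt N28336 F204756) (tt N28292 F204757) (tt N28306 F204758) (tt N28291 F204759) (tt N28429 D44356) (tt N28290 (iv D44325)))
theorem Q28400 : ∀ i, i < 28400 → P i := stepQ 28399 Q28399 (allL N28399 (tt N28372 F204760) (tt N28389 F204761) (tt N28294 F204762) (tt N28427 (iv F204973)) (tt N28337 F204763) (tt N28382 F204764) (tt N28340 F204765) (tt N28429 (iv F204995)) (tt N28291 (iv D44326)) (tt N28399 F204766))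
theorem Q28401 : ∀ i, i < 28401 → P i := stepQ 28400 Q28400 (allL N28400 (tt N28373 F204767) (tt N28346 F204768) (tt N28429 (iv F204990)) (tt N28295 F204769) (tt N28378 F204770) (tt N28381 F204771) (tt N28386 F204772) (tt N28294 F204773) (tt N28293 (iv D44327)) (tt N28400 F204774))
theorem Q28402 : ∀ i, i < 28402 → P i := stepQ 28401 Q28401 (allL N28401 (tt N28374 F204775) (tt N28364 F204776) (tt N28331 F204777) (tt N28354 F204778) (tt N28299 F204779) (tt N28330 F204780) (tt N28353 F204781) (tt N28298 F204782) (tt N28430 D44357) (tt N28297 (iv D44328)))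
theorem Q28403 : ∀ i, i < 28403 → P i := stepQ 28402 Q28402 (allL N28402 (tt N28375 F204783) (tt N28382 F204784) (tt N28332 F204785) (tt N28428 (iv F204982)) (tt N28300 F204786) (tt N28389 F204787) (tt N28350 F204788) (tt N28430 (iv F205004)) (tt N28298 (iv D44329)) (tt N28402 F204789))
theorem Q28404 : ∀ i, i < 28404 → P i := stepQ 28403 Q28403 (allL N28403 (tt N28376 F204790) (tt N28383 F204791) (tt N28388 F204792) (tt N28301 F204793) (tt N28430 (iv F205001)) (tt N28358 F204794) (tt N28385 F204795) (tt N28300 F204796) (tt N28299 (iv D44330)) (tt N28403 F204797))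
theorem Q28405 : ∀ i, i < 28405 → P i := stepQ 28404 Q28404 (allL N28404 (tt N28377 F204798) (tt N28388 F204799) (tt N28380 F204800) (tt N28340 F204801) (tt N28360 F204802) (tt N28386 F204803) (tt N28427 (iv F204976)) (tt N28305 F204804) (tt N28304 (iv D44331)) (tt N28404 F204805))
theorem Q28406 : ∀ i, i < 28406 → P i := stepQ 28405 Q28405 (allL N28405 (tt N28378 F204806) (tt N28387 F204807) (tt N28386 F204808) (tt N28309 F204809) (tt N28373 F204810) (tt N28380 F204811) (tt N28429 (iv F204994)) (tt N28307 F204812) (tt N28306 (iv D44332)) (tt N28405 F204813))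
theorem Q28407 : ∀ i, i < 28407 → P i := stepQ 28406 Q28406 (allL N28406 (tt N28379 F204814) (tt N28375 F204815) (tt N28362 F204816) (tt N28429 (iv F204991)) (tt N28361 F204817) (tt N28366 F204818) (tt N28309 F204819) (tt N28427 (iv F204977)) (tt N28308 (iv D44333)) (tt N28406 F204820))
theorem Q28408 : ∀ i, i < 28408 → P i := stepQ 28407 Q28407 (allL N28407 (tt N28358 F204821) (tt N28385 F204822) (tt N28367 F204823) (tt N28311 F204824) (tt N28365 F204825) (tt N28376 F204826) (tt N28383 F204827) (tt N28320 F204828) (tt N28310 (iv D44334)) (tt N28407 F204829))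
theorem Q28409 : ∀ i, i < 28409 → P i := stepQ 28408 Q28408 (allL N28408 (tt N28380 F204830) (tt N28373 F204831) (tt N28377 F204832) (tt N28314 F204833) (tt N28387 F204834) (tt N28378 F204835) (tt N28370 F204836) (tt N28334 F204837) (tt N28313 (iv D44335)) (tt N28408 F204838))
theorem Q28410 : ∀ i, i < 28410 → P i := stepQ 28409 Q28409 (allL N28409 (tt N28362 F204839) (tt N28337 F204840) (tt N28379 F204841) (tt N28335 F204842) (tt N28389 F204843) (tt N28357 F204844) (tt N28318 (iv D44336)) (tt N28370 F204845) (tt N28319 F204846) (tt N28409 F204847))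
theorem Q28411 : ∀ i, i < 28411 → P i := stepQ 28410 Q28410 (allL N28410 (tt N28381 F204848) (tt N28378 F204849) (tt N28426 (iv F204963)) (tt N28323 F204850) (tt N28346 F204851) (tt N28373 F204852) (tt N28425 (iv F204958)) (tt N28345 F204853) (tt N28321 (iv D44337)) (tt N28410 F204854))
theorem Q28412 : ∀ i, i < 28412 → P i := stepQ 28411 Q28411 (allL N28411 (tt N28382 F204855) (tt N28379 F204856) (tt N28345 F204857) (tt N28425 (iv F204955)) (tt N28325 F204858) (tt N28372 F204859) (tt N28323 F204860) (tt N28426 (iv F204968)) (tt N28322 (iv D44338)) (tt N28411 F204861))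
theorem Q28413 : ∀ i, i < 28413 → P i := stepQ 28412 Q28412 (allL N28412 (tt N28383 F204862) (tt N28384 F204863) (tt N28346 F204864) (tt N28359 F204865) (tt N28426 (iv F204965)) (tt N28360 F204866) (tt N28358 F204867) (tt N28325 F204868) (tt N28324 (iv D44339)) (tt N28412 F204869))
theorem Q28414 : ∀ i, i < 28414 → P i := stepQ 28413 Q28413 (allL N28413 (tt N28384 F204870) (tt N28376 F204871) (tt N28428 (iv F204981)) (tt N28329 F204872) (tt N28427 (iv F204974)) (tt N28385 F204873) (tt N28360 F204874) (tt N28361 F204875) (tt N28328 (iv D44340)) (tt N28413 F204876))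
theorem Q28415 : ∀ i, i < 28415 → P i := stepQ 28414 Q28414 (allL N28414 (tt N28385 F204877) (tt N28360 F204878) (tt N28430 (iv F204999)) (tt N28333 F204879) (tt N28388 F204880) (tt N28384 F204881) (tt N28376 F204882) (tt N28332 F204883) (tt N28331 (iv D44341)) (tt N28414 F204884))
theorem Q28416 : ∀ i, i < 28416 → P i := stepQ 28415 Q28415 (allL N28415 (tt N28386 F204885) (tt N28370 F204886) (tt N28378 F204887) (tt N28338 F204888) (tt N28429 (iv F204992)) (tt N28377 F204889) (tt N28373 F204890) (tt N28337 F204891) (tt N28336 (iv D44342)) (tt N28415 F204892))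
theorem Q28417 : ∀ i, i < 28417 → P i := stepQ 28416 Q28416 (allL N28416 (tt N28387 F204893) (tt N28381 F204894) (tt N28360 F204895) (tt N28350 F204896) (tt N28380 F204897) (tt N28346 (iv D44343)) (tt N28428 (iv F204985)) (tt N28347 F204898) (tt N28348 F204899) (tt N28416 F204900))
theorem Q28418 : ∀ i, i < 28418 → P i := stepQ 28417 Q28417 (allL N28417 (tt N28388 F204901) (tt N28365 F204902) (tt N28376 F204903) (tt N28355 F204904) (tt N28385 F204905) (tt N28367 F204906) (tt N28430 (iv F205003)) (tt N28352 (iv D44344)) (tt N28353 F204907) (tt N28417 F204908))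
theorem Q28419 : ∀ i, i < 28419 → P i := stepQ 28418 Q28418 (allL N28418 (tt N28389 F204909) (tt N28366 F204910) (tt N28361 F204911) (tt N28430 (iv F205000)) (tt N28362 F204912) (tt N28375 F204913) (tt N28355 F204914) (tt N28428 (iv F204986)) (tt N28354 (iv D44345)) (tt N28418 F204915))
theorem Q28420 : ∀ i, i < 28420 → P i := stepQ 28419 Q28419 (allL N28419 (tt N28425 (iv F204952)) (tt N28428 (iv F204980)) (tt N28365 F204916) (tt N28382 F204917) (tt N28367 F204918) (tt N28427 (iv F204975)) (tt N28381 F204919) (tt N28366 F204920) (tt N28363 (iv D44346)) (tt N28419 F204921))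
theorem Q28421 : ∀ i, i < 28421 → P i := stepQ 28420 Q28420 (allL N28420 (tt N28426 (iv F204961)) (tt N28430 (iv F204998)) (tt N28381 F204922) (tt N28366 F204923) (tt N28383 F204924) (tt N28429 (iv F204993)) (tt N28365 F204925) (tt N28382 F204926) (tt N28364 (iv D44347)) (tt N28420 F204927))
theorem Q28422 : ∀ i, i < 28422 → P i := stepQ 28421 Q28421 (allL N28421 (tt N28427 (iv F204970)) (tt N28426 (iv F204962)) (tt N28370 F204928) (tt N28372 F204929) (tt N28384 F204930) (tt N28425 (iv F204957)) (tt N28377 F204931) (tt N28379 F204932) (tt N28368 (iv D44348)) (tt N28421 F204933))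
theorem Q28423 : ∀ i, i < 28423 → P i := stepQ 28422 Q28422 (allL N28422 (tt N28428 (iv F204979)) (tt N28429 (iv F204989)) (tt N28384 F204934) (tt N28375 F204935) (tt N28370 F204936) (tt N28430 (iv F205002)) (tt N28387 F204937) (tt N28389 F204938) (tt N28369 (iv D44349)) (tt N28422 F204939))
theorem Q28424 : ∀ i, i < 28424 → P i := stepQ 28423 Q28423 (allL N28423 (tt N28429 (iv F204988)) (tt N28425 (iv F204953)) (tt N28373 F204940) (tt N28379 F204941) (tt N28386 F204942) (tt N28426 (iv F204966)) (tt N28378 F204943) (tt N28372 F204944) (tt N28371 (iv D44350)) (tt N28423 F204945))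
theorem Q28425 : ∀ i, i < 28425 → P i := stepQ 28424 Q28424 (allL N28424 (tt N28430 (iv F204997)) (tt N28427 (iv F204971)) (tt N28385 F204946) (tt N28389 F204947) (tt N28376 F204948) (tt N28428 (iv F204984)) (tt N28388 F204949) (tt N28375 F204950) (tt N28374 (iv D44351)) (tt N28424 F204951))
theorem Q28426 : ∀ i, i < 28426 → P i := stepQ 28425 Q28425 (allL N28425 (tt N28419 F204952) (tt N28423 F204953) (tt N28392 F204954) (tt N28411 F204955) (tt N28394 F204956) (tt N28421 F204957) (tt N28410 F204958) (tt N28393 F204959) (tt N28390 (iv D44352)) (tt N28425 F204960))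
theorem Q28427 : ∀ i, i < 28427 → P i := stepQ 28426 Q28426 (allL N28426 (tt N28420 F204961) (tt N28421 F204962) (tt N28410 F204963) (tt N28393 F204964) (tt N28412 F204965) (tt N28423 F204966) (tt N28392 F204967) (tt N28411 F204968) (tt N28391 (iv D44353)) (tt N28426 F204969))
theorem Q28428 : ∀ i, i < 28428 → P i := stepQ 28427 Q28427 (allL N28427 (tt N28421 F204970) (tt N28424 F204971) (tt N28397 F204972) (tt N28399 F204973) (tt N28413 F204974) (tt N28419 F204975) (tt N28404 F204976) (tt N28406 F204977) (tt N28395 (iv D44354)) (tt N28427 F204978))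
theorem Q28429 : ∀ i, i < 28429 → P i := stepQ 28428 Q28428 (allL N28428 (tt N28422 F204979) (tt N28419 F204980) (tt N28413 F204981) (tt N28402 F204982) (tt N28397 F204983) (tt N28424 F204984) (tt N28416 F204985) (tt N28418 F204986) (tt N28396 (iv D44355)) (tt N28428 F204987))
theorem Q28430 : ∀ i, i < 28430 → P i := stepQ 28429 Q28429 (allL N28429 (tt N28423 F204988) (tt N28422 F204989) (tt N28400 F204990) (tt N28406 F204991) (tt N28415 F204992) (tt N28420 F204993) (tt N28405 F204994) (tt N28399 F204995) (tt N28398 (iv D44356)) (tt N28429 F204996))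
theorem Q28431 : ∀ i, i < 28431 → P i := stepQ 28430 Q28430 (allL N28430 (tt N28424 F204997) (tt N28420 F204998) (tt N28414 F204999) (tt N28418 F205000) (tt N28403 F205001) (tt N28422 F205002) (tt N28417 F205003) (tt N28402 F205004) (tt N28401 (iv D44357)) (tt N28430 F205005))

theorem closedN : ∀ i, i < N → P i := Q28431

end Cfsg.Agent.Helper17.SP6TC
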